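import Groth.Agent.Lib.Helper8.HColim1

/-!
# Helper8: homology of complexes commutes with colimits of shape `J` when `colim` is exact
-/

universe w w' v u

open CategoryTheory CategoryTheory.Limits

namespace Groth.Agent.Lib.Helper8.HColim

variable {A : Type u} [Category.{v} A] [Abelian A] {J : Type w} [Category.{w'} J]
  [HasColimitsOfShape J A] {ι : Type*} (c : ComplexShape ι) (i : ι)

instance : PreservesColimitsOfShape J (HomologicalComplex.shortComplexFunctor A c i) where
  preservesColimit {F} :=
    preservesColimit_of_preserves_colimit_cocone (colimit.isColimit F)
      (ShortComplex.isColimitOfIsColimitπ _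
        (isColimitOfPreserves (HomologicalComplex.eval A c (c.prev i)) (colimit.isColimit F))
        (isColimitOfPreserves (HomologicalComplex.eval A c i) (colimit.isColimit F))
        (isColimitOfPreserves (HomologicalComplex.eval A c (c.next i)) (colimit.isColimit F)))

instance [HasExactColimitsOfShape J A] :
    PreservesColimitsOfShape J (HomologicalComplex.homologyFunctor A c i) :=
  preservesColimitsOfShape_of_natIso (HomologicalComplex.homologyFunctorIso A c i).symm

end Groth.Agent.Lib.Helper8.HColim
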