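import Mathlib

/-!
# Helper8 — DRing1: null-homotopy lemma for maps into bounded-below acyclic complexes

`nullHomotopic_of_projective_top`: if `M` is a cochain complex with `M^i = 0` for `i > 0` and `M^0`
projective, and `C` is an acyclic complex with `C^i = 0` for `i ≤ -3`, then every chain map `M ⟶ C`
is null-homotopic.
-/

open CategoryTheory CategoryTheory.Limits CochainComplex.HomComplex

namespace Groth.Agent.Lib.Helper8.DRing1

universe v u

variable {A : Type u} [Category.{v} A] [Abelian A]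

theorem nullHomotopic_of_projective_top (M C : CochainComplex A ℤ)
    (hM : ∀ i : ℤ, 0 < i → IsZero (M.X i)) [Projective (M.X 0)]
    (hC : ∀ i : ℤ, i ≤ -3 → IsZero (C.X i)) (hCa : ∀ i : ℤ, C.ExactAt i) (f : M ⟶ C) :
    Nonempty (Homotopy f 0) := by
  -- exactness data
  have e0 : (C.sc' (-1) 0 1).Exact := (C.exactAt_iff' (-1) 0 1 (by simp) (by simp)).1 (hCa 0)
  have e1 : (C.sc' (-2) (-1) 0).Exact := (C.exactAt_iff' (-2) (-1) 0 (by simp) (by simp)).1 (hCa (-1))
  have e2 : (C.sc' (-3) (-2) (-1)).Exact :=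
    (C.exactAt_iff' (-3) (-2) (-1) (by simp) (by simp)).1 (hCa (-2))
  have m2 : Mono (C.d (-2) (-1)) := by
    have : (C.sc' (-3) (-2) (-1)).f = 0 := (hC (-3) le_rfl).eq_of_src _ _
    exact (ShortComplex.exact_iff_mono _ this).1 e2
  -- h0
  have hf0 : f.f 0 ≫ C.d 0 1 = 0 := by
    rw [f.comm 0 1, (hM 1 one_pos).eq_of_tgt (M.d 0 1) 0, zero_comp]
  let h0 : M.X 0 ⟶ C.X (-1) := e0.liftFromProjective (f.f 0) hf0
  have hh0 : h0 ≫ C.d (-1) 0 = f.f 0 := e0.liftFromProjective_comp (f.f 0) hf0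
  -- h1
  let k : M.X (-1) ⟶ C.X (-1) := f.f (-1) - M.d (-1) 0 ≫ h0
  have hk : k ≫ C.d (-1) 0 = 0 := by
    simp only [k, Preadditive.sub_comp, Category.assoc, hh0, f.comm (-1) 0, sub_self]
  have : Mono (C.sc' (-2) (-1) 0).f := m2
  let h1 : M.X (-1) ⟶ C.X (-2) := e1.lift k hk
  have hh1 : h1 ≫ C.d (-2) (-1) = k := e1.lift_f k hk
  have hh2 : M.d (-2) (-1) ≫ h1 = f.f (-2) := by
    rw [← cancel_mono (C.d (-2) (-1)), Category.assoc, hh1]
    simp only [k, Preadditive.comp_sub, HomologicalComplex.d_comp_d_assoc, zero_comp, sub_zero,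
      f.comm (-2) (-1)]
  refine ⟨(Cochain.equivHomotopy f 0).symm ⟨Cochain.single h0 (-1) + Cochain.single h1 (-1), ?_⟩⟩
  rw [δ_add, Cochain.δ_single h0 (-1) 0 (by simp) (-1) 0 (by simp) (by simp),
    Cochain.δ_single h1 (-1) 0 (by simp) (-2) (-1) (by simp) (by simp), hh0, hh1, hh2]
  ext p
  simp only [Cochain.ofHom_v, Cochain.add_v, Int.negOnePow_zero, one_smul, Cochain.zero_v,
    HomologicalComplex.zero_f, add_zero]
  by_cases h0' : p = 0
  · subst h0'
    rw [Cochain.single_v, Cochain.single_v_eq_zero _ _ _ _ _ (by decide),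
      Cochain.single_v_eq_zero _ _ _ _ _ (by decide), Cochain.single_v_eq_zero _ _ _ _ _ (by decide)]
    simp
  by_cases h1' : p = -1
  · subst h1'
    rw [Cochain.single_v, Cochain.single_v, Cochain.single_v_eq_zero _ _ _ _ _ (by decide),
      Cochain.single_v_eq_zero _ _ _ _ _ (by decide)]
    simp [k]
  by_cases h2' : p = -2
  · subst h2'
    rw [Cochain.single_v, Cochain.single_v_eq_zero _ _ _ _ _ (by decide),
      Cochain.single_v_eq_zero _ _ _ _ _ (by decide), Cochain.single_v_eq_zero _ _ _ _ _ (by decide)]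
    simp
  rw [Cochain.single_v_eq_zero _ _ _ _ _ h0', Cochain.single_v_eq_zero _ _ _ _ _ h1',
    Cochain.single_v_eq_zero _ _ _ _ _ h1', Cochain.single_v_eq_zero _ _ _ _ _ h2']
  simp only [add_zero]
  by_cases hp : 0 < p
  · exact (hM p hp).eq_of_src _ _
  · exact (hC p (by omega)).eq_of_tgt _ _

end Groth.Agent.Lib.Helper8.DRing1
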