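import Mathlib
import Groth.Agent.Lib.Helper8.DRing1

/-!
# Helper8 — DRing2: `Hom_K(M, K) ≃ Hom_D(M, K)` for `M ≤ 0` with projective top, `K ≥ -1`.
-/

open CategoryTheory CategoryTheory.Limits CategoryTheory.Pretriangulated

namespace Groth.Agent.Lib.Helper8.DRing2

open Groth.Agent.Lib.Helper8.DRing1

universe v u

variable {A : Type u} [Category.{v} A] [Abelian A]

/-- a chain map out of `q M` in the homotopy category into `q C` is zero when `M`, `C` are as in
`nullHomotopic_of_projective_top`. -/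
theorem hom_eq_zero_of_projective_top (M C : CochainComplex A ℤ)
    (hM : ∀ i : ℤ, 0 < i → IsZero (M.X i)) [Projective (M.X 0)]
    (hC : ∀ i : ℤ, i ≤ -3 → IsZero (C.X i)) (hCa : ∀ i : ℤ, C.ExactAt i)
    (g : (HomotopyCategory.quotient A (.up ℤ)).obj M ⟶ (HomotopyCategory.quotient A (.up ℤ)).obj C) :
    g = 0 := by
  obtain ⟨f, rfl⟩ := (HomotopyCategory.quotient A (.up ℤ)).map_surjective g
  obtain ⟨h⟩ := nullHomotopic_of_projective_top M C hM hC hCa f
  rw [HomotopyCategory.eq_of_homotopy _ _ h, Functor.map_zero]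

theorem isZero_mappingCone_X {K I : CochainComplex A ℤ} (i : K ⟶ I) (p : ℤ)
    (h1 : IsZero (K.X (p + 1))) (h2 : IsZero (I.X p)) :
    IsZero ((CochainComplex.mappingCone i).X p) := by
  rw [IsZero.iff_id_eq_zero, ← CochainComplex.mappingCone.id_X i p (p + 1) rfl]
  rw [h1.eq_of_tgt ((CochainComplex.mappingCone.fst i).1.v p (p + 1) rfl) 0,
    h2.eq_of_tgt ((CochainComplex.mappingCone.snd i).v p p (add_zero p)) 0]
  simp

theorem exactAt_mappingCone_of_quasiIso {K I : CochainComplex A ℤ} (i : K ⟶ I) [QuasiIso i] (n : ℤ) :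
    (CochainComplex.mappingCone i).ExactAt n := by
  have h1 : HomotopyCategory.quasiIso A (.up ℤ) ((HomotopyCategory.quotient A (.up ℤ)).map i) := by
    rw [HomotopyCategory.quotient_map_mem_quasiIso_iff]
    exact (HomologicalComplex.mem_quasiIso_iff i).2 inferInstance
  rw [HomotopyCategory.quasiIso_eq_trW_subcategoryAcyclic] at h1
  have h2 := ((HomotopyCategory.subcategoryAcyclic A).trW_iff_of_distinguished _
    (HomotopyCategory.mappingCone_triangleh_distinguished i)).1 h1
  exact (HomotopyCategory.quotient_obj_mem_subcategoryAcyclic_iff_exactAt _).1 h2 n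

variable [EnoughInjectives A] [HasDerivedCategory A]

theorem Qh_map_bijective_of_projective_top (M K : CochainComplex A ℤ)
    (hM : ∀ i : ℤ, 0 < i → IsZero (M.X i)) [Projective (M.X 0)]
    (hK : ∀ i : ℤ, i ≤ -2 → IsZero (K.X i)) :
    Function.Bijective (fun φ : (HomotopyCategory.quotient A (.up ℤ)).obj M ⟶
        (HomotopyCategory.quotient A (.up ℤ)).obj K => DerivedCategory.Qh.map φ) := by
  have : K.IsStrictlyGE (-1) := by
    rw [CochainComplex.isStrictlyGE_iff]
    intro i hi
    exact hK i (by omega)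
  obtain ⟨I, i, hi, hI, hI'⟩ :=
    CochainComplex.Plus.modelCategoryQuillen.exists_quasiIso_injective K (-1)
  have : I.IsKInjective := CochainComplex.isKInjective_of_injective I (-1)
  set q := HomotopyCategory.quotient A (ComplexShape.up ℤ) with hq
  let T := CochainComplex.mappingCone.triangleh i
  have hT : T ∈ distTriang _ := HomotopyCategory.mappingCone_triangleh_distinguished i
  let C := CochainComplex.mappingCone i
  have hCa : ∀ n : ℤ, C.ExactAt n := exactAt_mappingCone_of_quasiIso i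
  have hC : ∀ n : ℤ, n ≤ -3 → IsZero (C.X n) := fun n hn =>
    isZero_mappingCone_X i n (hK _ (by omega)) (I.isZero_of_isStrictlyGE (-1) n (by omega))
  have hQi : IsIso (DerivedCategory.Qh.map (q.map i)) := by
    have : IsIso (DerivedCategory.Q.map i) := inferInstance
    exact this
  have hbij := CochainComplex.IsKInjective.Qh_map_bijective (q.obj M) I
  constructor
  · -- injectivity
    intro φ₁ φ₂ h
    dsimp only at h
    rw [← sub_eq_zero]
    set φ := φ₁ - φ₂ with hφ
    have h0 : DerivedCategory.Qh.map φ = 0 := by rw [hφ, Functor.map_sub, h, sub_self]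
    have h1 : φ ≫ q.map i = 0 := by
      apply hbij.injective
      rw [Functor.map_comp, h0, zero_comp, Functor.map_zero]
    have h2 : φ⟦(1 : ℤ)⟧' ≫ (q.map i)⟦(1 : ℤ)⟧' = 0 := by
      rw [← Functor.map_comp, h1, Functor.map_zero]
    obtain ⟨g, hg⟩ : ∃ g : (q.obj M)⟦(1 : ℤ)⟧ ⟶ q.obj C, φ⟦(1 : ℤ)⟧' = g ≫ T.mor₃ :=
      Triangle.coyoneda_exact₁ T hT _ h2
    have hg0 : g = 0 := by
      have hz : ∀ j : ℤ, 0 ≤ j → IsZero ((M⟦(1 : ℤ)⟧).X j) := fun j hj => by
        change IsZero (M.X (j + 1))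
        exact hM _ (by omega)
      have : Projective ((M⟦(1 : ℤ)⟧).X 0) := (hz 0 le_rfl).projective
      have := hom_eq_zero_of_projective_top (M⟦(1 : ℤ)⟧) C
        (fun j hj => hz j hj.le) (hC) hCa ((q.commShiftIso (1 : ℤ)).hom.app M ≫ g)
      rw [← cancel_epi ((q.commShiftIso (1 : ℤ)).hom.app M), this, comp_zero]
    subst hg0
    exact (shiftFunctor _ (1 : ℤ)).map_injective ((hg.trans zero_comp).trans (Functor.map_zero _ _ _).symm)
  · -- surjectivity
    intro ψ
    obtain ⟨γ, hγ⟩ := hbij.surjective (ψ ≫ DerivedCategory.Qh.map (q.map i))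
    have h1 : γ ≫ q.map (CochainComplex.mappingCone.inr i) = 0 :=
      hom_eq_zero_of_projective_top M C hM hC hCa _
    obtain ⟨φ, hφ⟩ : ∃ φ : q.obj M ⟶ q.obj K, γ = φ ≫ q.map i :=
      Triangle.coyoneda_exact₂ T hT γ h1
    refine ⟨φ, ?_⟩
    dsimp only
    rw [← cancel_mono (DerivedCategory.Qh.map (q.map i)), ← Functor.map_comp, ← hφ, hγ]

end Groth.Agent.Lib.Helper8.DRing2
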