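import Mathlib.Algebra.Homology.DerivedCategory.TStructure
import Mathlib.Algebra.Homology.DerivedCategory.FullyFaithful
import Mathlib.Algebra.Homology.DerivedCategory.HomologySequence
import Mathlib.CategoryTheory.Triangulated.TStructure.TruncLTGE
import Mathlib.CategoryTheory.Triangulated.TStructure.TruncLEGT

/-! Truncations in the derived category and cohomology. -/

set_option autoImplicit false
set_option linter.unusedSectionVars false
universe w v u

open CategoryTheory CategoryTheory.Limits CategoryTheory.Pretriangulated DerivedCategory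

namespace Groth.Agent.Lib.Helper8.DTrunc

variable {A : Type u} [Category.{v} A] [Abelian A] [HasDerivedCategory.{w} A]

/-- The canonical t-structure. -/
noncomputable abbrev tt : Triangulated.TStructure (DerivedCategory A) := DerivedCategory.TStructure.t

/-- A map between objects concentrated in one degree is determined by its cohomology. -/
lemma eq_zero_of_homologyMap_eq_zero {X Y : DerivedCategory A} (n : ℤ)
    [X.IsGE n] [X.IsLE n] [Y.IsGE n] [Y.IsLE n]
    (f : X ⟶ Y) (hf : (homologyFunctor A n).map f = 0) : f = 0 := by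
  obtain ⟨M, ⟨eX⟩⟩ := exists_iso_singleFunctor_obj_of_isGE_of_isLE X n
  obtain ⟨N, ⟨eY⟩⟩ := exists_iso_singleFunctor_obj_of_isGE_of_isLE Y n
  obtain ⟨g, hg⟩ := (singleFunctor A n).map_surjective (eX.inv ≫ f ≫ eY.hom)
  have hg0 : g = 0 := by
    have h1 : (homologyFunctor A n).map ((singleFunctor A n).map g) = 0 := by
      rw [hg, Functor.map_comp, Functor.map_comp, hf, zero_comp, comp_zero]
    have h2 := NatIso.naturality_1 (singleFunctorCompHomologyFunctorIso A n) g
    simp only [Functor.comp_obj, Functor.comp_map, Functor.id_obj, Functor.id_map] at h2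
    rw [← h2, h1, zero_comp, comp_zero]
  rw [hg0, Functor.map_zero] at hg
  have h3 : f = eX.hom ≫ (eX.inv ≫ f ≫ eY.hom) ≫ eY.inv := by simp
  rw [h3, ← hg, zero_comp, comp_zero]

variable (X : DerivedCategory A) (b : ℤ)

lemma mono_homologyMap_truncLTι (i : ℤ) (hi : i < b) :
    Mono ((homologyFunctor A i).map ((tt.truncLTι b).app X)) := by
  have hT := tt.triangleLTGE_distinguished b X
  have h := (HomologySequence.mono_homologyMap_mor₁_iff _ hT (i - 1) i (by omega)).2
    ((isZero_of_isGE ((tt.truncGE b).obj X) b (i - 1) (by omega)).eq_of_src _ _)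
  exact h

lemma epi_homologyMap_truncGEπ :
    Epi ((homologyFunctor A b).map ((tt.truncGEπ b).app X)) := by
  have hT := tt.triangleLTGE_distinguished b X
  have : tt.IsLE ((tt.truncLT b).obj X) (b - 1) := inferInstance
  have h := (HomologySequence.epi_homologyMap_mor₂_iff _ hT b (b + 1) rfl).2
    ((isZero_of_isLE ((tt.truncLT b).obj X) (b - 1) (b + 1) (by omega)).eq_of_tgt _ _)
  exact h

variable {X}

lemma homologyMap_truncLT_map_eq_zero (f : X ⟶ X)
    (hf : ∀ i : ℤ, (homologyFunctor A i).map f = 0) (i : ℤ) :
    (homologyFunctor A i).map ((tt.truncLT b).map f) = 0 := by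
  by_cases hi : i < b
  · have := mono_homologyMap_truncLTι X b i hi
    rw [← cancel_mono ((homologyFunctor A i).map ((tt.truncLTι b).app X)), zero_comp,
      ← Functor.map_comp]
    have nat := (tt.truncLTι b).naturality f
    simp only [Functor.id_obj, Functor.id_map] at nat
    rw [nat, Functor.map_comp, hf, comp_zero]
  · have : tt.IsLE ((tt.truncLT b).obj X) (b - 1) := inferInstance
    exact (isZero_of_isLE ((tt.truncLT b).obj X) (b - 1) i (by omega)).eq_of_src _ _

lemma truncGE_map_eq_zero [X.IsLE b] (f : X ⟶ X)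
    (hf : (homologyFunctor A b).map f = 0) : (tt.truncGE b).map f = 0 := by
  have : tt.IsLE ((tt.truncGE b).obj X) b := inferInstance
  have : tt.IsGE ((tt.truncGE b).obj X) b := inferInstance
  apply eq_zero_of_homologyMap_eq_zero b
  have := epi_homologyMap_truncGEπ X b
  rw [← cancel_epi ((homologyFunctor A b).map ((tt.truncGEπ b).app X)), comp_zero,
    ← Functor.map_comp]
  have nat := (tt.truncGEπ b).naturality f
  simp only [Functor.id_obj, Functor.id_map] at nat
  rw [← nat, Functor.map_comp, hf, zero_comp]

/-- The truncation of an endomorphism, as an element of the endomorphism monoid. -/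
noncomputable def truncLTEnd (f : End X) : End ((tt.truncLT b).obj X) := (tt.truncLT b).map f

lemma truncLTι_comp_pow (f : End X) (k : ℕ) :
    (tt.truncLTι b).app X ≫ (f ^ k) = (truncLTEnd b f ^ k) ≫ (tt.truncLTι b).app X := by
  have nat : (tt.truncLT b).map f ≫ (tt.truncLTι b).app X = (tt.truncLTι b).app X ≫ f :=
    (tt.truncLTι b).naturality f
  induction k with
  | zero =>
    rw [pow_zero, pow_zero, End.one_def, End.one_def]
    exact (Category.comp_id _).trans (Category.id_comp _).symm
  | succ k ih =>
    rw [pow_succ, pow_succ, End.mul_def, End.mul_def, ← Category.assoc, ← nat, Category.assoc, ih,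
      Category.assoc]
    rfl

theorem end_pow_eq_zero (n : ℕ) : ∀ (a : ℤ) (X : DerivedCategory A) [X.IsGE a] [X.IsLE (a + n)]
    (f : End X), (∀ i : ℤ, (homologyFunctor A i).map f = 0) → f ^ (n + 1) = 0 := by
  induction n with
  | zero =>
    intro a X _ hLE f hf
    have : X.IsLE a := by simpa using hLE
    rw [zero_add, pow_one]
    exact eq_zero_of_homologyMap_eq_zero a f (hf a)
  | succ n ih =>
    intro a X _ hLE f hf
    obtain ⟨b, hb⟩ : ∃ b : ℤ, b = a + (n + 1 : ℕ) := ⟨_, rfl⟩
    have hLEb : X.IsLE b := by rw [hb]; exact hLE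
    have h0 : (tt.truncGE b).map f = 0 := truncGE_map_eq_zero b f (hf b)
    have hT := tt.triangleLTGE_distinguished b X
    have nat := (tt.truncGEπ b).naturality f
    simp only [Functor.id_obj, Functor.id_map] at nat
    obtain ⟨g, hg⟩ : ∃ g : X ⟶ (tt.truncLT b).obj X, f = g ≫ (tt.truncLTι b).app X :=
      Triangle.coyoneda_exact₂ _ hT f (by
        change f ≫ (tt.truncGEπ b).app X = 0
        rw [nat, h0, comp_zero])
    have hGE : tt.IsGE ((tt.truncLT b).obj X) a := inferInstance
    have hLE' : tt.IsLE ((tt.truncLT b).obj X) (a + n) :=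
      tt.isLE_truncLT_obj X b (a + n) (by rw [hb]; push_cast; omega)
    have ih' := ih a ((tt.truncLT b).obj X) (truncLTEnd b f)
      (homologyMap_truncLT_map_eq_zero b f hf)
    have key := truncLTι_comp_pow b f (n + 1)
    rw [ih', zero_comp] at key
    rw [pow_succ, End.mul_def]
    calc f ≫ (f ^ (n + 1)) = g ≫ (tt.truncLTι b).app X ≫ (f ^ (n + 1)) := by
          nth_rw 1 [hg]
          rw [Category.assoc]
      _ = 0 := by rw [key, comp_zero]

end Groth.Agent.Lib.Helper8.DTrunc
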