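import Mathlib
import Groth.Agent.Lib.Helper8.DTrunc

/-!
# Helper8 — DRing4: lifting maps from projectives to `D^{≤0}`, two-term representatives.
-/

open CategoryTheory CategoryTheory.Limits DerivedCategory CategoryTheory.Pretriangulated

namespace Groth.Agent.Lib.Helper8.DRing4

universe w v u

variable {A : Type u} [Category.{v} A] [Abelian A] [HasDerivedCategory.{w} A]

instance projective_single_X (P : A) [Projective P] (n : ℤ) :
    Projective (((CochainComplex.singleFunctor A 0).obj P).X n) := by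
  by_cases h : n = 0
  · subst h
    exact Projective.of_iso (HomologicalComplex.singleObjXSelf (ComplexShape.up ℤ) 0 P).symm
      inferInstance
  · exact (HomologicalComplex.isZero_single_obj_X (ComplexShape.up ℤ) 0 P n h).projective

instance isKProjective_single (P : A) [Projective P] :
    ((CochainComplex.singleFunctor A 0).obj P).IsKProjective :=
  CochainComplex.isKProjective_of_projective _ 0

/-- every morphism `Q (P[0]) ⟶ Q L` is `Q.map` of a chain map when `P` is projective. -/
theorem exists_Q_map_of_single_projective (P : A) [Projective P] (L : CochainComplex A ℤ)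
    (α : (singleFunctor A 0).obj P ⟶ Q.obj L) :
    ∃ f : (CochainComplex.singleFunctor A 0).obj P ⟶ L, α = Q.map f := by
  obtain ⟨ψ, hψ⟩ := (CochainComplex.IsKProjective.Qh_map_bijective
    ((CochainComplex.singleFunctor A 0).obj P)
    ((HomotopyCategory.quotient A (.up ℤ)).obj L)).surjective α
  obtain ⟨f, rfl⟩ := (HomotopyCategory.quotient A (.up ℤ)).map_surjective ψ
  exact ⟨f, hψ.symm⟩

/-- (V) no maps from `P[0]`, `P` projective, to `D^{≤ -1}`. -/
theorem hom_single_projective_eq_zero (P : A) [Projective P] (X : DerivedCategory A) (n : ℤ)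
    (hn : n < 0) [X.IsLE n] (α : (singleFunctor A 0).obj P ⟶ X) : α = 0 := by
  obtain ⟨L, hL, ⟨e⟩⟩ := X.exists_iso_Q_obj_of_isLE n
  obtain ⟨f, hf⟩ := exists_Q_map_of_single_projective P L (α ≫ e.hom)
  have : f = 0 := by
    apply HomologicalComplex.from_single_hom_ext
    exact (L.isZero_of_isStrictlyLE n 0 hn).eq_of_tgt _ _
  have h2 : α ≫ e.hom = 0 := by
    subst this
    exact hf.trans (Functor.map_zero _ _ _)
  exact (cancel_mono e.hom).1 (h2.trans zero_comp.symm)


open Groth.Agent.Lib.Helper8.DTrunc in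
lemma isIso_homologyMap_truncGEπ (X : DerivedCategory A) (b : ℤ) :
    IsIso ((homologyFunctor A b).map ((tt.truncGEπ b).app X)) := by
  have hT := tt.triangleLTGE_distinguished b X
  have := epi_homologyMap_truncGEπ X b
  have : tt.IsLE ((tt.truncLT b).obj X) (b - 1) := inferInstance
  have : Mono ((homologyFunctor A b).map ((tt.truncGEπ b).app X)) :=
    (HomologySequence.mono_homologyMap_mor₂_iff _ hT b).2
      ((isZero_of_isLE ((tt.truncLT b).obj X) (b - 1) b (by omega)).eq_of_src _ _)
  exact isIso_of_mono_of_epi _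

open Groth.Agent.Lib.Helper8.DTrunc in
/-- (Lift) -/
theorem exists_lift_of_projective (P : A) [Projective P] (K : DerivedCategory A) [K.IsLE 0]
    (ψ : P ⟶ (homologyFunctor A 0).obj K) :
    ∃ β : (singleFunctor A 0).obj P ⟶ K,
      (homologyFunctor A 0).map β = (singleFunctorCompHomologyFunctorIso A 0).hom.app P ≫ ψ := by
  have hT := tt.triangleLTGE_distinguished 0 K
  set T := (tt.truncGE 0).obj K with hTdef
  set π : K ⟶ T := (tt.truncGEπ 0).app K with hπ
  have : T.IsGE 0 := (inferInstance : tt.IsGE ((tt.truncGE 0).obj K) 0)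
  have : T.IsLE 0 := (inferInstance : tt.IsLE ((tt.truncGE 0).obj K) 0)
  have hπiso : IsIso ((homologyFunctor A 0).map π) := isIso_homologyMap_truncGEπ K 0
  obtain ⟨M, ⟨e⟩⟩ := exists_iso_singleFunctor_obj_of_isGE_of_isLE T 0
  let ψ' : P ⟶ M := ψ ≫ (homologyFunctor A 0).map π ≫ (homologyFunctor A 0).map e.hom ≫
    (singleFunctorCompHomologyFunctorIso A 0).hom.app M
  let α : (singleFunctor A 0).obj P ⟶ T := (singleFunctor A 0).map ψ' ≫ e.inv
  have hα : (homologyFunctor A 0).map α =
      (singleFunctorCompHomologyFunctorIso A 0).hom.app P ≫ ψ ≫ (homologyFunctor A 0).map π := by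
    have nat := (singleFunctorCompHomologyFunctorIso A 0).hom.naturality ψ'
    simp only [Functor.comp_obj, Functor.comp_map, Functor.id_obj, Functor.id_map] at nat
    have h1 : (homologyFunctor A 0).map ((singleFunctor A 0).map ψ') =
        (singleFunctorCompHomologyFunctorIso A 0).hom.app P ≫ ψ' ≫
          (singleFunctorCompHomologyFunctorIso A 0).inv.app M := by
      rw [← Category.assoc, ← nat, Category.assoc, Iso.hom_inv_id_app]
      exact (Category.comp_id _).symm
    rw [Functor.map_comp, h1]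
    simp only [ψ', Category.assoc, Iso.hom_inv_id_app_assoc]
    rw [← Functor.map_comp, e.hom_inv_id, CategoryTheory.Functor.map_id, Category.comp_id]
  -- lift α along π
  have : tt.IsLE ((tt.truncLT 0).obj K) (0 - 1) := inferInstance
  have : tt.IsLE (((tt.truncLT 0).obj K)⟦(1 : ℤ)⟧) (-2) :=
    tt.isLE_shift ((tt.truncLT 0).obj K) (0 - 1) 1 (-2)
  have h0 : α ≫ ((tt.triangleLTGE 0).obj K).mor₃ = 0 :=
    @hom_single_projective_eq_zero _ _ _ _ P _ (((tt.truncLT 0).obj K)⟦(1 : ℤ)⟧) (-2) (by decide)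
      this _
  obtain ⟨β, hβ⟩ : ∃ β : (singleFunctor A 0).obj P ⟶ K, α = β ≫ π :=
    Triangle.coyoneda_exact₃ _ hT α h0
  refine ⟨β, ?_⟩
  rw [← cancel_mono ((homologyFunctor A 0).map π), ← Functor.map_comp, ← hβ, hα, Category.assoc]


lemma comp_shift_iso_cancel {D : Type*} [Category D] [HasShift D ℤ] {X Y Z : D}
    (m : Z ⟶ X⟦(1 : ℤ)⟧) (e : X ≅ Y) :
    (m ≫ e.hom⟦(1 : ℤ)⟧') ≫ e.symm.hom⟦(1 : ℤ)⟧' = 𝟙 _ ≫ m := by
  rw [Category.assoc, ← Functor.map_comp, Iso.symm_hom, e.hom_inv_id,
    CategoryTheory.Functor.map_id, Category.comp_id, Category.id_comp]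

/-- (Z0) -/
lemma isZero_homology_obj₃ (T : Triangle (DerivedCategory A)) (hT : T ∈ distTriang _)
    (n₀ n₁ : ℤ) (h : n₀ + 1 = n₁)
    (h1 : Epi ((homologyFunctor A n₀).map T.mor₁)) (h2 : Mono ((homologyFunctor A n₁).map T.mor₁)) :
    IsZero ((homologyFunctor A n₀).obj T.obj₃) :=
  (HomologySequence.exact₃ T hT n₀ n₁ h).isZero_X₂
    ((HomologySequence.epi_homologyMap_mor₁_iff T hT n₀).1 h1)
    ((HomologySequence.mono_homologyMap_mor₁_iff T hT n₀ n₁ h).1 h2)

lemma isZero_homology_single (P : A) (i : ℤ) (hi : i ≠ 0) :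
    IsZero ((homologyFunctor A i).obj ((singleFunctor A 0).obj P)) := by
  rcases lt_or_gt_of_ne hi with h | h
  · exact isZero_of_isGE _ 0 i h
  · exact isZero_of_isLE _ 0 i h

open Groth.Agent.Lib.Helper8.DTrunc in
/-- (T1) two-term representative. -/
theorem exists_twoTerm (K : DerivedCategory A) [K.IsGE (-1)] [K.IsLE 0] (P : A) [Projective P]
    (ψ : P ⟶ (homologyFunctor A 0).obj K) [Epi ψ] :
    ∃ (G : A) (g : G ⟶ P) (u : (homologyFunctor A (-1)).obj K ⟶ G) (hu : u ≫ g = 0),
      (ShortComplex.mk u g hu).Exact ∧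
      Nonempty (K ≅ Q.obj (CochainComplex.mappingCone ((CochainComplex.singleFunctor A 0).map g))) := by
  obtain ⟨β, hβ⟩ := exists_lift_of_projective P K ψ
  have hβepi : Epi ((homologyFunctor A 0).map β) := by rw [hβ]; infer_instance
  obtain ⟨C, c, d, hT⟩ := distinguished_cocone_triangle β
  have hCz : ∀ i : ℤ, i ≠ -1 → IsZero ((homologyFunctor A i).obj C) := by
    intro i hi
    by_cases h0 : i = 0
    · subst h0
      exact isZero_homology_obj₃ _ hT 0 1 rfl hβepi
        ⟨fun _ _ _ => (isZero_homology_single P 1 (by decide)).eq_of_tgt _ _⟩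
    · have hK : IsZero ((homologyFunctor A i).obj K) := by
        rcases lt_or_gt_of_ne hi with h | h
        · exact isZero_of_isGE K (-1) i h
        · exact isZero_of_isLE K 0 i (by omega)
      exact isZero_homology_obj₃ _ hT i (i + 1) rfl
        ⟨fun _ _ _ => hK.eq_of_src _ _⟩
        ⟨fun _ _ _ => (isZero_homology_single P (i + 1) (by omega)).eq_of_tgt _ _⟩
  have hC1 : C.IsLE (-1) := (isLE_iff C (-1)).2 (fun i hi => hCz i (by omega))
  have hC2 : C.IsGE (-1) := (isGE_iff C (-1)).2 (fun i hi => hCz i (by omega))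
  have hC1' : (C⟦(-1 : ℤ)⟧).IsLE 0 := tt.isLE_shift C (-1) (-1) 0
  have hC2' : (C⟦(-1 : ℤ)⟧).IsGE 0 := tt.isGE_shift C (-1) (-1) 0
  obtain ⟨G, ⟨e⟩⟩ := exists_iso_singleFunctor_obj_of_isGE_of_isLE (C⟦(-1 : ℤ)⟧) 0
  set T := Triangle.mk β c d with hTdef
  have hTi := inv_rot_of_distTriang T hT
  obtain ⟨g, hg⟩ := (singleFunctor A 0).map_surjective (e.inv ≫ T.invRotate.mor₁)
  let T' : Triangle (DerivedCategory A) :=
    Triangle.mk ((singleFunctor A 0).map g) β (T.invRotate.mor₃ ≫ e.hom⟦(1 : ℤ)⟧')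
  have hT' : T' ∈ distTriang _ := by
    refine isomorphic_distinguished _ hTi T' ?_
    refine Triangle.isoMk T' T.invRotate e.symm (Iso.refl _) (Iso.refl _) ?_ ?_ ?_
    · exact (Category.comp_id _).trans hg
    · change β ≫ 𝟙 _ = 𝟙 _ ≫ β
      rw [Category.comp_id, Category.id_comp]
    · exact comp_shift_iso_cancel _ e
  let g' := (CochainComplex.singleFunctor A 0).map g
  have hT'' := DerivedCategory.mappingCone_triangle_distinguished g'
  have eT : T' ≅ Q.mapTriangle.obj (CochainComplex.mappingCone.triangle g') :=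
    isoTriangleOfIso₁₂ T' _ hT' hT'' (Iso.refl _) (Iso.refl _) (by
      change (singleFunctor A 0).map g ≫ 𝟙 _ = 𝟙 _ ≫ Q.map g'
      rw [Category.comp_id, Category.id_comp]
      rfl)
  let iG := (singleFunctorCompHomologyFunctorIso A 0).app G
  let iP := (singleFunctorCompHomologyFunctorIso A 0).app P
  have hnat : (homologyFunctor A 0).map ((singleFunctor A 0).map g) ≫ iP.hom = iG.hom ≫ g :=
    (singleFunctorCompHomologyFunctorIso A 0).hom.naturality g
  let δ' : (homologyFunctor A (-1)).obj K ⟶ (homologyFunctor A 0).obj ((singleFunctor A 0).obj G) :=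
    HomologySequence.δ T' (-1) 0 (by norm_num)
  have hδ : δ' ≫ (homologyFunctor A 0).map ((singleFunctor A 0).map g) = 0 :=
    HomologySequence.δ_comp T' hT' (-1) 0 (by norm_num)
  have hex : (ShortComplex.mk δ' ((homologyFunctor A 0).map ((singleFunctor A 0).map g)) hδ).Exact :=
    HomologySequence.exact₁ T' hT' (-1) 0 (by norm_num)
  have hu : (δ' ≫ iG.hom) ≫ g = 0 := by
    rw [Category.assoc, ← hnat, ← Category.assoc, hδ, zero_comp]
  refine ⟨G, g, δ' ≫ iG.hom, hu, ?_, ⟨Triangle.π₃.mapIso eT⟩⟩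
  refine (ShortComplex.exact_iff_of_iso ?_).1 hex
  refine ShortComplex.isoMk (Iso.refl _) iG iP ?_ ?_
  · exact Category.id_comp _
  · exact hnat.symm

end Groth.Agent.Lib.Helper8.DRing4
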