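import Mathlib
import Groth.Agent.Lib.Helper8.DRing4

/-!
# Helper8 — PAmp1: general-degree versions of `(V)` and `(Lift)`; objects of projective amplitude.
-/

open CategoryTheory CategoryTheory.Limits DerivedCategory CategoryTheory.Pretriangulated

namespace Groth.Agent.Lib.Helper8.PAmp

open Groth.Agent.Lib.Helper8.DRing4 Groth.Agent.Lib.Helper8.DTrunc

universe w v u

variable {A : Type u} [Category.{v} A] [Abelian A] [HasDerivedCategory.{w} A]

lemma projective_single_X (b : ℤ) (P : A) [Projective P] (n : ℤ) :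
    Projective (((CochainComplex.singleFunctor A b).obj P).X n) := by
  by_cases h : n = b
  · subst h
    exact Projective.of_iso (HomologicalComplex.singleObjXSelf (ComplexShape.up ℤ) n P).symm
      inferInstance
  · exact (HomologicalComplex.isZero_single_obj_X (ComplexShape.up ℤ) b P n h).projective

lemma isKProjective_single (b : ℤ) (P : A) [Projective P] :
    ((CochainComplex.singleFunctor A b).obj P).IsKProjective :=
  haveI := projective_single_X b P
  CochainComplex.isKProjective_of_projective _ b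

/-- every morphism `Q E ⟶ Q L` is `Q.map` of a chain map when `E` is K-projective. -/
theorem exists_Q_map_of_isKProjective (E : CochainComplex A ℤ) [E.IsKProjective]
    (L : CochainComplex A ℤ) (α : Q.obj E ⟶ Q.obj L) : ∃ f : E ⟶ L, α = Q.map f := by
  obtain ⟨ψ, hψ⟩ := (CochainComplex.IsKProjective.Qh_map_bijective E
    ((HomotopyCategory.quotient A (.up ℤ)).obj L)).surjective α
  obtain ⟨f, rfl⟩ := (HomotopyCategory.quotient A (.up ℤ)).map_surjective ψ
  exact ⟨f, hψ.symm⟩

/-- `K` is isomorphic to a complex of projectives vanishing outside `[a, b]`. -/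
def HasProjAmp (a b : ℤ) (K : DerivedCategory A) : Prop :=
  ∃ P : CochainComplex A ℤ, (∀ i : ℤ, i < a ∨ b < i → IsZero (P.X i)) ∧
    (∀ i : ℤ, Projective (P.X i)) ∧ Nonempty (Q.obj P ≅ K)

lemma HasProjAmp.of_iso {a b : ℤ} {K K' : DerivedCategory A} (h : HasProjAmp a b K) (e : K ≅ K') :
    HasProjAmp a b K' := by
  obtain ⟨P, h1, h2, ⟨e'⟩⟩ := h
  exact ⟨P, h1, h2, ⟨e' ≪≫ e⟩⟩

/-- S6990 (1): no maps from projective amplitude `[a, b]` to `D^{≤ n}`, `n < a`. -/
theorem HasProjAmp.hom_eq_zero {a b : ℤ} {K : DerivedCategory A} (h : HasProjAmp a b K)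
    (X : DerivedCategory A) (n : ℤ) (hn : n < a) [X.IsLE n] (α : K ⟶ X) : α = 0 := by
  obtain ⟨P, h1, h2, ⟨e⟩⟩ := h
  obtain ⟨L, hL, ⟨e'⟩⟩ := X.exists_iso_Q_obj_of_isLE n
  by_cases hab : a ≤ b
  · have : P.IsStrictlyLE b := by
      rw [CochainComplex.isStrictlyLE_iff]
      intro i hi
      exact h1 i (Or.inr hi)
    have : P.IsKProjective := CochainComplex.isKProjective_of_projective P b
    obtain ⟨f, hf⟩ := exists_Q_map_of_isKProjective P L (e.hom ≫ α ≫ e'.hom)
    have hf0 : f = 0 := by
      ext i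
      by_cases hi : i < a
      · exact (h1 i (Or.inl hi)).eq_of_src _ _
      · exact (L.isZero_of_isStrictlyLE n i (by omega)).eq_of_tgt _ _
    subst hf0
    have h3 : e.hom ≫ α ≫ e'.hom = 0 := hf.trans (Functor.map_zero _ _ _)
    rw [← cancel_epi e.hom, ← cancel_mono e'.hom, Category.assoc, h3, comp_zero, zero_comp]
  · have hz : IsZero (Q.obj P) := by
      have : IsZero P := by
        rw [IsZero.iff_id_eq_zero]
        ext i
        exact (h1 i (by omega)).eq_of_src _ _
      exact Functor.map_isZero _ this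
    exact (hz.of_iso e.symm).eq_of_src _ _

/-- (V), general degree. -/
theorem hom_single_projective_eq_zero (b : ℤ) (P : A) [Projective P] (X : DerivedCategory A) (n : ℤ)
    (hn : n < b) [X.IsLE n] (α : (singleFunctor A b).obj P ⟶ X) : α = 0 := by
  refine HasProjAmp.hom_eq_zero (a := b) (b := b) ⟨(CochainComplex.singleFunctor A b).obj P, ?_,
    projective_single_X b P, ⟨Iso.refl _⟩⟩ X n hn α
  intro i hi
  exact HomologicalComplex.isZero_single_obj_X (ComplexShape.up ℤ) b P i (by omega)


/-- (Lift), general degree. -/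
theorem exists_lift_of_projective (b : ℤ) (P : A) [Projective P] (K : DerivedCategory A) [K.IsLE b]
    (ψ : P ⟶ (homologyFunctor A b).obj K) :
    ∃ β : (singleFunctor A b).obj P ⟶ K,
      (homologyFunctor A b).map β = (singleFunctorCompHomologyFunctorIso A b).hom.app P ≫ ψ := by
  have hT := tt.triangleLTGE_distinguished b K
  set T := (tt.truncGE b).obj K with hTdef
  set π : K ⟶ T := (tt.truncGEπ b).app K with hπ
  have : T.IsGE b := (inferInstance : tt.IsGE ((tt.truncGE b).obj K) b)
  have : T.IsLE b := (inferInstance : tt.IsLE ((tt.truncGE b).obj K) b)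
  have hπiso : IsIso ((homologyFunctor A b).map π) := isIso_homologyMap_truncGEπ K b
  obtain ⟨M, ⟨e⟩⟩ := exists_iso_singleFunctor_obj_of_isGE_of_isLE T b
  let ψ' : P ⟶ M := ψ ≫ (homologyFunctor A b).map π ≫ (homologyFunctor A b).map e.hom ≫
    (singleFunctorCompHomologyFunctorIso A b).hom.app M
  let α : (singleFunctor A b).obj P ⟶ T := (singleFunctor A b).map ψ' ≫ e.inv
  have hα : (homologyFunctor A b).map α =
      (singleFunctorCompHomologyFunctorIso A b).hom.app P ≫ ψ ≫ (homologyFunctor A b).map π := by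
    have nat := (singleFunctorCompHomologyFunctorIso A b).hom.naturality ψ'
    simp only [Functor.comp_obj, Functor.comp_map, Functor.id_obj, Functor.id_map] at nat
    have h1 : (homologyFunctor A b).map ((singleFunctor A b).map ψ') =
        (singleFunctorCompHomologyFunctorIso A b).hom.app P ≫ ψ' ≫
          (singleFunctorCompHomologyFunctorIso A b).inv.app M := by
      rw [← Category.assoc, ← nat, Category.assoc, Iso.hom_inv_id_app]
      exact (Category.comp_id _).symm
    rw [Functor.map_comp, h1]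
    simp only [ψ', Category.assoc, Iso.hom_inv_id_app_assoc]
    rw [← Functor.map_comp, e.hom_inv_id, CategoryTheory.Functor.map_id, Category.comp_id]
  have : tt.IsLE ((tt.truncLT b).obj K) (b - 1) := inferInstance
  have : tt.IsLE (((tt.truncLT b).obj K)⟦(1 : ℤ)⟧) (b - 2) :=
    tt.isLE_shift ((tt.truncLT b).obj K) (b - 1) 1 (b - 2)
  have h0 : α ≫ ((tt.triangleLTGE b).obj K).mor₃ = 0 :=
    @hom_single_projective_eq_zero _ _ _ _ b P _ (((tt.truncLT b).obj K)⟦(1 : ℤ)⟧) (b - 2) (by omega)
      this _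
  obtain ⟨β, hβ⟩ : ∃ β : (singleFunctor A b).obj P ⟶ K, α = β ≫ π :=
    Triangle.coyoneda_exact₃ _ hT α h0
  refine ⟨β, ?_⟩
  rw [← cancel_mono ((homologyFunctor A b).map π), ← Functor.map_comp, ← hβ, hα, Category.assoc]

lemma isZero_homology_single (b : ℤ) (P : A) (i : ℤ) (hi : i ≠ b) :
    IsZero ((homologyFunctor A i).obj ((singleFunctor A b).obj P)) := by
  rcases lt_or_gt_of_ne hi with h | h
  · exact isZero_of_isGE _ b i h
  · exact isZero_of_isLE _ b i h

/-- (Peel): the cone of a lift `P[-b] ⟶ K` of an epi `P ↠ H^b(K)` lies in `D^{≤ b-1}` and stays in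
`D^{≥ a}` if `K` does (`a < b`). -/
theorem peel (b : ℤ) (P : A) (Y : DerivedCategory A) [Y.IsLE b]
    (β : (singleFunctor A b).obj P ⟶ Y) (hβ : Epi ((homologyFunctor A b).map β))
    {Z : DerivedCategory A} (c : Y ⟶ Z) (d : Z ⟶ ((singleFunctor A b).obj P)⟦(1 : ℤ)⟧)
    (hT : Triangle.mk β c d ∈ distTriang _) :
    Z.IsLE (b - 1) ∧ ∀ a : ℤ, a < b → Y.IsGE a → Z.IsGE a := by
  constructor
  · refine (isLE_iff Z (b - 1)).2 (fun i hi => ?_)
    by_cases hib : i = b
    · subst hib
      exact isZero_homology_obj₃ _ hT i (i + 1) rfl hβ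
        ⟨fun _ _ _ => (isZero_homology_single i P (i + 1) (by omega)).eq_of_tgt _ _⟩
    · exact isZero_homology_obj₃ _ hT i (i + 1) rfl
        ⟨fun _ _ _ => (isZero_of_isLE Y b i (by omega)).eq_of_src _ _⟩
        ⟨fun _ _ _ => (isZero_homology_single b P (i + 1) (by omega)).eq_of_tgt _ _⟩
  · intro a hab hK
    refine (isGE_iff Z a).2 (fun i hi => ?_)
    exact isZero_homology_obj₃ _ hT i (i + 1) rfl
      ⟨fun _ _ _ => (isZero_of_isGE Y a i hi).eq_of_src _ _⟩
      ⟨fun _ _ _ => (isZero_homology_single b P (i + 1) (by omega)).eq_of_tgt _ _⟩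

end Groth.Agent.Lib.Helper8.PAmp
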