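import Mathlib
import Groth.Agent.Lib.Helper8.PAmp1
import Groth.Agent.Lib.Helper8.DRing2

/-!
# Helper8 — PAmp2: projective amplitude is closed under extensions (Glue).
-/

open CategoryTheory CategoryTheory.Limits DerivedCategory CategoryTheory.Pretriangulated

namespace Groth.Agent.Lib.Helper8.PAmp

open Groth.Agent.Lib.Helper8.DRing2

universe w v u

variable {A : Type u} [Category.{v} A] [Abelian A]

lemma projective_mappingCone_X {K L : CochainComplex A ℤ} (f : K ⟶ L) (m : ℤ)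
    (h1 : Projective (K.X (m + 1))) (h2 : Projective (L.X m)) :
    Projective ((CochainComplex.mappingCone f).X m) :=
  Projective.of_iso (HomologicalComplex.homotopyCofiber.XIsoBiprod f m (m + 1) (by simp)).symm
    inferInstance

variable [HasDerivedCategory.{w} A]

lemma isKProjective_of_hasProjAmp_data (P : CochainComplex A ℤ) (b : ℤ)
    (h1 : ∀ i : ℤ, b < i → IsZero (P.X i)) (h2 : ∀ i : ℤ, Projective (P.X i)) :
    P.IsKProjective := by
  have : P.IsStrictlyLE b := by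
    rw [CochainComplex.isStrictlyLE_iff]
    exact h1
  exact CochainComplex.isKProjective_of_projective P b

/-- (Glue) -/
theorem HasProjAmp.of_triangle {a₁ b₁ a₂ b₂ a b : ℤ} (T : Triangle (DerivedCategory A))
    (hT : T ∈ distTriang _) (hX : HasProjAmp a₁ b₁ T.obj₁) (hC : HasProjAmp a₂ b₂ T.obj₃)
    (ha : a ≤ a₁ ∧ a ≤ a₂) (hb : b₁ ≤ b ∧ b₂ ≤ b) : HasProjAmp a b T.obj₂ := by
  obtain ⟨P₁, h11, h12, ⟨e₁⟩⟩ := hX
  obtain ⟨P₂, h21, h22, ⟨e₂⟩⟩ := hC
  have : P₂.IsKProjective := isKProjective_of_hasProjAmp_data P₂ b₂ (fun i hi => h21 i (Or.inr hi)) h22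
  -- the map `w : C ⟶ X⟦1⟧` as a chain map
  let ε : Q.obj (P₁⟦(1 : ℤ)⟧) ≅ T.obj₁⟦(1 : ℤ)⟧ :=
    (Q.commShiftIso (1 : ℤ)).app P₁ ≪≫ (shiftFunctor _ (1 : ℤ)).mapIso e₁
  obtain ⟨f, hf⟩ := exists_Q_map_of_isKProjective P₂ (P₁⟦(1 : ℤ)⟧) (e₂.hom ≫ T.mor₃ ≫ ε.inv)
  have hT2 := rot_of_distTriang _ (rot_of_distTriang _ hT)
  have hT3 := DerivedCategory.mappingCone_triangle_distinguished f
  have eT := isoTriangleOfIso₁₂ _ _ hT3 hT2 e₂ ε (by
    change Q.map f ≫ ε.hom = e₂.hom ≫ T.mor₃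
    rw [← hf, Category.assoc, Category.assoc, Iso.inv_hom_id, Category.comp_id])
  have e3 : Q.obj (CochainComplex.mappingCone f) ≅ T.obj₂⟦(1 : ℤ)⟧ := Triangle.π₃.mapIso eT
  -- unshift
  let E : CochainComplex A ℤ := (CochainComplex.mappingCone f)⟦(-1 : ℤ)⟧
  have e4 : Q.obj E ≅ T.obj₂ :=
    (Q.commShiftIso (-1 : ℤ)).app _ ≪≫ (shiftFunctor _ (-1 : ℤ)).mapIso e3 ≪≫
      (shiftFunctorCompIsoId (DerivedCategory A) (1 : ℤ) (-1) (by norm_num)).app T.obj₂
  refine ⟨E, ?_, ?_, ⟨e4⟩⟩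
  · intro i hi
    change IsZero ((CochainComplex.mappingCone f).X (i + (-1)))
    refine isZero_mappingCone_X f _ (h21 _ (by omega)) ?_
    change IsZero (P₁.X (i + (-1) + 1))
    exact h11 _ (by omega)
  · intro i
    change Projective ((CochainComplex.mappingCone f).X (i + (-1)))
    refine projective_mappingCone_X f _ (h22 _) ?_
    change Projective (P₁.X (i + (-1) + 1))
    exact h12 _

end Groth.Agent.Lib.Helper8.PAmp
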