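import Mathlib
import Groth.Prelude.Def_DRing2
import Groth.Agent.Lib.Helper8.PAmp2

/-!
# Helper8 — Perf2: perfect complexes satisfy two-out-of-three (S7028).
-/

open CategoryTheory CategoryTheory.Limits DerivedCategory CategoryTheory.Pretriangulated

namespace Groth.Agent.Lib.Helper8.Perf

open Groth.Agent.Lib.Helper8.DRing2 Groth.Agent.Lib.Helper8.PAmp

universe w v u

section General

variable {A : Type u} [Category.{v} A] [Abelian A] [HasDerivedCategory.{w} A]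

/-- `K` is isomorphic to a bounded complex with terms in the class `Pc`. -/
def HasBddRep (Pc : A → Prop) (K : DerivedCategory A) : Prop :=
  ∃ (P : CochainComplex A ℤ) (a b : ℤ), (∀ i : ℤ, i < a ∨ b < i → IsZero (P.X i)) ∧
    (∀ i : ℤ, Pc (P.X i)) ∧ Nonempty (Q.obj P ≅ K)

variable {Pc : A → Prop}

lemma HasBddRep.of_iso {K K' : DerivedCategory A} (h : HasBddRep Pc K) (e : K ≅ K') :
    HasBddRep Pc K' := by
  obtain ⟨P, a, b, h1, h2, ⟨e'⟩⟩ := h
  exact ⟨P, a, b, h1, h2, ⟨e' ≪≫ e⟩⟩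

lemma HasBddRep.shift {K : DerivedCategory A} (h : HasBddRep Pc K) (m : ℤ) :
    HasBddRep Pc (K⟦m⟧) := by
  obtain ⟨P, a, b, h1, h2, ⟨e⟩⟩ := h
  refine ⟨P⟦m⟧, a - m, b - m, ?_, ?_, ⟨(Q.commShiftIso m).app P ≪≫ (shiftFunctor _ m).mapIso e⟩⟩
  · intro i hi
    change IsZero (P.X (i + m))
    exact h1 _ (by omega)
  · intro i
    change Pc (P.X (i + m))
    exact h2 _

/-- (Glue) -/
theorem HasBddRep.of_triangle (hPc_proj : ∀ X, Pc X → Projective X)
    (hPc_biprod : ∀ X Y, Pc X → Pc Y → Pc (X ⊞ Y)) (hPc_iso : ∀ X Y, (X ≅ Y) → Pc X → Pc Y)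
    (T : Triangle (DerivedCategory A))
    (hT : T ∈ distTriang _) (hX : HasBddRep Pc T.obj₁) (hC : HasBddRep Pc T.obj₃) :
    HasBddRep Pc T.obj₂ := by
  obtain ⟨P₁, a₁, b₁, h11, h12, ⟨e₁⟩⟩ := hX
  obtain ⟨P₂, a₂, b₂, h21, h22, ⟨e₂⟩⟩ := hC
  have : P₂.IsKProjective := isKProjective_of_hasProjAmp_data P₂ b₂ (fun i hi => h21 i (Or.inr hi))
    (fun i => hPc_proj _ (h22 i))
  let ε : Q.obj (P₁⟦(1 : ℤ)⟧) ≅ T.obj₁⟦(1 : ℤ)⟧ :=
    (Q.commShiftIso (1 : ℤ)).app P₁ ≪≫ (shiftFunctor _ (1 : ℤ)).mapIso e₁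
  obtain ⟨f, hf⟩ := exists_Q_map_of_isKProjective P₂ (P₁⟦(1 : ℤ)⟧) (e₂.hom ≫ T.mor₃ ≫ ε.inv)
  have hT2 := rot_of_distTriang _ (rot_of_distTriang _ hT)
  have hT3 := DerivedCategory.mappingCone_triangle_distinguished f
  have eT := isoTriangleOfIso₁₂ _ _ hT3 hT2 e₂ ε (by
    change Q.map f ≫ ε.hom = e₂.hom ≫ T.mor₃
    rw [← hf, Category.assoc, Category.assoc, Iso.inv_hom_id, Category.comp_id])
  have e3 : Q.obj (CochainComplex.mappingCone f) ≅ T.obj₂⟦(1 : ℤ)⟧ := Triangle.π₃.mapIso eT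
  let E : CochainComplex A ℤ := (CochainComplex.mappingCone f)⟦(-1 : ℤ)⟧
  have e4 : Q.obj E ≅ T.obj₂ :=
    (Q.commShiftIso (-1 : ℤ)).app _ ≪≫ (shiftFunctor _ (-1 : ℤ)).mapIso e3 ≪≫
      (shiftFunctorCompIsoId (DerivedCategory A) (1 : ℤ) (-1) (by norm_num)).app T.obj₂
  refine ⟨E, min a₁ a₂, max b₁ b₂, ?_, ?_, ⟨e4⟩⟩
  · intro i hi
    change IsZero ((CochainComplex.mappingCone f).X (i + (-1)))
    have hi' : (i < a₁ ∧ i < a₂) ∨ (b₁ < i ∧ b₂ < i) := by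
      rcases hi with hi | hi
      · exact Or.inl (lt_min_iff.1 hi)
      · exact Or.inr (max_lt_iff.1 hi)
    refine isZero_mappingCone_X f _ (h21 _ (by omega)) ?_
    change IsZero (P₁.X (i + (-1) + 1))
    exact h11 _ (by omega)
  · intro i
    change Pc ((CochainComplex.mappingCone f).X (i + (-1)))
    refine hPc_iso _ _ (HomologicalComplex.homotopyCofiber.XIsoBiprod f (i + (-1)) (i + (-1) + 1)
      (by simp)).symm (hPc_biprod _ _ (h22 _) ?_)
    change Pc (P₁.X (i + (-1) + 1))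
    exact h12 _

/-- two out of three. -/
theorem HasBddRep.two_of_three (hPc_proj : ∀ X, Pc X → Projective X)
    (hPc_biprod : ∀ X Y, Pc X → Pc Y → Pc (X ⊞ Y)) (hPc_iso : ∀ X Y, (X ≅ Y) → Pc X → Pc Y)
    (T : Triangle (DerivedCategory A)) (hT : T ∈ distTriang _) :
    (HasBddRep Pc T.obj₁ → HasBddRep Pc T.obj₂ → HasBddRep Pc T.obj₃) ∧
      (HasBddRep Pc T.obj₁ → HasBddRep Pc T.obj₃ → HasBddRep Pc T.obj₂) ∧
      (HasBddRep Pc T.obj₂ → HasBddRep Pc T.obj₃ → HasBddRep Pc T.obj₁) := by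
  refine ⟨fun h1 h2 => ?_, fun h1 h3 => HasBddRep.of_triangle hPc_proj hPc_biprod hPc_iso T hT h1 h3,
    fun h2 h3 => ?_⟩
  · exact HasBddRep.of_triangle hPc_proj hPc_biprod hPc_iso _ (rot_of_distTriang _ hT) h2 (h1.shift 1)
  · exact HasBddRep.of_triangle hPc_proj hPc_biprod hPc_iso _ (inv_rot_of_distTriang _ hT)
      (h3.shift (-1)) h2

end General

section Ring

attribute [local instance] HasDerivedCategory.standard

variable {R : Type u} [CommRing R]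

/-- finite projective modules -/
def FinProj (M : ModuleCat.{u} R) : Prop := Module.Finite R M ∧ Module.Projective R M

lemma isPerfect_iff (K : Dual.D R) : DRing.IsPerfect R K ↔ HasBddRep (FinProj (R := R)) K := by
  constructor
  · rintro ⟨E, a, b, h1, h2, h3⟩
    exact ⟨E, a, b, h1, h2, h3⟩
  · rintro ⟨E, a, b, h1, h2, h3⟩
    exact ⟨E, a, b, h1, h2, h3⟩

lemma finProj_iso (X Y : ModuleCat.{u} R) (e : X ≅ Y) (h : FinProj X) : FinProj Y := by
  obtain ⟨h1, h2⟩ := h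
  exact ⟨Module.Finite.equiv e.toLinearEquiv, Module.Projective.of_equiv e.toLinearEquiv⟩

lemma finProj_biprod (X Y : ModuleCat.{u} R) (hX : FinProj X) (hY : FinProj Y) :
    FinProj (X ⊞ Y) := by
  obtain ⟨h1, h2⟩ := hX
  obtain ⟨h3, h4⟩ := hY
  refine finProj_iso _ _ (ModuleCat.biprodIsoProd X Y).symm ?_
  exact ⟨(inferInstance : Module.Finite R (X × Y)), (inferInstance : Module.Projective R (X × Y))⟩

/-- S7028 -/
theorem isPerfect_two_of_three (T : Triangle (Dual.D R)) (hT : T ∈ distinguishedTriangles) :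
    (DRing.IsPerfect R T.obj₁ → DRing.IsPerfect R T.obj₂ → DRing.IsPerfect R T.obj₃) ∧
      (DRing.IsPerfect R T.obj₁ → DRing.IsPerfect R T.obj₃ → DRing.IsPerfect R T.obj₂) ∧
      (DRing.IsPerfect R T.obj₂ → DRing.IsPerfect R T.obj₃ → DRing.IsPerfect R T.obj₁) := by
  simp only [isPerfect_iff]
  exact HasBddRep.two_of_three (fun X h => (IsProjective.iff_projective _).1 h.2)
    finProj_biprod finProj_iso T hT

end Ring

end Groth.Agent.Lib.Helper8.Perf
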