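import Mathlib

/-!
# Helper8 — Stupid1: induction over bounded complexes via the (brutal truncation) short exact
sequence `0 ⟶ σ_{>a} K ⟶ K ⟶ K^a[-a] ⟶ 0`.
-/

open CategoryTheory CategoryTheory.Limits DerivedCategory CategoryTheory.Pretriangulated

namespace Groth.Agent.Lib.Helper8.Stupid

universe w v u

variable {A : Type u} [Category.{v} A] [Abelian A]

/-- the projection `K ⟶ K^a[-a]` for a complex vanishing below `a`. -/
noncomputable def πBot (K : CochainComplex A ℤ) (a : ℤ) (hK : ∀ i : ℤ, i < a → IsZero (K.X i)) :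
    K ⟶ (HomologicalComplex.single A (ComplexShape.up ℤ) a).obj (K.X a) :=
  HomologicalComplex.mkHomToSingle (𝟙 (K.X a)) (fun i hi => by
    have : i + 1 = a := hi
    exact (hK i (by omega)).eq_of_src _ _)

/-- the short complex `0 ⟶ σ_{>a} K ⟶ K ⟶ K^a[-a] ⟶ 0` -/
noncomputable def sc (K : CochainComplex A ℤ) (a : ℤ) (hK : ∀ i : ℤ, i < a → IsZero (K.X i)) :
    ShortComplex (CochainComplex A ℤ) :=
  ShortComplex.mk (kernel.ι (πBot K a hK)) (πBot K a hK) (kernel.condition _)

lemma epi_πBot (K : CochainComplex A ℤ) (a : ℤ) (hK : ∀ i : ℤ, i < a → IsZero (K.X i)) :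
    Epi (πBot K a hK) := by
  apply HomologicalComplex.epi_of_epi_f
  intro i
  by_cases h : i = a
  · subst h
    have : (πBot K i hK).f i = 𝟙 _ ≫ (HomologicalComplex.singleObjXSelf (ComplexShape.up ℤ) i (K.X i)).inv :=
      HomologicalComplex.mkHomToSingle_f _ _
    rw [this]
    infer_instance
  · exact ⟨fun _ _ _ => (HomologicalComplex.isZero_single_obj_X (ComplexShape.up ℤ) a _ i h).eq_of_src _ _⟩

lemma sc_shortExact (K : CochainComplex A ℤ) (a : ℤ) (hK : ∀ i : ℤ, i < a → IsZero (K.X i)) :
    (sc K a hK).ShortExact :=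
  { exact := ShortComplex.exact_kernel _
    mono_f := (inferInstance : Mono (kernel.ι (πBot K a hK)))
    epi_g := epi_πBot K a hK }

/-- the brutal truncation `σ_{>a} K`. -/
noncomputable abbrev σ (K : CochainComplex A ℤ) (a : ℤ) (hK : ∀ i : ℤ, i < a → IsZero (K.X i)) :
    CochainComplex A ℤ := (sc K a hK).X₁

lemma isIso_σι_f (K : CochainComplex A ℤ) (a : ℤ) (hK : ∀ i : ℤ, i < a → IsZero (K.X i)) (i : ℤ)
    (hi : i ≠ a) : IsIso ((sc K a hK).f.f i) := by
  have h1 := (HomologicalComplex.shortExact_iff_degreewise_shortExact _).1 (sc_shortExact K a hK) i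
  have h2 : ((sc K a hK).map (HomologicalComplex.eval A (ComplexShape.up ℤ) i)).g = 0 :=
    (HomologicalComplex.isZero_single_obj_X (ComplexShape.up ℤ) a _ i hi).eq_of_tgt _ _
  have h3 : Epi ((sc K a hK).f.f i) := h1.exact.epi_f h2
  have h4 : Mono ((sc K a hK).f.f i) := h1.mono_f
  exact isIso_of_mono_of_epi ((sc K a hK).f.f i)

/-- `σ_{>a} K` agrees with `K` away from degree `a`. -/
noncomputable def σXIso (K : CochainComplex A ℤ) (a : ℤ) (hK : ∀ i : ℤ, i < a → IsZero (K.X i))
    (i : ℤ) (hi : i ≠ a) : (σ K a hK).X i ≅ K.X i :=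
  haveI := isIso_σι_f K a hK i hi
  (asIso ((sc K a hK).f.f i) : (sc K a hK).X₁.X i ≅ (sc K a hK).X₂.X i)

lemma isZero_σ_X (K : CochainComplex A ℤ) (a : ℤ) (hK : ∀ i : ℤ, i < a → IsZero (K.X i)) :
    IsZero ((σ K a hK).X a) := by
  have h1 := (HomologicalComplex.shortExact_iff_degreewise_shortExact _).1 (sc_shortExact K a hK) a
  have h2 : Mono ((sc K a hK).map (HomologicalComplex.eval A (ComplexShape.up ℤ) a)).g := by
    change Mono ((πBot K a hK).f a)
    have : (πBot K a hK).f a = 𝟙 _ ≫ (HomologicalComplex.singleObjXSelf (ComplexShape.up ℤ) a (K.X a)).inv :=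
      HomologicalComplex.mkHomToSingle_f _ _
    rw [this]
    infer_instance
  have h3 := h1.exact.mono_g_iff.1 h2
  have h4 : Mono ((sc K a hK).f.f a) := h1.mono_f
  have h5 : (sc K a hK).f.f a = 0 := h3
  exact IsZero.of_mono_eq_zero _ h5

variable [HasDerivedCategory.{w} A]

/-- Induction principle: a property of objects of `D(A)` that is closed under isomorphisms and
extensions and holds for `0` and the shifted terms holds for every bounded complex. -/
theorem induction_bounded (P : ObjectProperty (DerivedCategory A)) [P.IsClosedUnderIsomorphisms]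
    (hext : ∀ T : Triangle (DerivedCategory A), T ∈ distTriang _ → P T.obj₁ → P T.obj₃ → P T.obj₂)
    (h0 : ∀ Z : DerivedCategory A, IsZero Z → P Z) :
    ∀ (n : ℕ) (K : CochainComplex A ℤ) (a : ℤ), (∀ i : ℤ, i < a ∨ a + n ≤ i → IsZero (K.X i)) →
      (∀ i : ℤ, P ((singleFunctor A i).obj (K.X i))) → P (Q.obj K) := by
  intro n
  induction n with
  | zero =>
    intro K a hK _
    refine h0 _ (Functor.map_isZero Q ?_)
    rw [IsZero.iff_id_eq_zero]
    ext i
    exact (hK i (by simp; omega)).eq_of_src _ _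
  | succ n ih =>
    intro K a hK hterm
    have hK' : ∀ i : ℤ, i < a → IsZero (K.X i) := fun i hi => hK i (Or.inl hi)
    have hT := triangleOfSES_distinguished (sc_shortExact K a hK')
    refine hext _ hT ?_ (hterm a)
    refine ih (σ K a hK') (a + 1) ?_ ?_
    · intro i hi
      by_cases h : i = a
      · subst h
        exact isZero_σ_X K i hK'
      · exact (hK i (by push_cast; omega)).of_iso (σXIso K a hK' i h)
    · intro i
      by_cases h : i = a
      · subst h
        exact h0 _ (Functor.map_isZero _ (isZero_σ_X K i hK'))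
      · exact P.prop_of_iso ((singleFunctor A i).mapIso (σXIso K a hK' i h).symm) (hterm i)

end Groth.Agent.Lib.Helper8.Stupid
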