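import Groth.Agent.Lib.Helper8.HColim2

/-!
# Helper8: coproducts of complexes: quasi-isomorphisms (AB4) and homotopies
-/

universe w v u

open CategoryTheory CategoryTheory.Limits

namespace Groth.Agent.Lib.Helper8.DCoprod

variable {A : Type u} [Category.{v} A] [Abelian A] {J : Type w}
  [HasColimitsOfShape (Discrete J) A] {ι : Type*} {c : ComplexShape ι}

section QuasiIso

variable [HasExactColimitsOfShape (Discrete J) A]
  {K L : J → HomologicalComplex A c} (s : ∀ j, K j ⟶ L j) [∀ j, QuasiIso (s j)]

lemma isIso_homologyMap_sigmaMap (n : ι) :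
    IsIso (HomologicalComplex.homologyMap (Limits.Sigma.map s) n) := by
  let H := HomologicalComplex.homologyFunctor A c n
  have hK : IsColimit (H.mapCocone (colimit.cocone (Discrete.functor K))) :=
    isColimitOfPreserves H (colimit.isColimit _)
  have hL : IsColimit (H.mapCocone (colimit.cocone (Discrete.functor L))) :=
    isColimitOfPreserves H (colimit.isColimit _)
  have hs : ∀ j, IsIso (H.map (s j)) := fun j => by
    have : QuasiIsoAt (s j) n := inferInstance
    rw [quasiIsoAt_iff_isIso_homologyMap] at this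
    exact this
  let α : Discrete.functor K ⋙ H ≅ Discrete.functor L ⋙ H :=
    Discrete.natIso (fun ⟨j⟩ => @asIso _ _ _ _ (H.map (s j)) (hs j))
  have key : H.map (Limits.Sigma.map s) = (IsColimit.coconePointsIsoOfNatIso hK hL α).hom := by
    apply hK.hom_ext
    rintro ⟨j⟩
    rw [IsColimit.comp_coconePointsIsoOfNatIso_hom]
    change H.map (Sigma.ι K j) ≫ H.map (Limits.Sigma.map s) = H.map (s j) ≫ H.map (Sigma.ι L j)
    rw [← H.map_comp, ← H.map_comp]
    congr 1
    exact ι_colimMap _ _
  have : IsIso (H.map (Limits.Sigma.map s)) := by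
    rw [key]
    infer_instance
  exact this

instance quasiIso_sigmaMap : QuasiIso (Limits.Sigma.map s) := by
  rw [quasiIso_iff]
  intro n
  rw [quasiIsoAt_iff_isIso_homologyMap]
  exact isIso_homologyMap_sigmaMap s n

end QuasiIso

section Homotopy

variable (K : J → HomologicalComplex A c) {L : HomologicalComplex A c} (f : ∐ K ⟶ L)
  (h : ∀ j, Homotopy (Sigma.ι K j ≫ f) 0)

/-- the coproduct in each degree -/
noncomputable def isColimitEval (i : ι) :
    IsColimit ((HomologicalComplex.eval A c i).mapCocone (colimit.cocone (Discrete.functor K))) :=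
  isColimitOfPreserves _ (colimit.isColimit _)

lemma hom_ext_eval (i : ι) {T : A} {a b : (∐ K).X i ⟶ T}
    (hab : ∀ j, (Sigma.ι K j).f i ≫ a = (Sigma.ι K j).f i ≫ b) : a = b :=
  (isColimitEval K i).hom_ext (fun ⟨j⟩ => hab j)

/-- the components of the assembled homotopy -/
noncomputable def hhom (i i' : ι) : (∐ K).X i ⟶ L.X i' :=
  (isColimitEval K i).desc (Cocone.mk (L.X i') (Discrete.natTrans fun ⟨j⟩ => (h j).hom i i'))

@[reassoc (attr := simp)]
lemma ι_hhom (j : J) (i i' : ι) : (Sigma.ι K j).f i ≫ hhom K f h i i' = (h j).hom i i' :=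
  (isColimitEval K i).fac _ ⟨j⟩

/-- homotopies to zero on each summand assemble -/
noncomputable def homotopySigma : Homotopy f 0 where
  hom := hhom K f h
  zero i i' hii' := by
    apply hom_ext_eval
    intro j
    rw [ι_hhom, comp_zero, (h j).zero i i' hii']
  comm i := by
    apply hom_ext_eval
    intro j
    have := (h j).comm i
    rw [HomologicalComplex.comp_f] at this
    rw [this]
    simp only [HomologicalComplex.zero_f, add_zero, Preadditive.comp_add]
    congr 1
    · change _ = (Sigma.ι K j).f i ≫ (∐ K).d i (c.next i) ≫ hhom K f h (c.next i) i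
      rw [HomologicalComplex.Hom.comm_assoc, ι_hhom]
      rfl
    · change _ = (Sigma.ι K j).f i ≫ hhom K f h i (c.prev i) ≫ L.d (c.prev i) i
      rw [ι_hhom_assoc]
      rfl

end Homotopy

end Groth.Agent.Lib.Helper8.DCoprod
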