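import Groth.Prelude.Def_DerLim
import Mathlib.CategoryTheory.Abelian.GrothendieckAxioms.Basic
import Mathlib.CategoryTheory.Functor.OfSequence
import Mathlib.Tactic

/-! Sequential colimits in abelian categories: `1 - shift` on a countable coproduct is a
monomorphism when `ℕ`-colimits are exact, and its cokernel is the sequential colimit. -/

set_option autoImplicit false
universe v u

open CategoryTheory CategoryTheory.Limits

namespace Groth.Agent.Lib.Helper8.SeqColim

section Proj

variable {A : Type u} [Category.{v} A] [Preadditive A] (K : ℕ → A) [HasCoproduct K]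

/-- The projector of `∐ K` killing the summands of index `< N`. -/
noncomputable def cN (N : ℕ) : ∐ K ⟶ ∐ K :=
  Sigma.desc (fun n => if N ≤ n then Sigma.ι K n else 0)

lemma ι_cN_of_le {N n : ℕ} (h : N ≤ n) : Sigma.ι K n ≫ cN K N = Sigma.ι K n := by
  unfold cN
  rw [Sigma.ι_desc, if_pos h]

lemma ι_cN_of_lt {N n : ℕ} (h : n < N) : Sigma.ι K n ≫ cN K N = 0 := by
  unfold cN
  rw [Sigma.ι_desc, if_neg (by omega)]

lemma cN_zero : cN K 0 = 𝟙 _ := by
  apply Sigma.hom_ext
  intro n
  rw [ι_cN_of_le K (Nat.zero_le n), Category.comp_id]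

variable (f : ∀ n, K n ⟶ K (n + 1))

omit [Preadditive A] in
lemma ι_shiftMap (n : ℕ) : Sigma.ι K n ≫ DerLim.shiftMap K f = f n ≫ Sigma.ι K (n + 1) := by
  unfold DerLim.shiftMap
  rw [Sigma.ι_desc]

lemma cN_shift (N : ℕ) :
    cN K N ≫ DerLim.shiftMap K f ≫ cN K (N + 1) = cN K N ≫ DerLim.shiftMap K f := by
  apply Sigma.hom_ext
  intro n
  by_cases h : N ≤ n
  · have h1 := ι_cN_of_le K h
    have h2 := ι_cN_of_le K (by omega : N + 1 ≤ n + 1)
    simp only [reassoc_of% h1, reassoc_of% (ι_shiftMap K f n), ι_shiftMap, h2]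
  · have h1 := ι_cN_of_lt K (by omega : n < N)
    simp only [reassoc_of% h1, zero_comp]

lemma comp_cN_of_comp_eq_zero {P : A} (k : P ⟶ ∐ K)
    (hk : k ≫ (𝟙 _ - DerLim.shiftMap K f) = 0) (N : ℕ) : k ≫ cN K N = k := by
  have hk' : k ≫ DerLim.shiftMap K f = k := by
    rw [Preadditive.comp_sub, Category.comp_id, sub_eq_zero] at hk
    exact hk.symm
  induction N with
  | zero => rw [cN_zero, Category.comp_id]
  | succ N ih =>
    calc k ≫ cN K (N + 1) = (k ≫ cN K N ≫ DerLim.shiftMap K f) ≫ cN K (N + 1) := by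
          rw [reassoc_of% ih, hk']
      _ = k ≫ cN K N ≫ DerLim.shiftMap K f := by
          rw [Category.assoc, Category.assoc, cN_shift]
      _ = k := by rw [reassoc_of% ih, hk']

/-- The sequence `∐ K → ∐ K → ⋯` with transition maps the projectors `cN (N+1)`. -/
noncomputable abbrev G : ℕ ⥤ A := Functor.ofSequence (fun N : ℕ => cN K (N + 1))

lemma cocone_G_zero (s : Cocone (G K)) (N : ℕ) : s.ι.app N = 0 := by
  let t : ∀ N : ℕ, ∐ K ⟶ s.pt := fun N => s.ι.app N
  have ht : ∀ M : ℕ, t M = cN K (M + 1) ≫ t (M + 1) := by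
    intro M
    have := s.w (homOfLE (Nat.le_add_right M 1))
    rw [Functor.ofSequence_map_homOfLE_succ] at this
    exact this.symm
  suffices h : t N = 0 from h
  apply Sigma.hom_ext
  intro n
  rw [comp_zero]
  have step : ∀ M : ℕ, Sigma.ι K n ≫ t (M + 1) = 0 → Sigma.ι K n ≫ t M = 0 := by
    intro M hM
    rw [ht M]
    by_cases h : M + 1 ≤ n
    · rw [reassoc_of% (ι_cN_of_le K h), hM]
    · rw [reassoc_of% (ι_cN_of_lt K (by omega : n < M + 1)), zero_comp]
  have base : ∀ M : ℕ, n ≤ M → Sigma.ι K n ≫ t M = 0 := by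
    intro M hM
    rw [ht M, reassoc_of% (ι_cN_of_lt K (by omega : n < M + 1)), zero_comp]
  by_cases h : n ≤ N
  · exact base N h
  · exact Nat.decreasingInduction (fun M _ hM => step M hM) (base n le_rfl) (by omega : N ≤ n)

end Proj

section Mono

variable {A : Type u} [Category.{v} A] [Abelian A]
  [HasColimitsOfShape ℕ A] [HasExactColimitsOfShape ℕ A]
  (K : ℕ → A) [HasCoproduct K] (f : ∀ n, K n ⟶ K (n + 1))

instance mono_one_sub_shiftMap : Mono (𝟙 (∐ K) - DerLim.shiftMap K f) := by
  apply Preadditive.mono_of_kernel_zero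
  set φ := 𝟙 (∐ K) - DerLim.shiftMap K f
  let P := kernel φ
  let k : P ⟶ ∐ K := kernel.ι φ
  have hk : k ≫ φ = 0 := kernel.condition φ
  have hkc : ∀ N, k ≫ cN K N = k := comp_cN_of_comp_eq_zero K f k hk
  let α : (Functor.const ℕ).obj P ⟶ G K :=
    NatTrans.ofSequence (fun _ => k) (fun n => by
      rw [Functor.ofSequence_map_homOfLE_succ]
      simp only [Functor.const_obj_obj, Functor.const_obj_map]
      exact (Category.id_comp k).trans (hkc (n + 1)).symm)
  have : ∀ n, Mono (α.app n) := fun n => by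
    change Mono k
    infer_instance
  have : Mono α := NatTrans.mono_of_mono_app α
  have : PreservesFiniteLimits (colim (J := ℕ) (C := A)) :=
    HasExactColimitsOfShape.preservesFiniteLimits
  have : Mono (colim.map α) := inferInstance
  have h0 : colimit.ι ((Functor.const ℕ).obj P) 0 ≫ colim.map α = 0 := by
    change colimit.ι ((Functor.const ℕ).obj P) 0 ≫ colimMap α = 0
    rw [ι_colimMap]
    have := cocone_G_zero K (colimit.cocone (G K)) 0
    change colimit.ι (G K) 0 = 0 at this
    rw [this, comp_zero]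
  have h1 : colimit.ι ((Functor.const ℕ).obj P) 0 = 0 := by
    rw [← cancel_mono (colim.map α), h0, zero_comp]
  let r : colimit ((Functor.const ℕ).obj P) ⟶ P :=
    colimit.desc ((Functor.const ℕ).obj P) ⟨P, 𝟙 _⟩
  have h2 : colimit.ι ((Functor.const ℕ).obj P) 0 ≫ r = 𝟙 P := by
    rw [colimit.ι_desc]
    rfl
  have h3 : 𝟙 P = 0 := by rw [← h2, h1, zero_comp]
  calc k = 𝟙 P ≫ k := (Category.id_comp k).symm
    _ = 0 := by rw [h3, zero_comp]

end Mono

section Coker

variable {A : Type u} [Category.{v} A] [Preadditive A] (F : ℕ ⥤ A) [HasCoproduct F.obj]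

/-- The transition maps of a sequence. -/
abbrev fs (n : ℕ) : F.obj n ⟶ F.obj (n + 1) := F.map (homOfLE (Nat.le_succ n))

lemma w_cocone (c : Cocone F) :
    (𝟙 (∐ F.obj) - DerLim.shiftMap F.obj (fs F)) ≫ Sigma.desc (fun n => c.ι.app n) = 0 := by
  apply Sigma.hom_ext
  intro n
  rw [Preadditive.sub_comp, Preadditive.comp_sub, Category.id_comp, Sigma.ι_desc,
    reassoc_of% (ι_shiftMap F.obj (fs F) n), Sigma.ι_desc, comp_zero, sub_eq_zero]
  exact (c.w _).symm

/-- A map out of `∐ F.obj` coequalizing `1` and `shift` gives a cocone over `F`. -/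
@[reducible] noncomputable def coconeOf {T : A} (g : ∐ F.obj ⟶ T)
    (hg : (𝟙 (∐ F.obj) - DerLim.shiftMap F.obj (fs F)) ≫ g = 0) : Cocone F where
  pt := T
  ι := NatTrans.ofSequence (F := F) (G := (Functor.const ℕ).obj T)
    (fun n => Sigma.ι F.obj n ≫ g) (fun n => by
      have h1 : Sigma.ι F.obj n ≫ (𝟙 (∐ F.obj) - DerLim.shiftMap F.obj (fs F)) ≫ g = 0 := by
        rw [hg, comp_zero]
      rw [Preadditive.sub_comp, Preadditive.comp_sub, Category.id_comp,
        reassoc_of% (ι_shiftMap F.obj (fs F) n), sub_eq_zero] at h1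
      simp only [Functor.const_obj_obj, Functor.const_obj_map, Category.comp_id]
      exact h1.symm)

lemma coconeOf_ι_app {T : A} (g : ∐ F.obj ⟶ T)
    (hg : (𝟙 (∐ F.obj) - DerLim.shiftMap F.obj (fs F)) ≫ g = 0) (n : ℕ) :
    (coconeOf F g hg).ι.app n = Sigma.ι F.obj n ≫ g := rfl

/-- The sequential colimit is the cokernel of `1 - shift`. -/
noncomputable def isColimitCokernelCofork (c : Cocone F) (hc : IsColimit c) :
    IsColimit (CokernelCofork.ofπ (Sigma.desc (fun n => c.ι.app n)) (w_cocone F c)) :=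
  CokernelCofork.IsColimit.ofπ _ _
    (fun g hg => hc.desc (coconeOf F g hg))
    (fun g hg => by
      apply Sigma.hom_ext
      intro n
      rw [Sigma.ι_desc_assoc, hc.fac, coconeOf_ι_app])
    (fun g hg m hm => by
      apply hc.hom_ext
      intro n
      rw [hc.fac, coconeOf_ι_app, ← hm, Sigma.ι_desc_assoc])

end Coker

end Groth.Agent.Lib.Helper8.SeqColim
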