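import Groth.Agent.Lib.Helper8.SeqColim

/-! `1 - shift` is a monomorphism, stated for an arbitrary colimit cofan. -/

set_option autoImplicit false
universe v u

open CategoryTheory CategoryTheory.Limits

namespace Groth.Agent.Lib.Helper8.SeqColim

variable {A : Type u} [Category.{v} A] [Abelian A]
  [HasColimitsOfShape ℕ A] [HasExactColimitsOfShape ℕ A]

lemma mono_of_isColimit_cofan {K : ℕ → A} (f : ∀ n, K n ⟶ K (n + 1)) (c : Cofan K)
    (hc : IsColimit c) (φ : c.pt ⟶ c.pt)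
    (hφ : ∀ n, c.inj n ≫ φ = c.inj n - f n ≫ c.inj (n + 1)) : Mono φ := by
  haveI : HasCoproduct K := ⟨⟨⟨c, hc⟩⟩⟩
  let e : ∐ K ≅ c.pt := IsColimit.coconePointUniqueUpToIso (coproductIsCoproduct K) hc
  have he : ∀ n, Sigma.ι K n ≫ e.hom = c.inj n := fun n =>
    IsColimit.comp_coconePointUniqueUpToIso_hom (coproductIsCoproduct K) hc ⟨n⟩
  have h1 : e.hom ≫ φ = (𝟙 (∐ K) - DerLim.shiftMap K f) ≫ e.hom := by
    apply Sigma.hom_ext
    intro n
    rw [reassoc_of% (he n), hφ, Preadditive.sub_comp, Preadditive.comp_sub, Category.id_comp,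
      reassoc_of% (ι_shiftMap K f n), he, he]
  have h2 : φ = e.inv ≫ (𝟙 (∐ K) - DerLim.shiftMap K f) ≫ e.hom := by
    rw [← h1, Iso.inv_hom_id_assoc]
  rw [h2]
  infer_instance

end Groth.Agent.Lib.Helper8.SeqColim
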