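import Mathlib
import Groth.Agent.Lib.Helper8.DRing2

/-!
# Helper8 — DRing3: maps in `D(A)` from a complex `M ≤ 0` with projective top to `N[1]`.

`S N := (single (-1)).obj N`.  For `M` with `M^i = 0` (`i > 0`), `M^0` projective:
* `exists_toS`: every `ξ : Q M ⟶ Q (S N)` is `Q.map (toS φ hφ)` for a `φ : M^{-1} ⟶ N` killing `d^{-2}`;
* `Q_map_toS_eq_zero_iff`: `Q.map (toS φ hφ) = 0 ↔ ∃ s : M^0 ⟶ N, φ = d^{-1} ≫ s`.
-/

open CategoryTheory CategoryTheory.Limits CochainComplex.HomComplex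

namespace Groth.Agent.Lib.Helper8.DRing3

open Groth.Agent.Lib.Helper8.DRing2

universe v u

variable {A : Type u} [Category.{v} A] [Abelian A]

/-- the complex `N[1]` -/
noncomputable abbrev S (N : A) : CochainComplex A ℤ :=
  (HomologicalComplex.single A (ComplexShape.up ℤ) (-1)).obj N

/-- chain map `M ⟶ N[1]` from `φ : M^{-1} ⟶ N` with `d ≫ φ = 0`. -/
noncomputable def toS {M : CochainComplex A ℤ} {N : A} (φ : M.X (-1) ⟶ N)
    (hφ : M.d (-2) (-1) ≫ φ = 0) : M ⟶ S N :=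
  HomologicalComplex.mkHomToSingle φ (fun i hi => by
    obtain rfl : i = -2 := by simp at hi; omega
    exact hφ)

@[simp]
lemma toS_f {M : CochainComplex A ℤ} {N : A} (φ : M.X (-1) ⟶ N)
    (hφ : M.d (-2) (-1) ≫ φ = 0) :
    (toS φ hφ).f (-1) = φ ≫ (HomologicalComplex.singleObjXSelf (ComplexShape.up ℤ) (-1) N).inv :=
  HomologicalComplex.mkHomToSingle_f _ _

lemma comp_toS {M K : CochainComplex A ℤ} {N : A} (a : M ⟶ K) (φ : K.X (-1) ⟶ N)
    (hφ : K.d (-2) (-1) ≫ φ = 0) :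
    a ≫ toS φ hφ = toS (a.f (-1) ≫ φ) (by rw [← a.comm_assoc, hφ, comp_zero]) := by
  apply HomologicalComplex.to_single_hom_ext
  simp

lemma exists_eq_toS {M : CochainComplex A ℤ} {N : A} (x : M ⟶ S N) :
    ∃ (φ : M.X (-1) ⟶ N) (hφ : M.d (-2) (-1) ≫ φ = 0), x = toS φ hφ := by
  refine ⟨x.f (-1) ≫ (HomologicalComplex.singleObjXSelf (ComplexShape.up ℤ) (-1) N).hom, ?_, ?_⟩
  · rw [← x.comm_assoc, (HomologicalComplex.isZero_single_obj_X (ComplexShape.up ℤ) (-1) N (-2)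
      (by decide)).eq_of_tgt (x.f (-2)) 0, zero_comp]
  · apply HomologicalComplex.to_single_hom_ext
    simp

lemma homotopy_toS_zero_iff {M : CochainComplex A ℤ} {N : A} (φ : M.X (-1) ⟶ N)
    (hφ : M.d (-2) (-1) ≫ φ = 0) :
    Nonempty (Homotopy (toS φ hφ) 0) ↔ ∃ s : M.X 0 ⟶ N, φ = M.d (-1) 0 ≫ s := by
  constructor
  · rintro ⟨h⟩
    have := h.comm (-1)
    rw [dNext_eq h.hom (show (ComplexShape.up ℤ).Rel (-1) 0 by simp),
      prevD_eq h.hom (show (ComplexShape.up ℤ).Rel (-2) (-1) by simp),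
      HomologicalComplex.single_obj_d, comp_zero, add_zero, HomologicalComplex.zero_f, add_zero,
      toS_f] at this
    refine ⟨h.hom 0 (-1) ≫ (HomologicalComplex.singleObjXSelf (ComplexShape.up ℤ) (-1) N).hom, ?_⟩
    rw [← Category.assoc, ← this, Category.assoc, Iso.inv_hom_id, Category.comp_id]
  · rintro ⟨s, rfl⟩
    refine ⟨(Cochain.equivHomotopy _ 0).symm
      ⟨Cochain.single (s ≫ (HomologicalComplex.singleObjXSelf (ComplexShape.up ℤ) (-1) N).inv) (-1), ?_⟩⟩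
    rw [Cochain.δ_single _ (-1) 0 (by simp) (-1) 0 (by simp) (by simp),
      HomologicalComplex.single_obj_d, comp_zero, Cochain.single_zero, zero_add]
    ext p
    simp only [Cochain.ofHom_v, Cochain.add_v, Int.negOnePow_zero, one_smul,
      HomologicalComplex.zero_f, add_zero]
    by_cases hp : p = -1
    · subst hp
      rw [Cochain.single_v, toS_f, Category.assoc]
    · exact (HomologicalComplex.isZero_single_obj_X (ComplexShape.up ℤ) (-1) N p hp).eq_of_tgt _ _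

variable [EnoughInjectives A] [HasDerivedCategory A]

theorem exists_toS (M : CochainComplex A ℤ) (hM : ∀ i : ℤ, 0 < i → IsZero (M.X i))
    [Projective (M.X 0)] (N : A) (ξ : DerivedCategory.Q.obj M ⟶ DerivedCategory.Q.obj (S N)) :
    ∃ (φ : M.X (-1) ⟶ N) (hφ : M.d (-2) (-1) ≫ φ = 0), ξ = DerivedCategory.Q.map (toS φ hφ) := by
  obtain ⟨ψ, hψ⟩ := (Qh_map_bijective_of_projective_top M (S N) hM (fun i hi =>
    HomologicalComplex.isZero_single_obj_X (ComplexShape.up ℤ) (-1) N i (by omega))).surjective ξ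
  obtain ⟨x, rfl⟩ := (HomotopyCategory.quotient A (.up ℤ)).map_surjective ψ
  obtain ⟨φ, hφ, rfl⟩ := exists_eq_toS x
  exact ⟨φ, hφ, hψ.symm⟩

theorem Q_map_toS_eq_zero_iff (M : CochainComplex A ℤ) (hM : ∀ i : ℤ, 0 < i → IsZero (M.X i))
    [Projective (M.X 0)] {N : A} (φ : M.X (-1) ⟶ N) (hφ : M.d (-2) (-1) ≫ φ = 0) :
    DerivedCategory.Q.map (toS φ hφ) = 0 ↔ ∃ s : M.X 0 ⟶ N, φ = M.d (-1) 0 ≫ s := by
  rw [← homotopy_toS_zero_iff φ hφ]
  constructor
  · intro h
    have hinj := (Qh_map_bijective_of_projective_top M (S N) hM (fun i hi =>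
      HomologicalComplex.isZero_single_obj_X (ComplexShape.up ℤ) (-1) N i (by omega))).injective
    have : (HomotopyCategory.quotient A (.up ℤ)).map (toS φ hφ) =
        (HomotopyCategory.quotient A (.up ℤ)).map 0 := by
      apply hinj
      dsimp only
      rw [Functor.map_zero, Functor.map_zero]
      exact h
    exact ⟨HomotopyCategory.homotopyOfEq _ _ this⟩
  · rintro ⟨h⟩
    change DerivedCategory.Qh.map ((HomotopyCategory.quotient A (.up ℤ)).map (toS φ hφ)) = 0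
    rw [HomotopyCategory.eq_of_homotopy _ _ h, Functor.map_zero, Functor.map_zero]

end Groth.Agent.Lib.Helper8.DRing3

namespace Groth.Agent.Lib.Helper8.DRing3

open CategoryTheory CategoryTheory.Limits

universe v u

variable {A : Type u} [Category.{v} A] [Abelian A] [HasDerivedCategory A]

/-- `N[0][1] ≅ Q (N[1])` in the derived category. -/
noncomputable def eN (N : A) :
    ((DerivedCategory.singleFunctor A 0).obj N)⟦(1 : ℤ)⟧ ≅ DerivedCategory.Q.obj (S N) :=
  ((DerivedCategory.singleFunctors A).shiftIso 1 (-1) 0 (by simp)).app N ≪≫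
    (DerivedCategory.singleFunctorIsoCompQ A (-1)).app N

variable [EnoughInjectives A]

/-- S7106 in general form. -/
theorem ext_one_map_zero_iff (M K : CochainComplex A ℤ)
    (hM : ∀ i : ℤ, 0 < i → IsZero (M.X i)) [Projective (M.X 0)]
    (hK : ∀ i : ℤ, i ≠ -1 → i ≠ 0 → IsZero (K.X i)) [Projective (K.X 0)]
    (a : M ⟶ K) :
    (∀ (N : A) (ξ : DerivedCategory.Q.obj K ⟶ ((DerivedCategory.singleFunctor A 0).obj N)⟦(1 : ℤ)⟧),
        DerivedCategory.Q.map a ≫ ξ = 0) ↔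
      ∃ h : M.X 0 ⟶ K.X (-1), a.f (-1) + M.d (-1) 0 ≫ h = 0 := by
  have hK' : ∀ i : ℤ, 0 < i → IsZero (K.X i) := fun i hi => hK i (by omega) (by omega)
  constructor
  · intro H
    have hφ : K.d (-2) (-1) ≫ 𝟙 (K.X (-1)) = 0 :=
      (hK (-2) (by decide) (by decide)).eq_of_src _ _
    have h1 := H (K.X (-1)) (DerivedCategory.Q.map (toS (𝟙 _) hφ) ≫ (eN (K.X (-1))).inv)
    rw [← Category.assoc, ← Functor.map_comp, comp_toS] at h1
    have h2 := (Q_map_toS_eq_zero_iff M hM _ _).1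
      (by rw [← cancel_mono (eN (K.X (-1))).inv, h1, zero_comp])
    obtain ⟨s, hs⟩ := h2
    refine ⟨-s, ?_⟩
    rw [Category.comp_id] at hs
    rw [hs, Preadditive.comp_neg, add_neg_cancel]
  · rintro ⟨h, hh⟩ N ξ
    obtain ⟨φ, hφ, hξ⟩ := exists_toS K hK' N (ξ ≫ (eN N).hom)
    rw [← cancel_mono (eN N).hom, Category.assoc, hξ, zero_comp, ← Functor.map_comp, comp_toS,
      Q_map_toS_eq_zero_iff M hM]
    refine ⟨-(h ≫ φ), ?_⟩
    rw [Preadditive.comp_neg, ← Category.assoc, ← Preadditive.neg_comp, ← eq_neg_of_add_eq_zero_left hh]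

end Groth.Agent.Lib.Helper8.DRing3
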