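import Mathlib
import Groth.Agent.Lib.Helper8.DRing3
import Groth.Agent.Lib.Helper8.DRing4

/-!
# Helper8 — DRing5: two-term complexes: terms of mapping cones, homology of split two-term complexes,
`Ext^1`-vanishing criterion (S7077).
-/

open CategoryTheory CategoryTheory.Limits DerivedCategory CategoryTheory.Pretriangulated

namespace Groth.Agent.Lib.Helper8.DRing5

open Groth.Agent.Lib.Helper8.DRing2 Groth.Agent.Lib.Helper8.DRing3 Groth.Agent.Lib.Helper8.DRing4

universe w v u

variable {A : Type u} [Category.{v} A] [Abelian A]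

/-- `cone(φ)^p ≅ L^p` when `K^{p+1} = 0`. -/
noncomputable def mappingConeXIso {K L : CochainComplex A ℤ} (φ : K ⟶ L) (p : ℤ)
    (h : IsZero (K.X (p + 1))) : (CochainComplex.mappingCone φ).X p ≅ L.X p where
  hom := (CochainComplex.mappingCone.snd φ).v p p (add_zero p)
  inv := (CochainComplex.mappingCone.inr φ).f p
  hom_inv_id := by
    rw [← CochainComplex.mappingCone.id_X φ p (p + 1) rfl,
      h.eq_of_tgt ((CochainComplex.mappingCone.fst φ).1.v p (p + 1) rfl) 0, zero_comp, zero_add]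
  inv_hom_id := CochainComplex.mappingCone.inr_f_snd_v φ p

/-- `cone(φ)^p ≅ K^{p+1}` when `L^p = 0`. -/
noncomputable def mappingConeXIso' {K L : CochainComplex A ℤ} (φ : K ⟶ L) (p : ℤ)
    (h : IsZero (L.X p)) : (CochainComplex.mappingCone φ).X p ≅ K.X (p + 1) where
  hom := (CochainComplex.mappingCone.fst φ).1.v p (p + 1) rfl
  inv := (CochainComplex.mappingCone.inl φ).v (p + 1) p (by omega)
  hom_inv_id := by
    rw [← CochainComplex.mappingCone.id_X φ p (p + 1) rfl,
      h.eq_of_tgt ((CochainComplex.mappingCone.snd φ).v p p (add_zero p)) 0, zero_comp, add_zero]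
  inv_hom_id := CochainComplex.mappingCone.inl_v_fst_v φ (p + 1) p rfl

/-- the two-term complex attached to `g : G ⟶ P`. -/
noncomputable abbrev twoTerm {G P : A} (g : G ⟶ P) : CochainComplex A ℤ :=
  CochainComplex.mappingCone ((CochainComplex.singleFunctor A 0).map g)

lemma isZero_twoTerm_X {G P : A} (g : G ⟶ P) (i : ℤ) (h1 : i ≠ -1) (h0 : i ≠ 0) :
    IsZero ((twoTerm g).X i) :=
  isZero_mappingCone_X _ i
    (HomologicalComplex.isZero_single_obj_X (ComplexShape.up ℤ) 0 G (i + 1) (by omega))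
    (HomologicalComplex.isZero_single_obj_X (ComplexShape.up ℤ) 0 P i h0)

/-- `E^0 ≅ P`. -/
noncomputable def twoTermXZeroIso {G P : A} (g : G ⟶ P) : (twoTerm g).X 0 ≅ P :=
  mappingConeXIso _ 0 (HomologicalComplex.isZero_single_obj_X (ComplexShape.up ℤ) 0 G (0 + 1)
    (by decide)) ≪≫ HomologicalComplex.singleObjXSelf (ComplexShape.up ℤ) 0 P

/-- `E^{-1} ≅ G`. -/
noncomputable def twoTermXNegOneIso {G P : A} (g : G ⟶ P) : (twoTerm g).X (-1) ≅ G :=
  mappingConeXIso' _ (-1) (HomologicalComplex.isZero_single_obj_X (ComplexShape.up ℤ) 0 P (-1)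
    (by decide)) ≪≫ HomologicalComplex.singleObjXSelf (ComplexShape.up ℤ) 0 G

instance {G P : A} (g : G ⟶ P) [Projective P] : Projective ((twoTerm g).X 0) :=
  Projective.of_iso (twoTermXZeroIso g).symm inferInstance

/-- (H1) -/
lemma isZero_homology_negOne_of_mono (E : CochainComplex A ℤ) (hE : IsZero (E.X (-2)))
    [Mono (E.d (-1) 0)] : IsZero (E.homology (-1)) := by
  rw [← HomologicalComplex.exactAt_iff_isZero_homology,
    E.exactAt_iff' (-2) (-1) 0 (by simp) (by simp)]
  exact (ShortComplex.exact_iff_mono _ (hE.eq_of_src _ _)).2 (inferInstanceAs (Mono (E.d (-1) 0)))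

/-- (H0) -/
lemma projective_homology_zero_of_split (E : CochainComplex A ℤ) (hE : IsZero (E.X 1))
    [Projective (E.X 0)] (s : E.X 0 ⟶ E.X (-1)) (hs : E.d (-1) 0 ≫ s = 𝟙 _) :
    Projective (E.homology 0) := by
  have hd : E.d 0 1 = 0 := hE.eq_of_tgt _ _
  let σ : E.opcycles 0 ⟶ E.X 0 := E.descOpcycles (𝟙 _ - s ≫ E.d (-1) 0) (-1) (by simp) (by
    rw [Preadditive.comp_sub, Category.comp_id, ← Category.assoc, hs, Category.id_comp, sub_self])
  have hσ : σ ≫ E.pOpcycles 0 = 𝟙 _ := by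
    rw [← cancel_epi (E.pOpcycles 0), ← Category.assoc, E.p_descOpcycles, Preadditive.sub_comp,
      Category.id_comp, Category.assoc, E.d_pOpcycles, comp_zero, sub_zero, Category.comp_id]
  have : Projective (E.opcycles 0) := Retract.projective ⟨σ, E.pOpcycles 0, hσ⟩
  exact Projective.of_iso (E.isoHomologyι 0 1 (by simp) hd).symm this


variable [HasDerivedCategory.{w} A]

open Groth.Agent.Lib.Helper8.DTrunc in
/-- (⇒) of S7077. -/
theorem hom_shift_single_eq_zero_of_projective (K : DerivedCategory A) [K.IsGE 0] [K.IsLE 0]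
    [Projective ((homologyFunctor A 0).obj K)] (N : A)
    (ξ : K ⟶ ((singleFunctor A 0).obj N)⟦(1 : ℤ)⟧) : ξ = 0 := by
  obtain ⟨M, ⟨e⟩⟩ := exists_iso_singleFunctor_obj_of_isGE_of_isLE K 0
  have : Projective M := Projective.of_iso ((homologyFunctor A 0).mapIso e ≪≫
    (singleFunctorCompHomologyFunctorIso A 0).app M) inferInstance
  have : tt.IsLE (((singleFunctor A 0).obj N)⟦(1 : ℤ)⟧) (-1) :=
    tt.isLE_shift ((singleFunctor A 0).obj N) 0 1 (-1)
  have h := @hom_single_projective_eq_zero _ _ _ _ M _ (((singleFunctor A 0).obj N)⟦(1 : ℤ)⟧) (-1)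
    (by decide) this (e.inv ≫ ξ)
  rw [← cancel_epi e.inv, h, comp_zero]

variable [EnoughInjectives A]

/-- key step of (⇐) of S7077: if all maps `Q E ⟶ N[0][1]` vanish then `d^{-1}` is a split mono. -/
theorem exists_retraction_of_ext_vanishing (E : CochainComplex A ℤ)
    (hE : ∀ i : ℤ, i ≠ -1 → i ≠ 0 → IsZero (E.X i)) [Projective (E.X 0)]
    (H : ∀ (N : A) (ξ : Q.obj E ⟶ ((singleFunctor A 0).obj N)⟦(1 : ℤ)⟧), ξ = 0) :
    ∃ s : E.X 0 ⟶ E.X (-1), E.d (-1) 0 ≫ s = 𝟙 _ := by
  have hφ : E.d (-2) (-1) ≫ 𝟙 (E.X (-1)) = 0 := (hE (-2) (by decide) (by decide)).eq_of_src _ _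
  have h1 := H (E.X (-1)) (Q.map (toS (𝟙 _) hφ) ≫ (eN (E.X (-1))).inv)
  have h2 : Q.map (toS (𝟙 _) hφ) = 0 := by
    rw [← cancel_mono (eN (E.X (-1))).inv, h1, zero_comp]
  obtain ⟨s, hs⟩ := (Q_map_toS_eq_zero_iff E (fun i hi => hE i (by omega) (by omega)) _ _).1 h2
  exact ⟨s, hs.symm⟩

variable [EnoughProjectives A]

/-- S7077, general form. -/
theorem twoTerm_ext_vanishing_iff (K : DerivedCategory A) [K.IsGE (-1)] [K.IsLE 0] :
    (IsZero ((homologyFunctor A (-1)).obj K) ∧ Projective ((homologyFunctor A 0).obj K)) ↔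
      ∀ (N : A) (ξ : K ⟶ ((singleFunctor A 0).obj N)⟦(1 : ℤ)⟧), ξ = 0 := by
  constructor
  · rintro ⟨h1, h2⟩ N ξ
    have : K.IsGE 0 := (isGE_iff K 0).2 (fun i hi => by
      by_cases h : i = -1
      · subst h; exact h1
      · exact isZero_of_isGE K (-1) i (by omega))
    exact hom_shift_single_eq_zero_of_projective K N ξ
  · intro H
    obtain ⟨G, g, u, hu, hex, ⟨e⟩⟩ := exists_twoTerm K (Projective.over _) (Projective.π _)
    set E := twoTerm g with hEdef
    have hE : ∀ i : ℤ, i ≠ -1 → i ≠ 0 → IsZero (E.X i) := isZero_twoTerm_X g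
    obtain ⟨s, hs⟩ := exists_retraction_of_ext_vanishing E hE (fun N ξ => by
      have := H N (e.hom ≫ ξ)
      rw [← cancel_epi e.hom, this, comp_zero])
    have : Mono (E.d (-1) 0) := mono_of_mono_fac hs
    have i1 : (homologyFunctor A (-1)).obj K ≅ E.homology (-1) :=
      (homologyFunctor A (-1)).mapIso e ≪≫ (homologyFunctorFactors A (-1)).app E
    have i0 : (homologyFunctor A 0).obj K ≅ E.homology 0 :=
      (homologyFunctor A 0).mapIso e ≪≫ (homologyFunctorFactors A 0).app E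
    exact ⟨(isZero_homology_negOne_of_mono E (hE (-2) (by decide) (by decide))).of_iso i1,
      Projective.of_iso i0.symm
        (projective_homology_zero_of_split E (hE 1 (by decide) (by decide)) s hs)⟩

end Groth.Agent.Lib.Helper8.DRing5
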