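import Mathlib
import Groth.Agent.Lib.Helper8.PAmp2
import Groth.Agent.Lib.Helper8.DRing5

/-!
# Helper8 — PAmp3: `Ext`-vanishing criterion for projective amplitude (normalized at `a = 0`).
-/

open CategoryTheory CategoryTheory.Limits DerivedCategory CategoryTheory.Pretriangulated

namespace Groth.Agent.Lib.Helper8.PAmp

open Groth.Agent.Lib.Helper8.DRing5 Groth.Agent.Lib.Helper8.DTrunc

universe w v u

variable {A : Type u} [Category.{v} A] [Abelian A] [HasDerivedCategory.{w} A]

lemma hasProjAmp_single (b : ℤ) (P : A) [Projective P] :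
    HasProjAmp b b ((singleFunctor A b).obj P) :=
  ⟨(CochainComplex.singleFunctor A b).obj P,
    fun i hi => HomologicalComplex.isZero_single_obj_X (ComplexShape.up ℤ) b P i (by omega),
    projective_single_X b P, ⟨Iso.refl _⟩⟩

variable [EnoughInjectives A] [EnoughProjectives A]

/-- (PA0) -/
theorem hasProjAmp_of_ext_vanishing₀ : ∀ (b : ℕ) (K : DerivedCategory A), K.IsGE (-1) → K.IsLE b →
    (∀ (N : A) (ξ : K ⟶ ((singleFunctor A 0).obj N)⟦(1 : ℤ)⟧), ξ = 0) → HasProjAmp 0 b K := by
  intro b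
  induction b with
  | zero =>
    intro K hGE hLE H
    have hLE' : K.IsLE 0 := hLE
    obtain ⟨hz, hp⟩ := (twoTerm_ext_vanishing_iff K).2 H
    have : K.IsGE 0 := (isGE_iff K 0).2 (fun i hi => by
      by_cases h : i = -1
      · subst h; exact hz
      · exact isZero_of_isGE K (-1) i (by omega))
    obtain ⟨M, ⟨e⟩⟩ := exists_iso_singleFunctor_obj_of_isGE_of_isLE K 0
    have : Projective M := Projective.of_iso ((homologyFunctor A 0).mapIso e ≪≫
      (singleFunctorCompHomologyFunctorIso A 0).app M) hp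
    exact (hasProjAmp_single 0 M).of_iso e.symm
  | succ b ih =>
    intro K hGE hLE H
    have hLE' : K.IsLE ((b : ℤ) + 1) := by
      have := hLE
      push_cast at this
      exact this
    set b' : ℤ := (b : ℤ) + 1 with hb'
    let P := Projective.over ((homologyFunctor A b').obj K)
    obtain ⟨β, hβ⟩ := exists_lift_of_projective b' P K (Projective.π _)
    have hβepi : Epi ((homologyFunctor A b').map β) := by rw [hβ]; infer_instance
    obtain ⟨C, c, d, hT⟩ := distinguished_cocone_triangle β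
    obtain ⟨hC1, hC2⟩ := peel b' P K β hβepi c d hT
    have hC1' : C.IsLE (b : ℤ) := by
      have : b' - 1 = (b : ℤ) := by omega
      rwa [this] at hC1
    have hC2' : C.IsGE (-1) := hC2 (-1) (by omega) hGE
    have hCH : ∀ (N : A) (ξ : C ⟶ ((singleFunctor A 0).obj N)⟦(1 : ℤ)⟧), ξ = 0 := by
      intro N ξ
      have h1 : c ≫ ξ = 0 := H N (c ≫ ξ)
      obtain ⟨s, hs⟩ : ∃ s : ((singleFunctor A b').obj P)⟦(1 : ℤ)⟧ ⟶
          ((singleFunctor A 0).obj N)⟦(1 : ℤ)⟧, ξ = d ≫ s := Triangle.yoneda_exact₃ _ hT ξ h1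
      obtain ⟨s', rfl⟩ := (shiftFunctor (DerivedCategory A) (1 : ℤ)).map_surjective s
      have : s' = 0 := hom_single_projective_eq_zero b' P _ 0 (by omega) s'
      rw [hs, this, Functor.map_zero, comp_zero]
    have hCamp := ih C hC2' hC1' hCH
    exact HasProjAmp.of_triangle (Triangle.mk β c d) hT (hasProjAmp_single b' P) hCamp
      ⟨by omega, le_rfl⟩ ⟨by push_cast; omega, by push_cast; omega⟩

end Groth.Agent.Lib.Helper8.PAmp
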