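import Mathlib
import Groth.Agent.Lib.Helper8.PAmp3

/-!
# Helper8 — PAmp4: `Ext`-vanishing criterion for projective amplitude, general `a`.
-/

open CategoryTheory CategoryTheory.Limits DerivedCategory CategoryTheory.Pretriangulated

namespace Groth.Agent.Lib.Helper8.PAmp

open Groth.Agent.Lib.Helper8.DTrunc

open ZeroObject

universe w v u

variable {A : Type u} [Category.{v} A] [Abelian A] [HasDerivedCategory.{w} A]

lemma HasProjAmp.shift {a b : ℤ} {K : DerivedCategory A} (h : HasProjAmp a b K) (m a' b' : ℤ)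
    (ha : a' + m = a) (hb : b' + m = b) : HasProjAmp a' b' (K⟦m⟧) := by
  obtain ⟨P, h1, h2, ⟨e⟩⟩ := h
  refine ⟨P⟦m⟧, ?_, ?_, ⟨(Q.commShiftIso m).app P ≪≫ (shiftFunctor _ m).mapIso e⟩⟩
  · intro i hi
    change IsZero (P.X (i + m))
    exact h1 _ (by omega)
  · intro i
    change Projective (P.X (i + m))
    exact h2 _

lemma hasProjAmp_of_isZero {a b : ℤ} {K : DerivedCategory A} (hK : IsZero K) : HasProjAmp a b K :=
  ⟨0, fun i _ => (HomologicalComplex.eval A (ComplexShape.up ℤ) i).map_isZero (isZero_zero _),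
    fun i => ((HomologicalComplex.eval A (ComplexShape.up ℤ) i).map_isZero (isZero_zero _)).projective,
    ⟨(Functor.map_isZero Q (isZero_zero _)).iso hK⟩⟩

variable [EnoughInjectives A] [EnoughProjectives A]

/-- (PA') `Ext`-vanishing criterion: `K ∈ D^{[a-1,b]}` with `Hom(K, N[-a+1]) = 0` for all `N` has
projective amplitude in `[a, b]`. -/
theorem hasProjAmp_of_ext_vanishing (a b : ℤ) (K : DerivedCategory A) [K.IsGE (a - 1)] [K.IsLE b]
    (H : ∀ (N : A) (ξ : K ⟶ ((singleFunctor A 0).obj N)⟦(-a + 1 : ℤ)⟧), ξ = 0) :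
    HasProjAmp a b K := by
  by_cases hab : a ≤ b
  · obtain ⟨n, hn⟩ : ∃ n : ℕ, (n : ℤ) = b - a := ⟨(b - a).toNat, Int.toNat_of_nonneg (by omega)⟩
    have h1 : (K⟦a⟧).IsGE (-1) := tt.isGE_shift K (a - 1) a (-1)
    have h2 : (K⟦a⟧).IsLE (n : ℤ) := tt.isLE_shift K b a n
    have H' : ∀ (N : A) (ξ : K⟦a⟧ ⟶ ((singleFunctor A 0).obj N)⟦(1 : ℤ)⟧), ξ = 0 := by
      intro N ξ
      have h3 := H N ((shiftFunctorCompIsoId (DerivedCategory A) a (-a) (by omega)).inv.app K ≫
        ξ⟦(-a : ℤ)⟧' ≫ (shiftFunctorAdd' (DerivedCategory A) (1 : ℤ) (-a) (-a + 1) (by omega)).inv.app _)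
      have h4 : ξ⟦(-a : ℤ)⟧' = 0 := by
        rw [← cancel_epi ((shiftFunctorCompIsoId (DerivedCategory A) a (-a) (by omega)).inv.app K),
          ← cancel_mono ((shiftFunctorAdd' (DerivedCategory A) (1 : ℤ) (-a) (-a + 1)
            (by omega)).inv.app _), Category.assoc, h3, comp_zero, zero_comp]
      exact (shiftFunctor (DerivedCategory A) (-a)).map_injective (h4.trans (Functor.map_zero _ _ _).symm)
    have h5 := hasProjAmp_of_ext_vanishing₀ n (K⟦a⟧) h1 h2 H'
    exact (h5.shift (-a) a b (by omega) (by omega)).of_iso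
      ((shiftFunctorCompIsoId (DerivedCategory A) a (-a) (by omega)).app K)
  · have h1 : K.IsLE (a - 1) := tt.isLE_of_le K b (a - 1) (by omega)
    obtain ⟨M, ⟨e⟩⟩ := exists_iso_singleFunctor_obj_of_isGE_of_isLE K (a - 1)
    have h3 := H M (e.hom ≫
      ((singleFunctors A).shiftIso (-a + 1) (a - 1) 0 (by omega)).inv.app M)
    have hK : IsZero K := by
      rw [IsZero.iff_id_eq_zero]
      rw [← cancel_mono (e.hom ≫
        ((singleFunctors A).shiftIso (-a + 1) (a - 1) 0 (by omega)).inv.app M), h3, comp_zero, zero_comp]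
    exact hasProjAmp_of_isZero hK

end Groth.Agent.Lib.Helper8.PAmp
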