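import Mathlib
import Groth.Agent.Lib.Helper8.PAmp1

/-!
# Helper8 — PAmp5: maps to injectives: `(V)` and `(Lift)` dualized; detecting vanishing of cohomology.
-/

open CategoryTheory CategoryTheory.Limits DerivedCategory CategoryTheory.Pretriangulated

namespace Groth.Agent.Lib.Helper8.PAmp

open Groth.Agent.Lib.Helper8.DRing4 Groth.Agent.Lib.Helper8.DTrunc

universe w v u

variable {A : Type u} [Category.{v} A] [Abelian A] [HasDerivedCategory.{w} A]

lemma injective_single_X (b : ℤ) (N : A) [Injective N] (n : ℤ) :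
    Injective (((CochainComplex.singleFunctor A b).obj N).X n) := by
  by_cases h : n = b
  · subst h
    exact Injective.of_iso (HomologicalComplex.singleObjXSelf (ComplexShape.up ℤ) n N).symm
      inferInstance
  · exact (HomologicalComplex.isZero_single_obj_X (ComplexShape.up ℤ) b N n h).injective

lemma isKInjective_single (b : ℤ) (N : A) [Injective N] :
    ((CochainComplex.singleFunctor A b).obj N).IsKInjective :=
  haveI := injective_single_X b N
  CochainComplex.isKInjective_of_injective _ b

/-- dual (V): no maps from `D^{≥ m}` to `N[-n]` for `N` injective, `n < m`. -/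
theorem hom_single_injective_eq_zero (n : ℤ) (N : A) [Injective N] (X : DerivedCategory A) (m : ℤ)
    (hm : n < m) [X.IsGE m] (α : X ⟶ (singleFunctor A n).obj N) : α = 0 := by
  obtain ⟨L, hL, ⟨e⟩⟩ := X.exists_iso_Q_obj_of_isGE m
  have := isKInjective_single n N
  obtain ⟨ψ, hψ⟩ := (CochainComplex.IsKInjective.Qh_map_bijective
    ((HomotopyCategory.quotient A (.up ℤ)).obj L)
    ((CochainComplex.singleFunctor A n).obj N)).surjective (e.inv ≫ α)
  obtain ⟨f, rfl⟩ := (HomotopyCategory.quotient A (.up ℤ)).map_surjective ψ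
  have hf0 : f = 0 := by
    apply HomologicalComplex.to_single_hom_ext
    exact (L.isZero_of_isStrictlyGE m n hm).eq_of_src _ _
  subst hf0
  have h2 : e.inv ≫ α = 0 := hψ.symm.trans (by
    change Q.map (0 : L ⟶ _) = 0
    exact Functor.map_zero _ _ _)
  exact (cancel_epi e.inv).1 (h2.trans comp_zero.symm)

lemma isIso_homologyMap_truncLTι (X : DerivedCategory A) (b i : ℤ) (hi : i < b) :
    IsIso ((homologyFunctor A i).map ((tt.truncLTι b).app X)) := by
  have hT := tt.triangleLTGE_distinguished b X
  have := mono_homologyMap_truncLTι X b i hi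
  have : Epi ((homologyFunctor A i).map ((tt.truncLTι b).app X)) :=
    (HomologySequence.epi_homologyMap_mor₁_iff _ hT i).2
      ((isZero_of_isGE ((tt.truncGE b).obj X) b i hi).eq_of_tgt _ _)
  exact isIso_of_mono_of_epi _

/-- dual (Lift), for `K ∈ D^{≥ n}`. -/
theorem exists_extend_to_injective (n : ℤ) (N : A) [Injective N] (K : DerivedCategory A) [K.IsGE n]
    (φ : (homologyFunctor A n).obj K ⟶ N) :
    ∃ ξ : K ⟶ (singleFunctor A n).obj N,
      (homologyFunctor A n).map ξ = φ ≫ (singleFunctorCompHomologyFunctorIso A n).inv.app N := by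
  have hT := tt.triangleLTGE_distinguished (n + 1) K
  set T := (tt.truncLT (n + 1)).obj K with hTdef
  set ι : T ⟶ K := (tt.truncLTι (n + 1)).app K with hι
  have : T.IsGE n := (inferInstance : tt.IsGE ((tt.truncLT (n + 1)).obj K) n)
  have : T.IsLE n := (inferInstance : tt.IsLE ((tt.truncLT (n + 1)).obj K) n)
  have hιiso : IsIso ((homologyFunctor A n).map ι) := isIso_homologyMap_truncLTι K (n + 1) n (by omega)
  obtain ⟨M, ⟨e⟩⟩ := exists_iso_singleFunctor_obj_of_isGE_of_isLE T n
  let φ' : M ⟶ N := (singleFunctorCompHomologyFunctorIso A n).inv.app M ≫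
    (homologyFunctor A n).map e.inv ≫ (homologyFunctor A n).map ι ≫ φ
  let α : T ⟶ (singleFunctor A n).obj N := e.hom ≫ (singleFunctor A n).map φ'
  have hα : (homologyFunctor A n).map α =
      (homologyFunctor A n).map ι ≫ φ ≫ (singleFunctorCompHomologyFunctorIso A n).inv.app N := by
    have nat := (singleFunctorCompHomologyFunctorIso A n).inv.naturality φ'
    simp only [Functor.comp_obj, Functor.comp_map, Functor.id_obj, Functor.id_map] at nat
    have h1 : (homologyFunctor A n).map ((singleFunctor A n).map φ') =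
        (singleFunctorCompHomologyFunctorIso A n).hom.app M ≫ φ' ≫
          (singleFunctorCompHomologyFunctorIso A n).inv.app N := by
      rw [nat, ← Category.assoc, Iso.hom_inv_id_app]
      exact (Category.id_comp _).symm
    rw [Functor.map_comp, h1]
    simp only [φ', Category.assoc, Iso.hom_inv_id_app_assoc]
    rw [← Functor.map_comp_assoc, e.hom_inv_id, CategoryTheory.Functor.map_id, Category.id_comp]
  -- extend α along ι
  have hTi := inv_rot_of_distTriang _ hT
  have : tt.IsGE ((tt.truncGE (n + 1)).obj K) (n + 1) := inferInstance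
  have hge : tt.IsGE (((tt.truncGE (n + 1)).obj K)⟦(-1 : ℤ)⟧) (n + 2) :=
    tt.isGE_shift ((tt.truncGE (n + 1)).obj K) (n + 1) (-1) (n + 2)
  have h0 : ((tt.triangleLTGE (n + 1)).obj K).invRotate.mor₁ ≫ α = 0 :=
    @hom_single_injective_eq_zero _ _ _ _ n N _ (((tt.truncGE (n + 1)).obj K)⟦(-1 : ℤ)⟧) (n + 2)
      (by omega) hge _
  obtain ⟨ξ, hξ⟩ : ∃ ξ : K ⟶ (singleFunctor A n).obj N, α = ι ≫ ξ :=
    Triangle.yoneda_exact₂ _ hTi α h0
  refine ⟨ξ, ?_⟩
  rw [← cancel_epi ((homologyFunctor A n).map ι), ← Functor.map_comp, ← hξ, hα]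

variable [EnoughInjectives A]

/-- if all maps `K ⟶ N[-n]` (`N` injective) vanish, then `H^n(K) = 0`. -/
theorem isZero_homology_of_hom_injective_eq_zero (n : ℤ) (K : DerivedCategory A)
    (H : ∀ (N : A) [Injective N] (ξ : K ⟶ (singleFunctor A n).obj N), ξ = 0) :
    IsZero ((homologyFunctor A n).obj K) := by
  let K' := (tt.truncGE n).obj K
  have : K'.IsGE n := (inferInstance : tt.IsGE ((tt.truncGE n).obj K) n)
  have hπ := isIso_homologyMap_truncGEπ K n
  let N := Injective.under ((homologyFunctor A n).obj K')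
  obtain ⟨ξ, hξ⟩ := exists_extend_to_injective n N K' (Injective.ι _)
  have h1 := H N ((tt.truncGEπ n).app K ≫ ξ)
  have h2 : (homologyFunctor A n).map ξ = 0 := by
    rw [← cancel_epi ((homologyFunctor A n).map ((tt.truncGEπ n).app K)), ← Functor.map_comp, h1,
      Functor.map_zero, comp_zero]
  have h3 : Injective.ι ((homologyFunctor A n).obj K') = 0 := by
    rw [← cancel_mono ((singleFunctorCompHomologyFunctorIso A n).inv.app N), ← hξ, h2, zero_comp]
  have h4 : IsZero ((homologyFunctor A n).obj K') := by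
    rw [IsZero.iff_id_eq_zero, ← cancel_mono (Injective.ι ((homologyFunctor A n).obj K')), h3,
      comp_zero, comp_zero]
  exact h4.of_iso (asIso ((homologyFunctor A n).map ((tt.truncGEπ n).app K)))

end Groth.Agent.Lib.Helper8.PAmp
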