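import Mathlib
import Groth.Prelude.Def_DRing2
import Groth.Agent.Lib.Helper8.PAmp4
import Groth.Agent.Lib.Helper8.PAmp5

/-!
# Helper8 — PAmp6: projective amplitude TFAE over a ring (S6964).
-/

open CategoryTheory CategoryTheory.Limits DerivedCategory CategoryTheory.Pretriangulated

attribute [local instance] HasDerivedCategory.standard

namespace Groth.Agent.Lib.Helper8.PAmp

open Groth.Agent.Lib.Helper8.DTrunc

universe u

variable {R : Type u} [CommRing R]

lemma hasProjAmp_iff (a b : ℤ) (K : Dual.D R) :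
    (∃ P : DRing.Cx R, DRing.VanishesOutside P a b ∧ (∀ i : ℤ, Module.Projective R (P.X i)) ∧
        Nonempty (DRing.toD P ≅ K)) ↔ HasProjAmp a b K := by
  constructor
  · rintro ⟨P, h1, h2, h3⟩
    exact ⟨P, h1, fun i => (IsProjective.iff_projective _).1 (h2 i), h3⟩
  · rintro ⟨P, h1, h2, h3⟩
    exact ⟨P, h1, fun i => (IsProjective.iff_projective _).2 (h2 i), h3⟩

lemma HasProjAmp.isLE {A : Type*} [Category A] [Abelian A] [HasDerivedCategory A] {a b : ℤ}
    {K : DerivedCategory A} (h : HasProjAmp a b K) : K.IsLE b := by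
  obtain ⟨P, h1, h2, ⟨e⟩⟩ := h
  have : P.IsStrictlyLE b := by
    rw [CochainComplex.isStrictlyLE_iff]
    exact fun i hi => h1 i (Or.inr hi)
  exact tt.isLE_of_iso e b

lemma isZero_homology_of_ext (K : Dual.D R) (n : ℤ)
    (H : ∀ (N : Type u) [AddCommGroup N] [Module R N], Subsingleton (K ⟶ (Dual.inD R N)⟦(-n : ℤ)⟧)) :
    Subsingleton (Dual.HD R K n) := by
  rw [← ModuleCat.isZero_iff_subsingleton]
  refine isZero_homology_of_hom_injective_eq_zero n K (fun N _ ξ => ?_)
  have h1 := (H N).elim (ξ ≫ ((singleFunctors (ModuleCat.{u} R)).shiftIso (-n) n 0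
    (by omega)).inv.app N) 0
  rw [← cancel_mono (((singleFunctors (ModuleCat.{u} R)).shiftIso (-n) n 0
    (by omega)).inv.app N), zero_comp]
  exact h1

/-- S6964 -/
theorem projectiveAmplitude_tfae (K : Dual.D R) (a b : ℤ) :
    [∃ P : DRing.Cx R, DRing.VanishesOutside P a b ∧ (∀ i : ℤ, Module.Projective R (P.X i)) ∧
        Nonempty (DRing.toD P ≅ K),
      ∀ (N : Type u) [AddCommGroup N] [Module R N] (i : ℤ), (i < -b ∨ -a < i) →
        Subsingleton (DRing.ExtD R K (Dual.inD R N) i),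
      (∀ n : ℤ, b < n → Subsingleton (Dual.HD R K n)) ∧
        ∀ (N : Type u) [AddCommGroup N] [Module R N] (i : ℤ), -a < i →
          Subsingleton (DRing.ExtD R K (Dual.inD R N) i),
      (∀ n : ℤ, (n < a - 1 ∨ b < n) → Subsingleton (Dual.HD R K n)) ∧
        ∀ (N : Type u) [AddCommGroup N] [Module R N],
          Subsingleton (DRing.ExtD R K (Dual.inD R N) (-a + 1))].TFAE := by
  tfae_have 1 → 2 := by
    rw [hasProjAmp_iff]
    intro h N _ _ i hi
    refine ⟨fun x y => ?_⟩
    suffices ∀ ξ : K ⟶ (Dual.inD R N)⟦i⟧, ξ = 0 from (this x).trans (this y).symm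
    intro ξ
    rcases hi with hi | hi
    · have := h.isLE
      have : ((Dual.inD R N)⟦i⟧).IsGE (-i) := tt.isGE_shift (Dual.inD R N) 0 i (-i)
      exact tt.zero ξ b (-i) (by omega)
    · have : ((Dual.inD R N)⟦i⟧).IsLE (-i) := tt.isLE_shift (Dual.inD R N) 0 i (-i)
      exact h.hom_eq_zero _ (-i) (by omega) ξ
  tfae_have 2 → 3 := by
    intro H
    refine ⟨fun n hn => isZero_homology_of_ext K n (fun N _ _ => H N (-n) (Or.inl (by omega))),
      fun N _ _ i hi => H N i (Or.inr hi)⟩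
  tfae_have 3 → 4 := by
    rintro ⟨H1, H2⟩
    refine ⟨fun n hn => ?_, fun N _ _ => H2 N (-a + 1) (by omega)⟩
    rcases hn with hn | hn
    · exact isZero_homology_of_ext K n (fun N _ _ => H2 N (-n) (by omega))
    · exact H1 n hn
  tfae_have 4 → 1 := by
    rintro ⟨H1, H2⟩
    rw [hasProjAmp_iff]
    have : K.IsGE (a - 1) := (isGE_iff K (a - 1)).2 (fun i hi =>
      ModuleCat.isZero_iff_subsingleton.2 (H1 i (Or.inl hi)))
    have : K.IsLE b := (isLE_iff K b).2 (fun i hi =>
      ModuleCat.isZero_iff_subsingleton.2 (H1 i (Or.inr hi)))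
    exact hasProjAmp_of_ext_vanishing a b K (fun N ξ => (H2 N).elim _ _)
  tfae_finish

end Groth.Agent.Lib.Helper8.PAmp
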