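import Mathlib

/-! # Helper8 — Bid1: module-level biduality dévissage: for a contravariant additive functor `T` from `A`-modules (A noetherian) to a triangulated category sending short exact sequences to distinguished triangles, if `A → Hom(T A, W[0])` is bijective, `Hom(T A, W[i]) = 0` for `i ≠ 0` and `Hom(T M, W[i]) = 0` for `i > c` uniformly in finite `M`, then `M → Hom(T M, W[0])` is bijective and `Hom(T M, W[i]) = 0` (`i ≠ 0`) for all finite `M` -/

set_option autoImplicit false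

universe v' u' u

open CategoryTheory CategoryTheory.Limits CategoryTheory.Pretriangulated Opposite

namespace Groth.Agent.Lib.Helper8.Bidual

section Tri

variable {C : Type u'} [Category.{v'} C] [Preadditive C] [HasZeroObject C] [HasShift C ℤ]
  [∀ n : ℤ, (shiftFunctor C n).Additive] [Pretriangulated C]

/-- exactness of `Hom(-, X)` at the first vertex of a distinguished triangle -/
lemma yoneda_exact₁' (T : Triangle C) (hT : T ∈ distTriang C) {X : C} (φ : T.obj₁ ⟶ X)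
    (h : T.mor₃ ≫ φ⟦(1 : ℤ)⟧' = 0) : ∃ χ : T.obj₂ ⟶ X, φ = T.mor₁ ≫ χ := by
  obtain ⟨g, hg⟩ : ∃ g : (T.obj₂)⟦(1 : ℤ)⟧ ⟶ X⟦(1 : ℤ)⟧,
      φ⟦(1 : ℤ)⟧' = (-(T.mor₁⟦(1 : ℤ)⟧')) ≫ g :=
    Triangle.yoneda_exact₃ T.rotate (rot_of_distTriang _ hT) (φ⟦(1 : ℤ)⟧') h
  obtain ⟨g₀, rfl⟩ := (shiftFunctor C (1 : ℤ)).map_surjective g
  refine ⟨-g₀, (shiftFunctor C (1 : ℤ)).map_injective ?_⟩
  rw [hg, Functor.map_comp, Functor.map_neg, Preadditive.neg_comp, Preadditive.comp_neg]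

end Tri

section Dev

variable {A : Type u} [CommRing A]
variable {C : Type u'} [Category.{v'} C] [Preadditive C] [HasZeroObject C] [HasShift C ℤ]
  [∀ n : ℤ, (shiftFunctor C n).Additive] [Pretriangulated C]
variable (T : (ModuleCat.{u} A)ᵒᵖ ⥤ C) [T.Additive]
variable (W : C) (e0 : T.obj (op (ModuleCat.of A A)) ⟶ W⟦(0 : ℤ)⟧)

/-- the map `A ⟶ M` attached to an element -/
noncomputable def mhat (M : ModuleCat.{u} A) (m : M) : ModuleCat.of A A ⟶ M :=
  ModuleCat.ofHom (LinearMap.toSpanSingleton A M m)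

lemma mhat_comp {M N : ModuleCat.{u} A} (g : M ⟶ N) (m : M) :
    mhat M m ≫ g = mhat N (g.hom m) := by
  refine ModuleCat.hom_ext (LinearMap.ext_ring ?_)
  simp [mhat]

lemma mhat_add (M : ModuleCat.{u} A) (m m' : M) : mhat M (m + m') = mhat M m + mhat M m' := by
  refine ModuleCat.hom_ext (LinearMap.ext_ring ?_)
  simp [mhat]

/-- the comparison map `M → Hom(T M, W[0])` -/
noncomputable def θ (M : ModuleCat.{u} A) (m : M) : T.obj (op M) ⟶ W⟦(0 : ℤ)⟧ :=
  T.map (mhat M m).op ≫ e0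

lemma θ_nat {M N : ModuleCat.{u} A} (g : M ⟶ N) (m : M) :
    θ T W e0 N (g.hom m) = T.map g.op ≫ θ T W e0 M m := by
  unfold θ
  rw [← mhat_comp, op_comp, Functor.map_comp, Category.assoc]

lemma θ_add (M : ModuleCat.{u} A) (m m' : M) :
    θ T W e0 M (m + m') = θ T W e0 M m + θ T W e0 M m' := by
  unfold θ
  rw [mhat_add, op_add, Functor.map_add, Preadditive.add_comp]

lemma θ_zero (M : ModuleCat.{u} A) : θ T W e0 M 0 = 0 := by
  have := θ_add T W e0 M 0 0
  rw [add_zero] at this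
  exact left_eq_add.mp this

lemma θ_sub (M : ModuleCat.{u} A) (m m' : M) :
    θ T W e0 M (m - m') = θ T W e0 M m - θ T W e0 M m' := by
  have := θ_add T W e0 M (m - m') m'
  rw [sub_add_cancel] at this
  rw [this, add_sub_cancel_right]

/-- the biduality property of a module -/
def P (M : ModuleCat.{u} A) : Prop :=
  Function.Bijective (θ T W e0 M) ∧ ∀ i : ℤ, i ≠ 0 → ∀ φ : T.obj (op M) ⟶ W⟦i⟧, φ = 0

variable {T W e0}

lemma P_of_iso {M N : ModuleCat.{u} A} (e : M ≅ N) (h : P T W e0 M) : P T W e0 N := by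
  have hiso : IsIso (T.map e.inv.op) := inferInstance
  refine ⟨⟨fun n n' hn => ?_, fun ψ => ?_⟩, fun i hi φ => ?_⟩
  · have h1 : θ T W e0 M (e.inv.hom n) = θ T W e0 M (e.inv.hom n') := by
      rw [θ_nat, θ_nat, hn]
    have h2 := h.1.1 h1
    have h3 := congrArg e.hom.hom h2
    simpa using h3
  · obtain ⟨m, hm⟩ := h.1.2 (T.map e.inv.op ≫ ψ)
    refine ⟨e.hom.hom m, ?_⟩
    rw [θ_nat, hm, ← Category.assoc, ← Functor.map_comp, ← op_comp, e.inv_hom_id, op_id,
      T.map_id, Category.id_comp]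
  · have := h.2 i hi (T.map e.inv.op ≫ φ)
    exact (cancel_epi (T.map e.inv.op)).1 (this.trans comp_zero.symm)

lemma P_of_subsingleton (M : ModuleCat.{u} A) [Subsingleton M] : P T W e0 M := by
  have hz : IsZero (T.obj (op M)) := by
    rw [IsZero.iff_id_eq_zero]
    have h1 : 𝟙 M = 0 := (ModuleCat.isZero_of_subsingleton M).eq_of_src _ _
    rw [← T.map_id, ← op_id, h1, op_zero, T.map_zero]
  refine ⟨⟨fun n n' _ => Subsingleton.elim _ _, fun ψ => ⟨0, hz.eq_of_src _ _⟩⟩,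
    fun i _ φ => hz.eq_of_src _ _⟩

variable (hT : ∀ (S : ShortComplex (ModuleCat.{u} A)), S.ShortExact →
  ∃ δ : T.obj (op S.X₁) ⟶ (T.obj (op S.X₃))⟦(1 : ℤ)⟧,
    Triangle.mk (T.map S.g.op) (T.map S.f.op) δ ∈ distTriang C)

include hT

lemma P_ext (S : ShortComplex (ModuleCat.{u} A)) (hS : S.ShortExact)
    (h1 : P T W e0 S.X₁) (h3 : P T W e0 S.X₃) : P T W e0 S.X₂ := by
  obtain ⟨δ, hδ⟩ := hT S hS
  have hinj : Function.Injective S.f.hom := (ModuleCat.mono_iff_injective _).1 hS.mono_f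
  have hsurj : Function.Surjective S.g.hom := (ModuleCat.epi_iff_surjective _).1 hS.epi_g
  have hex : ∀ x : S.X₂, S.g.hom x = 0 → ∃ y : S.X₁, S.f.hom y = x := fun x hx =>
    (ShortComplex.moduleCat_exact_iff S).1 hS.exact x hx
  -- vanishing of `Hom(T X₃[1], W[0])`
  have hv : ∀ χ : (T.obj (op S.X₃))⟦(1 : ℤ)⟧ ⟶ W⟦(0 : ℤ)⟧, χ = 0 := by
    intro χ
    let ι := (shiftFunctorAdd' C (-1 : ℤ) 1 0 (by omega)).app W
    obtain ⟨g, hg⟩ := (shiftFunctor C (1 : ℤ)).map_surjective (χ ≫ ι.hom)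
    have hg0 : g = 0 := h3.2 (-1) (by omega) g
    rw [hg0, Functor.map_zero] at hg
    exact (cancel_mono ι.hom).1 (hg.symm.trans zero_comp.symm)
  refine ⟨⟨fun m m' hm => ?_, fun ψ => ?_⟩, fun i hi φ => ?_⟩
  · -- injectivity
    have hd : θ T W e0 S.X₂ (m - m') = 0 := by rw [θ_sub, hm, sub_self]
    have h4 : θ T W e0 S.X₃ (S.g.hom (m - m')) = 0 := by rw [θ_nat, hd, comp_zero]
    have h5 : S.g.hom (m - m') = 0 := h3.1.1 (h4.trans (θ_zero T W e0 _).symm)
    obtain ⟨y, hy⟩ := hex _ h5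
    have h6 : T.map S.f.op ≫ θ T W e0 S.X₁ y = 0 := by rw [← θ_nat, hy, hd]
    obtain ⟨χ, hχ⟩ : ∃ χ : (T.obj (op S.X₃))⟦(1 : ℤ)⟧ ⟶ W⟦(0 : ℤ)⟧,
        θ T W e0 S.X₁ y = δ ≫ χ := Triangle.yoneda_exact₃ _ hδ (θ T W e0 S.X₁ y) h6
    have h7 : θ T W e0 S.X₁ y = 0 := by rw [hχ, hv χ, comp_zero]
    have h8 : y = 0 := h1.1.1 (h7.trans (θ_zero T W e0 _).symm)
    rw [h8, map_zero] at hy
    exact sub_eq_zero.1 hy.symm
  · -- surjectivity
    obtain ⟨m'', hm''⟩ := h3.1.2 (T.map S.g.op ≫ ψ)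
    obtain ⟨m, rfl⟩ := hsurj m''
    have h4 : T.map S.g.op ≫ (ψ - θ T W e0 S.X₂ m) = 0 := by
      rw [Preadditive.comp_sub, ← θ_nat, hm'', sub_self]
    obtain ⟨ψ', hψ'⟩ : ∃ ψ' : T.obj (op S.X₁) ⟶ W⟦(0 : ℤ)⟧,
        ψ - θ T W e0 S.X₂ m = T.map S.f.op ≫ ψ' := Triangle.yoneda_exact₂ _ hδ _ h4
    obtain ⟨m', hm'⟩ := h1.1.2 ψ'
    refine ⟨m + S.f.hom m', ?_⟩
    rw [θ_add, θ_nat, hm', ← hψ']
    abel
  · have h4 : T.map S.g.op ≫ φ = 0 := h3.2 i hi _
    obtain ⟨ψ', hψ'⟩ : ∃ ψ' : T.obj (op S.X₁) ⟶ W⟦i⟧, φ = T.map S.f.op ≫ ψ' :=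
      Triangle.yoneda_exact₂ _ hδ _ h4
    rw [hψ', h1.2 i hi ψ', comp_zero]

omit hT in
lemma shortExact_free (n : ℕ) :
    (ShortComplex.mk (ModuleCat.ofHom (LinearMap.single A (fun _ : Fin (n + 1) => A) 0))
      (ModuleCat.ofHom (LinearMap.funLeft A A (Fin.succ : Fin n → Fin (n + 1)))) (by
        refine ModuleCat.hom_ext (LinearMap.ext_ring ?_)
        ext j
        simp [LinearMap.funLeft, Fin.succ_ne_zero]
        rfl)).ShortExact := by
  refine ShortComplex.ShortExact.mk' ?_ ?_ ?_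
  · rw [ShortComplex.moduleCat_exact_iff]
    intro v hv
    refine ⟨v 0, ?_⟩
    ext j
    refine Fin.cases ?_ (fun j' => ?_) j
    · simp
    · have := congrFun hv j'
      simp only [ModuleCat.hom_ofHom, LinearMap.funLeft_apply] at this
      simp [Fin.succ_ne_zero, this]
      rfl
  · rw [ModuleCat.mono_iff_injective]
    intro a a' h
    have := congrFun h 0
    simpa using this
  · rw [ModuleCat.epi_iff_surjective]
    exact LinearMap.funLeft_surjective_of_injective A A _ (Fin.succ_injective n)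

lemma P_free (hA : P T W e0 (ModuleCat.of A A)) (n : ℕ) :
    P T W e0 (ModuleCat.of A (Fin n → A)) := by
  induction n with
  | zero => exact P_of_subsingleton _
  | succ n ih => exact P_ext hT _ (shortExact_free n) hA ih

/-- the long exact sequence piece: vanishing for the kernel one degree up and for the middle term
give vanishing for the quotient -/
lemma vanish_of_les (S : ShortComplex (ModuleCat.{u} A)) (hS : S.ShortExact) (i : ℤ)
    (h1 : ∀ ψ : T.obj (op S.X₁) ⟶ W⟦i + 1⟧, ψ = 0)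
    (h2 : ∀ χ : T.obj (op S.X₂) ⟶ W⟦i⟧, χ = 0) (φ : T.obj (op S.X₃) ⟶ W⟦i⟧) : φ = 0 := by
  obtain ⟨δ, hδ⟩ := hT S hS
  let ι := (shiftFunctorAdd' C i 1 (i + 1) rfl).app W
  have h3 : δ ≫ φ⟦(1 : ℤ)⟧' = 0 := by
    have := h1 ((δ ≫ φ⟦(1 : ℤ)⟧') ≫ ι.inv)
    exact (cancel_mono ι.inv).1 (this.trans zero_comp.symm)
  obtain ⟨χ, hχ⟩ : ∃ χ : T.obj (op S.X₂) ⟶ W⟦i⟧, φ = T.map S.g.op ≫ χ :=
    yoneda_exact₁' _ hδ φ h3
  rw [hχ, h2 χ, comp_zero]

omit hT in
/-- the presentation sequence `0 → ker π → Aⁿ → M → 0` -/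
lemma shortExact_pres {M : Type u} [AddCommGroup M] [Module A M] {n : ℕ}
    (π : (Fin n → A) →ₗ[A] M) (hπ : Function.Surjective π) :
    (ShortComplex.mk (ModuleCat.ofHom (LinearMap.ker π).subtype) (ModuleCat.ofHom π) (by
      refine ModuleCat.hom_ext (LinearMap.ext fun x => ?_)
      exact x.2)).ShortExact := by
  refine ShortComplex.ShortExact.mk' ?_ ?_ ?_
  · rw [ShortComplex.moduleCat_exact_iff]
    intro v hv
    exact ⟨⟨v, hv⟩, rfl⟩
  · rw [ModuleCat.mono_iff_injective]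
    exact Subtype.val_injective
  · rw [ModuleCat.epi_iff_surjective]
    exact hπ

variable [IsNoetherianRing A]

/-- **module-level biduality dévissage**: if `A` has the biduality property for a contravariant
functor `T` from modules to a triangulated category sending short exact sequences to distinguished
triangles, and `Hom(T M, W[i])` vanishes for `i` large uniformly in the finite module `M`, then all
finite modules have the biduality property. -/
theorem P_of_finite (hA : P T W e0 (ModuleCat.of A A)) (c : ℤ)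
    (hc : ∀ (M : Type u) [AddCommGroup M] [Module A M] [Module.Finite A M] (i : ℤ), c < i →
      ∀ φ : T.obj (op (ModuleCat.of A M)) ⟶ W⟦i⟧, φ = 0)
    (M : Type u) [AddCommGroup M] [Module A M] [Module.Finite A M] :
    P T W e0 (ModuleCat.of A M) := by
  have hF := P_free hT hA
  -- Step 1: vanishing in positive degrees
  have hpos' : ∀ k : ℕ, ∀ (M : Type u) [AddCommGroup M] [Module A M] [Module.Finite A M] (i : ℤ),
      0 < i → c < i + k → ∀ φ : T.obj (op (ModuleCat.of A M)) ⟶ W⟦i⟧, φ = 0 := by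
    intro k
    induction k with
    | zero => intro M _ _ _ i _ hi φ; exact hc M i (by simpa using hi) φ
    | succ k ih =>
      intro M _ _ _ i hi hik φ
      obtain ⟨n, π, hπ⟩ := Module.Finite.exists_fin' A M
      exact vanish_of_les hT _ (shortExact_pres π hπ) i
        (fun ψ => ih (LinearMap.ker π) (i + 1) (by omega) (by push_cast at hik; omega) ψ)
        (fun χ => (hF n).2 i (by omega) χ) φ
  have hpos : ∀ (M : Type u) [AddCommGroup M] [Module A M] [Module.Finite A M] (i : ℤ),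
      0 < i → ∀ φ : T.obj (op (ModuleCat.of A M)) ⟶ W⟦i⟧, φ = 0 := by
    intro M _ _ _ i hi φ
    exact hpos' (c - i + 1).toNat M i hi (by
      have := Int.self_le_toNat (c - i + 1)
      omega) φ
  -- Step 2: surjectivity
  have hsurj : ∀ (M : Type u) [AddCommGroup M] [Module A M] [Module.Finite A M],
      Function.Surjective (θ T W e0 (ModuleCat.of A M)) := by
    intro M _ _ _ ψ
    obtain ⟨n, π, hπ⟩ := Module.Finite.exists_fin' A M
    obtain ⟨δ, hδ⟩ := hT _ (shortExact_pres π hπ)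
    let ι := (shiftFunctorAdd' C (0 : ℤ) 1 1 rfl).app W
    have h3 : δ ≫ ψ⟦(1 : ℤ)⟧' = 0 := by
      have := hpos (LinearMap.ker π) 1 (by omega) ((δ ≫ ψ⟦(1 : ℤ)⟧') ≫ ι.inv)
      exact (cancel_mono ι.inv).1 (this.trans zero_comp.symm)
    obtain ⟨χ, hχ⟩ : ∃ χ : T.obj (op (ModuleCat.of A (Fin n → A))) ⟶ W⟦(0 : ℤ)⟧,
        ψ = T.map (ModuleCat.ofHom π).op ≫ χ := yoneda_exact₁' _ hδ ψ h3
    obtain ⟨x, hx⟩ := (hF n).1.2 χ
    refine ⟨π x, ?_⟩
    rw [hχ, ← hx]
    exact θ_nat T W e0 (ModuleCat.ofHom π) x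
  -- Step 3: injectivity
  have hinj : ∀ (M : Type u) [AddCommGroup M] [Module A M] [Module.Finite A M],
      Function.Injective (θ T W e0 (ModuleCat.of A M)) := by
    intro M _ _ _ m m' hm
    have hd : θ T W e0 (ModuleCat.of A M) (m - m') = 0 := by rw [θ_sub, hm, sub_self]
    obtain ⟨n, π, hπ⟩ := Module.Finite.exists_fin' A M
    obtain ⟨δ, hδ⟩ := hT _ (shortExact_pres π hπ)
    obtain ⟨x, hx⟩ := hπ (m - m')
    have h4 : T.map (ModuleCat.ofHom π).op ≫ θ T W e0 (ModuleCat.of A (Fin n → A)) x = 0 := by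
      rw [← hd, ← hx]
      exact (θ_nat T W e0 (ModuleCat.ofHom π) x).symm
    obtain ⟨ψ, hψ⟩ : ∃ ψ : T.obj (op (ModuleCat.of A (LinearMap.ker π))) ⟶ W⟦(0 : ℤ)⟧,
        θ T W e0 (ModuleCat.of A (Fin n → A)) x =
          T.map (ModuleCat.ofHom (LinearMap.ker π).subtype).op ≫ ψ :=
      Triangle.yoneda_exact₂ _ hδ _ h4
    obtain ⟨y, hy⟩ := hsurj (LinearMap.ker π) ψ
    have h5 : θ T W e0 (ModuleCat.of A (Fin n → A)) x =
        θ T W e0 (ModuleCat.of A (Fin n → A)) (y : Fin n → A) := by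
      rw [hψ, ← hy]
      exact (θ_nat T W e0 (ModuleCat.ofHom (LinearMap.ker π).subtype) y).symm
    have h6 : x = (y : Fin n → A) := (hF n).1.1 h5
    have h7 : π x = 0 := by rw [h6]; exact y.2
    rw [h7] at hx
    exact sub_eq_zero.1 hx.symm
  -- Step 4: vanishing in degree -1
  have hm1 : ∀ (M : Type u) [AddCommGroup M] [Module A M] [Module.Finite A M]
      (φ : T.obj (op (ModuleCat.of A M)) ⟶ W⟦(-1 : ℤ)⟧), φ = 0 := by
    intro M _ _ _ φ
    obtain ⟨n, π, hπ⟩ := Module.Finite.exists_fin' A M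
    obtain ⟨δ, hδ⟩ := hT _ (shortExact_pres π hπ)
    let ι := (shiftFunctorAdd' C (-1 : ℤ) 1 0 (by omega)).app W
    obtain ⟨y, hy⟩ := hsurj (LinearMap.ker π) ((δ ≫ φ⟦(1 : ℤ)⟧') ≫ ι.inv)
    have h4 : θ T W e0 (ModuleCat.of A (Fin n → A)) (y : Fin n → A) = 0 := by
      have h := θ_nat T W e0 (ModuleCat.ofHom (LinearMap.ker π).subtype) y
      refine h.trans ?_
      rw [hy, ← Category.assoc, ← Category.assoc]
      have hz : T.map (ModuleCat.ofHom (LinearMap.ker π).subtype).op ≫ δ = 0 :=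
        comp_distTriang_mor_zero₂₃ _ hδ
      rw [hz, zero_comp, zero_comp]
    have h5 : (y : Fin n → A) = 0 := (hF n).1.1 (h4.trans (θ_zero T W e0 _).symm)
    have h6 : y = 0 := Subtype.ext h5
    rw [h6, θ_zero] at hy
    have h3 : δ ≫ φ⟦(1 : ℤ)⟧' = 0 := (cancel_mono ι.inv).1 (hy.symm.trans zero_comp.symm)
    obtain ⟨χ, hχ⟩ : ∃ χ : T.obj (op (ModuleCat.of A (Fin n → A))) ⟶ W⟦(-1 : ℤ)⟧,
        φ = T.map (ModuleCat.ofHom π).op ≫ χ := yoneda_exact₁' _ hδ φ h3
    rw [hχ, (hF n).2 (-1) (by omega) χ, comp_zero]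
  -- Step 5: vanishing in degrees ≤ -1
  have hneg : ∀ k : ℕ, ∀ (M : Type u) [AddCommGroup M] [Module A M] [Module.Finite A M]
      (j : ℤ), j = -1 - (k : ℤ) → ∀ (φ : T.obj (op (ModuleCat.of A M)) ⟶ W⟦j⟧), φ = 0 := by
    intro k
    induction k with
    | zero =>
      intro M _ _ _ j hj φ
      obtain rfl : j = -1 := by simpa using hj
      exact hm1 M φ
    | succ k ih =>
      intro M _ _ _ j hj φ
      obtain ⟨n, π, hπ⟩ := Module.Finite.exists_fin' A M
      exact vanish_of_les hT _ (shortExact_pres π hπ) j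
        (fun ψ => ih (LinearMap.ker π) (j + 1) (by push_cast at hj; omega) ψ)
        (fun χ => (hF n).2 _ (by push_cast at hj; omega) χ) φ
  refine ⟨⟨hinj M, hsurj M⟩, fun i hi φ => ?_⟩
  rcases lt_or_gt_of_ne hi with h | h
  · obtain ⟨k, hk⟩ : ∃ k : ℕ, i = -1 - (k : ℤ) := ⟨(-1 - i).toNat, by
      have := Int.toNat_of_nonneg (show 0 ≤ -1 - i by omega)
      omega⟩
    exact hneg k M i hk φ
  · exact hpos M i h φ

end Dev

end Groth.Agent.Lib.Helper8.Bidual
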