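import Groth.Agent.Lib.Helper8.Compact

universe v u

open CategoryTheory CategoryTheory.Limits CategoryTheory.Pretriangulated

namespace Groth.Agent.Lib.Helper8.Compact

section

variable {D : Type u} [Category.{v} D] [Preadditive D]

open Classical in
lemma homSumToHomCoprod_comp_π (K : D) {κ : Type v} (X : κ → D) [HasCoproduct X]
    (x : DirectSum κ (fun j => K ⟶ X j)) (j : κ) :
    CohDer.homSumToHomCoprod K X x ≫ Sigma.π X j = x j := by
  induction x using DirectSum.induction_on with
  | zero => simp
  | of i y =>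
    have : CohDer.homSumToHomCoprod K X (DirectSum.of (fun j => K ⟶ X j) i y) = y ≫ Sigma.ι X i := by
      simp only [CohDer.homSumToHomCoprod, DirectSum.toAddMonoid_of]
      rfl
    rw [this, Category.assoc]
    by_cases h : i = j
    · subst h
      rw [Sigma.ι_π_eq_id, Category.comp_id, DirectSum.of_eq_same]
    · rw [Sigma.ι_π_of_ne X h, comp_zero, DirectSum.of_eq_of_ne _ _ _ (Ne.symm h)]
  | add x₁ x₂ h₁ h₂ =>
    rw [map_add, Preadditive.add_comp, h₁, h₂, DirectSum.add_apply]

lemma homSumToHomCoprod_injective (K : D) {κ : Type v} (X : κ → D) [HasCoproduct X] :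
    Function.Injective (CohDer.homSumToHomCoprod K X) := by
  classical
  rw [injective_iff_map_eq_zero]
  intro x hx
  ext j
  rw [← homSumToHomCoprod_comp_π, hx, zero_comp, DirectSum.zero_apply]

open Classical in
lemma homSumToHomCoprod_sum (K : D) {κ : Type v} (X : κ → D) [HasCoproduct X]
    (θ : K ⟶ ∐ X) (S : Finset κ) :
    CohDer.homSumToHomCoprod K X (∑ i ∈ S, DirectSum.of (fun j => K ⟶ X j) i (θ ≫ Sigma.π X i)) =
      θ ≫ eS X S := by
  rw [map_sum, eS, Preadditive.comp_sum]
  refine Finset.sum_congr rfl (fun i _ => ?_)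
  simp only [CohDer.homSumToHomCoprod, DirectSum.toAddMonoid_of]
  exact Category.assoc _ _ _

end

section

variable {D : Type u} [Category.{v} D] [Preadditive D] [HasZeroObject D] [HasShift D ℤ]
  [∀ n : ℤ, (shiftFunctor D n).Additive] [Pretriangulated D] [HasCoproducts.{v} D]

lemma isCompactObject_of_FF {K : D} (hK : FF K) : CohDer.IsCompactObject K := by
  classical
  intro κ X
  refine ⟨homSumToHomCoprod_injective K X, fun θ => ?_⟩
  obtain ⟨S, hS⟩ := hK.unshifted X θ
  exact ⟨_, (homSumToHomCoprod_sum K X θ S).trans (eq_comp_eS_of_comp_cS_eq_zero X θ S hS)⟩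

lemma isCompactObject_eq_FF : (fun K : D => CohDer.IsCompactObject K) = FF := by
  ext K
  exact ⟨FF_of_isCompactObject, isCompactObject_of_FF⟩

end

end Groth.Agent.Lib.Helper8.Compact
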