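import Groth.Agent.Lib.Helper8.DCoprod1
import Mathlib.Algebra.Homology.DerivedCategory.Basic
import Mathlib.Algebra.Homology.DerivedCategory.Fractions

/-!
# Helper8 — DCoprod3: `Q` preserves coproducts (universe-general version)
-/

universe w w' v u

open CategoryTheory CategoryTheory.Limits

namespace Groth.Agent.Lib.Helper8.DCoprod3

open DerivedCategory DCoprod

variable {A : Type u} [Category.{v} A] [Abelian A] [HasDerivedCategory.{w} A]

/-- a morphism killed by `Q` is null-homotopic after precomposition with a quasi-isomorphism -/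
lemma exists_quasiIso_homotopy_of_Q_map_eq_zero {K L : CochainComplex A ℤ} (f : K ⟶ L)
    (hf : Q.map f = 0) :
    ∃ (K' : CochainComplex A ℤ) (u : K' ⟶ K) (_ : QuasiIso u), Nonempty (Homotopy (u ≫ f) 0) := by
  have h1 : Qh.map ((HomotopyCategory.quotient _ _).map f) = Qh.map 0 := by
    have := quotientCompQhIso_hom_naturality f
    rw [hf, comp_zero] at this
    rw [Functor.map_zero, ← cancel_mono ((quotientCompQhIso A).hom.app L), this, zero_comp]
  obtain ⟨Z, s, hs, hsf⟩ := (MorphismProperty.map_eq_iff_precomp Qh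
    (HomotopyCategory.quasiIso A (ComplexShape.up ℤ)) _ _).1 h1
  obtain ⟨K', rfl⟩ := HomotopyCategory.quotient_obj_surjective Z
  obtain ⟨u, rfl⟩ := (HomotopyCategory.quotient _ _).map_surjective s
  rw [HomotopyCategory.quotient_map_mem_quasiIso_iff] at hs
  refine ⟨K', u, hs, ⟨HomotopyCategory.homotopyOfEq _ _ ?_⟩⟩
  rw [Functor.map_comp, hsf, comp_zero, Functor.map_zero]

variable {J : Type w'} [HasColimitsOfShape (Discrete J) A]
  [HasExactColimitsOfShape (Discrete J) A] (K : J → CochainComplex A ℤ)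

lemma exists_desc (L : CochainComplex A ℤ) (ψ : ∀ j, Q.obj (K j) ⟶ Q.obj L) :
    ∃ φ : Q.obj (∐ K) ⟶ Q.obj L, ∀ j, Q.map (Sigma.ι K j) ≫ φ = ψ j := by
  choose K' s hs g hg using fun j => right_fac (ψ j)
  have : ∀ j, QuasiIso (s j) := fun j => (isIso_Q_map_iff_quasiIso A (s j)).1 (hs j)
  have : IsIso (Q.map (Limits.Sigma.map s)) :=
    (isIso_Q_map_iff_quasiIso A _).2 (quasiIso_sigmaMap s)
  refine ⟨inv (Q.map (Limits.Sigma.map s)) ≫ Q.map (Sigma.desc g), fun j => ?_⟩
  have h1 : Q.map (Sigma.ι K j) ≫ inv (Q.map (Limits.Sigma.map s)) =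
      inv (Q.map (s j)) ≫ Q.map (Sigma.ι K' j) := by
    rw [← cancel_mono (Q.map (Limits.Sigma.map s)), Category.assoc, IsIso.inv_hom_id,
      Category.comp_id, Category.assoc, ← Q.map_comp, Sigma.ι_map, Q.map_comp,
      IsIso.inv_hom_id_assoc]
  rw [← Category.assoc, h1, Category.assoc, ← Q.map_comp, Sigma.ι_desc, hg]

lemma eq_zero_of_comp (L : CochainComplex A ℤ) (δ : Q.obj (∐ K) ⟶ Q.obj L)
    (h : ∀ j, Q.map (Sigma.ι K j) ≫ δ = 0) : δ = 0 := by
  obtain ⟨L', g, t, ht, rfl⟩ := left_fac δ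
  have h0 : ∀ j, Q.map (Sigma.ι K j ≫ g) = 0 := fun j => by
    have := h j
    rw [← Category.assoc, ← Q.map_comp] at this
    rw [← cancel_mono (inv (Q.map t)), this, zero_comp]
  choose K' u hu hh using fun j => exists_quasiIso_homotopy_of_Q_map_eq_zero _ (h0 j)
  have : ∀ j, QuasiIso (u j) := hu
  have hσ : IsIso (Q.map (Limits.Sigma.map u)) :=
    (isIso_Q_map_iff_quasiIso A _).2 (quasiIso_sigmaMap u)
  have H : Homotopy (Limits.Sigma.map u ≫ g) 0 :=
    homotopySigma K' (Limits.Sigma.map u ≫ g) (fun j =>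
      (Homotopy.ofEq (by
        rw [← Category.assoc, Sigma.ι_map, Category.assoc])).trans (hh j).some)
  have h2 := Q_map_eq_of_homotopy A H
  rw [Q.map_comp, Functor.map_zero] at h2
  have h3 : Q.map g = 0 := by
    rw [← cancel_epi (Q.map (Limits.Sigma.map u)), h2, comp_zero]
  rw [h3, zero_comp]

/-- the image under `Q` of the coproduct cofan -/
noncomputable def cofanQ : Cofan (fun j => Q.obj (K j)) :=
  Cofan.mk (Q.obj (∐ K)) (fun j => Q.map (Sigma.ι K j))

lemma exists_desc' (Y : DerivedCategory A) (ψ : ∀ j, Q.obj (K j) ⟶ Y) :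
    ∃ φ : Q.obj (∐ K) ⟶ Y, ∀ j, Q.map (Sigma.ι K j) ≫ φ = ψ j := by
  let e : Q.obj (Q.objPreimage Y) ≅ Y := Q.objObjPreimageIso Y
  obtain ⟨φ, hφ⟩ := exists_desc K (Q.objPreimage Y) (fun j => ψ j ≫ e.inv)
  refine ⟨φ ≫ e.hom, fun j => ?_⟩
  rw [← Category.assoc, hφ, Category.assoc, Iso.inv_hom_id, Category.comp_id]

lemma hom_ext' (Y : DerivedCategory A) (m m' : Q.obj (∐ K) ⟶ Y)
    (h : ∀ j, Q.map (Sigma.ι K j) ≫ m = Q.map (Sigma.ι K j) ≫ m') : m = m' := by
  let e : Q.obj (Q.objPreimage Y) ≅ Y := Q.objObjPreimageIso Y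
  have : (m - m') ≫ e.inv = 0 := by
    apply eq_zero_of_comp K
    intro j
    rw [← Category.assoc, Preadditive.comp_sub, h j, sub_self, zero_comp]
  rw [← cancel_mono e.inv, ← sub_eq_zero, ← Preadditive.sub_comp, this]

/-- `Q` preserves the coproduct -/
noncomputable def isColimitCofanQ : IsColimit (cofanQ K) :=
  Cofan.IsColimit.mk _ (fun t => (exists_desc' K t.pt t.inj).choose)
    (fun t j => (exists_desc' K t.pt t.inj).choose_spec j)
    (fun t m hm => hom_ext' K t.pt _ _ (fun j =>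
      (hm j).trans ((exists_desc' K t.pt t.inj).choose_spec j).symm))

end Groth.Agent.Lib.Helper8.DCoprod3
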