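import Mathlib.Algebra.Homology.DerivedCategory.FullyFaithful
import Mathlib.Algebra.Homology.DerivedCategory.HomologySequence
import Mathlib.Algebra.Homology.HomotopyCategory.HomComplexSingle
import Mathlib.Algebra.Homology.Refinements

/-!
# Helper8: maps from a single object to a complex in the derived category, up to refinements (for S0931)
-/

universe w v u

open CategoryTheory CategoryTheory.Limits HomologicalComplex

namespace Groth.Agent.Lib.Helper8.DSingleHom

variable {A : Type u} [Category.{v} A] [Abelian A] [HasDerivedCategory.{w} A]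

open DerivedCategory

/-- the complex with `P` in degree 0 -/
noncomputable abbrev sg (P : A) : CochainComplex A ℤ :=
  (HomologicalComplex.single A (ComplexShape.up ℤ) 0).obj P

/-- the map of complexes `P[0] ⟶ P'[0]` -/
noncomputable abbrev sgMap {P P' : A} (p : P ⟶ P') : sg P ⟶ sg P' :=
  (HomologicalComplex.single A (ComplexShape.up ℤ) 0).map p

/-- `H⁰(Q M) ≅ H⁰(M)`, cleanly typed -/
noncomputable def hff (M : CochainComplex A ℤ) :
    (DerivedCategory.homologyFunctor A 0).obj (Q.obj M) ≅ M.homology 0 :=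
  (homologyFunctorFactors A 0).app M

lemma hff_hom_naturality {M M' : CochainComplex A ℤ} (g : M ⟶ M') :
    (DerivedCategory.homologyFunctor A 0).map (Q.map g) ≫ (hff M').hom =
      (hff M).hom ≫ homologyMap g 0 :=
  homologyFunctorFactors_hom_naturality g 0

lemma hff_inv_naturality {M M' : CochainComplex A ℤ} (g : M ⟶ M') :
    (hff M).inv ≫ (DerivedCategory.homologyFunctor A 0).map (Q.map g) =
      homologyMap g 0 ≫ (hff M').inv := by
  rw [← cancel_mono (hff M').hom, Category.assoc, hff_hom_naturality, Iso.inv_hom_id_assoc,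
    Category.assoc, Iso.inv_hom_id, Category.comp_id]

/-- `P ≅ H⁰(P[0])`, cleanly typed -/
noncomputable def sos (P : A) : (sg P).homology 0 ≅ P :=
  singleObjHomologySelfIso (ComplexShape.up ℤ) 0 P

lemma sos_inv_naturality {P P' : A} (p : P ⟶ P') :
    (sos P).inv ≫ homologyMap (sgMap p) 0 = p ≫ (sos P').inv :=
  singleObjHomologySelfIso_inv_naturality (ComplexShape.up ℤ) 0 p

/-- `P ≅ H⁰(Q(P[0]))` -/
noncomputable def e₀ (P : A) : P ≅ (DerivedCategory.homologyFunctor A 0).obj (Q.obj (sg P)) :=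
  (sos P).symm ≪≫ (hff (sg P)).symm

lemma e₀_hom (P : A) : (e₀ P).hom = (sos P).inv ≫ (hff (sg P)).inv := rfl

lemma e₀_naturality {P P' : A} (p : P ⟶ P') :
    p ≫ (e₀ P').hom =
      (e₀ P).hom ≫ (DerivedCategory.homologyFunctor A 0).map (Q.map (sgMap p)) := by
  rw [e₀_hom, e₀_hom, Category.assoc, hff_inv_naturality, ← Category.assoc, ← Category.assoc,
    sos_inv_naturality]

/-- `θ : Hom_D(P[0], L) → Hom_A(P, H⁰ L)` -/
noncomputable def θ {P : A} {L : DerivedCategory A} (φ : Q.obj (sg P) ⟶ L) :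
    P ⟶ (DerivedCategory.homologyFunctor A 0).obj L :=
  (e₀ P).hom ≫ (DerivedCategory.homologyFunctor A 0).map φ

lemma θ_comp {P : A} {L L' : DerivedCategory A} (φ : Q.obj (sg P) ⟶ L) (l : L ⟶ L') :
    θ (φ ≫ l) = θ φ ≫ (DerivedCategory.homologyFunctor A 0).map l := by
  simp only [θ, Functor.map_comp, Category.assoc]

lemma θ_precomp {P P' : A} {L : DerivedCategory A} (p : P' ⟶ P) (φ : Q.obj (sg P) ⟶ L) :
    θ (Q.map (sgMap p) ≫ φ) = p ≫ θ φ := by
  simp only [θ, Functor.map_comp]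
  rw [← Category.assoc, ← e₀_naturality, Category.assoc]

lemma θ_add {P : A} {L : DerivedCategory A} (φ ψ : Q.obj (sg P) ⟶ L) :
    θ (φ + ψ) = θ φ + θ ψ := by
  simp only [θ, Functor.map_add, Preadditive.comp_add]

/-- the cycle in degree 0 attached to a map of complexes from `P[0]` -/
noncomputable def zOf {P : A} {M : CochainComplex A ℤ} (g : sg P ⟶ M) : P ⟶ M.X 0 :=
  (singleObjXSelf (ComplexShape.up ℤ) 0 P).inv ≫ g.f 0

omit [HasDerivedCategory.{w} A] in
lemma zOf_d {P : A} {M : CochainComplex A ℤ} (g : sg P ⟶ M) : zOf g ≫ M.d 0 1 = 0 := by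
  simp [zOf]

omit [HasDerivedCategory.{w} A] in
lemma sos_inv_homologyMap {P : A} {M : CochainComplex A ℤ} (g : sg P ⟶ M) :
    (sos P).inv ≫ homologyMap g 0 =
      M.liftCycles (zOf g) 1 (by simp) (zOf_d g) ≫ M.homologyπ 0 := by
  have h : (sos P).inv =
      (singleObjCyclesSelfIso (ComplexShape.up ℤ) 0 P).inv ≫ (sg P).homologyπ 0 :=
    (singleObjCyclesSelfIso_inv_homologyπ (ComplexShape.up ℤ) 0 P).symm
  rw [h, Category.assoc, homologyπ_naturality, ← Category.assoc]
  congr 1
  rw [← cancel_mono (M.iCycles 0)]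
  simp [zOf]

lemma θ_Q_map {P : A} {M : CochainComplex A ℤ} (g : sg P ⟶ M) :
    θ (Q.map g) = (M.liftCycles (zOf g) 1 (by simp) (zOf_d g) ≫ M.homologyπ 0) ≫
      (hff M).inv := by
  rw [θ, e₀_hom, Category.assoc, hff_inv_naturality, ← Category.assoc, sos_inv_homologyMap]

open CochainComplex.HomComplex in
omit [HasDerivedCategory.{w} A] in
/-- a map from `P[0]` whose cycle is a boundary is null-homotopic -/
noncomputable def nullHomotopy {P : A} {M : CochainComplex A ℤ} (g : sg P ⟶ M)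
    (y : P ⟶ M.X (-1)) (hy : zOf g = y ≫ M.d (-1) 0) : Homotopy g 0 := by
  let g' : (CochainComplex.singleFunctor A 0).obj P ⟶ M := g
  have key : Cochain.ofHom g' =
      δ (-1) 0 (Cochain.fromSingleMk y (by simp : (0 : ℤ) + (-1) = -1)) + Cochain.ofHom 0 := by
    rw [Cochain.δ_fromSingleMk _ _ _ 0 (by simp), ← hy]
    apply (Cochain.fromSingleEquiv (zero_add 0)).injective
    simp [zOf, Cochain.fromSingleEquiv, g']
    try (congr 1; exact Cochain.ofHom_v g 0)
  exact (Cochain.equivHomotopy g' 0).symm ⟨_, key⟩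

omit [HasDerivedCategory.{w} A] in
lemma zOf_sgMap_comp {P P' : A} {M : CochainComplex A ℤ} (p : P' ⟶ P) (g : sg P ⟶ M) :
    zOf (sgMap p ≫ g) = p ≫ zOf g := by
  simp [zOf, HomologicalComplex.single_map_f_self]

lemma exists_epi_comp_eq_zero {P : A} {L : DerivedCategory A} (φ : Q.obj (sg P) ⟶ L)
    (h : θ φ = 0) : ∃ (P' : A) (π : P' ⟶ P) (_ : Epi π), Q.map (sgMap π) ≫ φ = 0 := by
  let i : Q.obj (Q.objPreimage L) ≅ L := Q.objObjPreimageIso L
  obtain ⟨M', g, s, hs, hfac⟩ := left_fac (φ ≫ i.inv)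
  have hφ : φ = Q.map g ≫ inv (Q.map s) ≫ i.hom := by
    rw [← Category.assoc, ← hfac, Category.assoc, Iso.inv_hom_id, Category.comp_id]
  have h1 : θ (Q.map g) = 0 := by
    have h' := h
    rw [hφ, θ_comp] at h'
    exact (cancel_mono ((DerivedCategory.homologyFunctor A 0).map (inv (Q.map s) ≫ i.hom))).1
      (by rw [h', zero_comp])
  rw [θ_Q_map] at h1
  have h2 : M'.liftCycles (zOf g) 1 (by simp) (zOf_d g) ≫ M'.homologyπ 0 = 0 := by
    rw [← cancel_mono (hff M').inv, h1, zero_comp]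
  obtain ⟨P', π, hπ, y, hy⟩ :=
    (M'.liftCycles_comp_homologyπ_eq_zero_iff_up_to_refinements (-1) 0 1 (by simp) (by simp)
      (zOf g) (zOf_d g)).1 h2
  refine ⟨P', π, hπ, ?_⟩
  have hh : Homotopy (sgMap π ≫ g) 0 := nullHomotopy _ y (by rw [zOf_sgMap_comp, hy])
  rw [hφ, ← Category.assoc, ← Functor.map_comp, Q_map_eq_of_homotopy A hh, Functor.map_zero,
    zero_comp]

lemma exists_epi_lift {P : A} {L : DerivedCategory A}
    (t : P ⟶ (DerivedCategory.homologyFunctor A 0).obj L) :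
    ∃ (P' : A) (π : P' ⟶ P) (_ : Epi π) (φ : Q.obj (sg P') ⟶ L), θ φ = π ≫ t := by
  let M := Q.objPreimage L
  let i : Q.obj M ≅ L := Q.objObjPreimageIso L
  let t' : P ⟶ M.homology 0 :=
    t ≫ (DerivedCategory.homologyFunctor A 0).map i.inv ≫ (hff M).hom
  obtain ⟨P', π, hπ, z, hz, hzt⟩ := M.eq_liftCycles_homologyπ_up_to_refinements t' 1 (by simp)
  let g : sg P' ⟶ M := mkHomFromSingle z (fun k hk => by
    obtain rfl : k = 1 := by simpa using hk.symm
    exact hz)
  have hg : zOf g = z := by simp [zOf, g]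
  refine ⟨P', π, hπ, Q.map g ≫ i.hom, ?_⟩
  rw [θ_comp, θ_Q_map]
  have : M.liftCycles (zOf g) 1 (by simp) (zOf_d g) = M.liftCycles z 1 (by simp) hz := by
    rw [← cancel_mono (M.iCycles 0)]
    simp [hg]
  rw [this, ← hzt]
  simp only [t', Category.assoc, Iso.hom_inv_id_assoc]
  rw [← Functor.map_comp, Iso.inv_hom_id, CategoryTheory.Functor.map_id, Category.comp_id]

end Groth.Agent.Lib.Helper8.DSingleHom
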