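import Mathlib

/-! # Helper8 — EBC1: for `A → B` with `A/I ≅ B/IB`, the unit `M → B ⊗ M` is bijective on `I`-power torsion modules (towards S1731) -/

set_option autoImplicit false

universe u

open TensorProduct

namespace Groth.Agent.Lib.Helper8.EBC

section Alg

variable {A B : Type u} [CommRing A] [CommRing B] [Algebra A B] (I : Ideal A)

/-- the unit `M → B ⊗ M` -/
noncomputable abbrev ηB (A B : Type u) [CommRing A] [CommRing B] [Algebra A B] (M : Type u)
    [AddCommGroup M] [Module A M] : M →ₗ[A] B ⊗[A] M :=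
  (TensorProduct.mk A B M) 1

variable (hs : Function.Surjective ((Ideal.Quotient.mk (I.map (algebraMap A B))).comp (algebraMap A B)))

include hs in
lemma tmul_mem_range (M : Type u) [AddCommGroup M] [Module A M] :
    ∀ (n : ℕ) (m : M), (∀ a ∈ I ^ n, a • m = 0) → ∀ b : B,
      b ⊗ₜ[A] m ∈ LinearMap.range (ηB A B M) := by
  intro n
  induction n with
  | zero =>
    intro m hm b
    have : m = 0 := by
      have := hm 1 (by rw [pow_zero, Ideal.one_eq_top]; trivial)
      rwa [one_smul] at this
    rw [this, TensorProduct.tmul_zero]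
    exact Submodule.zero_mem _
  | succ n ih =>
    intro m hm b
    obtain ⟨a, ha⟩ := hs (Ideal.Quotient.mk _ b)
    have h1 : b - algebraMap A B a ∈ I.map (algebraMap A B) := by
      rw [← Ideal.Quotient.eq]
      exact ha.symm
    have key : ∀ y ∈ I.map (algebraMap A B), ∀ c : B,
        (c * y) ⊗ₜ[A] m ∈ LinearMap.range (ηB A B M) := by
      intro y hy
      refine Submodule.span_induction (p := fun y _ => ∀ c : B,
        (c * y) ⊗ₜ[A] m ∈ LinearMap.range (ηB A B M)) ?_ ?_ ?_ ?_ hy
      · rintro _ ⟨i, hi, rfl⟩ c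
        have h2 : (c * algebraMap A B i) ⊗ₜ[A] m = c ⊗ₜ[A] (i • m) := by
          rw [mul_comm, ← Algebra.smul_def, TensorProduct.smul_tmul]
        rw [h2]
        refine ih (i • m) (fun a' ha' => ?_) c
        rw [smul_smul]
        exact hm _ (by rw [pow_succ]; exact Ideal.mul_mem_mul ha' hi)
      · intro c
        rw [mul_zero, TensorProduct.zero_tmul]
        exact Submodule.zero_mem _
      · intro x y _ _ hx hy c
        rw [mul_add, TensorProduct.add_tmul]
        exact Submodule.add_mem _ (hx c) (hy c)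
      · intro c' x _ hx c
        rw [smul_eq_mul, ← mul_assoc]
        exact hx (c * c')
    have h3 : b ⊗ₜ[A] m = (1 * (b - algebraMap A B a)) ⊗ₜ[A] m + (1 : B) ⊗ₜ[A] (a • m) := by
      rw [one_mul, ← TensorProduct.smul_tmul, Algebra.smul_def, mul_one, ← TensorProduct.add_tmul,
        sub_add_cancel]
    rw [h3]
    exact Submodule.add_mem _ (key _ h1 1) (LinearMap.mem_range_self (ηB A B M) (a • m))

include hs in
lemma ηB_surjective (M : Type u) [AddCommGroup M] [Module A M]
    (hM : ∀ m : M, ∃ n : ℕ, ∀ a ∈ I ^ n, a • m = 0) : Function.Surjective (ηB A B M) := by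
  intro z
  rw [← LinearMap.mem_range]
  induction z using TensorProduct.induction_on with
  | zero => exact Submodule.zero_mem _
  | tmul b m =>
    obtain ⟨n, hn⟩ := hM m
    exact tmul_mem_range I hs M n m hn b
  | add x y hx hy => exact Submodule.add_mem _ hx hy

variable (hk : RingHom.ker ((Ideal.Quotient.mk (I.map (algebraMap A B))).comp (algebraMap A B)) = I)

include hs hk in
/-- the retraction `B → A/I` -/
lemma exists_retraction : ∃ ρ : B →+* A ⧸ I, ∀ a : A, ρ (algebraMap A B a) = Ideal.Quotient.mk I a := by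
  let ψ := (Ideal.Quotient.mk (I.map (algebraMap A B))).comp (algebraMap A B)
  let e := RingHom.quotientKerEquivOfSurjective hs
  let e' : A ⧸ RingHom.ker ψ ≃+* A ⧸ I := Ideal.quotEquivOfEq hk
  refine ⟨(e'.toRingHom.comp e.symm.toRingHom).comp (Ideal.Quotient.mk (I.map (algebraMap A B))), ?_⟩
  intro a
  have h1 : e (Ideal.Quotient.mk _ a) = Ideal.Quotient.mk (I.map (algebraMap A B)) (algebraMap A B a) :=
    rfl
  change e' (e.symm (Ideal.Quotient.mk (I.map (algebraMap A B)) (algebraMap A B a))) = _
  rw [← h1, RingEquiv.symm_apply_apply]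
  rfl

include hs hk in
lemma ηB_injective_of_killed (M : Type u) [AddCommGroup M] [Module A M]
    (hM : ∀ a ∈ I, ∀ m : M, a • m = 0) : Function.Injective (ηB A B M) := by
  obtain ⟨ρ, hρ⟩ := exists_retraction I hs hk
  have hT : Module.IsTorsionBySet A M (I : Set A) := by
    intro m a
    exact hM a.1 a.2 m
  letI : Module (A ⧸ I) M := hT.module
  have hmk : ∀ (a : A) (m : M), Ideal.Quotient.mk I a • m = a • m := fun a m => rfl
  let r : B ⊗[A] M →ₗ[A] M := TensorProduct.lift (LinearMap.mk₂ A (fun b m => ρ b • m)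
    (fun b b' m => by rw [map_add, add_smul])
    (fun a b m => by
      rw [Algebra.smul_def, map_mul, hρ, mul_smul, hmk])
    (fun b m m' => smul_add _ _ _)
    (fun a b m => by
      obtain ⟨c, hc⟩ := Ideal.Quotient.mk_surjective (ρ b)
      rw [← hc, hmk, hmk, smul_comm]))
  intro m m' h
  have h1 := congrArg r h
  have h2 : ∀ x : M, r (ηB A B M x) = x := by
    intro x
    change ρ 1 • x = x
    rw [map_one, one_smul]
  rwa [h2, h2] at h1

lemma lTensor_ηB {M N : Type u} [AddCommGroup M] [Module A M] [AddCommGroup N] [Module A N]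
    (g : M →ₗ[A] N) (m : M) : (LinearMap.lTensor B g) (ηB A B M m) = ηB A B N (g m) := rfl

include hs hk in
lemma ηB_injective_of_killed_pow [Module.Flat A B] :
    ∀ (n : ℕ) (M : Type u) [AddCommGroup M] [Module A M],
      (∀ a ∈ I ^ n, ∀ m : M, a • m = 0) → Function.Injective (ηB A B M) := by
  intro n
  induction n with
  | zero =>
    intro M _ _ hM m m' _
    have h0 : ∀ x : M, x = 0 := fun x => by
      have := hM 1 (by rw [pow_zero, Ideal.one_eq_top]; trivial) x
      rwa [one_smul] at this
    rw [h0 m, h0 m']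
  | succ n ih =>
    intro M _ _ hM
    rw [← LinearMap.ker_eq_bot, LinearMap.ker_eq_bot']
    intro m hm
    let N : Submodule A M := I • ⊤
    have hN : ∀ a ∈ I ^ n, ∀ x : N, a • x = 0 := by
      intro a ha x
      apply Subtype.ext
      change a • (x : M) = 0
      refine Submodule.smul_induction_on x.2 (fun i hi y _ => ?_) (fun y z hy hz => ?_)
      · rw [smul_smul]
        exact hM _ (by rw [pow_succ]; exact Ideal.mul_mem_mul ha hi) y
      · rw [smul_add, hy, hz, add_zero]
    have hQ : ∀ a ∈ I, ∀ x : M ⧸ N, a • x = 0 := by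
      intro a ha x
      obtain ⟨y, rfl⟩ := Submodule.Quotient.mk_surjective _ x
      rw [← Submodule.Quotient.mk_smul, Submodule.Quotient.mk_eq_zero]
      exact Submodule.smul_mem_smul ha Submodule.mem_top
    have h1 : ηB A B (M ⧸ N) (N.mkQ m) = 0 := by
      rw [← lTensor_ηB, hm, map_zero]
    have h2 : N.mkQ m = 0 := by
      apply ηB_injective_of_killed I hs hk (M ⧸ N) hQ
      rw [h1, map_zero]
    have h3 : m ∈ N := by
      rwa [Submodule.mkQ_apply, Submodule.Quotient.mk_eq_zero] at h2
    have h4 : (LinearMap.lTensor B N.subtype) (ηB A B N ⟨m, h3⟩) = 0 := by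
      rw [lTensor_ηB]
      exact hm
    have h5 : Function.Injective (LinearMap.lTensor B N.subtype) :=
      Module.Flat.lTensor_preserves_injective_linearMap _ N.injective_subtype
    have h6 : ηB A B N ⟨m, h3⟩ = 0 := h5 (h4.trans (map_zero _).symm)
    have h7 : (⟨m, h3⟩ : N) = 0 := by
      apply ih N hN
      rw [h6, map_zero]
    exact congrArg Subtype.val h7

include hs hk in
/-- **(1)** `M → B ⊗ M` is bijective for `I`-power torsion `M` -/
theorem ηB_bijective [Module.Flat A B] (M : Type u) [AddCommGroup M] [Module A M]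
    (hM : ∀ m : M, ∃ n : ℕ, ∀ a ∈ I ^ n, a • m = 0) : Function.Bijective (ηB A B M) := by
  refine ⟨?_, ηB_surjective I hs M hM⟩
  rw [← LinearMap.ker_eq_bot, LinearMap.ker_eq_bot']
  intro m hm
  obtain ⟨n, hn⟩ := hM m
  let N : Submodule A M := Submodule.torsionBySet A M ((I ^ n : Ideal A) : Set A)
  have h3 : m ∈ N := by
    rw [Submodule.mem_torsionBySet_iff]
    intro a
    exact hn a.1 a.2
  have hN : ∀ a ∈ I ^ n, ∀ x : N, a • x = 0 := by
    intro a ha x
    apply Subtype.ext
    have := (Submodule.mem_torsionBySet_iff _ _).1 x.2 ⟨a, ha⟩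
    exact this
  have h4 : (LinearMap.lTensor B N.subtype) (ηB A B N ⟨m, h3⟩) = 0 := by
    rw [lTensor_ηB]
    exact hm
  have h5 : Function.Injective (LinearMap.lTensor B N.subtype) :=
    Module.Flat.lTensor_preserves_injective_linearMap _ N.injective_subtype
  have h6 : ηB A B N ⟨m, h3⟩ = 0 := h5 (h4.trans (map_zero _).symm)
  have h7 : (⟨m, h3⟩ : N) = 0 := by
    apply ηB_injective_of_killed_pow I hs hk n N hN
    rw [h6, map_zero]
  exact congrArg Subtype.val h7

end Alg

end Groth.Agent.Lib.Helper8.EBC
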