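import Mathlib
import Groth.Prelude.Def_DTen4
import Groth.Agent.Lib.Helper16.FlatBC2
import Groth.Agent.Lib.Helper6.DerivedAdj
import Groth.Agent.Lib.Helper8.EBC1

/-! # Helper8 — EBC2: the derived adjunction `B ⊗_A - ⊣ restriction` for a flat ring map, and the unit `K → res (ext K)` is a quasi-isomorphism when it is bijective on cohomology (towards S1731) -/

set_option autoImplicit false

universe u

open CategoryTheory CategoryTheory.Limits DerivedCategory TensorProduct

attribute [local instance] HasDerivedCategory.standard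

namespace Groth.Agent.Lib.Helper8.EBC

open Groth.Agent.Lib.Helper16.FlatBC

section Adj

variable {A B : Type u} [CommRing A] [CommRing B] (φ : A →+* B) [FlatHom φ]

/-- the termwise adjunction between extension and restriction of scalars on complexes -/
noncomputable abbrev adjCx : DTen.extCx φ ⊣ DTen.resCx φ :=
  Groth.Agent.Lib.Helper6.DerivedAdj.adjCx (ModuleCat.extendRestrictScalarsAdj.{u, u, u} φ)
    (ComplexShape.up ℤ)

noncomputable instance : CatCommSq (DTen.extCx φ) (Q : DRing.Cx A ⥤ Dual.D A)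
    (Q : DRing.Cx B ⥤ Dual.D B) (ε φ) :=
  ⟨(ModuleCat.extendScalars.{u, u, u} φ).mapDerivedCategoryFactors.symm⟩

noncomputable instance : CatCommSq (DTen.resCx φ) (Q : DRing.Cx B ⥤ Dual.D B)
    (Q : DRing.Cx A ⥤ Dual.D A) (DRing.restrictD φ) :=
  ⟨(DTen.resFactors φ).symm⟩

/-- the derived adjunction `B ⊗_A - ⊣ restriction` for a flat ring map -/
noncomputable def flatAdj : ε φ ⊣ DRing.restrictD φ :=
  (adjCx φ).localization (Q : DRing.Cx A ⥤ Dual.D A)
    (HomologicalComplex.quasiIso (ModuleCat.{u} A) (ComplexShape.up ℤ))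
    (Q : DRing.Cx B ⥤ Dual.D B)
    (HomologicalComplex.quasiIso (ModuleCat.{u} B) (ComplexShape.up ℤ)) (ε φ) (DRing.restrictD φ)

/-- the additive adjunction bijection -/
noncomputable def flatAdjEquiv (X : Dual.D A) (Y : Dual.D B) :
    ((ε φ).obj X ⟶ Y) ≃+ (X ⟶ (DRing.restrictD φ).obj Y) :=
  (flatAdj φ).homAddEquiv X Y

/-- the composite `res ∘ ext` -/
noncomputable abbrev RE : ModuleCat.{u} A ⥤ ModuleCat.{u} A :=
  ModuleCat.extendScalars.{u, u, u} φ ⋙ ModuleCat.restrictScalars.{u} φ

/-- the unit `M → res (ext M)` -/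
noncomputable abbrev ηRE : 𝟭 (ModuleCat.{u} A) ⟶ RE φ :=
  (ModuleCat.extendRestrictScalarsAdj.{u, u, u} φ).unit

instance : (RE φ).PreservesHomology := inferInstance

/-- **K2** for `res ∘ ext`: if the unit is an isomorphism on all cohomology modules, then the unit
of a complex is a quasi-isomorphism -/
lemma quasiIso_unitCx (K : DRing.Cx A) (h : ∀ i, IsIso ((ηRE φ).app (K.homology i))) :
    QuasiIso ((DTen.unitCx φ).app K) := by
  rw [quasiIso_iff]
  intro i
  rw [quasiIsoAt_iff_isIso_homologyMap]
  have h1 := NatTrans.app_homology (ηRE φ) (K.sc i)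
  have h2 : IsIso (ShortComplex.homologyMap ((K.sc i).mapNatTrans (ηRE φ))) := by
    have : ShortComplex.homologyMap ((K.sc i).mapNatTrans (ηRE φ)) =
        ((K.sc i).mapHomologyIso (𝟭 _)).hom ≫ (ηRE φ).app (K.sc i).homology ≫
          ((K.sc i).mapHomologyIso (RE φ)).inv := by
      rw [h1]
      simp
    rw [this]
    haveI : IsIso ((ηRE φ).app (K.sc i).homology) := h i
    infer_instance
  exact h2

end Adj

section Bridge

variable {A B : Type u} [CommRing A] [CommRing B] [Algebra A B]

lemma ηRE_apply (M : ModuleCat.{u} A) (m : M) :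
    ((ηRE (algebraMap A B)).app M).hom m = extEquivA (B := B) M ((1 : B) ⊗ₜ[A] m) := rfl

lemma bijective_ηRE (M : ModuleCat.{u} A) (h : Function.Bijective (ηB A B M)) :
    Function.Bijective ((ηRE (algebraMap A B)).app M).hom := by
  have : ⇑((ηRE (algebraMap A B)).app M).hom = ⇑(extEquivA (B := B) M) ∘ ⇑(ηB A B M) := by
    funext m
    exact ηRE_apply M m
  rw [this]
  exact (extEquivA (B := B) M).bijective.comp h

lemma isIso_ηRE (M : ModuleCat.{u} A) (h : Function.Bijective (ηB A B M)) :
    IsIso ((ηRE (algebraMap A B)).app M) :=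
  (ConcreteCategory.isIso_iff_bijective _).2 (bijective_ηRE M h)

end Bridge

end Groth.Agent.Lib.Helper8.EBC
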