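import Mathlib
import Groth.Agent.Lib.Helper8.EBC2

/-! # Helper8 — EFB1: for a flat ring map `A → B`, the exact functor `G = res ∘ ext` on `A`-modules, the natural maps `m ↦ b ⊗ m`, the induced functor `T` on `D(A)` and the natural transformations `γ_b : 𝟭 ⟶ T` (towards Ext flat base change and S1775/S1780/S1787/S7867) -/

set_option autoImplicit false

universe u

open CategoryTheory CategoryTheory.Limits DerivedCategory TensorProduct

attribute [local instance] HasDerivedCategory.standard

namespace Groth.Agent.Lib.Helper8.EFB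

open Groth.Agent.Lib.Helper16.FlatBC Groth.Agent.Lib.Helper8.EBC

variable {A B : Type u} [CommRing A] [CommRing B] [Algebra A B] [Module.Flat A B]

/-- `res ∘ ext` on modules -/
noncomputable abbrev G (A B : Type u) [CommRing A] [CommRing B] [Algebra A B] [Module.Flat A B] :
    ModuleCat.{u} A ⥤ ModuleCat.{u} A := RE (algebraMap A B)

/-- `m ↦ b ⊗ m` as a linear map `M → res (ext M)` -/
noncomputable def gLin (b : B) (M : ModuleCat.{u} A) : M →ₗ[A] ((G A B).obj M) where
  toFun m := extEquivA (B := B) M (b ⊗ₜ[A] m)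
  map_add' m m' := by
    rw [TensorProduct.tmul_add, map_add]
    rfl
  map_smul' a m := by
    have h1 : b ⊗ₜ[A] (a • m) = a • (b ⊗ₜ[A] m) := (TensorProduct.tmul_smul a b m)
    rw [h1, map_smul]
    rfl

lemma gLin_apply (b : B) (M : ModuleCat.{u} A) (m : M) :
    gLin b M m = extEquivA (B := B) M (b ⊗ₜ[A] m) := rfl

/-- the natural transformation `m ↦ b ⊗ m` -/
noncomputable def gNat (b : B) : 𝟭 (ModuleCat.{u} A) ⟶ G A B where
  app M := (show ModuleCat.of A M ⟶ ModuleCat.of A ((G A B).obj M) from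
    ModuleCat.ofHom (gLin b M))
  naturality M N f := by
    refine ModuleCat.hom_ext (DFunLike.ext _ _ fun m => ?_)
    rfl

lemma gNat_app_apply (b : B) (M : ModuleCat.{u} A) (m : M) :
    ((gNat b).app M).hom m = extEquivA (B := B) M (b ⊗ₜ[A] m) := rfl

lemma gNat_add (b b' : B) : gNat (A := A) (b + b') = gNat b + gNat b' := by
  ext M m
  change extEquivA (B := B) M ((b + b') ⊗ₜ[A] m) = extEquivA (B := B) M (b ⊗ₜ[A] m) +
    extEquivA (B := B) M (b' ⊗ₜ[A] m)
  rw [TensorProduct.add_tmul, map_add]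

lemma gNat_smul (a : A) (b : B) : gNat (A := A) (a • b) = a • gNat b := by
  ext M m
  change extEquivA (B := B) M ((a • b) ⊗ₜ[A] m) = a • extEquivA (B := B) M (b ⊗ₜ[A] m)
  rw [← map_smul]
  rfl

/-- the induced functor on `D(A)` -/
noncomputable abbrev T (A B : Type u) [CommRing A] [CommRing B] [Algebra A B] [Module.Flat A B] :
    Dual.D A ⥤ Dual.D A := (G A B).mapDerivedCategory

/-- `x ↦ b ⊗ x` on complexes -/
noncomputable def gCx (b : B) :
    𝟭 (DRing.Cx A) ⟶ (G A B).mapHomologicalComplex (ComplexShape.up ℤ) where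
  app X :=
    { f := fun i => (gNat b).app (X.X i)
      comm' := fun i j _ => ((gNat b).naturality (X.d i j)).symm }
  naturality X Y f := by
    apply HomologicalComplex.hom_ext
    intro i
    exact (gNat b).naturality (f.f i)

lemma gCx_app_f (b : B) (X : DRing.Cx A) (i : ℤ) : ((gCx b).app X).f i = (gNat b).app (X.X i) := rfl

/-- `Q` of `x ↦ b ⊗ x` -/
noncomputable def τQ (b : B) :
    (Q : DRing.Cx A ⥤ Dual.D A) ⟶ (G A B).mapHomologicalComplex (ComplexShape.up ℤ) ⋙ Q where
  app X := Q.map ((gCx b).app X)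
  naturality X Y f := by
    change Q.map f ≫ Q.map ((gCx b).app Y) = Q.map ((gCx b).app X) ≫
      Q.map (((G A B).mapHomologicalComplex (ComplexShape.up ℤ)).map f)
    rw [← Functor.map_comp, ← Functor.map_comp]
    exact congrArg Q.map ((gCx b).naturality f)

/-- the natural transformation `γ_b : 𝟭 ⟶ T` on `D(A)` induced by `x ↦ b ⊗ x` -/
noncomputable def γ (b : B) : 𝟭 (Dual.D A) ⟶ T A B :=
  Localization.liftNatTrans Q (HomologicalComplex.quasiIso (ModuleCat.{u} A) (ComplexShape.up ℤ))
    Q ((G A B).mapHomologicalComplex (ComplexShape.up ℤ) ⋙ Q) (𝟭 _) (T A B) (τQ b)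

lemma γ_app_Q (b : B) (X : DRing.Cx A) :
    (γ (A := A) b).app (Q.obj X) = Q.map ((gCx b).app X) ≫
      ((G A B).mapDerivedCategoryFactors).inv.app X := by
  rw [γ, Localization.liftNatTrans_app]
  change 𝟙 _ ≫ _ = _
  rw [Category.id_comp]
  rfl

lemma gCx_add (b b' : B) (X : DRing.Cx A) :
    (gCx (b + b')).app X = (gCx b).app X + (gCx b').app X := by
  apply HomologicalComplex.hom_ext
  intro i
  change (gNat (b + b')).app (X.X i) = (gNat b).app (X.X i) + (gNat b').app (X.X i)
  rw [gNat_add]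
  rfl

lemma gCx_smul (a : A) (b : B) (X : DRing.Cx A) :
    (gCx (a • b)).app X = a • (gCx b).app X := by
  apply HomologicalComplex.hom_ext
  intro i
  change (gNat (a • b)).app (X.X i) = a • (gNat b).app (X.X i)
  rw [gNat_smul]
  rfl

lemma γ_app_eq (b : B) {X : DRing.Cx A} {L : Dual.D A} (e : Q.obj X ≅ L) :
    (γ (A := A) b).app L = e.inv ≫ (γ b).app (Q.obj X) ≫ (T A B).map e.hom := by
  have h := (γ (A := A) b).naturality e.hom
  change e.hom ≫ (γ b).app L = (γ b).app (Q.obj X) ≫ (T A B).map e.hom at h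
  rw [← h, Iso.inv_hom_id_assoc]

lemma γ_add_app (b b' : B) (L : Dual.D A) :
    (γ (A := A) (b + b')).app L = (γ b).app L + (γ b').app L := by
  have e : Q.obj (Q.objPreimage L) ≅ L := Q.objObjPreimageIso L
  rw [γ_app_eq (b + b') e, γ_app_eq b e, γ_app_eq b' e, γ_app_Q, γ_app_Q, γ_app_Q, gCx_add,
    Functor.map_add]
  simp only [Preadditive.add_comp, Preadditive.comp_add]

lemma γ_smul_app (a : A) (b : B) (L : Dual.D A) :
    (γ (A := A) (a • b)).app L = a • (γ b).app L := by
  have e : Q.obj (Q.objPreimage L) ≅ L := Q.objObjPreimageIso L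
  rw [γ_app_eq (a • b) e, γ_app_eq b e, γ_app_Q, γ_app_Q, gCx_smul, Functor.map_smul]
  simp only [Linear.smul_comp, Linear.comp_smul]

end Groth.Agent.Lib.Helper8.EFB
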