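import Mathlib
import Groth.Prelude.Def_Wider

/-!
# Helper8 — HSmul: scalar multiplication on the cohomology of `D(R)`; S7160.
-/

open CategoryTheory CategoryTheory.Limits DerivedCategory CategoryTheory.Pretriangulated

namespace Groth.Agent.Lib.Helper8.HSmul

universe w v u t

section General

variable {R : Type t} [Ring R] {A : Type u} [Category.{v} A] [Abelian A] [Linear R A]

lemma homologyMap_smul_id (L : CochainComplex A ℤ) (r : R) (i : ℤ) :
    HomologicalComplex.homologyMap (r • 𝟙 L) i = r • 𝟙 _ := by
  have h1 : (HomologicalComplex.shortComplexFunctor A (ComplexShape.up ℤ) i).map (r • 𝟙 L) =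
      r • 𝟙 _ := by
    ext <;> simp <;> rfl
  change ShortComplex.homologyMap ((HomologicalComplex.shortComplexFunctor A (ComplexShape.up ℤ) i).map
    (r • 𝟙 L)) = _
  rw [h1, ShortComplex.homologyMap_smul, ShortComplex.homologyMap_id]
  rfl

variable [HasDerivedCategory.{w} A]

/-- `H^i` is `R`-linear on scalar multiples of the identity. -/
theorem homologyFunctor_map_smul_id (M : DerivedCategory A) (r : R) (i : ℤ) :
    (homologyFunctor A i).map (r • 𝟙 M) = r • 𝟙 _ := by
  let L := Q.objPreimage M
  let e : Q.obj L ≅ M := Q.objObjPreimageIso M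
  have h1 : r • 𝟙 M = e.inv ≫ Q.map (r • 𝟙 L) ≫ e.hom := by
    rw [(Q (C := A)).map_smul, CategoryTheory.Functor.map_id, Linear.smul_comp, Category.id_comp,
      Linear.comp_smul, e.inv_hom_id]
  have h2 : (homologyFunctor A i).map (Q.map (r • 𝟙 L)) = r • 𝟙 _ := by
    have nat := (homologyFunctorFactors A i).hom.naturality (r • 𝟙 L)
    have h3 : (HomologicalComplex.homologyFunctor A (ComplexShape.up ℤ) i).map (r • 𝟙 L) =
        r • 𝟙 _ := homologyMap_smul_id L r i
    rw [h3] at nat
    have h4 : (Q ⋙ homologyFunctor A i).map (r • 𝟙 L) =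
        (homologyFunctor A i).map (Q.map (r • 𝟙 L)) := rfl
    rw [h4] at nat
    rw [← cancel_mono ((homologyFunctorFactors A i).hom.app L), nat, Linear.comp_smul,
      Linear.smul_comp, Category.comp_id, Category.id_comp]
  rw [h1, Functor.map_comp, Functor.map_comp, h2, Linear.smul_comp, Linear.comp_smul,
    Category.id_comp, ← Functor.map_comp, e.inv_hom_id, CategoryTheory.Functor.map_id]

end General

section Ring

attribute [local instance] HasDerivedCategory.standard

variable {R : Type u} [CommRing R]

/-- S7160 -/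
theorem cohomology_vanishing_of_localization_and_cone (f : R) (M C : Dual.D R)
    (g : M ⟶ C) (h : C ⟶ M⟦(1 : ℤ)⟧) (hT : Triangle.mk (f • 𝟙 M) g h ∈ distinguishedTriangles)
    (hloc : ∀ i : ℤ, i < 0 → ∀ x : Dual.HD R M i, ∃ n : ℕ, f ^ n • x = 0)
    (hC : ∀ i : ℤ, i < -1 → Subsingleton (Dual.HD R C i)) :
    ∀ i : ℤ, i < 0 → Subsingleton (Dual.HD R M i) := by
  intro i hi
  have hCz : IsZero ((homologyFunctor (ModuleCat.{u} R) (i - 1)).obj C) := by
    have := hC (i - 1) (by omega)
    exact ModuleCat.isZero_of_subsingleton _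
  have hmono : Mono ((homologyFunctor (ModuleCat.{u} R) i).map (f • 𝟙 M)) :=
    (HomologySequence.mono_homologyMap_mor₁_iff _ hT (i - 1) i (by omega)).2 (hCz.eq_of_src _ _)
  rw [homologyFunctor_map_smul_id] at hmono
  have hinj : Function.Injective fun x : Dual.HD R M i => f • x := by
    have := (ModuleCat.mono_iff_injective _).1 hmono
    intro x y hxy
    exact this hxy
  have hinjn : ∀ n : ℕ, Function.Injective fun x : Dual.HD R M i => f ^ n • x := by
    intro n
    induction n with
    | zero =>
      intro x y hxy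
      have h1 : f ^ 0 • x = f ^ 0 • y := hxy
      rw [pow_zero, one_smul, one_smul] at h1
      exact h1
    | succ n ih =>
      intro x y hxy
      have h1 : f ^ n • (f • x) = f ^ n • (f • y) := by
        rw [← mul_smul, ← mul_smul, ← pow_succ]; exact hxy
      exact hinj (ih h1)
  refine ⟨fun x y => ?_⟩
  suffices ∀ x : Dual.HD R M i, x = 0 from (this x).trans (this y).symm
  intro x
  obtain ⟨n, hn⟩ := hloc i hi x
  exact hinjn n (show f ^ n • x = f ^ n • 0 by rw [smul_zero]; exact hn)

end Ring

end Groth.Agent.Lib.Helper8.HSmul
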