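import Mathlib
import Groth.Agent.Lib.Helper8.EFB1
import Groth.Agent.Lib.Helper8.HSmul

/-! # Helper8 — EFB2: the comparison map `cMap H L : B ⊗ H(L) → H(T L)`, `b ⊗ x ↦ H(γ_b)(x)`, for a linear functor `H : D(A) ⥤ Mod_A`; naturality and transfer along natural equivalences -/

set_option autoImplicit false

universe w w' u

open CategoryTheory CategoryTheory.Limits DerivedCategory TensorProduct

attribute [local instance] HasDerivedCategory.standard

namespace Groth.Agent.Lib.Helper8.EFB

open Groth.Agent.Lib.Helper16.FlatBC Groth.Agent.Lib.Helper8.EBC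

variable {A B : Type u} [CommRing A] [CommRing B] [Algebra A B] [Module.Flat A B]

section CMap

variable (H : Dual.D A ⥤ ModuleCat.{w} A) [H.Additive] [Functor.Linear A H]

/-- the base change comparison map `B ⊗ H(L) → H(T L)`, `b ⊗ x ↦ H(γ_b)(x)` -/
noncomputable def cMap (B : Type u) [CommRing B] [Algebra A B] [Module.Flat A B] (L : Dual.D A) :
    B ⊗[A] (H.obj L) →ₗ[A] H.obj ((T A B).obj L) :=
  TensorProduct.lift (LinearMap.mk₂ A (fun (b : B) (x : H.obj L) => (H.map ((γ b).app L)).hom x)
    (fun b b' x => by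
      rw [γ_add_app, Functor.map_add, ModuleCat.hom_add, LinearMap.add_apply])
    (fun a b x => by
      rw [γ_smul_app, Functor.map_smul, ModuleCat.hom_smul, LinearMap.smul_apply])
    (fun b x x' => map_add _ x x')
    (fun a b x => map_smul _ a x))

@[simp] lemma cMap_tmul (L : Dual.D A) (b : B) (x : H.obj L) :
    cMap H B L (b ⊗ₜ[A] x) = (H.map ((γ b).app L)).hom x := by
  rw [cMap, TensorProduct.lift.tmul]
  rfl

/-- naturality of `cMap` in `L` -/
lemma cMap_naturality {L L' : Dual.D A} (g : L ⟶ L') :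
    (cMap H B L') ∘ₗ (LinearMap.lTensor B (H.map g).hom) =
      (H.map ((T A B).map g)).hom ∘ₗ (cMap H B L) := by
  apply TensorProduct.ext'
  intro b x
  rw [LinearMap.comp_apply, LinearMap.comp_apply, LinearMap.lTensor_tmul, cMap_tmul, cMap_tmul]
  have h := (γ (A := A) b).naturality g
  have h2 : H.map g ≫ H.map ((γ b).app L') = H.map ((γ b).app L) ≫ H.map ((T A B).map g) := by
    rw [← H.map_comp, ← H.map_comp]
    exact congrArg H.map h
  exact congrArg (fun t => t.hom x) h2

lemma bijective_cMap_of_iso {L L' : Dual.D A} (e : L ≅ L')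
    (h : Function.Bijective (cMap H B L)) : Function.Bijective (cMap H B L') := by
  have h1 := cMap_naturality (B := B) H e.hom
  let E1 : H.obj L ≃ₗ[A] H.obj L' := (H.mapIso e).toLinearEquiv
  let E2 : H.obj ((T A B).obj L) ≃ₗ[A] H.obj ((T A B).obj L') :=
    (H.mapIso ((T A B).mapIso e)).toLinearEquiv
  have h2 : (cMap H B L') ∘ₗ (LinearEquiv.lTensor B E1).toLinearMap =
      E2.toLinearMap ∘ₗ (cMap H B L) := h1
  have h3 : (cMap H B L') = E2.toLinearMap ∘ₗ (cMap H B L) ∘ₗ
      (LinearEquiv.lTensor B E1).symm.toLinearMap := by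
    rw [← LinearMap.comp_assoc, ← h2, LinearMap.comp_assoc]
    ext x
    simp
  rw [h3]
  exact E2.bijective.comp (h.comp (LinearEquiv.lTensor B E1).symm.bijective)

end CMap

section Transfer

variable (H : Dual.D A ⥤ ModuleCat.{w} A) [H.Additive] [Functor.Linear A H]
  (H' : Dual.D A ⥤ ModuleCat.{w'} A) [H'.Additive] [Functor.Linear A H']

/-- transfer of bijectivity of `cMap` along a natural family of linear equivalences -/
lemma bijective_cMap_of_natEquiv (e : ∀ X : Dual.D A, H.obj X ≃ₗ[A] H'.obj X)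
    (he : ∀ {X Y : Dual.D A} (g : X ⟶ Y) (x : H.obj X),
      e Y ((H.map g).hom x) = (H'.map g).hom (e X x))
    (L : Dual.D A) (h : Function.Bijective (cMap H B L)) : Function.Bijective (cMap H' B L) := by
  have h2 : (cMap H' B L) ∘ₗ (LinearEquiv.lTensor B (e L)).toLinearMap =
      (e ((T A B).obj L)).toLinearMap ∘ₗ (cMap H B L) := by
    apply TensorProduct.ext'
    intro b x
    simp only [LinearMap.comp_apply, LinearEquiv.coe_coe, LinearEquiv.lTensor_tmul, cMap_tmul]
    exact (he _ x).symm
  have h3 : (cMap H' B L) = (e ((T A B).obj L)).toLinearMap ∘ₗ (cMap H B L) ∘ₗ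
      (LinearEquiv.lTensor B (e L)).symm.toLinearMap := by
    rw [← LinearMap.comp_assoc, ← h2, LinearMap.comp_assoc]
    ext x
    simp
  rw [h3]
  exact (e _).bijective.comp (h.comp (LinearEquiv.lTensor B (e L)).symm.bijective)

end Transfer

end Groth.Agent.Lib.Helper8.EFB
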