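import Mathlib
import Groth.Agent.Lib.Helper8.EFB2

/-! # Helper8 — EFB3: flat base change for cohomology in the form `B ⊗ H^m(L) → H^m(T L)`, `b ⊗ x ↦ H^m(γ_b)(x)`, is bijective -/

set_option autoImplicit false

universe w w' u

open CategoryTheory CategoryTheory.Limits DerivedCategory TensorProduct

attribute [local instance] HasDerivedCategory.standard

namespace Groth.Agent.Lib.Helper8.EFB

open Groth.Agent.Lib.Helper16.FlatBC Groth.Agent.Lib.Helper8.EBC

variable {A B : Type u} [CommRing A] [CommRing B] [Algebra A B] [Module.Flat A B]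

instance linear_homologyFunctor (m : ℤ) :
    Functor.Linear A (homologyFunctor (ModuleCat.{u} A) m) where
  map_smul {X Y} f a := by
    have h1 : a • f = f ≫ (a • 𝟙 Y) := by rw [Linear.comp_smul, Category.comp_id]
    rw [h1, Functor.map_comp, Groth.Agent.Lib.Helper8.HSmul.homologyFunctor_map_smul_id,
      Linear.comp_smul, Category.comp_id]

variable (B) in
/-- `H^m(T (Q X)) ≅ G (H^m (Q X))` -/
noncomputable def ρ (X : DRing.Cx A) (m : ℤ) :
    (homologyFunctor (ModuleCat.{u} A) m).obj ((T A B).obj (Q.obj X)) ≅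
      (G A B).obj ((homologyFunctor (ModuleCat.{u} A) m).obj (Q.obj X)) :=
  (homologyFunctor (ModuleCat.{u} A) m).mapIso ((G A B).mapDerivedCategoryFactors.app X) ≪≫
    (homologyFunctorFactors (ModuleCat.{u} A) m).app _ ≪≫
    (X.sc m).mapHomologyIso (G A B) ≪≫
    (G A B).mapIso ((homologyFunctorFactors (ModuleCat.{u} A) m).app X).symm

/-- an automorphism of `H^m(Q X)` (in fact the identity, but we do not need this) -/
noncomputable def ι (X : DRing.Cx A) (m : ℤ) :
    (homologyFunctor (ModuleCat.{u} A) m).obj (Q.obj X) ≅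
      (homologyFunctor (ModuleCat.{u} A) m).obj (Q.obj X) :=
  (homologyFunctorFactors (ModuleCat.{u} A) m).app X ≪≫
    (X.sc m).mapHomologyIso (𝟭 (ModuleCat.{u} A)) ≪≫
    ((homologyFunctorFactors (ModuleCat.{u} A) m).app X).symm

lemma homologyMap_gCx (b : B) (X : DRing.Cx A) (m : ℤ) :
    HomologicalComplex.homologyMap ((gCx b).app X) m ≫ ((X.sc m).mapHomologyIso (G A B)).hom =
      ((X.sc m).mapHomologyIso (𝟭 (ModuleCat.{u} A))).hom ≫ (gNat b).app (X.homology m) := by
  have h1 := ShortComplex.homologyMap_mapNatTrans (S := X.sc m) (gNat (A := A) b)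
  have h2 : ShortComplex.homologyMap ((X.sc m).mapNatTrans (gNat b)) ≫
      ((X.sc m).mapHomologyIso (G A B)).hom =
      ((X.sc m).mapHomologyIso (𝟭 (ModuleCat.{u} A))).hom ≫ (gNat b).app (X.sc m).homology := by
    rw [h1]
    simp only [Category.assoc, Iso.inv_hom_id, Category.comp_id]
  exact h2

lemma map_γ_ρ (b : B) (X : DRing.Cx A) (m : ℤ) :
    (homologyFunctor (ModuleCat.{u} A) m).map ((γ b).app (Q.obj X)) ≫ (ρ B X m).hom =
      (ι X m).hom ≫ (gNat b).app ((homologyFunctor (ModuleCat.{u} A) m).obj (Q.obj X)) := by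
  let H := homologyFunctor (ModuleCat.{u} A) m
  let hff := homologyFunctorFactors (ModuleCat.{u} A) m
  let fac := (G A B).mapDerivedCategoryFactors
  let isoG := (X.sc m).mapHomologyIso (G A B)
  let iso1 := (X.sc m).mapHomologyIso (𝟭 (ModuleCat.{u} A))
  have hn : H.map (Q.map ((gCx b).app X)) ≫ hff.hom.app _ =
      hff.hom.app X ≫ HomologicalComplex.homologyMap ((gCx b).app X) m :=
    hff.hom.naturality ((gCx b).app X)
  have hg : hff.inv.app X ≫ (gNat b).app (H.obj (Q.obj X)) =
      (gNat b).app (X.homology m) ≫ (G A B).map (hff.inv.app X) :=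
    (gNat (A := A) b).naturality (hff.inv.app X)
  have e0 : (γ (A := A) b).app (Q.obj X) ≫ fac.hom.app X = Q.map ((gCx b).app X) := by
    rw [γ_app_Q, Category.assoc]
    have : fac.inv.app X ≫ fac.hom.app X = 𝟙 _ := Iso.inv_hom_id_app fac X
    rw [this]
    exact Category.comp_id _
  have e1 : H.map ((γ b).app (Q.obj X)) ≫ H.map (fac.hom.app X) =
      H.map (Q.map ((gCx b).app X)) := by
    rw [← H.map_comp, e0]
  have e2 := homologyMap_gCx b X m
  have lhs : H.map ((γ b).app (Q.obj X)) ≫ (ρ B X m).hom =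
      H.map ((γ b).app (Q.obj X)) ≫ (H.map (fac.hom.app X) ≫
        hff.hom.app _ ≫ isoG.hom ≫ (G A B).map (hff.inv.app X)) := rfl
  have rhs : (ι X m).hom ≫ (gNat b).app (H.obj (Q.obj X)) =
      (hff.hom.app X ≫ iso1.hom ≫ hff.inv.app X) ≫ (gNat b).app (H.obj (Q.obj X)) := rfl
  rw [lhs, rhs, reassoc_of% e1, reassoc_of% hn]
  have e3 : HomologicalComplex.homologyMap ((gCx b).app X) m ≫ isoG.hom ≫
      (G A B).map (hff.inv.app X) = iso1.hom ≫ hff.inv.app X ≫ (gNat b).app (H.obj (Q.obj X)) := by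
    have a1 : HomologicalComplex.homologyMap ((gCx b).app X) m ≫ isoG.hom ≫
        (G A B).map (hff.inv.app X) = (HomologicalComplex.homologyMap ((gCx b).app X) m ≫ isoG.hom) ≫
        (G A B).map (hff.inv.app X) := (Category.assoc _ _ _).symm
    have a2 : (HomologicalComplex.homologyMap ((gCx b).app X) m ≫ isoG.hom) ≫
        (G A B).map (hff.inv.app X) = (iso1.hom ≫ (gNat b).app (X.homology m)) ≫
        (G A B).map (hff.inv.app X) := congrArg (fun t => t ≫ (G A B).map (hff.inv.app X)) e2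
    have a3 : (iso1.hom ≫ (gNat b).app (X.homology m)) ≫ (G A B).map (hff.inv.app X) =
        iso1.hom ≫ ((gNat b).app (X.homology m) ≫ (G A B).map (hff.inv.app X)) :=
      Category.assoc _ _ _
    have a4 : iso1.hom ≫ ((gNat b).app (X.homology m) ≫ (G A B).map (hff.inv.app X)) =
        iso1.hom ≫ (hff.inv.app X ≫ (gNat b).app (H.obj (Q.obj X))) :=
      congrArg (fun t => iso1.hom ≫ t) hg.symm
    exact a1.trans (a2.trans (a3.trans a4))
  simp only [Category.assoc]
  exact congrArg (fun t => hff.hom.app X ≫ t) e3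

variable (B) in
/-- the map `B ⊗ M → G M`, `b ⊗ x ↦ b ⊗ x`, as a linear map into `G M` -/
noncomputable def tLin (M : ModuleCat.{u} A) : B ⊗[A] M →ₗ[A] ((G A B).obj M) :=
  TensorProduct.lift (LinearMap.mk₂ A (fun (b : B) (x : M) => gLin b M x)
    (fun b b' x => by
      change extEquivA (B := B) M ((b + b') ⊗ₜ[A] x) = extEquivA (B := B) M (b ⊗ₜ[A] x) +
        extEquivA (B := B) M (b' ⊗ₜ[A] x)
      rw [TensorProduct.add_tmul, map_add])
    (fun a b x => by
      change extEquivA (B := B) M ((a • b) ⊗ₜ[A] x) = a • extEquivA (B := B) M (b ⊗ₜ[A] x)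
      rw [← map_smul]
      rfl)
    (fun b x x' => map_add _ x x')
    (fun a b x => map_smul _ a x))

lemma tLin_tmul (M : ModuleCat.{u} A) (b : B) (x : M) :
    tLin B M (b ⊗ₜ[A] x) = ((gNat b).app M).hom x := by
  rw [tLin, TensorProduct.lift.tmul]
  rfl

lemma tLin_eq (M : ModuleCat.{u} A) (z : B ⊗[A] M) : tLin B M z = extEquivA (B := B) M z := by
  induction z using TensorProduct.induction_on with
  | zero => rw [map_zero, map_zero]; rfl
  | tmul b x => rw [tLin_tmul]; rfl
  | add z z' hz hz' => rw [map_add, map_add, hz, hz']; rfl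

lemma bijective_tLin (M : ModuleCat.{u} A) : Function.Bijective (tLin B M) := by
  have : ⇑(tLin B M) = ⇑(extEquivA (B := B) M) := funext (tLin_eq M)
  rw [this]
  exact (extEquivA (B := B) M).bijective

/-- **flat base change for cohomology**: `B ⊗ H^m(L) → H^m(T L)` is bijective (for `L = Q X`) -/
theorem bijective_cMap_homology_Q (X : DRing.Cx A) (m : ℤ) :
    Function.Bijective (cMap (homologyFunctor (ModuleCat.{u} A) m) B (Q.obj X)) := by
  let H := homologyFunctor (ModuleCat.{u} A) m
  have key : (ρ B X m).hom.hom ∘ₗ (cMap H B (Q.obj X)) =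
      (tLin B (H.obj (Q.obj X))) ∘ₗ (LinearMap.lTensor B (ι X m).hom.hom) := by
    apply TensorProduct.ext'
    intro b x
    rw [LinearMap.comp_apply, LinearMap.comp_apply, cMap_tmul, LinearMap.lTensor_tmul, tLin_tmul]
    exact congrArg (fun t => t.hom x) (map_γ_ρ b X m)
  let E1 : H.obj (Q.obj X) ≃ₗ[A] H.obj (Q.obj X) := (ι X m).toLinearEquiv
  let E2 := (ρ B X m).toLinearEquiv
  have key2 : E2.toLinearMap ∘ₗ (cMap H B (Q.obj X)) =
      (tLin B (H.obj (Q.obj X))) ∘ₗ (LinearEquiv.lTensor B E1).toLinearMap := key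
  have h3 : cMap H B (Q.obj X) = E2.symm.toLinearMap ∘ₗ (tLin B (H.obj (Q.obj X))) ∘ₗ
      (LinearEquiv.lTensor B E1).toLinearMap := by
    rw [← key2, ← LinearMap.comp_assoc]
    ext x
    simp
  rw [h3]
  exact E2.symm.bijective.comp ((bijective_tLin _).comp (LinearEquiv.lTensor B E1).bijective)

/-- **flat base change for cohomology**: `B ⊗ H^m(L) → H^m(T L)` is bijective -/
theorem bijective_cMap_homology (L : Dual.D A) (m : ℤ) :
    Function.Bijective (cMap (homologyFunctor (ModuleCat.{u} A) m) B L) :=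
  bijective_cMap_of_iso _ (Q.objObjPreimageIso L) (bijective_cMap_homology_Q _ m)

end Groth.Agent.Lib.Helper8.EFB
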