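import Mathlib
import Groth.Agent.Lib.Helper8.EFB3
import Groth.Agent.Lib.Helper1.DCompactSingle

/-! # Helper8 — EFB4: `Hom(A[0]⟦n⟧, X) ≃ H^{-n}(X)` naturally and linearly; the base case of Ext flat base change: `B ⊗ Hom(A[0]⟦n⟧, L) → Hom(A[0]⟦n⟧, T L)` is bijective -/

set_option autoImplicit false

universe w w' u

open CategoryTheory CategoryTheory.Limits DerivedCategory TensorProduct

attribute [local instance] HasDerivedCategory.standard

namespace Groth.Agent.Lib.Helper8.EFB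

open Groth.Agent.Lib.Helper16.FlatBC Groth.Agent.Lib.Helper8.EBC Groth.Agent.Lib.Helper8.DSingleHom
  Groth.Agent.Lib.Helper1.DCompactSingle

variable {A B : Type u} [CommRing A] [CommRing B] [Algebra A B] [Module.Flat A B]

/-- the `A`-linear Hom functor `Hom(K, -)` -/
noncomputable abbrev HomF (K : Dual.D A) : Dual.D A ⥤ ModuleCat.{u + 1} A :=
  (linearCoyoneda A (Dual.D A)).obj (Opposite.op K)

instance (K : Dual.D A) : Functor.Linear A (HomF K) where
  map_smul {X Y} f a := by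
    refine ModuleCat.hom_ext (LinearMap.ext fun (g : K ⟶ X) => ?_)
    change g ≫ (a • f) = a • (g ≫ f)
    exact Linear.comp_smul _ _ _ g a f

lemma HomF_map_apply (K : Dual.D A) {X Y : Dual.D A} (g : X ⟶ Y) (f : K ⟶ X) :
    ((HomF K).map g).hom f = f ≫ g := rfl

variable (A) in
/-- `A[0]` as `Q` of the single complex -/
noncomputable abbrev S₀ : Dual.D A := Q.obj (sg (ModuleCat.of A A))

/-- evaluation at the generator, as a linear map -/
noncomputable def evLin (Y : Dual.D A) :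
    (S₀ A ⟶ Y) →ₗ[A] (homologyFunctor (ModuleCat.{u} A) 0).obj Y where
  toFun g := (θ g).hom (1 : A)
  map_add' g g' := by
    rw [θ_add, ModuleCat.hom_add, LinearMap.add_apply]
  map_smul' a g := by
    have h : θ (a • g) = a • θ g := by
      simp only [θ, Functor.map_smul, Linear.comp_smul]
    rw [h, ModuleCat.hom_smul, LinearMap.smul_apply]
    rfl

lemma evLin_apply (Y : Dual.D A) (g : S₀ A ⟶ Y) : evLin Y g = (θ g).hom (1 : A) := rfl

lemma evLin_comp {Y Y' : Dual.D A} (g : S₀ A ⟶ Y) (l : Y ⟶ Y') :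
    evLin Y' (g ≫ l) = ((homologyFunctor (ModuleCat.{u} A) 0).map l).hom (evLin Y g) := by
  rw [evLin_apply, evLin_apply, θ_comp]
  rfl

lemma bijective_evLin (Y : Dual.D A) : Function.Bijective (evLin (A := A) Y) := by
  constructor
  · intro g g' h
    apply θ_injective (ModuleCat.of A A) Y
    refine ModuleCat.hom_ext (LinearMap.ext_ring ?_)
    exact h
  · intro y
    obtain ⟨g, hg⟩ := θ_surjective (ModuleCat.of A A) Y
      (ModuleCat.ofHom (LinearMap.toSpanSingleton A _ y))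
    refine ⟨g, ?_⟩
    rw [evLin_apply, hg]
    simp

/-- evaluation at the generator, as a linear equivalence `Hom(A[0], Y) ≃ H^0(Y)` -/
noncomputable def evEquiv (Y : Dual.D A) :
    (S₀ A ⟶ Y) ≃ₗ[A] (homologyFunctor (ModuleCat.{u} A) 0).obj Y :=
  LinearEquiv.ofBijective (evLin Y) (bijective_evLin Y)

/-- the shift as a linear equivalence on Hom modules -/
noncomputable def shiftEquivLin (n : ℤ) (K X : Dual.D A) :
    (K ⟶ X) ≃ₗ[A] (K⟦n⟧ ⟶ X⟦n⟧) :=
  LinearEquiv.ofBijective (Functor.mapLinearMap A (shiftFunctor (Dual.D A) n))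
    ⟨(shiftFunctor (Dual.D A) n).map_injective, (shiftFunctor (Dual.D A) n).map_surjective⟩

lemma shiftEquivLin_apply (n : ℤ) (K X : Dual.D A) (f : K ⟶ X) :
    shiftEquivLin n K X f = f⟦n⟧' := rfl

/-- precomposition with an isomorphism as a linear equivalence -/
noncomputable def precompEquivLin {K K' : Dual.D A} (j : K' ≅ K) (Y : Dual.D A) :
    (K ⟶ Y) ≃ₗ[A] (K' ⟶ Y) where
  toFun g := j.hom ≫ g
  invFun g := j.inv ≫ g
  map_add' g g' := Preadditive.comp_add _ _ _ _ _ _
  map_smul' a g := Linear.comp_smul _ _ _ _ _ _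
  left_inv g := by simp
  right_inv g := by simp

/-- `Hom(A[0]⟦n⟧, X) ≃ H^{-n}(X)` -/
noncomputable def sphereEquiv (n : ℤ) (X : Dual.D A) :
    ((S₀ A)⟦n⟧ ⟶ X) ≃ₗ[A] (homologyFunctor (ModuleCat.{u} A) (-n)).obj X :=
  (shiftEquivLin (-n) ((S₀ A)⟦n⟧) X).trans
    ((precompEquivLin ((shiftFunctorCompIsoId (Dual.D A) n (-n) (add_neg_cancel n)).app
        (S₀ A)).symm (X⟦-n⟧)).trans
      ((evEquiv (X⟦-n⟧)).trans
        (((homologyFunctor (ModuleCat.{u} A) 0).shiftIso (-n) 0 (-n) (add_zero _)).app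
          X).toLinearEquiv))

lemma sphereEquiv_comp (n : ℤ) {X Y : Dual.D A} (f : (S₀ A)⟦n⟧ ⟶ X) (g : X ⟶ Y) :
    sphereEquiv n Y (f ≫ g) =
      ((homologyFunctor (ModuleCat.{u} A) (-n)).map g).hom (sphereEquiv n X f) := by
  let j := ((shiftFunctorCompIsoId (Dual.D A) n (-n) (add_neg_cancel n)).app (S₀ A)).symm
  let si := (homologyFunctor (ModuleCat.{u} A) 0).shiftIso (-n) 0 (-n) (add_zero _)
  change (si.hom.app Y).hom (evLin (Y⟦-n⟧) (j.hom ≫ (f ≫ g)⟦-n⟧')) =
    ((homologyFunctor (ModuleCat.{u} A) (-n)).map g).hom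
      ((si.hom.app X).hom (evLin (X⟦-n⟧) (j.hom ≫ f⟦-n⟧')))
  rw [Functor.map_comp, ← Category.assoc, evLin_comp]
  have hn := si.hom.naturality g
  exact congrArg (fun t => t.hom (evLin (X⟦-n⟧) (j.hom ≫ f⟦-n⟧'))) hn

/-- **base case**: `B ⊗ Hom(A[0]⟦n⟧, L) → Hom(A[0]⟦n⟧, T L)` is bijective -/
theorem bijective_cMap_sphere (n : ℤ) (L : Dual.D A) :
    Function.Bijective (cMap (HomF ((S₀ A)⟦n⟧)) B L) := by
  refine bijective_cMap_of_natEquiv (homologyFunctor (ModuleCat.{u} A) (-n)) (HomF ((S₀ A)⟦n⟧))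
    (fun X => (sphereEquiv n X).symm) ?_ L (bijective_cMap_homology L (-n))
  intro X Y g x
  apply (sphereEquiv n Y).injective
  have h1 : sphereEquiv n Y ((sphereEquiv n Y).symm
      (((homologyFunctor (ModuleCat.{u} A) (-n)).map g).hom x)) =
      ((homologyFunctor (ModuleCat.{u} A) (-n)).map g).hom x :=
    (sphereEquiv n Y).apply_symm_apply _
  have h2 : sphereEquiv n Y ((sphereEquiv n X).symm x ≫ g) =
      ((homologyFunctor (ModuleCat.{u} A) (-n)).map g).hom
        (sphereEquiv n X ((sphereEquiv n X).symm x)) := sphereEquiv_comp n _ g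
  have h3 : sphereEquiv n X ((sphereEquiv n X).symm x) = x :=
    (sphereEquiv n X).apply_symm_apply x
  rw [h3] at h2
  exact h1.trans h2.symm

end Groth.Agent.Lib.Helper8.EFB
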