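import Mathlib
import Groth.Prelude.Def_DRing2
import Groth.Agent.Lib.Helper8.Stupid1

/-!
# Helper8 — Perf1: perfect complexes lie in every thick subcategory containing `R` (S7010).
-/

open CategoryTheory CategoryTheory.Limits DerivedCategory CategoryTheory.Pretriangulated

attribute [local instance] HasDerivedCategory.standard

namespace Groth.Agent.Lib.Helper8.Perf

open Groth.Agent.Lib.Helper8.Stupid

universe u

variable {R : Type u} [CommRing R]

section

variable (P : ObjectProperty (Dual.D R)) [P.IsClosedUnderIsomorphisms]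
  (hR : P (Dual.inD R R))
  (hext : ∀ T : Triangle (Dual.D R), T ∈ distinguishedTriangles → P T.obj₁ → P T.obj₃ → P T.obj₂)
  (hsum : ∀ (X Y : Dual.D R) [HasBinaryBiproduct X Y], P (X ⊞ Y) → P X)

include hR hsum in
lemma prop_of_isZero (Z : Dual.D R) (hZ : IsZero Z) : P Z := by
  have e : Z ⊞ (Dual.inD R R) ≅ Dual.inD R R :=
    { hom := biprod.snd
      inv := biprod.inr
      hom_inv_id := by
        apply biprod.hom_ext
        · exact hZ.eq_of_tgt _ _
        · simp
      inv_hom_id := by simp }
  exact hsum Z (Dual.inD R R) (P.prop_of_iso e.symm hR)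

include hext in
lemma prop_prod (M N : Type u) [AddCommGroup M] [Module R M] [AddCommGroup N] [Module R N]
    (hM : P (Dual.inD R M)) (hN : P (Dual.inD R N)) : P (Dual.inD R (M × N)) := by
  let S : ShortComplex (ModuleCat.{u} R) :=
    ModuleCat.shortComplexOfCompEqZero (LinearMap.inl R M N) (LinearMap.snd R M N)
      (Function.Exact.inl_snd (R := R) (M := M) (N := N)).linearMap_comp_eq_zero
  have hS : S.ShortExact := ModuleCat.shortComplex_shortExact S
    (Function.Exact.inl_snd (R := R) (M := M) (N := N)) LinearMap.inl_injective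
      LinearMap.snd_surjective
  exact hext _ hS.singleTriangle_distinguished hM hN

include hR hext hsum in
lemma prop_free (n : ℕ) : P (Dual.inD R (Fin n → R)) := by
  induction n with
  | zero =>
    refine prop_of_isZero P hR hsum _ (Functor.map_isZero _ ?_)
    exact ModuleCat.isZero_of_subsingleton _
  | succ n ih =>
    have h1 := prop_prod P hext R (Fin n → R) hR ih
    exact P.prop_of_iso ((singleFunctor (ModuleCat.{u} R) 0).mapIso
      (Fin.consLinearEquiv R (fun _ : Fin (n + 1) => R)).toModuleIso) h1

include hR hext hsum in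
lemma prop_finite_projective (M : Type u) [AddCommGroup M] [Module R M] [Module.Finite R M]
    [Module.Projective R M] : P (Dual.inD R M) := by
  obtain ⟨n, f, g, -, -, hfg⟩ := Module.Finite.exists_comp_eq_id_of_projective R M
  let F := singleFunctor (ModuleCat.{u} R) 0
  let i : Dual.inD R M ⟶ Dual.inD R (Fin n → R) := F.map (ModuleCat.ofHom g)
  let p : Dual.inD R (Fin n → R) ⟶ Dual.inD R M := F.map (ModuleCat.ofHom f)
  have hip : i ≫ p = 𝟙 _ := by
    rw [← Functor.map_comp, ← ModuleCat.ofHom_comp, hfg]
    exact F.map_id _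
  obtain ⟨Y, c, d, hT⟩ := distinguished_cocone_triangle i
  have : Mono i := SplitMono.mono ⟨p, hip⟩
  have hd : d = 0 := Triangle.mor₃_eq_zero_of_mono₁ _ hT this
  obtain ⟨e, -, -⟩ := exists_iso_binaryBiproduct_of_distTriang _ hT hd
  exact hsum _ Y (P.prop_of_iso e (prop_free P hR hext hsum n))

include hR hext hsum in
/-- S7010 -/
theorem perfect_mem
    (hshift : ∀ (K : Dual.D R) (n : ℤ), P K → P ((shiftFunctor (Dual.D R) n).obj K))
    (K : Dual.D R) (hK : DRing.IsPerfect R K) : P K := by
  obtain ⟨E, a, b, h1, h2, ⟨e⟩⟩ := hK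
  refine P.prop_of_iso e ?_
  refine induction_bounded P hext (prop_of_isZero P hR hsum) (b + 1 - a).toNat E a ?_ ?_
  · intro i hi
    refine h1 i ?_
    rcases hi with hi | hi
    · exact Or.inl hi
    · by_cases hab : a ≤ b + 1
      · rw [Int.toNat_of_nonneg (by omega)] at hi
        exact Or.inr (by omega)
      · rw [Int.toNat_of_nonpos (by omega)] at hi
        exact Or.inr (by omega)
  · intro i
    have := (h2 i).1
    have := (h2 i).2
    have h3 : P (Dual.inD R (E.X i)) := prop_finite_projective P hR hext hsum (E.X i)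
    exact P.prop_of_iso (((singleFunctors (ModuleCat.{u} R)).shiftIso (-i) i 0 (by omega)).app (E.X i))
      (hshift _ (-i) h3)

end

end Groth.Agent.Lib.Helper8.Perf
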