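import Mathlib
import Groth.Agent.Lib.Helper8.EFB4
import Groth.Agent.Lib.Helper8.Perf1

/-! # Helper8 — EFB5: the comparison `Ψ K L : B ⊗ Hom(K, L) → Hom(K, T L)`; two-out-of-three for distinguished triangles in `K` (five lemma, flatness of `B`); Ext flat base change for perfect `K` and arbitrary `L` -/

set_option autoImplicit false

universe w w' u

open CategoryTheory CategoryTheory.Limits DerivedCategory TensorProduct CategoryTheory.Pretriangulated

attribute [local instance] HasDerivedCategory.standard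

namespace Groth.Agent.Lib.Helper8.EFB

open Groth.Agent.Lib.Helper16.FlatBC Groth.Agent.Lib.Helper8.EBC Groth.Agent.Lib.Helper8.DSingleHom

variable {A : Type u} [CommRing A]

/-- exactness of `Hom(-, L)` on a distinguished triangle, in linear form -/
lemma exact_leftComp (L : Dual.D A) (Tr : Triangle (Dual.D A)) (hT : Tr ∈ distTriang (Dual.D A)) :
    Function.Exact (Linear.leftComp A L Tr.mor₂) (Linear.leftComp A L Tr.mor₁) := by
  intro f
  constructor
  · intro hf
    obtain ⟨g, hg⟩ := Triangle.yoneda_exact₂ Tr hT f hf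
    exact ⟨g, hg.symm⟩
  · rintro ⟨g, rfl⟩
    change Tr.mor₁ ≫ Tr.mor₂ ≫ g = 0
    rw [← Category.assoc, comp_distTriang_mor_zero₁₂ _ hT, zero_comp]

variable (B : Type u) [CommRing B] [Algebra A B] [Module.Flat A B]

/-- the comparison map `B ⊗ Hom(K, L) → Hom(K, T L)`, `b ⊗ f ↦ f ≫ γ_b` -/
noncomputable abbrev Ψ (K L : Dual.D A) : B ⊗[A] (K ⟶ L) →ₗ[A] (K ⟶ (T A B).obj L) :=
  cMap (HomF K) B L

lemma Ψ_tmul (K L : Dual.D A) (b : B) (f : K ⟶ L) :
    Ψ B K L (b ⊗ₜ[A] f) = f ≫ (γ b).app L := by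
  change cMap (HomF K) B L (b ⊗ₜ[A] f) = _
  rw [cMap_tmul]
  rfl

/-- `Ψ` is bijective at `(K, L)` -/
def Good (K L : Dual.D A) : Prop := Function.Bijective (Ψ B K L)

variable {B}

/-- naturality of `Ψ` in `K` -/
lemma Ψ_naturality {K K' : Dual.D A} (g : K' ⟶ K) (L : Dual.D A) :
    (Linear.leftComp A ((T A B).obj L) g : (K ⟶ (T A B).obj L) →ₗ[A] (K' ⟶ (T A B).obj L)) ∘ₗ
      (Ψ B K L) = (Ψ B K' L) ∘ₗ (LinearMap.lTensor B
        (Linear.leftComp A L g : (K ⟶ L) →ₗ[A] (K' ⟶ L))) := by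
  apply TensorProduct.ext'
  intro b f
  rw [LinearMap.comp_apply, LinearMap.comp_apply, LinearMap.lTensor_tmul, Ψ_tmul, Ψ_tmul]
  change g ≫ f ≫ (γ b).app L = (g ≫ f) ≫ (γ b).app L
  rw [Category.assoc]

lemma Good.of_retract {K K' L : Dual.D A} (i : K ⟶ K') (p : K' ⟶ K) (hip : i ≫ p = 𝟙 K)
    (h : Good B K' L) : Good B K L := by
  have hi := Ψ_naturality (B := B) i L
  have hp := Ψ_naturality (B := B) p L
  have hpi : (LinearMap.lTensor B (Linear.leftComp A L i)) ∘ₗ
      (LinearMap.lTensor B (Linear.leftComp A L p)) = LinearMap.id := by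
    rw [← LinearMap.lTensor_comp]
    have : (Linear.leftComp A L i) ∘ₗ (Linear.leftComp A L p) = LinearMap.id := by
      ext f
      change i ≫ p ≫ f = f
      rw [← Category.assoc, hip, Category.id_comp]
    rw [this, LinearMap.lTensor_id]
  constructor
  · intro z z' hz
    have h1 : LinearMap.lTensor B (Linear.leftComp A L p) z =
        LinearMap.lTensor B (Linear.leftComp A L p) z' := by
      apply h.1
      have e1 := LinearMap.congr_fun hp z
      have e2 := LinearMap.congr_fun hp z'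
      rw [LinearMap.comp_apply, LinearMap.comp_apply] at e1 e2
      rw [← e1, ← e2, hz]
    have h2 := congrArg (LinearMap.lTensor B (Linear.leftComp A L i)) h1
    have e3 := LinearMap.congr_fun hpi z
    have e4 := LinearMap.congr_fun hpi z'
    rw [LinearMap.comp_apply, LinearMap.id_apply] at e3 e4
    rw [e3, e4] at h2
    exact h2
  · intro k
    obtain ⟨z, hz⟩ := h.2 (p ≫ k)
    refine ⟨LinearMap.lTensor B (Linear.leftComp A L i) z, ?_⟩
    have e1 := LinearMap.congr_fun hi z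
    rw [LinearMap.comp_apply, LinearMap.comp_apply] at e1
    rw [← e1, hz]
    change i ≫ p ≫ k = k
    rw [← Category.assoc, hip, Category.id_comp]

lemma Good.of_iso {K K' L : Dual.D A} (e : K ≅ K') (h : Good B K L) : Good B K' L :=
  h.of_retract e.inv e.hom e.inv_hom_id

lemma Good.of_triangle (L : Dual.D A) (Tr : Triangle (Dual.D A))
    (hT : Tr ∈ distTriang (Dual.D A))
    (h₁ : Good B Tr.obj₁ L) (h₃ : Good B Tr.obj₃ L) (h₁' : Good B (Tr.obj₁⟦(1 : ℤ)⟧) L)
    (h₃' : Good B (Tr.obj₃⟦(-1 : ℤ)⟧) L) : Good B Tr.obj₂ L := by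
  have hT₁ := rot_of_distTriang _ hT
  have hT₂ := inv_rot_of_distTriang _ hT
  exact LinearMap.bijective_of_surjective_of_bijective_of_bijective_of_injective
    (LinearMap.lTensor B (Linear.leftComp A L Tr.mor₃))
    (LinearMap.lTensor B (Linear.leftComp A L Tr.mor₂))
    (LinearMap.lTensor B (Linear.leftComp A L Tr.mor₁))
    (LinearMap.lTensor B (Linear.leftComp A L Tr.invRotate.mor₁))
    (Linear.leftComp A ((T A B).obj L) Tr.mor₃)
    (Linear.leftComp A ((T A B).obj L) Tr.mor₂)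
    (Linear.leftComp A ((T A B).obj L) Tr.mor₁)
    (Linear.leftComp A ((T A B).obj L) Tr.invRotate.mor₁)
    (Ψ B (Tr.obj₁⟦(1 : ℤ)⟧) L) (Ψ B Tr.obj₃ L) (Ψ B Tr.obj₂ L) (Ψ B Tr.obj₁ L)
    (Ψ B (Tr.obj₃⟦(-1 : ℤ)⟧) L)
    (Ψ_naturality _ L) (Ψ_naturality _ L) (Ψ_naturality _ L) (Ψ_naturality _ L)
    (Module.Flat.lTensor_exact B (exact_leftComp L Tr.rotate hT₁))
    (Module.Flat.lTensor_exact B (exact_leftComp L Tr hT))
    (Module.Flat.lTensor_exact B (exact_leftComp L Tr.invRotate hT₂))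
    (exact_leftComp _ Tr.rotate hT₁)
    (exact_leftComp _ Tr hT)
    (exact_leftComp _ Tr.invRotate hT₂)
    h₁'.2 h₃ h₁ h₃'.1

variable (B) in
/-- stable version of `Good`, for all targets -/
def PP : ObjectProperty (Dual.D A) := fun K => ∀ (L : Dual.D A) (n : ℤ), Good B (K⟦n⟧) L

instance : (PP (A := A) B).IsClosedUnderIsomorphisms :=
  ⟨fun e h L n => (h L n).of_iso ((shiftFunctor _ n).mapIso e)⟩

lemma pp_unit : PP B (Dual.inD A A) := fun L n =>
  Good.of_iso ((shiftFunctor _ n).mapIso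
    ((singleFunctorIsoCompQ (ModuleCat.{u} A) 0).app (ModuleCat.of A A)).symm)
    (bijective_cMap_sphere n L)

lemma pp_ext (Tr : Triangle (Dual.D A)) (hT : Tr ∈ distTriang (Dual.D A))
    (h₁ : PP B Tr.obj₁) (h₃ : PP B Tr.obj₃) : PP B Tr.obj₂ := fun L n =>
  Good.of_triangle L ((Triangle.shiftFunctor _ n).obj Tr) (Triangle.shift_distinguished _ hT n)
    (h₁ L n) (h₃ L n)
    ((h₁ L (n + 1)).of_iso ((shiftFunctorAdd' _ n 1 (n + 1) rfl).app Tr.obj₁))
    ((h₃ L (n + (-1))).of_iso ((shiftFunctorAdd' _ n (-1) (n + (-1)) rfl).app Tr.obj₃))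

lemma pp_sum (X Y : Dual.D A) [HasBinaryBiproduct X Y] (h : PP B (X ⊞ Y)) : PP B X := fun L n =>
  (h L n).of_retract ((biprod.inl : X ⟶ X ⊞ Y)⟦n⟧') ((biprod.fst : X ⊞ Y ⟶ X)⟦n⟧') (by
    rw [← Functor.map_comp, biprod.inl_fst, CategoryTheory.Functor.map_id])

lemma pp_shift (K : Dual.D A) (m : ℤ) (h : PP B K) : PP B (K⟦m⟧) := fun L n =>
  (h L (m + n)).of_iso ((shiftFunctorAdd' _ m n (m + n) rfl).app K)

/-- **Ext flat base change for perfect `K`**: `B ⊗ Hom(K, L) → Hom(K, T L)` is bijective for all `L` -/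
theorem good_of_isPerfect (K L : Dual.D A) (hK : DRing.IsPerfect A K) : Good B K L := by
  have h := Perf.perfect_mem (PP (A := A) B) pp_unit pp_ext (fun X Y _ => pp_sum X Y)
    (fun K n => pp_shift K n) K hK
  exact (h L 0).of_iso ((shiftFunctorZero _ ℤ).app K)

end Groth.Agent.Lib.Helper8.EFB
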