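import Mathlib
import Groth.Agent.Lib.Helper8.EFB5
import Groth.Agent.Lib.Helper16.PC1

/-! # Helper8 — EFB6: Ext flat base change `B ⊗ Hom(K, L) ≃ Hom(K, T L)` for `K` pseudo-coherent and `L` bounded below -/

set_option autoImplicit false

universe w w' u

open CategoryTheory CategoryTheory.Limits DerivedCategory TensorProduct CategoryTheory.Pretriangulated

attribute [local instance] HasDerivedCategory.standard

namespace Groth.Agent.Lib.Helper8.EFB

open Groth.Agent.Lib.Helper16.FlatBC Groth.Agent.Lib.Helper8.EBC Groth.Agent.Lib.Helper8.DSingleHom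

variable {A B : Type u} [CommRing A] [CommRing B] [Algebra A B] [Module.Flat A B]

/-- `T` preserves cohomological lower bounds -/
lemma isGE_T (L : Dual.D A) (c : ℤ) (hL : L.IsGE c) : ((T A B).obj L).IsGE c := by
  rw [DerivedCategory.isGE_iff] at hL ⊢
  intro i hi
  have h1 := ModuleCat.subsingleton_of_isZero (hL i hi)
  have hb := bijective_cMap_homology (B := B) L i
  have h2 : Subsingleton ((homologyFunctor (ModuleCat.{u} A) i).obj ((T A B).obj L)) :=
    hb.2.subsingleton
  exact ModuleCat.isZero_of_subsingleton _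

/-- `Ψ` is trivially bijective when both Hom groups vanish -/
lemma good_of_subsingleton (K L : Dual.D A) (h : Subsingleton (K ⟶ L))
    (h' : Subsingleton (K ⟶ (T A B).obj L)) : Good B K L := by
  constructor
  · intro x y _
    exact Subsingleton.elim _ _
  · intro y
    exact ⟨0, Subsingleton.elim _ _⟩

lemma pp_of_isPerfect (K : Dual.D A) (hK : DRing.IsPerfect A K) : PP B K :=
  Perf.perfect_mem (PP (A := A) B) pp_unit pp_ext (fun X Y _ => pp_sum X Y)
    (fun K n => pp_shift K n) K hK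

lemma subsingleton_hom_of_isLE_of_isGE (X Y : Dual.D A) (a b : ℤ) (hab : a < b) (hX : X.IsLE a)
    (hY : Y.IsGE b) : Subsingleton (X ⟶ Y) :=
  ⟨fun f g => by
    rw [DerivedCategory.TStructure.t.zero_of_isLE_of_isGE f a b hab hX hY,
      DerivedCategory.TStructure.t.zero_of_isLE_of_isGE g a b hab hX hY]⟩

/-- **Ext flat base change**: `B ⊗ Hom(K, L) → Hom(K, T L)` is bijective when `K` is
`(c-1)`-pseudo-coherent and `L` is cohomologically `≥ c`. -/
theorem good_of_isPseudoCoherent (K L : Dual.D A) (c : ℤ) (hL : L.IsGE c)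
    (hK : DRing.IsPseudoCoherent A (c - 1) K) : Good B K L := by
  obtain ⟨E, a, b, α, hE1, hE2, hiso, hepi⟩ := hK
  obtain ⟨C, β, δ, hT⟩ := distinguished_cocone_triangle α
  have hgood : Groth.Agent.Lib.Helper16.PC.Good (c - 1) α := ⟨hiso, hepi⟩
  have hC : C.IsLE (c - 1 - 1) :=
    (Groth.Agent.Lib.Helper16.PC.good_iff_isLE (Triangle.mk α β δ) hT (c - 1) (c - 1 - 1)
      (by omega)).1 hgood
  have hC' : (C⟦(-1 : ℤ)⟧).IsLE (c - 1) :=
    DerivedCategory.TStructure.t.isLE_shift C (c - 1 - 1) (-1) (c - 1) (by omega)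
  have hTL : ((T A B).obj L).IsGE c := isGE_T L c hL
  have hperf : DRing.IsPerfect A (DRing.toD E) :=
    ⟨E, a, b, hE1, fun i => ⟨(hE2 i).1, by have := (hE2 i).2; infer_instance⟩, ⟨Iso.refl _⟩⟩
  have hpp := pp_of_isPerfect (B := B) _ hperf
  have g1 : Good B (DRing.toD E) L :=
    (hpp L 0).of_iso ((shiftFunctorZero _ ℤ).app _)
  have g1' : Good B ((DRing.toD E)⟦(1 : ℤ)⟧) L := hpp L 1
  have g3 : Good B C L := good_of_subsingleton C L
    (subsingleton_hom_of_isLE_of_isGE C L (c - 1 - 1) c (by omega) hC hL)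
    (subsingleton_hom_of_isLE_of_isGE C _ (c - 1 - 1) c (by omega) hC hTL)
  have g3' : Good B (C⟦(-1 : ℤ)⟧) L := good_of_subsingleton _ L
    (subsingleton_hom_of_isLE_of_isGE _ L (c - 1) c (by omega) hC' hL)
    (subsingleton_hom_of_isLE_of_isGE _ _ (c - 1) c (by omega) hC' hTL)
  exact Good.of_triangle L (Triangle.mk α β δ) hT g1 g3 g1' g3'

end Groth.Agent.Lib.Helper8.EFB
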