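import Mathlib
import Groth.Agent.Lib.Helper8.EFB6

/-! # Helper8 — EFB7: comparison of `T` with `res ∘ ε` (unit and `B`-action), and the final form of Ext flat base change: `B ⊗ Hom(K, L) ≃ Hom(ε K, ε L)`, `b ⊗ f ↦ b • ε(f)`, for `K` pseudo-coherent and `L` bounded below -/

set_option autoImplicit false

universe w w' u

open CategoryTheory CategoryTheory.Limits DerivedCategory TensorProduct CategoryTheory.Pretriangulated

attribute [local instance] HasDerivedCategory.standard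

namespace Groth.Agent.Lib.Helper8.EFB

open Groth.Agent.Lib.Helper16.FlatBC Groth.Agent.Lib.Helper8.EBC Groth.Agent.Lib.Helper8.DSingleHom

variable {A B : Type u} [CommRing A] [CommRing B] [Algebra A B] [Module.Flat A B]

/-- `unit ≫ res (b • 𝟙) = (m ↦ b ⊗ m)` on modules -/
lemma unit_comp_smul (b : B) (M : ModuleCat.{u} A) :
    (ModuleCat.extendRestrictScalarsAdj.{u, u, u} (algebraMap A B)).unit.app M ≫
      (ModuleCat.restrictScalars.{u} (algebraMap A B)).map
        (b • 𝟙 ((ModuleCat.extendScalars.{u, u, u} (algebraMap A B)).obj M)) =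
      (gNat b).app M := by
  refine ModuleCat.hom_ext (DFunLike.ext _ _ fun m => ?_)
  have h1 : ∀ x : (ModuleCat.extendScalars.{u, u, u} (algebraMap A B)).obj M,
      (b • 𝟙 ((ModuleCat.extendScalars.{u, u, u} (algebraMap A B)).obj M)).hom x = b • x := by
    intro x
    rw [ModuleCat.hom_smul, LinearMap.smul_apply, ModuleCat.hom_id, LinearMap.id_apply]
  have h2 := (h1 ((1 : B) ⊗ₜ[A] m)).trans
    (ModuleCat.ExtendScalars.smul_tmul (algebraMap A B) (M := M) b 1 m)
  rw [mul_one] at h2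
  exact h2

/-- `unit ≫ res (b • 𝟙) = (x ↦ b ⊗ x)` on complexes -/
lemma unitCx_comp_smul (b : B) (X : DRing.Cx A) :
    (adjCx (algebraMap A B)).unit.app X ≫ (DTen.resCx (algebraMap A B)).map
      (b • 𝟙 ((DTen.extCx (algebraMap A B)).obj X)) = (gCx b).app X := by
  apply HomologicalComplex.hom_ext
  intro i
  exact unit_comp_smul b (X.X i)

/-- `res (ε (Q X)) ≅ T (Q X)` -/
noncomputable def τQ' (X : DRing.Cx A) :
    (DRing.restrictD (algebraMap A B)).obj ((ε (algebraMap A B)).obj (Q.obj X)) ≅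
      (T A B).obj (Q.obj X) :=
  (DRing.restrictD (algebraMap A B)).mapIso
      ((ModuleCat.extendScalars.{u, u, u} (algebraMap A B)).mapDerivedCategoryFactors.app X) ≪≫
    (DTen.resFactors (algebraMap A B)).app ((DTen.extCx (algebraMap A B)).obj X) ≪≫
    ((G A B).mapDerivedCategoryFactors.app X).symm

lemma unit_smul_τQ' (b : B) (X : DRing.Cx A) :
    (flatAdj (algebraMap A B)).unit.app (Q.obj X) ≫
      (DRing.restrictD (algebraMap A B)).map (b • 𝟙 ((ε (algebraMap A B)).obj (Q.obj X))) ≫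
      (τQ' (B := B) X).hom = (γ b).app (Q.obj X) := by
  let φ := algebraMap A B
  let R := DRing.restrictD φ
  let efac := (ModuleCat.extendScalars.{u, u, u} φ).mapDerivedCategoryFactors
  let rfac := DTen.resFactors φ
  let tfac := (G A B).mapDerivedCategoryFactors
  have hη : (flatAdj φ).unit.app (Q.obj X) = Q.map ((adjCx φ).unit.app X) ≫
      rfac.inv.app ((DTen.extCx φ).obj X) ≫ R.map (efac.inv.app X) :=
    Adjunction.localization_unit_app (adjCx φ) Q _ Q _ (ε φ) R X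
  -- conjugating `b • 𝟙`
  have h1 : efac.inv.app X ≫ (b • 𝟙 ((ε φ).obj (Q.obj X))) ≫ efac.hom.app X =
      Q.map (b • 𝟙 ((DTen.extCx φ).obj X)) := by
    have e : efac.inv.app X ≫ efac.hom.app X = 𝟙 _ := Iso.inv_hom_id_app efac X
    have e1 : (b • 𝟙 ((ε φ).obj (Q.obj X))) ≫ efac.hom.app X = b • efac.hom.app X := by
      rw [Linear.smul_comp]
      exact congrArg (fun t => b • t) (Category.id_comp _)
    rw [e1, Linear.comp_smul, e, Functor.map_smul, CategoryTheory.Functor.map_id]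
    rfl
  have h2 : rfac.inv.app ((DTen.extCx φ).obj X) ≫
      R.map (Q.map (b • 𝟙 ((DTen.extCx φ).obj X))) ≫ rfac.hom.app ((DTen.extCx φ).obj X) =
      Q.map ((DTen.resCx φ).map (b • 𝟙 ((DTen.extCx φ).obj X))) := by
    have hn := rfac.hom.naturality (b • 𝟙 ((DTen.extCx φ).obj X))
    change R.map (Q.map (b • 𝟙 ((DTen.extCx φ).obj X))) ≫ rfac.hom.app _ =
      rfac.hom.app _ ≫ Q.map ((DTen.resCx φ).map (b • 𝟙 ((DTen.extCx φ).obj X))) at hn
    rw [hn, Iso.inv_hom_id_app_assoc]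
  have h3 : R.map (efac.inv.app X) ≫ R.map (b • 𝟙 ((ε φ).obj (Q.obj X))) ≫
      R.map (efac.hom.app X) = R.map (Q.map (b • 𝟙 ((DTen.extCx φ).obj X))) := by
    rw [← R.map_comp, ← R.map_comp, h1]
  have h4 : Q.map ((gCx b).app X) = Q.map ((adjCx φ).unit.app X) ≫
      Q.map ((DTen.resCx φ).map (b • 𝟙 ((DTen.extCx φ).obj X))) := by
    rw [← Functor.map_comp]
    exact congrArg Q.map (unitCx_comp_smul b X).symm
  have h5 : (flatAdj φ).unit.app (Q.obj X) ≫ R.map (b • 𝟙 ((ε φ).obj (Q.obj X))) ≫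
      R.map (efac.hom.app X) ≫ rfac.hom.app ((DTen.extCx φ).obj X) =
      Q.map ((gCx b).app X) := by
    rw [hη, h4]
    simp only [Category.assoc]
    rw [reassoc_of% h3, h2]
  have h6 : (γ (A := A) b).app (Q.obj X) = Q.map ((gCx b).app X) ≫ tfac.inv.app X := γ_app_Q b X
  have h7 : (flatAdj φ).unit.app (Q.obj X) ≫ R.map (b • 𝟙 ((ε φ).obj (Q.obj X))) ≫
      (τQ' (B := B) X).hom = ((flatAdj φ).unit.app (Q.obj X) ≫
        R.map (b • 𝟙 ((ε φ).obj (Q.obj X))) ≫ R.map (efac.hom.app X) ≫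
        rfac.hom.app ((DTen.extCx φ).obj X)) ≫ tfac.inv.app X := by
    change (flatAdj φ).unit.app (Q.obj X) ≫ R.map (b • 𝟙 ((ε φ).obj (Q.obj X))) ≫
      (R.map (efac.hom.app X) ≫ rfac.hom.app ((DTen.extCx φ).obj X) ≫ tfac.inv.app X) = _
    simp only [Category.assoc]
  exact h7.trans ((congrArg (fun t => t ≫ tfac.inv.app X) h5).trans h6.symm)

/-- comparison of `res ∘ ε` with `T`, compatible with the unit and the `B`-action -/
theorem exists_τ (L : Dual.D A) :
    ∃ τ : (DRing.restrictD (algebraMap A B)).obj ((ε (algebraMap A B)).obj L) ≅ (T A B).obj L,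
      ∀ b : B, (flatAdj (algebraMap A B)).unit.app L ≫
        (DRing.restrictD (algebraMap A B)).map (b • 𝟙 ((ε (algebraMap A B)).obj L)) ≫ τ.hom =
        (γ b).app L := by
  let φ := algebraMap A B
  let R := DRing.restrictD φ
  let X := Q.objPreimage L
  have e : Q.obj X ≅ L := Q.objObjPreimageIso L
  refine ⟨R.mapIso ((ε φ).mapIso e.symm) ≪≫ τQ' X ≪≫ (T A B).mapIso e, fun b => ?_⟩
  have h1 : R.map (b • 𝟙 ((ε φ).obj L)) ≫ R.map ((ε φ).map e.inv) =
      R.map ((ε φ).map e.inv) ≫ R.map (b • 𝟙 ((ε φ).obj (Q.obj X))) := by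
    rw [← R.map_comp, ← R.map_comp]
    congr 1
    rw [Linear.smul_comp, Linear.comp_smul, Category.id_comp, Category.comp_id]
  have h2 : (flatAdj φ).unit.app L ≫ R.map ((ε φ).map e.inv) =
      e.inv ≫ (flatAdj φ).unit.app (Q.obj X) := ((flatAdj φ).unit.naturality e.inv).symm
  change (flatAdj φ).unit.app L ≫ R.map (b • 𝟙 ((ε φ).obj L)) ≫
    (R.map ((ε φ).map e.inv) ≫ (τQ' (B := B) X).hom ≫ (T A B).map e.hom) = (γ b).app L
  rw [reassoc_of% h1, reassoc_of% h2, γ_app_eq b e]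
  have h3 := unit_smul_τQ' b X
  rw [← h3]
  simp only [Category.assoc]
  rfl

/-- postcomposition with an isomorphism, as an additive equivalence -/
noncomputable def postcompAddEquiv {C : Type*} [Category C] [Preadditive C] (K : C) {Y Y' : C}
    (e : Y ≅ Y') : (K ⟶ Y) ≃+ (K ⟶ Y') where
  toFun f := f ≫ e.hom
  invFun g := g ≫ e.inv
  left_inv f := by simp
  right_inv g := by simp
  map_add' f f' := Preadditive.add_comp _ _ _ _ _ _

/-- **Ext flat base change** (final form): for `K` pseudo-coherent and `L` bounded below there is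
an additive bijection `B ⊗ Hom(K, L) ≃ Hom(ε K, ε L)` given by `b ⊗ f ↦ b • ε(f)`. -/
theorem exists_bcEquiv (K L : Dual.D A) (c : ℤ) (hL : L.IsGE c)
    (hK : DRing.IsPseudoCoherent A (c - 1) K) :
    ∃ Θ : B ⊗[A] (K ⟶ L) ≃+ ((ε (algebraMap A B)).obj K ⟶ (ε (algebraMap A B)).obj L),
      ∀ (b : B) (f : K ⟶ L), Θ (b ⊗ₜ[A] f) = b • (ε (algebraMap A B)).map f := by
  let φ := algebraMap A B
  let R := DRing.restrictD φ
  obtain ⟨τ, hτ⟩ := exists_τ (B := B) L
  have hΨ : Function.Bijective (Ψ B K L) := good_of_isPseudoCoherent K L c hL hK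
  let E1 : B ⊗[A] (K ⟶ L) ≃+ (K ⟶ (T A B).obj L) :=
    (LinearEquiv.ofBijective (Ψ B K L) hΨ).toAddEquiv
  let E2 : (K ⟶ (T A B).obj L) ≃+ (K ⟶ R.obj ((ε φ).obj L)) :=
    postcompAddEquiv K τ.symm
  let E3 : (K ⟶ R.obj ((ε φ).obj L)) ≃+ ((ε φ).obj K ⟶ (ε φ).obj L) :=
    (flatAdjEquiv φ K ((ε φ).obj L)).symm
  refine ⟨E1.trans (E2.trans E3), fun b f => ?_⟩
  apply (flatAdjEquiv φ K ((ε φ).obj L)).injective
  change (flatAdjEquiv φ K ((ε φ).obj L)) ((flatAdjEquiv φ K ((ε φ).obj L)).symm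
    (E2 (Ψ B K L (b ⊗ₜ[A] f)))) = _
  rw [AddEquiv.apply_symm_apply, Ψ_tmul]
  have h1 : (flatAdjEquiv φ K ((ε φ).obj L)) (b • (ε φ).map f) =
      (flatAdj φ).unit.app K ≫ R.map (b • (ε φ).map f) := by
    change (flatAdj φ).homEquiv K ((ε φ).obj L) (b • (ε φ).map f) = _
    rw [Adjunction.homEquiv_unit]
  have h2 : b • (ε φ).map f = (ε φ).map f ≫ (b • 𝟙 ((ε φ).obj L)) := by
    rw [Linear.comp_smul, Category.comp_id]
  have h3 : (flatAdj φ).unit.app K ≫ R.map ((ε φ).map f) = f ≫ (flatAdj φ).unit.app L :=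
    ((flatAdj φ).unit.naturality f).symm
  rw [h1, h2, R.map_comp, reassoc_of% h3, ← hτ b]
  change (f ≫ (flatAdj φ).unit.app L ≫ R.map (b • 𝟙 ((ε φ).obj L)) ≫ τ.hom) ≫ τ.inv = _
  simp only [Category.assoc, Iso.hom_inv_id, Category.comp_id]

end Groth.Agent.Lib.Helper8.EFB
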