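import Mathlib

/-!
# Helper8 — CohRing: coherent modules over a coherent ring (S6943)
-/

set_option autoImplicit false

namespace Groth.Agent.Lib.Helper8.CohRing

universe u v w

variable {R : Type u} [CommRing R]

/-- coherent-type condition on a module: finitely generated submodules are finitely presented -/
def IsCohMod (R : Type u) [CommRing R] (M : Type v) [AddCommGroup M] [Module R M] : Prop :=
  ∀ N : Submodule R M, N.FG → Module.FinitePresentation R N

lemma IsCohMod.of_injective {M : Type v} {M' : Type w} [AddCommGroup M] [Module R M]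
    [AddCommGroup M'] [Module R M'] (f : M →ₗ[R] M') (hf : Function.Injective f)
    (h : IsCohMod R M') : IsCohMod R M := by
  intro N hN
  haveI := h (N.map f) (hN.map f)
  exact Module.FinitePresentation.of_equiv (Submodule.equivMapOfInjective f hf N).symm

lemma IsCohMod.prod {M₁ : Type v} {M₂ : Type w} [AddCommGroup M₁] [Module R M₁]
    [AddCommGroup M₂] [Module R M₂] (h₁ : IsCohMod R M₁) (h₂ : IsCohMod R M₂) :
    IsCohMod R (M₁ × M₂) := by
  intro N hN
  haveI : Module.Finite R N := Module.Finite.iff_fg.2 hN
  let l : N →ₗ[R] M₂ := (LinearMap.snd R M₁ M₂).comp N.subtype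
  let l' : N →ₗ[R] LinearMap.range l := l.rangeRestrict
  have hI : (LinearMap.range l).FG := by
    rw [LinearMap.range_eq_map]; exact Submodule.FG.map _ Module.Finite.fg_top
  haveI := h₂ _ hI
  have hsurj : Function.Surjective l' := LinearMap.surjective_rangeRestrict l
  have hker : (LinearMap.ker l').FG := Module.FinitePresentation.fg_ker l' hsurj
  haveI : Module.Finite R (LinearMap.ker l') := Module.Finite.iff_fg.2 hker
  let g : LinearMap.ker l' →ₗ[R] M₁ :=
    (LinearMap.fst R M₁ M₂).comp (N.subtype.comp (LinearMap.ker l').subtype)
  have hg : Function.Injective g := by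
    rw [injective_iff_map_eq_zero]
    rintro ⟨⟨⟨a, b⟩, hab⟩, hx⟩ h0
    have hb : b = 0 := by
      have := LinearMap.mem_ker.1 hx
      have h2 := congrArg Subtype.val this
      simpa [l', l] using h2
    have ha : a = 0 := by simpa [g] using h0
    subst ha hb
    rfl
  have hrg : (LinearMap.range g).FG := by
    rw [LinearMap.range_eq_map]; exact Submodule.FG.map _ Module.Finite.fg_top
  haveI := h₁ _ hrg
  haveI : Module.FinitePresentation R (LinearMap.ker l') := by
    have e : LinearMap.range g ≃ₗ[R] LinearMap.ker l' := (LinearEquiv.ofInjective g hg).symm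
    exact Module.FinitePresentation.of_equiv (M := LinearMap.range g) (N := LinearMap.ker l') e
  exact Module.finitePresentation_of_ker l' hsurj

variable (hR : ∀ I : Ideal R, I.FG → Module.FinitePresentation R I)
include hR

lemma isCohMod_pi_fin : ∀ n : ℕ, IsCohMod R (Fin n → R) := by
  intro n
  induction n with
  | zero =>
    intro N _
    infer_instance
  | succ n ih =>
    have h1 : IsCohMod R (R × (Fin n → R)) := IsCohMod.prod (fun I hI => hR I hI) ih
    exact IsCohMod.of_injective (Fin.consLinearEquiv R (fun _ : Fin (n + 1) => R)).symm.toLinearMap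
      (LinearEquiv.injective _) h1

lemma isCohMod_of_fp (M : Type v) [AddCommGroup M] [Module R M] [Module.FinitePresentation R M] :
    IsCohMod R M := by
  obtain ⟨n, K, e, hK⟩ := Module.FinitePresentation.exists_fin R M
  let f : (Fin n → R) →ₗ[R] M := e.symm.toLinearMap ∘ₗ K.mkQ
  have hf : Function.Surjective f := e.symm.surjective.comp K.mkQ_surjective
  have hk : (LinearMap.ker f).FG := by
    have : LinearMap.ker f = K := by
      simp only [f, LinearMap.ker_comp, LinearEquiv.ker, Submodule.comap_bot, Submodule.ker_mkQ]
    rw [this]; exact hK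
  intro N hN
  let N' : Submodule R (Fin n → R) := N.comap f
  have hmap : N'.map f = N := Submodule.map_comap_eq_of_surjective hf N
  have hkle : LinearMap.ker f ≤ N' := fun x hx => by
    change f x ∈ N
    rw [LinearMap.mem_ker.1 hx]; exact N.zero_mem
  have hN' : N'.FG := by
    apply Submodule.fg_of_fg_map_of_fg_inf_ker f
    · rw [hmap]; exact hN
    · rw [inf_eq_right.2 hkle]; exact hk
  haveI := isCohMod_pi_fin hR n N' hN'
  let l : N' →ₗ[R] N := f.restrict (fun x hx => hx)
  have hl : Function.Surjective l := by
    rintro ⟨y, hy⟩
    obtain ⟨x, rfl⟩ := hf y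
    exact ⟨⟨x, hy⟩, rfl⟩
  have hkl : (LinearMap.ker l).FG := by
    have h1 : LinearMap.ker l = (LinearMap.ker f).comap N'.subtype := by
      ext x
      simp only [LinearMap.mem_ker, Submodule.mem_comap, Submodule.subtype_apply]
      constructor
      · intro h; exact congrArg Subtype.val h
      · intro h; exact Subtype.ext h
    rw [h1]
    haveI : Module.Finite R (LinearMap.ker f) := Module.Finite.iff_fg.2 hk
    have e := Submodule.comapSubtypeEquivOfLe hkle
    haveI : Module.Finite R ((LinearMap.ker f).comap N'.subtype) := Module.Finite.equiv e.symm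
    exact Module.Finite.iff_fg.1 inferInstance
  exact Module.finitePresentation_of_surjective l hl hkl

end Groth.Agent.Lib.Helper8.CohRing
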