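import Groth.Agent.Lib.Helper8.PC3
import Mathlib.CategoryTheory.Abelian.Refinements

/-!
# Helper8: precoherent objects (PCoh cluster, S12099, S5624)
-/

universe v u

open CategoryTheory CategoryTheory.Limits

namespace Groth.Agent.Lib.Helper8.PC13

open PC3

variable {A : Type u} [Category.{v} A] [Abelian A]
variable (P : ObjectProperty A) [P.IsClosedUnderIsomorphisms]

/-- precoherent objects: morphisms from `P`-objects have kernels of finite type -/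
def PreCoh (X : A) : Prop := ∀ (E : A) (u : E ⟶ X), P E → PCoh.IsOfFiniteType P (kernel u)

lemma P_biprod' (hsum : ∀ X Y : A, P X → P Y → P (X ⨯ Y)) {X Y : A} (hX : P X) (hY : P Y) :
    P (X ⊞ Y) :=
  P.prop_of_iso (biprod.isoProd X Y).symm (hsum X Y hX hY)

omit [P.IsClosedUnderIsomorphisms] in
/-- lifting along an epimorphism, up to a `P`-cover -/
lemma exists_lift_cover (hql : PCoh.IsQuasiLiftable P) {X Y E : A} (g : X ⟶ Y) [Epi g]
    (u : E ⟶ Y) (hE : P E) :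
    ∃ (E' : A) (p : E' ⟶ E) (ũ : E' ⟶ X), P E' ∧ Epi p ∧ ũ ≫ g = p ≫ u := by
  have hfst : Epi (pullback.fst u g) := inferInstance
  obtain ⟨E', w, hE', hw⟩ := hql _ _ (pullback.fst u g) hfst hE
  exact ⟨E', w ≫ pullback.fst u g, w ≫ pullback.snd u g, hE', hw, by
    simp only [Category.assoc, pullback.condition]⟩

/-- S12099 -/
theorem preCoh_cokernel (hsum : ∀ X Y : A, P X → P Y → P (X ⨯ Y))
    (hql : PCoh.IsQuasiLiftable P) (S : ShortComplex A) (hS : S.Exact) (hg : Epi S.g)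
    (hF : PCoh.IsOfFiniteType P S.X₁) (hG : PreCoh P S.X₂) : PreCoh P S.X₃ := by
  intro E u hE
  obtain ⟨E', p, ũ, hE', hp, hũ⟩ := exists_lift_cover P hql S.g u hE
  obtain ⟨E_F, π_F, hE_F, hπ_F⟩ := hF
  have hK := hG (E' ⊞ E_F) (biprod.desc ũ (π_F ≫ S.f)) (P_biprod' P hsum hE' hE_F)
  have hι : kernel.ι (biprod.desc ũ (π_F ≫ S.f)) ≫ biprod.fst ≫ ũ =
      -(kernel.ι (biprod.desc ũ (π_F ≫ S.f)) ≫ biprod.snd ≫ π_F ≫ S.f) := by
    have hd : biprod.desc ũ (π_F ≫ S.f) = biprod.fst ≫ ũ + biprod.snd ≫ π_F ≫ S.f := by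
      ext <;> simp
    have h0 : kernel.ι (biprod.desc ũ (π_F ≫ S.f)) ≫
        (biprod.fst ≫ ũ + biprod.snd ≫ π_F ≫ S.f) = 0 := by
      rw [← hd]; exact kernel.condition _
    rw [Preadditive.comp_add] at h0
    exact eq_neg_of_add_eq_zero_left h0
  have hzero : (kernel.ι (biprod.desc ũ (π_F ≫ S.f)) ≫ biprod.fst ≫ p) ≫ u = 0 := by
    have : (kernel.ι (biprod.desc ũ (π_F ≫ S.f)) ≫ biprod.fst ≫ p) ≫ u =
        (kernel.ι (biprod.desc ũ (π_F ≫ S.f)) ≫ biprod.fst ≫ ũ) ≫ S.g := by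
      simp only [Category.assoc, hũ]
    rw [this, hι, Preadditive.neg_comp]
    simp
  refine @finiteType_of_epi _ _ _ P _ _ (kernel.lift u _ hzero) ?_ hK
  rw [epi_iff_surjective_up_to_refinements]
  intro T y
  obtain ⟨T₁, π₁, hπ₁, e', he'⟩ := surjective_up_to_refinements_of_epi p (y ≫ kernel.ι u)
  have h1 : (e' ≫ ũ) ≫ S.g = 0 := by
    rw [Category.assoc, hũ, ← Category.assoc, ← he', Category.assoc, Category.assoc,
      kernel.condition, comp_zero, comp_zero]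
  obtain ⟨T₂, π₂, hπ₂, x₁, hx₁⟩ := hS.exact_up_to_refinements _ h1
  obtain ⟨T₃, π₃, hπ₃, a, ha⟩ := surjective_up_to_refinements_of_epi π_F x₁
  have hk : biprod.lift (π₃ ≫ π₂ ≫ e') (-a) ≫ biprod.desc ũ (π_F ≫ S.f) = 0 := by
    rw [biprod.lift_desc, Preadditive.neg_comp, ← Category.assoc a, ← ha, Category.assoc,
      Category.assoc, Category.assoc, ← hx₁]
    simp
  refine ⟨T₃, π₃ ≫ π₂ ≫ π₁, epi_comp' hπ₃ (epi_comp' hπ₂ hπ₁), kernel.lift _ _ hk, ?_⟩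
  rw [← cancel_mono (kernel.ι u)]
  simp only [Category.assoc, kernel.lift_ι, kernel.lift_ι_assoc, biprod.lift_fst_assoc]
  rw [he']

/-- extensions of finite type objects are of finite type -/
theorem finiteType_ext (hsum : ∀ X Y : A, P X → P Y → P (X ⨯ Y))
    (hql : PCoh.IsQuasiLiftable P) (S : ShortComplex A) (hS : S.Exact) (hg : Epi S.g)
    (h₁ : PCoh.IsOfFiniteType P S.X₁) (h₃ : PCoh.IsOfFiniteType P S.X₃) :
    PCoh.IsOfFiniteType P S.X₂ := by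
  obtain ⟨E₁, π₁, hE₁, hπ₁⟩ := h₁
  obtain ⟨E₃, π₃, hE₃, hπ₃⟩ := h₃
  obtain ⟨E₃', p, vt, hE₃', hp, hvt⟩ := exists_lift_cover P hql S.g π₃ hE₃
  have hpe : Epi (vt ≫ S.g) := by rw [hvt]; exact epi_comp _ _
  refine ⟨E₁ ⊞ E₃', biprod.desc (π₁ ≫ S.f) vt, P_biprod' P hsum hE₁ hE₃', ?_⟩
  rw [epi_iff_surjective_up_to_refinements]
  intro T y
  obtain ⟨T₁, ρ₁, hρ₁, c, hc⟩ := surjective_up_to_refinements_of_epi (vt ≫ S.g) (y ≫ S.g)
  have h1 : (ρ₁ ≫ y - c ≫ vt) ≫ S.g = 0 := by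
    rw [Preadditive.sub_comp, Category.assoc, Category.assoc, hc, sub_self]
  obtain ⟨T₂, ρ₂, hρ₂, x₁, hx₁⟩ := hS.exact_up_to_refinements _ h1
  obtain ⟨T₃, ρ₃, hρ₃, a, ha⟩ := surjective_up_to_refinements_of_epi π₁ x₁
  refine ⟨T₃, ρ₃ ≫ ρ₂ ≫ ρ₁, epi_comp' hρ₃ (epi_comp' hρ₂ hρ₁),
    biprod.lift a (ρ₃ ≫ ρ₂ ≫ c), ?_⟩
  rw [biprod.lift_desc, ← Category.assoc a, ← ha, Category.assoc ρ₃ x₁, ← hx₁,
    Preadditive.comp_sub, Preadditive.comp_sub]
  simp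

/-- extensions of precoherent objects are precoherent -/
theorem preCoh_ext (S : ShortComplex A) (hS : S.ShortExact)
    (h₁ : PreCoh P S.X₁) (h₃ : PreCoh P S.X₃) : PreCoh P S.X₂ := by
  intro E u hE
  have := hS.mono_f
  obtain ⟨E₃, π₃, hE₃, hπ₃⟩ := h₃ E (u ≫ S.g) hE
  -- the map `ker (u ≫ g) ⟶ X₁`
  have hz : (kernel.ι (u ≫ S.g) ≫ u) ≫ S.g = 0 := by
    rw [Category.assoc, kernel.condition]
  let t : kernel (u ≫ S.g) ⟶ S.X₁ := hS.exact.lift _ hz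
  have ht : t ≫ S.f = kernel.ι (u ≫ S.g) ≫ u := hS.exact.lift_f _ hz
  have hK := h₁ E₃ (π₃ ≫ t) hE₃
  have hzero : (kernel.ι (π₃ ≫ t) ≫ π₃ ≫ kernel.ι (u ≫ S.g)) ≫ u = 0 := by
    rw [Category.assoc, Category.assoc, ← ht, ← Category.assoc π₃, ← Category.assoc,
      kernel.condition, zero_comp]
  refine @finiteType_of_epi _ _ _ P _ _ (kernel.lift u _ hzero) ?_ hK
  rw [epi_iff_surjective_up_to_refinements]
  intro T y
  have hy : (y ≫ kernel.ι u) ≫ u ≫ S.g = 0 := by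
    rw [Category.assoc, kernel.condition_assoc, zero_comp, comp_zero]
  obtain ⟨T₁, ρ₁, hρ₁, c, hc⟩ :=
    surjective_up_to_refinements_of_epi π₃ (kernel.lift (u ≫ S.g) (y ≫ kernel.ι u) hy)
  have hk : c ≫ π₃ ≫ t = 0 := by
    rw [← cancel_mono S.f, zero_comp, Category.assoc, Category.assoc, ht, ← Category.assoc c,
      ← hc, Category.assoc, kernel.lift_ι_assoc, Category.assoc, kernel.condition, comp_zero,
      comp_zero]
  refine ⟨T₁, ρ₁, hρ₁, kernel.lift _ c hk, ?_⟩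
  rw [← cancel_mono (kernel.ι u)]
  simp only [Category.assoc, kernel.lift_ι, kernel.lift_ι_assoc]
  rw [← Category.assoc c, ← hc, Category.assoc, kernel.lift_ι]

end Groth.Agent.Lib.Helper8.PC13
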