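import Groth.Agent.Lib.Helper8.PC12
import Groth.Agent.Lib.Helper8.PC13

/-!
# Helper8: the coherent case (PCoh cluster, S5608)
-/

universe w v u

open CategoryTheory CategoryTheory.Limits CategoryTheory.Pretriangulated CochainComplex HomComplex

namespace Groth.Agent.Lib.Helper8.PC14

open PC1 PC2 PC3 PC4 PC5 PC6 PC7 PC8 PC9 PC10 PC11 PC12 PC13 ZeroObject

variable {A : Type u} [Category.{v} A] [Abelian A]
variable (P : ObjectProperty A) [P.IsClosedUnderIsomorphisms]

/-- quasi-stability under kernels when the objects of `P` are precoherent -/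
lemma hqs_of_hcoh (hcoh : ∀ X : A, P X → PreCoh P X) : PCoh.IsQuasiStableUnderKernels P := by
  intro K hex _ hK
  have hiso := isIso_toZ_zero K (hex 0) (hex 1)
  exact finiteType_of_iso P (asIso (toZ K 0)).symm
    (hcoh _ (hK 2 (by omega)) _ (K.d 1 2) (hK 1 le_rfl))

omit [P.IsClosedUnderIsomorphisms] in
lemma preCoh_of_mono {X Y : A} (i : Y ⟶ X) [Mono i] (hX : PreCoh P X) : PreCoh P Y := by
  intro E u hE
  exact finiteType_of_iso P (kernelCompMono u i) (hX E (u ≫ i) hE)

/-- the kernel of a morphism from a finite type object to a precoherent object is of finite type -/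
lemma finiteType_kernel {X Y : A} (f : X ⟶ Y) (hX : PCoh.IsOfFiniteType P X) (hY : PreCoh P Y) :
    PCoh.IsOfFiniteType P (kernel f) := by
  obtain ⟨E, π, hE, hπ⟩ := hX
  have hK := hY E (π ≫ f) hE
  have hzero : (kernel.ι (π ≫ f) ≫ π) ≫ f = 0 := by
    rw [Category.assoc, kernel.condition]
  refine @finiteType_of_epi _ _ _ P _ _ (kernel.lift f _ hzero) ?_ hK
  rw [epi_iff_surjective_up_to_refinements]
  intro T y
  obtain ⟨T₁, ρ₁, hρ₁, e, he⟩ := surjective_up_to_refinements_of_epi π (y ≫ kernel.ι f)
  have hk : e ≫ π ≫ f = 0 := by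
    rw [← Category.assoc, ← he, Category.assoc, Category.assoc, kernel.condition, comp_zero,
      comp_zero]
  refine ⟨T₁, ρ₁, hρ₁, kernel.lift _ e hk, ?_⟩
  rw [← cancel_mono (kernel.ι f)]
  simp only [Category.assoc, kernel.lift_ι, kernel.lift_ι_assoc]
  exact he

section Complex

variable (hql : PCoh.IsQuasiLiftable P) (hsum : ∀ X Y : A, P X → P Y → P (X ⨯ Y))
  (hcoh : ∀ X : A, P X → PreCoh P X)
  (E : CochainComplex A ℤ) (i : ℤ) (hi : P (E.X i)) (hi1 : P (E.X (i + 1)))

include hcoh hi hi1 in
lemma finiteType_cycles : PCoh.IsOfFiniteType P (E.cycles i) := by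
  have h := hcoh _ hi1 _ (E.d i (i + 1)) hi
  have hk := E.cyclesIsKernel i (i + 1) (by simp)
  exact finiteType_of_iso P
    (IsLimit.conePointUniqueUpToIso (kernelIsKernel (E.d i (i + 1))) hk) h

include hcoh hi in
omit [P.IsClosedUnderIsomorphisms] in
lemma preCoh_cycles : PreCoh P (E.cycles i) :=
  preCoh_of_mono P (E.iCycles i) (hcoh _ hi)

include hcoh hi hi1 in
lemma finiteType_homology : PCoh.IsOfFiniteType P (E.homology i) :=
  finiteType_of_epi P (E.homologyπ i) (finiteType_cycles P hcoh E i hi hi1)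

include hql hsum hcoh hi in
lemma preCoh_homology (hi0 : P (E.X (i - 1))) : PreCoh P (E.homology i) := by
  have hc := E.homologyIsCokernel (i - 1) i (by simp)
  let S : ShortComplex A := ShortComplex.mk (E.toCycles (i - 1) i) (E.homologyπ i)
    (E.toCycles_comp_homologyπ (i - 1) i)
  have hS : S.Exact := ShortComplex.exact_of_g_is_cokernel _ hc
  have hg : Epi S.g := by dsimp [S]; infer_instance
  exact preCoh_cokernel P hsum hql S hS hg (finiteType_of_mem P hi0)
    (preCoh_cycles P hcoh E i hi)

end Complex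

section Derived

variable [HasDerivedCategory.{w} A] [P.ContainsZero]
  (hql : PCoh.IsQuasiLiftable P) (hsum : ∀ X Y : A, P X → P Y → P (X ⨯ Y))
  (hcoh : ∀ X : A, P X → PreCoh P X)

/-- an object of `P` placed in degree `0` is pseudo-coherent -/
lemma npc_single_mem (m : ℤ) {X : A} (hX : P X) :
    IsNPC P m ((DerivedCategory.singleFunctor A 0).obj X) := by
  refine ⟨(HomologicalComplex.single A (ComplexShape.up ℤ) 0).obj X, ⟨⟨0, fun i hi => ?_⟩,
    fun i _ => ?_⟩, ⟨((DerivedCategory.singleFunctorIsoCompQ A 0).app X).symm⟩⟩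
  · exact HomologicalComplex.isZero_single_obj_X _ _ _ _ (by omega)
  · by_cases hi : i = 0
    · subst hi
      exact P.prop_of_iso (HomologicalComplex.singleObjXSelf (ComplexShape.up ℤ) 0 X).symm hX
    · exact P.prop_of_isZero (HomologicalComplex.isZero_single_obj_X _ _ _ _ hi)

include hql hsum in
/-- a finite type object placed in degree `0` is `0`-pseudo-coherent -/
lemma npc_zero_of_finiteType (hqs : PCoh.IsQuasiStableUnderKernels P) {X : A}
    (hX : PCoh.IsOfFiniteType P X) : IsNPC P 0 ((DerivedCategory.singleFunctor A 0).obj X) := by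
  rw [npc_iff_finiteType P hsum hqs hql 0 _ (fun i hi => isZero_homology_single X i (by omega))]
  exact finiteType_of_iso P (homologySingleIso X).symm hX

include hql hsum hcoh in
/-- coherent objects are pseudo-coherent -/
theorem coh_pc (hqs : PCoh.IsQuasiStableUnderKernels P) :
    ∀ (k : ℕ) (X : A), PCoh.IsOfFiniteType P X → PreCoh P X →
      IsNPC P (-(k : ℤ)) ((DerivedCategory.singleFunctor A 0).obj X) := by
  intro k
  induction k with
  | zero =>
    intro X hX _
    simpa using npc_zero_of_finiteType P hql hsum hqs hX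
  | succ k ih =>
    intro X hX hX'
    obtain ⟨E₀, π, hE₀, hπ⟩ := hX
    have hK₁ : PCoh.IsOfFiniteType P (kernel π) := hX' E₀ π hE₀
    have hK₂ : PreCoh P (kernel π) := preCoh_of_mono P (kernel.ι π) (hcoh _ hE₀)
    have hS : (ShortComplex.kernelSequence π).ShortExact :=
      { exact := ShortComplex.kernelSequence_exact π
        mono_f := inferInstance
        epi_g := hπ }
    have h1 := ih (kernel π) hK₁ hK₂
    have := (triangle_all hsum hqs hql (-((k + 1 : ℕ) : ℤ)) _ hS.singleTriangle_distinguished).1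
      (by
        have e : -((k + 1 : ℕ) : ℤ) + 1 = -(k : ℤ) := by push_cast; omega
        rw [e]; exact h1)
      (npc_single_mem P _ hE₀)
    exact this

include hql hsum hcoh in
/-- S5608 -/
theorem coherent_criterion (n : ℤ) (F : DerivedCategory A) (b : ℤ)
    (hb : ∀ i : ℤ, b < i → IsZero ((DerivedCategory.homologyFunctor A i).obj F)) :
    IsNPC P n F ↔
      (PCoh.IsOfFiniteType P ((DerivedCategory.homologyFunctor A n).obj F) ∧
        ∀ i : ℤ, n < i → (PCoh.IsOfFiniteType P ((DerivedCategory.homologyFunctor A i).obj F) ∧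
          PreCoh P ((DerivedCategory.homologyFunctor A i).obj F))) := by
  have hqs := hqs_of_hcoh P hcoh
  constructor
  · rintro ⟨E, hE, ⟨e⟩⟩
    have iso : ∀ i : ℤ, E.homology i ≅ (DerivedCategory.homologyFunctor A i).obj F := fun i =>
      (hIsoD E i).symm ≪≫ (DerivedCategory.homologyFunctor A i).mapIso e
    refine ⟨finiteType_of_iso P (iso n)
      (finiteType_homology P hcoh E n (hE.2 n le_rfl) (hE.2 (n + 1) (by omega))), fun i hi => ⟨?_, ?_⟩⟩
    · exact finiteType_of_iso P (iso i)
        (finiteType_homology P hcoh E i (hE.2 i (by omega)) (hE.2 (i + 1) (by omega)))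
    · exact preCoh_of_mono P (iso i).inv
        (preCoh_homology P hql hsum hcoh E i (hE.2 i (by omega)) (hE.2 (i - 1) (by omega)))
  · rintro ⟨h1, h2⟩
    refine npc_of_homology P hsum hqs hql n (b + 1 - n).toNat F (fun i hi => hb i (by omega))
      (fun i hi => ?_)
    rcases hi.eq_or_lt with rfl | hlt
    · have := npc_zero_of_finiteType P hql hsum hqs h1
      have e : n - n = 0 := by omega
      rw [e]
      exact this
    · have := coh_pc P hql hsum hcoh hqs (i - n).toNat _ (h2 i hlt).1 (h2 i hlt).2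
      rwa [show -((i - n).toNat : ℤ) = n - i by omega] at this

end Derived

end Groth.Agent.Lib.Helper8.PC14
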