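import Groth.Agent.Lib.Helper8.PC18
import Mathlib.Algebra.Homology.DerivedCategory.ExactFunctor
import Mathlib.Algebra.Homology.ShortComplex.PreservesHomology
import Mathlib.CategoryTheory.Preadditive.Projective.Basic

/-!
# Helper8: pseudo-coherence relative to a class of projective objects, and transfer of
strictly pseudo-coherent resolutions along an exact functor (S1047)
-/

universe w w' v v' u u'

open CategoryTheory CategoryTheory.Limits CategoryTheory.Pretriangulated CochainComplex HomComplex

namespace Groth.Agent.Lib.Helper8.PCMod1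

open PC1 PC2 PC3 PC4 PC5 PC6 PC7 PC8 PC9 PC10 PC11 PC17 PC18 ZeroObject

section Abstract

variable {A : Type u} [Category.{v} A] [Abelian A] (P : ObjectProperty A)

lemma hql_of_projective (hproj : ∀ X : A, P X → Projective X) : PCoh.IsQuasiLiftable P := by
  intro E F u hu hF
  haveI := hproj F hF
  refine ⟨F, Projective.factorThru (𝟙 F) u, hF, ?_⟩
  rw [Projective.factorThru_comp]
  infer_instance

lemma hqs_of_projective (hproj : ∀ X : A, P X → Projective X) :
    PCoh.IsQuasiStableUnderKernels P := by
  rintro K hex ⟨N, hN⟩ hK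
  have key : ∀ (m i : ℕ), i + m = N + 1 → 1 ≤ i →
      ∃ r : K.X i ⟶ Zk K i, kernel.ι (K.d i (i + 1)) ≫ r = 𝟙 _ := by
    intro m
    induction m with
    | zero =>
      intro i hi _
      have hz : IsZero (K.X i) := hN i (by omega)
      have hz' : IsZero (Zk K i) := IsZero.of_mono (kernel.ι (K.d i (i + 1))) hz
      exact ⟨0, hz'.eq_of_src _ _⟩
    | succ m ih =>
      intro i hi h1
      obtain ⟨r', hr'⟩ := ih (i + 1) (by omega) (by omega)
      haveI : Projective (K.X (i + 1)) := hproj _ (hK (i + 1) (by omega))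
      haveI : Projective (Zk K (i + 1)) :=
        Retract.projective ⟨kernel.ι (K.d (i + 1) (i + 1 + 1)), r', hr'⟩
      have hS := splice_shortExact K i (hex (i + 1))
      haveI : Projective (spliceSC K i).X₃ := by dsimp [spliceSC]; infer_instance
      let s := hS.splittingOfProjective
      exact ⟨s.r, s.f_r⟩
  obtain ⟨r, hr⟩ := key N 1 (by omega) le_rfl
  have hiso := isIso_toZ_zero K (hex 0) (hex 1)
  refine ⟨K.X 1, r ≫ inv (toZ K 0), hK 1 le_rfl, ?_⟩
  haveI : IsSplitEpi r := ⟨⟨kernel.ι _, hr⟩⟩
  infer_instance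

end Abstract

section Exact

variable {A : Type u} [Category.{v} A] [Abelian A] {B : Type u'} [Category.{v'} B] [Abelian B]
  (F : A ⥤ B) [F.Additive] [PreservesFiniteLimits F] [PreservesFiniteColimits F]

/-- homology commutes with an exact functor -/
noncomputable def mapHomologyIso (L : CochainComplex A ℤ) (i : ℤ) :
    ((F.mapHomologicalComplex (ComplexShape.up ℤ)).obj L).homology i ≅ F.obj (L.homology i) :=
  (L.sc i).mapHomologyIso F

lemma mapHomologyIso_naturality {K L : CochainComplex A ℤ} (f : K ⟶ L) (i : ℤ) :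
    HomologicalComplex.homologyMap ((F.mapHomologicalComplex (ComplexShape.up ℤ)).map f) i ≫
      (mapHomologyIso F L i).hom =
      (mapHomologyIso F K i).hom ≫ F.map (HomologicalComplex.homologyMap f i) :=
  ShortComplex.mapHomologyIso_hom_naturality
    ((HomologicalComplex.shortComplexFunctor A (ComplexShape.up ℤ) i).map f) F

lemma nqi_map {n : ℤ} {K L : CochainComplex A ℤ} (f : K ⟶ L) (h : NQI n f) :
    NQI n ((F.mapHomologicalComplex (ComplexShape.up ℤ)).map f) := by
  constructor
  · intro j hj
    have := h.1 j hj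
    have h1 : IsIso (HomologicalComplex.homologyMap
        ((F.mapHomologicalComplex (ComplexShape.up ℤ)).map f) j ≫ (mapHomologyIso F L j).hom) := by
      rw [mapHomologyIso_naturality]; infer_instance
    exact IsIso.of_isIso_comp_right _ (mapHomologyIso F L j).hom
  · have := h.2
    have h1 : Epi (HomologicalComplex.homologyMap
        ((F.mapHomologicalComplex (ComplexShape.up ℤ)).map f) n ≫ (mapHomologyIso F L n).hom) := by
      rw [mapHomologyIso_naturality]; infer_instance
    have h2 : HomologicalComplex.homologyMap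
        ((F.mapHomologicalComplex (ComplexShape.up ℤ)).map f) n =
        (HomologicalComplex.homologyMap
          ((F.mapHomologicalComplex (ComplexShape.up ℤ)).map f) n ≫ (mapHomologyIso F L n).hom) ≫
          (mapHomologyIso F L n).inv := by simp
    rw [h2]
    infer_instance

/-- the homology of the cone of the image of a morphism -/
noncomputable def coneHomologyIso {K L : CochainComplex A ℤ} (f : K ⟶ L) (i : ℤ) :
    (mappingCone ((F.mapHomologicalComplex (ComplexShape.up ℤ)).map f)).homology i ≅
      F.obj ((mappingCone f).homology i) :=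
  (HomologicalComplex.homologyFunctor B (ComplexShape.up ℤ) i).mapIso
    (mappingCone.mapHomologicalComplexIso f F).symm ≪≫ mapHomologyIso F (mappingCone f) i

variable (P : ObjectProperty A) [P.IsClosedUnderIsomorphisms] [P.ContainsZero]
  (P' : ObjectProperty B) [P'.IsClosedUnderIsomorphisms] [P'.ContainsZero]
  [HasDerivedCategory.{w'} B]

/-- **Transfer of resolutions**: if `F` is exact, maps `P` to `P'`, reflects zero objects and
objects of finite type, then a complex whose image under `F` is `P'`-pseudo-coherent admits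
a strictly `P`-pseudo-coherent resolution. -/
theorem exists_resolution_of_map
    (hsum : ∀ X Y : A, P X → P Y → P (X ⨯ Y)) (hql : PCoh.IsQuasiLiftable P)
    (hsum' : ∀ X Y : B, P' X → P' Y → P' (X ⨯ Y))
    (hqs' : PCoh.IsQuasiStableUnderKernels P') (hql' : PCoh.IsQuasiLiftable P')
    (hFP : ∀ X : A, P X → P' (F.obj X))
    (hFz : ∀ X : A, IsZero (F.obj X) → IsZero X)
    (hFfin : ∀ X : A, PCoh.IsOfFiniteType P' (F.obj X) → PCoh.IsOfFiniteType P X)
    (M : CochainComplex A ℤ)
    (hM : ∀ n : ℤ, IsNPC P' n
      (DerivedCategory.Q.obj ((F.mapHomologicalComplex (ComplexShape.up ℤ)).obj M))) :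
    ∃ (G : CochainComplex A ℤ) (w : G ⟶ M), PCoh.IsStrictPCAll P G ∧ QuasiIso w := by
  -- `M` is acyclic in large degrees
  obtain ⟨E₀, hE₀, ⟨e₀⟩⟩ := hM 0
  obtain ⟨b, hb⟩ := hE₀.1
  have hac : ∀ i : ℤ, b + 1 ≤ i → IsZero (M.homology i) := fun i hi => by
    apply hFz
    have h1 : IsZero (((F.mapHomologicalComplex (ComplexShape.up ℤ)).obj M).homology i) :=
      (isZero_homology_of_isZero_X E₀ i (hb i (by omega))).of_iso
        ((hIsoD _ i).symm ≪≫ ((DerivedCategory.homologyFunctor B i).mapIso e₀).symm ≪≫ hIsoD E₀ i)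
    exact h1.of_iso (mapHomologyIso F M i).symm
  have hfin : ∀ (j : ℤ) {G : CochainComplex A ℤ} (w : G ⟶ M), PCoh.IsStrictPCAll P G →
      NQI (j + 1) w → PCoh.IsOfFiniteType P ((mappingCone w).homology j) := by
    intro j G w hG hw
    apply hFfin
    have hG' : PCoh.IsStrictPC P' j ((F.mapHomologicalComplex (ComplexShape.up ℤ)).obj G) := by
      obtain ⟨bG, hbG⟩ := hG.1
      exact ⟨⟨bG, fun i hi => F.map_isZero (hbG i hi)⟩, fun i _ => hFP _ (hG.2 i)⟩
    have h1 := hfin_of_npc P' hsum' hqs' hql' j (hM j) j le_rfl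
      ((F.mapHomologicalComplex (ComplexShape.up ℤ)).map w) hG' (nqi_map F w hw)
    exact finiteType_of_iso P' (coneHomologyIso F w j) h1
  obtain ⟨G, v, w, -, hG, hw, -, -⟩ := exists_resolution P hsum hql hfin (b + 1)
    (strictPCAll_zero P) (0 : (0 : CochainComplex A ℤ) ⟶ M) (nqi_zero M (b + 1) hac)
  exact ⟨G, w, hG, hw⟩

end Exact

end Groth.Agent.Lib.Helper8.PCMod1
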