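import Mathlib
import Groth.Prelude.Def_DRing2
import Groth.Agent.Lib.Helper8.PCMod1

/-!
# Helper8 — PCMod2: finite free modules over a (not necessarily commutative) ring as a class
of objects for pseudo-coherence; restriction of scalars along a finite free algebra (S1047)
-/

set_option autoImplicit false

open CategoryTheory CategoryTheory.Limits DerivedCategory ZeroObject

namespace Groth.Agent.Lib.Helper8.PCMod2

open PC3 PC7 PC18 PCMod1

universe u

attribute [local instance] HasDerivedCategory.standard

section Ring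

variable (R : Type u) [Ring R]

/-- finite free modules -/
def ffProp : ObjectProperty (ModuleCat.{u} R) := fun X => Module.Finite R X ∧ Module.Free R X

instance : (ffProp R).IsClosedUnderIsomorphisms where
  of_iso {X Y} e h := by
    obtain ⟨h1, h2⟩ := h
    exact ⟨Module.Finite.equiv e.toLinearEquiv, Module.Free.of_equiv e.toLinearEquiv⟩

instance : (ffProp R).ContainsZero where
  exists_zero := ⟨ModuleCat.of R PUnit.{u + 1}, ModuleCat.isZero_of_subsingleton _,
    ⟨inferInstanceAs (Module.Finite R PUnit.{u + 1}), inferInstanceAs (Module.Free R PUnit.{u + 1})⟩⟩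

variable {R}

lemma ffProp_sum (X Y : ModuleCat.{u} R) (hX : ffProp R X) (hY : ffProp R Y) :
    ffProp R (X ⨯ Y) := by
  obtain ⟨h1, h2⟩ := hX
  obtain ⟨h3, h4⟩ := hY
  have e : X ⨯ Y ≅ ModuleCat.of R (X × Y) :=
    (biprod.isoProd X Y).symm ≪≫ ModuleCat.biprodIsoProd X Y
  refine (ffProp R).prop_of_iso e.symm ?_
  exact ⟨inferInstanceAs (Module.Finite R (X × Y)), inferInstanceAs (Module.Free R (X × Y))⟩

lemma ffProp_projective (X : ModuleCat.{u} R) (hX : ffProp R X) : Projective X := by
  obtain ⟨h1, h2⟩ := hX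
  have : Module.Projective R X := Module.Projective.of_free
  exact (IsProjective.iff_projective X).1 this

lemma ffProp_hql : PCoh.IsQuasiLiftable (ffProp R) := hql_of_projective _ ffProp_projective

lemma ffProp_hqs : PCoh.IsQuasiStableUnderKernels (ffProp R) :=
  hqs_of_projective _ ffProp_projective

lemma finiteType_iff (X : ModuleCat.{u} R) :
    PCoh.IsOfFiniteType (ffProp R) X ↔ Module.Finite R X := by
  constructor
  · rintro ⟨E, π, ⟨hE, -⟩, hπ⟩
    rw [ModuleCat.epi_iff_surjective] at hπ
    exact Module.Finite.of_surjective π.hom hπ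
  · intro h
    obtain ⟨n, f, hf⟩ := Module.Finite.exists_fin' R X
    refine ⟨ModuleCat.of R (Fin n → R), ModuleCat.ofHom f,
      ⟨inferInstanceAs (Module.Finite R (Fin n → R)), inferInstanceAs (Module.Free R (Fin n → R))⟩,
      ?_⟩
    rw [ModuleCat.epi_iff_surjective]
    exact hf

end Ring

section Restrict

variable (A : Type u) [CommRing A] (R : Type u) [Ring R] [Algebra A R]

lemma ffProp_restrict [Module.Finite A R] [Module.Free A R] (X : ModuleCat.{u} R)
    (hX : ffProp R X) :
    ffProp A ((ModuleCat.restrictScalars.{u} (algebraMap A R)).obj X) := by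
  obtain ⟨h1, h2⟩ := hX
  letI : Module A X := Module.compHom X (algebraMap A R)
  haveI : IsScalarTower A R X := IsScalarTower.of_algebraMap_smul (fun r x => rfl)
  have h3 : Module.Finite A X := Module.Finite.trans R X
  have h4 : Module.Free A X := Module.Free.of_basis
    ((Module.Free.chooseBasis A R).smulTower (Module.Free.chooseBasis R X))
  exact ⟨h3, h4⟩

lemma isZero_of_restrict (X : ModuleCat.{u} R)
    (h : IsZero ((ModuleCat.restrictScalars.{u} (algebraMap A R)).obj X)) : IsZero X := by
  have := ModuleCat.subsingleton_of_isZero h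
  have h2 : Subsingleton X := this
  exact ModuleCat.isZero_of_subsingleton _

lemma finiteType_of_restrict (X : ModuleCat.{u} R)
    (h : PCoh.IsOfFiniteType (ffProp A) ((ModuleCat.restrictScalars.{u} (algebraMap A R)).obj X)) :
    PCoh.IsOfFiniteType (ffProp R) X := by
  rw [finiteType_iff] at h ⊢
  letI : Module A X := Module.compHom X (algebraMap A R)
  haveI : IsScalarTower A R X := IsScalarTower.of_algebraMap_smul (fun r x => rfl)
  haveI : Module.Finite A X := h
  exact Module.Finite.of_restrictScalars_finite A R X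

/-- S1047 -/
theorem exists_finite_free_of_restrict [Module.Finite A R] [Module.Free A R]
    [PreservesFiniteLimits (ModuleCat.restrictScalars.{u} (algebraMap A R))]
    [PreservesFiniteColimits (ModuleCat.restrictScalars.{u} (algebraMap A R))]
    (M : DerivedCategory (ModuleCat.{u} R))
    (hM : DRing.IsPseudoCoherent' A
      (((ModuleCat.restrictScalars.{u} (algebraMap A R)).mapDerivedCategory).obj M)) :
    ∃ (F : CochainComplex (ModuleCat.{u} R) ℤ) (b : ℤ), (∀ i : ℤ, b < i → IsZero (F.X i)) ∧
      (∀ i : ℤ, Module.Finite R (F.X i) ∧ Module.Free R (F.X i)) ∧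
      Nonempty (DerivedCategory.Q.obj F ≅ M) := by
  obtain ⟨E, b, hEb, hEff, ⟨eE⟩⟩ := hM
  let M₀ := Q.objPreimage M
  let e : Q.obj M₀ ≅ M := Q.objObjPreimageIso M
  have hM' : ∀ n : ℤ, IsNPC (ffProp A) n
      (Q.obj (((ModuleCat.restrictScalars.{u} (algebraMap A R)).mapHomologicalComplex
        (ComplexShape.up ℤ)).obj M₀)) := fun n =>
    ⟨E, ⟨⟨b, hEb⟩, fun i _ => hEff i⟩,
      ⟨eE ≪≫ ((ModuleCat.restrictScalars.{u} (algebraMap A R)).mapDerivedCategory.mapIso e.symm) ≪≫
        (ModuleCat.restrictScalars.{u} (algebraMap A R)).mapDerivedCategoryFactors.app M₀⟩⟩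
  obtain ⟨G, w, hG, hw⟩ := exists_resolution_of_map
    (ModuleCat.restrictScalars.{u} (algebraMap A R)) (ffProp R) (ffProp A)
    ffProp_sum ffProp_hql ffProp_sum ffProp_hqs ffProp_hql (ffProp_restrict A R)
    (isZero_of_restrict A R) (finiteType_of_restrict A R) M₀ hM'
  obtain ⟨bG, hbG⟩ := hG.1
  have : IsIso (Q.map w) := by rw [isIso_Q_map_iff_quasiIso]; exact hw
  exact ⟨G, bG, hbG, hG.2, ⟨asIso (Q.map w) ≪≫ e⟩⟩

end Restrict

end Groth.Agent.Lib.Helper8.PCMod2
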