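import Mathlib
import Groth.Prelude.Def_DRing2
import Groth.Agent.Lib.Helper8.PCMod2
import Groth.Agent.Lib.Helper8.PC14
import Groth.Agent.Lib.Helper8.CohRing

/-!
# Helper8 — PCCoh: pseudo-coherence over a coherent ring in terms of cohomology (S6943)
-/

set_option autoImplicit false

open CategoryTheory CategoryTheory.Limits DerivedCategory

namespace Groth.Agent.Lib.Helper8.PCCoh

open PC3 PC7 PC8 PC13 PC14 PC18 PCMod1 PCMod2 CohRing

universe u

attribute [local instance] HasDerivedCategory.standard

variable {R : Type u} [CommRing R]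

lemma fp_of_finite_preCoh (X : ModuleCat.{u} R) (h1 : Module.Finite R X)
    (h2 : PreCoh (ffProp R) X) : Module.FinitePresentation R X := by
  obtain ⟨n, f, hf⟩ := Module.Finite.exists_fin' R X
  have h3 := h2 (ModuleCat.of R (Fin n → R)) (ModuleCat.ofHom f)
    ⟨inferInstanceAs (Module.Finite R (Fin n → R)), inferInstanceAs (Module.Free R (Fin n → R))⟩
  rw [finiteType_iff] at h3
  have hk : (LinearMap.ker f).FG := by
    have : Module.Finite R (LinearMap.ker f) :=
      Module.Finite.equiv (ModuleCat.kernelIsoKer (ModuleCat.ofHom f)).toLinearEquiv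
    exact Module.Finite.iff_fg.1 this
  exact Module.finitePresentation_of_free_of_surjective f hf hk

variable (hR : ∀ I : Ideal R, I.FG → Module.FinitePresentation R I)
include hR

lemma preCoh_of_fp (X : ModuleCat.{u} R) [Module.FinitePresentation R X] :
    PreCoh (ffProp R) X := by
  intro E u hE
  rw [finiteType_iff]
  haveI : Module.Finite R E := hE.1
  have hker : (LinearMap.ker u.hom).FG := by
    have hrg : (LinearMap.range u.hom).FG := by
      rw [LinearMap.range_eq_map]; exact Submodule.FG.map _ Module.Finite.fg_top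
    haveI := isCohMod_of_fp hR X _ hrg
    have := Module.FinitePresentation.fg_ker u.hom.rangeRestrict
      (LinearMap.surjective_rangeRestrict _)
    rwa [LinearMap.ker_rangeRestrict] at this
  haveI : Module.Finite R (LinearMap.ker u.hom) := Module.Finite.iff_fg.2 hker
  exact Module.Finite.equiv (ModuleCat.kernelIsoKer u).symm.toLinearEquiv

lemma ffProp_hcoh (X : ModuleCat.{u} R) (hX : ffProp R X) : PreCoh (ffProp R) X := by
  obtain ⟨h1, h2⟩ := hX
  haveI : Module.Projective R X := Module.Projective.of_free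
  haveI : Module.FinitePresentation R X := Module.finitePresentation_of_projective R X
  exact preCoh_of_fp hR X

lemma isNPC_iff (K : Dual.D R) (b : ℤ)
    (hb : ∀ i : ℤ, b < i → Subsingleton (Dual.HD R K i)) (m : ℤ) :
    IsNPC (ffProp R) m K ↔
      Module.Finite R (Dual.HD R K m) ∧
        ∀ i : ℤ, m < i → Module.FinitePresentation R (Dual.HD R K i) := by
  have hb' : ∀ i : ℤ, b < i →
      IsZero ((DerivedCategory.homologyFunctor (ModuleCat.{u} R) i).obj K) := fun i hi => by
    have := hb i hi
    exact ModuleCat.isZero_of_subsingleton _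
  rw [coherent_criterion (ffProp R) ffProp_hql ffProp_sum (ffProp_hcoh hR) m K b hb',
    finiteType_iff]
  refine and_congr Iff.rfl (forall_congr' fun i => forall_congr' fun _ => ?_)
  rw [finiteType_iff]
  constructor
  · rintro ⟨h1, h2⟩
    exact fp_of_finite_preCoh _ h1 h2
  · intro h
    exact ⟨inferInstance, preCoh_of_fp hR _⟩

/-- S6943 -/
theorem isPseudoCoherent_iff_of_coherent (K : Dual.D R)
    (hb : ∃ b : ℤ, ∀ i : ℤ, b < i → Subsingleton (Dual.HD R K i)) (m : ℤ) :
    (DRing.IsPseudoCoherent R m K ↔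
      Module.Finite R (Dual.HD R K m) ∧
        ∀ i : ℤ, m < i → Module.FinitePresentation R (Dual.HD R K i)) ∧
      (DRing.IsPseudoCoherent' R K ↔ ∀ i : ℤ, Module.FinitePresentation R (Dual.HD R K i)) := by
  obtain ⟨b, hb⟩ := hb
  constructor
  · rw [← isNPC_iff hR K b hb m]
    exact (npc_iff_exists_perfect (ffProp R) ffProp_sum ffProp_hqs ffProp_hql m K).symm
  · constructor
    · rintro ⟨E, b', hb', hff, ⟨e⟩⟩ i
      have h1 : IsNPC (ffProp R) (i - 1) K :=
        (npc_of_strictPCAll (ffProp R) ⟨⟨b', hb'⟩, hff⟩ (i - 1)).of_iso e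
      exact ((isNPC_iff hR K b hb (i - 1)).1 h1).2 i (by omega)
    · intro h
      have hpc : PCoh.IsPC (ffProp R) K := fun n =>
        (isNPC_iff hR K b hb n).2 ⟨inferInstance, fun i _ => h i⟩
      obtain ⟨E, hE, ⟨e⟩⟩ := exists_strictPCAll (ffProp R) ffProp_sum ffProp_hqs ffProp_hql K hpc
      obtain ⟨b', hb'⟩ := hE.1
      exact ⟨E, b', hb', hE.2, ⟨e⟩⟩

end Groth.Agent.Lib.Helper8.PCCoh
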