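import Mathlib

/-!
# Products of bounded below objects in the derived category
-/

set_option linter.style.haveILetI false
set_option linter.unusedSectionVars false

universe w' w v u

open CategoryTheory Category CategoryTheory.Limits

namespace Groth.Agent.Lib.Helper8.DProd

variable {A : Type u} [Category.{v} A] [Abelian A] {J : Type w}
  [HasLimitsOfShape (Discrete J) A]

section Homotopy

variable {ι : Type*} {c : ComplexShape ι}
  (K : J → HomologicalComplex A c) {L : HomologicalComplex A c} (f : L ⟶ ∏ᶜ K)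
  (h : ∀ j, Homotopy (f ≫ Pi.π K j) 0)

/-- the product in each degree -/
noncomputable def isLimitEval (i : ι) :
    IsLimit ((HomologicalComplex.eval A c i).mapCone (limit.cone (Discrete.functor K))) :=
  isLimitOfPreserves _ (limit.isLimit _)

lemma hom_ext_eval (i : ι) {T : A} {a b : T ⟶ (∏ᶜ K).X i}
    (hab : ∀ j, a ≫ (Pi.π K j).f i = b ≫ (Pi.π K j).f i) : a = b :=
  (isLimitEval K i).hom_ext (fun ⟨j⟩ => hab j)

/-- the components of the assembled homotopy -/
noncomputable def hhom (i i' : ι) : L.X i ⟶ (∏ᶜ K).X i' :=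
  (isLimitEval K i').lift (Cone.mk (L.X i) (Discrete.natTrans fun ⟨j⟩ => (h j).hom i i'))

@[reassoc (attr := simp)]
lemma hhom_π (j : J) (i i' : ι) : hhom K f h i i' ≫ (Pi.π K j).f i' = (h j).hom i i' :=
  (isLimitEval K i').fac _ ⟨j⟩

/-- homotopies to zero on each factor assemble -/
noncomputable def homotopyPi : Homotopy f 0 where
  hom := hhom K f h
  zero i i' hii' := by
    apply hom_ext_eval
    intro j
    rw [hhom_π, zero_comp, (h j).zero i i' hii']
  comm i := by
    apply hom_ext_eval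
    intro j
    have := (h j).comm i
    rw [HomologicalComplex.comp_f] at this
    rw [this]
    simp only [HomologicalComplex.zero_f, add_zero, Preadditive.add_comp]
    congr 1
    · change _ = (L.d i (c.next i) ≫ hhom K f h (c.next i) i) ≫ (Pi.π K j).f i
      rw [assoc, hhom_π]
      rfl
    · change _ = (hhom K f h i (c.prev i) ≫ (∏ᶜ K).d (c.prev i) i) ≫ (Pi.π K j).f i
      rw [assoc, ← HomologicalComplex.Hom.comm, hhom_π_assoc]
      rfl

end Homotopy

lemma isKInjective_pi (I : J → CochainComplex A ℤ) [∀ j, (I j).IsKInjective] :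
    (∏ᶜ I).IsKInjective where
  nonempty_homotopy_zero f hK :=
    ⟨homotopyPi I f (fun j => CochainComplex.IsKInjective.homotopyZero (f ≫ Pi.π I j) hK)⟩

open DerivedCategory

variable [HasDerivedCategory.{w'} A]

/-- every morphism `Q L ⟶ Q I` is `Q.map` of a chain map when `I` is K-injective. -/
theorem exists_Q_map_of_isKInjective (L I : CochainComplex A ℤ) [I.IsKInjective]
    (α : Q.obj L ⟶ Q.obj I) : ∃ f : L ⟶ I, α = Q.map f := by
  obtain ⟨ψ, hψ⟩ := (CochainComplex.IsKInjective.Qh_map_bijective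
    ((HomotopyCategory.quotient A (.up ℤ)).obj L) I).surjective α
  obtain ⟨f, rfl⟩ := (HomotopyCategory.quotient A (.up ℤ)).map_surjective ψ
  exact ⟨f, hψ.symm⟩

/-- a chain map to a K-injective complex killed by `Q` is null-homotopic. -/
theorem nonempty_homotopy_zero_of_Q_map_eq_zero (L I : CochainComplex A ℤ) [I.IsKInjective]
    (f : L ⟶ I) (hf : Q.map f = 0) : Nonempty (Homotopy f 0) := by
  refine ⟨HomotopyCategory.homotopyOfEq _ _ ?_⟩
  apply (CochainComplex.IsKInjective.Qh_map_bijective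
    ((HomotopyCategory.quotient A (.up ℤ)).obj L) I).injective
  have h1 : Q.map f = Q.map 0 := by rw [hf, Functor.map_zero]
  exact h1

lemma exists_rep [EnoughInjectives A] (X : DerivedCategory A) (a : ℤ) [X.IsGE a] :
    ∃ I : CochainComplex A ℤ, I.IsKInjective ∧ Nonempty (Q.obj I ≅ X) := by
  obtain ⟨X', hX', ⟨e⟩⟩ := X.exists_iso_Q_obj_of_isGE a
  obtain ⟨L, i, hi, hL, hLs⟩ :=
    CochainComplex.Plus.modelCategoryQuillen.exists_quasiIso_injective X' a
  exact ⟨L, CochainComplex.isKInjective_of_injective L a,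
    ⟨(asIso (Q.map i)).symm ≪≫ e.symm⟩⟩

section

variable (K : J → DerivedCategory A) (I : J → CochainComplex A ℤ) [∀ j, (I j).IsKInjective]
  (e : ∀ j, Q.obj (I j) ≅ K j)

/-- The candidate product fan. -/
noncomputable def fan : Fan K :=
  Fan.mk (Q.obj (∏ᶜ I)) (fun j => Q.map (Pi.π I j) ≫ (e j).hom)

lemma exists_lift (Y : DerivedCategory A) (ψ : ∀ j, Y ⟶ K j) :
    ∃ φ : Y ⟶ Q.obj (∏ᶜ I), ∀ j, φ ≫ Q.map (Pi.π I j) ≫ (e j).hom = ψ j := by
  let eY : Q.obj (Q.objPreimage Y) ≅ Y := Q.objObjPreimageIso Y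
  choose g hg using fun j => exists_Q_map_of_isKInjective (Q.objPreimage Y) (I j)
    (eY.hom ≫ ψ j ≫ (e j).inv)
  refine ⟨eY.inv ≫ Q.map (Pi.lift g), fun j => ?_⟩
  rw [assoc, ← Q.map_comp_assoc, Pi.lift_π, ← hg]
  simp

lemma hom_ext' (Y : DerivedCategory A) (m m' : Y ⟶ Q.obj (∏ᶜ I))
    (h : ∀ j, m ≫ Q.map (Pi.π I j) ≫ (e j).hom = m' ≫ Q.map (Pi.π I j) ≫ (e j).hom) :
    m = m' := by
  let eY : Q.obj (Q.objPreimage Y) ≅ Y := Q.objObjPreimageIso Y
  have : (∏ᶜ I).IsKInjective := isKInjective_pi I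
  obtain ⟨d, hd⟩ := exists_Q_map_of_isKInjective (Q.objPreimage Y) (∏ᶜ I) (eY.hom ≫ (m - m'))
  have h0 : ∀ j, Q.map (d ≫ Pi.π I j) = 0 := fun j => by
    have := h j
    rw [← assoc, ← assoc, cancel_mono] at this
    rw [Q.map_comp, ← hd, assoc, Preadditive.sub_comp, this, sub_self, comp_zero]
  have H : Homotopy d 0 :=
    homotopyPi I d (fun j => (nonempty_homotopy_zero_of_Q_map_eq_zero _ _ _ (h0 j)).some)
  have h2 := Q_map_eq_of_homotopy A H
  rw [Functor.map_zero, ← hd] at h2
  rw [← sub_eq_zero, ← cancel_epi eY.hom, h2, comp_zero]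

/-- The fan is a limit. -/
noncomputable def isLimitFan : IsLimit (fan K I e) :=
  Fan.IsLimit.mk _ (fun t => (exists_lift K I e t.pt t.proj).choose)
    (fun t j => (exists_lift K I e t.pt t.proj).choose_spec j)
    (fun t m hm => hom_ext' K I e t.pt _ _ (fun j =>
      (hm j).trans ((exists_lift K I e t.pt t.proj).choose_spec j).symm))

end

theorem main [EnoughInjectives A]
    (K : J → DerivedCategory A) (hK : ∀ n, ∃ a : ℤ, (K n).IsGE a) : HasProduct K := by
  choose a ha using hK
  choose I hI e using fun n => exists_rep (K n) (a n)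
  exact ⟨⟨⟨fan K I (fun j => (e j).some), isLimitFan K I (fun j => (e j).some)⟩⟩⟩

end Groth.Agent.Lib.Helper8.DProd
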