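import Mathlib.Algebra.Homology.DerivedCategory.KInjective
import Mathlib.CategoryTheory.Localization.DerivabilityStructure.Derives
import Mathlib.CategoryTheory.Localization.DerivabilityStructure.Constructor

/-!
# Helper8: right derived functors on `K(A)` via K-injective complexes
-/

universe w v u v' u'

open CategoryTheory

namespace Groth.Agent.Lib.Helper8.KInjDer

variable {A : Type u} [Category.{v} A] [Abelian A] [HasDerivedCategory.{w} A]

/-- K-injective objects of `K(A)`. -/
def kinj : ObjectProperty (HomotopyCategory A (ComplexShape.up ℤ)) :=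
  fun X => CochainComplex.IsKInjective X.as

lemma Qh_map_bijective (X J : HomotopyCategory A (ComplexShape.up ℤ)) (hJ : kinj J) :
    Function.Bijective (DerivedCategory.Qh.map : (X ⟶ J) → _) := by
  have : CochainComplex.IsKInjective J.as := hJ
  exact CochainComplex.IsKInjective.Qh_map_bijective X J.as

/-- extension along quasi-isomorphisms of maps to K-injectives -/
lemma exists_unique_ext {X Y J : HomotopyCategory A (ComplexShape.up ℤ)} (hJ : kinj J)
    (s : X ⟶ Y) (hs : HomotopyCategory.quasiIso A (ComplexShape.up ℤ) s) (g : X ⟶ J) :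
    ∃ g' : Y ⟶ J, s ≫ g' = g ∧ ∀ g'' : Y ⟶ J, s ≫ g'' = g → g'' = g' := by
  have : IsIso (DerivedCategory.Qh.map s) :=
    Localization.inverts DerivedCategory.Qh (HomotopyCategory.quasiIso A (ComplexShape.up ℤ)) s hs
  obtain ⟨g', hg'⟩ := (Qh_map_bijective Y J hJ).2
    (inv (DerivedCategory.Qh.map s) ≫ DerivedCategory.Qh.map g)
  refine ⟨g', ?_, ?_⟩
  · apply (Qh_map_bijective X J hJ).1
    rw [Functor.map_comp, hg', IsIso.hom_inv_id_assoc]
  · intro g'' hg''
    apply (Qh_map_bijective Y J hJ).1
    rw [hg', ← hg'', Functor.map_comp, IsIso.inv_hom_id_assoc]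

/-- The localizer morphism given by the inclusion of K-injectives. -/
def Φ : LocalizerMorphism (MorphismProperty.isomorphisms (kinj (A := A)).FullSubcategory)
    (HomotopyCategory.quasiIso A (ComplexShape.up ℤ)) where
  functor := kinj.ι
  map := by
    intro X Y f (hf : IsIso f) i
    dsimp
    infer_instance


section

variable (hK : ∀ X : HomotopyCategory A (ComplexShape.up ℤ),
  ∃ (J : HomotopyCategory A (ComplexShape.up ℤ)) (_ : kinj J) (s : X ⟶ J),
    HomotopyCategory.quasiIso A (ComplexShape.up ℤ) s)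

include hK

lemma isConnected_rightResolution (X : HomotopyCategory A (ComplexShape.up ℤ)) :
    IsConnected ((Φ (A := A)).RightResolution X) := by
  obtain ⟨J, hJ, s, hs⟩ := hK X
  have : Nonempty ((Φ (A := A)).RightResolution X) :=
    ⟨{ X₁ := ⟨J, hJ⟩, w := s, hw := hs }⟩
  apply zigzag_isConnected
  intro R R'
  obtain ⟨g, hg, -⟩ := exists_unique_ext R'.X₁.property R.w R.hw R'.w
  exact Zigzag.of_hom { f := ObjectProperty.homMk g, comm := hg }

lemma hasRightResolutions_arrow : (Φ (A := A)).arrow.HasRightResolutions := by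
  intro f
  obtain ⟨I, hI, sX, hsX⟩ := hK f.left
  obtain ⟨J, hJ, sY, hsY⟩ := hK f.right
  obtain ⟨g, hg, -⟩ := exists_unique_ext hJ sX hsX (f.hom ≫ sY)
  exact ⟨{ X₁ := Arrow.mk (ObjectProperty.homMk g : (⟨I, hI⟩ : kinj.FullSubcategory) ⟶ ⟨J, hJ⟩)
           w := Arrow.homMk sX sY hg
           hw := ⟨hsX, hsY⟩ }⟩

lemma isLocalizedEquivalence : (Φ (A := A)).IsLocalizedEquivalence := by
  have hfaith : ((Φ (A := A)).functor ⋙ DerivedCategory.Qh).Faithful := by
    refine ⟨fun {X Y} f g h => ?_⟩
    apply kinj.ι.map_injective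
    exact (Qh_map_bijective X.obj Y.obj Y.property).1 h
  have hfull : ((Φ (A := A)).functor ⋙ DerivedCategory.Qh).Full := by
    refine ⟨fun {X Y} φ => ?_⟩
    obtain ⟨g, hg⟩ := (Qh_map_bijective X.obj Y.obj Y.property).2 φ
    exact ⟨ObjectProperty.homMk g, hg⟩
  have hess : ((Φ (A := A)).functor ⋙ DerivedCategory.Qh).EssSurj := by
    refine ⟨fun Z => ?_⟩
    have := Localization.essSurj DerivedCategory.Qh
      (HomotopyCategory.quasiIso A (ComplexShape.up ℤ))
    obtain ⟨X, ⟨e⟩⟩ : ∃ X, Nonempty (DerivedCategory.Qh.obj X ≅ Z) :=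
      ⟨_, ⟨DerivedCategory.Qh.objObjPreimageIso Z⟩⟩
    obtain ⟨J, hJ, s, hs⟩ := hK X
    exact ⟨⟨J, hJ⟩, ⟨(Localization.isoOfHom DerivedCategory.Qh
      (HomotopyCategory.quasiIso A (ComplexShape.up ℤ)) s hs).symm ≪≫ e⟩⟩
  have : ((Φ (A := A)).functor ⋙ DerivedCategory.Qh).IsEquivalence := { }
  have : ((Φ (A := A)).functor ⋙ DerivedCategory.Qh).IsLocalization
      (MorphismProperty.isomorphisms (kinj (A := A)).FullSubcategory) :=
    Functor.IsLocalization.of_isEquivalence _ _ le_rfl
  exact LocalizerMorphism.IsLocalizedEquivalence.of_isLocalization_of_isLocalization _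
    DerivedCategory.Qh

lemma isRightDerivabilityStructure : (Φ (A := A)).IsRightDerivabilityStructure := by
  have := isConnected_rightResolution hK
  have := hasRightResolutions_arrow hK
  have := isLocalizedEquivalence hK
  exact LocalizerMorphism.IsRightDerivabilityStructure.mk' _

variable {D' : Type u'} [Category.{v'} D'] (F : HomotopyCategory A (ComplexShape.up ℤ) ⥤ D')

omit [HasDerivedCategory A] hK in
lemma derives : (Φ (A := A)).Derives F :=
  fun _ _ f (hf : IsIso f) => by dsimp; infer_instance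

theorem hasRightDerivedFunctor :
    F.HasRightDerivedFunctor (HomotopyCategory.quasiIso A (ComplexShape.up ℤ)) := by
  have := isRightDerivabilityStructure hK
  have := (derives F).hasPointwiseRightDerivedFunctor
  infer_instance

theorem isIso_unit [F.HasRightDerivedFunctor (HomotopyCategory.quasiIso A (ComplexShape.up ℤ))]
    (J : HomotopyCategory A (ComplexShape.up ℤ)) (hJ : kinj J) :
    IsIso ((F.totalRightDerivedUnit DerivedCategory.Qh
      (HomotopyCategory.quasiIso A (ComplexShape.up ℤ))).app J) := by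
  have := isRightDerivabilityStructure hK
  exact (derives F).isIso_of_isRightDerivedFunctor
    (F.totalRightDerivedUnit DerivedCategory.Qh (HomotopyCategory.quasiIso A (ComplexShape.up ℤ)))
    ⟨J, hJ⟩

end


omit [HasDerivedCategory A] in
omit [HasDerivedCategory A] in
lemma hK_of_complexes
    (hKinj : ∀ K : CochainComplex A ℤ, ∃ (I : CochainComplex A ℤ) (f : K ⟶ I),
      I.IsKInjective ∧ QuasiIso f) :
    ∀ X : HomotopyCategory A (ComplexShape.up ℤ),
      ∃ (J : HomotopyCategory A (ComplexShape.up ℤ)) (_ : kinj J) (s : X ⟶ J),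
        HomotopyCategory.quasiIso A (ComplexShape.up ℤ) s := by
  intro X
  obtain ⟨I, f, hI, hf⟩ := hKinj X.as
  refine ⟨(HomotopyCategory.quotient A (ComplexShape.up ℤ)).obj I, hI,
    (HomotopyCategory.quotient A (ComplexShape.up ℤ)).map f, ?_⟩
  exact (HomotopyCategory.quotient_map_mem_quasiIso_iff f).2
    ((HomologicalComplex.mem_quasiIso_iff f).2 hf)

end Groth.Agent.Lib.Helper8.KInjDer
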