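import Mathlib.CategoryTheory.Triangulated.Pretriangulated
import Mathlib.CategoryTheory.Triangulated.TriangleShift
import Mathlib.CategoryTheory.Limits.Preserves.Shapes.Products

/-!
# Helper8: Milnor-type lifting for derived limits in a pretriangulated category (S0943)
-/

universe v u

open CategoryTheory CategoryTheory.Limits Pretriangulated

namespace Groth.Agent.Lib.Helper8.MilnorTri

variable {T : Type u} [Category.{v} T] [Preadditive T] [HasZeroObject T] [HasShift T ℤ]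
  [∀ n : ℤ, (shiftFunctor T n).Additive] [Pretriangulated T]

section Exact

variable (Tr : Triangle T) (hT : Tr ∈ distTriang T) (n : ℤ) {X : T}

include hT

lemma exact₂ (f : X ⟶ (Tr.obj₂)⟦n⟧) (hf : f ≫ (Tr.mor₂)⟦n⟧' = 0) :
    ∃ g : X ⟶ (Tr.obj₁)⟦n⟧, f = g ≫ (Tr.mor₁)⟦n⟧' := by
  have hd := Triangle.shift_distinguished Tr hT n
  obtain ⟨g, hg⟩ := Triangle.coyoneda_exact₂ _ hd f (by
    change f ≫ (n.negOnePow • (Tr.mor₂)⟦n⟧') = 0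
    rw [Linear.comp_units_smul, hf, smul_zero])
  let g' : X ⟶ (Tr.obj₁)⟦n⟧ := g
  have hg' : f = g' ≫ (n.negOnePow • (Tr.mor₁)⟦n⟧') := hg
  refine ⟨n.negOnePow • g', ?_⟩
  rw [hg', Linear.comp_units_smul, Linear.units_smul_comp]

lemma exact₁ (f : X ⟶ ((Tr.obj₁)⟦n⟧)⟦(1 : ℤ)⟧) (hf : f ≫ ((Tr.mor₁)⟦n⟧')⟦(1 : ℤ)⟧' = 0) :
    ∃ g : X ⟶ (Tr.obj₃)⟦n⟧,
      f = g ≫ (Tr.mor₃)⟦n⟧' ≫ (shiftFunctorComm T 1 n).hom.app Tr.obj₁ := by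
  have hd := Triangle.shift_distinguished Tr hT n
  obtain ⟨g, hg⟩ := Triangle.coyoneda_exact₁ _ hd f (by
    change f ≫ (n.negOnePow • (Tr.mor₁)⟦n⟧')⟦(1 : ℤ)⟧' = 0
    rw [Functor.map_units_smul, Linear.comp_units_smul, hf, smul_zero])
  let g' : X ⟶ (Tr.obj₃)⟦n⟧ := g
  have hg' : f = g' ≫ (n.negOnePow • ((Tr.mor₃)⟦n⟧' ≫
      (shiftFunctorComm T 1 n).hom.app Tr.obj₁)) := hg
  refine ⟨n.negOnePow • g', ?_⟩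
  rw [hg', Linear.units_smul_comp, Linear.comp_units_smul]

lemma mor₂_mor₃_shift : (Tr.mor₂)⟦n⟧' ≫ (Tr.mor₃)⟦n⟧' = 0 := by
  rw [← Functor.map_comp, comp_distTriang_mor_zero₂₃ _ hT, Functor.map_zero]

end Exact

section Main

variable (K : ℕ → T) (t : ∀ n, K (n + 1) ⟶ K n) [HasProduct K] (L : T) (a : ∀ n, L ⟶ K n)

/-- the map `1 - shift` -/
noncomputable abbrev D : ∏ᶜ K ⟶ ∏ᶜ K := Pi.lift fun n => Pi.π K n - Pi.π K (n + 1) ≫ t n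

/-- the shifted product is a product -/
noncomputable def shiftedIsLimit (m : ℤ) :
    IsLimit (Fan.mk ((∏ᶜ K)⟦m⟧) (fun n => (Pi.π K n)⟦m⟧') : Fan fun n => (K n)⟦m⟧) :=
  isLimitFanMkObjOfIsLimit (shiftFunctor T m) K (Pi.π K) (productIsProduct K)

/-- lift into the shifted product -/
noncomputable def lft (m : ℤ) {Z : T} (x : ∀ n, Z ⟶ (K n)⟦m⟧) : Z ⟶ (∏ᶜ K)⟦m⟧ :=
  Fan.IsLimit.lift (shiftedIsLimit K m) x

@[reassoc (attr := simp)]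
lemma lft_π (m : ℤ) {Z : T} (x : ∀ n, Z ⟶ (K n)⟦m⟧) (n : ℕ) :
    lft K m x ≫ (Pi.π K n)⟦m⟧' = x n :=
  Fan.IsLimit.fac (shiftedIsLimit K m) x n

lemma hom_ext (m : ℤ) {Z : T} {f g : Z ⟶ (∏ᶜ K)⟦m⟧}
    (h : ∀ n, f ≫ (Pi.π K n)⟦m⟧' = g ≫ (Pi.π K n)⟦m⟧') : f = g :=
  Fan.IsLimit.hom_ext (shiftedIsLimit K m) f g h

lemma comp_D_π (m : ℤ) {Z : T} (f : Z ⟶ (∏ᶜ K)⟦m⟧) (n : ℕ) :
    (f ≫ (D K t)⟦m⟧') ≫ (Pi.π K n)⟦m⟧' =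
      f ≫ (Pi.π K n)⟦m⟧' - (f ≫ (Pi.π K (n + 1))⟦m⟧') ≫ (t n)⟦m⟧' := by
  rw [Category.assoc, ← Functor.map_comp, Pi.lift_π, Functor.map_sub, Functor.map_comp,
    Preadditive.comp_sub, Category.assoc]

variable (c : ∏ᶜ K ⟶ L⟦(1 : ℤ)⟧)
  (hT : Triangle.mk (Pi.lift a) (D K t) c ∈ distTriang T)

include hT

lemma exact₂' (m : ℤ) {Z : T} (f : Z ⟶ (∏ᶜ K)⟦m⟧) (hf : f ≫ (D K t)⟦m⟧' = 0) :
    ∃ g : Z ⟶ L⟦m⟧, f = g ≫ (Pi.lift a)⟦m⟧' :=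
  exact₂ _ hT m f hf

lemma exact₁' (m' : ℤ) {Z : T} (f : Z ⟶ (L⟦m'⟧)⟦(1 : ℤ)⟧)
    (hf : f ≫ ((Pi.lift a)⟦m'⟧')⟦(1 : ℤ)⟧' = 0) :
    ∃ g : Z ⟶ (∏ᶜ K)⟦m'⟧, f = g ≫ c⟦m'⟧' ≫ (shiftFunctorComm T 1 m').hom.app L :=
  exact₁ _ hT m' f hf

theorem lift_exists (m : ℤ) {Z : T} (x : ∀ n, Z ⟶ (K n)⟦m⟧)
    (hx : ∀ n, x (n + 1) ≫ (t n)⟦m⟧' = x n) :
    ∃ y : Z ⟶ L⟦m⟧, ∀ n, y ≫ (a n)⟦m⟧' = x n := by
  have h0 : lft K m x ≫ (D K t)⟦m⟧' = 0 := by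
    apply hom_ext K m
    intro n
    rw [comp_D_π, lft_π, lft_π, hx, sub_self, zero_comp]
  obtain ⟨y, hy⟩ := exact₂' K t L a c hT m (lft K m x) h0
  refine ⟨y, fun n => ?_⟩
  have h1 := congr_arg (fun f => f ≫ (Pi.π K n)⟦m⟧') hy
  simp only [lft_π] at h1
  rw [h1]
  change _ = (y ≫ (Pi.lift a)⟦m⟧') ≫ _
  rw [Category.assoc, ← Functor.map_comp]
  congr 2
  exact (Pi.lift_π a n).symm

theorem eq_zero (m m' : ℤ) (hm : m' + 1 = m) {Z : T}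
    (hlim : Function.Surjective (fun (b : ∀ n, Z ⟶ (K n)⟦m'⟧) (n : ℕ) =>
      b n - b (n + 1) ≫ (t n)⟦m'⟧'))
    (y : Z ⟶ L⟦m⟧) (hy : ∀ n, y ≫ (a n)⟦m⟧' = 0) : y = 0 := by
  let e := shiftFunctorAdd' T m' 1 m hm
  have hy' : y ≫ (Pi.lift a)⟦m⟧' = 0 := by
    apply hom_ext K m
    intro n
    rw [Category.assoc, ← Functor.map_comp, Pi.lift_π, hy, zero_comp]
  have h1 : (y ≫ e.hom.app L) ≫ ((Pi.lift a)⟦m'⟧')⟦(1 : ℤ)⟧' = 0 := by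
    have nat := e.hom.naturality (Pi.lift a)
    dsimp only [Functor.comp_map] at nat
    rw [Category.assoc, ← nat, reassoc_of% hy', zero_comp]
  obtain ⟨g, hg⟩ := exact₁' K t L a c hT m' (y ≫ e.hom.app L) h1
  obtain ⟨b, hb⟩ := hlim (fun n => g ≫ (Pi.π K n)⟦m'⟧')
  have hg' : g = lft K m' b ≫ (D K t)⟦m'⟧' := by
    apply hom_ext K m'
    intro n
    rw [comp_D_π, lft_π, lft_π]
    exact (congr_fun hb n).symm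
  have h2 : y ≫ e.hom.app L = 0 := by
    have h4 : (D K t)⟦m'⟧' ≫ c⟦m'⟧' = 0 := mor₂_mor₃_shift _ hT m'
    rw [hg, hg', Category.assoc, reassoc_of% h4, zero_comp, comp_zero]
  have h3 := congr_arg (fun f => f ≫ e.inv.app L) h2
  simpa using h3

end Main

end Groth.Agent.Lib.Helper8.MilnorTri
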