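import Mathlib
import Groth.Agent.Lib.Helper8.MilnorTri

/-!
# Helper8 — DCmpA: derived completion with respect to one element in a linear triangulated category
with countable products (abstract part)

`IsLoc f X`: `f` acts invertibly on `X`.  `IsCompl f L`: no nonzero maps from `f`-local objects.
For `K`, the homotopy limit `T₀` of `K ←f K ←f ⋯` is `f`-local, and the cone `K'` of `T₀ ⟶ K` is
`f`-complete; `K ⟶ K'` is the reflection.
-/

set_option autoImplicit false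

universe v u w

open CategoryTheory CategoryTheory.Limits Pretriangulated

namespace Groth.Agent.Lib.Helper8.DCmpA

open Groth.Agent.Lib.Helper8.MilnorTri

variable {T : Type u} [Category.{v} T] [Preadditive T] [HasZeroObject T] [HasShift T ℤ]
  [∀ n : ℤ, (shiftFunctor T n).Additive] [Pretriangulated T]
  {A : Type w} [CommRing A] [Linear A T] [∀ n : ℤ, (shiftFunctor T n).Linear A]

/-- `f` acts invertibly on `X` -/
def IsLoc (f : A) (X : T) : Prop := IsIso (f • 𝟙 X)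

/-- `L` receives no nonzero map from an `f`-local object -/
def IsCompl (f : A) (L : T) : Prop := ∀ (X : T), IsLoc f X → ∀ g : X ⟶ L, g = 0

lemma smul_id_comp (f : A) {X Y : T} (g : X ⟶ Y) : (f • 𝟙 X) ≫ g = f • g := by
  rw [Linear.smul_comp, Category.id_comp]

lemma comp_smul_id (f : A) {X Y : T} (g : X ⟶ Y) : g ≫ (f • 𝟙 Y) = f • g := by
  rw [Linear.comp_smul, Category.comp_id]

lemma shift_smul_id (f : A) (X : T) (n : ℤ) : (f • 𝟙 X)⟦n⟧' = f • 𝟙 (X⟦n⟧) := by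
  rw [Functor.map_smul, CategoryTheory.Functor.map_id]

namespace IsLoc

variable {f : A} {X Y : T}

lemma shift (h : IsLoc f X) (n : ℤ) : IsLoc f (X⟦n⟧) := by
  unfold IsLoc
  rw [← shift_smul_id]
  haveI : IsIso (f • 𝟙 X) := h
  infer_instance

lemma of_shift (n : ℤ) (h : IsLoc f (X⟦n⟧)) : IsLoc f X := by
  unfold IsLoc at h ⊢
  rw [← shift_smul_id] at h
  exact isIso_of_reflects_iso _ (shiftFunctor T n)

lemma of_iso (e : X ≅ Y) (h : IsLoc f X) : IsLoc f Y := by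
  unfold IsLoc at h ⊢
  have : f • 𝟙 Y = e.inv ≫ (f • 𝟙 X) ≫ e.hom := by
    rw [smul_id_comp, Linear.comp_smul, e.inv_hom_id]
  rw [this]
  infer_instance

/-- the inverse of `f` on a local object -/
noncomputable def inv (h : IsLoc f X) : X ⟶ X := @CategoryTheory.inv _ _ _ _ (f • 𝟙 X) h

lemma smul_inv_comp (h : IsLoc f X) (g : X ⟶ Y) : f • (h.inv ≫ g) = g := by
  haveI : IsIso (f • 𝟙 X) := h
  rw [← smul_id_comp, ← Category.assoc]
  unfold inv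
  rw [IsIso.hom_inv_id, Category.id_comp]

lemma smul_injective (h : IsLoc f X) {g g' : X ⟶ Y} (hg : f • g = f • g') : g = g' := by
  haveI : IsIso (f • 𝟙 X) := h
  rw [← smul_id_comp, ← smul_id_comp f g'] at hg
  exact (cancel_epi _).1 hg

lemma eq_zero_of_smul (h : IsLoc f X) {g : X ⟶ Y} (hg : f • g = 0) : g = 0 :=
  h.smul_injective (hg.trans (smul_zero f).symm)

end IsLoc

/-- **Key lemma**: the fibre of `𝟙 - f • s` is `f`-local. -/
theorem isLoc_of_triangle (f : A) {T₀ P : T} (ι : T₀ ⟶ P) (Φ s : P ⟶ P)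
    (δ : P ⟶ T₀⟦(1 : ℤ)⟧) (hT : Triangle.mk ι Φ δ ∈ distTriang T) (hΦ : Φ = 𝟙 P - f • s) :
    IsLoc f T₀ := by
  have hιΦ : ι ≫ Φ = 0 := comp_distTriang_mor_zero₁₂ _ hT
  have hΦδ : Φ ≫ δ = 0 := comp_distTriang_mor_zero₂₃ _ hT
  have hsΦ : s ≫ Φ = Φ ≫ s := by
    rw [hΦ, Preadditive.comp_sub, Preadditive.sub_comp, Category.comp_id, Category.id_comp,
      Linear.comp_smul, Linear.smul_comp]
  have hΦ1 : Φ⟦(1 : ℤ)⟧' = 𝟙 _ - f • s⟦(1 : ℤ)⟧' := by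
    rw [hΦ, Functor.map_sub, CategoryTheory.Functor.map_id, Functor.map_smul]
  have key : ∀ {Z : T} (y : Z ⟶ T₀⟦(1 : ℤ)⟧), ∃ y' : Z ⟶ T₀⟦(1 : ℤ)⟧, y = f • y' := by
    intro Z y
    have hx : (y ≫ ι⟦(1 : ℤ)⟧') ≫ Φ⟦(1 : ℤ)⟧' = 0 := by
      rw [Category.assoc, ← Functor.map_comp, hιΦ, Functor.map_zero, comp_zero]
    have hx2 : y ≫ ι⟦(1 : ℤ)⟧' = f • ((y ≫ ι⟦(1 : ℤ)⟧') ≫ s⟦(1 : ℤ)⟧') := by
      have h := hx
      rw [hΦ1, Preadditive.comp_sub, Category.comp_id, Linear.comp_smul, sub_eq_zero] at h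
      exact h
    have hx' : ((y ≫ ι⟦(1 : ℤ)⟧') ≫ s⟦(1 : ℤ)⟧') ≫ Φ⟦(1 : ℤ)⟧' = 0 := by
      rw [Category.assoc, ← Functor.map_comp, hsΦ, Functor.map_comp, ← Category.assoc, hx,
        zero_comp]
    obtain ⟨y'', hy''⟩ := exact₂ (Triangle.mk ι Φ δ) hT 1 _ hx'
    let y' : Z ⟶ T₀⟦(1 : ℤ)⟧ := y''
    have hy' : (y ≫ ι⟦(1 : ℤ)⟧') ≫ s⟦(1 : ℤ)⟧' = y' ≫ ι⟦(1 : ℤ)⟧' := hy''
    have h0 : (y - f • y') ≫ ι⟦(1 : ℤ)⟧' = 0 := by
      rw [Preadditive.sub_comp, Linear.smul_comp, ← hy', ← hx2, sub_self]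
    obtain ⟨w', hw'⟩ := Triangle.coyoneda_exact₁ _ hT (y - f • y') h0
    obtain ⟨w, hw⟩ : ∃ w : Z ⟶ P, y - f • y' = w ≫ δ := ⟨w', hw'⟩
    have hw2 : w ≫ δ = f • ((w ≫ s) ≫ δ) := by
      have h1 : w = w ≫ Φ + f • (w ≫ s) := by
        rw [hΦ, Preadditive.comp_sub, Category.comp_id, Linear.comp_smul, sub_add_cancel]
      conv_lhs => rw [h1]
      rw [Preadditive.add_comp, Category.assoc, hΦδ, comp_zero, zero_add, Linear.smul_comp]
    refine ⟨y' + (w ≫ s) ≫ δ, ?_⟩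
    rw [smul_add, ← hw2, ← hw]
    abel
  obtain ⟨y', hy'⟩ := key (𝟙 (T₀⟦(1 : ℤ)⟧))
  apply IsLoc.of_shift (1 : ℤ)
  exact ⟨y', by rw [smul_id_comp, ← hy'], by rw [comp_smul_id, ← hy']⟩

namespace IsCompl

variable {f : A} {L L' : T}

lemma of_iso (e : L ≅ L') (h : IsCompl f L) : IsCompl f L' := by
  intro X hX g
  have := h X hX (g ≫ e.inv)
  rw [← cancel_mono e.inv, this, zero_comp]

lemma shift (h : IsCompl f L) (n : ℤ) : IsCompl f (L⟦n⟧) := by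
  intro X hX g
  let adj : shiftFunctor T (-n) ⊣ shiftFunctor T n :=
    (shiftEquiv' T (-n) n (by omega)).toAdjunction
  apply (adj.homEquiv X L).symm.injective
  rw [h _ (hX.shift (-n)) ((adj.homEquiv X L).symm g)]
  rw [Adjunction.homEquiv_counit, Functor.map_zero, zero_comp]

lemma prod {J : Type*} (M : J → T) [HasProduct M] (h : ∀ j, IsCompl f (M j)) :
    IsCompl f (∏ᶜ M) := by
  intro X hX g
  apply Pi.hom_ext
  intro j
  rw [h j X hX (g ≫ Pi.π M j), zero_comp]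

lemma of_tri₁ (Tr : Triangle T) (hTr : Tr ∈ distTriang T) (h₂ : IsCompl f Tr.obj₂)
    (h₃ : IsCompl f Tr.obj₃) : IsCompl f Tr.obj₁ := by
  intro X hX g
  have h0 : g ≫ Tr.mor₁ = 0 := h₂ X hX _
  obtain ⟨g', hg'⟩ := Triangle.coyoneda_exact₂ Tr.invRotate (inv_rot_of_distTriang _ hTr) g h0
  have : g' = 0 := (h₃.shift (-1)) X hX g'
  subst this
  exact hg'.trans zero_comp

lemma of_tri₃ (Tr : Triangle T) (hTr : Tr ∈ distTriang T) (h₁ : IsCompl f Tr.obj₁)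
    (h₂ : IsCompl f Tr.obj₂) : IsCompl f Tr.obj₃ := by
  intro X hX g
  have h0 : g ≫ Tr.mor₃ = 0 := (h₁.shift 1) X hX _
  obtain ⟨g', hg'⟩ := Triangle.coyoneda_exact₃ Tr hTr g h0
  have : g' = 0 := h₂ X hX g'
  rw [hg', this, zero_comp]

end IsCompl

section Compl

variable [HasLimitsOfShape (Discrete ℕ) T] (f : A) (K₀ : T)

/-- the constant tower -/
abbrev Kc : ℕ → T := fun _ => K₀

/-- multiplication by `f` as transition maps -/
abbrev tc : ∀ n : ℕ, Kc K₀ (n + 1) ⟶ Kc K₀ n := fun _ => f • 𝟙 K₀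

/-- the data of the completion of `K₀` with respect to `f` -/
structure Compl where
  /-- the completion -/
  K' : T
  /-- the unit -/
  η : K₀ ⟶ K'
  /-- the homotopy limit of `K₀ ←f K₀ ←f ⋯` -/
  T₀ : T
  /-- projections -/
  a : ∀ n : ℕ, T₀ ⟶ Kc K₀ n
  /-- connecting map -/
  δ : ∏ᶜ (Kc K₀) ⟶ T₀⟦(1 : ℤ)⟧
  /-- connecting map -/
  ε : K' ⟶ T₀⟦(1 : ℤ)⟧
  dist₁ : Triangle.mk (Pi.lift a) (D (Kc K₀) (tc f K₀)) δ ∈ distTriang T
  dist₂ : Triangle.mk (a 0) η ε ∈ distTriang T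

theorem exists_compl : Nonempty (Compl f K₀) := by
  obtain ⟨T₀, ι, δ, h₁⟩ := distinguished_cocone_triangle₁ (D (Kc K₀) (tc f K₀))
  let a : ∀ n : ℕ, T₀ ⟶ Kc K₀ n := fun n => ι ≫ Pi.π (Kc K₀) n
  have hι : ι = Pi.lift a := by
    apply Pi.hom_ext
    intro n
    rw [Pi.lift_π]
  obtain ⟨K', η, ε, h₂⟩ := distinguished_cocone_triangle (a 0)
  exact ⟨⟨K', η, T₀, a, δ, ε, by rw [← hι]; exact h₁, h₂⟩⟩

namespace Compl

variable {f K₀} (c : Compl f K₀)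

/-- the shift operator on the product -/
noncomputable abbrev sh : ∏ᶜ (Kc K₀) ⟶ ∏ᶜ (Kc K₀) :=
  Pi.lift (fun n => Pi.π (Kc K₀) (n + 1))

lemma D_eq : D (Kc K₀) (tc f K₀) = 𝟙 _ - f • sh (K₀ := K₀) := by
  apply Pi.hom_ext
  intro n
  rw [Pi.lift_π, Preadditive.sub_comp, Category.id_comp, Linear.smul_comp, Pi.lift_π,
    comp_smul_id]

lemma isLoc_T₀ : IsLoc f c.T₀ :=
  isLoc_of_triangle f _ _ (sh (K₀ := K₀)) _ c.dist₁ D_eq

lemma a_succ (n : ℕ) : f • c.a (n + 1) = c.a n := by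
  have h0 : Pi.lift c.a ≫ D (Kc K₀) (tc f K₀) = 0 := comp_distTriang_mor_zero₁₂ _ c.dist₁
  have h1 := congrArg (fun t => t ≫ Pi.π (Kc K₀) n) h0
  simp only [Category.assoc, Pi.lift_π, zero_comp, Preadditive.comp_sub, Pi.lift_π_assoc] at h1
  rw [comp_smul_id, sub_eq_zero] at h1
  exact h1.symm

lemma tc_shift (m : ℤ) (n : ℕ) : (tc f K₀ n)⟦m⟧' = f • 𝟙 _ := shift_smul_id f K₀ m

variable {X : T}

lemma surj (hX : IsLoc f X) (m : ℤ) (g : X ⟶ K₀⟦m⟧) :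
    ∃ y : X ⟶ c.T₀⟦m⟧, y ≫ (c.a 0)⟦m⟧' = g := by
  let x : ℕ → (X ⟶ K₀⟦m⟧) := fun n => Nat.rec g (fun _ r => hX.inv ≫ r) n
  have hx : ∀ n, x (n + 1) ≫ (tc f K₀ n)⟦m⟧' = x n := fun n => by
    rw [tc_shift, comp_smul_id]
    exact hX.smul_inv_comp (x n)
  obtain ⟨y, hy⟩ := lift_exists (Kc K₀) (tc f K₀) c.T₀ c.a c.δ c.dist₁ m x hx
  exact ⟨y, hy 0⟩

lemma inj (hX : IsLoc f X) (m : ℤ) (y : X ⟶ c.T₀⟦m⟧) (hy : y ≫ (c.a 0)⟦m⟧' = 0) : y = 0 := by
  have hall : ∀ n, y ≫ (c.a n)⟦m⟧' = 0 := by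
    intro n
    induction n with
    | zero => exact hy
    | succ n ih =>
      apply hX.eq_zero_of_smul
      rw [← Linear.comp_smul, ← Functor.map_smul, c.a_succ, ih]
  refine eq_zero (Kc K₀) (tc f K₀) c.T₀ c.a c.δ c.dist₁ m (m - 1) (by omega) ?_ y hall
  intro d
  let b : ℕ → (X ⟶ K₀⟦m - 1⟧) := fun n => Nat.rec 0 (fun k r => hX.inv ≫ (r - d k)) n
  refine ⟨b, ?_⟩
  funext n
  change b n - b (n + 1) ≫ (tc f K₀ n)⟦m - 1⟧' = d n
  rw [tc_shift, comp_smul_id]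
  change b n - f • (hX.inv ≫ (b n - d n)) = d n
  rw [hX.smul_inv_comp, sub_sub_cancel]

lemma isCompl_K' : IsCompl f c.K' := by
  intro X hX g
  have h1 : (g ≫ c.ε) ≫ (c.a 0)⟦(1 : ℤ)⟧' = 0 := by
    rw [Category.assoc]
    have := comp_distTriang_mor_zero₃₁ _ c.dist₂
    change c.ε ≫ (c.a 0)⟦(1 : ℤ)⟧' = 0 at this
    rw [this, comp_zero]
  have h2 : g ≫ c.ε = 0 := c.inj hX 1 _ h1
  obtain ⟨h', hh'⟩ := Triangle.coyoneda_exact₃ _ c.dist₂ g h2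
  obtain ⟨h, hh⟩ : ∃ h : X ⟶ K₀, g = h ≫ c.η := ⟨h', hh'⟩
  obtain ⟨y, hy⟩ := c.surj (hX.shift 1) 1 (h⟦(1 : ℤ)⟧')
  obtain ⟨y', rfl⟩ := (shiftFunctor T (1 : ℤ)).map_surjective y
  rw [← Functor.map_comp] at hy
  have hy' : y' ≫ c.a 0 = h := (shiftFunctor T (1 : ℤ)).map_injective hy
  have h3 : c.a 0 ≫ c.η = 0 := comp_distTriang_mor_zero₁₂ _ c.dist₂
  rw [hh, ← hy', Category.assoc, h3, comp_zero]

lemma bijective_precomp (L : T) (hL : IsCompl f L) :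
    Function.Bijective (fun h : c.K' ⟶ L => c.η ≫ h) := by
  constructor
  · intro h h' hh
    have h0 : c.η ≫ (h - h') = 0 := by
      rw [Preadditive.comp_sub]
      exact sub_eq_zero.2 hh
    obtain ⟨k, hk⟩ := Triangle.yoneda_exact₃ _ c.dist₂ (h - h') h0
    have : k = 0 := hL _ (c.isLoc_T₀.shift 1) k
    rw [this, comp_zero] at hk
    exact sub_eq_zero.1 hk
  · intro g
    have h0 : c.a 0 ≫ g = 0 := hL _ c.isLoc_T₀ _
    obtain ⟨h, hh⟩ := Triangle.yoneda_exact₂ _ c.dist₂ g h0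
    exact ⟨h, hh.symm⟩

lemma isCompl_of_isCompl (g : A) (hK : IsCompl g K₀) : IsCompl g c.K' := by
  have hP : IsCompl g (∏ᶜ (Kc K₀)) := IsCompl.prod _ (fun _ => hK)
  have hT : IsCompl g c.T₀ := IsCompl.of_tri₁ _ c.dist₁ hP hP
  exact IsCompl.of_tri₃ _ c.dist₂ hT hK

end Compl

end Compl

section Iterate

variable [HasLimitsOfShape (Discrete ℕ) T]

/-- iterated completion along a list of elements, carrying an invariant `Pinv` -/
theorem exists_reflection (Pinv : ℕ → T → Prop)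
    (hstep : ∀ (f : A) (k : ℕ) (K : T) (c : Compl f K), Pinv k K → Pinv (k + 1) c.K')
    (fs : List A) (K₀ : T) (h0 : Pinv 0 K₀) :
    ∃ (K' : T) (η : K₀ ⟶ K'), Pinv fs.length K' ∧ (∀ f ∈ fs, IsCompl f K') ∧
      ∀ L : T, (∀ f ∈ fs, IsCompl f L) → Function.Bijective (fun h : K' ⟶ L => η ≫ h) := by
  induction fs with
  | nil =>
    refine ⟨K₀, 𝟙 K₀, h0, fun f hf => by simp at hf, fun L _ => ?_⟩
    constructor
    · intro h h' hh
      simpa using hh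
    · intro g
      exact ⟨g, Category.id_comp g⟩
  | cons f fs ih =>
    obtain ⟨K₁, η₁, hP, hC, hB⟩ := ih
    obtain ⟨c⟩ := exists_compl f K₁
    refine ⟨c.K', η₁ ≫ c.η, hstep f _ K₁ c hP, ?_, ?_⟩
    · intro g hg
      rcases List.mem_cons.1 hg with rfl | hg
      · exact c.isCompl_K'
      · exact c.isCompl_of_isCompl g (hC g hg)
    · intro L hL
      have h1 := c.bijective_precomp L (hL f (List.mem_cons_self))
      have h2 := hB L (fun g hg => hL g (List.mem_cons_of_mem _ hg))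
      have : (fun h : c.K' ⟶ L => (η₁ ≫ c.η) ≫ h) =
          (fun h : K₁ ⟶ L => η₁ ≫ h) ∘ (fun h : c.K' ⟶ L => c.η ≫ h) := by
        funext h
        exact Category.assoc _ _ _
      rw [this]
      exact h2.comp h1

end Iterate

end Groth.Agent.Lib.Helper8.DCmpA
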