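import Mathlib
import Groth.Prelude.Def_DRing3
import Groth.Agent.Lib.Helper8.DProd
import Groth.Agent.Lib.Helper16.KPR4

/-!
# Helper8 — DProdU: products in the (unbounded) derived category of modules

`Q(∏ K_j)` is the product of the `Q(K_j)` in `D(R)`; proof via K-projective resolutions of the source.
-/

set_option autoImplicit false

universe w u

open CategoryTheory CategoryTheory.Limits DerivedCategory

attribute [local instance] HasDerivedCategory.standard

namespace Groth.Agent.Lib.Helper8.DProdU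

open Groth.Agent.Lib.Helper16.KPR

variable {R : Type u} [CommRing R] {J : Type w} [HasLimitsOfShape (Discrete J) (ModuleCat.{u} R)]

lemma homotopy_of_Q_map_eq {P L : DRing.Cx R} [P.IsKProjective] (a b : P ⟶ L)
    (h : Q.map a = Q.map b) : Nonempty (Homotopy a b) := by
  have h1 : Qh.map ((HomotopyCategory.quotient _ _).map a) =
      Qh.map ((HomotopyCategory.quotient _ _).map b) := by
    have ha := quotientCompQhIso_hom_naturality a
    have hb := quotientCompQhIso_hom_naturality b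
    rw [h] at ha
    rw [← cancel_mono ((quotientCompQhIso (ModuleCat.{u} R)).hom.app L), ha, hb]
  have h2 := (CochainComplex.IsKProjective.Qh_map_bijective P
    ((HomotopyCategory.quotient _ (.up ℤ)).obj L)).injective h1
  exact ⟨HomotopyCategory.homotopyOfEq _ _ h2⟩

variable (K : J → DRing.Cx R)

/-- the fan `Q(∏ K_j) ⟶ Q(K_j)` -/
noncomputable def fanQ : Fan (fun j => (Q.obj (K j) : Dual.D R)) :=
  Fan.mk (Q.obj (∏ᶜ K)) (fun j => Q.map (Pi.π K j))

lemma exists_lift (Y : Dual.D R) (ψ : ∀ j, Y ⟶ Q.obj (K j)) :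
    ∃ φ : Y ⟶ Q.obj (∏ᶜ K), ∀ j, φ ≫ Q.map (Pi.π K j) = ψ j := by
  obtain ⟨P, hP, -, ⟨e⟩⟩ := exists_kprojective_module Y
  haveI := hP
  choose g hg using fun j => exists_map_of_isKProjective P (K j) (e.hom ≫ ψ j)
  refine ⟨e.inv ≫ Q.map (Pi.lift g), fun j => ?_⟩
  rw [Category.assoc, ← Q.map_comp, Pi.lift_π, hg, Iso.inv_hom_id_assoc]

lemma hom_ext (Y : Dual.D R) (m m' : Y ⟶ Q.obj (∏ᶜ K))
    (h : ∀ j, m ≫ Q.map (Pi.π K j) = m' ≫ Q.map (Pi.π K j)) : m = m' := by
  obtain ⟨P, hP, -, ⟨e⟩⟩ := exists_kprojective_module Y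
  haveI := hP
  obtain ⟨a, ha⟩ := exists_map_of_isKProjective P (∏ᶜ K) (e.hom ≫ m)
  obtain ⟨b, hb⟩ := exists_map_of_isKProjective P (∏ᶜ K) (e.hom ≫ m')
  have hj : ∀ j, Nonempty (Homotopy ((a - b) ≫ Pi.π K j) 0) := fun j => by
    have h1 : Q.map (a ≫ Pi.π K j) = Q.map (b ≫ Pi.π K j) := by
      rw [Q.map_comp, Q.map_comp, ha, hb, Category.assoc, Category.assoc, h j]
    obtain ⟨H⟩ := homotopy_of_Q_map_eq _ _ h1
    exact ⟨(Homotopy.ofEq (Preadditive.sub_comp _ _ _)).trans (Homotopy.equivSubZero H)⟩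
  have H : Homotopy (a - b) 0 :=
    Groth.Agent.Lib.Helper8.DProd.homotopyPi K (a - b) (fun j => (hj j).some)
  have h2 : Q.map (a - b) = 0 := by
    rw [Q_map_eq_of_homotopy _ H, Functor.map_zero]
  rw [Functor.map_sub, sub_eq_zero, ha, hb, cancel_epi] at h2
  exact h2

/-- `Q(∏ K_j)` is the product of the `Q(K_j)` -/
noncomputable def isLimitFanQ : IsLimit (fanQ K) :=
  Fan.IsLimit.mk _ (fun t => (exists_lift K t.pt t.proj).choose)
    (fun t j => (exists_lift K t.pt t.proj).choose_spec j)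
    (fun t _ hm => hom_ext K t.pt _ _ (fun j =>
      (hm j).trans ((exists_lift K t.pt t.proj).choose_spec j).symm))

variable (R J) in
theorem hasProductsOfShape : HasLimitsOfShape (Discrete J) (Dual.D R) :=
  ⟨fun F => by
    let P : J → DRing.Cx R := fun j => Q.objPreimage (F.obj ⟨j⟩)
    let e : Discrete.functor (fun j => (Q.obj (P j) : Dual.D R)) ≅ F :=
      Discrete.natIso (fun ⟨j⟩ => Q.objObjPreimageIso _)
    have : HasLimit (Discrete.functor (fun j => (Q.obj (P j) : Dual.D R))) :=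
      ⟨⟨⟨_, isLimitFanQ P⟩⟩⟩
    exact hasLimit_of_iso e⟩

instance hasProductsNat : HasLimitsOfShape (Discrete ℕ) (Dual.D R) := hasProductsOfShape R ℕ

example (K : ℕ → Dual.D R) : HasProduct K := inferInstance

end Groth.Agent.Lib.Helper8.DProdU
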