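import Mathlib

/-!
# Helper8 — FFc: compactness relative to colimit cofans (no global coproducts needed)

`FFc K`: every map from `K` to a shifted coproduct (any colimit cofan indexed by a type in
`Type w`) is killed by the projector away from a finite set of summands.  This is a triangulated,
retract-closed class.
-/

set_option autoImplicit false

universe w v u

open CategoryTheory CategoryTheory.Limits CategoryTheory.Pretriangulated

namespace Groth.Agent.Lib.Helper8.CptC

section Cofan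

variable {D : Type u} [Category.{v} D] [Preadditive D] {J : Type w} {X : J → D}
  (c : Cofan X) (hc : IsColimit c)

open Classical in
/-- the projector of the coproduct killing the summands in `S` -/
noncomputable def cS (S : Finset J) : c.pt ⟶ c.pt :=
  Cofan.IsColimit.desc hc (fun j => if j ∈ S then 0 else c.inj j)

open Classical in
@[reassoc]
lemma inj_cS (S : Finset J) (j : J) :
    c.inj j ≫ cS c hc S = if j ∈ S then 0 else c.inj j := by
  unfold cS
  rw [Cofan.IsColimit.fac]

open Classical in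
lemma cS_comp_cS (S T : Finset J) : cS c hc S ≫ cS c hc T = cS c hc (S ∪ T) := by
  refine Cofan.IsColimit.hom_ext hc _ _ (fun j => ?_)
  rw [inj_cS_assoc, inj_cS]
  by_cases h1 : j ∈ S
  · simp [h1]
  · by_cases h2 : j ∈ T
    · simp [h1, h2, inj_cS]
    · simp [h1, h2, inj_cS]

open Classical in
/-- the projection to a summand -/
noncomputable def π (j : J) : c.pt ⟶ X j :=
  Cofan.IsColimit.desc hc (fun i => if h : i = j then eqToHom (by rw [h]) else 0)

@[reassoc]
lemma inj_π_self (j : J) : c.inj j ≫ π c hc j = 𝟙 _ := by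
  unfold π
  rw [Cofan.IsColimit.fac]
  simp

@[reassoc]
lemma inj_π_of_ne {i j : J} (h : i ≠ j) : c.inj i ≫ π c hc j = 0 := by
  unfold π
  rw [Cofan.IsColimit.fac]
  simp [h]

lemma eq_sum_of_comp_cS_eq_zero {C : D} (θ : C ⟶ c.pt) (S : Finset J)
    (h : θ ≫ cS c hc S = 0) : θ = ∑ j ∈ S, (θ ≫ π c hc j) ≫ c.inj j := by
  classical
  have key : (∑ j ∈ S, π c hc j ≫ c.inj j) + cS c hc S = 𝟙 c.pt := by
    refine Cofan.IsColimit.hom_ext hc _ _ (fun i => ?_)
    rw [Preadditive.comp_add, Preadditive.comp_sum, inj_cS, Category.comp_id]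
    by_cases hi : i ∈ S
    · rw [if_pos hi, add_zero, Finset.sum_eq_single i]
      · rw [inj_π_self_assoc]
      · intro b _ hb
        rw [inj_π_of_ne_assoc c hc (Ne.symm hb), zero_comp]
      · intro h'
        exact absurd hi h'
    · rw [if_neg hi, Finset.sum_eq_zero, zero_add]
      intro b hb
      have : i ≠ b := fun e => hi (e ▸ hb)
      rw [inj_π_of_ne_assoc c hc this, zero_comp]
  have := congrArg (fun t => θ ≫ t) key
  simp only [Preadditive.comp_add, h, add_zero, Category.comp_id, Preadditive.comp_sum] at this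
  simp only [Category.assoc]
  exact this.symm

end Cofan

section FF

variable {D : Type u} [Category.{v} D] [Preadditive D] [HasZeroObject D] [HasShift D ℤ]
  [∀ n : ℤ, (shiftFunctor D n).Additive] [Pretriangulated D]

/-- Objects all of whose maps into a shifted coproduct (indexed by a type in `Type w`) factor through
a finite subcoproduct. -/
def FFc : ObjectProperty D := fun K =>
  ∀ (m : ℤ) (J : Type w) (X : J → D) (c : Cofan X) (hc : IsColimit c) (θ : K ⟶ (c.pt)⟦m⟧),
    ∃ S : Finset J, θ ≫ (cS c hc S)⟦m⟧' = 0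

lemma FFc.unshifted {K : D} (hK : FFc.{w} K) {J : Type w} {X : J → D} (c : Cofan X)
    (hc : IsColimit c) (θ : K ⟶ c.pt) : ∃ S : Finset J, θ ≫ cS c hc S = 0 := by
  obtain ⟨S, hS⟩ := hK 0 J X c hc (θ ≫ (shiftFunctorZero D ℤ).inv.app _)
  refine ⟨S, ?_⟩
  have nat := (shiftFunctorZero D ℤ).inv.naturality (cS c hc S)
  simp only [Functor.id_obj, Functor.id_map] at nat
  have hS' : (θ ≫ cS c hc S) ≫ (shiftFunctorZero D ℤ).inv.app c.pt = 0 := by
    rw [Category.assoc, nat, ← Category.assoc]; exact hS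
  rw [← cancel_mono ((shiftFunctorZero D ℤ).inv.app c.pt), hS', zero_comp]

lemma FFc.of_retract {K K' : D} (i : K ⟶ K') (r : K' ⟶ K) (hir : i ≫ r = 𝟙 K)
    (hK' : FFc.{w} K') : FFc.{w} K := by
  intro m J X c hc θ
  obtain ⟨S, hS⟩ := hK' m J X c hc (r ≫ θ)
  refine ⟨S, ?_⟩
  have : θ = i ≫ r ≫ θ := by rw [← Category.assoc, hir, Category.id_comp]
  rw [this, Category.assoc, Category.assoc, ← Category.assoc r, hS, comp_zero]

lemma FFc.of_iso {K K' : D} (e : K ≅ K') (hK : FFc.{w} K) : FFc.{w} K' :=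
  hK.of_retract e.inv e.hom e.inv_hom_id

instance : (FFc.{w} (D := D)).IsClosedUnderIsomorphisms := ⟨fun e h => h.of_iso e⟩

lemma FFc.of_isZero {K : D} (hK : IsZero K) : FFc.{w} K := fun m J X c hc θ =>
  ⟨∅, by rw [hK.eq_of_src θ 0, zero_comp]⟩

lemma FFc.shift {K : D} (hK : FFc.{w} K) (a : ℤ) : FFc.{w} (K⟦a⟧) := by
  intro m J X c hc θ
  let e := shiftFunctorAdd' D (m - a) a m (by omega)
  obtain ⟨θ', hθ'⟩ := (shiftFunctor D a).map_surjective (θ ≫ e.hom.app c.pt)
  obtain ⟨S, hS⟩ := hK (m - a) J X c hc θ'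
  refine ⟨S, ?_⟩
  have nat := e.hom.naturality (cS c hc S)
  simp only [Functor.comp_map] at nat
  rw [← cancel_mono (e.hom.app c.pt), Category.assoc, nat, ← Category.assoc, ← hθ',
    ← Functor.map_comp, hS, Functor.map_zero, zero_comp]

lemma FFc.ext (T : Triangle D) (hT : T ∈ distTriang D) (h₁ : FFc.{w} T.obj₁)
    (h₃ : FFc.{w} T.obj₃) : FFc.{w} T.obj₂ := by
  intro m J X c hc θ
  obtain ⟨S₁, hS₁⟩ := h₁ m J X c hc (T.mor₁ ≫ θ)
  rw [Category.assoc] at hS₁
  obtain ⟨θ', hθ'⟩ := Triangle.yoneda_exact₂ T hT (θ ≫ (cS c hc S₁)⟦m⟧') hS₁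
  obtain ⟨S₂, hS₂⟩ := h₃ m J X c hc θ'
  classical
  refine ⟨S₁ ∪ S₂, ?_⟩
  rw [← cS_comp_cS, Functor.map_comp, ← Category.assoc, hθ', Category.assoc, hS₂, comp_zero]

end FF

end Groth.Agent.Lib.Helper8.CptC
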