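import Mathlib
import Groth.Prelude.Def_Wider
import Groth.Agent.Lib.Helper8.FFc
import Groth.Agent.Lib.Helper1.DCompactSingle
import Groth.Agent.Lib.Helper8.Perf1

/-!
# Helper8 — DGen1: `R[0]` is compact in `D(R)` (relative to `Type u`-indexed coproducts)
-/

set_option autoImplicit false

universe u

open CategoryTheory CategoryTheory.Limits CategoryTheory.Pretriangulated DerivedCategory

attribute [local instance] HasDerivedCategory.standard

namespace Groth.Agent.Lib.Helper8.DGen

open Groth.Agent.Lib.Helper8.DSingleHom Groth.Agent.Lib.Helper1.DCompactSingle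
  Groth.Agent.Lib.Helper8.CptC

variable {R : Type u} [CommRing R]

/-- elements of a coproduct of modules have finite support -/
lemma moduleCat_finite_support {J : Type u} {Y : J → ModuleCat.{u} R} (c : Cofan Y)
    (hc : IsColimit c) (x : c.pt) :
    ∃ S : Finset J, ∀ {N : ModuleCat.{u} R} (g : c.pt ⟶ N),
      (∀ j ∈ S, c.inj j ≫ g = 0) → g.hom x = 0 := by
  classical
  let e : c.pt ≅ ModuleCat.of R (DirectSum J (fun j => Y j)) :=
    hc.coconePointUniqueUpToIso (ModuleCat.coproductCoconeIsColimit Y)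
  let x' : DirectSum J (fun j => Y j) := e.hom.hom x
  refine ⟨DFinsupp.support x', fun {N} g hg => ?_⟩
  have h1 : g.hom x = (e.inv ≫ g).hom x' := by
    change g.hom x = g.hom (e.inv.hom (e.hom.hom x))
    have : e.inv.hom (e.hom.hom x) = x := by
      have := congrArg (fun f => f.hom x) e.hom_inv_id
      exact this
    rw [this]
  have h2 : ∀ j ∈ DFinsupp.support x', ∀ y : Y j,
      (e.inv ≫ g).hom (DirectSum.lof R J (fun j => Y j) j y) = 0 := by
    intro j hj y
    have h3 : (ModuleCat.coproductCocone Y).inj j ≫ e.inv = c.inj j :=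
      IsColimit.comp_coconePointUniqueUpToIso_inv hc (ModuleCat.coproductCoconeIsColimit Y) ⟨j⟩
    have h4 : (ModuleCat.coproductCocone Y).inj j ≫ e.inv ≫ g = 0 := by
      rw [← Category.assoc, h3, hg j hj]
    exact congrArg (fun f => f.hom y) h4
  rw [h1, ← DirectSum.sum_support_of x', map_sum]
  refine Finset.sum_eq_zero (fun j hj => ?_)
  exact h2 j hj (x' j)

instance hasExactColimitsOfShape_discrete_moduleCat (J : Type u) :
    HasExactColimitsOfShape (Discrete J) (ModuleCat.{u} R) := by
  haveI : AB4OfSize.{u} (ModuleCat.{u} R) := by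
    have := Abelian.hasFiniteBiproducts (C := ModuleCat.{u} R)
    exact AB4.of_AB5 _
  infer_instance

/-- maps out of `R` are determined by the image of `1` -/
lemma hom_eq_zero_of_one {N : ModuleCat.{u} R} (t : ModuleCat.of R R ⟶ N)
    (h : t.hom (1 : R) = 0) : t = 0 := by
  ext
  simpa using h

/-- `R[0]` is compact -/
theorem ffc_Q_sg : FFc.{u} (Q.obj (sg (ModuleCat.of R R)) : Dual.D R) := by
  intro m J X c hc th
  let H : Dual.D R ⥤ ModuleCat.{u} R :=
    shiftFunctor (Dual.D R) m ⋙ homologyFunctor (ModuleCat.{u} R) 0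
  haveI : PreservesColimitsOfShape (Discrete J) (homologyFunctor (ModuleCat.{u} R) 0) :=
    preservesCoprod_homologyFunctor 0
  haveI : PreservesColimitsOfShape (Discrete J) H := by
    dsimp only [H]
    infer_instance
  let c' : Cofan (fun j => H.obj (X j)) := Cofan.mk (H.obj c.pt) (fun j => H.map (c.inj j))
  have hc' : IsColimit c' :=
    (isColimitMapCoconeCofanMkEquiv H X c.inj) (isColimitOfPreserves H
      (IsColimit.ofIsoColimit hc (Cofan.ext (Iso.refl _) (fun j => by simp [Cofan.inj]))))
  let t : ModuleCat.of R R ⟶ H.obj c.pt := DSingleHom.θ th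
  obtain ⟨S, hS⟩ := moduleCat_finite_support c' hc' (t.hom (1 : R))
  refine ⟨S, ?_⟩
  apply θ_injective (ModuleCat.of R R)
  rw [θ_zero, θ_comp]
  apply hom_eq_zero_of_one
  have h1 : ∀ j ∈ S, c'.inj j ≫ H.map (cS c hc S) = 0 := by
    intro j hj
    change H.map (c.inj j) ≫ H.map (cS c hc S) = 0
    rw [← H.map_comp, inj_cS, if_pos hj, H.map_zero]
  have h2 := hS (H.map (cS c hc S)) h1
  exact h2

theorem ffc_inD : FFc.{u} (Dual.inD R R) :=
  ffc_Q_sg.of_iso ((singleFunctorIsoCompQ (ModuleCat.{u} R) 0).app (ModuleCat.of R R)).symm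

/-- perfect objects are compact -/
theorem ffc_of_isPerfect (K : Dual.D R) (hK : DRing.IsPerfect R K) : FFc.{u} K :=
  Perf.perfect_mem FFc.{u} ffc_inD (fun T hT h1 h3 => FFc.ext T hT h1 h3)
    (fun X Y _ h => h.of_retract biprod.inl biprod.fst biprod.inl_fst)
    (fun K n h => h.shift n) K hK

end Groth.Agent.Lib.Helper8.DGen
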