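import Groth.Agent.Lib.Helper8.Compact2

universe w v u

set_option linter.unusedSectionVars false

open CategoryTheory CategoryTheory.Limits CategoryTheory.Pretriangulated

namespace Groth.Agent.Lib.Helper8.Compact

section CoprodW

variable {D : Type u} [Category.{v} D] [Preadditive D] {κ : Type w} (X : κ → D) [HasCoproduct X]

open Classical in
/-- The projector of `∐ X` killing the summands in `S` (any index universe). -/
noncomputable def cSw (S : Finset κ) : ∐ X ⟶ ∐ X :=
  Sigma.desc (fun j => if j ∈ S then 0 else Sigma.ι X j)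

open Classical in
/-- The projector of `∐ X` onto the summands in `S` (any index universe). -/
noncomputable def eSw (S : Finset κ) : ∐ X ⟶ ∐ X :=
  ∑ i ∈ S, Sigma.π X i ≫ Sigma.ι X i

open Classical in
@[reassoc]
lemma ι_cSw (S : Finset κ) (j : κ) :
    Sigma.ι X j ≫ cSw X S = if j ∈ S then 0 else Sigma.ι X j := by
  simp [cSw]

open Classical in
@[reassoc]
lemma ι_eSw (S : Finset κ) (j : κ) :
    Sigma.ι X j ≫ eSw X S = if j ∈ S then Sigma.ι X j else 0 := by
  unfold eSw
  rw [Preadditive.comp_sum]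
  split_ifs with h
  · rw [Finset.sum_eq_single j]
    · simp
    · intro b _ hb
      rw [Sigma.ι_π_of_ne_assoc X (Ne.symm hb), zero_comp]
    · intro hj; exact absurd h hj
  · apply Finset.sum_eq_zero
    intro b hb
    have : j ≠ b := fun e => h (e ▸ hb)
    rw [Sigma.ι_π_of_ne_assoc X this, zero_comp]

lemma eSw_add_cSw (S : Finset κ) : eSw X S + cSw X S = 𝟙 _ := by
  classical
  apply Sigma.hom_ext
  intro j
  rw [Preadditive.comp_add, ι_eSw, ι_cSw]
  split_ifs <;> simp

lemma eq_comp_eSw_of_comp_cSw_eq_zero {C : D} (θ : C ⟶ ∐ X) (S : Finset κ)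
    (h : θ ≫ cSw X S = 0) : θ ≫ eSw X S = θ := by
  have := congrArg (fun t => θ ≫ t) (eSw_add_cSw X S)
  simp only [Preadditive.comp_add, h, add_zero, Category.comp_id] at this
  exact this

lemma cSw_eq_cS {κ : Type v} (X : κ → D) [HasCoproduct X] (S : Finset κ) : cSw X S = cS X S := rfl

end CoprodW

section Transfer

variable {D : Type u} [Category.{v} D] [Preadditive D] [HasZeroObject D] [HasShift D ℤ]
  [∀ n : ℤ, (shiftFunctor D n).Additive] [Pretriangulated D] [HasCoproducts.{v} D]

lemma reindex_cSw {α' : Type v} {α : Type w} (e : α' ≃ α) (X : α → D) [HasCoproduct X]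
    (S' : Finset α') :
    cS (X ∘ e) S' ≫ (Sigma.reindex e X).hom =
      (Sigma.reindex e X).hom ≫ cSw X (S'.map e.toEmbedding) := by
  classical
  apply Sigma.hom_ext
  intro b
  rw [ι_cS_assoc, Sigma.ι_reindex_hom_assoc, ι_cSw]
  by_cases hb : b ∈ S'
  · have : e b ∈ S'.map e.toEmbedding := Finset.mem_map_of_mem _ hb
    simp [hb, this]
  · have : e b ∉ S'.map e.toEmbedding := by
      intro h
      rw [Finset.mem_map] at h
      obtain ⟨b', hb', hbb'⟩ := h
      exact hb (by simpa using (e.injective hbb') ▸ hb')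
    simp [hb, this]

/-- Finite support for maps from an `FF` object to a shifted coproduct indexed by a small type in
any universe. -/
lemma FF.finite_support {C : D} (hC : FF C) {α' : Type v} {α : Type w} (e : α' ≃ α)
    (X : α → D) [HasCoproduct X] (m : ℤ) (θ : C ⟶ (∐ X)⟦m⟧) :
    ∃ S : Finset α, θ ≫ (cSw X S)⟦m⟧' = 0 := by
  obtain ⟨S', hS'⟩ := hC m α' (X ∘ e) (θ ≫ ((Sigma.reindex e X).inv)⟦m⟧')
  refine ⟨S'.map e.toEmbedding, ?_⟩
  have h1 : cSw X (S'.map e.toEmbedding) =
      (Sigma.reindex e X).inv ≫ cS (X ∘ e) S' ≫ (Sigma.reindex e X).hom := by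
    rw [reindex_cSw, Iso.inv_hom_id_assoc]
  rw [h1, Functor.map_comp, Functor.map_comp, ← Category.assoc, ← Category.assoc, hS', zero_comp]

lemma FF.finite_support_unshifted {C : D} (hC : FF C) {α' : Type v} {α : Type w} (e : α' ≃ α)
    (X : α → D) [HasCoproduct X] (θ : C ⟶ ∐ X) :
    ∃ S : Finset α, θ ≫ cSw X S = 0 := by
  obtain ⟨S, hS⟩ := hC.finite_support e X 0 (θ ≫ (shiftFunctorZero D ℤ).inv.app _)
  refine ⟨S, ?_⟩
  have nat := (shiftFunctorZero D ℤ).inv.naturality (cSw X S)
  simp only [Functor.id_obj, Functor.id_map] at nat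
  have hS' : (θ ≫ cSw X S) ≫ (shiftFunctorZero D ℤ).inv.app (∐ X) = 0 := by
    rw [Category.assoc, nat, ← Category.assoc]; exact hS
  rw [← cancel_mono ((shiftFunctorZero D ℤ).inv.app (∐ X)), hS', zero_comp]

end Transfer

end Groth.Agent.Lib.Helper8.Compact
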