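import Groth.Agent.Lib.Helper8.CCpt1
import Groth.Agent.Lib.Helper8.Compact3
import Groth.Agent.Lib.Helper8.SeqColim

/-!
# Helper8 — CCpt2: maps from a countably compact object to a sequential homotopy colimit
-/

universe v u

open CategoryTheory CategoryTheory.Limits CategoryTheory.Pretriangulated

namespace Groth.Agent.Lib.Helper8.CCpt

open Compact SeqColim

variable {D : Type u} [Category.{v} D] [Preadditive D] [HasZeroObject D] [HasShift D ℤ]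
  [∀ n : ℤ, (shiftFunctor D n).Additive] [Pretriangulated D]

section Pi

variable (K : ℕ → D) (f : ∀ n, K n ⟶ K (n + 1)) [HasCoproduct K] {dec : DecidableEq ℕ}

omit [HasZeroObject D] [HasShift D ℤ] [∀ n : ℤ, (shiftFunctor D n).Additive] [Pretriangulated D] in
lemma shiftMap_π_zero : DerLim.shiftMap K f ≫ Sigma.π K 0 = 0 := by
  apply Sigma.hom_ext
  intro m
  simp only [DerLim.shiftMap, Sigma.ι_desc_assoc, Category.assoc, comp_zero]
  rw [Sigma.ι_π_of_ne K (Nat.succ_ne_zero m), comp_zero]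

omit [HasZeroObject D] [HasShift D ℤ] [∀ n : ℤ, (shiftFunctor D n).Additive] [Pretriangulated D] in
lemma shiftMap_π_succ (n : ℕ) :
    DerLim.shiftMap K f ≫ Sigma.π K (n + 1) = Sigma.π K n ≫ f n := by
  classical
  apply Sigma.hom_ext
  intro m
  simp only [DerLim.shiftMap, Sigma.ι_desc_assoc, Category.assoc]
  by_cases h : m = n
  · subst h
    rw [Sigma.ι_π_eq_id, Category.comp_id, Sigma.ι_π_eq_id_assoc]
  · have h' : m + 1 ≠ n + 1 := fun e => h (Nat.succ_injective e)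
    rw [Sigma.ι_π_of_ne K h', comp_zero, Sigma.ι_π_of_ne_assoc K h, zero_comp]

omit [HasZeroObject D] [HasShift D ℤ] [∀ n : ℤ, (shiftFunctor D n).Additive] [Pretriangulated D] in
lemma one_sub_shiftMap_π_zero :
    (𝟙 (∐ K) - DerLim.shiftMap K f) ≫ Sigma.π K 0 = Sigma.π K 0 := by
  rw [Preadditive.sub_comp, Category.id_comp, shiftMap_π_zero, sub_zero]

omit [HasZeroObject D] [HasShift D ℤ] [∀ n : ℤ, (shiftFunctor D n).Additive] [Pretriangulated D] in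
lemma one_sub_shiftMap_π_succ (n : ℕ) :
    (𝟙 (∐ K) - DerLim.shiftMap K f) ≫ Sigma.π K (n + 1) =
      Sigma.π K (n + 1) - Sigma.π K n ≫ f n := by
  rw [Preadditive.sub_comp, Category.id_comp, shiftMap_π_succ]

variable {K f}

lemma comp_π_eq_zero_of_comp_one_sub_shiftMap {C : D}
    (θ : C ⟶ (∐ K)⟦(1 : ℤ)⟧)
    (h0 : θ ≫ (𝟙 (∐ K) - DerLim.shiftMap K f)⟦(1 : ℤ)⟧' = 0) (n : ℕ) :
    θ ≫ (Sigma.π K n)⟦(1 : ℤ)⟧' = 0 := by
  induction n with
  | zero =>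
    rw [← one_sub_shiftMap_π_zero K f, Functor.map_comp, ← Category.assoc, h0, zero_comp]
  | succ n ih =>
    have h2 : (θ ≫ (𝟙 (∐ K) - DerLim.shiftMap K f)⟦(1 : ℤ)⟧') ≫ (Sigma.π K (n + 1))⟦(1 : ℤ)⟧' =
        θ ≫ (Sigma.π K (n + 1))⟦(1 : ℤ)⟧' - (θ ≫ (Sigma.π K n)⟦(1 : ℤ)⟧') ≫ (f n)⟦(1 : ℤ)⟧' := by
      rw [Category.assoc, ← Functor.map_comp, one_sub_shiftMap_π_succ, Functor.map_sub,
        Functor.map_comp, Preadditive.comp_sub, Category.assoc]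
    rw [h0, zero_comp, ih, zero_comp, sub_zero] at h2
    exact h2.symm

end Pi

section Main

variable (F : ℕ ⥤ D) [HasCoproduct F.obj] {C L : D}
  (H0 : ∀ x : C ⟶ ∐ F.obj, ∃ N : ℕ, ∀ {T : D} (g : ∐ F.obj ⟶ T),
    (∀ n, n < N → Sigma.ι F.obj n ≫ g = 0) → x ≫ g = 0)
  (H1 : ∀ x : C ⟶ (∐ F.obj)⟦(1 : ℤ)⟧, ∃ N : ℕ, ∀ {T : D} (g : (∐ F.obj)⟦(1 : ℤ)⟧ ⟶ T),
    (∀ n, n < N → (Sigma.ι F.obj n)⟦(1 : ℤ)⟧' ≫ g = 0) → x ≫ g = 0)
  (p : ∐ F.obj ⟶ L) (δ : L ⟶ (∐ F.obj)⟦(1 : ℤ)⟧)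
  (hT : Triangle.mk (𝟙 (∐ F.obj) - DerLim.shiftMap F.obj (fs F)) p δ ∈ distTriang D)

include H0 in
omit [HasZeroObject D] [HasShift D ℤ] [∀ n : ℤ, (shiftFunctor D n).Additive] [Pretriangulated D] in
lemma exists_eSw (x : C ⟶ ∐ F.obj) :
    ∃ N : ℕ, x ≫ eSw F.obj (Finset.range N) = x := by
  classical
  obtain ⟨N, hN⟩ := H0 x
  refine ⟨N, eq_comp_eSw_of_comp_cSw_eq_zero F.obj x _ (hN _ (fun n hn => ?_))⟩
  rw [ι_cSw, if_pos (Finset.mem_range.2 hn)]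

omit [HasZeroObject D] [HasShift D ℤ] [∀ n : ℤ, (shiftFunctor D n).Additive] [Pretriangulated D] in
lemma ι_p_w (hp : (𝟙 (∐ F.obj) - DerLim.shiftMap F.obj (fs F)) ≫ p = 0) {n m : ℕ} (h : n ≤ m) :
    F.map (homOfLE h) ≫ Sigma.ι F.obj m ≫ p = Sigma.ι F.obj n ≫ p := by
  induction m, h using Nat.le_induction with
  | base =>
    have : homOfLE (le_refl n) = 𝟙 n := rfl
    rw [this, F.map_id, Category.id_comp]
  | succ m hnm ih =>
    have h1 := congrArg (fun t => Sigma.ι F.obj m ≫ t) hp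
    simp only [Preadditive.sub_comp, Preadditive.comp_sub, Category.id_comp, comp_zero] at h1
    rw [reassoc_of% (ι_shiftMap F.obj (fs F) m), sub_eq_zero] at h1
    have h2 : homOfLE (hnm.trans (Nat.le_succ m)) = homOfLE hnm ≫ homOfLE (Nat.le_succ m) := rfl
    rw [h2, F.map_comp, Category.assoc, ← h1, ih]

include H0 H1 hT in
/-- every map to the homotopy colimit factors through a stage -/
theorem factors_through_stage (φ : C ⟶ L) :
    ∃ (n : ℕ) (ψ : C ⟶ F.obj n), ψ ≫ Sigma.ι F.obj n ≫ p = φ := by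
  classical
  have hp : (𝟙 (∐ F.obj) - DerLim.shiftMap F.obj (fs F)) ≫ p = 0 :=
    comp_distTriang_mor_zero₁₂ _ hT
  -- `φ ≫ δ = 0`
  have h0 : (φ ≫ δ) ≫ (𝟙 (∐ F.obj) - DerLim.shiftMap F.obj (fs F))⟦(1 : ℤ)⟧' = 0 := by
    have : δ ≫ (𝟙 (∐ F.obj) - DerLim.shiftMap F.obj (fs F))⟦(1 : ℤ)⟧' = 0 :=
      comp_distTriang_mor_zero₃₁ _ hT
    rw [Category.assoc, this, comp_zero]
  have hδ : φ ≫ δ = 0 := by
    obtain ⟨N, hN⟩ := H1 (φ ≫ δ)
    have h1 := hN ((cSw F.obj (Finset.range N))⟦(1 : ℤ)⟧') (fun n hn => by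
      rw [← Functor.map_comp, ι_cSw, if_pos (Finset.mem_range.2 hn), Functor.map_zero])
    have h2 : (φ ≫ δ) ≫ (eSw F.obj (Finset.range N))⟦(1 : ℤ)⟧' = 0 := by
      rw [eSw, Functor.map_sum, Preadditive.comp_sum]
      refine Finset.sum_eq_zero (fun n _ => ?_)
      rw [Functor.map_comp, ← Category.assoc,
        comp_π_eq_zero_of_comp_one_sub_shiftMap (φ ≫ δ) h0 n, zero_comp]
    have h3 : (eSw F.obj (Finset.range N))⟦(1 : ℤ)⟧' + (cSw F.obj (Finset.range N))⟦(1 : ℤ)⟧' =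
        𝟙 _ := by
      rw [← Functor.map_add, eSw_add_cSw]
      exact CategoryTheory.Functor.map_id _ _
    calc φ ≫ δ = (φ ≫ δ) ≫ ((eSw F.obj (Finset.range N))⟦(1 : ℤ)⟧' +
          (cSw F.obj (Finset.range N))⟦(1 : ℤ)⟧') := by rw [h3, Category.comp_id]
      _ = 0 := by rw [Preadditive.comp_add, h2, h1, add_zero]
  obtain ⟨φ', hφ'⟩ : ∃ φ' : C ⟶ ∐ F.obj, φ = φ' ≫ p := Triangle.coyoneda_exact₃ _ hT φ hδ
  obtain ⟨N, hN⟩ := exists_eSw F H0 φ'
  suffices h : ∃ ψ : C ⟶ F.obj N, ψ ≫ Sigma.ι F.obj N ≫ p = φ by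
    obtain ⟨ψ, hψ⟩ := h
    exact ⟨N, ψ, hψ⟩
  have hsum : φ = ∑ n ∈ Finset.range N, (φ' ≫ Sigma.π F.obj n) ≫ Sigma.ι F.obj n ≫ p := by
    rw [hφ']
    conv_lhs => rw [← hN]
    rw [eSw, Preadditive.comp_sum, Preadditive.sum_comp]
    refine Finset.sum_congr rfl (fun n _ => ?_)
    simp only [Category.assoc]
    congr!
  rw [hsum]
  apply Finset.sum_induction _ (fun φ : C ⟶ L => ∃ ψ : C ⟶ F.obj N, ψ ≫ Sigma.ι F.obj N ≫ p = φ)
  · rintro a b ⟨ψ₁, h₁⟩ ⟨ψ₂, h₂⟩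
    exact ⟨ψ₁ + ψ₂, by rw [Preadditive.add_comp, h₁, h₂]⟩
  · exact ⟨0, zero_comp⟩
  · intro n hn
    have hn' : n ≤ N := (Finset.mem_range.1 hn).le
    exact ⟨(φ' ≫ Sigma.π F.obj n) ≫ F.map (homOfLE hn'), by
      rw [Category.assoc, ι_p_w F p hp]⟩

include H0 hT in
/-- a map to a stage which vanishes in the homotopy colimit vanishes at a later stage -/
theorem eq_zero_at_stage (n : ℕ) (y : C ⟶ F.obj n) (hy : y ≫ Sigma.ι F.obj n ≫ p = 0) :
    ∃ (m : ℕ) (h : n ≤ m), y ≫ F.map (homOfLE h) = 0 := by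
  classical
  obtain ⟨z, hz⟩ : ∃ z : C ⟶ ∐ F.obj, y ≫ Sigma.ι F.obj n =
      z ≫ (𝟙 (∐ F.obj) - DerLim.shiftMap F.obj (fs F)) :=
    Triangle.coyoneda_exact₂ _ hT (y ≫ Sigma.ι F.obj n) (by rw [Category.assoc]; exact hy)
  obtain ⟨N, hN⟩ := exists_eSw F H0 z
  -- components of `z`
  have hzk : ∀ k, N ≤ k → z ≫ Sigma.π F.obj k = 0 := fun k hk => by
    rw [← hN, Category.assoc, eSw, Preadditive.sum_comp, Preadditive.comp_sum]
    refine Finset.sum_eq_zero (fun j hj => ?_)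
    have : j ≠ k := by
      have := Finset.mem_range.1 hj
      omega
    rw [Category.assoc, Sigma.ι_π_of_ne F.obj this, comp_zero, comp_zero]
  have hrec0 : z ≫ Sigma.π F.obj 0 = (y ≫ Sigma.ι F.obj n) ≫ Sigma.π F.obj 0 := by
    rw [hz, Category.assoc, one_sub_shiftMap_π_zero]
  have hrec : ∀ k, z ≫ Sigma.π F.obj (k + 1) =
      (z ≫ Sigma.π F.obj k) ≫ fs F k + (y ≫ Sigma.ι F.obj n) ≫ Sigma.π F.obj (k + 1) := by
    intro k
    have e1 : (y ≫ Sigma.ι F.obj n) ≫ Sigma.π F.obj (k + 1) =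
        z ≫ Sigma.π F.obj (k + 1) - (z ≫ Sigma.π F.obj k) ≫ fs F k := by
      rw [hz, Category.assoc, one_sub_shiftMap_π_succ, Preadditive.comp_sub, Category.assoc]
    rw [e1]
    abel
  have hlt : ∀ k, k < n → z ≫ Sigma.π F.obj k = 0 := by
    intro k
    induction k with
    | zero =>
      intro hk
      rw [hrec0, Category.assoc, Sigma.ι_π_of_ne F.obj (by omega : n ≠ 0), comp_zero]
    | succ k ih =>
      intro hk
      rw [hrec, ih (by omega), zero_comp, Category.assoc,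
        Sigma.ι_π_of_ne F.obj (by omega : n ≠ k + 1), comp_zero, add_zero]
  have hn : z ≫ Sigma.π F.obj n = y := by
    rcases Nat.eq_zero_or_pos n with h | h
    · subst h
      rw [hrec0, Category.assoc, Sigma.ι_π_eq_id, Category.comp_id]
    · obtain ⟨k, rfl⟩ : ∃ k, n = k + 1 := ⟨n - 1, by omega⟩
      rw [hrec, hlt k (by omega), zero_comp, zero_add, Category.assoc, Sigma.ι_π_eq_id,
        Category.comp_id]
  have hge : ∀ m (h : n ≤ m), z ≫ Sigma.π F.obj m = y ≫ F.map (homOfLE h) := by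
    intro m h
    induction m, h using Nat.le_induction with
    | base =>
      have : homOfLE (le_refl n) = 𝟙 n := rfl
      rw [this, F.map_id, Category.comp_id, hn]
    | succ m hnm ih =>
      have h2 : homOfLE (hnm.trans (Nat.le_succ m)) = homOfLE hnm ≫ homOfLE (Nat.le_succ m) := rfl
      have e1 : (y ≫ Sigma.ι F.obj n) ≫ Sigma.π F.obj (m + 1) = 0 := by
        rw [Category.assoc, Sigma.ι_π_of_ne F.obj (by omega : n ≠ m + 1), comp_zero]
      rw [hrec, ih, e1, add_zero, h2, F.map_comp, Category.assoc]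
  refine ⟨max n N, le_max_left _ _, ?_⟩
  rw [← hge, hzk _ (le_max_right _ _)]

end Main

end Groth.Agent.Lib.Helper8.CCpt
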