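import Mathlib
import Groth.Prelude.Def_DRing2
import Groth.Agent.Lib.Helper8.CCpt2
import Groth.Agent.Lib.Helper8.DCoprod3
import Groth.Agent.Lib.Helper8.SeqColim2

/-!
# Helper8 — HoColimMod: maps from a countably compact object of `D(R)` to a termwise sequential
colimit of complexes (S7014)
-/

set_option autoImplicit false

open CategoryTheory CategoryTheory.Limits CategoryTheory.Pretriangulated DerivedCategory

namespace Groth.Agent.Lib.Helper8.HoColimMod

open SeqColim CCpt DCoprod3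

universe u

attribute [local instance] HasDerivedCategory.standard

variable {R : Type u} [CommRing R]

instance hasExactColimitsOfShape_nat_moduleCat :
    HasExactColimitsOfShape ℕ (ModuleCat.{u} R) := by
  haveI : AB5OfSize.{0, 0} (ModuleCat.{u} R) := AB5OfSize_of_univLE.{0, 0, u, u} _
  infer_instance

section SES

variable (L : ℕ ⥤ DRing.Cx R) (c : Cocone L) (hc : IsColimit c)

/-- `1 - shift` on the coproduct of the complexes -/
noncomputable abbrev σ : ∐ L.obj ⟶ ∐ L.obj := 𝟙 (∐ L.obj) - DerLim.shiftMap L.obj (fs L)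

/-- the canonical map from the coproduct to the colimit -/
noncomputable abbrev π : ∐ L.obj ⟶ c.pt := Sigma.desc (fun n => c.ι.app n)

instance mono_σ : Mono (σ L) := by
  apply HomologicalComplex.mono_of_mono_f
  intro i
  let ev := HomologicalComplex.eval (ModuleCat.{u} R) (ComplexShape.up ℤ) i
  have hci : IsColimit (Cofan.mk (ev.obj (∐ L.obj)) (fun n => ev.map (Sigma.ι L.obj n)) :
      Cofan (fun n => ev.obj (L.obj n))) :=
    isColimitCofanMkObjOfIsColimit ev _ _ (coproductIsCoproduct L.obj)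
  refine mono_of_isColimit_cofan (K := fun n => ev.obj (L.obj n)) (fun n => ev.map (fs L n)) _ hci
    ((σ L).f i) (fun n => ?_)
  change (Sigma.ι L.obj n).f i ≫ (σ L).f i = (Sigma.ι L.obj n).f i -
    (fs L n).f i ≫ (Sigma.ι L.obj (n + 1)).f i
  rw [← HomologicalComplex.comp_f, ← HomologicalComplex.comp_f, ← HomologicalComplex.sub_f_apply,
    Preadditive.comp_sub, Category.comp_id, ι_shiftMap]

/-- the short exact sequence `0 → ⊕ Lₙ → ⊕ Lₙ → colim Lₙ → 0` -/
noncomputable def ses : ShortComplex (DRing.Cx R) :=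
  ShortComplex.mk (σ L) (π L c) (w_cocone L c)

include hc in
lemma ses_shortExact : (ses L c).ShortExact where
  exact := ShortComplex.exact_of_g_is_cokernel _ (isColimitCokernelCofork L c hc)
  mono_f := mono_σ L
  epi_g := epi_of_isColimit_cofork (isColimitCokernelCofork L c hc)

end SES

section Derived

variable (L : ℕ ⥤ DRing.Cx R) (c : Cocone L) (hc : IsColimit c)

instance hasExactColimitsOfShape_discrete_nat_moduleCat :
    HasExactColimitsOfShape (Discrete ℕ) (ModuleCat.{u} R) := by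
  infer_instance

/-- the sequence in `D(R)` -/
noncomputable abbrev FQ : ℕ ⥤ Dual.D R := L ⋙ DerivedCategory.Q

instance hasCoproduct_FQ : HasCoproduct (FQ L).obj :=
  ⟨⟨⟨cofanQ L.obj, isColimitCofanQ L.obj⟩⟩⟩

/-- comparison of the coproduct in `D(R)` with the image of the coproduct of complexes -/
noncomputable def eQ : ∐ (FQ L).obj ≅ DerivedCategory.Q.obj (∐ L.obj) :=
  IsColimit.coconePointUniqueUpToIso (coproductIsCoproduct (FQ L).obj) (isColimitCofanQ L.obj)

@[reassoc]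
lemma ι_eQ_hom (n : ℕ) :
    Sigma.ι (FQ L).obj n ≫ (eQ L).hom = DerivedCategory.Q.map (Sigma.ι L.obj n) :=
  IsColimit.comp_coconePointUniqueUpToIso_hom (coproductIsCoproduct (FQ L).obj)
    (isColimitCofanQ L.obj) ⟨n⟩

lemma eQ_hom_σ :
    (eQ L).hom ≫ DerivedCategory.Q.map (σ L) =
      (𝟙 (∐ (FQ L).obj) - DerLim.shiftMap (FQ L).obj (fs (FQ L))) ≫ (eQ L).hom := by
  apply Sigma.hom_ext
  intro n
  rw [ι_eQ_hom_assoc, ← Functor.map_comp, Preadditive.comp_sub, Category.comp_id, ι_shiftMap,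
    Preadditive.sub_comp, Preadditive.comp_sub, Category.id_comp,
    reassoc_of% (ι_shiftMap (FQ L).obj (fs (FQ L)) n), ι_eQ_hom, ι_eQ_hom,
    Functor.map_sub, Functor.map_comp]

/-- the projection to the colimit, in `D(R)` -/
noncomputable def pQ : ∐ (FQ L).obj ⟶ DerivedCategory.Q.obj c.pt :=
  (eQ L).hom ≫ DerivedCategory.Q.map (π L c)

lemma ι_pQ (n : ℕ) : Sigma.ι (FQ L).obj n ≫ pQ L c = DerivedCategory.Q.map (c.ι.app n) := by
  rw [pQ, ι_eQ_hom_assoc, ← Functor.map_comp, Sigma.ι_desc]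

/-- the connecting map -/
noncomputable def δQ : DerivedCategory.Q.obj c.pt ⟶ (∐ (FQ L).obj)⟦(1 : ℤ)⟧ :=
  DerivedCategory.triangleOfSESδ (ses_shortExact L c hc) ≫ (eQ L).inv⟦(1 : ℤ)⟧'

lemma distinguished :
    Triangle.mk (𝟙 (∐ (FQ L).obj) - DerLim.shiftMap (FQ L).obj (fs (FQ L))) (pQ L c) (δQ L c hc) ∈
      distTriang (Dual.D R) := by
  refine isomorphic_distinguished _
    (DerivedCategory.triangleOfSES_distinguished (ses_shortExact L c hc)) _ ?_
  refine Triangle.isoMk _ _ (eQ L) (eQ L) (Iso.refl _) ?_ ?_ ?_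
  · exact (eQ_hom_σ L).symm
  · exact Category.comp_id _
  · have e1 : (eQ L).inv⟦(1 : ℤ)⟧' ≫ (eQ L).hom⟦(1 : ℤ)⟧' = 𝟙 _ := by
      rw [← Functor.map_comp, Iso.inv_hom_id, CategoryTheory.Functor.map_id]
    have h : δQ L c hc ≫ (eQ L).hom⟦(1 : ℤ)⟧' =
        DerivedCategory.triangleOfSESδ (ses_shortExact L c hc) :=
      (Category.assoc _ _ _).trans
        ((congrArg (fun t => DerivedCategory.triangleOfSESδ (ses_shortExact L c hc) ≫ t) e1).trans
          (Category.comp_id _))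
    exact h.trans (Category.id_comp _).symm

include hc in
theorem main (K : Dual.D R) (hK : IsCC K) :
    (∀ x : K ⟶ DRing.toD c.pt, ∃ (n : ℕ) (y : K ⟶ DRing.toD (L.obj n)),
        y ≫ DerivedCategory.Q.map (c.ι.app n) = x) ∧
      (∀ (n : ℕ) (y : K ⟶ DRing.toD (L.obj n)), y ≫ DerivedCategory.Q.map (c.ι.app n) = 0 →
        ∃ (m : ℕ) (h : n ≤ m), y ≫ DerivedCategory.Q.map (L.map (homOfLE h)) = 0) := by
  have H0 : ∀ x : K ⟶ ∐ (FQ L).obj, ∃ N : ℕ, ∀ {T : Dual.D R} (g : ∐ (FQ L).obj ⟶ T),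
      (∀ n, n < N → Sigma.ι (FQ L).obj n ≫ g = 0) → x ≫ g = 0 := fun x =>
    finite_support hK (Cofan.mk (∐ (FQ L).obj) (Sigma.ι (FQ L).obj))
      (coproductIsCoproduct (FQ L).obj) x
  have H1 : ∀ x : K ⟶ (∐ (FQ L).obj)⟦(1 : ℤ)⟧, ∃ N : ℕ,
      ∀ {T : Dual.D R} (g : (∐ (FQ L).obj)⟦(1 : ℤ)⟧ ⟶ T),
      (∀ n, n < N → (Sigma.ι (FQ L).obj n)⟦(1 : ℤ)⟧' ≫ g = 0) → x ≫ g = 0 := fun x =>
    finite_support hK (Cofan.mk ((∐ (FQ L).obj)⟦(1 : ℤ)⟧)
        (fun n => (Sigma.ι (FQ L).obj n)⟦(1 : ℤ)⟧'))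
      (isColimitCofanMkObjOfIsColimit (shiftFunctor (Dual.D R) (1 : ℤ)) _ _
        (coproductIsCoproduct (FQ L).obj)) x
  constructor
  · intro x
    obtain ⟨n, ψ, hψ⟩ := factors_through_stage (FQ L) H0 H1 (pQ L c) (δQ L c hc)
      (distinguished L c hc) x
    exact ⟨n, ψ, by rw [← ι_pQ L c n]; exact hψ⟩
  · intro n y hy
    exact eq_zero_at_stage (FQ L) H0 (pQ L c) (δQ L c hc) (distinguished L c hc) n y
      (by rw [ι_pQ L c n]; exact hy)

end Derived

end Groth.Agent.Lib.Helper8.HoColimMod
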