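import Mathlib
import Groth.Prelude.Def_Wider
import Groth.Agent.Lib.Helper8.DGen1
import Groth.Agent.Lib.Helper8.DGen2
import Groth.Agent.Lib.Helper8.HoColimMod
import Groth.Agent.Lib.Helper8.Stupid1
import Groth.Agent.Lib.Helper16.KF8

/-!
# Helper8 — DGen3: `D(R)` is generated by `R[0]` as a localizing subcategory
-/

set_option autoImplicit false

universe u

open CategoryTheory CategoryTheory.Limits CategoryTheory.Pretriangulated DerivedCategory

attribute [local instance] HasDerivedCategory.standard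

namespace Groth.Agent.Lib.Helper8.DGen

open Groth.Agent.Lib.Helper8.DSingleHom Groth.Agent.Lib.Helper8.DCoprod3
  Groth.Agent.Lib.Helper16.KPR Groth.Agent.Lib.Helper16.KF Groth.Agent.Lib.Helper16

variable {R : Type u} [CommRing R]

/-- a localizing class of objects of `D(R)` containing `R[0]` -/
structure IsLocalizing (𝒦 : ObjectProperty (Dual.D R)) : Prop where
  iso : ∀ {X Y : Dual.D R} (_ : X ≅ Y), 𝒦 X → 𝒦 Y
  unit : 𝒦 (Q.obj (sg (ModuleCat.of R R)))
  shift : ∀ (K : Dual.D R) (n : ℤ), 𝒦 K → 𝒦 (K⟦n⟧)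
  ext : ∀ T ∈ distTriang (Dual.D R), 𝒦 T.obj₁ → 𝒦 T.obj₃ → 𝒦 T.obj₂
  retract : ∀ {X Y : Dual.D R} (i : X ⟶ Y) (r : Y ⟶ X), i ≫ r = 𝟙 X → 𝒦 Y → 𝒦 X
  coprod : ∀ (J : Type u) (X : J → Dual.D R) (c : Cofan X), IsColimit c → (∀ j, 𝒦 (X j)) → 𝒦 c.pt

namespace IsLocalizing

variable {𝒦 : ObjectProperty (Dual.D R)} (h : IsLocalizing 𝒦)

include h

lemma cone (T : Triangle (Dual.D R)) (hT : T ∈ distTriang (Dual.D R)) (h1 : 𝒦 T.obj₁)
    (h2 : 𝒦 T.obj₂) : 𝒦 T.obj₃ :=
  h.ext T.rotate (rot_of_distTriang _ hT) h2 (h.shift _ 1 h1)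

lemma zero (Z : Dual.D R) (hZ : IsZero Z) : 𝒦 Z :=
  h.retract (0 : Z ⟶ Q.obj (sg (ModuleCat.of R R))) 0 (hZ.eq_of_src _ _) h.unit

lemma coprodNat (E : ℕ → Dual.D R) (c : Cofan E) (hc : IsColimit c) (hE : ∀ n, 𝒦 (E n)) :
    𝒦 c.pt := by
  let c' : Cofan (fun i : ULift.{u} ℕ => E i.down) := Cofan.mk c.pt (fun i => c.inj i.down)
  have hc' : IsColimit c' :=
    Cofan.IsColimit.mk _ (fun s => Cofan.IsColimit.desc hc (fun n => s.inj ⟨n⟩))
      (fun s i => by
        change c.inj i.down ≫ _ = _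
        rw [Cofan.IsColimit.fac])
      (fun s m hm => Cofan.IsColimit.hom_ext hc _ _ (fun n => by
        rw [Cofan.IsColimit.fac]
        exact hm ⟨n⟩))
  exact h.coprod _ _ c' hc' (fun i => hE i.down)

lemma free (J : Type u) : 𝒦 (Q.obj (sg (∐ (fun _ : J => ModuleCat.of R R)))) := by
  let S := HomologicalComplex.single (ModuleCat.{u} R) (ComplexShape.up ℤ) 0
  let e : sg (∐ (fun _ : J => ModuleCat.of R R)) ≅ ∐ (fun _ : J => sg (ModuleCat.of R R)) :=
    PreservesCoproduct.iso S (fun _ : J => ModuleCat.of R R)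
  refine h.iso (Q.mapIso e).symm ?_
  exact h.coprod J _ (cofanQ (fun _ : J => sg (ModuleCat.of R R))) (isColimitCofanQ _)
    (fun _ => h.unit)

lemma projective (M : ModuleCat.{u} R) [Projective M] : 𝒦 (Q.obj (sg M)) := by
  let F : ModuleCat.{u} R := ∐ (fun _ : M => ModuleCat.of R R)
  let r : F ⟶ M := Sigma.desc (fun m => ModuleCat.ofHom (LinearMap.toSpanSingleton R M m))
  haveI : Epi r := by
    rw [ModuleCat.epi_iff_surjective]
    intro m
    refine ⟨(Sigma.ι (fun _ : M => ModuleCat.of R R) m).hom (1 : R), ?_⟩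
    have h1 : Sigma.ι (fun _ : M => ModuleCat.of R R) m ≫ r =
        ModuleCat.ofHom (LinearMap.toSpanSingleton R M m) := Sigma.ι_desc _ _
    have h2 := congrArg (fun f => f.hom (1 : R)) h1
    simpa using h2
  let i : M ⟶ F := Projective.factorThru (𝟙 M) r
  have hi : i ≫ r = 𝟙 M := Projective.factorThru_comp _ _
  refine h.retract (Q.map (sgMap i)) (Q.map (sgMap r)) ?_ (h.free M)
  rw [← Q.map_comp, ← Functor.map_comp, hi, CategoryTheory.Functor.map_id,
    CategoryTheory.Functor.map_id]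

lemma single (M : ModuleCat.{u} R) [Projective M] (i : ℤ) :
    𝒦 ((singleFunctor (ModuleCat.{u} R) i).obj M) := by
  have h0 : 𝒦 ((singleFunctor (ModuleCat.{u} R) 0).obj M) :=
    h.iso ((singleFunctorIsoCompQ (ModuleCat.{u} R) 0).app M).symm (h.projective M)
  exact h.iso (((singleFunctors (ModuleCat.{u} R)).shiftIso (-i) i 0 (by omega)).app M)
    (h.shift _ (-i) h0)

lemma bounded (n : ℕ) (K : DRing.Cx R) (a : ℤ)
    (hK : ∀ i : ℤ, i < a ∨ a + n ≤ i → IsZero (K.X i)) (hP : ∀ i, Projective (K.X i)) :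
    𝒦 (Q.obj K) := by
  haveI : 𝒦.IsClosedUnderIsomorphisms := ⟨fun e hX => h.iso e hX⟩
  exact Stupid.induction_bounded 𝒦 h.ext h.zero n K a hK (fun i => h.single (K.X i) i)

lemma boundedAbove (P : DRing.Cx R) (b : ℤ) (hb : ∀ i : ℤ, b < i → IsZero (P.X i))
    (hP : ∀ i, Projective (P.X i)) : 𝒦 (Q.obj P) := by
  let L : ℕ ⥤ DRing.Cx R := geTSeq P ⋙ SubCx.toCx P
  let c : Cocone L := SubCx.cocone (geTSeq P)
  have hc : IsColimit c := isColimitCoconeGeT P
  have hT := HoColimMod.distinguished L c hc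
  have hL : ∀ k : ℕ, 𝒦 ((HoColimMod.FQ L).obj k) := by
    intro k
    change 𝒦 (Q.obj (SubCx.geT P (-(k : ℤ))).cx)
    refine h.bounded (b + 1 + k).toNat _ (-(k : ℤ)) (fun i hi => ?_) (fun i => ?_)
    · rcases hi with hi | hi
      · exact SubCx.isZero_cx_X _ i (SubCx.geT_S_of_lt P _ i hi)
      · refine SubCx.isZero_cx_X' _ i (hb i ?_)
        have := Int.self_le_toNat (b + 1 + k)
        omega
    · rcases SubCx.geT_S P (-(k : ℤ)) i with h1 | h1
      · haveI := SubCx.isIso_ι_f (SubCx.geT P (-(k : ℤ))) i h1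
        haveI := hP i
        exact Projective.of_iso (asIso ((SubCx.geT P (-(k : ℤ))).ι.f i)).symm inferInstance
      · have hz := SubCx.isZero_cx_X (SubCx.geT P (-(k : ℤ))) i h1
        exact Projective.of_iso hz.isoZero.symm inferInstance
  have h1 : 𝒦 (∐ (HoColimMod.FQ L).obj) :=
    h.coprodNat _ _ (coproductIsCoproduct (HoColimMod.FQ L).obj) hL
  exact h.cone _ hT h1 h1

theorem all (K : Dual.D R) : 𝒦 K := by
  obtain ⟨P, φ, hb, hp, ⟨e⟩⟩ := exists_tel K
  obtain ⟨c, hc⟩ := isHocolim_tel P φ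
  have hP : ∀ n, 𝒦 (Q.obj (P n)) := fun n => h.boundedAbove (P n) n (hb n) (hp n)
  have h1 : 𝒦 (∐ fun n => Q.obj (P n)) :=
    h.coprodNat _ _ (coproductIsCoproduct (fun n => Q.obj (P n))) hP
  exact h.iso e (h.cone _ hc h1 h1)

end IsLocalizing

end Groth.Agent.Lib.Helper8.DGen
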