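import Mathlib
import Groth.Prelude.Def_DTen3

/-!
# Helper8 — DTenA: basic calculus for the derived tensor product bifunctor; the Yoneda form of
`evalTen`
-/

set_option autoImplicit false

universe u

open CategoryTheory CategoryTheory.Limits MonoidalCategory

attribute [local instance] HasDerivedCategory.standard

namespace Groth.Agent.Lib.Helper8.DTenA

open DTen

variable {A : Type u} [CommRing A] [HasLTen A]

/-- `K ⊗^L L` -/
noncomputable abbrev tp (K L : Dual.D A) : Dual.D A := (LTen₂ A).obj (K, L)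

/-- `f ⊗^L g` -/
noncomputable abbrev tm {K K' L L' : Dual.D A} (f : K ⟶ K') (g : L ⟶ L') : tp K L ⟶ tp K' L' :=
  (LTen₂ A).map (Prod.mkHom f g)

lemma tm_id (K L : Dual.D A) : tm (𝟙 K) (𝟙 L) = 𝟙 (tp K L) :=
  (LTen₂ A).map_id (K, L)

@[reassoc]
lemma tm_comp {K K' K'' L L' L'' : Dual.D A} (f : K ⟶ K') (f' : K' ⟶ K'') (g : L ⟶ L')
    (g' : L' ⟶ L'') : tm (f ≫ f') (g ≫ g') = tm f g ≫ tm f' g' :=
  (LTen₂ A).map_comp (X := (K, L)) (Y := (K', L')) (Z := (K'', L''))
    (Prod.mkHom f g) (Prod.mkHom f' g')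

@[reassoc]
lemma tm_comp_left {K K' K'' L : Dual.D A} (f : K ⟶ K') (f' : K' ⟶ K'') :
    tm (f ≫ f') (𝟙 L) = tm f (𝟙 L) ≫ tm f' (𝟙 L) := by
  rw [← tm_comp, Category.comp_id]

@[reassoc]
lemma tm_comp_right {K L L' L'' : Dual.D A} (g : L ⟶ L') (g' : L' ⟶ L'') :
    tm (𝟙 K) (g ≫ g') = tm (𝟙 K) g ≫ tm (𝟙 K) g' := by
  rw [← tm_comp, Category.comp_id]

@[reassoc]
lemma tm_exchange {K K' L L' : Dual.D A} (f : K ⟶ K') (g : L ⟶ L') :
    tm f (𝟙 L) ≫ tm (𝟙 K') g = tm (𝟙 K) g ≫ tm f (𝟙 L') := by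
  rw [← tm_comp, ← tm_comp, Category.comp_id, Category.id_comp, Category.comp_id,
    Category.id_comp]

instance isIso_tm {K K' L L' : Dual.D A} (f : K ⟶ K') (g : L ⟶ L') [IsIso f] [IsIso g] :
    IsIso (tm f g) := by
  haveI : IsIso (Prod.mkHom f g : ((K, L) : Dual.D A × Dual.D A) ⟶ (K', L')) :=
    (isIso_prod_iff (f := (Prod.mkHom f g : ((K, L) : Dual.D A × Dual.D A) ⟶ (K', L')))).2
      ⟨inferInstanceAs (IsIso f), inferInstanceAs (IsIso g)⟩
  exact Functor.map_isIso _ _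

variable [HasLTen₃ A] [IsSymMonoidal A]

/-- the associator as a natural isomorphism -/
noncomputable def assocIso : LTenL A ≅ LTenR A :=
  asIso (assocL A) ≪≫ (asIso (assocR A)).symm

lemma associator_eq (a b c : Dual.D A) : DTen.associator a b c = assocIso.app (a, (b, c)) := by
  rfl

@[reassoc]
lemma associator_naturality {a a' b b' c c' : Dual.D A} (f : a ⟶ a') (g : b ⟶ b') (h : c ⟶ c') :
    tm (tm f g) h ≫ (DTen.associator a' b' c').hom = (DTen.associator a b c).hom ≫ tm f (tm g h) := by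
  rw [associator_eq, associator_eq]
  exact assocIso.hom.naturality
    (X := (a, (b, c))) (Y := (a', (b', c'))) (Prod.mkHom f (Prod.mkHom g h))

variable [HasRHom A]

/-- the Yoneda form of `evalTen` -/
noncomputable def Φ (K L M T : Dual.D A) (g : T ⟶ tp K ((RHomR A M).obj L)) : tp T M ⟶ tp K L :=
  tm g (𝟙 M) ≫ evalTenAux K L M

lemma comp_evalTen (K L M T : Dual.D A) (g : T ⟶ tp K ((RHomR A M).obj L)) :
    g ≫ evalTen K L M = rhomHomEquiv T M (tp K L) (Φ K L M T g) := by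
  rw [evalTen, Φ]
  exact ((rhomAdj A M).homEquiv_naturality_left g (evalTenAux K L M)).symm

lemma isIso_evalTen_iff (K L M : Dual.D A) :
    IsIso (evalTen K L M) ↔ ∀ T : Dual.D A, Function.Bijective (Φ K L M T) := by
  rw [isIso_iff_yoneda_map_bijective]
  refine forall_congr' (fun T => ?_)
  have h : (fun g : T ⟶ tp K ((RHomR A M).obj L) => g ≫ evalTen K L M) =
      (rhomHomEquiv T M (tp K L)) ∘ (Φ K L M T) := by
    funext g
    exact comp_evalTen K L M T g
  rw [h]
  exact ⟨fun hb => by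
    have := (Equiv.bijective (rhomHomEquiv T M (tp K L)).symm).comp hb
    simpa [Function.comp_def] using this, fun hb => (Equiv.bijective _).comp hb⟩

lemma Φ_naturality {K K' : Dual.D A} (k : K ⟶ K') (L M T : Dual.D A)
    (g : T ⟶ tp K ((RHomR A M).obj L)) :
    Φ K' L M T (g ≫ tm k (𝟙 _)) = Φ K L M T g ≫ tm k (𝟙 L) := by
  simp only [Φ, evalTenAux, Category.assoc]
  rw [tm_comp_left, Category.assoc, associator_naturality_assoc, ← tm_comp, ← tm_comp, tm_id,
    Category.comp_id, Category.id_comp, Category.id_comp, Category.comp_id]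

end Groth.Agent.Lib.Helper8.DTenA
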