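import Mathlib
import Groth.Prelude.Def_DTen3
import Groth.Agent.Lib.Helper8.DTenA
import Groth.Agent.Lib.Helper16.LTM2
import Groth.Agent.Lib.Helper16.KF9
import Groth.Agent.Lib.Helper16.KF10

/-!
# Helper8 — DTenB: `- ⊗^L X` sends distinguished triangles to exact sequences of Hom groups
-/

set_option autoImplicit false

universe u

open CategoryTheory CategoryTheory.Limits CategoryTheory.Pretriangulated MonoidalCategory
  DerivedCategory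

attribute [local instance] HasDerivedCategory.standard

namespace Groth.Agent.Lib.Helper8.DTenA

open DTen Groth.Agent.Lib.Helper16.KF

variable {A : Type u} [CommRing A] [HasLTen A]

/-- the counit, with explicit source and target -/
noncomputable def εc (Y E : DRing.Cx A) : tp (Q.obj Y) (Q.obj E) ⟶ Q.obj (Y ⊗ E) := (ε A).app (Y, E)

lemma isIso_εc (Y E : DRing.Cx A) (h : DRing.IsKFlat A Y ∨ DRing.IsKFlat A E) : IsIso (εc Y E) :=
  isIso_ε_app_of_isKFlat Y E h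

/-- naturality of the counit in the first variable -/
@[reassoc]
lemma εc_naturality_left {Y Y' : DRing.Cx A} (f : Y ⟶ Y') (E : DRing.Cx A) :
    tm (Q.map f) (𝟙 (Q.obj E)) ≫ εc Y' E = εc Y E ≫ Q.map (f ▷ E) := by
  have e := (ε A).naturality (X := (Y, E)) (Y := (Y', E)) (Prod.mkHom f (𝟙 E))
  dsimp at e
  simp only [MonoidalCategory.whiskerLeft_id, Category.comp_id] at e
  rw [εc, εc, ← e]
  congr 2
  exact (Q.map_id E).symm

/-- naturality of the counit in the second variable -/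
@[reassoc]
lemma εc_naturality_right (Y : DRing.Cx A) {E E' : DRing.Cx A} (f : E ⟶ E') :
    tm (𝟙 (Q.obj Y)) (Q.map f) ≫ εc Y E' = εc Y E ≫ Q.map (Y ◁ f) := by
  have e := (ε A).naturality (X := (Y, E)) (Y := (Y, E')) (Prod.mkHom (𝟙 Y) f)
  dsimp at e
  simp only [MonoidalCategory.id_whiskerRight, Category.id_comp] at e
  rw [εc, εc, ← e]
  congr 2
  exact (Q.map_id Y).symm

/-- the third map of the standard triangle, with explicit source and target -/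
noncomputable def δc {K K' : DRing.Cx A} (φ : K ⟶ K') :
    CochainComplex.mappingCone φ ⟶ K⟦(1 : ℤ)⟧ := (CochainComplex.mappingCone.triangle φ).mor₃

/-- exactness for the standard triangle and a K-flat representative -/
lemma exact_std {K K' : DRing.Cx A} (φ : K ⟶ K') (E : DRing.Cx A) (hE : DRing.IsKFlat A E)
    {T' : Dual.D A} (h : T' ⟶ tp (Q.obj (CochainComplex.mappingCone φ)) (Q.obj E))
    (hh : h ≫ tm (Q.map (δc φ)) (𝟙 (Q.obj E)) = 0) :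
    ∃ h' : T' ⟶ tp (Q.obj K') (Q.obj E),
      h = h' ≫ tm (Q.map (CochainComplex.mappingCone.inr φ)) (𝟙 (Q.obj E)) := by
  have hS := shortExact_whiskerRight_of_split
    (degreewiseSplit_triangleRotateShortComplex φ) E
  have hT := DerivedCategory.triangleOfSES_distinguished hS
  haveI := isIso_εc K' E (Or.inr hE)
  haveI := isIso_εc (CochainComplex.mappingCone φ) E (Or.inr hE)
  have h1 : (h ≫ εc (CochainComplex.mappingCone φ) E) ≫ Q.map (δc φ ▷ E) = 0 := by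
    rw [Category.assoc, ← εc_naturality_left, reassoc_of% hh, zero_comp]
  obtain ⟨h₁', hh₁'⟩ : ∃ h₁' : T' ⟶ Q.obj (K' ⊗ E),
      h ≫ εc (CochainComplex.mappingCone φ) E =
        h₁' ≫ Q.map (CochainComplex.mappingCone.inr φ ▷ E) :=
    Triangle.coyoneda_exact₂ _ hT _ h1
  refine ⟨h₁' ≫ inv (εc K' E), ?_⟩
  rw [← cancel_mono (εc (CochainComplex.mappingCone φ) E), Category.assoc, Category.assoc,
    εc_naturality_left, IsIso.inv_hom_id_assoc]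
  exact hh₁'

omit [HasLTen A] in
lemma exists_data_aux (T : Triangle (Dual.D A)) (T₀ : Triangle (DRing.Cx A))
    (e : T ≅ Q.mapTriangle.obj T₀) :
    ∃ (a₂ : T.obj₂ ≅ Q.obj T₀.obj₂) (a₃ : T.obj₃ ≅ Q.obj T₀.obj₃)
      (r : Q.obj (T₀.obj₁⟦(1 : ℤ)⟧) ≅ T.obj₁⟦(1 : ℤ)⟧),
      T.mor₂ ≫ a₃.hom = a₂.hom ≫ Q.map T₀.mor₂ ∧
      a₃.hom ≫ Q.map T₀.mor₃ ≫ r.hom = T.mor₃ := by
  obtain ⟨f₁, g₁, f₂, g₂, f₃, g₃, i1, i1', i2, i2', i3, i3', c2, c3⟩ :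
      ∃ (f₁ : T.obj₁ ⟶ Q.obj T₀.obj₁) (g₁ : Q.obj T₀.obj₁ ⟶ T.obj₁)
        (f₂ : T.obj₂ ⟶ Q.obj T₀.obj₂) (g₂ : Q.obj T₀.obj₂ ⟶ T.obj₂)
        (f₃ : T.obj₃ ⟶ Q.obj T₀.obj₃) (g₃ : Q.obj T₀.obj₃ ⟶ T.obj₃),
        f₁ ≫ g₁ = 𝟙 _ ∧ g₁ ≫ f₁ = 𝟙 _ ∧ f₂ ≫ g₂ = 𝟙 _ ∧ g₂ ≫ f₂ = 𝟙 _ ∧
        f₃ ≫ g₃ = 𝟙 _ ∧ g₃ ≫ f₃ = 𝟙 _ ∧ T.mor₂ ≫ f₃ = f₂ ≫ Q.map T₀.mor₂ ∧
        T.mor₃ ≫ f₁⟦(1 : ℤ)⟧' = f₃ ≫ Q.map T₀.mor₃ ≫ (Q.commShiftIso (1 : ℤ)).hom.app T₀.obj₁ := by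
    refine ⟨e.hom.hom₁, e.inv.hom₁, e.hom.hom₂, e.inv.hom₂, e.hom.hom₃, e.inv.hom₃, ?_, ?_, ?_, ?_,
      ?_, ?_, e.hom.comm₂, e.hom.comm₃⟩
    · exact congrArg TriangleMorphism.hom₁ e.hom_inv_id
    · exact congrArg TriangleMorphism.hom₁ e.inv_hom_id
    · exact congrArg TriangleMorphism.hom₂ e.hom_inv_id
    · exact congrArg TriangleMorphism.hom₂ e.inv_hom_id
    · exact congrArg TriangleMorphism.hom₃ e.hom_inv_id
    · exact congrArg TriangleMorphism.hom₃ e.inv_hom_id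
  refine ⟨⟨f₂, g₂, i2, i2'⟩, ⟨f₃, g₃, i3, i3'⟩, (Q.commShiftIso (1 : ℤ)).app T₀.obj₁ ≪≫
      (shiftFunctor _ (1 : ℤ)).mapIso (⟨f₁, g₁, i1, i1'⟩ : T.obj₁ ≅ Q.obj T₀.obj₁).symm, c2, ?_⟩
  dsimp
  rw [← reassoc_of% c3, ← Functor.map_comp, i1, CategoryTheory.Functor.map_id, Category.comp_id]

omit [HasLTen A] in
/-- a distinguished triangle is isomorphic to a standard one; the data we need -/
lemma exists_std_data (T : Triangle (Dual.D A)) (hT : T ∈ distTriang (Dual.D A)) :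
    ∃ (K K' : DRing.Cx A) (φ : K ⟶ K') (a₂ : T.obj₂ ≅ Q.obj K')
      (a₃ : T.obj₃ ≅ Q.obj (CochainComplex.mappingCone φ))
      (r : Q.obj (K⟦(1 : ℤ)⟧) ≅ T.obj₁⟦(1 : ℤ)⟧),
      T.mor₂ ≫ a₃.hom = a₂.hom ≫ Q.map (CochainComplex.mappingCone.inr φ) ∧
      a₃.hom ≫ Q.map (δc φ) ≫ r.hom = T.mor₃ := by
  obtain ⟨K, K', φ, ⟨e⟩⟩ := (DerivedCategory.mem_distTriang_iff T).1 hT
  obtain ⟨a₂, a₃, r, h1, h2⟩ := exists_data_aux T _ e
  exact ⟨K, K', φ, a₂, a₃, r, h1, h2⟩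

/-- `- ⊗^L X` sends distinguished triangles to exact sequences (at the third object) -/
theorem exact_tensor (X : Dual.D A) (T : Triangle (Dual.D A)) (hT : T ∈ distTriang (Dual.D A))
    {T' : Dual.D A} (h : T' ⟶ tp T.obj₃ X) (hh : h ≫ tm T.mor₃ (𝟙 X) = 0) :
    ∃ h' : T' ⟶ tp T.obj₂ X, h = h' ≫ tm T.mor₂ (𝟙 X) := by
  obtain ⟨E, -, -, hE, ⟨eX⟩⟩ := exists_kprojective_kflat X
  obtain ⟨K, K', φ, a₂, a₃, r, c2, c3⟩ := exists_std_data T hT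
  have c2' : Q.map (CochainComplex.mappingCone.inr φ) ≫ a₃.inv = a₂.inv ≫ T.mor₂ := by
    rw [← cancel_mono a₃.hom, Category.assoc, Category.assoc, Iso.inv_hom_id, Category.comp_id, c2,
      Iso.inv_hom_id_assoc]
  obtain ⟨h'', hh''⟩ := exact_std φ E hE (h ≫ tm a₃.hom eX.inv) (by
    rw [← cancel_mono (tm r.hom eX.hom), zero_comp, Category.assoc, Category.assoc, ← tm_comp,
      ← tm_comp, Category.id_comp, Iso.inv_hom_id, c3]
    exact hh)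
  refine ⟨h'' ≫ tm a₂.inv eX.hom, ?_⟩
  have h1 : h = (h ≫ tm a₃.hom eX.inv) ≫ tm a₃.inv eX.hom := by
    rw [Category.assoc, ← tm_comp, Iso.hom_inv_id, Iso.inv_hom_id, tm_id, Category.comp_id]
  rw [h1, hh'', Category.assoc, Category.assoc, ← tm_comp, ← tm_comp, c2', Category.id_comp,
    Category.comp_id]

end Groth.Agent.Lib.Helper8.DTenA
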