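import Mathlib
import Groth.Prelude.Def_DTen3
import Groth.Agent.Lib.Helper8.DTenA

/-!
# Helper8 — DTenC: `evalTen S L M` is an isomorphism when `S ⊗^L -` is an equivalence
-/

set_option autoImplicit false

universe u

open CategoryTheory CategoryTheory.Limits MonoidalCategory

attribute [local instance] HasDerivedCategory.standard

namespace Groth.Agent.Lib.Helper8.DTenA

open DTen

variable {A : Type u} [CommRing A] [HasLTen A] [HasLTen₃ A] [IsSymMonoidal A] [HasRHom A]

section Base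

variable (S : Dual.D A) (Sg : Dual.D A ⥤ Dual.D A) [Sg.IsEquivalence]
  (lam : (LTen A).obj S ≅ Sg)

/-- the components of `lam` -/
noncomputable def lamY (Y : Dual.D A) : tp S Y ≅ Sg.obj Y := lam.app Y

@[reassoc]
lemma lamY_naturality {Y Y' : Dual.D A} (f : Y ⟶ Y') :
    tm (𝟙 S) f ≫ (lamY S Sg lam Y').hom = (lamY S Sg lam Y).hom ≫ Sg.map f :=
  lam.hom.naturality f

@[reassoc]
lemma lamY_inv_naturality {Y Y' : Dual.D A} (f : Y ⟶ Y') :
    Sg.map f ≫ (lamY S Sg lam Y').inv = (lamY S Sg lam Y).inv ≫ tm (𝟙 S) f :=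
  lam.inv.naturality f

/-- the induced commutation of `Sg` with `- ⊗^L M` -/
noncomputable def θ (Y M : Dual.D A) : tp (Sg.obj Y) M ⟶ Sg.obj (tp Y M) :=
  tm (lamY S Sg lam Y).inv (𝟙 M) ≫ (DTen.associator S Y M).hom ≫ (lamY S Sg lam (tp Y M)).hom

instance (Y M : Dual.D A) : IsIso (θ S Sg lam Y M) := by
  unfold θ
  infer_instance

@[reassoc]
lemma θ_naturality {Y Y' : Dual.D A} (f : Y ⟶ Y') (M : Dual.D A) :
    tm (Sg.map f) (𝟙 M) ≫ θ S Sg lam Y' M = θ S Sg lam Y M ≫ Sg.map (tm f (𝟙 M)) := by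
  unfold θ
  rw [← tm_comp_assoc, lamY_inv_naturality, Category.comp_id, ← Category.id_comp (𝟙 M), tm_comp_assoc,
    Category.id_comp, associator_naturality_assoc, lamY_naturality, Category.assoc, Category.assoc]

lemma Φ_comp_lam (L M T : Dual.D A) (g : T ⟶ tp S ((RHomR A M).obj L)) :
    Φ S L M T g ≫ (lamY S Sg lam L).hom =
      tm (g ≫ (lamY S Sg lam _).hom) (𝟙 M) ≫ θ S Sg lam _ M ≫ Sg.map (ev M L) := by
  unfold Φ evalTenAux θ
  rw [Category.assoc, Category.assoc, lamY_naturality, tm_comp_left]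
  simp only [Category.assoc]
  rw [← tm_comp_left_assoc (lamY S Sg lam _).hom, Iso.hom_inv_id, tm_id, Category.id_comp]

include lam in
theorem bijective_Φ_of_equiv (L M T : Dual.D A) : Function.Bijective (Φ S L M T) := by
  let X := (RHomR A M).obj L
  let T₀ := Sg.objPreimage T
  let u : T ≅ Sg.obj T₀ := (Sg.objObjPreimageIso T).symm
  let w : tp T M ⟶ Sg.obj (tp T₀ M) := tm u.hom (𝟙 M) ≫ θ S Sg lam T₀ M
  haveI : IsIso w := by
    dsimp only [w]
    infer_instance
  let γ : (T₀ ⟶ X) → (T ⟶ tp S X) := fun h₀ => u.hom ≫ Sg.map h₀ ≫ (lamY S Sg lam X).inv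
  let β : (T₀ ⟶ X) → (tp T M ⟶ tp S L) := fun h₀ =>
    w ≫ Sg.map (tm h₀ (𝟙 M) ≫ ev M L) ≫ (lamY S Sg lam L).inv
  have hγ : Function.Bijective γ := by
    constructor
    · intro a b hab
      dsimp only [γ] at hab
      rw [cancel_epi, cancel_mono] at hab
      exact Sg.map_injective hab
    · intro g
      obtain ⟨h₀, hh₀⟩ := Sg.map_surjective (u.inv ≫ g ≫ (lamY S Sg lam X).hom)
      exact ⟨h₀, by dsimp only [γ]; rw [hh₀]; simp⟩
  have hβ : Function.Bijective β := by
    constructor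
    · intro a b hab
      dsimp only [β] at hab
      rw [cancel_epi, cancel_mono] at hab
      have h1 := Sg.map_injective hab
      have h2 : (rhomHomEquiv T₀ M L).symm a = (rhomHomEquiv T₀ M L).symm b := by
        rw [rhomHomEquiv, Adjunction.homEquiv_counit, Adjunction.homEquiv_counit]
        exact h1
      exact (rhomHomEquiv T₀ M L).symm.injective h2
    · intro k
      obtain ⟨k₀, hk₀⟩ := Sg.map_surjective (inv w ≫ k ≫ (lamY S Sg lam L).hom)
      refine ⟨rhomHomEquiv T₀ M L k₀, ?_⟩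
      have h1 : tm (rhomHomEquiv T₀ M L k₀) (𝟙 M) ≫ ev M L = k₀ := by
        have := (rhomHomEquiv T₀ M L).symm_apply_apply k₀
        rw [rhomHomEquiv, Adjunction.homEquiv_counit] at this
        exact this
      dsimp only [β]
      rw [h1, hk₀]
      simp
  have hΦ : (Φ S L M T) ∘ γ = β := by
    funext h₀
    dsimp only [Function.comp, γ, β, w]
    rw [← cancel_mono (lamY S Sg lam L).hom, Φ_comp_lam]
    simp only [Category.assoc, Iso.inv_hom_id, Category.comp_id]
    have e1 : (lamY S Sg lam X).inv ≫ (lamY S Sg lam ((RHomR A M).obj L)).hom = 𝟙 _ :=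
      Iso.inv_hom_id _
    rw [e1, Category.comp_id, tm_comp_left_assoc, θ_naturality_assoc, Functor.map_comp]
  exact (Function.Bijective.of_comp_iff (Φ S L M T) hγ).1 (by rw [hΦ]; exact hβ)

include lam in
theorem isIso_evalTen_of_equiv (L M : Dual.D A) : IsIso (evalTen S L M) :=
  (isIso_evalTen_iff S L M).2 (fun T => bijective_Φ_of_equiv S Sg lam L M T)

end Base

end Groth.Agent.Lib.Helper8.DTenA
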