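import Mathlib
import Groth.Prelude.Def_DTen3
import Groth.Agent.Lib.Helper8.DTenC
import Groth.Agent.Lib.Helper8.DTenB

/-!
# Helper8 — DTenD: `A[n] ⊗^L - ≅ [n]` and `evalTen (A[n]) L M` is an isomorphism
-/

set_option autoImplicit false

universe u

open CategoryTheory CategoryTheory.Limits CategoryTheory.Pretriangulated MonoidalCategory
  DerivedCategory

attribute [local instance] HasDerivedCategory.standard

namespace Groth.Agent.Lib.Helper8.DTenA

open DTen Groth.Agent.Lib.Helper16.KF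

variable {A : Type u} [CommRing A]

/-- naturality of `tensorShiftLeftIso` in the second variable -/
lemma tensorShiftLeftIso_naturality (L : DRing.Cx A) {E E' : DRing.Cx A} (g : E ⟶ E') (n : ℤ) :
    ((L⟦n⟧) ◁ g) ≫ (tensorShiftLeftIso L E' n).hom =
      (tensorShiftLeftIso L E n).hom ≫ (L ◁ g)⟦n⟧' := by
  have h := NatTrans.shift_app_comm
    (((curriedTensor (ModuleCat.{u} A)).map₂CochainComplex).flip.map g) n L
  exact h.symm

/-- `A[n] ⊗ - ≅ [n]` on complexes -/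
noncomputable def unitShiftIso (n : ℤ) :
    tensorLeft ((𝟙_ (DRing.Cx A))⟦n⟧) ≅ shiftFunctor (DRing.Cx A) n :=
  NatIso.ofComponents
    (fun E => tensorShiftLeftIso (𝟙_ (DRing.Cx A)) E n ≪≫ (shiftFunctor _ n).mapIso (λ_ E))
    (fun {E E'} g => by
      dsimp
      rw [reassoc_of% (tensorShiftLeftIso_naturality (𝟙_ (DRing.Cx A)) g n), Category.assoc,
        ← Functor.map_comp, ← Functor.map_comp, MonoidalCategory.leftUnitor_naturality])

lemma isKFlat_unit : DRing.IsKFlat A (𝟙_ (DRing.Cx A)) := fun M hM i =>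
  IsZero.of_iso (hM i) ((HomologicalComplex.homologyFunctor _ _ i).mapIso (ρ_ M))

lemma isKFlat_unitShift (n : ℤ) : DRing.IsKFlat A ((𝟙_ (DRing.Cx A))⟦n⟧) :=
  isKFlat_shift isKFlat_unit n

variable [HasLTen A]

/-- `S_n := Q(A[n])` -/
noncomputable abbrev Sn (n : ℤ) : Dual.D A := Q.obj ((𝟙_ (DRing.Cx A))⟦n⟧)

instance isIso_εLeft_unitShift (n : ℤ) : IsIso (εLeft A ((𝟙_ (DRing.Cx A))⟦n⟧)) := by
  haveI : ∀ E, IsIso ((εLeft A ((𝟙_ (DRing.Cx A))⟦n⟧)).app E) := fun E =>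
    isIso_ε_app_of_isKFlat _ E (Or.inl (isKFlat_unitShift n))
  exact NatIso.isIso_of_isIso_app _

/-- `A[n] ⊗^L Q(-) ≅ Q(-)[n]` -/
noncomputable def lamSn₀ (n : ℤ) :
    Q ⋙ (LTen A).obj (Sn (A := A) n) ≅ Q ⋙ shiftFunctor (Dual.D A) n :=
  asIso (εLeft A ((𝟙_ (DRing.Cx A))⟦n⟧)) ≪≫ Functor.isoWhiskerRight (unitShiftIso n) Q ≪≫
    Q.commShiftIso n

/-- `A[n] ⊗^L - ≅ [n]` -/
noncomputable def lamSn (n : ℤ) : (LTen A).obj (Sn (A := A) n) ≅ shiftFunctor (Dual.D A) n :=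
  Localization.liftNatIso Q (qis A) (Q ⋙ (LTen A).obj (Sn (A := A) n))
    (Q ⋙ shiftFunctor (Dual.D A) n) _ _ (lamSn₀ n)

variable [HasLTen₃ A] [IsSymMonoidal A] [HasRHom A]

theorem isIso_evalTen_Sn (n : ℤ) (L M : Dual.D A) : IsIso (evalTen (Sn (A := A) n) L M) :=
  isIso_evalTen_of_equiv (Sn n) (shiftFunctor (Dual.D A) n) (lamSn n) L M

end Groth.Agent.Lib.Helper8.DTenA
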