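import Mathlib
import Groth.Prelude.Def_DTen3
import Groth.Agent.Lib.Helper8.DTenD
import Groth.Agent.Lib.Helper8.Perf1

/-!
# Helper8 — DTenE: `evalTen K L M` is an isomorphism for `K` perfect (dévissage)
-/

set_option autoImplicit false

universe u

open CategoryTheory CategoryTheory.Limits CategoryTheory.Pretriangulated MonoidalCategory
  DerivedCategory

attribute [local instance] HasDerivedCategory.standard

namespace Groth.Agent.Lib.Helper8.DTenA

open DTen Groth.Agent.Lib.Helper16.KF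

variable {A : Type u} [CommRing A] [HasLTen A] [HasRHom A]

instance additive_tensorRightD (X : Dual.D A) : (tensorRightD A X).Additive := by
  haveI : PreservesColimitsOfSize.{0, 0} (tensorRightD A X) :=
    (rhomAdj A X).leftAdjoint_preservesColimits
  haveI : PreservesBinaryBiproducts (tensorRightD A X) :=
    preservesBinaryBiproducts_of_preservesBinaryCoproducts _
  exact Functor.additive_of_preservesBinaryBiproducts _

lemma tm_zero_left (K K' X : Dual.D A) : tm (0 : K ⟶ K') (𝟙 X) = 0 :=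
  (tensorRightD A X).map_zero K K'

lemma tm_add_left {K K' : Dual.D A} (f g : K ⟶ K') (X : Dual.D A) :
    tm (f + g) (𝟙 X) = tm f (𝟙 X) + tm g (𝟙 X) :=
  (tensorRightD A X).map_add

/-- exactness at the middle term -/
lemma exact₂ (X : Dual.D A) (T : Triangle (Dual.D A)) (hT : T ∈ distTriang (Dual.D A))
    (T' : Dual.D A) :
    Function.Exact (Preadditive.rightComp T' (tm T.mor₁ (𝟙 X)))
      (Preadditive.rightComp T' (tm T.mor₂ (𝟙 X))) := by
  intro h
  constructor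
  · intro hh
    have hh1 : h ≫ tm T.mor₂ (𝟙 X) = 0 := hh
    have hh2 : h ≫ tm T.invRotate.mor₃ (𝟙 X) = 0 := by
      change h ≫ tm (T.mor₂ ≫ (shiftEquiv (Dual.D A) (1 : ℤ)).counitIso.inv.app T.obj₃) (𝟙 X) = 0
      rw [tm_comp_left, reassoc_of% hh1, zero_comp]
    obtain ⟨h', hh'⟩ := exact_tensor X T.invRotate (inv_rot_of_distTriang _ hT) (T' := T') h hh2
    exact ⟨h', hh'.symm⟩
  · rintro ⟨h', rfl⟩
    change (h' ≫ tm T.mor₁ (𝟙 X)) ≫ tm T.mor₂ (𝟙 X) = 0
    rw [Category.assoc, ← tm_comp_left, comp_distTriang_mor_zero₁₂ _ hT, tm_zero_left, comp_zero]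

variable [HasLTen₃ A] [IsSymMonoidal A]

lemma Φ_add (K L M T : Dual.D A) (g g' : T ⟶ tp K ((RHomR A M).obj L)) :
    Φ K L M T (g + g') = Φ K L M T g + Φ K L M T g' := by
  simp only [Φ, tm_add_left, Preadditive.add_comp]

/-- `Φ` as an additive map -/
noncomputable def ΦHom (K L M T : Dual.D A) :
    (T ⟶ tp K ((RHomR A M).obj L)) →+ (tp T M ⟶ tp K L) :=
  AddMonoidHom.mk' (Φ K L M T) (Φ_add K L M T)

/-- the objects `K` for which `evalTen K L M` is an isomorphism for all `L`, `M` -/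
def Good (K : Dual.D A) : Prop := ∀ L M T : Dual.D A, Function.Bijective (Φ K L M T)

lemma good_iff (K : Dual.D A) : Good K ↔ ∀ L M : Dual.D A, IsIso (evalTen K L M) :=
  ⟨fun h L M => (isIso_evalTen_iff K L M).2 (h L M),
    fun h L M => (isIso_evalTen_iff K L M).1 (h L M)⟩

lemma Good.of_retract {K K' : Dual.D A} (i : K ⟶ K') (p : K' ⟶ K) (hip : i ≫ p = 𝟙 K)
    (h : Good K') : Good K := by
  intro L M T
  have hip' : ∀ X : Dual.D A, tm i (𝟙 X) ≫ tm p (𝟙 X) = 𝟙 _ := fun X => by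
    rw [← tm_comp_left, hip, tm_id]
  constructor
  · intro g g' hgg
    have h1 : g ≫ tm i (𝟙 _) = g' ≫ tm i (𝟙 _) := by
      apply (h L M T).1
      rw [Φ_naturality, Φ_naturality, hgg]
    have h2 := congrArg (fun x => x ≫ tm p (𝟙 _)) h1
    simpa only [Category.assoc, hip', Category.comp_id] using h2
  · intro k
    obtain ⟨g', hg'⟩ := (h L M T).2 (k ≫ tm i (𝟙 L))
    refine ⟨g' ≫ tm p (𝟙 _), ?_⟩
    rw [Φ_naturality, hg', Category.assoc, hip', Category.comp_id]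

lemma Good.of_iso {K K' : Dual.D A} (e : K ≅ K') (h : Good K) : Good K' :=
  h.of_retract e.inv e.hom e.inv_hom_id

lemma good_Sn (n : ℤ) : Good (Sn (A := A) n) := fun L M T =>
  bijective_Φ_of_equiv (Sn n) (shiftFunctor (Dual.D A) n) (lamSn n) L M T

lemma Good.of_triangle (T : Triangle (Dual.D A)) (hT : T ∈ distTriang (Dual.D A))
    (h₁ : Good T.obj₁) (h₃ : Good T.obj₃) (h₁' : Good (T.obj₁⟦(1 : ℤ)⟧))
    (h₃' : Good (T.obj₃⟦(-1 : ℤ)⟧)) : Good T.obj₂ := by
  intro L M T'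
  let X := (RHomR A M).obj L
  have hc : ∀ {K K' : Dual.D A} (k : K ⟶ K'),
      (Preadditive.rightComp (tp T' M) (tm k (𝟙 L))).comp (ΦHom K L M T') =
        (ΦHom K' L M T').comp (Preadditive.rightComp T' (tm k (𝟙 X))) := by
    intro K K' k
    ext g
    exact (Φ_naturality k L M T' g).symm
  exact AddMonoidHom.bijective_of_surjective_of_bijective_of_bijective_of_injective
    (Preadditive.rightComp T' (tm T.invRotate.mor₁ (𝟙 X)))
    (Preadditive.rightComp T' (tm T.mor₁ (𝟙 X)))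
    (Preadditive.rightComp T' (tm T.mor₂ (𝟙 X)))
    (Preadditive.rightComp T' (tm T.mor₃ (𝟙 X)))
    (Preadditive.rightComp (tp T' M) (tm T.invRotate.mor₁ (𝟙 L)))
    (Preadditive.rightComp (tp T' M) (tm T.mor₁ (𝟙 L)))
    (Preadditive.rightComp (tp T' M) (tm T.mor₂ (𝟙 L)))
    (Preadditive.rightComp (tp T' M) (tm T.mor₃ (𝟙 L)))
    (ΦHom (T.obj₃⟦(-1 : ℤ)⟧) L M T') (ΦHom T.obj₁ L M T') (ΦHom T.obj₂ L M T')
    (ΦHom T.obj₃ L M T') (ΦHom (T.obj₁⟦(1 : ℤ)⟧) L M T')
    (hc _) (hc _) (hc _) (hc _)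
    (exact₂ X T.invRotate (inv_rot_of_distTriang _ hT) T')
    (exact₂ X T hT T')
    (exact₂ X T.rotate (rot_of_distTriang _ hT) T')
    (exact₂ L T.invRotate (inv_rot_of_distTriang _ hT) (tp T' M))
    (exact₂ L T hT (tp T' M))
    (exact₂ L T.rotate (rot_of_distTriang _ hT) (tp T' M))
    (h₃' L M T').2 (h₁ L M T') (h₃ L M T') (h₁' L M T').1

/-- stable version of `Good` -/
def PP : ObjectProperty (Dual.D A) := fun K => ∀ n : ℤ, Good (K⟦n⟧)

instance : (PP (A := A)).IsClosedUnderIsomorphisms :=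
  ⟨fun e h n => (h n).of_iso ((shiftFunctor _ n).mapIso e)⟩

lemma pp_unit : PP (Dual.inD A A) := fun n =>
  (good_Sn n).of_iso ((Q.commShiftIso n).app (𝟙_ (DRing.Cx A)) ≪≫
    (shiftFunctor _ n).mapIso
      ((singleFunctorIsoCompQ (ModuleCat.{u} A) 0).app (ModuleCat.of A A)).symm)

lemma pp_ext (T : Triangle (Dual.D A)) (hT : T ∈ distTriang (Dual.D A))
    (h₁ : PP T.obj₁) (h₃ : PP T.obj₃) : PP T.obj₂ := fun n =>
  Good.of_triangle ((Triangle.shiftFunctor _ n).obj T) (Triangle.shift_distinguished _ hT n)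
    (h₁ n) (h₃ n)
    ((h₁ (n + 1)).of_iso ((shiftFunctorAdd' _ n 1 (n + 1) rfl).app T.obj₁))
    ((h₃ (n + (-1))).of_iso ((shiftFunctorAdd' _ n (-1) (n + (-1)) rfl).app T.obj₃))

lemma pp_sum (X Y : Dual.D A) [HasBinaryBiproduct X Y] (h : PP (X ⊞ Y)) : PP X := fun n =>
  (h n).of_retract ((biprod.inl : X ⟶ X ⊞ Y)⟦n⟧') ((biprod.fst : X ⊞ Y ⟶ X)⟦n⟧') (by
    rw [← Functor.map_comp, biprod.inl_fst, CategoryTheory.Functor.map_id])

lemma pp_shift (K : Dual.D A) (m : ℤ) (h : PP K) : PP (K⟦m⟧) := fun n =>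
  (h (m + n)).of_iso ((shiftFunctorAdd' _ m n (m + n) rfl).app K)

theorem isIso_evalTen_of_isPerfect (K L M : Dual.D A) (hK : DRing.IsPerfect A K) :
    IsIso (evalTen K L M) := by
  have h := Perf.perfect_mem (PP (A := A)) pp_unit pp_ext (fun X Y _ => pp_sum X Y)
    (fun K n => pp_shift K n) K hK
  have h0 : Good K := (h 0).of_iso ((shiftFunctorZero _ ℤ).app K)
  exact (good_iff K).1 h0 L M

end Groth.Agent.Lib.Helper8.DTenA
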