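import Mathlib
import Groth.Prelude.Def_DTen3
import Groth.Agent.Lib.Helper8.DTenE
import Groth.Agent.Lib.Helper8.DGen3

/-!
# Helper8 — DTenF: `evalTen K L M` is an isomorphism for `M` perfect (dévissage on `K` over the
whole of `D(A)`, using that `D(A)` is generated by `A[0]` as a localizing subcategory)
-/

set_option autoImplicit false

universe u

open CategoryTheory CategoryTheory.Limits CategoryTheory.Pretriangulated MonoidalCategory
  DerivedCategory

attribute [local instance] HasDerivedCategory.standard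

namespace Groth.Agent.Lib.Helper8.DTenA

open DTen Groth.Agent.Lib.Helper16.KF Groth.Agent.Lib.Helper8.DSingleHom
  Groth.Agent.Lib.Helper1.DCompactSingle Groth.Agent.Lib.Helper8.CptC Groth.Agent.Lib.Helper8.DGen

section IsoDetect

variable {A : Type u} [CommRing A]

lemma bijective_shift_of_bijective' {S₀ X Y : Dual.D A} (f : X ⟶ Y) (n : ℤ)
    (h : Function.Bijective (fun g : S₀⟦-n⟧ ⟶ X => g ≫ f)) :
    Function.Bijective (fun g : S₀ ⟶ X⟦n⟧ => g ≫ f⟦n⟧') := by
  let adjS : shiftFunctor (Dual.D A) (-n) ⊣ shiftFunctor (Dual.D A) n :=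
    (shiftEquiv' (Dual.D A) (-n) n (by omega)).toAdjunction
  have : (fun g : S₀ ⟶ X⟦n⟧ => g ≫ f⟦n⟧') =
      (adjS.homEquiv S₀ Y) ∘ (fun g : S₀⟦-n⟧ ⟶ X => g ≫ f) ∘ (adjS.homEquiv S₀ X).symm := by
    funext g
    dsimp
    rw [adjS.homEquiv_naturality_right, Equiv.apply_symm_apply]
  rw [this]
  exact (adjS.homEquiv S₀ Y).bijective.comp (h.comp (adjS.homEquiv S₀ X).symm.bijective)

/-- maps out of `A` into a module correspond to elements -/
lemma ofHom_toSpanSingleton_eq {N : ModuleCat.{u} A} (t : ModuleCat.of A A ⟶ N) :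
    t = ModuleCat.ofHom (LinearMap.toSpanSingleton A N (t.hom (1 : A))) := by
  ext
  simp

lemma isIso_of_bijective_unit_shift {X Y : Dual.D A} (f : X ⟶ Y)
    (hf : ∀ m : ℤ, Function.Bijective
      (fun g : (Q.obj (sg (ModuleCat.of A A)) : Dual.D A) ⟶ X⟦m⟧ => g ≫ f⟦m⟧')) : IsIso f := by
  rw [DerivedCategory.isIso_iff]
  intro m
  let e := (homologyFunctor (ModuleCat.{u} A) 0).shiftIso m 0 m (by simp)
  suffices hs : IsIso ((homologyFunctor (ModuleCat.{u} A) 0).map (f⟦m⟧')) by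
    have h1 : IsIso ((shiftFunctor (Dual.D A) m ⋙
        (homologyFunctor (ModuleCat.{u} A) 0).shift (0 : ℤ)).map f) := hs
    exact (NatIso.isIso_map_iff e f).1 h1
  set φ := (homologyFunctor (ModuleCat.{u} A) 0).map (f⟦m⟧') with hφ
  rw [ConcreteCategory.isIso_iff_bijective]
  constructor
  · intro x x' hxx
    obtain ⟨g, hg⟩ := θ_surjective (ModuleCat.of A A) _
      (ModuleCat.ofHom (LinearMap.toSpanSingleton A _ x))
    obtain ⟨g', hg'⟩ := θ_surjective (ModuleCat.of A A) _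
      (ModuleCat.ofHom (LinearMap.toSpanSingleton A _ x'))
    have h1 : DSingleHom.θ (g ≫ f⟦m⟧') = DSingleHom.θ (g' ≫ f⟦m⟧') := by
      rw [DSingleHom.θ_comp, DSingleHom.θ_comp, hg, hg', ofHom_toSpanSingleton_eq (_ ≫ φ),
        ofHom_toSpanSingleton_eq (ModuleCat.ofHom (LinearMap.toSpanSingleton A _ x') ≫ φ)]
      congr 2
      simpa using hxx
    have h2 := (hf m).1 (θ_injective (ModuleCat.of A A) _ h1)
    have h3 : ModuleCat.ofHom (LinearMap.toSpanSingleton A _ x) =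
        ModuleCat.ofHom (LinearMap.toSpanSingleton A _ x') := by rw [← hg, ← hg', h2]
    have h4 := congrArg (fun t => t.hom (1 : A)) h3
    simpa using h4
  · intro y
    obtain ⟨g', hg'⟩ := θ_surjective (ModuleCat.of A A) _
      (ModuleCat.ofHom (LinearMap.toSpanSingleton A _ y))
    obtain ⟨g, hg⟩ := (hf m).2 g'
    refine ⟨(DSingleHom.θ g).hom (1 : A), ?_⟩
    have h1 : DSingleHom.θ g ≫ φ = ModuleCat.ofHom (LinearMap.toSpanSingleton A _ y) := by
      rw [← DSingleHom.θ_comp, ← hg']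
      congr 1
    have h2 := congrArg (fun t => t.hom (1 : A)) h1
    simpa using h2

/-- `A[n] ≅ A[0][n]` -/
noncomputable def snIso (n : ℤ) :
    Sn (A := A) n ≅ (Q.obj (sg (ModuleCat.of A A)) : Dual.D A)⟦n⟧ :=
  (Q.commShiftIso n).app (𝟙_ (DRing.Cx A))

lemma isIso_of_bijective_Sn {X Y : Dual.D A} (f : X ⟶ Y)
    (hf : ∀ n : ℤ, Function.Bijective (fun g : Sn (A := A) n ⟶ X => g ≫ f)) : IsIso f := by
  apply isIso_of_bijective_unit_shift
  intro m
  apply bijective_shift_of_bijective'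
  have h0 := hf (-m)
  let e := snIso (A := A) (-m)
  let E : ∀ Z : Dual.D A, ((Q.obj (sg (ModuleCat.of A A)) : Dual.D A)⟦-m⟧ ⟶ Z) ≃ (Sn (-m) ⟶ Z) :=
    fun Z => ⟨fun g => e.hom ≫ g, fun g => e.inv ≫ g, fun g => by simp, fun g => by simp⟩
  have h : (fun g : (Q.obj (sg (ModuleCat.of A A)) : Dual.D A)⟦-m⟧ ⟶ X => g ≫ f) =
      (E Y).symm ∘ (fun g : Sn (-m) ⟶ X => g ≫ f) ∘ (E X) := by
    funext g
    change g ≫ f = e.inv ≫ (e.hom ≫ g) ≫ f
    simp
  rw [h]
  exact (E Y).symm.bijective.comp (h0.comp (E X).bijective)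

end IsoDetect

section Pointwise

variable {A : Type u} [CommRing A] [HasLTen A] [HasRHom A] [HasLTen₃ A] [IsSymMonoidal A]

/-- `Φ` is bijective at `(K, L, M, T)` -/
def GoodAt (L M T K : Dual.D A) : Prop := Function.Bijective (Φ K L M T)

lemma GoodAt.of_retract {L M T K K' : Dual.D A} (i : K ⟶ K') (p : K' ⟶ K) (hip : i ≫ p = 𝟙 K)
    (h : GoodAt L M T K') : GoodAt L M T K := by
  have hip' : ∀ X : Dual.D A, tm i (𝟙 X) ≫ tm p (𝟙 X) = 𝟙 _ := fun X => by
    rw [← tm_comp_left, hip, tm_id]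
  constructor
  · intro g g' hgg
    have h1 : g ≫ tm i (𝟙 _) = g' ≫ tm i (𝟙 _) := by
      apply h.1
      rw [Φ_naturality, Φ_naturality, hgg]
    have h2 := congrArg (fun x => x ≫ tm p (𝟙 _)) h1
    simpa only [Category.assoc, hip', Category.comp_id] using h2
  · intro k
    obtain ⟨g', hg'⟩ := h.2 (k ≫ tm i (𝟙 L))
    refine ⟨g' ≫ tm p (𝟙 _), ?_⟩
    rw [Φ_naturality, hg', Category.assoc, hip', Category.comp_id]

lemma GoodAt.of_iso {L M T K K' : Dual.D A} (e : K ≅ K') (h : GoodAt L M T K) :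
    GoodAt L M T K' :=
  h.of_retract e.inv e.hom e.inv_hom_id

lemma goodAt_Sn (L M T : Dual.D A) (n : ℤ) : GoodAt L M T (Sn (A := A) n) :=
  bijective_Φ_of_equiv (Sn n) (shiftFunctor (Dual.D A) n) (lamSn n) L M T

lemma GoodAt.of_triangle {L M T' : Dual.D A} (T : Triangle (Dual.D A))
    (hT : T ∈ distTriang (Dual.D A))
    (h₁ : GoodAt L M T' T.obj₁) (h₃ : GoodAt L M T' T.obj₃)
    (h₁' : GoodAt L M T' (T.obj₁⟦(1 : ℤ)⟧))
    (h₃' : GoodAt L M T' (T.obj₃⟦(-1 : ℤ)⟧)) : GoodAt L M T' T.obj₂ := by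
  let X := (RHomR A M).obj L
  have hc : ∀ {K K' : Dual.D A} (k : K ⟶ K'),
      (Preadditive.rightComp (tp T' M) (tm k (𝟙 L))).comp (ΦHom K L M T') =
        (ΦHom K' L M T').comp (Preadditive.rightComp T' (tm k (𝟙 X))) := by
    intro K K' k
    ext g
    exact (Φ_naturality k L M T' g).symm
  exact AddMonoidHom.bijective_of_surjective_of_bijective_of_bijective_of_injective
    (Preadditive.rightComp T' (tm T.invRotate.mor₁ (𝟙 X)))
    (Preadditive.rightComp T' (tm T.mor₁ (𝟙 X)))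
    (Preadditive.rightComp T' (tm T.mor₂ (𝟙 X)))
    (Preadditive.rightComp T' (tm T.mor₃ (𝟙 X)))
    (Preadditive.rightComp (tp T' M) (tm T.invRotate.mor₁ (𝟙 L)))
    (Preadditive.rightComp (tp T' M) (tm T.mor₁ (𝟙 L)))
    (Preadditive.rightComp (tp T' M) (tm T.mor₂ (𝟙 L)))
    (Preadditive.rightComp (tp T' M) (tm T.mor₃ (𝟙 L)))
    (ΦHom (T.obj₃⟦(-1 : ℤ)⟧) L M T') (ΦHom T.obj₁ L M T') (ΦHom T.obj₂ L M T')
    (ΦHom T.obj₃ L M T') (ΦHom (T.obj₁⟦(1 : ℤ)⟧) L M T')
    (hc _) (hc _) (hc _) (hc _)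
    (exact₂ X T.invRotate (inv_rot_of_distTriang _ hT) T')
    (exact₂ X T hT T')
    (exact₂ X T.rotate (rot_of_distTriang _ hT) T')
    (exact₂ L T.invRotate (inv_rot_of_distTriang _ hT) (tp T' M))
    (exact₂ L T hT (tp T' M))
    (exact₂ L T.rotate (rot_of_distTriang _ hT) (tp T' M))
    h₃'.2 h₁ h₃ h₁'.1

/-- the image of a colimit cofan under `- ⊗^L Y` -/
noncomputable def tensorCofan (Y : Dual.D A) {J : Type u} {X : J → Dual.D A} (c : Cofan X) :
    Cofan (fun j => tp (X j) Y) :=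
  Cofan.mk (tp c.pt Y) (fun j => tm (c.inj j) (𝟙 Y))

/-- `- ⊗^L Y` preserves coproducts -/
noncomputable def isColimitTensorCofan (Y : Dual.D A) {J : Type u} {X : J → Dual.D A}
    (c : Cofan X) (hc : IsColimit c) : IsColimit (tensorCofan Y c) := by
  haveI : PreservesColimitsOfSize.{u, u} (tensorRightD A Y) :=
    (rhomAdj A Y).leftAdjoint_preservesColimits
  exact (isColimitMapCoconeCofanMkEquiv (tensorRightD A Y) X c.inj) (isColimitOfPreserves
    (tensorRightD A Y) (IsColimit.ofIsoColimit hc (Cofan.ext (Iso.refl _) (fun j => by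
      simp [Cofan.inj]))))

lemma Φ_sum (K L M T : Dual.D A) {ι : Type*} (s : Finset ι)
    (g : ι → (T ⟶ tp K ((RHomR A M).obj L))) :
    Φ K L M T (∑ j ∈ s, g j) = ∑ j ∈ s, Φ K L M T (g j) :=
  map_sum (ΦHom K L M T) g s

lemma Φ_zero (K L M T : Dual.D A) : Φ K L M T 0 = 0 := map_zero (ΦHom K L M T)

lemma goodAt_coprod (L M T : Dual.D A) (hT : FFc.{u} T) (hTM : FFc.{u} (tp T M)) {J : Type u}
    (X : J → Dual.D A) (c : Cofan X) (hc : IsColimit c) (hX : ∀ j, GoodAt L M T (X j)) :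
    GoodAt L M T c.pt := by
  classical
  let Y := (RHomR A M).obj L
  let cY := tensorCofan Y c
  have hcY : IsColimit cY := isColimitTensorCofan Y c hc
  let cL := tensorCofan L c
  have hcL : IsColimit cL := isColimitTensorCofan L c hc
  have key : ∀ (S : Finset J) (g : ∀ j, T ⟶ tp (X j) Y),
      Φ c.pt L M T (∑ j ∈ S, g j ≫ cY.inj j) = ∑ j ∈ S, Φ (X j) L M T (g j) ≫ cL.inj j := by
    intro S g
    rw [Φ_sum]
    refine Finset.sum_congr rfl (fun j _ => ?_)
    exact Φ_naturality (c.inj j) L M T (g j)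
  constructor
  · intro g g' hgg
    rw [← sub_eq_zero]
    have h0 : Φ c.pt L M T (g - g') = 0 := by
      have := map_sub (ΦHom c.pt L M T) g g'
      change Φ c.pt L M T (g - g') = Φ c.pt L M T g - Φ c.pt L M T g' at this
      rw [this, hgg, sub_self]
    generalize g - g' = d at h0
    obtain ⟨S, hS⟩ := hT.unshifted cY hcY d
    have hd := eq_sum_of_comp_cS_eq_zero cY hcY d S hS
    have hΦd : Φ c.pt L M T d = ∑ j ∈ S, Φ (X j) L M T (d ≫ π cY hcY j) ≫ cL.inj j :=
      (congrArg (Φ c.pt L M T) hd).trans (key S (fun j => d ≫ π cY hcY j))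
    rw [hΦd] at h0
    rw [hd]
    refine Finset.sum_eq_zero (fun j hj => ?_)
    have h1 : (∑ i ∈ S, Φ (X i) L M T (d ≫ π cY hcY i) ≫ cL.inj i) ≫ π cL hcL j = 0 :=
      (congrArg (fun t => t ≫ π cL hcL j) h0).trans zero_comp
    rw [Preadditive.sum_comp, Finset.sum_eq_single j] at h1
    · have h1' : Φ (X j) L M T (d ≫ π cY hcY j) = 0 := by
        rw [Category.assoc, inj_π_self, Category.comp_id] at h1
        exact h1
      have h2 : d ≫ π cY hcY j = 0 := (hX j).1 (h1'.trans (Φ_zero (X j) L M T).symm)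
      exact (congrArg (fun t => t ≫ cY.inj j) h2).trans zero_comp
    · intro b _ hb
      rw [Category.assoc, inj_π_of_ne cL hcL hb, comp_zero]
    · intro hj'
      exact absurd hj hj'
  · intro k
    obtain ⟨S, hS⟩ := hTM.unshifted cL hcL k
    have hk := eq_sum_of_comp_cS_eq_zero cL hcL k S hS
    choose g hg using fun j => (hX j).2 (k ≫ π cL hcL j)
    refine ⟨∑ j ∈ S, g j ≫ cY.inj j, ?_⟩
    refine (key S g).trans (Eq.trans ?_ hk.symm)
    refine Finset.sum_congr rfl (fun j _ => ?_)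
    rw [hg j]
    rfl

end Pointwise

section Assembly

variable {A : Type u} [CommRing A] [HasLTen A] [HasRHom A] [HasLTen₃ A] [IsSymMonoidal A]

/-- the class of `K` on which we run the dévissage -/
def KK (L M : Dual.D A) : ObjectProperty (Dual.D A) :=
  fun K => ∀ m n : ℤ, GoodAt L M (Sn (A := A) n) (K⟦m⟧)

lemma ffc_Sn (n : ℤ) : FFc.{u} (Sn (A := A) n) :=
  (ffc_Q_sg.shift n).of_iso (snIso n).symm

lemma ffc_tp_Sn (M : Dual.D A) (hM : DRing.IsPerfect A M) (n : ℤ) :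
    FFc.{u} (tp (Sn (A := A) n) M) :=
  ((ffc_of_isPerfect M hM).shift n).of_iso ((lamSn n).app M).symm

/-- the shifted cofan -/
noncomputable def shiftCofan (m : ℤ) {J : Type u} {X : J → Dual.D A} (c : Cofan X) :
    Cofan (fun j => (X j)⟦m⟧) :=
  Cofan.mk (c.pt⟦m⟧) (fun j => (c.inj j)⟦m⟧')

noncomputable def isColimitShiftCofan (m : ℤ) {J : Type u} {X : J → Dual.D A} (c : Cofan X)
    (hc : IsColimit c) : IsColimit (shiftCofan m c) :=
  (isColimitMapCoconeCofanMkEquiv (shiftFunctor (Dual.D A) m) X c.inj) (isColimitOfPreserves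
    (shiftFunctor (Dual.D A) m) (IsColimit.ofIsoColimit hc (Cofan.ext (Iso.refl _) (fun j => by
      simp [Cofan.inj]))))

lemma isLocalizing_KK (L M : Dual.D A) (hM : DRing.IsPerfect A M) : IsLocalizing (KK L M) where
  iso e h m n := (h m n).of_iso ((shiftFunctor _ m).mapIso e)
  unit m n := (goodAt_Sn L M (Sn n) m).of_iso (snIso m)
  shift K k h m n := (h (k + m) n).of_iso ((shiftFunctorAdd' _ k m (k + m) rfl).app K)
  ext T hT h₁ h₃ m n :=
    GoodAt.of_triangle ((Triangle.shiftFunctor _ m).obj T) (Triangle.shift_distinguished _ hT m)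
      (h₁ m n) (h₃ m n)
      ((h₁ (m + 1) n).of_iso ((shiftFunctorAdd' _ m 1 (m + 1) rfl).app T.obj₁))
      ((h₃ (m + (-1)) n).of_iso ((shiftFunctorAdd' _ m (-1) (m + (-1)) rfl).app T.obj₃))
  retract i r hir h m n :=
    (h m n).of_retract (i⟦m⟧') (r⟦m⟧') (by
      rw [← Functor.map_comp, hir, CategoryTheory.Functor.map_id])
  coprod J X c hc h m n :=
    goodAt_coprod L M (Sn n) (ffc_Sn n) (ffc_tp_Sn M hM n) _ (shiftCofan m c)
      (isColimitShiftCofan m c hc) (fun j => h j m n)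

theorem isIso_evalTen_of_isPerfect_source (K L M : Dual.D A) (hM : DRing.IsPerfect A M) :
    IsIso (evalTen K L M) := by
  have h := (isLocalizing_KK L M hM).all K
  apply isIso_of_bijective_Sn
  intro n
  have h0 : GoodAt L M (Sn (A := A) n) K := (h 0 n).of_iso ((shiftFunctorZero _ ℤ).app K)
  have e : (fun g : Sn (A := A) n ⟶ tp K ((RHomR A M).obj L) => g ≫ evalTen K L M) =
      (rhomHomEquiv (Sn n) M (tp K L)) ∘ (Φ K L M (Sn n)) := by
    funext g
    exact comp_evalTen K L M (Sn n) g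
  rw [e]
  exact (Equiv.bijective _).comp h0

end Assembly

end Groth.Agent.Lib.Helper8.DTenA
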