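import Mathlib
import Groth.Prelude.Def_DRing3
import Groth.Agent.Lib.Helper8.DCmpA
import Groth.Agent.Lib.Helper8.DProdU
import Groth.Agent.Lib.Helper8.DTenF
import Groth.Agent.Lib.Helper8.HSmul
import Groth.Agent.Lib.Helper16.DComp3

/-!
# Helper8 — DCmpB: derived completion in `D(A)` — comparison of `IsCompl` with the `Ext` form of
derived completeness, and existence of derived completion for finitely generated ideals
-/

set_option autoImplicit false

universe u

open CategoryTheory CategoryTheory.Limits CategoryTheory.Pretriangulated DerivedCategory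

attribute [local instance] HasDerivedCategory.standard

namespace Groth.Agent.Lib.Helper8.DCmpB

open Groth.Agent.Lib.Helper8.DCmpA Groth.Agent.Lib.Helper8.MilnorTri
  Groth.Agent.Lib.Helper8.DSingleHom Groth.Agent.Lib.Helper1.DCompactSingle
  Groth.Agent.Lib.Helper16.DComp

/-- reflections give a left adjoint of the inclusion of a full subcategory -/
lemma isRightAdjoint_ι_of_reflections {C : Type*} [Category C] (P : ObjectProperty C)
    (h : ∀ K : C, ∃ (K' : C) (_ : P K') (η : K ⟶ K'), ∀ L : C, P L →
      Function.Bijective (fun g : K' ⟶ L => η ≫ g)) : P.ι.IsRightAdjoint := by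
  rw [isRightAdjoint_iff_hasInitial_structuredArrow]
  intro K
  obtain ⟨K', hK', η, hη⟩ := h K
  let Y₀ : P.FullSubcategory := ⟨K', hK'⟩
  let η' : K ⟶ P.ι.obj Y₀ := η
  let X₀ : StructuredArrow K P.ι := StructuredArrow.mk η'
  have hX : ∀ X : StructuredArrow K P.ι, ∃ g : K' ⟶ X.right.obj, η ≫ g = X.hom :=
    fun X => (hη X.right.obj X.right.property).2 X.hom
  let I : IsInitial X₀ := IsInitial.ofUniqueHom
    (fun X => StructuredArrow.homMk (ObjectProperty.homMk (X := Y₀) (hX X).choose)
      (show η' ≫ P.ι.map (ObjectProperty.homMk (X := Y₀) (hX X).choose) = X.hom from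
        (hX X).choose_spec))
    (fun X m => by
      apply StructuredArrow.ext
      apply ObjectProperty.hom_ext
      apply (hη X.right.obj X.right.property).1
      change η ≫ m.right.hom = η ≫ (hX X).choose
      rw [(hX X).choose_spec]
      exact (show η' ≫ P.ι.map m.right = X.hom from StructuredArrow.w m))
  exact I.hasInitial

section Transfer

variable {A : Type u} [CommRing A]

/-- pull back derived completeness along an additive equivariant bijection -/
lemma DCf.of_bijective {M N : Type*} [AddCommGroup M] [Module A M] [AddCommGroup N] [Module A N]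
    (r : A) (e : M →+ N) (he : Function.Bijective e) (hr : ∀ m, e (r • m) = r • e m)
    (h : DCf r N) : DCf r M := by
  have hc : ∀ x : ℕ → M, Phi r N (fun n => e (x n)) = fun n => e (Phi r M x n) := by
    intro x
    funext n
    simp only [Phi_apply, map_sub, hr]
  constructor
  · intro x x' hxx
    have h1 : Phi r N (fun n => e (x n)) = Phi r N (fun n => e (x' n)) := by
      rw [hc, hc, hxx]
    have h2 := h.1 h1
    funext n
    exact he.1 (congrFun h2 n)
  · intro y
    obtain ⟨z, hz⟩ := h.2 (fun n => e (y n))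
    choose x hx using fun n => he.2 (z n)
    refine ⟨x, ?_⟩
    have h1 : z = fun n => e (x n) := funext fun n => (hx n).symm
    rw [h1, hc] at hz
    funext n
    exact he.1 (congrFun hz n)

end Transfer

section Abstract

variable {T : Type*} [Category T] [Preadditive T] [HasZeroObject T] [HasShift T ℤ]
  [∀ n : ℤ, (shiftFunctor T n).Additive] [Pretriangulated T]
  {A : Type*} [CommRing A] [Linear A T] [∀ n : ℤ, (shiftFunctor T n).Linear A]
  [HasLimitsOfShape (Discrete ℕ) T]

lemma isCompl_of_mono_D (f : A) (L : T) [Mono (D (Kc L) (tc f L))] : IsCompl f L := by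
  intro X hX g
  let x : ∀ n : ℕ, X ⟶ Kc L n := fun n => Nat.rec g (fun _ r => hX.inv ≫ r) n
  have h0 : Pi.lift x ≫ D (Kc L) (tc f L) = 0 := by
    apply Pi.hom_ext
    intro n
    rw [Category.assoc, Pi.lift_π, Preadditive.comp_sub, Pi.lift_π, Pi.lift_π_assoc, zero_comp,
      comp_smul_id]
    change x n - f • (hX.inv ≫ x n) = 0
    rw [hX.smul_inv_comp, sub_self]
  have h1 : Pi.lift x = 0 := by
    rw [← cancel_mono (D (Kc L) (tc f L)), h0, zero_comp]
  have h2 := congrArg (fun t => t ≫ Pi.π (Kc L) 0) h1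
  simp only [Pi.lift_π, zero_comp] at h2
  exact h2

end Abstract

section Concrete

variable {A : Type u} [CommRing A]

/-- the unit object `A[0]` -/
noncomputable abbrev U : Dual.D A := Q.obj (sg (ModuleCat.of A A))

/-- evaluation `Hom(A[0], L) → H⁰(L)` -/
noncomputable def ev (L : Dual.D A) : (U (A := A) ⟶ L) →+ (Dual.HD A L 0) where
  toFun φ := (θ φ).hom (1 : A)
  map_zero' := by rw [θ_zero]; rfl
  map_add' φ ψ := by rw [θ_add]; rfl

lemma ev_bijective (L : Dual.D A) : Function.Bijective (ev L) := by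
  constructor
  · intro φ ψ h
    apply θ_injective (ModuleCat.of A A)
    rw [Groth.Agent.Lib.Helper8.DTenA.ofHom_toSpanSingleton_eq (θ φ),
      Groth.Agent.Lib.Helper8.DTenA.ofHom_toSpanSingleton_eq (θ ψ)]
    congr 2
  · intro y
    obtain ⟨φ, hφ⟩ := θ_surjective (ModuleCat.of A A) L
      (ModuleCat.ofHom (LinearMap.toSpanSingleton A _ y))
    refine ⟨φ, ?_⟩
    change (θ φ).hom (1 : A) = y
    rw [hφ]
    simp

lemma ev_smul (L : Dual.D A) (r : A) (φ : U (A := A) ⟶ L) : ev L (r • φ) = r • ev L φ := by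
  change (θ (r • φ)).hom (1 : A) = r • (θ φ).hom (1 : A)
  rw [← comp_smul_id, θ_comp, Groth.Agent.Lib.Helper8.HSmul.homologyFunctor_map_smul_id]
  simp

lemma dcf_hom (f : A) (L : Dual.D A) (h : ∀ n : ℤ, DCf f (Dual.HD A L n)) (m : ℤ) :
    DCf f (U (A := A) ⟶ L⟦m⟧) := by
  let e : (homologyFunctor (ModuleCat.{u} A) 0).obj (L⟦m⟧) ≅
      (homologyFunctor (ModuleCat.{u} A) m).obj L :=
    ((homologyFunctor (ModuleCat.{u} A) 0).shiftIso m 0 m (by omega)).app L
  have h3 : DCf f (Dual.HD A (L⟦m⟧) 0) := (h m).of_equiv e.symm.toLinearEquiv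
  exact DCf.of_bijective f (ev (L⟦m⟧)) (ev_bijective _) (ev_smul _ f) h3

lemma isIso_D (f : A) (L : Dual.D A) (h : ∀ n : ℤ, DCf f (Dual.HD A L n)) :
    IsIso (D (Kc L) (tc f L)) := by
  apply Groth.Agent.Lib.Helper8.DTenA.isIso_of_bijective_unit_shift
  intro m
  let Ψ : (U (A := A) ⟶ (∏ᶜ (Kc L))⟦m⟧) → (ℕ → (U (A := A) ⟶ L⟦m⟧)) :=
    fun g n => g ≫ (Pi.π (Kc L) n)⟦m⟧'
  have hΨ : Function.Bijective Ψ :=
    ⟨fun g g' hgg => hom_ext (Kc L) m (fun n => congrFun hgg n),
      fun x => ⟨lft (Kc L) m x, funext fun n => lft_π (Kc L) m x n⟩⟩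
  have hc : Ψ ∘ (fun g : U (A := A) ⟶ (∏ᶜ (Kc L))⟦m⟧ => g ≫ (D (Kc L) (tc f L))⟦m⟧') =
      Phi f _ ∘ Ψ := by
    funext g n
    change (g ≫ (D (Kc L) (tc f L))⟦m⟧') ≫ (Pi.π (Kc L) n)⟦m⟧' = Ψ g n - f • Ψ g (n + 1)
    rw [comp_D_π, shift_smul_id, comp_smul_id]
  have hd : Function.Bijective (Phi f (U (A := A) ⟶ L⟦m⟧)) := dcf_hom f L h m
  refine (Function.Bijective.of_comp_iff' hΨ _).1 ?_
  rw [hc]
  exact hd.comp hΨ

lemma isLoc_inD_away (f : A) : IsLoc f (Dual.inD A (Localization.Away f)) := by
  unfold IsLoc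
  have h1 : f • 𝟙 (Dual.inD A (Localization.Away f)) =
      (singleFunctor (ModuleCat.{u} A) 0).map (f • 𝟙 (ModuleCat.of A (Localization.Away f))) := by
    rw [Functor.map_smul, CategoryTheory.Functor.map_id]
  rw [h1]
  have h2 : IsIso (f • 𝟙 (ModuleCat.of A (Localization.Away f))) := by
    rw [ConcreteCategory.isIso_iff_bijective]
    have hu : IsUnit (algebraMap A (Localization.Away f) f) :=
      IsLocalization.Away.algebraMap_isUnit f
    have : ⇑(ConcreteCategory.hom (f • 𝟙 (ModuleCat.of A (Localization.Away f)))) =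
        fun x : Localization.Away f => algebraMap A (Localization.Away f) f * x := by
      funext x
      change f • x = _
      rw [Algebra.smul_def]
    rw [this]
    exact ⟨fun x y hxy => hu.mul_left_cancel hxy,
      fun y => ⟨hu.unit⁻¹ * y, by
        change algebraMap A (Localization.Away f) f * (↑hu.unit⁻¹ * y) = y
        rw [← mul_assoc, IsUnit.mul_val_inv, one_mul]⟩⟩
  infer_instance

/-- `IsCompl f` is the `Ext` form of derived completeness with respect to `f`. -/
theorem isCompl_iff (f : A) (L : Dual.D A) :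
    IsCompl f L ↔ ∀ n : ℤ, Subsingleton (Dual.inD A (Localization.Away f) ⟶ L⟦n⟧) := by
  constructor
  · intro h n
    exact ⟨fun g g' => by
      rw [(h.shift n) _ (isLoc_inD_away f) g, (h.shift n) _ (isLoc_inD_away f) g']⟩
  · intro h
    haveI := isIso_D f L ((crit f L).1 h)
    exact isCompl_of_mono_D f L

end Concrete

section Main

variable {A : Type u} [CommRing A]

lemma dcf_of_mem_span (s : Set A) (M : Type*) [AddCommGroup M] [Module A M]
    (h : ∀ f ∈ s, DCf f M) : ∀ f ∈ Ideal.span s, DCf f M := by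
  intro f hf
  induction hf using Submodule.span_induction with
  | mem x hx => exact h x hx
  | zero => exact DCf.zero M
  | add x y _ _ hx hy => exact hx.add hy
  | smul a x _ hx => exact hx.mul_left a

/-- derived completeness with respect to `span s` can be tested on the generators, and is the
orthogonality to the objects on which a generator acts invertibly -/
theorem isDerivedComplete_iff_isCompl (s : Set A) (L : Dual.D A) :
    DRing.IsDerivedComplete (Ideal.span s) L ↔ ∀ f ∈ s, IsCompl f L := by
  constructor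
  · intro h f hf
    exact (isCompl_iff f L).2 (h f (Ideal.subset_span hf))
  · intro h
    rw [isDerivedComplete_iff]
    intro f hf n
    exact dcf_of_mem_span s _
      (fun g hg => (crit g L).1 ((isCompl_iff g L).1 (h g hg)) n) f hf

/-- reflections into derived complete objects, with an invariant -/
theorem exists_derivedCompletion (Pinv : ℕ → Dual.D A → Prop)
    (hstep : ∀ (f : A) (k : ℕ) (K : Dual.D A) (c : Compl f K), Pinv k K → Pinv (k + 1) c.K')
    (s : List A) (K : Dual.D A) (h0 : Pinv 0 K) :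
    ∃ (K' : Dual.D A) (η : K ⟶ K'), Pinv s.length K' ∧
      DRing.IsDerivedComplete (Ideal.span {x | x ∈ s}) K' ∧
      ∀ L : Dual.D A, DRing.IsDerivedComplete (Ideal.span {x | x ∈ s}) L →
        Function.Bijective (fun g : K' ⟶ L => η ≫ g) := by
  obtain ⟨K', η, hP, hC, hB⟩ := exists_reflection Pinv hstep s K h0
  refine ⟨K', η, hP, ?_, ?_⟩
  · rw [isDerivedComplete_iff_isCompl]
    exact fun f hf => hC f hf
  · intro L hL
    apply hB
    intro f hf
    exact (isDerivedComplete_iff_isCompl _ L).1 hL f hf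

/-- **S7096**: derived completion exists for finitely generated ideals. -/
theorem hasDerivedCompletion_of_fg (I : Ideal A) (hI : I.FG) : DRing.HasDerivedCompletion I := by
  obtain ⟨s, rfl⟩ := hI
  apply isRightAdjoint_ι_of_reflections
  intro K
  obtain ⟨K', η, -, hC, hB⟩ := exists_derivedCompletion (fun _ _ => True)
    (fun _ _ _ _ _ => trivial) s.toList K trivial
  have hs : {x | x ∈ s.toList} = (s : Set A) := by
    ext x
    simp
  rw [hs] at hC hB
  exact ⟨K', hC, η, hB⟩

end Main

end Groth.Agent.Lib.Helper8.DCmpB
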