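import Mathlib
import Groth.Prelude.Def_DRing3
import Groth.Agent.Lib.Helper8.DCmpB

/-!
# Helper8 — DCmpC: the abstract derived completion functor versus explicit reflections
-/

set_option autoImplicit false

universe u

open CategoryTheory CategoryTheory.Limits CategoryTheory.Pretriangulated DerivedCategory

attribute [local instance] HasDerivedCategory.standard

namespace Groth.Agent.Lib.Helper8.DCmpC

open Groth.Agent.Lib.Helper8.DCmpA Groth.Agent.Lib.Helper8.DCmpB

variable {A : Type u} [CommRing A] (I : Ideal A) [DRing.HasDerivedCompletion I]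

/-- the universal property of the unit of derived completion -/
lemma bijective_unit_comp (K L : Dual.D A) (hL : DRing.IsDerivedComplete I L) :
    Function.Bijective (fun g : ((DRing.derivedCompletion I).obj K).obj ⟶ L =>
      DRing.toDerivedCompletion I K ≫ g) := by
  let Y : DRing.DComp I := ⟨L, hL⟩
  let E := (DRing.derivedCompletionAdj I).homEquiv K Y
  have h1 : ∀ g : ((DRing.derivedCompletion I).obj K).obj ⟶ L,
      DRing.toDerivedCompletion I K ≫ g = E (ObjectProperty.homMk g) := by
    intro g
    rw [Adjunction.homEquiv_unit]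
    rfl
  constructor
  · intro g g' hgg
    simp only [h1] at hgg
    have := E.injective hgg
    exact congrArg (fun t => t.hom) this
  · intro k
    refine ⟨(E.symm k).hom, ?_⟩
    change DRing.toDerivedCompletion I K ≫ (E.symm k).hom = k
    rw [h1]
    exact E.apply_symm_apply k

/-- reflections are unique: an explicit reflection is isomorphic to the derived completion -/
lemma exists_iso_of_reflection (K K' : Dual.D A) (η : K ⟶ K')
    (hK' : DRing.IsDerivedComplete I K')
    (hB : ∀ L : Dual.D A, DRing.IsDerivedComplete I L →
      Function.Bijective (fun g : K' ⟶ L => η ≫ g)) :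
    ∃ e : ((DRing.derivedCompletion I).obj K).obj ≅ K',
      DRing.toDerivedCompletion I K ≫ e.hom = η := by
  let C := (DRing.derivedCompletion I).obj K
  have hC : DRing.IsDerivedComplete I C.obj := C.property
  have hU := bijective_unit_comp I K
  obtain ⟨a, ha⟩ := (hU K' hK').2 η
  obtain ⟨b, hb⟩ := (hB C.obj hC).2 (DRing.toDerivedCompletion I K)
  simp only at ha hb
  refine ⟨⟨a, b, ?_, ?_⟩, ha⟩
  · apply (hU C.obj hC).1
    simp only
    rw [← Category.assoc, ha, hb, Category.comp_id]
  · apply (hB K' hK').1
    simp only
    rw [← Category.assoc, hb, ha, Category.comp_id]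

/-- an object on which some `f ∈ I` acts invertibly has zero derived completion -/
lemma isZero_of_isLoc (f : A) (hf : f ∈ I) (X : Dual.D A) (hX : IsLoc f X) :
    IsZero ((DRing.derivedCompletion I).obj X).obj := by
  let C := (DRing.derivedCompletion I).obj X
  have hC : DRing.IsDerivedComplete I C.obj := C.property
  have hCf : IsCompl f C.obj := (isCompl_iff f C.obj).2 (hC f hf)
  have h0 : DRing.toDerivedCompletion I X = 0 := hCf X hX _
  rw [IsZero.iff_id_eq_zero]
  apply (bijective_unit_comp I X C.obj hC).1
  simp only
  rw [h0, zero_comp, zero_comp]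

/-- a complex on whose terms `f` acts bijectively is `f`-local in `D(A)` -/
lemma isLoc_toD_of_bijective (K : DRing.Cx A) (f : A)
    (hK : ∀ i : ℤ, Function.Bijective (fun x : K.X i => f • x)) : IsLoc f (DRing.toD K) := by
  unfold IsLoc
  have h1 : f • 𝟙 (DRing.toD K) = Q.map (f • 𝟙 K) := by
    rw [Functor.map_smul, CategoryTheory.Functor.map_id]
  rw [h1]
  have h2 : ∀ i, IsIso ((f • 𝟙 K : K ⟶ K).f i) := by
    intro i
    rw [ConcreteCategory.isIso_iff_bijective]
    exact hK i
  have : IsIso (f • 𝟙 K : K ⟶ K) := HomologicalComplex.Hom.isIso_of_components _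
  infer_instance

end Groth.Agent.Lib.Helper8.DCmpC
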