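import Mathlib
import Groth.Prelude.Def_DRing3
import Groth.Agent.Lib.Helper8.DCmpC

/-!
# Helper8 — DCmpD: cohomological bounds for derived completion
-/

set_option autoImplicit false

universe u

open CategoryTheory CategoryTheory.Limits CategoryTheory.Pretriangulated DerivedCategory

attribute [local instance] HasDerivedCategory.standard

namespace Groth.Agent.Lib.Helper8.DCmpD

open Groth.Agent.Lib.Helper8.DCmpA Groth.Agent.Lib.Helper8.DCmpB Groth.Agent.Lib.Helper8.DCmpC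
  Groth.Agent.Lib.Helper8.MilnorTri

variable {A : Type u} [CommRing A]

section Tri

variable (T : Triangle (Dual.D A)) (hT : T ∈ distTriang (Dual.D A))

include hT

lemma isZero_H_obj₁ (n₀ n₁ : ℤ) (h : n₀ + 1 = n₁)
    (h3 : IsZero ((homologyFunctor (ModuleCat.{u} A) n₀).obj T.obj₃))
    (h2 : IsZero ((homologyFunctor (ModuleCat.{u} A) n₁).obj T.obj₂)) :
    IsZero ((homologyFunctor (ModuleCat.{u} A) n₁).obj T.obj₁) :=
  (HomologySequence.exact₁ T hT n₀ n₁ h).isZero_of_both_zeros (h3.eq_of_src _ _)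
    (h2.eq_of_tgt _ _)

lemma isZero_H_obj₃ (n₀ n₁ : ℤ) (h : n₀ + 1 = n₁)
    (h2 : IsZero ((homologyFunctor (ModuleCat.{u} A) n₀).obj T.obj₂))
    (h1 : IsZero ((homologyFunctor (ModuleCat.{u} A) n₁).obj T.obj₁)) :
    IsZero ((homologyFunctor (ModuleCat.{u} A) n₀).obj T.obj₃) :=
  (HomologySequence.exact₃ T hT n₀ n₁ h).isZero_of_both_zeros (h2.eq_of_src _ _)
    (h1.eq_of_tgt _ _)

lemma isZero_H_obj₂ (n : ℤ)
    (h1 : IsZero ((homologyFunctor (ModuleCat.{u} A) n).obj T.obj₁))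
    (h3 : IsZero ((homologyFunctor (ModuleCat.{u} A) n).obj T.obj₃)) :
    IsZero ((homologyFunctor (ModuleCat.{u} A) n).obj T.obj₂) :=
  (HomologySequence.exact₂ T hT n).isZero_of_both_zeros (h1.eq_of_src _ _)
    (h3.eq_of_tgt _ _)

end Tri

/-- `Hⁿ(X) = 0` iff `Hom(A[0], X[n]) = 0` -/
lemma subsingleton_HD_iff (X : Dual.D A) (n : ℤ) :
    Subsingleton (Dual.HD A X n) ↔ Subsingleton (U (A := A) ⟶ X⟦n⟧) := by
  let e : (homologyFunctor (ModuleCat.{u} A) 0).obj (X⟦n⟧) ≅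
      (homologyFunctor (ModuleCat.{u} A) n).obj X :=
    ((homologyFunctor (ModuleCat.{u} A) 0).shiftIso n 0 n (by omega)).app X
  have h1 : Subsingleton (Dual.HD A X n) ↔ Subsingleton (Dual.HD A (X⟦n⟧) 0) :=
    e.toLinearEquiv.toEquiv.subsingleton_congr.symm
  rw [h1]
  exact (Equiv.ofBijective _ (ev_bijective (X⟦n⟧))).subsingleton_congr.symm

lemma subsingleton_HD_prod (L : Dual.D A) (n : ℤ) (h : Subsingleton (Dual.HD A L n)) :
    Subsingleton (Dual.HD A (∏ᶜ (Kc L)) n) := by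
  rw [subsingleton_HD_iff] at h ⊢
  exact ⟨fun g g' => hom_ext (Kc L) n (fun _ => h.elim _ _)⟩

lemma isZero_iff_subsingleton (M : ModuleCat.{u} A) : IsZero M ↔ Subsingleton M :=
  ⟨fun h => ModuleCat.subsingleton_of_isZero h, fun _ => ModuleCat.isZero_of_subsingleton M⟩

/-- one step of completion: `Hⁱ(K') = 0` as soon as `Hⁱ(K) = 0 = Hⁱ⁺¹(K)` -/
lemma step_bounds (f : A) (K : Dual.D A) (c : Compl f K) (i : ℤ)
    (h0 : Subsingleton (Dual.HD A K i)) (h1 : Subsingleton (Dual.HD A K (i + 1))) :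
    Subsingleton (Dual.HD A c.K' i) := by
  have hP0 := (isZero_iff_subsingleton _).2 (subsingleton_HD_prod K i h0)
  have hP1 := (isZero_iff_subsingleton _).2 (subsingleton_HD_prod K (i + 1) h1)
  have hT : IsZero ((homologyFunctor (ModuleCat.{u} A) (i + 1)).obj c.T₀) :=
    isZero_H_obj₁ _ c.dist₁ i (i + 1) rfl hP0 hP1
  have hK : IsZero ((homologyFunctor (ModuleCat.{u} A) i).obj c.K') :=
    isZero_H_obj₃ _ c.dist₂ i (i + 1) rfl ((isZero_iff_subsingleton _).2 h0) hT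
  exact (isZero_iff_subsingleton _).1 hK

/-- **S7832** -/
theorem bounds (I : Ideal A) (r : ℕ)
    (hI : ∃ s : Finset A, s.card ≤ r ∧ Ideal.span (s : Set A) = I) [DRing.HasDerivedCompletion I]
    (K : Dual.D A) (a : WithBot ℤ) (b : WithTop ℤ)
    (hKa : ∀ i : ℤ, (i : WithBot ℤ) < a → Subsingleton (Dual.HD A K i))
    (hKb : ∀ i : ℤ, b < (i : WithTop ℤ) → Subsingleton (Dual.HD A K i)) (i : ℤ)
    (hi : ((i + r : ℤ) : WithBot ℤ) < a ∨ b < (i : WithTop ℤ)) :
    Subsingleton (Dual.HD A ((DRing.derivedCompletion I).obj K).obj i) := by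
  obtain ⟨s, hs, rfl⟩ := hI
  let Pinv : ℕ → Dual.D A → Prop := fun k X =>
    (∀ j : ℤ, ((j + k : ℤ) : WithBot ℤ) < a → Subsingleton (Dual.HD A X j)) ∧
      (∀ j : ℤ, b < (j : WithTop ℤ) → Subsingleton (Dual.HD A X j))
  have hstep : ∀ (f : A) (k : ℕ) (X : Dual.D A) (c : Compl f X), Pinv k X → Pinv (k + 1) c.K' := by
    intro f k X c ⟨h1, h2⟩
    constructor
    · intro j hj
      have hj1 : ((j + 1 + k : ℤ) : WithBot ℤ) < a := by
        have : (j + 1 + k : ℤ) = j + ((k + 1 : ℕ) : ℤ) := by push_cast; ring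
        rw [this]; exact hj
      have hj0 : ((j + k : ℤ) : WithBot ℤ) < a :=
        lt_of_le_of_lt (WithBot.coe_le_coe.2 (by omega)) hj1
      exact step_bounds f X c j (h1 j hj0) (h1 (j + 1) hj1)
    · intro j hj
      have hj1 : b < ((j + 1 : ℤ) : WithTop ℤ) :=
        lt_of_lt_of_le hj (WithTop.coe_le_coe.2 (by omega))
      exact step_bounds f X c j (h2 j hj) (h2 (j + 1) hj1)
  have h0 : Pinv 0 K := by
    refine ⟨fun j hj => hKa j ?_, hKb⟩
    simpa using hj
  obtain ⟨K', η, hP, hC, hB⟩ := exists_derivedCompletion Pinv hstep s.toList K h0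
  have hset : {x | x ∈ s.toList} = (s : Set A) := by
    ext x
    simp
  rw [hset] at hC hB
  obtain ⟨e, -⟩ := exists_iso_of_reflection (Ideal.span (s : Set A)) K K' η hC hB
  have hK' : Subsingleton (Dual.HD A K' i) := by
    rcases hi with hi | hi
    · apply hP.1
      refine lt_of_le_of_lt (WithBot.coe_le_coe.2 ?_) hi
      rw [Finset.length_toList]
      omega
    · exact hP.2 i hi
  exact ((homologyFunctor (ModuleCat.{u} A) i).mapIso e).toLinearEquiv.toEquiv.subsingleton_congr.2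
    hK'

end Groth.Agent.Lib.Helper8.DCmpD
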