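import Mathlib
import Groth.Prelude.Def_DRing3
import Groth.Agent.Lib.Helper8.DCmpD
import Groth.Agent.Lib.Helper8.DTenF
import Groth.Agent.Lib.Helper8.DProd

/-!
# Helper8 — KInjM1: `D(A)` (modules over a commutative ring) is left complete:
every object is the homotopy limit of its truncations `τ_{≥ -n}`.
-/

set_option autoImplicit false

universe u

open CategoryTheory CategoryTheory.Limits CategoryTheory.Pretriangulated DerivedCategory

attribute [local instance] HasDerivedCategory.standard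

namespace Groth.Agent.Lib.Helper8.KInjM

open Groth.Agent.Lib.Helper8.DCmpA Groth.Agent.Lib.Helper8.DCmpB Groth.Agent.Lib.Helper8.DCmpC
  Groth.Agent.Lib.Helper8.DCmpD Groth.Agent.Lib.Helper8.MilnorTri Groth.Agent.Lib.Helper8.DTenA

variable {A : Type u} [CommRing A]

/-- The canonical t-structure. -/
noncomputable abbrev tt : Triangulated.TStructure (Dual.D A) := DerivedCategory.TStructure.t

section Exact

variable (Tr : Triangle (Dual.D A)) (hT : Tr ∈ distTriang (Dual.D A)) (n : ℤ) {X : Dual.D A}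

include hT

lemma exact₃ (f : X ⟶ (Tr.obj₃)⟦n⟧) (hf : f ≫ (Tr.mor₃)⟦n⟧' = 0) :
    ∃ g : X ⟶ (Tr.obj₂)⟦n⟧, f = g ≫ (Tr.mor₂)⟦n⟧' := by
  have hd := Triangle.shift_distinguished Tr hT n
  obtain ⟨g, hg⟩ := Triangle.coyoneda_exact₃ _ hd f (by
    change f ≫ (n.negOnePow • ((Tr.mor₃)⟦n⟧' ≫ (shiftFunctorComm (Dual.D A) 1 n).hom.app Tr.obj₁)) = 0
    rw [Linear.comp_units_smul, reassoc_of% hf, zero_comp, smul_zero])
  let g' : X ⟶ (Tr.obj₂)⟦n⟧ := g
  have hg' : f = g' ≫ (n.negOnePow • (Tr.mor₂)⟦n⟧') := hg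
  refine ⟨n.negOnePow • g', ?_⟩
  rw [hg', Linear.comp_units_smul, Linear.units_smul_comp]

/-- if `Hom(Z, T₁[n]) = 0 = Hom(Z, T₁[n+1])` then `Hom(Z, T₂[n]) ≅ Hom(Z, T₃[n])` -/
lemma bijective_comp_mor₂ (Z : Dual.D A) (n' : ℤ) (hn' : n + 1 = n')
    (h0 : Subsingleton (Z ⟶ (Tr.obj₁)⟦n⟧)) (h1 : Subsingleton (Z ⟶ (Tr.obj₁)⟦n'⟧)) :
    Function.Bijective (fun g : Z ⟶ (Tr.obj₂)⟦n⟧ => g ≫ (Tr.mor₂)⟦n⟧') := by
  constructor
  · intro g g' (hgg : g ≫ _ = g' ≫ _)
    have h : (g - g') ≫ (Tr.mor₂)⟦n⟧' = 0 := by rw [Preadditive.sub_comp, hgg, sub_self]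
    obtain ⟨k, hk⟩ := MilnorTri.exact₂ Tr hT n (g - g') h
    rw [h0.elim k 0, zero_comp] at hk
    exact sub_eq_zero.1 hk
  · intro y
    have h1' : Subsingleton (Z ⟶ ((Tr.obj₁)⟦(1 : ℤ)⟧)⟦n⟧) := by
      let e : ((Tr.obj₁)⟦(1 : ℤ)⟧)⟦n⟧ ≅ (Tr.obj₁)⟦n'⟧ :=
        ((shiftFunctorAdd' (Dual.D A) 1 n n' (by omega)).app Tr.obj₁).symm
      exact ⟨fun a b => by
        have := h1.elim (a ≫ e.hom) (b ≫ e.hom)
        exact (cancel_mono e.hom).1 this⟩
    obtain ⟨g, hg⟩ := exact₃ Tr hT n y (h1'.elim _ _)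
    exact ⟨g, hg.symm⟩

end Exact

/-- `Hom(A[0], Y[m]) = 0` when `Y` is `≤ b` and `b < m` -/
lemma subsingleton_of_isLE (Y : Dual.D A) (b m : ℤ) (hbm : b < m) [Y.IsLE b] :
    Subsingleton (U (A := A) ⟶ Y⟦m⟧) := by
  rw [← subsingleton_HD_iff]
  exact (isZero_iff_subsingleton _).1 (isZero_of_isLE Y b m hbm)

/-- `Hom(A[0], X[m]) ≅ Hom(A[0], (τ_{≥ a} X)[m])` for `a ≤ m` -/
lemma bijective_truncGEπ (X : Dual.D A) (a m : ℤ) (ham : a ≤ m) :
    Function.Bijective
      (fun g : U (A := A) ⟶ X⟦m⟧ => g ≫ ((tt.truncGEπ a).app X)⟦m⟧') := by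
  have hT := tt.triangleLTGE_distinguished a X
  have : ((tt.truncLT a).obj X).IsLE (a - 1) := inferInstance
  exact bijective_comp_mor₂ _ hT m U (m + 1) rfl
    (subsingleton_of_isLE ((tt.truncLT a).obj X) (a - 1) m (by omega))
    (subsingleton_of_isLE ((tt.truncLT a).obj X) (a - 1) (m + 1) (by omega))

/-- `1 - shift` is surjective on an eventually surjective tower of abelian groups -/
lemma limOne_ev : ∀ (N : ℕ) (G : ℕ → Type (u + 1)) [∀ n, AddCommGroup (G n)]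
    (t : ∀ n, G (n + 1) →+ G n) (_ : ∀ n, N ≤ n → Function.Surjective (t n)) (b : ∀ n, G n),
    ∃ c : ∀ n, G n, ∀ n, c n - t n (c (n + 1)) = b n := by
  intro N
  induction N with
  | zero =>
    intro G _ t ht b
    choose s hs using fun n => ht n (Nat.zero_le n)
    let a : ∀ n, G n := fun n => Nat.rec (motive := fun n => G n) 0 (fun n an => s n (an - b n)) n
    refine ⟨a, fun n => ?_⟩
    have : a (n + 1) = s n (a n - b n) := rfl
    rw [this, hs]
    abel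
  | succ N ih =>
    intro G _ t ht b
    obtain ⟨c', hc'⟩ := ih (fun k => G (k + 1)) (fun k => t (k + 1))
      (fun n hn => ht (n + 1) (by omega)) (fun k => b (k + 1))
    let c : ∀ n, G n := fun n => Nat.casesOn (motive := fun n => G n) n (b 0 + t 0 (c' 0)) c'
    refine ⟨c, fun n => ?_⟩
    cases n with
    | zero =>
      change (b 0 + t 0 (c' 0)) - t 0 (c' 0) = b 0
      abel
    | succ k => exact hc' k

section Holim

variable (K : ℕ → Dual.D A) (t : ∀ n, K (n + 1) ⟶ K n) (L : Dual.D A) (a : ∀ n, L ⟶ K n)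
  (c : ∏ᶜ K ⟶ L⟦(1 : ℤ)⟧) (hT : Triangle.mk (Pi.lift a) (D K t) c ∈ distTriang (Dual.D A))
  (X : Dual.D A) (p : ∀ n, X ⟶ K n) (hp : ∀ n, p (n + 1) ≫ t n = p n)
  (hbij : ∀ m : ℤ, ∃ N : ℕ, ∀ n, N ≤ n →
    Function.Bijective (fun g : U (A := A) ⟶ X⟦m⟧ => g ≫ (p n)⟦m⟧'))
  (y : X ⟶ L) (hy : ∀ n, y ≫ a n = p n)

include hT in
lemma a_succ (n : ℕ) : a (n + 1) ≫ t n = a n := by
  have h : Pi.lift a ≫ D K t = 0 := comp_distTriang_mor_zero₁₂ _ hT
  have h2 := congr_arg (fun f => f ≫ Pi.π K n) h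
  simp only [Category.assoc, Pi.lift_π, zero_comp, Preadditive.comp_sub, Pi.lift_π_assoc] at h2
  exact (sub_eq_zero.1 h2).symm

include hp hbij in
lemma bijective_t (m : ℤ) : ∃ N : ℕ, ∀ n, N ≤ n →
    Function.Bijective (fun g : U (A := A) ⟶ (K (n + 1))⟦m⟧ => g ≫ (t n)⟦m⟧') := by
  obtain ⟨N, hN⟩ := hbij m
  refine ⟨N, fun n hn => ?_⟩
  have h1 := hN n hn
  have h2 := hN (n + 1) (by omega)
  have hcomp : (fun g : U (A := A) ⟶ X⟦m⟧ => g ≫ (p n)⟦m⟧') =
      (fun g : U (A := A) ⟶ (K (n + 1))⟦m⟧ => g ≫ (t n)⟦m⟧') ∘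
        (fun g : U (A := A) ⟶ X⟦m⟧ => g ≫ (p (n + 1))⟦m⟧') := by
    funext g
    dsimp
    rw [Category.assoc, ← Functor.map_comp, hp]
  rw [hcomp] at h1
  exact (Function.Bijective.of_comp_iff _ h2).1 h1

include hT hp hbij hy in
theorem isIso_of_holim : IsIso y := by
  apply isIso_of_bijective_unit_shift
  intro m
  obtain ⟨N, hN⟩ := hbij m
  obtain ⟨N', hN'⟩ := bijective_t K t X p hp hbij m
  obtain ⟨N'', hN''⟩ := bijective_t K t X p hp hbij (m - 1)
  have hya : ∀ n, (y)⟦m⟧' ≫ (a n)⟦m⟧' = (p n)⟦m⟧' := fun n => by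
    rw [← Functor.map_comp, hy]
  constructor
  · intro g g' (hgg : g ≫ _ = g' ≫ _)
    apply (hN N le_rfl).1
    dsimp only
    rw [← hya, ← Category.assoc, ← Category.assoc, hgg]
  · intro z
    let M := max N N'
    obtain ⟨w, hw⟩ := (hN M (le_max_left _ _)).2 (z ≫ (a M)⟦m⟧')
    dsimp only at hw
    refine ⟨w, ?_⟩
    dsimp only
    rw [← sub_eq_zero]
    let e : ∀ n, U (A := A) ⟶ (K n)⟦m⟧ := fun n => (w ≫ (y)⟦m⟧' - z) ≫ (a n)⟦m⟧'
    have he : ∀ n, e (n + 1) ≫ (t n)⟦m⟧' = e n := fun n => by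
      simp only [e, Category.assoc, ← Functor.map_comp, a_succ K t L a c hT]
    have heM : e M = 0 := by
      simp only [e, Preadditive.sub_comp, Category.assoc, hya, hw, sub_self]
    have hdown : ∀ d n, n + d = M → e n = 0 := by
      intro d
      induction d with
      | zero => intro n hn; obtain rfl : n = M := by omega
                exact heM
      | succ d ih =>
        intro n hn
        rw [← he n, ih (n + 1) (by omega), zero_comp]
    have hup : ∀ n, M ≤ n → e n = 0 := by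
      intro n hn
      induction n, hn using Nat.le_induction with
      | base => exact heM
      | succ n hn ih =>
        apply (hN' n ((le_max_right _ _).trans hn)).1
        dsimp only
        rw [he, ih, zero_comp]
    have hall : ∀ n, e n = 0 := fun n => by
      rcases le_total n M with h | h
      · exact hdown (M - n) n (by omega)
      · exact hup n h
    refine MilnorTri.eq_zero K t L a c hT m (m - 1) (by omega) ?_ _ hall
    intro b
    obtain ⟨c', hc'⟩ := limOne_ev N'' (fun n => U (A := A) ⟶ (K n)⟦m - 1⟧)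
      (fun n => (Preadditive.rightComp U ((t n)⟦m - 1⟧')))
      (fun n hn => (hN'' n hn).2) b
    exact ⟨c', funext hc'⟩

end Holim

end Groth.Agent.Lib.Helper8.KInjM
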