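import Mathlib
import Groth.Prelude.Def_DRing3
import Groth.Agent.Lib.Helper8.KInjM1

/-!
# Helper8 — KInjM2: every complex of modules over a commutative ring has a K-injective resolution
(homotopy limit of injective resolutions of the truncations).
-/

set_option autoImplicit false

universe w' w v u

open CategoryTheory CategoryTheory.Limits CategoryTheory.Pretriangulated DerivedCategory

namespace Groth.Agent.Lib.Helper8.KInjM

section General

variable {C : Type u} [Category.{v} C] [Abelian C]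

lemma isKInjective_mappingCone {K L : CochainComplex C ℤ} (φ : K ⟶ L) [K.IsKInjective]
    [L.IsKInjective] : (CochainComplex.mappingCone φ).IsKInjective := by
  rw [CochainComplex.isKInjective_iff_rightOrthogonal]
  have hT := HomotopyCategory.mappingCone_triangleh_distinguished φ
  exact (HomotopyCategory.subcategoryAcyclic C).rightOrthogonal.ext_of_isTriangulatedClosed₃ _ hT
    (CochainComplex.IsKInjective.rightOrthogonal K) (CochainComplex.IsKInjective.rightOrthogonal L)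

instance isKInjective_mappingCocone {K L : CochainComplex C ℤ} (φ : K ⟶ L) [K.IsKInjective]
    [L.IsKInjective] : (CochainComplex.mappingCocone φ).IsKInjective := by
  have := isKInjective_mappingCone φ
  unfold CochainComplex.mappingCocone
  infer_instance

variable [HasDerivedCategory.{w} C]

/-- the fibre of a map between K-injectively representable objects is K-injectively
representable -/
lemma exists_rep_of_triangle (T : Triangle (DerivedCategory C)) (hT : T ∈ distTriang _)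
    (I₂ I₃ : CochainComplex C ℤ) [I₂.IsKInjective] [I₃.IsKInjective]
    (e₂ : Q.obj I₂ ≅ T.obj₂) (e₃ : Q.obj I₃ ≅ T.obj₃) :
    ∃ J : CochainComplex C ℤ, J.IsKInjective ∧ Nonempty (Q.obj J ≅ T.obj₁) := by
  obtain ⟨φ, hφ⟩ := DProd.exists_Q_map_of_isKInjective I₂ I₃ (e₂.hom ≫ T.mor₂ ≫ e₃.inv)
  let T' := Q.mapTriangle.obj (CochainComplex.mappingCocone.triangle φ)
  have hT' : T' ∈ distTriang _ := mappingCocone_triangle_distinguished φ
  let E := isoTriangleOfIso₁₂ T'.rotate T.rotate (rot_of_distTriang _ hT') (rot_of_distTriang _ hT)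
    e₂ e₃ (by
      change Q.map φ ≫ e₃.hom = e₂.hom ≫ T.mor₂
      rw [← hφ]
      simp)
  let e1 : (Q.obj (CochainComplex.mappingCocone φ))⟦(1 : ℤ)⟧ ≅ (T.obj₁)⟦(1 : ℤ)⟧ :=
    Triangle.π₃.mapIso E
  exact ⟨CochainComplex.mappingCocone φ, inferInstance,
    ⟨(shiftFunctor (DerivedCategory C) (1 : ℤ)).preimageIso e1⟩⟩

end General

attribute [local instance] HasDerivedCategory.standard

open Groth.Agent.Lib.Helper8.DCmpA Groth.Agent.Lib.Helper8.DCmpB Groth.Agent.Lib.Helper8.DCmpC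
  Groth.Agent.Lib.Helper8.DCmpD Groth.Agent.Lib.Helper8.MilnorTri

variable {A : Type u} [CommRing A]

section Tower

variable (X : Dual.D A)

/-- the truncation `τ_{≥ -n} X` -/
noncomputable def Xn (n : ℕ) : Dual.D A := (tt.truncGE (-(n : ℤ))).obj X

/-- the projection `X ⟶ τ_{≥ -n} X` -/
noncomputable def πn (n : ℕ) : X ⟶ Xn X n := (tt.truncGEπ (-(n : ℤ))).app X

/-- the transition map `τ_{≥ -n-1} X ⟶ τ_{≥ -n} X` -/
noncomputable def τn (n : ℕ) : Xn X (n + 1) ⟶ Xn X n :=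
  (tt.natTransTruncGEOfLE (-((n + 1 : ℕ) : ℤ)) (-(n : ℤ)) (by push_cast; omega)).app X

lemma π_τ (n : ℕ) : πn X (n + 1) ≫ τn X n = πn X n :=
  tt.π_natTransTruncGEOfLE_app _ _ _ X

instance (n : ℕ) : (Xn X n).IsGE (-(n : ℤ)) := by
  unfold Xn
  infer_instance

lemma hbij (m : ℤ) : ∃ N : ℕ, ∀ n, N ≤ n →
    Function.Bijective (fun g : U (A := A) ⟶ X⟦m⟧ => g ≫ (πn X n)⟦m⟧') :=
  ⟨(-m).toNat, fun n hn => bijective_truncGEπ X (-(n : ℤ)) m (by omega)⟩

/-- `X` is the homotopy limit of its truncations -/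
theorem exists_holim : ∃ (L : Dual.D A) (a : ∀ n, L ⟶ Xn X n) (c : ∏ᶜ (Xn X) ⟶ L⟦(1 : ℤ)⟧)
    (_ : Triangle.mk (Pi.lift a) (D (Xn X) (τn X)) c ∈ distTriang (Dual.D A)),
    Nonempty (X ≅ L) := by
  obtain ⟨L, f, c, hT⟩ := distinguished_cocone_triangle₁ (D (Xn X) (τn X))
  let a : ∀ n, L ⟶ Xn X n := fun n => f ≫ Pi.π _ n
  have hf : f = Pi.lift a := by
    apply Pi.hom_ext
    intro n
    rw [Pi.lift_π]
  rw [hf] at hT
  have h0 : Pi.lift (πn X) ≫ D (Xn X) (τn X) = 0 := by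
    apply Pi.hom_ext
    intro n
    simp only [Category.assoc, Pi.lift_π, Preadditive.comp_sub, Pi.lift_π_assoc, π_τ, sub_self,
      zero_comp]
  obtain ⟨y, hy⟩ : ∃ y : X ⟶ L, Pi.lift (πn X) = y ≫ Pi.lift a :=
    Triangle.coyoneda_exact₂ _ hT (Pi.lift (πn X)) h0
  have hy' : ∀ n, y ≫ a n = πn X n := fun n => by
    have h1 : y ≫ a n = (y ≫ Pi.lift a) ≫ Pi.π _ n := by rw [Category.assoc, Pi.lift_π]
    rw [h1, ← hy, Pi.lift_π]
  have := isIso_of_holim (Xn X) (τn X) L a c hT X (πn X) (π_τ X) (hbij X) y hy'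
  exact ⟨L, a, c, hT, ⟨asIso y⟩⟩

/-- every object of `D(A)` is represented by a K-injective complex -/
theorem exists_kinj_rep : ∃ I : CochainComplex (ModuleCat.{u} A) ℤ,
    I.IsKInjective ∧ Nonempty (Q.obj I ≅ X) := by
  obtain ⟨L, a, c, hT, ⟨e⟩⟩ := exists_holim X
  choose I hI eI using fun n => DProd.exists_rep (Xn X n) (-(n : ℤ))
  let eP : Q.obj (∏ᶜ I) ≅ ∏ᶜ (Xn X) :=
    (DProd.isLimitFan (Xn X) I (fun n => (eI n).some)).conePointUniqueUpToIso
      (productIsProduct (Xn X))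
  have : (∏ᶜ I).IsKInjective := DProd.isKInjective_pi I
  obtain ⟨J, hJ, ⟨eJ⟩⟩ := exists_rep_of_triangle _ hT (∏ᶜ I) (∏ᶜ I) eP eP
  exact ⟨J, hJ, ⟨eJ ≪≫ e.symm⟩⟩

end Tower

/-- **K-injective resolutions** of unbounded complexes of modules -/
theorem exists_kinj (K : CochainComplex (ModuleCat.{u} A) ℤ) :
    ∃ (I : CochainComplex (ModuleCat.{u} A) ℤ) (f : K ⟶ I), I.IsKInjective ∧ QuasiIso f := by
  obtain ⟨I, hI, ⟨e⟩⟩ := exists_kinj_rep (Q.obj K : Dual.D A)
  obtain ⟨f, hf⟩ := DProd.exists_Q_map_of_isKInjective K I e.inv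
  refine ⟨I, f, hI, ?_⟩
  rw [← isIso_Q_map_iff_quasiIso, ← hf]
  infer_instance

end Groth.Agent.Lib.Helper8.KInjM
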