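import Mathlib
import Groth.Prelude.Def_DRing3
import Groth.Agent.Lib.Helper8.KInjDer
import Groth.Agent.Lib.Helper8.KInjM2

/-!
# Helper8 — RGam1: `RΓ_I` computed on K-injective complexes; vanishing when some `f ∈ I` acts
bijectively (S8933).
-/

set_option autoImplicit false

universe u

open CategoryTheory CategoryTheory.Limits DerivedCategory CochainComplex ZeroObject

attribute [local instance] HasDerivedCategory.standard

namespace Groth.Agent.Lib.Helper8.RGam

variable {A : Type u} [CommRing A] (I : Ideal A)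

/-- termwise `Γ_I` -/
noncomputable abbrev gammaCx (J : DRing.Cx A) : DRing.Cx A :=
  ((DRing.gammaI I).mapHomologicalComplex (ComplexShape.up ℤ)).obj J

/-- `RΓ_I (Q J) ≅ Q (Γ_I J)` for `J` K-injective -/
theorem nonempty_rgammaIso [DRing.HasRgammaI I] (J : DRing.Cx A) [hJ : J.IsKInjective] :
    Nonempty ((DRing.RgammaI I).obj (Q.obj J) ≅ Q.obj (gammaCx I J)) := by
  have hK := KInjDer.hK_of_complexes (A := ModuleCat.{u} A) KInjM.exists_kinj
  let X : HomotopyCategory (ModuleCat.{u} A) (ComplexShape.up ℤ) :=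
    (HomotopyCategory.quotient _ _).obj J
  have hX : KInjDer.kinj X := hJ
  haveI := KInjDer.isIso_unit hK (DRing.gammaIKh I) X hX
  let e1 := asIso (((DRing.gammaIKh I).totalRightDerivedUnit DerivedCategory.Qh
    (HomotopyCategory.quasiIso (ModuleCat.{u} A) (ComplexShape.up ℤ))).app X)
  let e2 : Qh.obj X ≅ Q.obj J := (quotientCompQhIso (ModuleCat.{u} A)).app J
  let e3 : (DRing.gammaIKh I).obj X ≅ Q.obj (gammaCx I J) :=
    (quotientCompQhIso (ModuleCat.{u} A)).app (gammaCx I J)
  exact ⟨(DRing.RgammaI I).mapIso e2.symm ≪≫ e1.symm ≪≫ e3⟩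

section Vanish

variable {I}

/-- elements of `Γ_I M` are killed by a power of any `f ∈ I` -/
lemma exists_pow_smul_eq_zero {f : A} (hf : f ∈ I) (M : ModuleCat.{u} A)
    (z : (DRing.gammaI I).obj M) : ∃ n : ℕ, f ^ n • z = 0 := by
  obtain ⟨n, hn⟩ := z.2
  refine ⟨n, Subtype.ext ?_⟩
  exact hn (f ^ n) (Ideal.pow_mem_pow hf n)

/-- homology classes of a complex whose terms are `f`-power torsion are `f`-power torsion -/
lemma exists_pow_smul_homology_eq_zero (G : DRing.Cx A) (f : A)
    (hG : ∀ (q : ℤ) (z : G.X q), ∃ n : ℕ, f ^ n • z = 0) (q : ℤ) (x : G.homology q) :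
    ∃ n : ℕ, f ^ n • x = 0 := by
  have hs : Function.Surjective (G.homologyπ q).hom :=
    (ModuleCat.epi_iff_surjective _).1 inferInstance
  have hi : Function.Injective (G.iCycles q).hom :=
    (ModuleCat.mono_iff_injective _).1 inferInstance
  obtain ⟨c, rfl⟩ := hs x
  obtain ⟨n, hn⟩ := hG q ((G.iCycles q).hom c)
  refine ⟨n, ?_⟩
  have h1 : f ^ n • c = 0 := by
    apply hi
    rw [map_smul, hn, map_zero]
  rw [← map_smul, h1, map_zero]

/-- the action of `f • 𝟙` on homology -/
lemma homologyMap_smul_id_apply (G : DRing.Cx A) (f : A) (q : ℤ) (x : G.homology q) :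
    (HomologicalComplex.homologyMap (f • 𝟙 G) q).hom x = f • x := by
  have hs : Function.Surjective (G.homologyπ q).hom :=
    (ModuleCat.epi_iff_surjective _).1 inferInstance
  have hi : Function.Injective (G.iCycles q).hom :=
    (ModuleCat.mono_iff_injective _).1 inferInstance
  obtain ⟨c, rfl⟩ := hs x
  have h1 : (HomologicalComplex.cyclesMap (f • 𝟙 G) q).hom c = f • c := by
    apply hi
    have := congrArg (fun t : G.cycles q ⟶ G.X q => t.hom c)
      (HomologicalComplex.cyclesMap_i (f • 𝟙 G) q)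
    simp only [ModuleCat.hom_comp, LinearMap.comp_apply] at this
    rw [this, map_smul]
    rfl
  have h2 := congrArg (fun t : G.cycles q ⟶ G.homology q => t.hom c)
    (HomologicalComplex.homologyπ_naturality (f • 𝟙 G) q)
  simp only [ModuleCat.hom_comp, LinearMap.comp_apply] at h2
  rw [h2, h1, map_smul]

/-- a complex with `f`-power torsion terms on which `f • 𝟙` is a quasi-isomorphism is acyclic -/
lemma acyclic_of_quasiIso_smul (G : DRing.Cx A) (f : A)
    (hG : ∀ (q : ℤ) (z : G.X q), ∃ n : ℕ, f ^ n • z = 0) [hq : QuasiIso (f • 𝟙 G)] :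
    G.Acyclic := by
  intro q
  rw [HomologicalComplex.exactAt_iff_isZero_homology]
  haveI : IsIso (HomologicalComplex.homologyMap (f • 𝟙 G) q) :=
    (quasiIsoAt_iff_isIso_homologyMap (f • 𝟙 G) q).1 (hq.quasiIsoAt q)
  have hb : Function.Injective (fun x : G.homology q => f • x) := by
    have := ((ConcreteCategory.isIso_iff_bijective
      (HomologicalComplex.homologyMap (f • 𝟙 G) q)).1 inferInstance).1
    intro x y hxy
    apply this
    change (HomologicalComplex.homologyMap (f • 𝟙 G) q).hom x =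
      (HomologicalComplex.homologyMap (f • 𝟙 G) q).hom y
    rw [homologyMap_smul_id_apply, homologyMap_smul_id_apply]
    exact hxy
  have hpow : ∀ (n : ℕ) (x : G.homology q), f ^ n • x = 0 → x = 0 := by
    intro n
    induction n with
    | zero => intro x hx; simpa using hx
    | succ n ih =>
      intro x hx
      apply ih
      apply hb
      change f • (f ^ n • x) = f • 0
      rw [smul_zero, smul_smul, ← pow_succ']
      exact hx
  haveI : Subsingleton (G.homology q) := ⟨fun x y => by
    obtain ⟨n, hn⟩ := exists_pow_smul_homology_eq_zero G f hG q x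
    obtain ⟨m, hm⟩ := exists_pow_smul_homology_eq_zero G f hG q y
    rw [hpow n x hn, hpow m y hm]⟩
  exact ModuleCat.isZero_of_subsingleton _

end Vanish

lemma isZero_Q_obj_of_acyclic (X : DRing.Cx A) (h : X.Acyclic) : IsZero (Q.obj X : Dual.D A) := by
  have hz : ∀ n : ℤ, IsZero ((homologyFunctor (ModuleCat.{u} A) n).obj (Q.obj X)) := fun n =>
    ((HomologicalComplex.exactAt_iff_isZero_homology _ _).1 (h n)).of_iso
      ((homologyFunctorFactors (ModuleCat.{u} A) n).app X)
  have h0 : IsZero (0 : DerivedCategory (ModuleCat.{u} A)) := isZero_zero _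
  have : IsIso (0 : Q.obj X ⟶ (0 : DerivedCategory (ModuleCat.{u} A))) := by
    rw [DerivedCategory.isIso_iff]
    intro n
    exact ⟨⟨0, (hz n).eq_of_src _ _, (Functor.map_isZero _ h0).eq_of_src _ _⟩⟩
  exact h0.of_iso (asIso (0 : Q.obj X ⟶ (0 : DerivedCategory (ModuleCat.{u} A))))

/-- **S8933** -/
theorem isZero_RgammaI_of_smul_bijective [DRing.HasRgammaI I] (K : DRing.Cx A) (f : A)
    (hf : f ∈ I) (hK : ∀ n : ℤ, Function.Bijective (fun x : K.X n => f • x)) :
    IsZero ((DRing.RgammaI I).obj (Q.obj K)) := by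
  obtain ⟨J, j, hJ, hj⟩ := KInjM.exists_kinj K
  haveI := hJ
  haveI := hj
  haveI h1 : IsIso (f • 𝟙 K) := by
    haveI : ∀ n, IsIso ((f • 𝟙 K : K ⟶ K).f n) := fun n =>
      (ConcreteCategory.isIso_iff_bijective _).2 (hK n)
    exact HomologicalComplex.Hom.isIso_of_components _
  have comm : (f • 𝟙 K) ≫ j = j ≫ (f • 𝟙 J) := by
    rw [Linear.smul_comp, Linear.comp_smul, Category.id_comp, Category.comp_id]
  haveI h3 : QuasiIso (j ≫ (f • 𝟙 J)) := by
    rw [← comm]
    infer_instance
  have h4 : QuasiIso (f • 𝟙 J) := quasiIso_of_comp_left j (f • 𝟙 J)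
  obtain ⟨e, he⟩ := (IsKInjective.quasiIso_iff (f • 𝟙 J)).1 h4
  let e' := (DRing.gammaI I).mapHomotopyEquiv e
  have h5 : QuasiIso (((DRing.gammaI I).mapHomologicalComplex (ComplexShape.up ℤ)).map
      (f • 𝟙 J)) := by
    rw [← he]
    exact (inferInstance : QuasiIso e'.hom)
  have h6 : ((DRing.gammaI I).mapHomologicalComplex (ComplexShape.up ℤ)).map (f • 𝟙 J) =
      f • 𝟙 (gammaCx I J) := by
    ext n x
    rfl
  rw [h6] at h5
  have h7 : (gammaCx I J).Acyclic :=
    acyclic_of_quasiIso_smul _ f (fun q z => exists_pow_smul_eq_zero hf (J.X q) z)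
  obtain ⟨e1⟩ := nonempty_rgammaIso I J
  haveI : IsIso (Q.map j) := by rw [isIso_Q_map_iff_quasiIso]; exact hj
  exact ((isZero_Q_obj_of_acyclic _ h7).of_iso e1).of_iso
    ((DRing.RgammaI I).mapIso (asIso (Q.map j)))

end Groth.Agent.Lib.Helper8.RGam
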