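import Mathlib
import Groth.Prelude.Def_DualLC
import Groth.Prelude.Def_DRing3
import Groth.Agent.Lib.Helper8.RGam1
import Groth.Agent.Lib.Helper8.DProd

/-!
# Helper8 — RGam2: classes of cocycles `X ⟶ J^q` in `Hom_D(X[0], J[q])` for `J` K-injective
-/

set_option autoImplicit false

universe u

open CategoryTheory CategoryTheory.Limits DerivedCategory
  CochainComplex CochainComplex.HomComplex

attribute [local instance] HasDerivedCategory.standard

namespace Groth.Agent.Lib.Helper8.RGam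

variable {A : Type u} [CommRing A]

section Cls

variable (J : DRing.Cx A) (q : ℤ)

/-- the single complex -/
noncomputable abbrev sg (X : ModuleCat.{u} A) : DRing.Cx A :=
  (CochainComplex.singleFunctor (ModuleCat.{u} A) 0).obj X

/-- the morphism `X[0] ⟶ J[q]` of `D(A)` attached to `f : X ⟶ J^q` with `d ∘ f = 0` -/
noncomputable def clsQ {X : ModuleCat.{u} A} (f : X ⟶ J.X q) (hf : f ≫ J.d q (q + 1) = 0) :
    ((Q.obj (sg X) : Dual.D A) ⟶ ((Q.obj J : Dual.D A)⟦q⟧)) :=
  Q.map (Cocycle.equivHomShift.symm (Cocycle.fromSingleMk f (zero_add q) (q + 1) rfl hf)) ≫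
    (Q.commShiftIso q).hom.app J

lemma clsQ_congr {X : ModuleCat.{u} A} {f f' : X ⟶ J.X q} (h : f = f')
    (hf : f ≫ J.d q (q + 1) = 0) :
    clsQ J q f hf = clsQ J q f' (h ▸ hf) := by
  subst h; rfl

lemma clsQ_add {X : ModuleCat.{u} A} (f g : X ⟶ J.X q) (hf : f ≫ J.d q (q + 1) = 0)
    (hg : g ≫ J.d q (q + 1) = 0) :
    clsQ J q (f + g) (by rw [Preadditive.add_comp, hf, hg, add_zero]) =
      clsQ J q f hf + clsQ J q g hg := by
  unfold clsQ
  rw [Cocycle.fromSingleMk_add f g (zero_add q) (q + 1) rfl hf hg, map_add, Functor.map_add,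
    Preadditive.add_comp]

lemma clsQ_comp {X X' : ModuleCat.{u} A} (g : X' ⟶ X) (f : X ⟶ J.X q)
    (hf : f ≫ J.d q (q + 1) = 0) :
    clsQ J q (g ≫ f) (by rw [Category.assoc, hf, Limits.comp_zero]) =
      Q.map ((CochainComplex.singleFunctor (ModuleCat.{u} A) 0).map g) ≫ clsQ J q f hf := by
  unfold clsQ
  rw [Cocycle.fromSingleMk_precomp g f (zero_add q) (q + 1) rfl hf,
    Cocycle.equivHomShift_symm_precomp, Functor.map_comp, Category.assoc]

lemma clsQ_smul {X : ModuleCat.{u} A} (a : A) (f : X ⟶ J.X q) (hf : f ≫ J.d q (q + 1) = 0) :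
    clsQ J q (a • f) (by rw [Linear.smul_comp, hf, smul_zero]) = a • clsQ J q f hf := by
  have h1 : a • f = (a • 𝟙 X) ≫ f := by rw [Linear.smul_comp, Category.id_comp]
  rw [clsQ_congr J q h1, clsQ_comp J q (a • 𝟙 X) f hf, Functor.map_smul,
    CategoryTheory.Functor.map_id, Functor.map_smul, CategoryTheory.Functor.map_id,
    Linear.smul_comp, Category.id_comp]

lemma clsQ_surjective [J.IsKInjective] {X : ModuleCat.{u} A}
    (φ : (Q.obj (sg X) : Dual.D A) ⟶ ((Q.obj J : Dual.D A)⟦q⟧)) :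
    ∃ (f : X ⟶ J.X q) (hf : f ≫ J.d q (q + 1) = 0), clsQ J q f hf = φ := by
  obtain ⟨g, hg⟩ := DProd.exists_Q_map_of_isKInjective (sg X) (J⟦q⟧)
    (φ ≫ (Q.commShiftIso q).inv.app J)
  obtain ⟨f, hf, hz⟩ := Cocycle.fromSingleMk_surjective (Cocycle.equivHomShift g) q (zero_add q)
    (q + 1) rfl
  refine ⟨f, hf, ?_⟩
  unfold clsQ
  rw [hz, AddEquiv.symm_apply_apply, ← hg, Category.assoc, Iso.inv_hom_id_app]
  exact Category.comp_id _

lemma clsQ_eq_zero_iff [J.IsKInjective] {X : ModuleCat.{u} A} (f : X ⟶ J.X q)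
    (hf : f ≫ J.d q (q + 1) = 0) :
    clsQ J q f hf = 0 ↔ ∃ g : X ⟶ J.X (q - 1), g ≫ J.d (q - 1) q = f := by
  rw [← Cocycle.fromSingleMk_mem_coboundaries_iff f (zero_add q) (q + 1) rfl hf (q - 1) (by omega),
    ← CohomologyClass.toHom_mk_eq_zero_iff, CohomologyClass.toHom_mk]
  constructor
  · intro h
    have h1 : Q.map (Cocycle.equivHomShift.symm
        (Cocycle.fromSingleMk f (zero_add q) (q + 1) rfl hf)) = 0 :=
      (cancel_mono ((Q.commShiftIso q).hom.app J)).1 (h.trans zero_comp.symm)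
    obtain ⟨H⟩ := DProd.nonempty_homotopy_zero_of_Q_map_eq_zero _ _ _ h1
    rw [HomotopyCategory.eq_of_homotopy _ _ H, Functor.map_zero]
  · intro h
    unfold clsQ
    have h1 : Q.map (Cocycle.equivHomShift.symm
        (Cocycle.fromSingleMk f (zero_add q) (q + 1) rfl hf)) = 0 := by
      have h2 : ∀ {K L : DRing.Cx A} (g : K ⟶ L), (Q.map g : (Q.obj K : Dual.D A) ⟶ Q.obj L) =
          DerivedCategory.Qh.map ((HomotopyCategory.quotient _ _).map g) := fun g => rfl
      rw [h2, h]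
      exact Functor.map_zero _ _ _
    rw [h1, zero_comp]

end Cls

end Groth.Agent.Lib.Helper8.RGam
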