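import Mathlib
import Groth.Prelude.Def_DualLC
import Groth.Prelude.Def_DRing3
import Groth.Agent.Lib.Helper8.RGam2

/-!
# Helper8 — RGam3: `H^q(RΓ_I K) ≅ colim_n Hom_D(A/I^n, K[q])`
-/

set_option autoImplicit false

universe u

open CategoryTheory CategoryTheory.Limits DerivedCategory
  CochainComplex CochainComplex.HomComplex Opposite

attribute [local instance] HasDerivedCategory.standard

namespace Groth.Agent.Lib.Helper8.RGam

variable {A : Type u} [CommRing A]

section Colim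

variable (I : Ideal A) (q : ℤ)

/-- the diagram defining `Dual2.HDI` -/
noncomputable abbrev hdiDiag (K : Dual.D A) : (ℕᵒᵖ)ᵒᵖ ⥤ ModuleCat.{u + 1} A :=
  (localCohomology.ringModIdeals (localCohomology.idealPowersDiagram I) ⋙
      DerivedCategory.singleFunctor (ModuleCat.{u} A) 0).op ⋙
    (linearYoneda A (Dual.D A)).obj (K⟦q⟧)

example (K : Dual.D A) : Dual2.HDI A I K q = colimit (hdiDiag I q K) := rfl

noncomputable instance presForget (F : (ℕᵒᵖ)ᵒᵖ ⥤ ModuleCat.{u + 1} A) :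
    PreservesColimit F (forget (ModuleCat.{u + 1} A)) := by
  haveI : PreservesFilteredColimitsOfSize.{0, 0} (forget AddCommGrpCat.{u + 1}) :=
    preservesSmallestFilteredColimits_of_preservesFilteredColimits.{u + 1, u + 1} _
  haveI : PreservesColimit F (forget₂ (ModuleCat.{u + 1} A) AddCommGrpCat.{u + 1}) := inferInstance
  haveI : PreservesColimit (F ⋙ forget₂ (ModuleCat.{u + 1} A) AddCommGrpCat.{u + 1})
    (forget AddCommGrpCat.{u + 1}) := inferInstance
  exact (inferInstance : PreservesColimit F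
    (forget₂ (ModuleCat.{u + 1} A) AddCommGrpCat.{u + 1} ⋙ forget AddCommGrpCat.{u + 1}))

variable {I}

lemma hom_ext_quot {n : ℕ} {M : ModuleCat.{u} A} {f g : ModuleCat.of A (A ⧸ I ^ n) ⟶ M}
    (h : f.hom (Submodule.Quotient.mk 1) = g.hom (Submodule.Quotient.mk 1)) : f = g := by
  apply ModuleCat.hom_ext
  apply Submodule.linearMap_qext
  apply LinearMap.ext_ring
  exact h

variable (I) (J : DRing.Cx A)

/-- the map `A/I^n ⟶ J^q`, `1 ↦ x` -/
noncomputable def qmap (n : ℕ) (x : J.X q) (hx : ∀ a ∈ I ^ n, a • x = 0) :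
    ModuleCat.of A (A ⧸ I ^ n) ⟶ J.X q :=
  ModuleCat.ofHom (Submodule.liftQ (I ^ n) (LinearMap.toSpanSingleton A (J.X q) x)
    (fun a ha => by
      rw [LinearMap.mem_ker, LinearMap.toSpanSingleton_apply]
      exact hx a ha))

lemma qmap_one (n : ℕ) (x : J.X q) (hx : ∀ a ∈ I ^ n, a • x = 0) :
    (qmap I q J n x hx).hom (Submodule.Quotient.mk 1) = x := by
  change (Submodule.liftQ (I ^ n) (LinearMap.toSpanSingleton A (J.X q) x) _)
    (Submodule.Quotient.mk 1) = x
  rw [Submodule.liftQ_apply, LinearMap.toSpanSingleton_apply, one_smul]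

lemma qmap_eq (n : ℕ) (f : ModuleCat.of A (A ⧸ I ^ n) ⟶ J.X q)
    (hx : ∀ a ∈ I ^ n, a • f.hom (Submodule.Quotient.mk 1) = 0) :
    qmap I q J n (f.hom (Submodule.Quotient.mk 1)) hx = f :=
  hom_ext_quot (qmap_one I q J n _ hx)

lemma smul_hom_one_eq_zero (n : ℕ) {M : ModuleCat.{u} A} (f : ModuleCat.of A (A ⧸ I ^ n) ⟶ M)
    (a : A) (ha : a ∈ I ^ n) : a • f.hom (Submodule.Quotient.mk 1) = 0 := by
  rw [← map_smul, ← Submodule.Quotient.mk_smul, smul_eq_mul, mul_one,
    (Submodule.Quotient.mk_eq_zero _).2 ha, map_zero]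

lemma qmap_d (n : ℕ) (x : J.X q) (hx : ∀ a ∈ I ^ n, a • x = 0)
    (hd : (J.d q (q + 1)).hom x = 0) : qmap I q J n x hx ≫ J.d q (q + 1) = 0 := by
  apply hom_ext_quot
  rw [ModuleCat.hom_comp, LinearMap.comp_apply, qmap_one, hd]
  rfl

lemma qmap_add (n : ℕ) (x y : J.X q) (hx : ∀ a ∈ I ^ n, a • x = 0) (hy : ∀ a ∈ I ^ n, a • y = 0) :
    qmap I q J n (x + y) (fun a ha => by rw [smul_add, hx a ha, hy a ha, add_zero]) =
      qmap I q J n x hx + qmap I q J n y hy := by
  apply hom_ext_quot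
  rw [ModuleCat.hom_add, LinearMap.add_apply, qmap_one, qmap_one, qmap_one]

lemma qmap_smul (n : ℕ) (c : A) (x : J.X q) (hx : ∀ a ∈ I ^ n, a • x = 0) :
    qmap I q J n (c • x) (fun a ha => by rw [smul_comm, hx a ha, smul_zero]) =
      c • qmap I q J n x hx := by
  apply hom_ext_quot
  rw [ModuleCat.hom_smul, LinearMap.smul_apply, qmap_one, qmap_one]

/-- the element of the `n`-th term of the diagram attached to a cocycle `x` killed by `I^n` -/
noncomputable def elt (n : ℕ) (x : J.X q) (hx : ∀ a ∈ I ^ n, a • x = 0)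
    (hd : (J.d q (q + 1)).hom x = 0) :
    ((hdiDiag I q (Q.obj J)).obj (op (op n)) : ModuleCat.{u + 1} A) :=
  by exact clsQ J q (X := ModuleCat.of A (A ⧸ I ^ n)) (qmap I q J n x hx) (qmap_d I q J n x hx hd)

lemma elt_def (n : ℕ) (x : J.X q) (hx : ∀ a ∈ I ^ n, a • x = 0)
    (hd : (J.d q (q + 1)).hom x = 0) :
    elt I q J n x hx hd =
      clsQ J q (X := ModuleCat.of A (A ⧸ I ^ n)) (qmap I q J n x hx) (qmap_d I q J n x hx hd) :=
  rfl

lemma elt_add (n : ℕ) (x y : J.X q) (hx : ∀ a ∈ I ^ n, a • x = 0) (hy : ∀ a ∈ I ^ n, a • y = 0)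
    (hdx : (J.d q (q + 1)).hom x = 0) (hdy : (J.d q (q + 1)).hom y = 0) :
    elt I q J n (x + y) (fun a ha => by rw [smul_add, hx a ha, hy a ha, add_zero])
      (by rw [map_add, hdx, hdy, add_zero]) = elt I q J n x hx hdx + elt I q J n y hy hdy := by
  rw [elt_def, elt_def, elt_def, clsQ_congr J q (qmap_add I q J n x y hx hy)]
  exact clsQ_add J q _ _ _ _

lemma elt_smul (n : ℕ) (c : A) (x : J.X q) (hx : ∀ a ∈ I ^ n, a • x = 0)
    (hdx : (J.d q (q + 1)).hom x = 0) :
    elt I q J n (c • x) (fun a ha => by rw [smul_comm, hx a ha, smul_zero])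
      (by rw [map_smul, hdx, smul_zero]) = c • elt I q J n x hx hdx := by
  rw [elt_def, elt_def, clsQ_congr J q (qmap_smul I q J n c x hx)]
  exact clsQ_smul J q _ _ _

lemma elt_mono {n m : ℕ} (h : n ≤ m) (x : J.X q) (hx : ∀ a ∈ I ^ n, a • x = 0)
    (hd : (J.d q (q + 1)).hom x = 0) (ψ : (op (op n) : (ℕᵒᵖ)ᵒᵖ) ⟶ op (op m)) :
    ((hdiDiag I q (Q.obj J)).map ψ).hom (elt I q J n x hx hd) =
      elt I q J m x (fun a ha => hx a (Ideal.pow_le_pow_right h ha)) hd := by
  have h1 : (localCohomology.ringModIdeals (localCohomology.idealPowersDiagram I)).map ψ.unop ≫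
      qmap I q J n x hx = qmap I q J m x (fun a ha => hx a (Ideal.pow_le_pow_right h ha)) := by
    apply hom_ext_quot
    rw [qmap_one]
    exact qmap_one I q J n x hx
  rw [elt_def, elt_def]
  exact (clsQ_comp J q
    ((localCohomology.ringModIdeals (localCohomology.idealPowersDiagram I)).map ψ.unop)
    (qmap I q J n x hx) (qmap_d I q J n x hx hd)).symm.trans (clsQ_congr J q h1 _)

/-- the class in the colimit -/
noncomputable def ιelt (n : ℕ) (x : J.X q) (hx : ∀ a ∈ I ^ n, a • x = 0)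
    (hd : (J.d q (q + 1)).hom x = 0) : (Dual2.HDI A I (Q.obj J) q : ModuleCat.{u + 1} A) :=
  (colimit.ι (hdiDiag I q (Q.obj J)) (op (op n))).hom (elt I q J n x hx hd)

lemma ιelt_mono {n m : ℕ} (h : n ≤ m) (x : J.X q) (hx : ∀ a ∈ I ^ n, a • x = 0)
    (hd : (J.d q (q + 1)).hom x = 0) :
    ιelt I q J n x hx hd =
      ιelt I q J m x (fun a ha => hx a (Ideal.pow_le_pow_right h ha)) hd := by
  unfold ιelt
  rw [← elt_mono I q J h x hx hd (homOfLE h).op.op, ← LinearMap.comp_apply, ← ModuleCat.hom_comp,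
    colimit.w]

lemma ιelt_indep (n m : ℕ) (x : J.X q) (hx : ∀ a ∈ I ^ n, a • x = 0)
    (hx' : ∀ a ∈ I ^ m, a • x = 0) (hd : (J.d q (q + 1)).hom x = 0) :
    ιelt I q J n x hx hd = ιelt I q J m x hx' hd := by
  rw [ιelt_mono I q J (le_max_left n m) x hx hd, ιelt_mono I q J (le_max_right n m) x hx' hd]

lemma ιelt_add (n : ℕ) (x y : J.X q) (hx : ∀ a ∈ I ^ n, a • x = 0) (hy : ∀ a ∈ I ^ n, a • y = 0)
    (hdx : (J.d q (q + 1)).hom x = 0) (hdy : (J.d q (q + 1)).hom y = 0) :
    ιelt I q J n (x + y) (fun a ha => by rw [smul_add, hx a ha, hy a ha, add_zero])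
      (by rw [map_add, hdx, hdy, add_zero]) = ιelt I q J n x hx hdx + ιelt I q J n y hy hdy := by
  unfold ιelt
  rw [elt_add I q J n x y hx hy hdx hdy, map_add]

lemma ιelt_smul (n : ℕ) (c : A) (x : J.X q) (hx : ∀ a ∈ I ^ n, a • x = 0)
    (hdx : (J.d q (q + 1)).hom x = 0) :
    ιelt I q J n (c • x) (fun a ha => by rw [smul_comm, hx a ha, smul_zero])
      (by rw [map_smul, hdx, smul_zero]) = c • ιelt I q J n x hx hdx := by
  unfold ιelt
  rw [elt_smul I q J n c x hx hdx, map_smul]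

/-- the underlying element of an element of `Γ_I(J^i)` -/
def tval (i : ℤ) (y : (gammaCx I J).X i) : J.X i := (y : DRing.torsionSub I (J.X i)).1

lemma tval_mem (i : ℤ) (y : (gammaCx I J).X i) : ∃ n : ℕ, ∀ a ∈ I ^ n, a • tval I J i y = 0 :=
  (y : DRing.torsionSub I (J.X i)).2

lemma tval_d (i j : ℤ) (y : (gammaCx I J).X i) :
    tval I J j (((gammaCx I J).d i j).hom y) = (J.d i j).hom (tval I J i y) := rfl

lemma tval_injective (i : ℤ) : Function.Injective (tval I J i) := fun _ _ h => Subtype.ext h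

lemma tval_add (i : ℤ) (y y' : (gammaCx I J).X i) :
    tval I J i (y + y') = tval I J i y + tval I J i y' := rfl

lemma tval_smul (i : ℤ) (c : A) (y : (gammaCx I J).X i) :
    tval I J i (c • y) = c • tval I J i y := rfl

lemma tval_zero (i : ℤ) : tval I J i 0 = 0 := rfl

/-- an element of `Γ_I(J^i)` from an element killed by `I^n` -/
def tmk (i : ℤ) (x : J.X i) (n : ℕ) (hx : ∀ a ∈ I ^ n, a • x = 0) : (gammaCx I J).X i :=
  (⟨x, ⟨n, hx⟩⟩ : DRing.torsionSub I (J.X i))

lemma tval_tmk (i : ℤ) (x : J.X i) (n : ℕ) (hx : ∀ a ∈ I ^ n, a • x = 0) :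
    tval I J i (tmk I J i x n hx) = x := rfl

lemma hd_of_mem_ker (z : LinearMap.ker ((gammaCx I J).d q (q + 1)).hom) :
    (J.d q (q + 1)).hom (tval I J q z.1) = 0 := by
  rw [← tval_d, LinearMap.mem_ker.1 z.2]
  rfl

/-- the class of a cocycle of `Γ_I J` -/
noncomputable def phiFun (z : LinearMap.ker ((gammaCx I J).d q (q + 1)).hom) :
    (Dual2.HDI A I (Q.obj J) q : ModuleCat.{u + 1} A) :=
  ιelt I q J (Classical.choose (tval_mem I J q z.1)) (tval I J q z.1)
    (Classical.choose_spec (tval_mem I J q z.1)) (hd_of_mem_ker I q J z)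

lemma phiFun_eq (z : LinearMap.ker ((gammaCx I J).d q (q + 1)).hom) (n : ℕ)
    (hn : ∀ a ∈ I ^ n, a • tval I J q z.1 = 0) :
    phiFun I q J z = ιelt I q J n (tval I J q z.1) hn (hd_of_mem_ker I q J z) :=
  ιelt_indep I q J _ _ _ _ _ _

/-- the linear map from cocycles of `Γ_I J` to the colimit -/
noncomputable def phi : LinearMap.ker ((gammaCx I J).d q (q + 1)).hom →ₗ[A]
    (Dual2.HDI A I (Q.obj J) q : ModuleCat.{u + 1} A) where
  toFun := phiFun I q J
  map_add' z w := by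
    obtain ⟨a, ha⟩ := tval_mem I J q z.1
    obtain ⟨b, hb⟩ := tval_mem I J q w.1
    have ha' : ∀ c ∈ I ^ max a b, c • tval I J q z.1 = 0 :=
      fun c hc => ha c (Ideal.pow_le_pow_right (le_max_left a b) hc)
    have hb' : ∀ c ∈ I ^ max a b, c • tval I J q w.1 = 0 :=
      fun c hc => hb c (Ideal.pow_le_pow_right (le_max_right a b) hc)
    have hab : ∀ c ∈ I ^ max a b, c • tval I J q (z + w).1 = 0 := by
      intro c hc
      change c • (tval I J q z.1 + tval I J q w.1) = 0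
      rw [smul_add, ha' c hc, hb' c hc, add_zero]
    rw [phiFun_eq I q J z _ ha', phiFun_eq I q J w _ hb', phiFun_eq I q J (z + w) _ hab]
    exact ιelt_add I q J _ _ _ ha' hb' _ _
  map_smul' c z := by
    obtain ⟨a, ha⟩ := tval_mem I J q z.1
    have hca : ∀ e ∈ I ^ a, e • tval I J q (c • z).1 = 0 := by
      intro e he
      change e • c • tval I J q z.1 = 0
      rw [smul_comm, ha e he, smul_zero]
    rw [phiFun_eq I q J z _ ha, phiFun_eq I q J (c • z) _ hca]
    exact ιelt_smul I q J _ c _ ha _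

theorem phi_surjective [J.IsKInjective] : Function.Surjective (phi I q J) := by
  intro ξ
  obtain ⟨j, y, rfl⟩ := Concrete.colimit_exists_rep (hdiDiag I q (Q.obj J)) ξ
  obtain ⟨⟨n⟩⟩ := j
  obtain ⟨f, hf, rfl⟩ := clsQ_surjective J q (X := ModuleCat.of A (A ⧸ I ^ n)) y
  have hx : ∀ a ∈ I ^ n, a • f.hom (Submodule.Quotient.mk 1) = 0 := smul_hom_one_eq_zero I n f
  have hd : (J.d q (q + 1)).hom (f.hom (Submodule.Quotient.mk 1)) = 0 := by
    have h1 := congrArg (fun g => g.hom (Submodule.Quotient.mk 1)) hf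
    exact h1
  have hmem : tmk I J q _ n hx ∈ LinearMap.ker ((gammaCx I J).d q (q + 1)).hom := by
    rw [LinearMap.mem_ker]
    apply tval_injective
    rw [tval_d, tval_tmk, hd]
    rfl
  refine ⟨⟨tmk I J q _ n hx, hmem⟩, ?_⟩
  change phiFun I q J _ = _
  rw [phiFun_eq I q J ⟨tmk I J q _ n hx, hmem⟩ n hx]
  unfold ιelt
  rw [elt_def]
  congr 1
  exact clsQ_congr J q (qmap_eq I q J n f hx) _

theorem phi_eq_zero_iff [J.IsKInjective] (z : LinearMap.ker ((gammaCx I J).d q (q + 1)).hom) :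
    phi I q J z = 0 ↔ ∃ y : (gammaCx I J).X (q - 1), ((gammaCx I J).d (q - 1) q).hom y = z.1 := by
  obtain ⟨n, hn⟩ := tval_mem I J q z.1
  change phiFun I q J z = 0 ↔ _
  constructor
  · intro h
    rw [phiFun_eq I q J z n hn] at h
    obtain ⟨j', i, hi⟩ := Concrete.colimit_rep_eq_zero A (hdiDiag I q (Q.obj J)) (op (op n)) _ h
    obtain ⟨⟨m⟩⟩ := j'
    have hnm : n ≤ m := i.unop.unop.le
    rw [elt_mono I q J hnm _ hn _ i, elt_def] at hi
    obtain ⟨g, hg⟩ := (clsQ_eq_zero_iff J q _ _).1 hi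
    have hy : ∀ a ∈ I ^ m, a • g.hom (Submodule.Quotient.mk 1) = 0 := smul_hom_one_eq_zero I m g
    refine ⟨tmk I J (q - 1) _ m hy, ?_⟩
    apply tval_injective
    rw [tval_d, tval_tmk]
    have h1 := congrArg (fun g => g.hom (Submodule.Quotient.mk 1)) hg
    exact h1.trans (qmap_one I q J m _ _)
  · rintro ⟨y, hy⟩
    obtain ⟨m, hm⟩ := tval_mem I J (q - 1) y
    have hz : tval I J q z.1 = (J.d (q - 1) q).hom (tval I J (q - 1) y) := by
      rw [← hy, tval_d]
    have hm' : ∀ a ∈ I ^ m, a • tval I J q z.1 = 0 := by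
      intro a ha
      rw [hz, ← map_smul, hm a ha, map_zero]
    rw [phiFun_eq I q J z m hm']
    unfold ιelt
    rw [elt_def]
    have h0 : clsQ J q (X := ModuleCat.of A (A ⧸ I ^ m)) (qmap I q J m (tval I J q z.1) hm')
        (qmap_d I q J m _ hm' (hd_of_mem_ker I q J z)) = 0 := by
      rw [clsQ_eq_zero_iff]
      refine ⟨qmap I (q - 1) J m (tval I J (q - 1) y) hm, ?_⟩
      apply hom_ext_quot
      rw [ModuleCat.hom_comp, LinearMap.comp_apply, qmap_one, qmap_one, hz]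
    rw [h0]
    exact LinearMap.map_zero _

end Colim

section Final

universe v

/-- homology of a complex of modules from a surjection of the cycles with kernel the boundaries
(target in any universe) -/
theorem homology_equiv_of_surjective' (C : DRing.Cx A) (n : ℤ) (H : Type v) [AddCommGroup H]
    [Module A H] (φ : LinearMap.ker (C.d n (n + 1)).hom →ₗ[A] H) (hφ : Function.Surjective φ)
    (hker : ∀ z, φ z = 0 ↔ ∃ y : C.X (n - 1), (C.d (n - 1) n).hom y = z.1) :
    Nonempty (C.homology n ≃ₗ[A] H) := by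
  let iso1 : C.homology n ≅ (C.sc' (n - 1) n (n + 1)).homology :=
    C.homologyIsoSc' (n - 1) n (n + 1) (by simp) (by simp)
  let iso2 := (C.sc' (n - 1) n (n + 1)).moduleCatHomologyIso
  have hrange : LinearMap.range (C.sc' (n - 1) n (n + 1)).moduleCatToCycles = LinearMap.ker φ := by
    ext z
    constructor
    · rintro ⟨y, rfl⟩
      exact (hker _).2 ⟨y, rfl⟩
    · intro hz
      obtain ⟨y, hy⟩ := (hker z).1 hz
      exact ⟨y, Subtype.ext hy⟩
  exact ⟨(iso1 ≪≫ iso2).toLinearEquiv.trans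
    ((Submodule.quotEquivOfEq _ _ hrange).trans (φ.quotKerEquivOfSurjective hφ))⟩

variable (I : Ideal A) (q : ℤ)

theorem nonempty_homology_equiv_HDI (J : DRing.Cx A) [J.IsKInjective] :
    Nonempty ((gammaCx I J).homology q ≃ₗ[A] (Dual2.HDI A I (Q.obj J) q : ModuleCat.{u + 1} A)) :=
  homology_equiv_of_surjective' _ _ _ (phi I q J) (phi_surjective I q J) (phi_eq_zero_iff I q J)

/-- `H^q(RΓ_I K) ≅ colim_n Hom_D(A/I^n, K[q])` -/
theorem nonempty_HD_RgammaI_equiv_HDI [DRing.HasRgammaI I] (K : Dual.D A) :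
    Nonempty (Dual.HD A ((DRing.RgammaI I).obj K) q ≃ₗ[A] Dual2.HDI A I K q) := by
  obtain ⟨J, hJ, ⟨e⟩⟩ := KInjM.exists_kinj_rep K
  haveI := hJ
  obtain ⟨e1⟩ := nonempty_rgammaIso I J
  obtain ⟨e2⟩ := nonempty_homology_equiv_HDI I q J
  let e3 : (DerivedCategory.homologyFunctor (ModuleCat.{u} A) q).obj ((DRing.RgammaI I).obj K) ≅
      (gammaCx I J).homology q :=
    (DerivedCategory.homologyFunctor (ModuleCat.{u} A) q).mapIso
      ((DRing.RgammaI I).mapIso e.symm ≪≫ e1) ≪≫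
      (DerivedCategory.homologyFunctorFactors (ModuleCat.{u} A) q).app (gammaCx I J)
  let e4 : colimit (hdiDiag I q K) ≅ colimit (hdiDiag I q (Q.obj J)) :=
    HasColimit.isoOfNatIso (Functor.isoWhiskerLeft _
      ((linearYoneda A (Dual.D A)).mapIso ((CategoryTheory.shiftFunctor (Dual.D A) q).mapIso e.symm)))
  exact ⟨e3.toLinearEquiv.trans (e2.trans e4.symm.toLinearEquiv)⟩

end Final

end Groth.Agent.Lib.Helper8.RGam
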