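import Mathlib
import Groth.Prelude.Def_DRing3
import Groth.Agent.Lib.Helper8.KInjM2

/-!
# Helper8 — RGam4: K-injective resolutions of unbounded complexes of modules with injective terms
-/

set_option autoImplicit false

universe w' w v u

open CategoryTheory CategoryTheory.Limits CategoryTheory.Pretriangulated DerivedCategory

namespace Groth.Agent.Lib.Helper8.KInjM

section General

variable {C : Type u} [Category.{v} C] [Abelian C]

/-- the point of a limit fan of injective objects is injective -/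
lemma injective_of_isLimit {J : Type w} {F : Discrete J ⥤ C} (c : Cone F) (hc : IsLimit c)
    (h : ∀ j, Injective (F.obj j)) : Injective c.pt where
  factors {X Y} g f _ := by
    refine ⟨hc.lift ⟨Y, Discrete.natTrans (fun j => Injective.factorThru (g ≫ c.π.app j) f)⟩, ?_⟩
    apply hc.hom_ext
    intro j
    rw [Category.assoc, hc.fac]
    exact Injective.comp_factorThru _ _

/-- the terms of a product of complexes with injective terms are injective -/
lemma injective_pi_X {J : Type w} [HasLimitsOfShape (Discrete J) C]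
    (I : J → CochainComplex C ℤ) (h : ∀ j n, Injective ((I j).X n)) (n : ℤ) :
    Injective ((∏ᶜ I).X n) :=
  injective_of_isLimit _ (DProd.isLimitEval I n) (fun j => h j.as n)

/-- the terms of the mapping cone of a map between complexes with injective terms are
injective -/
lemma injective_mappingCone_X {K L : CochainComplex C ℤ} (φ : K ⟶ L)
    (hK : ∀ n, Injective (K.X n)) (hL : ∀ n, Injective (L.X n)) (n : ℤ) :
    Injective ((CochainComplex.mappingCone φ).X n) := by
  have := hK (n + 1)
  have := hL n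
  exact Injective.of_iso (HomologicalComplex.homotopyCofiber.XIsoBiprod φ n (n + 1) rfl).symm inferInstance

lemma injective_mappingCocone_X {K L : CochainComplex C ℤ} (φ : K ⟶ L)
    (hK : ∀ n, Injective (K.X n)) (hL : ∀ n, Injective (L.X n)) (n : ℤ) :
    Injective ((CochainComplex.mappingCocone φ).X n) :=
  injective_mappingCone_X φ hK hL (n + (-1))

variable [HasDerivedCategory.{w} C]

lemma exists_rep_inj [EnoughInjectives C] (X : DerivedCategory C) (a : ℤ) [X.IsGE a] :
    ∃ I : CochainComplex C ℤ, I.IsKInjective ∧ (∀ n, Injective (I.X n)) ∧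
      Nonempty (Q.obj I ≅ X) := by
  obtain ⟨X', hX', ⟨e⟩⟩ := X.exists_iso_Q_obj_of_isGE a
  obtain ⟨L, i, hi, hL, hLs⟩ :=
    CochainComplex.Plus.modelCategoryQuillen.exists_quasiIso_injective X' a
  exact ⟨L, CochainComplex.isKInjective_of_injective L a, hL,
    ⟨(asIso (Q.map i)).symm ≪≫ e.symm⟩⟩

/-- the fibre of a map between objects represented by K-injectives with injective terms -/
lemma exists_rep_of_triangle_inj (T : Triangle (DerivedCategory C)) (hT : T ∈ distTriang _)
    (I₂ I₃ : CochainComplex C ℤ) [I₂.IsKInjective] [I₃.IsKInjective]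
    (h₂ : ∀ n, Injective (I₂.X n)) (h₃ : ∀ n, Injective (I₃.X n))
    (e₂ : Q.obj I₂ ≅ T.obj₂) (e₃ : Q.obj I₃ ≅ T.obj₃) :
    ∃ J : CochainComplex C ℤ, J.IsKInjective ∧ (∀ n, Injective (J.X n)) ∧
      Nonempty (Q.obj J ≅ T.obj₁) := by
  obtain ⟨φ, hφ⟩ := DProd.exists_Q_map_of_isKInjective I₂ I₃ (e₂.hom ≫ T.mor₂ ≫ e₃.inv)
  let T' := Q.mapTriangle.obj (CochainComplex.mappingCocone.triangle φ)
  have hT' : T' ∈ distTriang _ := mappingCocone_triangle_distinguished φ
  let E := isoTriangleOfIso₁₂ T'.rotate T.rotate (rot_of_distTriang _ hT') (rot_of_distTriang _ hT)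
    e₂ e₃ (by
      change Q.map φ ≫ e₃.hom = e₂.hom ≫ T.mor₂
      rw [← hφ]
      simp)
  let e1 : (Q.obj (CochainComplex.mappingCocone φ))⟦(1 : ℤ)⟧ ≅ (T.obj₁)⟦(1 : ℤ)⟧ :=
    Triangle.π₃.mapIso E
  exact ⟨CochainComplex.mappingCocone φ, inferInstance, injective_mappingCocone_X φ h₂ h₃,
    ⟨(shiftFunctor (DerivedCategory C) (1 : ℤ)).preimageIso e1⟩⟩

end General

attribute [local instance] HasDerivedCategory.standard

variable {A : Type u} [CommRing A]

/-- every object of `D(A)` is represented by a K-injective complex with injective terms -/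
theorem exists_kinj_rep_inj (X : Dual.D A) : ∃ I : CochainComplex (ModuleCat.{u} A) ℤ,
    I.IsKInjective ∧ (∀ n, Injective (I.X n)) ∧ Nonempty (Q.obj I ≅ X) := by
  obtain ⟨L, a, c, hT, ⟨e⟩⟩ := exists_holim X
  choose I hI hI' eI using fun n => exists_rep_inj (Xn X n) (-(n : ℤ))
  let eP : Q.obj (∏ᶜ I) ≅ ∏ᶜ (Xn X) :=
    (DProd.isLimitFan (Xn X) I (fun n => (eI n).some)).conePointUniqueUpToIso
      (productIsProduct (Xn X))
  have : (∏ᶜ I).IsKInjective := DProd.isKInjective_pi I
  obtain ⟨J, hJ, hJ', ⟨eJ⟩⟩ := exists_rep_of_triangle_inj _ hT (∏ᶜ I) (∏ᶜ I)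
    (injective_pi_X I hI') (injective_pi_X I hI') eP eP
  exact ⟨J, hJ, hJ', ⟨eJ ≪≫ e.symm⟩⟩

end Groth.Agent.Lib.Helper8.KInjM
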