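import Mathlib
import Groth.Prelude.Def_DualLC
import Groth.Prelude.Def_DRing3
import Groth.Agent.Lib.Helper8.RGam3
import Groth.Agent.Lib.Helper8.RGam4
import Groth.Agent.Lib.Helper2.LCCech4

/-!
# Helper8 — RGam5: over a Noetherian ring, `RΓ_I K ⟶ K` is an isomorphism when the cohomology of `K`
is `I`-power torsion (torsion subcomplexes of K-injective resolutions with injective terms; uses
Helper2's `LCCech3`/`LCInj2` divisibility theory)
-/

set_option autoImplicit false

universe u

open CategoryTheory CategoryTheory.Limits DerivedCategory CochainComplex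

attribute [local instance] HasDerivedCategory.standard

namespace Groth.Agent.Lib.Helper8.RGam

open Groth.Agent.Lib.Helper2.LCCech3 Groth.Agent.Lib.Helper2.LCCech4
  Groth.Agent.Lib.Helper2.LCInj1 Groth.Agent.Lib.Helper2.LCInj2

variable {A : Type u} [CommRing A]

/-- complexes of injectives over a Noetherian ring are divisible -/
theorem div_of_injective [IsNoetherianRing A] (J : DRing.Cx A) (hJ : ∀ n, Injective (J.X n)) :
    Div J := by
  intro f l n x hx N
  obtain ⟨k, hk⟩ := exists_kills_of_mem_torSub l hx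
  have hinj : CategoryTheory.Injective (ModuleCat.of A (J.X n)) := hJ n
  have : Module.Injective A (J.X n) := Module.injective_module_of_injective_object A (J.X n)
  obtain ⟨e', K, c, he', hdiv⟩ := exists_div (Ideal.span {y | y ∈ l}) f (J.X n) x k hk N
  exact ⟨e', mem_torSub_of_kills l he', c, hdiv⟩

lemma torsionSub_eq_torSub (fs : List A) (X : Type u) [AddCommGroup X] [Module A X] :
    DRing.torsionSub (Ideal.span {y | y ∈ fs}) X = torSub fs X := by
  ext x
  constructor
  · rintro ⟨n, hn⟩
    exact mem_torSub_of_kills fs (k := n) hn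
  · intro hx
    obtain ⟨k, hk⟩ := exists_kills_of_mem_torSub fs hx
    exact ⟨k, hk⟩

variable (I : Ideal A)

/-- the inclusion `Γ_I J ⟶ J` -/
noncomputable def gincl (J : DRing.Cx A) : gammaCx I J ⟶ J where
  f n := ModuleCat.ofHom (DRing.torsionSub I (J.X n)).subtype
  comm' i j _ := by
    ext x
    rfl

/-- the torsion subcomplex inclusion -/
noncomputable abbrev tincl (l : List A) (J : DRing.Cx A) : torL l J ⟶ J :=
  subCxι J (fun n => torSub l (J.X n)) (fun i j _ hx => torSub_map (J.d i j).hom hx)

/-- `Γ_I J ≅ torL fs J` for `I = (fs)` -/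
noncomputable def gammaTorIso (fs : List A) (J : DRing.Cx A) :
    gammaCx (Ideal.span {y | y ∈ fs}) J ≅ torL fs J :=
  HomologicalComplex.Hom.isoOfComponents
    (fun n => (LinearEquiv.ofEq _ _ (torsionSub_eq_torSub fs (J.X n))).toModuleIso)
    (fun i j _ => by
      ext x
      rfl)

lemma gammaTorIso_hom_tincl (fs : List A) (J : DRing.Cx A) :
    (gammaTorIso fs J).hom ≫ tincl fs J = gincl (Ideal.span {y | y ∈ fs}) J := by
  ext n x
  rfl

lemma quasiIso_gincl_iff (fs : List A) (J : DRing.Cx A) :
    QuasiIso (gincl (Ideal.span {y | y ∈ fs}) J) ↔ QuasiIso (tincl fs J) := by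
  rw [← gammaTorIso_hom_tincl]
  exact quasiIso_iff_comp_left _ _

section Eps

variable (J : DRing.Cx A)

lemma gammaIτ_app :
    (DRing.gammaIτ I).app ((HomotopyCategory.quotient _ _).obj J) = Q.map (gincl I J) := by
  refine (Quotient.natTransLift_app _ _ _ (DRing.gammaIτ0 I) J).trans ?_
  simp only [DRing.gammaIτ0, NatTrans.comp_app, Functor.associator_inv_app,
    Functor.associator_hom_app, Functor.whiskerRight_app, Functor.leftUnitor_hom_app,
    Category.id_comp]
  have h1 : (Qh.map (((DRing.gammaI I).mapHomotopyCategoryFactors (ComplexShape.up ℤ)).hom.app J) :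
      (DRing.gammaIKh I).obj ((HomotopyCategory.quotient _ _).obj J) ⟶ _) = 𝟙 _ := Qh.map_id _
  have h2 : (NatTrans.mapHomologicalComplex (DRing.gammaIι I) (ComplexShape.up ℤ)).app J ≫
      (Functor.mapHomologicalComplexIdIso (ModuleCat.{u} A) (ComplexShape.up ℤ)).hom.app J =
      gincl I J := by
    ext n x
    rfl
  have key : ∀ {P R S : Dual.D A} (x : P ⟶ P) (a : P ⟶ R) (b : R ⟶ S) (_ : x = 𝟙 P),
      x ≫ a ≫ b ≫ 𝟙 S = a ≫ b := by
    intro P R S x a b hx
    subst hx
    simp
  refine (key _ _ _ h1).trans ?_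
  refine (Functor.map_comp (HomotopyCategory.quotient (ModuleCat.{u} A) (ComplexShape.up ℤ) ⋙ Qh)
    _ _).symm.trans ?_
  rw [h2]
  rfl

theorem isIso_RgammaIε_app_iff [DRing.HasRgammaI I] [hJ : J.IsKInjective] :
    IsIso ((DRing.RgammaIε I).app (Q.obj J)) ↔ QuasiIso (gincl I J) := by
  have hK := KInjDer.hK_of_complexes (A := ModuleCat.{u} A) KInjM.exists_kinj
  let X : HomotopyCategory (ModuleCat.{u} A) (ComplexShape.up ℤ) :=
    (HomotopyCategory.quotient _ _).obj J
  have hX : KInjDer.kinj X := hJ
  have hη : IsIso (((DRing.gammaIKh I).totalRightDerivedUnit DerivedCategory.Qh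
      (HomotopyCategory.quasiIso (ModuleCat.{u} A) (ComplexShape.up ℤ))).app X) :=
    KInjDer.isIso_unit hK (DRing.gammaIKh I) X hX
  have fac : ((DRing.gammaIKh I).totalRightDerivedUnit DerivedCategory.Qh
      (HomotopyCategory.quasiIso (ModuleCat.{u} A) (ComplexShape.up ℤ))).app X ≫
      (DRing.RgammaIε I).app (Qh.obj X) = Q.map (gincl I J) := by
    have h1 := Functor.rightDerived_fac_app (DRing.RgammaI I)
      ((DRing.gammaIKh I).totalRightDerivedUnit DerivedCategory.Qh
        (HomotopyCategory.quasiIso (ModuleCat.{u} A) (ComplexShape.up ℤ)))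
      (HomotopyCategory.quasiIso (ModuleCat.{u} A) (ComplexShape.up ℤ)) (𝟭 (Dual.D A))
      (DRing.gammaIτ I ≫ (Functor.rightUnitor _).inv) X
    refine h1.trans ?_
    rw [NatTrans.comp_app, Functor.rightUnitor_inv_app]
    refine (Category.comp_id _).trans ?_
    exact gammaIτ_app I J
  rw [← isIso_Q_map_iff_quasiIso, ← fac]
  constructor
  · intro h
    exact IsIso.comp_isIso' hη h
  · intro h
    exact @IsIso.of_isIso_comp_left _ _ _ _ _
      (((DRing.gammaIKh I).totalRightDerivedUnit DerivedCategory.Qh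
        (HomotopyCategory.quasiIso (ModuleCat.{u} A) (ComplexShape.up ℤ))).app X)
      ((DRing.RgammaIε I).app (Qh.obj X)) hη h

end Eps

section Induction

open DerCA

/-- in a short exact sequence of complexes with acyclic cokernel, the inclusion is a
quasi-isomorphism -/
lemma quasiIso_f_of_acyclic (S : ShortComplex (DRing.Cx A)) (hS : S.ShortExact)
    (h3 : S.X₃.Acyclic) : QuasiIso S.f := by
  have hT := DerivedCategory.triangleOfSES_distinguished hS
  have hz : IsZero (DerivedCategory.triangleOfSES hS).obj₃ := isZero_Q_obj_of_acyclic _ h3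
  have h1 : IsIso (DerivedCategory.triangleOfSES hS).mor₁ :=
    (Pretriangulated.Triangle.isZero₃_iff_isIso₁ _ hT).1 hz
  rw [← isIso_Q_map_iff_quasiIso]
  exact h1

lemma isZero_locFunctor_of_torsion (f : A) (M : ModuleCat.{u} A)
    (h : ∀ x : M, ∃ m : ℕ, f ^ m • x = 0) :
    IsZero ((locFunctor (Submonoid.powers f)).obj M) := by
  haveI : Subsingleton ((locFunctor (Submonoid.powers f)).obj M) := by
    change Subsingleton (LocalizedModule (Submonoid.powers f) M)
    refine ⟨fun x y => ?_⟩
    have h0 : ∀ z : LocalizedModule (Submonoid.powers f) M, z = 0 := by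
      intro z
      induction z using LocalizedModule.induction_on with
      | h m s =>
        obtain ⟨k, hk⟩ := h m
        rw [← LocalizedModule.zero_mk 1, LocalizedModule.mk_eq]
        refine ⟨⟨f ^ k, k, rfl⟩, ?_⟩
        change f ^ k • (1 : Submonoid.powers f) • m = f ^ k • s • (0 : M)
        rw [one_smul, hk, smul_zero, smul_zero]
    rw [h0 x, h0 y]
  exact ModuleCat.isZero_of_subsingleton _

lemma acyclic_locCx_of_torsion (f : A) (X : DRing.Cx A)
    (h : ∀ i (x : X.homology i), ∃ m : ℕ, f ^ m • x = 0) :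
    ((locCx (Submonoid.powers f)).obj X).Acyclic := by
  intro i
  rw [HomologicalComplex.exactAt_iff_isZero_homology]
  haveI := Groth.Agent.Lib.Helper2.LCCech1.locFunctor_preservesHomology (Submonoid.powers f)
  exact (isZero_locFunctor_of_torsion f _ (h i)).of_iso
    ((X.sc i).mapHomologyIso (locFunctor (Submonoid.powers f)))

/-- for a divisible complex whose cohomology is `l`-power torsion, the torsion subcomplex is
quasi-isomorphic to the complex -/
theorem quasiIso_tincl (J : DRing.Cx A) (hJ : Div J) :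
    ∀ l : List A, (∀ i (x : J.homology i), ∀ g ∈ l, ∃ m : ℕ, g ^ m • x = 0) →
      QuasiIso (tincl l J)
  | [] => fun _ => by
    have : IsIso (tincl [] J) := isIso_subCxι_nil J
    infer_instance
  | f :: l => fun h => by
    have ih : QuasiIso (tincl l J) :=
      quasiIso_tincl J hJ l (fun i x g hg => h i x g (List.mem_cons_of_mem _ hg))
    have h1 : ∀ i (x : (torL l J).homology i), ∃ m : ℕ, f ^ m • x = 0 := by
      intro i x
      let e := asIso (HomologicalComplex.homologyMap (tincl l J) i)
      obtain ⟨m, hm⟩ := h i (e.hom.hom x) f List.mem_cons_self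
      refine ⟨m, ?_⟩
      apply (ModuleCat.mono_iff_injective e.hom).1 inferInstance
      rw [map_smul, hm, map_zero]
    have h2 := acyclic_locCx_of_torsion f (torL l J) h1
    have h3 : QuasiIso (torIncl f l J) :=
      quasiIso_f_of_acyclic (torSC f l J) (torSC_shortExact hJ f l) h2
    have h4 : tincl (f :: l) J = torIncl f l J ≫ tincl l J := by
      ext n x
      rfl
    rw [h4]
    infer_instance

end Induction

section Main

variable [IsNoetherianRing A]

lemma exists_list_span (I : Ideal A) : ∃ fs : List A, I = Ideal.span {y | y ∈ fs} := by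
  obtain ⟨s, hs⟩ := (isNoetherianRing_iff_ideal_fg A).1 inferInstance I
  refine ⟨s.toList, ?_⟩
  rw [← hs]
  congr 1
  ext y
  simp

/-- **S1813** for a K-injective complex with injective terms -/
theorem quasiIso_gincl_of_torsion (fs : List A) (J : DRing.Cx A) (hJ' : ∀ n, Injective (J.X n))
    (h : ∀ i : ℤ, LocCoh.IsPowerTorsion (Ideal.span {y | y ∈ fs}) (J.homology i)) :
    QuasiIso (gincl (Ideal.span {y | y ∈ fs}) J) := by
  rw [quasiIso_gincl_iff]
  apply quasiIso_tincl J (div_of_injective J hJ')
  intro i x g hg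
  obtain ⟨n, hn⟩ := h i x
  exact ⟨n, hn _ (Ideal.pow_mem_pow (Ideal.subset_span (show g ∈ {y | y ∈ fs} from hg)) n)⟩

theorem isIso_RgammaIε_of_torsion (I : Ideal A) [DRing.HasRgammaI I] (K : Dual.D A)
    (hK : ∀ i : ℤ, LocCoh.IsPowerTorsion I (Dual.HD A K i)) :
    IsIso ((DRing.RgammaIε I).app K) := by
  obtain ⟨fs, hfs⟩ := exists_list_span I
  subst hfs
  obtain ⟨J, hJ, hJ', ⟨e⟩⟩ := KInjM.exists_kinj_rep_inj K
  haveI := hJ
  rw [← NatTrans.isIso_app_iff_of_iso _ e, isIso_RgammaIε_app_iff]
  apply quasiIso_gincl_of_torsion fs J hJ'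
  intro i x
  let φ : J.homology i ≅ (DerivedCategory.homologyFunctor (ModuleCat.{u} A) i).obj K :=
    ((DerivedCategory.homologyFunctorFactors (ModuleCat.{u} A) i).app J).symm ≪≫
      (DerivedCategory.homologyFunctor (ModuleCat.{u} A) i).mapIso e
  obtain ⟨n, hn⟩ := hK i (φ.hom.hom x)
  refine ⟨n, fun a ha => ?_⟩
  apply (ModuleCat.mono_iff_injective φ.hom).1 inferInstance
  rw [map_smul, hn a ha, map_zero]

end Main

end Groth.Agent.Lib.Helper8.RGam
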