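import Mathlib
import Groth.Prelude.Def_DualLC
import Groth.Prelude.Def_DRing3
import Groth.Agent.Lib.Helper8.RGam5

/-!
# Helper8 — RGam6: over a Noetherian ring `RΓ_{(gs)}` is computed by the Čech complex, and
`RΓ_J ∘ RΓ_I ≅ RΓ_{I+J}`
-/

set_option autoImplicit false
set_option linter.unusedSectionVars false

universe u

open CategoryTheory CategoryTheory.Limits DerivedCategory CochainComplex

attribute [local instance] HasDerivedCategory.standard

namespace Groth.Agent.Lib.Helper8.RGam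

open Groth.Agent.Lib.Helper2.LCCech1 Groth.Agent.Lib.Helper2.LCCech3 Groth.Agent.Lib.Helper2.LCCech4
  Groth.Agent.Lib.Helper2.LCInj1 Groth.Agent.Lib.Helper2.LCInj2 DerCA

variable {A : Type u} [CommRing A]

/-- derived-category version of Helper2's `cech_torL_equiv` -/
theorem cech_torL_iso {K : DRing.Cx A} (hK : Div K) (fs : List A) :
    ∀ l : List A, Nonempty ((Q.obj (cechCx (torL l K) fs) : Dual.D A) ≅
      Q.obj (torL (fs ++ l) K)) := by
  induction fs using List.reverseRecOn with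
  | nil =>
    intro l
    exact ⟨Iso.refl _⟩
  | append_singleton fs f ih =>
    intro l
    obtain ⟨ρ, hρ⟩ := exists_quasiIso_torL_cons hK f l
    have := quasiIso_cechCxMap ρ fs
    have h1 : IsIso (Q.map (cechCxMap ρ fs) : (Q.obj _ : Dual.D A) ⟶ _) := by
      rw [isIso_Q_map_iff_quasiIso]
      infer_instance
    obtain ⟨e₂⟩ := ih (f :: l)
    rw [cechCx_append, List.append_assoc, List.singleton_append]
    exact ⟨(asIso (Q.map (cechCxMap ρ fs))).symm ≪≫ e₂⟩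

theorem cech_iso_torL {K : DRing.Cx A} (hK : Div K) (fs : List A) :
    Nonempty ((Q.obj (cechCx K fs) : Dual.D A) ≅ Q.obj (torL fs K)) := by
  obtain ⟨e₁⟩ := cech_torL_iso hK fs []
  have : QuasiIso (tincl [] K) := by
    have : IsIso (tincl [] K) := isIso_subCxι_nil K
    infer_instance
  have := quasiIso_cechCxMap (tincl [] K) fs
  have h1 : IsIso (Q.map (cechCxMap (tincl [] K) fs) : (Q.obj _ : Dual.D A) ⟶ _) := by
    rw [isIso_Q_map_iff_quasiIso]
    infer_instance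
  rw [List.append_nil] at e₁
  exact ⟨(asIso (Q.map (cechCxMap (tincl [] K) fs))).symm ≪≫ e₁⟩

lemma rgamma_iso_of_eq {I₁ I₂ : Ideal A} (h : I₁ = I₂) [DRing.HasRgammaI I₁] [DRing.HasRgammaI I₂]
    (K : Dual.D A) : Nonempty ((DRing.RgammaI I₁).obj K ≅ (DRing.RgammaI I₂).obj K) := by
  subst h
  exact ⟨Iso.refl _⟩

section Noeth

variable [IsNoetherianRing A]

/-- `RΓ_{(gs)}(K) ≅ Γ_{gs}(J)` for a K-injective model `J` with injective terms -/
theorem nonempty_rgamma_iso_torL (gs : List A) [DRing.HasRgammaI (Ideal.span {y | y ∈ gs})]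
    (J : DRing.Cx A) [J.IsKInjective] :
    Nonempty ((DRing.RgammaI (Ideal.span {y | y ∈ gs})).obj (Q.obj J) ≅ Q.obj (torL gs J)) := by
  obtain ⟨e⟩ := nonempty_rgammaIso (Ideal.span {y | y ∈ gs}) J
  exact ⟨e ≪≫ Q.mapIso (gammaTorIso gs J)⟩

/-- over a Noetherian ring, `RΓ_{(gs)}` is computed by the Čech complex -/
theorem nonempty_rgamma_iso_cech (gs : List A) [DRing.HasRgammaI (Ideal.span {y | y ∈ gs})]
    (X : DRing.Cx A) :
    Nonempty ((DRing.RgammaI (Ideal.span {y | y ∈ gs})).obj (Q.obj X) ≅ Q.obj (cechCx X gs)) := by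
  obtain ⟨J, hJ, hJ', ⟨e⟩⟩ := KInjM.exists_kinj_rep_inj (Q.obj X : Dual.D A)
  haveI := hJ
  obtain ⟨j, hj⟩ := DProd.exists_Q_map_of_isKInjective X J e.inv
  have hq : QuasiIso j := by
    rw [← isIso_Q_map_iff_quasiIso, ← hj]
    infer_instance
  have := quasiIso_cechCxMap j gs
  have h1 : IsIso (Q.map (cechCxMap j gs) : (Q.obj _ : Dual.D A) ⟶ _) := by
    rw [isIso_Q_map_iff_quasiIso]
    infer_instance
  obtain ⟨e₁⟩ := nonempty_rgamma_iso_torL gs J
  obtain ⟨e₂⟩ := cech_iso_torL (div_of_injective J hJ') gs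
  exact ⟨(DRing.RgammaI _).mapIso e.symm ≪≫ e₁ ≪≫ e₂.symm ≪≫
    (asIso (Q.map (cechCxMap j gs))).symm⟩

lemma span_append (fs gs : List A) :
    (Ideal.span {y | y ∈ fs} : Ideal A) ⊔ Ideal.span {y | y ∈ gs} =
      Ideal.span {y | y ∈ gs ++ fs} := by
  rw [← Ideal.span_union]
  congr 1
  ext y
  simp [or_comm]

/-- **S1816** -/
theorem nonempty_rgamma_comp_iso (I J : Ideal A) [DRing.HasRgammaI I] [DRing.HasRgammaI J]
    [DRing.HasRgammaI (I ⊔ J)] (K : Dual.D A) :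
    Nonempty ((DRing.RgammaI J).obj ((DRing.RgammaI I).obj K) ≅ (DRing.RgammaI (I ⊔ J)).obj K) := by
  obtain ⟨fs, hfs⟩ := exists_list_span I
  obtain ⟨gs, hgs⟩ := exists_list_span J
  subst hfs hgs
  haveI : DRing.HasRgammaI (Ideal.span {y | y ∈ gs ++ fs}) := by
    rw [← span_append]
    infer_instance
  obtain ⟨e0⟩ := rgamma_iso_of_eq (span_append fs gs) K
  obtain ⟨L, hL, hL', ⟨e⟩⟩ := KInjM.exists_kinj_rep_inj K
  haveI := hL
  obtain ⟨e1⟩ := nonempty_rgamma_iso_torL fs L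
  obtain ⟨e2⟩ := nonempty_rgamma_iso_cech gs (torL fs L)
  obtain ⟨e3⟩ := cech_torL_iso (div_of_injective L hL') gs fs
  obtain ⟨e4⟩ := nonempty_rgamma_iso_torL (gs ++ fs) L
  exact ⟨(DRing.RgammaI _).mapIso ((DRing.RgammaI _).mapIso e.symm ≪≫ e1) ≪≫ e2 ≪≫ e3 ≪≫
    e4.symm ≪≫ (DRing.RgammaI _).mapIso e ≪≫ e0.symm⟩

end Noeth

end Groth.Agent.Lib.Helper8.RGam
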