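import Mathlib
import Groth.Prelude.Def_DualLC
import Groth.Prelude.Def_DRing3
import Groth.Prelude.Def_DDual2
import Groth.Agent.Lib.Helper8.RGam6
import Groth.Agent.Lib.Helper2.LCCechRes

/-!
# Helper8 — RGam9: `RΓ_I` always exists; `HDI` is Čech cohomology over a Noetherian ring; `HDI` commutes
with restriction of scalars
-/

set_option autoImplicit false
set_option linter.unusedSectionVars false

universe u

open CategoryTheory CategoryTheory.Limits DerivedCategory CochainComplex

attribute [local instance] HasDerivedCategory.standard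

namespace Groth.Agent.Lib.Helper8.RGam

open Groth.Agent.Lib.Helper2.LCCech1 Groth.Agent.Lib.Helper2.LCCech3 Groth.Agent.Lib.Helper2.LCCech4
  Groth.Agent.Lib.Helper2.LCCechF Groth.Agent.Lib.Helper2.LCCechRes DerCA

/-- the total right derived functor of the `I`-power torsion functor exists -/
theorem hasRgammaI {A : Type u} [CommRing A] (I : Ideal A) : DRing.HasRgammaI I :=
  KInjDer.hasRightDerivedFunctor (KInjDer.hK_of_complexes (A := ModuleCat.{u} A) KInjM.exists_kinj)
    (DRing.gammaIKh I)

section

variable {A : Type u} [CommRing A] [IsNoetherianRing A]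

/-- `HDI` is Čech cohomology (Noetherian case) -/
theorem nonempty_HDI_equiv_cech (fs : List A) (X : DRing.Cx A) (i : ℤ) :
    Nonempty ((cechCx X fs).homology i ≃ₗ[A]
      (Dual2.HDI A (Ideal.span {y | y ∈ fs}) (Q.obj X) i : ModuleCat.{u + 1} A)) := by
  haveI := hasRgammaI (Ideal.span {y | y ∈ fs})
  obtain ⟨e1⟩ := nonempty_HD_RgammaI_equiv_HDI (Ideal.span {y | y ∈ fs}) i (Q.obj X : Dual.D A)
  obtain ⟨e2⟩ := nonempty_rgamma_iso_cech fs X
  let e3 : (cechCx X fs).homology i ≅
      (DerivedCategory.homologyFunctor (ModuleCat.{u} A) i).obj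
        ((DRing.RgammaI (Ideal.span {y | y ∈ fs})).obj (Q.obj X)) :=
    ((DerivedCategory.homologyFunctorFactors (ModuleCat.{u} A) i).app (cechCx X fs)).symm ≪≫
      (DerivedCategory.homologyFunctor (ModuleCat.{u} A) i).mapIso e2.symm
  exact ⟨e3.toLinearEquiv.trans e1⟩

end

section Restrict

variable {A B : Type u} [CommRing A] [CommRing B] [Algebra A B] [IsNoetherianRing A]
  [IsNoetherianRing B]

/-- restriction of scalars of a linear equivalence across universes -/
def restrictLinearEquiv.{v, w} (M : ModuleCat.{v} B) (N : ModuleCat.{w} B) (e : M ≃ₗ[B] N) :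
    ((ModuleCat.restrictScalars.{v} (algebraMap A B)).obj M) ≃ₗ[A]
      ((ModuleCat.restrictScalars.{w} (algebraMap A B)).obj N) where
  toFun x := e (show M from x)
  invFun y := e.symm (show N from y)
  left_inv x := e.left_inv x
  right_inv y := e.right_inv y
  map_add' _ _ := e.map_add _ _
  map_smul' a _ := e.map_smul (algebraMap A B a) _

lemma forall₂_compat (fs : List A) :
    List.Forall₂ (fun (g : B) (f : A) => Nonempty (LocCompat (res (R := A) (R' := B)) g f))
      (fs.map (algebraMap A B)) fs := by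
  induction fs with
  | nil => exact List.Forall₂.nil
  | cons f fs ih => exact List.Forall₂.cons ⟨resCompat f⟩ ih

lemma map_span_list (fs : List A) :
    (Ideal.span {y | y ∈ fs}).map (algebraMap A B) =
      Ideal.span {y | y ∈ fs.map (algebraMap A B)} := by
  rw [Ideal.map_span]
  congr 1
  ext y
  simp

/-- **S1804** -/
theorem nonempty_HDI_restrict_iso (I : Ideal A) (K : Dual.D B) (i : ℤ) :
    Nonempty (Dual2.HDI A I ((DRing.restrictD (algebraMap A B)).obj K) i ≅
      (ModuleCat.restrictScalars (algebraMap A B)).obj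
        (Dual2.HDI B (I.map (algebraMap A B)) K i)) := by
  obtain ⟨fs, hfs⟩ := exists_list_span I
  subst hfs
  rw [map_span_list]
  set gs := fs.map (algebraMap A B) with hgs
  -- reduce to `K = Q X`
  let X : DRing.Cx B := Q.objPreimage K
  let eK : (Q.obj X : Dual.D B) ≅ K := Q.objObjPreimageIso K
  let G := ModuleCat.restrictScalars.{u} (algebraMap A B)
  let rX : DRing.Cx A := (G.mapHomologicalComplex (ComplexShape.up ℤ)).obj X
  let eR : (DRing.restrictD (algebraMap A B)).obj K ≅ (Q.obj rX : Dual.D A) :=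
    (DRing.restrictD (algebraMap A B)).mapIso eK.symm ≪≫ (G.mapDerivedCategoryFactors).app X
  -- the two sides as Čech cohomology
  obtain ⟨eA⟩ := nonempty_HDI_equiv_cech fs rX i
  obtain ⟨eB⟩ := nonempty_HDI_equiv_cech gs X i
  -- transport along `eK`, `eR`
  let tA : Dual2.HDI A (Ideal.span {y | y ∈ fs}) ((DRing.restrictD (algebraMap A B)).obj K) i ≅
      Dual2.HDI A (Ideal.span {y | y ∈ fs}) (Q.obj rX) i :=
    HasColimit.isoOfNatIso (Functor.isoWhiskerLeft _
      ((linearYoneda A (Dual.D A)).mapIso ((CategoryTheory.shiftFunctor (Dual.D A) i).mapIso eR)))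
  let tB : Dual2.HDI B (Ideal.span {y | y ∈ gs}) K i ≅
      Dual2.HDI B (Ideal.span {y | y ∈ gs}) (Q.obj X) i :=
    HasColimit.isoOfNatIso (Functor.isoWhiskerLeft _
      ((linearYoneda B (Dual.D B)).mapIso ((CategoryTheory.shiftFunctor (Dual.D B) i).mapIso
        eK.symm)))
  -- Čech complexes commute with restriction
  obtain ⟨ρ, hρ⟩ := exists_quasiIso_cechCx (G := G) X (forall₂_compat (B := B) fs)
  let c1 : ((G.mapHomologicalComplex (ComplexShape.up ℤ)).obj (cechCx X gs)).homology i ≅
      (cechCx rX fs).homology i := asIso (HomologicalComplex.homologyMap ρ i)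
  let c2 : ((G.mapHomologicalComplex (ComplexShape.up ℤ)).obj (cechCx X gs)).homology i ≅
      G.obj ((cechCx X gs).homology i) := mapHomologyIso' (G := G) (cechCx X gs) i
  -- assemble
  let EB : (cechCx X gs).homology i ≃ₗ[B]
      (Dual2.HDI B (Ideal.span {y | y ∈ gs}) K i : ModuleCat.{u + 1} B) :=
    eB.trans tB.symm.toLinearEquiv
  let EB' : G.obj ((cechCx X gs).homology i) ≃ₗ[A]
      ((ModuleCat.restrictScalars (algebraMap A B)).obj
        (Dual2.HDI B (Ideal.span {y | y ∈ gs}) K i) : ModuleCat.{u + 1} A) :=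
    restrictLinearEquiv (A := A) _ _ EB
  exact ⟨(tA.toLinearEquiv.trans (eA.symm.trans
    ((c1.symm ≪≫ c2).toLinearEquiv.trans EB'))).toModuleIso⟩

end Restrict

end Groth.Agent.Lib.Helper8.RGam
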