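import Mathlib
import Groth.Prelude.Def_DualLC
import Groth.Prelude.Def_DRing3
import Groth.Prelude.Def_DDual2
import Groth.Agent.Lib.Helper8.RGam9
import Groth.Agent.Lib.Helper2.LCCechExt
import Groth.Agent.Lib.Helper16.FlatBC2

/-!
# Helper8 — RGam10: flat base change for `HDI` (derived base change along a flat map is induced by
extension of scalars; Čech complexes commute with extension of scalars)
-/

set_option autoImplicit false
set_option linter.unusedSectionVars false

universe u

open CategoryTheory CategoryTheory.Limits DerivedCategory CochainComplex TensorProduct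

attribute [local instance] HasDerivedCategory.standard

namespace Groth.Agent.Lib.Helper8.RGam

open Groth.Agent.Lib.Helper2.LCCech1 Groth.Agent.Lib.Helper2.LCCech3 Groth.Agent.Lib.Helper2.LCCech4
  Groth.Agent.Lib.Helper2.LCCechF Groth.Agent.Lib.Helper2.LCCechExt DerCA
  Groth.Agent.Lib.Helper16.FlatBC Groth.Agent.Lib.Helper16.LDer

section

variable {A B : Type u} [CommRing A] [CommRing B] (φ : A →+* B) [FlatHom φ]

/-- for a flat ring map, derived base change is the functor induced by extension of scalars -/
noncomputable def lBaseChangeIsoε [DRing.HasLBaseChange φ] : DRing.LBaseChange φ ≅ ε φ :=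
  haveI : (ε φ).IsLeftDerivedFunctor
      ((ModuleCat.extendScalars.{u, u, u} φ).mapDerivedCategoryFactorsh).hom
      (HomotopyCategory.quasiIso (ModuleCat.{u} A) (ComplexShape.up ℤ)) :=
    Functor.isLeftDerivedFunctor_of_inverts _ _ _
  Functor.leftDerivedUnique (ε φ) (DRing.LBaseChange φ)
    ((DRing.baseChangeKh φ).totalLeftDerivedCounit DerivedCategory.Qh
      (HomotopyCategory.quasiIso (ModuleCat.{u} A) (ComplexShape.up ℤ)))
    ((ModuleCat.extendScalars.{u, u, u} φ).mapDerivedCategoryFactorsh).hom
    (HomotopyCategory.quasiIso (ModuleCat.{u} A) (ComplexShape.up ℤ))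

end

section

variable {A B : Type u} [CommRing A] [CommRing B] [Algebra A B]

lemma addMonoidHom_ext_tmul {R : Type*} [CommSemiring R] {M N P : Type*} [AddCommMonoid M]
    [AddCommMonoid N] [AddCommMonoid P] [Module R M] [Module R N] (f g : M ⊗[R] N →+ P)
    (h : ∀ m n, f (m ⊗ₜ n) = g (m ⊗ₜ n)) : f = g :=
  AddMonoidHom.ext fun x => x.induction_on (by rw [map_zero, map_zero]) h
    (fun x y hx hy => by rw [map_add, map_add, hx, hy])

/-- `B ⊗[A] -` is naturally isomorphic to `ModuleCat.extendScalars` -/
noncomputable def extNatIso :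
    ext A B ≅ ModuleCat.extendScalars.{u, u, u} (algebraMap A B) :=
  NatIso.ofComponents (fun M => extIso (A := A) (B := B) M) (by
    intro M N g
    ext : 1
    have := addMonoidHom_ext_tmul
      (ModuleCat.Hom.hom ((ext A B).map g ≫ (extIso (A := A) (B := B) N).hom)).toAddMonoidHom
      (ModuleCat.Hom.hom ((extIso (A := A) (B := B) M).hom ≫
        (ModuleCat.extendScalars.{u, u, u} (algebraMap A B)).map g)).toAddMonoidHom
      (fun b m => rfl)
    exact LinearMap.ext fun x => DFunLike.congr_fun this x)

/-- extension of scalars of a linear equivalence across universes -/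
noncomputable def extendLinearEquivA.{v, w} (M : ModuleCat.{v} A) (N : ModuleCat.{w} A)
    (e : M ≃ₗ[A] N) :
    ((ModuleCat.restrictScalars.{u} (algebraMap A B)).obj (ModuleCat.of B B) ⊗[A] M) ≃ₗ[A]
      ((ModuleCat.restrictScalars.{u} (algebraMap A B)).obj (ModuleCat.of B B) ⊗[A] N) :=
  TensorProduct.congr (LinearEquiv.refl A _) e

/-- extension of scalars of a linear equivalence across universes -/
noncomputable def extendLinearEquiv.{v, w} (M : ModuleCat.{v} A) (N : ModuleCat.{w} A)
    (e : M ≃ₗ[A] N) :
    ((ModuleCat.extendScalars.{u, u, v} (algebraMap A B)).obj M) ≃ₗ[B]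
      ((ModuleCat.extendScalars.{u, u, w} (algebraMap A B)).obj N) where
  toFun := extendLinearEquivA (B := B) M N e
  invFun := (extendLinearEquivA (B := B) M N e).symm
  left_inv := (extendLinearEquivA (B := B) M N e).left_inv
  right_inv := (extendLinearEquivA (B := B) M N e).right_inv
  map_add' := (extendLinearEquivA (B := B) M N e).map_add
  map_smul' := by
    intro b x
    let P := (ModuleCat.extendScalars.{u, u, v} (algebraMap A B)).obj M
    let P' := (ModuleCat.extendScalars.{u, u, w} (algebraMap A B)).obj N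
    let F : P →+ P' := (extendLinearEquivA (B := B) M N e).toLinearMap.toAddMonoidHom
    have := addMonoidHom_ext_tmul (R := A)
      (M := (ModuleCat.restrictScalars.{u} (algebraMap A B)).obj (ModuleCat.of B B)) (N := M)
      (F.comp (DistribSMul.toAddMonoidHom P b))
      ((DistribSMul.toAddMonoidHom P' b).comp F) (fun b' m => rfl)
    exact DFunLike.congr_fun this x

end

section

variable {A B : Type u} [CommRing A] [CommRing B] [Algebra A B] [IsNoetherianRing A]
  [IsNoetherianRing B] [Module.Flat A B]

lemma forall₂_ext' (fs : List A) :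
    List.Forall₂ (fun (f : A) (g : B) => Nonempty (LocCompat (ext A B) f g))
      fs (fs.map (algebraMap A B)) := by
  induction fs with
  | nil => exact List.Forall₂.nil
  | cons f fs ih => exact List.Forall₂.cons ⟨extCompat f⟩ ih

/-- **S1805** -/
theorem nonempty_HDI_LBaseChange_iso [DRing.HasLBaseChange (algebraMap A B)] (I : Ideal A)
    (K : Dual.D A) (i : ℤ) :
    Nonempty (Dual2.HDI B (I.map (algebraMap A B))
        ((DRing.LBaseChange (algebraMap A B)).obj K) i ≅
      (ModuleCat.extendScalars (algebraMap A B)).obj (Dual2.HDI A I K i)) := by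
  obtain ⟨fs, hfs⟩ := exists_list_span I
  subst hfs
  rw [map_span_list]
  set gs := fs.map (algebraMap A B) with hgs
  -- reduce to `K = Q X`
  let X : DRing.Cx A := Q.objPreimage K
  let eK : (Q.obj X : Dual.D A) ≅ K := Q.objObjPreimageIso K
  let G := ModuleCat.extendScalars.{u, u, u} (algebraMap A B)
  let G' := ext A B
  let eX : DRing.Cx B := (extCx (algebraMap A B)).obj X
  let eL : (DRing.LBaseChange (algebraMap A B)).obj K ≅ (Q.obj eX : Dual.D B) :=
    (lBaseChangeIsoε (algebraMap A B)).app K ≪≫ (ε (algebraMap A B)).mapIso eK.symm ≪≫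
      εQIso (algebraMap A B) X
  -- the two sides as Čech cohomology
  obtain ⟨eA⟩ := nonempty_HDI_equiv_cech fs X i
  obtain ⟨eB⟩ := nonempty_HDI_equiv_cech gs eX i
  -- transport along `eK`, `eL`
  let tB : Dual2.HDI B (Ideal.span {y | y ∈ gs}) ((DRing.LBaseChange (algebraMap A B)).obj K) i ≅
      Dual2.HDI B (Ideal.span {y | y ∈ gs}) (Q.obj eX) i :=
    HasColimit.isoOfNatIso (Functor.isoWhiskerLeft _
      ((linearYoneda B (Dual.D B)).mapIso ((CategoryTheory.shiftFunctor (Dual.D B) i).mapIso eL)))
  let tA : Dual2.HDI A (Ideal.span {y | y ∈ fs}) K i ≅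
      Dual2.HDI A (Ideal.span {y | y ∈ fs}) (Q.obj X) i :=
    HasColimit.isoOfNatIso (Functor.isoWhiskerLeft _
      ((linearYoneda A (Dual.D A)).mapIso ((CategoryTheory.shiftFunctor (Dual.D A) i).mapIso
        eK.symm)))
  -- Čech complexes commute with extension of scalars
  obtain ⟨ρ, hρ⟩ := exists_quasiIso_cechCx (G := G') X (forall₂_ext' (B := B) fs)
  let σ : (G'.mapHomologicalComplex (ComplexShape.up ℤ)).obj X ≅ eX :=
    (NatIso.mapHomologicalComplex (extNatIso (A := A) (B := B)) (ComplexShape.up ℤ)).app X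
  have hσ : QuasiIso (cechCxMap σ.hom gs) := quasiIso_cechCxMap σ.hom gs
  let c1 : ((G'.mapHomologicalComplex (ComplexShape.up ℤ)).obj (cechCx X fs)).homology i ≅
      (cechCx ((G'.mapHomologicalComplex (ComplexShape.up ℤ)).obj X) gs).homology i :=
    asIso (HomologicalComplex.homologyMap ρ i)
  let c2 : ((G'.mapHomologicalComplex (ComplexShape.up ℤ)).obj (cechCx X fs)).homology i ≅
      G'.obj ((cechCx X fs).homology i) := mapHomologyIso' (G := G') (cechCx X fs) i
  let c3 : (cechCx ((G'.mapHomologicalComplex (ComplexShape.up ℤ)).obj X) gs).homology i ≅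
      (cechCx eX gs).homology i := asIso (HomologicalComplex.homologyMap (cechCxMap σ.hom gs) i)
  let c4 : G'.obj ((cechCx X fs).homology i) ≅ G.obj ((cechCx X fs).homology i) :=
    (extNatIso (A := A) (B := B)).app _
  -- assemble
  let EA : (cechCx X fs).homology i ≃ₗ[A]
      (Dual2.HDI A (Ideal.span {y | y ∈ fs}) K i : ModuleCat.{u + 1} A) :=
    eA.trans tA.symm.toLinearEquiv
  let EA' : G.obj ((cechCx X fs).homology i) ≃ₗ[B]
      ((ModuleCat.extendScalars (algebraMap A B)).obj
        (Dual2.HDI A (Ideal.span {y | y ∈ fs}) K i) : ModuleCat.{u + 1} B) :=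
    extendLinearEquiv (B := B) _ _ EA
  exact ⟨(tB.toLinearEquiv.trans (eB.symm.trans
    ((c3.symm ≪≫ c1.symm ≪≫ c2 ≪≫ c4).toLinearEquiv.trans EA'))).toModuleIso⟩

end

end Groth.Agent.Lib.Helper8.RGam
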