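import Mathlib
import Groth.Agent.Lib.Helper8.EFB7
import Groth.Agent.Lib.Helper8.PCCoh
import Groth.Agent.Lib.Helper8.RGam10

/-! # Helper8 — EFB8: Ext flat base change over a noetherian ring (bounded above finite cohomology source, bounded below target), shifted version -/

set_option autoImplicit false

universe u

open CategoryTheory CategoryTheory.Limits DerivedCategory TensorProduct CategoryTheory.Pretriangulated

attribute [local instance] HasDerivedCategory.standard

namespace Groth.Agent.Lib.Helper8.EFB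

open Groth.Agent.Lib.Helper16.FlatBC Groth.Agent.Lib.Helper8.EBC

section Noeth

variable {A : Type u} [CommRing A]

/-- over a noetherian ring, bounded above with finite cohomology ⇒ `m`-pseudo-coherent for all `m` -/
lemma isPseudoCoherent_of_noeth [IsNoetherianRing A] (K : Dual.D A)
    (hb : ∃ b : ℤ, ∀ i : ℤ, b < i → Subsingleton (Dual.HD A K i))
    (hfin : ∀ i : ℤ, Module.Finite A (Dual.HD A K i)) (m : ℤ) :
    DRing.IsPseudoCoherent A m K := by
  have hR : ∀ I : Ideal A, I.FG → Module.FinitePresentation A I :=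
    fun I _ => Module.finitePresentation_of_finite A I
  exact ((PCCoh.isPseudoCoherent_iff_of_coherent hR K hb m).1).2
    ⟨hfin m, fun i _ => Module.finitePresentation_of_finite A _⟩

lemma isGE_of_subsingleton (K : Dual.D A) (a : ℤ)
    (h : ∀ i : ℤ, i < a → Subsingleton (Dual.HD A K i)) : K.IsGE a := by
  rw [DerivedCategory.isGE_iff]
  intro i hi
  haveI := h i hi
  exact ModuleCat.isZero_of_subsingleton _

lemma isLE_of_subsingleton (K : Dual.D A) (b : ℤ)
    (h : ∀ i : ℤ, b < i → Subsingleton (Dual.HD A K i)) : K.IsLE b := by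
  rw [DerivedCategory.isLE_iff]
  intro i hi
  haveI := h i hi
  exact ModuleCat.isZero_of_subsingleton _

end Noeth

variable {A B : Type u} [CommRing A] [CommRing B] [Algebra A B] [Module.Flat A B]

/-- shifted Ext flat base change over a noetherian ring -/
theorem exists_bcEquiv_shift [IsNoetherianRing A] (K L : Dual.D A)
    (hb : ∃ b : ℤ, ∀ i : ℤ, b < i → Subsingleton (Dual.HD A K i))
    (hfin : ∀ i : ℤ, Module.Finite A (Dual.HD A K i))
    (hL : ∃ c : ℤ, L.IsGE c) (i : ℤ) :
    ∃ Θ : B ⊗[A] (K ⟶ L⟦i⟧) ≃+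
        ((ε (algebraMap A B)).obj K ⟶ ((ε (algebraMap A B)).obj L)⟦i⟧),
      ∀ (b : B) (f : K ⟶ L⟦i⟧), Θ (b ⊗ₜ[A] f) =
        b • ((ε (algebraMap A B)).map f ≫ ((ε (algebraMap A B)).commShiftIso i).hom.app L) := by
  obtain ⟨c, hc⟩ := hL
  haveI : (L⟦i⟧).IsGE (c - i) := by
    haveI := hc
    exact (TStructure.t).isGE_shift L c i (c - i) (by omega)
  obtain ⟨Θ, hΘ⟩ := exists_bcEquiv (B := B) K (L⟦i⟧) (c - i) inferInstance
    (isPseudoCoherent_of_noeth K hb hfin _)
  refine ⟨Θ.trans (postcompAddEquiv _ (((ε (algebraMap A B)).commShiftIso i).app L)), fun b f => ?_⟩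
  change Θ (b ⊗ₜ[A] f) ≫ _ = _
  rw [hΘ, Linear.smul_comp]
  rfl

end Groth.Agent.Lib.Helper8.EFB
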