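import Mathlib
import Groth.Agent.Lib.Helper8.EFB8

/-! # Helper8 — EFB9: `Dual.IsDualizing` is iso-invariant; local-global principles (maximal ideals) for vanishing and bijectivity in tensor form -/

set_option autoImplicit false

universe u

open CategoryTheory CategoryTheory.Limits DerivedCategory TensorProduct CategoryTheory.Pretriangulated

attribute [local instance] HasDerivedCategory.standard

namespace Groth.Agent.Lib.Helper8.EFB

open Groth.Agent.Lib.Helper16.FlatBC Groth.Agent.Lib.Helper8.EBC

section Iso

variable {A : Type u} [CommRing A]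

/-- being a dualizing complex is invariant under isomorphism -/
theorem isDualizing_of_iso {ω ω' : Dual.D A} (e : ω ≅ ω') (h : Dual.IsDualizing A ω) :
    Dual.IsDualizing A ω' where
  isNoetherianRing := h.isNoetherianRing
  finite_injective_dimension := by
    obtain ⟨a, b, hab⟩ := h.finite_injective_dimension
    refine ⟨a, b, fun M _ _ i hi => ?_⟩
    haveI := hab M i hi
    exact (postcompAddEquiv (Dual.inD A M) ((shiftFunctor (Dual.D A) i).mapIso e)).symm.subsingleton
  finite_cohomology := fun i => by
    haveI := h.finite_cohomology i
    exact Module.Finite.equiv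
      ((DerivedCategory.homologyFunctor (ModuleCat.{u} A) i).mapIso e).toLinearEquiv
  toEnd_bijective := by
    have h1 := h.toEnd_bijective
    let E : (ω ⟶ ω) ≃ (ω' ⟶ ω') :=
      { toFun := fun f => e.inv ≫ f ≫ e.hom
        invFun := fun g => e.hom ≫ g ≫ e.inv
        left_inv := fun f => by simp
        right_inv := fun g => by simp }
    have h2 : (fun a : A => a • 𝟙 ω') = E ∘ (fun a : A => a • 𝟙 ω) := by
      funext a
      change _ = e.inv ≫ (a • 𝟙 ω) ≫ e.hom
      rw [Linear.smul_comp, Linear.comp_smul, Category.id_comp, e.inv_hom_id]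
    rw [h2]
    exact E.bijective.comp h1
  ext_self_subsingleton := fun i hi => by
    haveI := h.ext_self_subsingleton i hi
    let E : (ω ⟶ ω⟦i⟧) ≃ (ω' ⟶ ω'⟦i⟧) :=
      { toFun := fun f => e.inv ≫ f ≫ e.hom⟦i⟧'
        invFun := fun g => e.hom ≫ g ≫ e.inv⟦i⟧'
        left_inv := fun f => by
          simp only [Category.assoc, ← Functor.map_comp, e.hom_inv_id, e.hom_inv_id_assoc]
          rw [show (shiftFunctor (Dual.D A) i).map (𝟙 ω) = 𝟙 _ from CategoryTheory.Functor.map_id _ _,
            Category.comp_id]
        right_inv := fun g => by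
          simp only [Category.assoc, ← Functor.map_comp, e.inv_hom_id, e.inv_hom_id_assoc]
          rw [show (shiftFunctor (Dual.D A) i).map (𝟙 ω') = 𝟙 _ from CategoryTheory.Functor.map_id _ _,
            Category.comp_id] }
    exact E.symm.subsingleton

end Iso

section LocalGlobal

variable {A : Type u} [CommRing A]

lemma subsingleton_of_tensor_maximal (H : Type*) [AddCommGroup H] [Module A H]
    (h : ∀ (m : Ideal A) [m.IsMaximal], Subsingleton (Localization.AtPrime m ⊗[A] H)) :
    Subsingleton H :=
  Module.subsingleton_of_localization_maximal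
    (fun P _ => Localization.AtPrime P ⊗[A] H)
    (fun P _ => TensorProduct.mk A (Localization.AtPrime P) H 1) h

lemma bijective_of_lTensor_maximal {M N : Type*} [AddCommGroup M] [Module A M]
    [AddCommGroup N] [Module A N] (v : M →ₗ[A] N)
    (h : ∀ (m : Ideal A) [m.IsMaximal],
      Function.Bijective (v.lTensor (Localization.AtPrime m))) : Function.Bijective v := by
  refine bijective_of_isLocalized_maximal (fun P _ => Localization.AtPrime P ⊗[A] M)
    (fun P _ => TensorProduct.mk A (Localization.AtPrime P) M 1)
    (fun P _ => Localization.AtPrime P ⊗[A] N)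
    (fun P _ => TensorProduct.mk A (Localization.AtPrime P) N 1) v (fun P _ => ?_)
  have : IsLocalizedModule.map P.primeCompl (TensorProduct.mk A (Localization.AtPrime P) M 1)
      (TensorProduct.mk A (Localization.AtPrime P) N 1) v = v.lTensor (Localization.AtPrime P) := by
    apply IsLocalizedModule.linearMap_ext P.primeCompl
      (TensorProduct.mk A (Localization.AtPrime P) M 1)
      (TensorProduct.mk A (Localization.AtPrime P) N 1)
    rw [IsLocalizedModule.map_comp]
    ext x
    simp
  rw [this]
  exact h P

end LocalGlobal

end Groth.Agent.Lib.Helper8.EFB
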