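import Mathlib
import Groth.Agent.Lib.Helper8.EFB9

/-! # Helper8 — EFB10: a bounded complex with finite cohomology and finite injective dimension over a noetherian ring is dualizing as soon as the `End`/self-`Ext` conditions hold after localizing at every maximal ideal -/

set_option autoImplicit false

universe u

open CategoryTheory CategoryTheory.Limits DerivedCategory TensorProduct CategoryTheory.Pretriangulated

attribute [local instance] HasDerivedCategory.standard

namespace Groth.Agent.Lib.Helper8.EFB

open Groth.Agent.Lib.Helper16.FlatBC Groth.Agent.Lib.Helper8.EBC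

variable {A : Type u} [CommRing A]

/-- the self-Ext conditions of a dualizing complex can be checked after localizing at all maximal
ideals -/
theorem isDualizing_of_maximal_ε [IsNoetherianRing A] (K : Dual.D A)
    (hbdd : ∃ a b : ℤ, ∀ i : ℤ, (i < a ∨ b < i) → Subsingleton (Dual.HD A K i))
    (hfin : ∀ i : ℤ, Module.Finite A (Dual.HD A K i))
    (hinj : ∃ a b : ℤ, ∀ (M : Type u) [AddCommGroup M] [Module A M] (i : ℤ),
      (i < a ∨ b < i) → Subsingleton (Dual.inD A M ⟶ K⟦i⟧))
    (hEnd : ∀ (m : Ideal A) [m.IsMaximal], Function.Bijective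
      (fun b : Localization.AtPrime m =>
        b • 𝟙 ((ε (algebraMap A (Localization.AtPrime m))).obj K)))
    (hExt : ∀ (m : Ideal A) [m.IsMaximal] (i : ℤ), i ≠ 0 → Subsingleton
      ((ε (algebraMap A (Localization.AtPrime m))).obj K ⟶
        ((ε (algebraMap A (Localization.AtPrime m))).obj K)⟦i⟧)) :
    Dual.IsDualizing A K := by
  obtain ⟨a, b, hab⟩ := hbdd
  have hb : ∃ b : ℤ, ∀ i : ℤ, b < i → Subsingleton (Dual.HD A K i) :=
    ⟨b, fun i hi => hab i (Or.inr hi)⟩
  have hGE : K.IsGE a := isGE_of_subsingleton K a (fun i hi => hab i (Or.inl hi))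
  refine ⟨inferInstance, hinj, hfin, ?_, ?_⟩
  · let v : A →ₗ[A] (K ⟶ K) := LinearMap.toSpanSingleton A (K ⟶ K) (𝟙 K)
    change Function.Bijective v
    apply bijective_of_lTensor_maximal
    intro m _
    obtain ⟨Θ, hΘ⟩ := exists_bcEquiv (B := Localization.AtPrime m) K K a hGE
      (isPseudoCoherent_of_noeth K hb hfin _)
    have key : ∀ x : Localization.AtPrime m,
        Θ (v.lTensor (Localization.AtPrime m)
          ((TensorProduct.rid A (Localization.AtPrime m)).symm x)) =
        x • 𝟙 ((ε (algebraMap A (Localization.AtPrime m))).obj K) := by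
      intro x
      rw [TensorProduct.rid_symm_apply, LinearMap.lTensor_tmul]
      have : v 1 = 𝟙 K := by
        change (1 : A) • 𝟙 K = 𝟙 K
        rw [one_smul]
      rw [this, hΘ, CategoryTheory.Functor.map_id]
    have h1 : Function.Bijective (Θ ∘ (v.lTensor (Localization.AtPrime m)) ∘
        (TensorProduct.rid A (Localization.AtPrime m)).symm) := by
      convert hEnd m using 1
      funext x
      exact key x
    have h2 := (Function.Bijective.of_comp_iff' Θ.bijective _).1 h1
    exact (Function.Bijective.of_comp_iff _
      (TensorProduct.rid A (Localization.AtPrime m)).symm.bijective).1 h2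
  · intro i hi
    apply subsingleton_of_tensor_maximal (A := A)
    intro m _
    obtain ⟨Θ, -⟩ := exists_bcEquiv_shift (B := Localization.AtPrime m) K K hb hfin ⟨a, hGE⟩ i
    haveI := hExt m i hi
    exact Θ.toEquiv.subsingleton

end Groth.Agent.Lib.Helper8.EFB
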