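import Mathlib
import Groth.Agent.Lib.Helper8.PAmp5
import Groth.Agent.Lib.Helper8.DRing2

/-!
# Helper8 — IAmp1: objects of injective amplitude `[a, b]` in `D(A)`; extension closure (Glue).
-/

open CategoryTheory CategoryTheory.Limits DerivedCategory CategoryTheory.Pretriangulated

namespace Groth.Agent.Lib.Helper8.IAmp

open Groth.Agent.Lib.Helper8.DRing2 Groth.Agent.Lib.Helper8.DTrunc Groth.Agent.Lib.Helper8.PAmp

universe w v u

variable {A : Type u} [Category.{v} A] [Abelian A]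

lemma injective_mappingCone_X {K L : CochainComplex A ℤ} (f : K ⟶ L) (m : ℤ)
    (h1 : Injective (K.X (m + 1))) (h2 : Injective (L.X m)) :
    Injective ((CochainComplex.mappingCone f).X m) :=
  Injective.of_iso (HomologicalComplex.homotopyCofiber.XIsoBiprod f m (m + 1) (by simp)).symm
    inferInstance

variable [HasDerivedCategory.{w} A]

/-- `K` is isomorphic to a complex of injectives vanishing outside `[a, b]`. -/
def HasInjAmp (a b : ℤ) (K : DerivedCategory A) : Prop :=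
  ∃ I : CochainComplex A ℤ, (∀ i : ℤ, Injective (I.X i)) ∧
    (∀ i : ℤ, i < a ∨ b < i → IsZero (I.X i)) ∧ Nonempty (Q.obj I ≅ K)

lemma HasInjAmp.of_iso {a b : ℤ} {K K' : DerivedCategory A} (h : HasInjAmp a b K) (e : K ≅ K') :
    HasInjAmp a b K' := by
  obtain ⟨P, h1, h2, ⟨e'⟩⟩ := h
  exact ⟨P, h1, h2, ⟨e' ≪≫ e⟩⟩

lemma isKInjective_of_data (I : CochainComplex A ℤ) (a : ℤ)
    (h1 : ∀ i : ℤ, i < a → IsZero (I.X i)) (h2 : ∀ i : ℤ, Injective (I.X i)) :
    I.IsKInjective := by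
  have : I.IsStrictlyGE a := by
    rw [CochainComplex.isStrictlyGE_iff]
    exact h1
  exact CochainComplex.isKInjective_of_injective I a

/-- every morphism `Q L ⟶ Q I` is `Q.map` of a chain map when `I` is K-injective. -/
theorem exists_Q_map_of_isKInjective (L I : CochainComplex A ℤ) [I.IsKInjective]
    (α : Q.obj L ⟶ Q.obj I) : ∃ f : L ⟶ I, α = Q.map f := by
  obtain ⟨ψ, hψ⟩ := (CochainComplex.IsKInjective.Qh_map_bijective
    ((HomotopyCategory.quotient A (.up ℤ)).obj L) I).surjective α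
  obtain ⟨f, rfl⟩ := (HomotopyCategory.quotient A (.up ℤ)).map_surjective ψ
  exact ⟨f, hψ.symm⟩

/-- no maps `F[0] ⟶ K[i]` for `i` outside the injective amplitude. -/
theorem HasInjAmp.hom_eq_zero {a b : ℤ} {K : DerivedCategory A} (h : HasInjAmp a b K) (F : A)
    (i : ℤ) (hi : i < a ∨ b < i) (α : (singleFunctor A 0).obj F ⟶ K⟦i⟧) : α = 0 := by
  obtain ⟨I, h1, h2, ⟨e⟩⟩ := h
  have : I.IsKInjective := isKInjective_of_data I a (fun j hj => h2 j (Or.inl hj)) h1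
  let ε : K⟦i⟧ ≅ Q.obj (I⟦i⟧) := (shiftFunctor _ i).mapIso e.symm ≪≫ ((Q.commShiftIso i).app I).symm
  obtain ⟨f, hf⟩ := exists_Q_map_of_isKInjective ((CochainComplex.singleFunctor A 0).obj F) (I⟦i⟧)
    (α ≫ ε.hom)
  have hf0 : f = 0 := by
    apply HomologicalComplex.from_single_hom_ext
    have : IsZero ((I⟦i⟧).X 0) := by
      change IsZero (I.X (0 + i))
      exact h2 _ (by omega)
    exact this.eq_of_tgt _ _
  subst hf0
  have h3 : α ≫ ε.hom = 0 := hf.trans (by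
    change Q.map (0 : (CochainComplex.singleFunctor A 0).obj F ⟶ _) = 0
    exact Functor.map_zero _ _ _)
  exact (cancel_mono ε.hom).1 (h3.trans zero_comp.symm)

/-- (Glue) -/
theorem HasInjAmp.of_triangle {a₁ b₁ a₂ b₂ a b : ℤ} (T : Triangle (DerivedCategory A))
    (hT : T ∈ distTriang _) (hX : HasInjAmp a₁ b₁ T.obj₁) (hC : HasInjAmp a₂ b₂ T.obj₃)
    (ha : a ≤ a₁ ∧ a ≤ a₂) (hb : b₁ ≤ b ∧ b₂ ≤ b) : HasInjAmp a b T.obj₂ := by
  obtain ⟨P₁, h12, h11, ⟨e₁⟩⟩ := hX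
  obtain ⟨P₂, h22, h21, ⟨e₂⟩⟩ := hC
  have : (P₁⟦(1 : ℤ)⟧).IsKInjective := by
    have : P₁.IsKInjective := isKInjective_of_data P₁ a₁ (fun i hi => h11 i (Or.inl hi)) h12
    infer_instance
  let ε : Q.obj (P₁⟦(1 : ℤ)⟧) ≅ T.obj₁⟦(1 : ℤ)⟧ :=
    (Q.commShiftIso (1 : ℤ)).app P₁ ≪≫ (shiftFunctor _ (1 : ℤ)).mapIso e₁
  obtain ⟨f, hf⟩ := exists_Q_map_of_isKInjective P₂ (P₁⟦(1 : ℤ)⟧) (e₂.hom ≫ T.mor₃ ≫ ε.inv)
  have hT2 := rot_of_distTriang _ (rot_of_distTriang _ hT)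
  have hT3 := DerivedCategory.mappingCone_triangle_distinguished f
  have eT := isoTriangleOfIso₁₂ _ _ hT3 hT2 e₂ ε (by
    change Q.map f ≫ ε.hom = e₂.hom ≫ T.mor₃
    rw [← hf, Category.assoc, Category.assoc, Iso.inv_hom_id, Category.comp_id])
  have e3 : Q.obj (CochainComplex.mappingCone f) ≅ T.obj₂⟦(1 : ℤ)⟧ := Triangle.π₃.mapIso eT
  let E : CochainComplex A ℤ := (CochainComplex.mappingCone f)⟦(-1 : ℤ)⟧
  have e4 : Q.obj E ≅ T.obj₂ :=
    (Q.commShiftIso (-1 : ℤ)).app _ ≪≫ (shiftFunctor _ (-1 : ℤ)).mapIso e3 ≪≫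
      (shiftFunctorCompIsoId (DerivedCategory A) (1 : ℤ) (-1) (by norm_num)).app T.obj₂
  refine ⟨E, ?_, ?_, ⟨e4⟩⟩
  · intro i
    change Injective ((CochainComplex.mappingCone f).X (i + (-1)))
    refine injective_mappingCone_X f _ (h22 _) ?_
    change Injective (P₁.X (i + (-1) + 1))
    exact h12 _
  · intro i hi
    change IsZero ((CochainComplex.mappingCone f).X (i + (-1)))
    refine isZero_mappingCone_X f _ (h21 _ (by omega)) ?_
    change IsZero (P₁.X (i + (-1) + 1))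
    exact h11 _ (by omega)

lemma hasInjAmp_single (b : ℤ) (J : A) [Injective J] :
    HasInjAmp b b ((singleFunctor A b).obj J) :=
  ⟨(CochainComplex.singleFunctor A b).obj J, injective_single_X b J,
    fun i hi => HomologicalComplex.isZero_single_obj_X (ComplexShape.up ℤ) b J i (by omega),
    ⟨Iso.refl _⟩⟩

lemma HasInjAmp.shift {a b : ℤ} {K : DerivedCategory A} (h : HasInjAmp a b K) (m a' b' : ℤ)
    (ha : a' + m = a) (hb : b' + m = b) : HasInjAmp a' b' (K⟦m⟧) := by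
  obtain ⟨P, h1, h2, ⟨e⟩⟩ := h
  refine ⟨P⟦m⟧, ?_, ?_, ⟨(Q.commShiftIso m).app P ≪≫ (shiftFunctor _ m).mapIso e⟩⟩
  · intro i
    change Injective (P.X (i + m))
    exact h1 _
  · intro i hi
    change IsZero (P.X (i + m))
    exact h2 _ (by omega)

end Groth.Agent.Lib.Helper8.IAmp
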