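import Mathlib
import Groth.Agent.Lib.Helper8.IAmp1

/-!
# Helper8 — IAmp2: `Ext`-vanishing criterion for injective amplitude, relative to a class of test objects.
-/

open CategoryTheory CategoryTheory.Limits DerivedCategory CategoryTheory.Pretriangulated

namespace Groth.Agent.Lib.Helper8.IAmp

open Groth.Agent.Lib.Helper8.DTrunc Groth.Agent.Lib.Helper8.PAmp

universe w v u

variable {A : Type u} [Category.{v} A] [Abelian A] [HasDerivedCategory.{w} A]

/-- A class of test objects detecting injectivity and vanishing of cohomology. -/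
structure TestClass (𝒯 : A → Prop) : Prop where
  injective_of_ext : ∀ M : A, (∀ N, 𝒯 N → ∀ ζ : (singleFunctor A 0).obj N ⟶
    ((singleFunctor A 0).obj M)⟦(1 : ℤ)⟧, ζ = 0) → Injective M
  isZero_homology : ∀ (X : DerivedCategory A) (i : ℤ),
    (∀ N, 𝒯 N → ∀ ζ : (singleFunctor A 0).obj N ⟶ X⟦i⟧, ζ = 0) →
      IsZero ((homologyFunctor A i).obj X)

/-- (Z1) -/
lemma isZero_homology_obj₁ (T : Triangle (DerivedCategory A)) (hT : T ∈ distTriang _)
    (n₀ n₁ : ℤ) (h : n₀ + 1 = n₁)
    (h1 : Epi ((homologyFunctor A n₀).map T.mor₂)) (h2 : Mono ((homologyFunctor A n₁).map T.mor₂)) :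
    IsZero ((homologyFunctor A n₁).obj T.obj₁) :=
  (HomologySequence.exact₁ T hT n₀ n₁ h).isZero_X₂
    ((HomologySequence.epi_homologyMap_mor₂_iff T hT n₀ n₁ h).1 h1)
    ((HomologySequence.mono_homologyMap_mor₂_iff T hT n₁).1 h2)

variable [EnoughInjectives A]

/-- normalized form: `K ∈ D^{[-b, 1]}` with `Hom(N[0], K[1]) = 0` for all test objects `N` has injective
amplitude in `[-b, 0]`. -/
theorem hasInjAmp_of_ext_vanishing₀ {𝒯 : A → Prop} (h𝒯 : TestClass 𝒯) :
    ∀ (b : ℕ) (K : DerivedCategory A), K.IsGE (-(b : ℤ)) → K.IsLE 1 →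
    (∀ N, 𝒯 N → ∀ ζ : (singleFunctor A 0).obj N ⟶ K⟦(1 : ℤ)⟧, ζ = 0) → HasInjAmp (-(b : ℤ)) 0 K := by
  intro b
  induction b with
  | zero =>
    intro K hGE hLE H
    have hGE' : K.IsGE 0 := by simpa using hGE
    have h1 : IsZero ((homologyFunctor A 1).obj K) := h𝒯.isZero_homology K 1 H
    have : K.IsLE 0 := (isLE_iff K 0).2 (fun i hi => by
      by_cases h : i = 1
      · subst h; exact h1
      · exact isZero_of_isLE K 1 i (by omega))
    obtain ⟨M, ⟨e⟩⟩ := exists_iso_singleFunctor_obj_of_isGE_of_isLE K 0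
    have : Injective M := h𝒯.injective_of_ext M (fun N hN ζ => by
      have := H N hN (ζ ≫ e.inv⟦(1 : ℤ)⟧')
      rw [← cancel_mono (e.inv⟦(1 : ℤ)⟧'), this, zero_comp])
    have h2 := (hasInjAmp_single 0 M).of_iso e.symm
    simpa using h2
  | succ b ih =>
    intro K hGE hLE H
    set a' : ℤ := -((b : ℤ) + 1) with ha'
    have hGE' : K.IsGE a' := by
      have := hGE
      push_cast at this
      exact this
    let J := Injective.under ((homologyFunctor A a').obj K)
    obtain ⟨ξ, hξ⟩ := exists_extend_to_injective a' J K (Injective.ι _)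
    have hξmono : Mono ((homologyFunctor A a').map ξ) := by rw [hξ]; infer_instance
    obtain ⟨F, f, h, hT⟩ := distinguished_cocone_triangle₁ ξ
    -- cohomological bounds for the fibre
    have hS : ∀ i : ℤ, i ≠ a' → IsZero ((homologyFunctor A i).obj ((singleFunctor A a').obj J)) :=
      fun i hi => PAmp.isZero_homology_single a' J i hi
    have hF1 : F.IsGE (-(b : ℤ)) := (isGE_iff F _).2 (fun i hi => by
      by_cases hia : i = a'
      · subst hia
        exact isZero_homology_obj₁ _ hT (a' - 1) a' (by omega)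
          ⟨fun _ _ _ => (hS (a' - 1) (by omega)).eq_of_src _ _⟩ hξmono
      · exact isZero_homology_obj₁ _ hT (i - 1) i (by omega)
          ⟨fun _ _ _ => (hS (i - 1) (by omega)).eq_of_src _ _⟩
          ⟨fun _ _ _ => (isZero_of_isGE K a' i (by omega)).eq_of_tgt _ _⟩)
    have hF2 : F.IsLE 1 := (isLE_iff F 1).2 (fun i hi =>
      isZero_homology_obj₁ _ hT (i - 1) i (by omega)
        ⟨fun _ _ _ => (hS (i - 1) (by omega)).eq_of_src _ _⟩
        ⟨fun _ _ _ => (isZero_of_isLE K 1 i hi).eq_of_tgt _ _⟩)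
    have hFH : ∀ N, 𝒯 N → ∀ ζ : (singleFunctor A 0).obj N ⟶ F⟦(1 : ℤ)⟧, ζ = 0 := by
      intro N hN ζ
      have h1 : ζ ≫ f⟦(1 : ℤ)⟧' = 0 := H N hN _
      obtain ⟨s, hs⟩ : ∃ s : (singleFunctor A 0).obj N ⟶ (singleFunctor A a').obj J, ζ = s ≫ h :=
        Triangle.coyoneda_exact₁ _ hT ζ h1
      have : s = 0 := hom_single_injective_eq_zero a' J _ 0 (by omega) s
      rw [hs, this, zero_comp]
    have hFamp := ih F hF1 hF2 hFH
    have := HasInjAmp.of_triangle (a := a') (b := 0) (Triangle.mk f ξ h) hT hFamp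
      (hasInjAmp_single a' J) ⟨by omega, le_rfl⟩ ⟨le_rfl, by omega⟩
    have hcast : (-((b + 1 : ℕ) : ℤ)) = a' := by push_cast; ring
    rw [hcast]
    exact this

end Groth.Agent.Lib.Helper8.IAmp
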