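import Mathlib
import Groth.Agent.Lib.Helper8.IAmp2

/-!
# Helper8 — IAmp3: `Ext`-vanishing criterion for injective amplitude, general `[a, b]`.
-/

open CategoryTheory CategoryTheory.Limits DerivedCategory CategoryTheory.Pretriangulated

namespace Groth.Agent.Lib.Helper8.IAmp

open Groth.Agent.Lib.Helper8.DTrunc Groth.Agent.Lib.Helper8.PAmp

open ZeroObject

universe w v u

variable {A : Type u} [Category.{v} A] [Abelian A] [HasDerivedCategory.{w} A]

lemma hasInjAmp_of_isZero {a b : ℤ} {K : DerivedCategory A} (hK : IsZero K) : HasInjAmp a b K :=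
  ⟨0, fun i => ((HomologicalComplex.eval A (ComplexShape.up ℤ) i).map_isZero (isZero_zero _)).injective,
    fun i _ => (HomologicalComplex.eval A (ComplexShape.up ℤ) i).map_isZero (isZero_zero _),
    ⟨(Functor.map_isZero Q (isZero_zero _)).iso hK⟩⟩

variable [EnoughInjectives A]

theorem hasInjAmp_of_ext_vanishing {𝒯 : A → Prop} (h𝒯 : TestClass 𝒯) (a b : ℤ)
    (X : DerivedCategory A)
    (H : ∀ N, 𝒯 N → ∀ i : ℤ, (i < a ∨ b < i) → ∀ ζ : (singleFunctor A 0).obj N ⟶ X⟦i⟧, ζ = 0) :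
    HasInjAmp a b X := by
  have hH : ∀ i : ℤ, (i < a ∨ b < i) → IsZero ((homologyFunctor A i).obj X) :=
    fun i hi => h𝒯.isZero_homology X i (fun N hN ζ => H N hN i hi ζ)
  have hGE : X.IsGE a := (isGE_iff X a).2 (fun i hi => hH i (Or.inl hi))
  have hLE : X.IsLE b := (isLE_iff X b).2 (fun i hi => hH i (Or.inr hi))
  by_cases hab : a ≤ b
  · obtain ⟨n, hn⟩ : ∃ n : ℕ, (n : ℤ) = b - a := ⟨(b - a).toNat, Int.toNat_of_nonneg (by omega)⟩
    have h1 : (X⟦b⟧).IsGE (-(n : ℤ)) := tt.isGE_shift X a b (-(n : ℤ)) (by omega)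
    have h2 : (X⟦b⟧).IsLE 0 := tt.isLE_shift X b b 0 (by omega)
    have h2' : (X⟦b⟧).IsLE 1 := tt.isLE_of_le _ 0 1 (by omega)
    have H' : ∀ N, 𝒯 N → ∀ ζ : (singleFunctor A 0).obj N ⟶ (X⟦b⟧)⟦(1 : ℤ)⟧, ζ = 0 := by
      intro N hN ζ
      have h3 := H N hN (b + 1) (Or.inr (by omega))
        (ζ ≫ (shiftFunctorAdd' (DerivedCategory A) b 1 (b + 1) rfl).inv.app X)
      rw [← cancel_mono ((shiftFunctorAdd' (DerivedCategory A) b 1 (b + 1) rfl).inv.app X), h3,
        zero_comp]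
    have h5 := hasInjAmp_of_ext_vanishing₀ h𝒯 n (X⟦b⟧) h1 h2' H'
    exact (h5.shift (-b) a b (by omega) (by omega)).of_iso
      ((shiftFunctorCompIsoId (DerivedCategory A) b (-b) (by omega)).app X)
  · have hX : IsZero X := tt.isZero X b a (by omega)
    exact hasInjAmp_of_isZero hX

end Groth.Agent.Lib.Helper8.IAmp
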