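import Mathlib
import Groth.Agent.Lib.Helper8.IAmp3

/-!
# Helper8 — IAmp4: the class of all objects is a test class; injective amplitude ⇔ Ext-vanishing.
-/

open CategoryTheory CategoryTheory.Limits DerivedCategory CategoryTheory.Pretriangulated

namespace Groth.Agent.Lib.Helper8.IAmp

open Groth.Agent.Lib.Helper8.DTrunc Groth.Agent.Lib.Helper8.PAmp

universe w v u

variable {A : Type u} [Category.{v} A] [Abelian A] [HasDerivedCategory.{w} A]

/-- (T1) `Ext¹(N, M) = 0` for all `N` implies `M` injective. -/
theorem injective_of_ext_vanishing [EnoughInjectives A] (M : A)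
    (H : ∀ (N : A) (ζ : (singleFunctor A 0).obj N ⟶ ((singleFunctor A 0).obj M)⟦(1 : ℤ)⟧), ζ = 0) :
    Injective M := by
  let S : ShortComplex A := ShortComplex.mk (Injective.ι M) (cokernel.π (Injective.ι M))
    (cokernel.condition _)
  have hS : S.ShortExact :=
    { exact := ShortComplex.exact_cokernel _
      mono_f := (inferInstance : Mono (Injective.ι M))
      epi_g := (inferInstance : Epi (cokernel.π (Injective.ι M))) }
  have hT := hS.singleTriangle_distinguished
  have hδ : hS.singleTriangle.mor₃ = 0 := H _ _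
  have h1 : Mono hS.singleTriangle.mor₁ := (Triangle.mor₃_eq_zero_iff_mono₁ _ hT).1 hδ
  have h2 : IsSplitMono hS.singleTriangle.mor₁ := isSplitMono_of_mono _
  obtain ⟨⟨r, hr⟩⟩ := h2
  obtain ⟨ρ, rfl⟩ := (singleFunctor A 0).map_surjective r
  have h3 : Injective.ι M ≫ ρ = 𝟙 M := (singleFunctor A 0).map_injective (by
    rw [Functor.map_comp, CategoryTheory.Functor.map_id]
    exact hr)
  exact (Retract.mk (Injective.ι M) ρ h3).injective

/-- the homology at `0` of a complex vanishes if the map from the cycles vanishes in `D(A)`. -/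
theorem isZero_homology_of_cycles (L : CochainComplex A ℤ)
    (H : ∀ (N : A) (ζ : (singleFunctor A 0).obj N ⟶ Q.obj L), ζ = 0) : IsZero (L.homology 0) := by
  let z : (HomologicalComplex.single A (ComplexShape.up ℤ) 0).obj (L.cycles 0) ⟶ L :=
    HomologicalComplex.mkHomFromSingle (L.iCycles 0) (fun j hj => by
      have : (0 : ℤ) + 1 = j := hj
      simp)
  have h1 : Q.map z = 0 := H (L.cycles 0) (Q.map z)
  have h2 : HomologicalComplex.homologyMap z 0 = 0 := by
    have h := (homologyFunctorFactors A 0).hom.naturality z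
    have h0 : (Q ⋙ homologyFunctor A 0).map z = 0 := by
      change (homologyFunctor A 0).map (Q.map z) = 0
      exact (congrArg _ h1).trans (Functor.map_zero _ _ _)
    rw [h0, zero_comp] at h
    exact (cancel_epi ((homologyFunctorFactors A 0).hom.app _)).1 (h.symm.trans comp_zero.symm)
  have h3 := HomologicalComplex.homologyπ_naturality z 0
  rw [h2, comp_zero] at h3
  have h4 : IsIso (HomologicalComplex.cyclesMap z 0) := by
    have h5 : HomologicalComplex.cyclesMap z 0 =
        ((HomologicalComplex.single A (ComplexShape.up ℤ) 0).obj (L.cycles 0)).iCycles 0 ≫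
          (HomologicalComplex.singleObjXSelf (ComplexShape.up ℤ) 0 (L.cycles 0)).hom := by
      rw [← cancel_mono (L.iCycles 0), HomologicalComplex.cyclesMap_i, Category.assoc]
      congr 1
      exact HomologicalComplex.mkHomFromSingle_f _ _
    have h6 : IsIso (((HomologicalComplex.single A (ComplexShape.up ℤ) 0).obj (L.cycles 0)).iCycles 0) :=
      HomologicalComplex.isIso_iCycles _ 0 1 (by simp) (by simp)
    rw [h5]
    infer_instance
  have h7 : Epi (HomologicalComplex.cyclesMap z 0 ≫ L.homologyπ 0) := epi_comp _ _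
  exact IsZero.of_epi_eq_zero _ h3.symm

/-- (T2) -/
theorem isZero_homology_of_hom_vanishing (X : DerivedCategory A) (i : ℤ)
    (H : ∀ (N : A) (ζ : (singleFunctor A 0).obj N ⟶ X⟦i⟧), ζ = 0) :
    IsZero ((homologyFunctor A i).obj X) := by
  let L := Q.objPreimage (X⟦i⟧)
  let e : Q.obj L ≅ X⟦i⟧ := Q.objObjPreimageIso (X⟦i⟧)
  have h1 : IsZero (L.homology 0) := isZero_homology_of_cycles L (fun N ζ => by
    have := H N (ζ ≫ e.hom)
    rw [← cancel_mono e.hom, this, zero_comp])
  have h2 : IsZero ((homologyFunctor A 0).obj (Q.obj L)) :=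
    h1.of_iso ((homologyFunctorFactors A 0).app L)
  have h3 : IsZero ((homologyFunctor A 0).obj (X⟦i⟧)) :=
    h2.of_iso ((homologyFunctor A 0).mapIso e.symm)
  exact h3.of_iso (((homologyFunctor A 0).shiftIso i 0 i (by omega)).app X).symm

theorem testClass_top [EnoughInjectives A] : TestClass (fun _ : A => True) where
  injective_of_ext M H := injective_of_ext_vanishing M (fun N ζ => H N trivial ζ)
  isZero_homology X i H := isZero_homology_of_hom_vanishing X i (fun N ζ => H N trivial ζ)

/-- S12537 (for any abelian category with enough injectives; no `a ≤ b` needed). -/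
theorem extVanishing_iff_hasInjAmp [EnoughInjectives A] (X : DerivedCategory A) (a b : ℤ) :
    (∀ (F : A) (i : ℤ), (i < a ∨ b < i) →
        ∀ φ : (singleFunctor A 0).obj F ⟶ X⟦i⟧, φ = 0) ↔ HasInjAmp a b X :=
  ⟨fun H => hasInjAmp_of_ext_vanishing testClass_top a b X (fun N _ i hi ζ => H N i hi ζ),
    fun h F i hi φ => h.hom_eq_zero F i hi φ⟩

end Groth.Agent.Lib.Helper8.IAmp
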