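import Mathlib
import Groth.Prelude.Def_DRing2
import Groth.Agent.Lib.Helper8.IAmp4

/-!
# Helper8 — IAmp5: injective amplitude TFAE over a ring (S6965): cyclic modules form a test class.
-/

open CategoryTheory CategoryTheory.Limits DerivedCategory CategoryTheory.Pretriangulated

attribute [local instance] HasDerivedCategory.standard

namespace Groth.Agent.Lib.Helper8.IAmp

open Groth.Agent.Lib.Helper8.DTrunc Groth.Agent.Lib.Helper8.PAmp

universe u

variable {R : Type u} [CommRing R]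

/-- the class of cyclic modules `R ⧸ I`. -/
def Cyclic (N : ModuleCat.{u} R) : Prop := ∃ I : Ideal R, N = ModuleCat.of R (R ⧸ I)

/-- Baer's criterion in `D(R)`. -/
theorem injective_of_ext_cyclic_vanishing (M : ModuleCat.{u} R)
    (H : ∀ (I : Ideal R) (ζ : (singleFunctor (ModuleCat.{u} R) 0).obj (ModuleCat.of R (R ⧸ I)) ⟶
      ((singleFunctor (ModuleCat.{u} R) 0).obj M)⟦(1 : ℤ)⟧), ζ = 0) : Injective M := by
  have hB : Module.Baer R M := by
    intro I g
    let S : ShortComplex (ModuleCat.{u} R) :=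
      ModuleCat.shortComplexOfCompEqZero I.subtype (Submodule.mkQ I)
        (LinearMap.exact_subtype_mkQ I).linearMap_comp_eq_zero
    have hS : S.ShortExact := ModuleCat.shortComplex_shortExact S
      (LinearMap.exact_subtype_mkQ I) (Submodule.injective_subtype I) (Submodule.mkQ_surjective I)
    have hT := hS.singleTriangle_distinguished
    let F := singleFunctor (ModuleCat.{u} R) 0
    let g₀ : ModuleCat.of R I ⟶ M := ModuleCat.ofHom g
    let ι : ModuleCat.of R I ⟶ ModuleCat.of R R := ModuleCat.ofHom I.subtype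
    have h0 : hS.singleTriangle.mor₃ ≫ (F.map g₀)⟦(1 : ℤ)⟧' = 0 := H I _
    obtain ⟨γ, hγ⟩ : ∃ γ : (F.obj (ModuleCat.of R R))⟦(1 : ℤ)⟧ ⟶ (F.obj M)⟦(1 : ℤ)⟧,
        (F.map g₀)⟦(1 : ℤ)⟧' = (-(F.map ι)⟦(1 : ℤ)⟧') ≫ γ :=
      Triangle.yoneda_exact₃ _ (rot_of_distTriang _ hT) ((F.map g₀)⟦(1 : ℤ)⟧') h0
    obtain ⟨γ', rfl⟩ := (shiftFunctor (DerivedCategory (ModuleCat.{u} R)) (1 : ℤ)).map_surjective γ
    obtain ⟨g', rfl⟩ := F.map_surjective γ'
    have h1 : g₀ = - (ι ≫ g') :=
      F.map_injective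
        ((shiftFunctor (DerivedCategory (ModuleCat.{u} R)) (1 : ℤ)).map_injective (by
          rw [hγ, Preadditive.neg_comp, ← Functor.map_comp, ← Functor.map_comp, Functor.map_neg,
            Functor.map_neg]))
    refine ⟨(-g').hom, fun x mem => ?_⟩
    have h2 := congrArg (fun φ => φ.hom ⟨x, mem⟩) h1
    simp [g₀, ι] at h2
    simp [h2]
  have := Module.Baer.injective hB
  exact Module.injective_object_of_injective_module R M

/-- if `P` is projective and every map `P[0] ⟶ Y` vanishes then `Hom(P, H^0(Y)) = 0`. -/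
theorem hom_homology_eq_zero_of_projective {A : Type*} [Category A] [Abelian A]
    [HasDerivedCategory A] (P : A) [Projective P] (Y : DerivedCategory A)
    (H : ∀ ζ : (singleFunctor A 0).obj P ⟶ Y, ζ = 0) (ψ : P ⟶ (homologyFunctor A 0).obj Y) :
    ψ = 0 := by
  let Y' := (tt.truncLT 1).obj Y
  have : Y'.IsLE 0 := (inferInstance : tt.IsLE ((tt.truncLT (0 + 1)).obj Y) 0)
  let ι : Y' ⟶ Y := (tt.truncLTι 1).app Y
  have hι : IsIso ((homologyFunctor A 0).map ι) := isIso_homologyMap_truncLTι Y 1 0 (by omega)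
  obtain ⟨β, hβ⟩ := PAmp.exists_lift_of_projective 0 P Y' (ψ ≫ inv ((homologyFunctor A 0).map ι))
  have h1 : β ≫ ι = 0 := H _
  have h2 : (homologyFunctor A 0).map β ≫ (homologyFunctor A 0).map ι = 0 := by
    rw [← Functor.map_comp, h1, Functor.map_zero]
  rw [hβ, Category.assoc, Category.assoc, IsIso.inv_hom_id, Category.comp_id] at h2
  exact (cancel_epi ((singleFunctorCompHomologyFunctorIso A 0).hom.app P)).1 (h2.trans comp_zero.symm)

theorem isZero_homology_of_hom_cyclic_vanishing (X : DerivedCategory (ModuleCat.{u} R)) (i : ℤ)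
    (H : ∀ (I : Ideal R) (ζ : (singleFunctor (ModuleCat.{u} R) 0).obj (ModuleCat.of R (R ⧸ I)) ⟶
      X⟦i⟧), ζ = 0) : IsZero ((homologyFunctor (ModuleCat.{u} R) i).obj X) := by
  have hP : Module.Projective R (R ⧸ (⊥ : Ideal R)) :=
    Module.Projective.of_equiv (Submodule.quotEquivOfEqBot (⊥ : Ideal R) rfl).symm
  have : Projective (ModuleCat.of R (R ⧸ (⊥ : Ideal R))) := (IsProjective.iff_projective _).1 hP
  have h1 : Subsingleton ((homologyFunctor (ModuleCat.{u} R) 0).obj (X⟦i⟧)) := by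
    refine ⟨fun x y => ?_⟩
    suffices ∀ x : ((homologyFunctor (ModuleCat.{u} R) 0).obj (X⟦i⟧)), x = 0 from
      (this x).trans (this y).symm
    intro x
    let ψ : ModuleCat.of R (R ⧸ (⊥ : Ideal R)) ⟶ (homologyFunctor (ModuleCat.{u} R) 0).obj (X⟦i⟧) :=
      ModuleCat.ofHom ((LinearMap.toSpanSingleton R _ x).comp
        (Submodule.quotEquivOfEqBot (⊥ : Ideal R) rfl).toLinearMap)
    have hψ : ψ = 0 := hom_homology_eq_zero_of_projective _ _ (H ⊥) ψ
    have h2 := congrArg (fun φ => φ.hom (Submodule.Quotient.mk 1)) hψ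
    have h3 : ψ.hom (Submodule.Quotient.mk 1) = x := by
      change (LinearMap.toSpanSingleton R _ x)
        ((Submodule.quotEquivOfEqBot (⊥ : Ideal R) rfl) (Submodule.Quotient.mk 1)) = x
      rw [Submodule.quotEquivOfEqBot_apply_mk, LinearMap.toSpanSingleton_apply, one_smul]
    exact h3.symm.trans h2
  have h3 : IsZero ((homologyFunctor (ModuleCat.{u} R) 0).obj (X⟦i⟧)) :=
    ModuleCat.isZero_of_subsingleton _
  exact h3.of_iso (((homologyFunctor (ModuleCat.{u} R) 0).shiftIso i 0 i (by omega)).app X).symm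

theorem testClass_cyclic : TestClass (Cyclic (R := R)) where
  injective_of_ext M H := injective_of_ext_cyclic_vanishing M (fun I ζ => H _ ⟨I, rfl⟩ ζ)
  isZero_homology X i H := isZero_homology_of_hom_cyclic_vanishing X i (fun I ζ => H _ ⟨I, rfl⟩ ζ)

lemma hasInjAmp_iff (a b : ℤ) (K : Dual.D R) :
    DRing.HasInjAmplitudeIn R a b K ↔ HasInjAmp a b K := by
  constructor
  · rintro ⟨E, h1, h2, h3⟩
    exact ⟨E, fun i => Module.injective_object_of_injective_module (inj := h2 i) R (E.X i), h1, h3⟩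
  · rintro ⟨E, h1, h2, h3⟩
    exact ⟨E, h2, fun i => Module.injective_module_of_injective_object (inj := h1 i) R (E.X i), h3⟩

/-- S6965 -/
theorem injectiveAmplitude_tfae (K : Dual.D R) (a b : ℤ) :
    [DRing.HasInjAmplitudeIn R a b K,
      ∀ (N : Type u) [AddCommGroup N] [Module R N] (i : ℤ), (i < a ∨ b < i) →
        Subsingleton (DRing.ExtD R (Dual.inD R N) K i),
      ∀ (I : Ideal R) (i : ℤ), (i < a ∨ b < i) →
        Subsingleton (DRing.ExtD R (Dual.inD R (R ⧸ I)) K i)].TFAE := by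
  tfae_have 1 → 2 := by
    rw [hasInjAmp_iff]
    intro h N _ _ i hi
    refine ⟨fun x y => ?_⟩
    exact (h.hom_eq_zero _ i hi x).trans (h.hom_eq_zero _ i hi y).symm
  tfae_have 2 → 3 := fun H I i hi => H (R ⧸ I) i hi
  tfae_have 3 → 1 := by
    intro H
    rw [hasInjAmp_iff]
    refine hasInjAmp_of_ext_vanishing testClass_cyclic a b K ?_
    rintro N ⟨I, rfl⟩ i hi ζ
    exact (H I i hi).elim _ _
  tfae_finish

end Groth.Agent.Lib.Helper8.IAmp
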