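import Mathlib
import Groth.Agent.Lib.Helper8.EFB10
import Groth.Agent.Lib.Helper8.IAmp5

/-! # Helper8 — EFB11: `DRing.HasFiniteInjDim` gives bounded cohomology and Ext-vanishing from modules -/

set_option autoImplicit false

universe u

open CategoryTheory CategoryTheory.Limits DerivedCategory TensorProduct CategoryTheory.Pretriangulated

attribute [local instance] HasDerivedCategory.standard

namespace Groth.Agent.Lib.Helper8.EFB

open Groth.Agent.Lib.Helper16.FlatBC Groth.Agent.Lib.Helper8.EBC

variable {A : Type u} [CommRing A]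

lemma subsingleton_HD_of_vanishesOutside (E : DRing.Cx A) (a b : ℤ)
    (h : DRing.VanishesOutside E a b) (K : Dual.D A) (e : DRing.toD E ≅ K) (i : ℤ)
    (hi : i < a ∨ b < i) : Subsingleton (Dual.HD A K i) := by
  have hz : IsZero (E.homology i) :=
    ShortComplex.isZero_homology_of_isZero_X₂ _ (h i hi)
  have hz2 : IsZero ((DerivedCategory.homologyFunctor (ModuleCat.{u} A) i).obj K) :=
    hz.of_iso (((DerivedCategory.homologyFunctor (ModuleCat.{u} A) i).mapIso e.symm) ≪≫
      (DerivedCategory.homologyFunctorFactors (ModuleCat.{u} A) i).app E)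
  exact ModuleCat.subsingleton_of_isZero hz2

/-- finite injective dimension in the representative form gives the bounded-cohomology and
Ext-vanishing hypotheses -/
lemma hbdd_hinj_of_hasFiniteInjDim (K : Dual.D A) (h : DRing.HasFiniteInjDim A K) :
    (∃ a b : ℤ, ∀ i : ℤ, (i < a ∨ b < i) → Subsingleton (Dual.HD A K i)) ∧
    (∃ a b : ℤ, ∀ (M : Type u) [AddCommGroup M] [Module A M] (i : ℤ),
      (i < a ∨ b < i) → Subsingleton (Dual.inD A M ⟶ K⟦i⟧)) := by
  obtain ⟨a, b, hab⟩ := h
  have hinj := ((IAmp.injectiveAmplitude_tfae K a b).out 0 1).1 hab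
  obtain ⟨E, hE, _, ⟨e⟩⟩ := hab
  exact ⟨⟨a, b, fun i hi => subsingleton_HD_of_vanishesOutside E a b hE K e i hi⟩,
    ⟨a, b, fun M _ _ i hi => hinj M i hi⟩⟩

end Groth.Agent.Lib.Helper8.EFB
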