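import Mathlib
import Groth.Agent.Lib.Helper8.EFB11
import Groth.Agent.Lib.Helper16.FlatBC3

/-! # Helper8 — EFB12: cohomology of flat base change in tensor form; Ext flat base change from a finite module; cohomology bounds from Ext-vanishing -/

set_option autoImplicit false

universe u

open CategoryTheory CategoryTheory.Limits DerivedCategory TensorProduct CategoryTheory.Pretriangulated

attribute [local instance] HasDerivedCategory.standard

namespace Groth.Agent.Lib.Helper8.EFB

open Groth.Agent.Lib.Helper16.FlatBC Groth.Agent.Lib.Helper8.EBC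

section Single

variable {A : Type u} [CommRing A]

lemma subsingleton_tensor_of_right (M N : Type*) [AddCommGroup M] [Module A M]
    [AddCommGroup N] [Module A N] [Subsingleton N] : Subsingleton (M ⊗[A] N) := by
  have h0 : ∀ z : M ⊗[A] N, z = 0 := fun z => by
    induction z using TensorProduct.induction_on with
    | zero => rfl
    | tmul m n => rw [Subsingleton.elim n 0, TensorProduct.tmul_zero]
    | add a b ha hb => rw [ha, hb, add_zero]
  exact ⟨fun x y => (h0 x).trans (h0 y).symm⟩

/-- `H^0(M[0]) ≃ M` -/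
noncomputable def HDinD (M : Type u) [AddCommGroup M] [Module A M] :
    Dual.HD A (Dual.inD A M) 0 ≃ₗ[A] M :=
  ((singleFunctorCompHomologyFunctorIso (ModuleCat.{u} A) 0).app (ModuleCat.of A M)).toLinearEquiv

lemma subsingleton_HD_inD (M : Type u) [AddCommGroup M] [Module A M] (n : ℤ) (hn : n ≠ 0) :
    Subsingleton (Dual.HD A (Dual.inD A M) n) := by
  rcases lt_or_gt_of_ne hn with h | h
  · exact ModuleCat.subsingleton_of_isZero ((Dual.inD A M).isZero_of_isGE 0 n h)
  · exact ModuleCat.subsingleton_of_isZero ((Dual.inD A M).isZero_of_isLE 0 n h)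

lemma finite_HD_inD (M : Type u) [AddCommGroup M] [Module A M] [Module.Finite A M] (n : ℤ) :
    Module.Finite A (Dual.HD A (Dual.inD A M) n) := by
  by_cases hn : n = 0
  · subst hn
    exact Module.Finite.equiv (HDinD M).symm
  · haveI := subsingleton_HD_inD (A := A) M n hn
    infer_instance

/-- Ext-vanishing from modules outside `[a, b]` gives cohomology vanishing outside `[a, b]` -/
lemma hbdd_of_hinj (K : Dual.D A) (a b : ℤ)
    (h : ∀ (M : Type u) [AddCommGroup M] [Module A M] (i : ℤ),
      (i < a ∨ b < i) → Subsingleton (Dual.inD A M ⟶ K⟦i⟧)) :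
    ∀ i : ℤ, (i < a ∨ b < i) → Subsingleton (Dual.HD A K i) := by
  have h1 : DRing.HasInjAmplitudeIn A a b K :=
    ((IAmp.injectiveAmplitude_tfae K a b).out 1 0).1 (fun N _ _ i hi => h N i hi : ∀ (N : Type u) [AddCommGroup N] [Module A N] (i : ℤ), (i < a ∨ b < i) →
        Subsingleton (DRing.ExtD A (Dual.inD A N) K i))
  obtain ⟨E, hE, _, ⟨e⟩⟩ := h1
  exact fun i hi => subsingleton_HD_of_vanishesOutside E a b hE K e i hi

end Single

variable {A B : Type u} [CommRing A] [CommRing B] [Algebra A B] [Module.Flat A B]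

/-- cohomology of the flat base change, in tensor form -/
lemma nonempty_HD_ε_equiv (K : Dual.D A) (i : ℤ) :
    Nonempty (Dual.HD B ((ε (algebraMap A B)).obj K) i ≃ₗ[B] B ⊗[A] Dual.HD A K i) := by
  obtain ⟨e⟩ := nonempty_εHomologyIso (algebraMap A B) K i
  exact ⟨e.toLinearEquiv ≪≫ₗ (extEquiv (B := B) (Dual.HD A K i)).symm⟩

lemma finite_HD_ε (K : Dual.D A) (i : ℤ) [Module.Finite A (Dual.HD A K i)] :
    Module.Finite B (Dual.HD B ((ε (algebraMap A B)).obj K) i) := by
  obtain ⟨e⟩ := nonempty_HD_ε_equiv (B := B) K i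
  exact Module.Finite.equiv e.symm

/-- Ext flat base change from a finite module -/
theorem nonempty_bcEquiv_module [IsNoetherianRing A] (M : Type u) [AddCommGroup M] [Module A M]
    [Module.Finite A M] (L : Dual.D A) (hL : ∃ c : ℤ, L.IsGE c) (i : ℤ) :
    Nonempty (B ⊗[A] (Dual.inD A M ⟶ L⟦i⟧) ≃
      (Dual.inD B (B ⊗[A] M) ⟶ ((ε (algebraMap A B)).obj L)⟦i⟧)) := by
  obtain ⟨Θ, -⟩ := exists_bcEquiv_shift (B := B) (Dual.inD A M) L
    ⟨0, fun j hj => subsingleton_HD_inD M j (by omega)⟩ (fun j => finite_HD_inD M j) hL i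
  exact ⟨Θ.toEquiv.trans (Iso.homFromEquiv (inDExtIso (B := B) M).symm)⟩

end Groth.Agent.Lib.Helper8.EFB
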