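import Mathlib
import Groth.Agent.Lib.Helper8.EFB12

/-! # Helper8 — EFB13: flat base change of a dualizing complex to a noetherian ring whose ideals are all extended (e.g. a localization) is dualizing -/

set_option autoImplicit false

universe u

open CategoryTheory CategoryTheory.Limits DerivedCategory TensorProduct CategoryTheory.Pretriangulated

attribute [local instance] HasDerivedCategory.standard

namespace Groth.Agent.Lib.Helper8.EFB

open Groth.Agent.Lib.Helper16.FlatBC Groth.Agent.Lib.Helper8.EBC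

variable {A B : Type u} [CommRing A] [CommRing B] [Algebra A B] [Module.Flat A B]

/-- the flat base change of a dualizing complex along a flat map to a noetherian ring all of whose
ideals are extended (e.g. a localization) is dualizing -/
theorem isDualizing_ε_of_ideals_extended [IsNoetherianRing A] [IsNoetherianRing B]
    (hJ : ∀ J : Ideal B, ∃ I : Ideal A, I.map (algebraMap A B) = J)
    (ω : Dual.D A) (hω : Dual.IsDualizing A ω) :
    Dual.IsDualizing B ((ε (algebraMap A B)).obj ω) := by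
  obtain ⟨a, b, hab⟩ := hω.finite_injective_dimension
  have hbdd := hbdd_of_hinj ω a b hab
  have hb : ∃ b : ℤ, ∀ i : ℤ, b < i → Subsingleton (Dual.HD A ω i) :=
    ⟨b, fun i hi => hbdd i (Or.inr hi)⟩
  have hGE : ω.IsGE a := isGE_of_subsingleton ω a (fun i hi => hbdd i (Or.inl hi))
  have hfin := hω.finite_cohomology
  refine ⟨inferInstance, ⟨a, b, ?_⟩, fun i => ?_, ?_, ?_⟩
  · apply ((IAmp.injectiveAmplitude_tfae ((ε (algebraMap A B)).obj ω) a b).out 2 1).1
    intro J i hi
    obtain ⟨I, rfl⟩ := hJ J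
    let e1 : (B ⧸ I.map (algebraMap A B)) ≃ₗ[B] B ⊗[A] (A ⧸ I) :=
      Algebra.TensorProduct.quotIdealMapEquivTensorQuotAux B I
    let e2 : Dual.inD B (B ⧸ I.map (algebraMap A B)) ≅ Dual.inD B (B ⊗[A] (A ⧸ I)) :=
      (singleFunctor (ModuleCat.{u} B) 0).mapIso e1.toModuleIso
    obtain ⟨Θ⟩ := nonempty_bcEquiv_module (B := B) (A ⧸ I) ω ⟨a, hGE⟩ i
    haveI := hab (A ⧸ I) i hi
    haveI : Subsingleton (B ⊗[A] (Dual.inD A (A ⧸ I) ⟶ ω⟦i⟧)) := subsingleton_tensor_of_right _ _
    haveI : Subsingleton (Dual.inD B (B ⊗[A] (A ⧸ I)) ⟶ ((ε (algebraMap A B)).obj ω)⟦i⟧) :=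
      Θ.symm.subsingleton
    exact (Iso.homFromEquiv e2).subsingleton
  · haveI := hfin i
    exact finite_HD_ε ω i
  · obtain ⟨Θ, hΘ⟩ := exists_bcEquiv (B := B) ω ω a hGE
      (isPseudoCoherent_of_noeth ω hb hfin _)
    let v : A →ₗ[A] (ω ⟶ ω) := LinearMap.toSpanSingleton A (ω ⟶ ω) (𝟙 ω)
    have hv : Function.Bijective v := hω.toEnd_bijective
    have hv2 : Function.Bijective (v.lTensor B) :=
      ((LinearEquiv.ofBijective v hv).lTensor B).bijective
    have key : ∀ x : B, Θ (v.lTensor B ((TensorProduct.rid A B).symm x)) =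
        x • 𝟙 ((ε (algebraMap A B)).obj ω) := by
      intro x
      rw [TensorProduct.rid_symm_apply, LinearMap.lTensor_tmul]
      have : v 1 = 𝟙 ω := by
        change (1 : A) • 𝟙 ω = 𝟙 ω
        rw [one_smul]
      rw [this, hΘ, CategoryTheory.Functor.map_id]
    have h1 : Function.Bijective (Θ ∘ (v.lTensor B) ∘ (TensorProduct.rid A B).symm) :=
      Θ.bijective.comp (hv2.comp (TensorProduct.rid A B).symm.bijective)
    convert h1 using 1
    funext x
    exact (key x).symm
  · intro i hi
    obtain ⟨Θ, -⟩ := exists_bcEquiv_shift (B := B) ω ω hb hfin ⟨a, hGE⟩ i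
    haveI := hω.ext_self_subsingleton i hi
    haveI : Subsingleton (B ⊗[A] (ω ⟶ ω⟦i⟧)) := subsingleton_tensor_of_right _ _
    exact Θ.symm.toEquiv.subsingleton

end Groth.Agent.Lib.Helper8.EFB
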