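import Mathlib
import Groth.Agent.Lib.Helper8.EFB12

/-! # Helper8 — EFB16: over a noetherian ring `Hom_{D(A)}(K, L⟦i⟧)` is a finite module for `K` pseudo-coherent (bounded above, finite cohomology) and `L` bounded below with finite cohomology -/

set_option autoImplicit false

universe u

open CategoryTheory CategoryTheory.Limits DerivedCategory TensorProduct CategoryTheory.Pretriangulated

attribute [local instance] HasDerivedCategory.standard

namespace Groth.Agent.Lib.Helper8.EFB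

open Groth.Agent.Lib.Helper16.FlatBC Groth.Agent.Lib.Helper8.EBC Groth.Agent.Lib.Helper8.DSingleHom

variable {A : Type u} [CommRing A]

/-- `Hom(K, L)` is a noetherian `A`-module -/
def NH (K L : Dual.D A) : Prop := IsNoetherian A (K ⟶ L)

lemma NH.of_retract {K K' L : Dual.D A} (i : K ⟶ K') (p : K' ⟶ K) (hip : i ≫ p = 𝟙 K)
    (h : NH K' L) : NH K L := by
  haveI : IsNoetherian A (K' ⟶ L) := h
  refine isNoetherian_of_surjective (Linear.leftComp A L i) ?_
  rw [LinearMap.range_eq_top]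
  intro f
  refine ⟨p ≫ f, ?_⟩
  change i ≫ p ≫ f = f
  rw [← Category.assoc, hip, Category.id_comp]

lemma NH.of_iso {K K' L : Dual.D A} (e : K ≅ K') (h : NH K L) : NH K' L :=
  h.of_retract e.inv e.hom e.inv_hom_id

lemma NH.of_triangle (L : Dual.D A) (Tr : Triangle (Dual.D A))
    (hT : Tr ∈ distTriang (Dual.D A)) (h₁ : NH Tr.obj₁ L) (h₃ : NH Tr.obj₃ L) :
    NH Tr.obj₂ L := by
  haveI : IsNoetherian A (Tr.obj₁ ⟶ L) := h₁
  haveI : IsNoetherian A (Tr.obj₃ ⟶ L) := h₃
  have hex := exact_leftComp L Tr hT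
  exact isNoetherian_of_range_eq_ker (Linear.leftComp A L Tr.mor₂) (Linear.leftComp A L Tr.mor₁)
    (LinearMap.exact_iff.1 hex).symm

/-- stable version, for a fixed target -/
def PN (L : Dual.D A) : ObjectProperty (Dual.D A) := fun K => ∀ n : ℤ, NH (K⟦n⟧) L

instance (L : Dual.D A) : (PN L).IsClosedUnderIsomorphisms :=
  ⟨fun e h n => (h n).of_iso ((shiftFunctor _ n).mapIso e)⟩

lemma pn_unit [IsNoetherianRing A] (L : Dual.D A)
    (hfin : ∀ i : ℤ, Module.Finite A (Dual.HD A L i)) : PN L (Dual.inD A A) := fun n => by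
  have h1 : NH ((S₀ A)⟦n⟧) L := by
    haveI := hfin (-n)
    haveI : IsNoetherian A (Dual.HD A L (-n)) := isNoetherian_of_isNoetherianRing_of_finite A _
    exact isNoetherian_of_linearEquiv (sphereEquiv n L).symm
  exact h1.of_iso ((shiftFunctor _ n).mapIso
    ((singleFunctorIsoCompQ (ModuleCat.{u} A) 0).app (ModuleCat.of A A)).symm)

lemma pn_ext (L : Dual.D A) (Tr : Triangle (Dual.D A)) (hT : Tr ∈ distTriang (Dual.D A))
    (h₁ : PN L Tr.obj₁) (h₃ : PN L Tr.obj₃) : PN L Tr.obj₂ := fun n =>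
  NH.of_triangle L ((Triangle.shiftFunctor _ n).obj Tr) (Triangle.shift_distinguished _ hT n)
    (h₁ n) (h₃ n)

lemma pn_sum (L : Dual.D A) (X Y : Dual.D A) [HasBinaryBiproduct X Y] (h : PN L (X ⊞ Y)) :
    PN L X := fun n =>
  (h n).of_retract ((biprod.inl : X ⟶ X ⊞ Y)⟦n⟧') ((biprod.fst : X ⊞ Y ⟶ X)⟦n⟧') (by
    rw [← Functor.map_comp, biprod.inl_fst, CategoryTheory.Functor.map_id])

lemma pn_shift (L : Dual.D A) (K : Dual.D A) (m : ℤ) (h : PN L K) : PN L (K⟦m⟧) := fun n =>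
  (h (m + n)).of_iso ((shiftFunctorAdd' _ m n (m + n) rfl).app K)

lemma pn_of_isPerfect [IsNoetherianRing A] (L : Dual.D A)
    (hfin : ∀ i : ℤ, Module.Finite A (Dual.HD A L i)) (K : Dual.D A)
    (hK : DRing.IsPerfect A K) : PN L K :=
  Perf.perfect_mem (PN L) (pn_unit L hfin) (pn_ext L) (fun X Y _ => pn_sum L X Y)
    (fun K n => pn_shift L K n) K hK

/-- `Hom(K, L)` is a finite module for `K` `(c-1)`-pseudo-coherent and `L` in `D^{≥ c}` with finite
cohomology, over a noetherian ring -/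
theorem finite_hom_of_isPseudoCoherent [IsNoetherianRing A] (K L : Dual.D A) (c : ℤ)
    (hL : L.IsGE c) (hfin : ∀ i : ℤ, Module.Finite A (Dual.HD A L i))
    (hK : DRing.IsPseudoCoherent A (c - 1) K) : Module.Finite A (K ⟶ L) := by
  obtain ⟨E, a, b, α, hE1, hE2, hiso, hepi⟩ := hK
  obtain ⟨C, β, δ, hT⟩ := distinguished_cocone_triangle α
  have hgood : Groth.Agent.Lib.Helper16.PC.Good (c - 1) α := ⟨hiso, hepi⟩
  have hC : C.IsLE (c - 1 - 1) :=
    (Groth.Agent.Lib.Helper16.PC.good_iff_isLE (Triangle.mk α β δ) hT (c - 1) (c - 1 - 1)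
      (by omega)).1 hgood
  have hperf : DRing.IsPerfect A (DRing.toD E) :=
    ⟨E, a, b, hE1, fun i => ⟨(hE2 i).1, by have := (hE2 i).2; infer_instance⟩, ⟨Iso.refl _⟩⟩
  have g1 : NH (DRing.toD E) L :=
    (pn_of_isPerfect L hfin _ hperf 0).of_iso ((shiftFunctorZero _ ℤ).app _)
  have g3 : NH C L := by
    haveI := subsingleton_hom_of_isLE_of_isGE C L (c - 1 - 1) c (by omega) hC hL
    exact (inferInstance : IsNoetherian A (C ⟶ L))
  haveI : IsNoetherian A (K ⟶ L) := NH.of_triangle L (Triangle.mk α β δ) hT g1 g3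
  exact Module.IsNoetherian.finite A _

/-- over a noetherian ring, `Hom(K, L⟦i⟧)` is finite for `K` bounded above and `L` bounded below,
both with finite cohomology -/
theorem finite_hom_shift [IsNoetherianRing A] (K L : Dual.D A)
    (hb : ∃ b : ℤ, ∀ i : ℤ, b < i → Subsingleton (Dual.HD A K i))
    (hKfin : ∀ i : ℤ, Module.Finite A (Dual.HD A K i))
    (hL : ∃ c : ℤ, L.IsGE c) (hLfin : ∀ i : ℤ, Module.Finite A (Dual.HD A L i)) (i : ℤ) :
    Module.Finite A (K ⟶ L⟦i⟧) := by
  obtain ⟨c, hc⟩ := hL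
  haveI : (L⟦i⟧).IsGE (c - i) := by
    haveI := hc
    exact (TStructure.t).isGE_shift L c i (c - i) (by omega)
  refine finite_hom_of_isPseudoCoherent K (L⟦i⟧) (c - i) inferInstance (fun j => ?_)
    (isPseudoCoherent_of_noeth K hb hKfin _)
  haveI : Module.Finite A ((homologyFunctor (ModuleCat.{u} A) (i + j)).obj L) := hLfin (i + j)
  have e : (homologyFunctor (ModuleCat.{u} A) j).obj (L⟦i⟧) ≅
      (homologyFunctor (ModuleCat.{u} A) (i + j)).obj L :=
    ((homologyFunctor (ModuleCat.{u} A) 0).shiftIso i j (i + j) rfl).app L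
  exact Module.Finite.equiv e.symm.toLinearEquiv

end Groth.Agent.Lib.Helper8.EFB
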