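import Mathlib
import Groth.Agent.Lib.Helper8.EFB16

/-! # Helper8 — EFB17: long exact Ext sequences from short exact sequences of modules (vanishing above a degree; surjectivity of multiplication by a nonzerodivisor) -/

set_option autoImplicit false

universe u

open CategoryTheory CategoryTheory.Limits DerivedCategory TensorProduct CategoryTheory.Pretriangulated

attribute [local instance] HasDerivedCategory.standard

namespace Groth.Agent.Lib.Helper8.EFB

open Groth.Agent.Lib.Helper16.FlatBC Groth.Agent.Lib.Helper8.EBC Groth.Agent.Lib.Helper8.DSingleHom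

variable {A : Type u} [CommRing A]

/-- the distinguished triangle of a short exact sequence of modules -/
lemma exists_singleTriangle {M₁ M₂ M₃ : Type u} [AddCommGroup M₁] [Module A M₁]
    [AddCommGroup M₂] [Module A M₂] [AddCommGroup M₃] [Module A M₃]
    (f : M₁ →ₗ[A] M₂) (g : M₂ →ₗ[A] M₃) (hf : Function.Injective f)
    (hg : Function.Surjective g) (hfg : Function.Exact f g) :
    ∃ δ : Dual.inD A M₃ ⟶ (Dual.inD A M₁)⟦(1 : ℤ)⟧,
      Triangle.mk ((singleFunctor (ModuleCat.{u} A) 0).map (ModuleCat.ofHom f))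
        ((singleFunctor (ModuleCat.{u} A) 0).map (ModuleCat.ofHom g)) δ ∈
          distTriang (Dual.D A) := by
  let S : ShortComplex (ModuleCat.{u} A) := ShortComplex.mk (ModuleCat.ofHom f) (ModuleCat.ofHom g)
    (by
      refine ModuleCat.hom_ext (LinearMap.ext fun x => ?_)
      exact hfg.apply_apply_eq_zero x)
  have hS : S.ShortExact := by
    haveI : Mono S.f := (ModuleCat.mono_iff_injective _).2 hf
    haveI : Epi S.g := (ModuleCat.epi_iff_surjective _).2 hg
    refine ShortComplex.ShortExact.mk ((ShortComplex.moduleCat_exact_iff S).2 ?_)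
    intro x₂ hx₂
    exact (hfg x₂).1 hx₂
  exact ⟨hS.singleδ, hS.singleTriangle_distinguished⟩

variable (L : Dual.D A) (n : ℤ)

/-- vanishing of `Ext^i(M, L)` for `i > n` -/
def PV (M : Type u) [AddCommGroup M] [Module A M] : Prop :=
  ∀ i : ℤ, n < i → Subsingleton (Dual.inD A M ⟶ L⟦i⟧)

variable {L n}

lemma pv_of_iso {M M' : Type u} [AddCommGroup M] [Module A M] [AddCommGroup M'] [Module A M']
    (e : M ≃ₗ[A] M') (h : PV L n M) : PV L n M' := fun i hi => by
  haveI := h i hi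
  exact (Iso.homFromEquiv ((singleFunctor (ModuleCat.{u} A) 0).mapIso e.toModuleIso)
    (Z := L⟦i⟧)).symm.subsingleton

lemma pv_of_subsingleton (M : Type u) [AddCommGroup M] [Module A M] [Subsingleton M] :
    PV L n M := fun i _ => by
  have h0 : IsZero (ModuleCat.of A M) := ModuleCat.isZero_of_subsingleton _
  have h1 : IsZero (Dual.inD A M) := (singleFunctor (ModuleCat.{u} A) 0).map_isZero h0
  exact ⟨fun f g => h1.eq_of_src f g⟩

lemma pv_of_ses {M₁ M₂ M₃ : Type u} [AddCommGroup M₁] [Module A M₁]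
    [AddCommGroup M₂] [Module A M₂] [AddCommGroup M₃] [Module A M₃]
    (f : M₁ →ₗ[A] M₂) (g : M₂ →ₗ[A] M₃) (hf : Function.Injective f)
    (hg : Function.Surjective g) (hfg : Function.Exact f g)
    (h₁ : PV L n M₁) (h₃ : PV L n M₃) : PV L n M₂ := fun i hi => by
  obtain ⟨δ, hT⟩ := exists_singleTriangle f g hf hg hfg
  have hex := exact_leftComp (L⟦i⟧) _ hT
  have s1 : Subsingleton (Dual.inD A M₁ ⟶ L⟦i⟧) := h₁ i hi
  have s3 : Subsingleton (Dual.inD A M₃ ⟶ L⟦i⟧) := h₃ i hi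
  refine ⟨fun x y => ?_⟩
  have hx : ∀ z : Dual.inD A M₂ ⟶ L⟦i⟧, z = 0 := by
    intro z
    obtain ⟨w, hw⟩ := (hex z).1 (s1.elim _ _)
    rw [← hw, s3.elim w 0]
    exact (comp_zero : ((singleFunctor (ModuleCat.{u} A) 0).map (ModuleCat.ofHom g)) ≫
      (0 : Dual.inD A M₃ ⟶ L⟦i⟧) = 0)
  rw [hx x, hx y]

/-- if `f` is a nonzerodivisor on `M` and `Ext^{i+1}(M/fM, L) = 0`, then `f` is surjective on
`Ext^i(M, L)` -/
lemma smul_surjective_of_pv {M : Type u} [AddCommGroup M] [Module A M] (f : A)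
    (hf : Function.Injective (fun x : M => f • x))
    (h : PV L n (M ⧸ LinearMap.range (LinearMap.lsmul A M f))) (i : ℤ) (hi : n < i + 1)
    (e : Dual.inD A M ⟶ L⟦i⟧) : ∃ e' : Dual.inD A M ⟶ L⟦i⟧, f • e' = e := by
  obtain ⟨δ, hT⟩ := exists_singleTriangle (LinearMap.lsmul A M f)
    (LinearMap.range (LinearMap.lsmul A M f)).mkQ hf (Submodule.mkQ_surjective _)
    (LinearMap.exact_map_mkQ_range _)
  set Tr := Triangle.mk ((singleFunctor (ModuleCat.{u} A) 0).map
    (ModuleCat.ofHom (LinearMap.lsmul A M f)))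
    ((singleFunctor (ModuleCat.{u} A) 0).map (ModuleCat.ofHom
      (LinearMap.range (LinearMap.lsmul A M f)).mkQ)) δ with hTr
  have hex := exact_leftComp (L⟦i⟧) Tr.invRotate (inv_rot_of_distTriang _ hT)
  -- the third term vanishes
  have s0 : Subsingleton (Dual.inD A (M ⧸ LinearMap.range (LinearMap.lsmul A M f)) ⟶
      L⟦i + 1⟧) := h (i + 1) hi
  have hsub : Subsingleton (Tr.invRotate.obj₁ ⟶ L⟦i⟧) := by
    change Subsingleton ((Dual.inD A (M ⧸ LinearMap.range (LinearMap.lsmul A M f)))⟦(-1 : ℤ)⟧ ⟶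
      L⟦i⟧)
    have e1 : ((Dual.inD A (M ⧸ LinearMap.range (LinearMap.lsmul A M f)))⟦(-1 : ℤ)⟧ ⟶ L⟦i⟧) ≃
        ((Dual.inD A (M ⧸ LinearMap.range (LinearMap.lsmul A M f)))⟦(-1 : ℤ)⟧⟦(1 : ℤ)⟧ ⟶
          L⟦i⟧⟦(1 : ℤ)⟧) :=
      (shiftEquivLin 1 _ _).toEquiv
    have e2 := Iso.homCongr
      ((shiftFunctorCompIsoId (Dual.D A) (-1) 1 (by omega)).app
        (Dual.inD A (M ⧸ LinearMap.range (LinearMap.lsmul A M f))))
      ((shiftFunctorAdd' (Dual.D A) i 1 (i + 1) rfl).app L).symm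
    exact @Equiv.subsingleton _ _ (e1.trans e2) s0
  obtain ⟨(w : Dual.inD A M ⟶ L⟦i⟧), hw⟩ := (hex e).1 (hsub.elim _ _)
  refine ⟨w, ?_⟩
  rw [← hw]
  change f • w = Tr.mor₁ ≫ w
  have h1 : Tr.mor₁ = f • 𝟙 (Dual.inD A M) := by
    have h2 : ModuleCat.ofHom (LinearMap.lsmul A M f) = f • 𝟙 (ModuleCat.of A M) := by
      refine ModuleCat.hom_ext (LinearMap.ext fun x => ?_)
      rfl
    change (singleFunctor (ModuleCat.{u} A) 0).map (ModuleCat.ofHom (LinearMap.lsmul A M f)) = _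
    rw [h2, Functor.map_smul, CategoryTheory.Functor.map_id]
  rw [h1]
  have h3 := Linear.smul_comp (Dual.inD A M) (Dual.inD A M) (L⟦i⟧) f (𝟙 _) w
  rw [Category.id_comp] at h3
  exact h3.symm

end Groth.Agent.Lib.Helper8.EFB
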