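import Mathlib
import Groth.Agent.Lib.Helper8.EFB17

/-! # Helper8 — EFB18: residue field criterion for finite injective dimension over a noetherian ring (vanishing of `Ext^i(A/m, L)` for `i > n` at all maximal ideals implies injective amplitude `≤ n`), by noetherian induction and Nakayama -/

set_option autoImplicit false

universe u

open CategoryTheory CategoryTheory.Limits DerivedCategory TensorProduct CategoryTheory.Pretriangulated

attribute [local instance] HasDerivedCategory.standard

namespace Groth.Agent.Lib.Helper8.EFB

open Groth.Agent.Lib.Helper16.FlatBC Groth.Agent.Lib.Helper8.EBC Groth.Agent.Lib.Helper8.DSingleHom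

variable {A : Type u} [CommRing A] [IsNoetherianRing A]

omit [IsNoetherianRing A] in
/-- elements killing `M` kill `Hom(M[0], X)` -/
lemma smul_hom_eq_zero {M : Type u} [AddCommGroup M] [Module A M] (a : A)
    (ha : ∀ x : M, a • x = 0) (X : Dual.D A) (e : Dual.inD A M ⟶ X) : a • e = 0 := by
  have h2 : a • 𝟙 (ModuleCat.of A M) = 0 := by
    refine ModuleCat.hom_ext (LinearMap.ext fun x => ?_)
    exact ha x
  have h1 : a • 𝟙 (Dual.inD A M) = 0 := by
    have := (singleFunctor (ModuleCat.{u} A) 0).map_smul a (𝟙 (ModuleCat.of A M))
    rw [h2, CategoryTheory.Functor.map_id, Functor.map_zero] at this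
    exact this.symm
  have h3 := Linear.smul_comp (Dual.inD A M) (Dual.inD A M) X a (𝟙 _) e
  rw [Category.id_comp, h1, zero_comp] at h3
  exact h3.symm

variable (L : Dual.D A) (n : ℤ) (c : ℤ) (hL : L.IsGE c)
  (hfin : ∀ i : ℤ, Module.Finite A (Dual.HD A L i))
  (hmax : ∀ (m : Ideal A) [m.IsMaximal], PV L n (A ⧸ m))

include hL hfin hmax in
/-- vanishing of `Ext^i(A/m, L)` for `i > n` and all maximal `m` implies the same for all cyclic
modules -/
theorem pv_cyclic (I : Ideal A) :
    ∀ (M : Type u) [AddCommGroup M] [Module A M] (g : A →ₗ[A] M),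
      Function.Surjective g → I ≤ LinearMap.ker g → PV L n M := by
  induction I using WellFoundedGT.induction with
  | ind I IH =>
  intro M _ _ g hg hI
  by_cases hlt : I < LinearMap.ker g
  · exact IH _ hlt M g hg le_rfl
  have hker : LinearMap.ker g = I := (eq_of_le_of_not_lt hI hlt).symm
  haveI : Module.Finite A M := Module.Finite.of_surjective g hg
  by_cases hprime : I.IsPrime
  · by_cases hm : I.IsMaximal
    · have e : (A ⧸ I) ≃ₗ[A] M :=
        (Submodule.quotEquivOfEq _ _ hker.symm).trans (LinearMap.quotKerEquivOfSurjective g hg)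
      exact pv_of_iso e (hmax I)
    · -- prime, not maximal
      intro i hi
      have hEfin : Module.Finite A (Dual.inD A M ⟶ L⟦i⟧) :=
        finite_hom_shift (Dual.inD A M) L
          ⟨0, fun j hj => subsingleton_HD_inD M j (by omega)⟩ (fun j => finite_HD_inD M j)
          ⟨c, hL⟩ hfin i
      -- elements of `I` kill `E`
      have hIE : ∀ a ∈ I, ∀ e : Dual.inD A M ⟶ L⟦i⟧, a • e = 0 := by
        intro a ha e
        refine smul_hom_eq_zero a (fun x => ?_) _ e
        obtain ⟨y, rfl⟩ := hg x
        rw [← map_smul, smul_eq_mul]
        have : a * y ∈ LinearMap.ker g := by rw [hker]; exact I.mul_mem_right y ha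
        exact this
      -- for `f ∉ I`, some `r ≡ 1 mod f` kills `E`
      have hfE : ∀ f : A, f ∉ I → ∃ r : A, r - 1 ∈ Ideal.span {f} ∧
          ∀ e : Dual.inD A M ⟶ L⟦i⟧, r • e = 0 := by
        intro f hf
        have hinj : Function.Injective (fun x : M => f • x) := by
          intro x y hxy
          obtain ⟨x', rfl⟩ := hg x
          obtain ⟨y', rfl⟩ := hg y
          have h1 : g (f * (x' - y')) = 0 := by
            rw [← smul_eq_mul, map_smul, map_sub, smul_sub]
            exact sub_eq_zero.2 hxy
          have h2 : f * (x' - y') ∈ I := by rw [← hker]; exact h1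
          have h3 : x' - y' ∈ I := (hprime.mem_or_mem h2).resolve_left hf
          have h4 : g (x' - y') = 0 := by
            have : x' - y' ∈ LinearMap.ker g := by rw [hker]; exact h3
            exact this
          rw [map_sub] at h4
          exact sub_eq_zero.1 h4
        -- the quotient `M / fM`
        have hquot : PV L n (M ⧸ LinearMap.range (LinearMap.lsmul A M f)) := by
          refine IH (LinearMap.ker ((LinearMap.range (LinearMap.lsmul A M f)).mkQ ∘ₗ g)) ?_ _
            ((LinearMap.range (LinearMap.lsmul A M f)).mkQ ∘ₗ g)
            ((Submodule.mkQ_surjective _).comp hg) le_rfl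
          refine lt_of_le_of_ne ?_ ?_
          · intro x hx
            have : g x = 0 := by
              have : x ∈ LinearMap.ker g := by rw [hker]; exact hx
              exact this
            rw [LinearMap.mem_ker, LinearMap.comp_apply, this, map_zero]
          · intro heq
            apply hf
            rw [heq, LinearMap.mem_ker, LinearMap.comp_apply, Submodule.mkQ_apply,
              Submodule.Quotient.mk_eq_zero]
            exact ⟨g 1, by
              change f • g 1 = g f
              rw [← map_smul, smul_eq_mul, mul_one]⟩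
        have hsurj : ∀ e : Dual.inD A M ⟶ L⟦i⟧, ∃ e' : Dual.inD A M ⟶ L⟦i⟧, f • e' = e :=
          fun e => smul_surjective_of_pv f hinj hquot i (by omega) e
        obtain ⟨r, hr1, hr2⟩ := Submodule.exists_sub_one_mem_and_smul_eq_zero_of_fg_of_le_smul
          (Ideal.span {f}) (⊤ : Submodule A (Dual.inD A M ⟶ L⟦i⟧)) hEfin.fg_top (by
            intro e _
            obtain ⟨e', rfl⟩ := hsurj e
            exact Submodule.smul_mem_smul (Ideal.mem_span_singleton_self f) Submodule.mem_top)
        exact ⟨r, hr1, fun e => hr2 e Submodule.mem_top⟩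
      -- the annihilator is the unit ideal
      have hann : Module.annihilator A (Dual.inD A M ⟶ L⟦i⟧) = ⊤ := by
        by_contra hne
        obtain ⟨m, hm1, hm2⟩ := Ideal.exists_le_maximal _ hne
        have hIm : I ≤ m := fun a ha =>
          hm2 (Module.mem_annihilator.2 (fun e => hIE a ha e))
        have hIm' : I < m := lt_of_le_of_ne hIm (fun h => hm (h ▸ hm1))
        obtain ⟨f, hfm, hfI⟩ := SetLike.exists_of_lt hIm'
        obtain ⟨r, hr1, hr2⟩ := hfE f hfI
        have h1 : r ∈ m := hm2 (Module.mem_annihilator.2 hr2)
        have h2 : r - 1 ∈ m := (Ideal.span_singleton_le_iff_mem m).2 hfm hr1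
        have h3 : (1 : A) ∈ m := by
          have := m.sub_mem h1 h2
          rwa [sub_sub_cancel] at this
        exact hm1.ne_top ((Ideal.eq_top_iff_one m).2 h3)
      refine ⟨fun x y => ?_⟩
      have h1 : (1 : A) ∈ Module.annihilator A (Dual.inD A M ⟶ L⟦i⟧) := by
        rw [hann]; exact Submodule.mem_top
      have h2 := Module.mem_annihilator.1 h1
      rw [← one_smul A x, ← one_smul A y, h2 x, h2 y]
  · -- not prime
    rcases Ideal.not_isPrime_iff.1 hprime with htop | ⟨a, ha, b, hb, hab⟩
    · haveI : Subsingleton M := by
        refine ⟨fun x y => ?_⟩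
        obtain ⟨x', rfl⟩ := hg x
        obtain ⟨y', rfl⟩ := hg y
        have hx : x' ∈ LinearMap.ker g := by rw [hker, htop]; exact Submodule.mem_top
        have hy : y' ∈ LinearMap.ker g := by rw [hker, htop]; exact Submodule.mem_top
        rw [LinearMap.mem_ker.1 hx, LinearMap.mem_ker.1 hy]
      exact pv_of_subsingleton M
    · let φ : A →ₗ[A] M := LinearMap.toSpanSingleton A M (g a)
      have hφ : ∀ x : A, φ x = g (x * a) := fun x => by
        change x • g a = g (x * a)
        rw [← map_smul, smul_eq_mul]
      have h1 : PV L n (LinearMap.range φ) := by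
        refine IH (LinearMap.ker φ.rangeRestrict) ?_ _ φ.rangeRestrict
          (LinearMap.surjective_rangeRestrict φ) le_rfl
        rw [LinearMap.ker_rangeRestrict]
        refine lt_of_le_of_ne ?_ ?_
        · intro x hx
          rw [LinearMap.mem_ker, hφ]
          have : x * a ∈ LinearMap.ker g := by rw [hker]; exact I.mul_mem_right a hx
          exact this
        · intro heq
          apply hb
          rw [heq, LinearMap.mem_ker, hφ]
          have : b * a ∈ LinearMap.ker g := by rw [hker, mul_comm]; exact hab
          exact this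
      have h3 : PV L n (M ⧸ LinearMap.range φ) := by
        refine IH (LinearMap.ker ((LinearMap.range φ).mkQ ∘ₗ g)) ?_ _
          ((LinearMap.range φ).mkQ ∘ₗ g) ((Submodule.mkQ_surjective _).comp hg) le_rfl
        refine lt_of_le_of_ne ?_ ?_
        · intro x hx
          have : g x = 0 := by
            have : x ∈ LinearMap.ker g := by rw [hker]; exact hx
            exact this
          rw [LinearMap.mem_ker, LinearMap.comp_apply, this, map_zero]
        · intro heq
          apply ha
          rw [heq, LinearMap.mem_ker, LinearMap.comp_apply, Submodule.mkQ_apply,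
            Submodule.Quotient.mk_eq_zero]
          exact ⟨1, by rw [hφ, one_mul]⟩
      exact pv_of_ses (LinearMap.range φ).subtype (LinearMap.range φ).mkQ
        (Submodule.injective_subtype _) (Submodule.mkQ_surjective _)
        (LinearMap.exact_subtype_mkQ _) h1 h3

include hL hfin in
/-- **residue field criterion for finite injective dimension**: if `L` is bounded below with finite
cohomology over a noetherian ring and `Ext^i(A/m, L) = 0` for all `i > n` and all maximal ideals
`m`, then `Ext^i(M, L) = 0` for all modules `M` and all `i` outside `[c, n]`. -/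
theorem hinj_of_residue
    (hmax : ∀ (m : Ideal A) [m.IsMaximal] (i : ℤ), n < i →
      Subsingleton (Dual.inD A (A ⧸ m) ⟶ L⟦i⟧)) :
    ∀ (M : Type u) [AddCommGroup M] [Module A M] (i : ℤ), (i < c ∨ n < i) →
      Subsingleton (Dual.inD A M ⟶ L⟦i⟧) := by
  apply ((IAmp.injectiveAmplitude_tfae L c n).out 2 1).1
  intro I i hi
  rcases hi with hi | hi
  · haveI : (L⟦i⟧).IsGE (c - i) := by
      haveI := hL
      exact (TStructure.t).isGE_shift L c i (c - i) (by omega)
    exact subsingleton_hom_of_isLE_of_isGE (Dual.inD A (A ⧸ I)) (L⟦i⟧) 0 (c - i) (by omega)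
      inferInstance inferInstance
  · exact pv_cyclic L n c hL hfin (fun m _ => hmax m) I (A ⧸ I) (Submodule.mkQ I)
      (Submodule.mkQ_surjective I) (by rw [Submodule.ker_mkQ]) i hi

end Groth.Agent.Lib.Helper8.EFB
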