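import Mathlib
import Groth.Agent.Lib.Helper8.EFB18
import Groth.Agent.Lib.Helper8.EFB13

/-! # Helper8 — EFB19: flat base change of a dualizing complex between noetherian rings is dualizing iff it has finite injective dimension; in particular when every maximal ideal of the target is extended from the source -/

set_option autoImplicit false

universe u

open CategoryTheory CategoryTheory.Limits DerivedCategory TensorProduct CategoryTheory.Pretriangulated

attribute [local instance] HasDerivedCategory.standard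

namespace Groth.Agent.Lib.Helper8.EFB

open Groth.Agent.Lib.Helper16.FlatBC Groth.Agent.Lib.Helper8.EBC

variable {A B : Type u} [CommRing A] [CommRing B] [Algebra A B] [Module.Flat A B]

/-- cohomological lower bound for the flat base change -/
lemma isGE_ε (K : Dual.D A) (a : ℤ) (h : ∀ i : ℤ, i < a → Subsingleton (Dual.HD A K i)) :
    ((ε (algebraMap A B)).obj K).IsGE a := by
  apply isGE_of_subsingleton
  intro i hi
  obtain ⟨e⟩ := nonempty_HD_ε_equiv (B := B) K i
  haveI := h i hi
  haveI : Subsingleton (B ⊗[A] Dual.HD A K i) := subsingleton_tensor_of_right _ _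
  exact e.toEquiv.subsingleton

/-- the flat base change of a dualizing complex to a noetherian ring is dualizing as soon as it
has finite injective dimension -/
theorem isDualizing_ε_of_hinj [IsNoetherianRing A] [IsNoetherianRing B]
    (ω : Dual.D A) (hω : Dual.IsDualizing A ω)
    (hinj : ∃ a b : ℤ, ∀ (N : Type u) [AddCommGroup N] [Module B N] (i : ℤ),
      (i < a ∨ b < i) → Subsingleton (Dual.inD B N ⟶ ((ε (algebraMap A B)).obj ω)⟦i⟧)) :
    Dual.IsDualizing B ((ε (algebraMap A B)).obj ω) := by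
  obtain ⟨a, b, hab⟩ := hω.finite_injective_dimension
  have hbdd := hbdd_of_hinj ω a b hab
  have hb : ∃ b : ℤ, ∀ i : ℤ, b < i → Subsingleton (Dual.HD A ω i) :=
    ⟨b, fun i hi => hbdd i (Or.inr hi)⟩
  have hGE : ω.IsGE a := isGE_of_subsingleton ω a (fun i hi => hbdd i (Or.inl hi))
  have hfin := hω.finite_cohomology
  refine ⟨inferInstance, hinj, fun i => ?_, ?_, ?_⟩
  · haveI := hfin i
    exact finite_HD_ε ω i
  · obtain ⟨Θ, hΘ⟩ := exists_bcEquiv (B := B) ω ω a hGE
      (isPseudoCoherent_of_noeth ω hb hfin _)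
    let v : A →ₗ[A] (ω ⟶ ω) := LinearMap.toSpanSingleton A (ω ⟶ ω) (𝟙 ω)
    have hv : Function.Bijective v := hω.toEnd_bijective
    have hv2 : Function.Bijective (v.lTensor B) :=
      ((LinearEquiv.ofBijective v hv).lTensor B).bijective
    have key : ∀ x : B, Θ (v.lTensor B ((TensorProduct.rid A B).symm x)) =
        x • 𝟙 ((ε (algebraMap A B)).obj ω) := by
      intro x
      rw [TensorProduct.rid_symm_apply, LinearMap.lTensor_tmul]
      have : v 1 = 𝟙 ω := by
        change (1 : A) • 𝟙 ω = 𝟙 ω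
        rw [one_smul]
      rw [this, hΘ, CategoryTheory.Functor.map_id]
    have h1 : Function.Bijective (Θ ∘ (v.lTensor B) ∘ (TensorProduct.rid A B).symm) :=
      Θ.bijective.comp (hv2.comp (TensorProduct.rid A B).symm.bijective)
    convert h1 using 1
    funext x
    exact (key x).symm
  · intro i hi
    obtain ⟨Θ, -⟩ := exists_bcEquiv_shift (B := B) ω ω hb hfin ⟨a, hGE⟩ i
    haveI := hω.ext_self_subsingleton i hi
    haveI : Subsingleton (B ⊗[A] (ω ⟶ ω⟦i⟧)) := subsingleton_tensor_of_right _ _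
    exact Θ.symm.toEquiv.subsingleton

/-- `Ext^i_B(B/IB, ε L) ≃ B ⊗ Ext^i_A(A/I, L)` -/
lemma nonempty_bcEquiv_quot [IsNoetherianRing A] (I : Ideal A) (L : Dual.D A)
    (hL : ∃ c : ℤ, L.IsGE c) (i : ℤ) :
    Nonempty (B ⊗[A] (Dual.inD A (A ⧸ I) ⟶ L⟦i⟧) ≃
      (Dual.inD B (B ⧸ I.map (algebraMap A B)) ⟶ ((ε (algebraMap A B)).obj L)⟦i⟧)) := by
  let e1 : (B ⧸ I.map (algebraMap A B)) ≃ₗ[B] B ⊗[A] (A ⧸ I) :=
    Algebra.TensorProduct.quotIdealMapEquivTensorQuotAux B I
  let e2 : Dual.inD B (B ⧸ I.map (algebraMap A B)) ≅ Dual.inD B (B ⊗[A] (A ⧸ I)) :=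
    (singleFunctor (ModuleCat.{u} B) 0).mapIso e1.toModuleIso
  obtain ⟨Θ⟩ := nonempty_bcEquiv_module (B := B) (A ⧸ I) L hL i
  exact ⟨Θ.trans (Iso.homFromEquiv e2).symm⟩

/-- the flat base change of a dualizing complex along a flat map of noetherian rings such that
every maximal ideal of the target is extended from the source is dualizing -/
theorem isDualizing_ε_of_maximal_extended [IsNoetherianRing A] [IsNoetherianRing B]
    (hJ : ∀ (n : Ideal B) [n.IsMaximal], ∃ m : Ideal A, m.map (algebraMap A B) = n)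
    (ω : Dual.D A) (hω : Dual.IsDualizing A ω) :
    Dual.IsDualizing B ((ε (algebraMap A B)).obj ω) := by
  obtain ⟨a, b, hab⟩ := hω.finite_injective_dimension
  have hbdd := hbdd_of_hinj ω a b hab
  have hGE : ω.IsGE a := isGE_of_subsingleton ω a (fun i hi => hbdd i (Or.inl hi))
  have hfin := hω.finite_cohomology
  refine isDualizing_ε_of_hinj ω hω ⟨a, b, ?_⟩
  refine hinj_of_residue ((ε (algebraMap A B)).obj ω) b a
    (isGE_ε ω a (fun i hi => hbdd i (Or.inl hi)))
    (fun i => by haveI := hfin i; exact finite_HD_ε ω i) ?_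
  intro n _ i hi
  obtain ⟨m, rfl⟩ := hJ n
  obtain ⟨Θ⟩ := nonempty_bcEquiv_quot (B := B) m ω ⟨a, hGE⟩ i
  haveI := hab (A ⧸ m) i (Or.inr hi)
  haveI : Subsingleton (B ⊗[A] (Dual.inD A (A ⧸ m) ⟶ ω⟦i⟧)) := subsingleton_tensor_of_right _ _
  exact Θ.symm.subsingleton

end Groth.Agent.Lib.Helper8.EFB
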