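import Mathlib
import Groth.Agent.Lib.Helper8.EFB19

/-! # Helper8 — EFB20: flat local base change with `m_A B = m_B` preserves normalized dualizing complexes -/

set_option autoImplicit false

universe u

open CategoryTheory CategoryTheory.Limits DerivedCategory TensorProduct CategoryTheory.Pretriangulated

attribute [local instance] HasDerivedCategory.standard

namespace Groth.Agent.Lib.Helper8.EFB

open Groth.Agent.Lib.Helper16.FlatBC Groth.Agent.Lib.Helper8.EBC

/-- the residue field as a quotient module -/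
noncomputable def residueEquiv (A : Type u) [CommRing A] [IsLocalRing A] :
    (A ⧸ IsLocalRing.maximalIdeal A) ≃ₗ[A] IsLocalRing.ResidueField A :=
  (Submodule.quotEquivOfEq _ _ (by
    ext x
    simp [IsLocalRing.residue_eq_zero_iff, Algebra.linearMap_apply])).trans
    ((Algebra.linearMap A (IsLocalRing.ResidueField A)).quotKerEquivOfSurjective
      IsLocalRing.residue_surjective)

/-- `IsNormalized` is invariant under isomorphism -/
lemma isNormalized_of_iso {A : Type u} [CommRing A] [IsLocalRing A] {ω ω' : Dual.D A}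
    (e : ω ≅ ω') (h : Dual.IsNormalized A ω) : Dual.IsNormalized A ω' := fun i hi => by
  haveI := h i hi
  exact (postcompAddEquiv (Dual.inD A (IsLocalRing.ResidueField A))
    ((shiftFunctor (Dual.D A) i).mapIso e)).symm.subsingleton

variable {A B : Type u} [CommRing A] [CommRing B] [Algebra A B] [Module.Flat A B]

/-- flat local base change with `m_A B = m_B` preserves normalized dualizing complexes -/
theorem isDualizing_isNormalized_ε [IsLocalRing A] [IsLocalRing B] [IsNoetherianRing A]
    [IsNoetherianRing B]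
    (hm : (IsLocalRing.maximalIdeal A).map (algebraMap A B) = IsLocalRing.maximalIdeal B)
    (ω : Dual.D A) (hω : Dual.IsDualizing A ω) (hn : Dual.IsNormalized A ω) :
    Dual.IsDualizing B ((ε (algebraMap A B)).obj ω) ∧
      Dual.IsNormalized B ((ε (algebraMap A B)).obj ω) := by
  refine ⟨isDualizing_ε_of_maximal_extended (fun n hn' =>
    ⟨IsLocalRing.maximalIdeal A, hm.trans (IsLocalRing.eq_maximalIdeal hn').symm⟩) ω hω, ?_⟩
  intro i hi
  obtain ⟨a, b, hab⟩ := hω.finite_injective_dimension
  have hbdd := hbdd_of_hinj ω a b hab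
  have hGE : ω.IsGE a := isGE_of_subsingleton ω a (fun i hi => hbdd i (Or.inl hi))
  obtain ⟨Θ⟩ := nonempty_bcEquiv_quot (B := B) (IsLocalRing.maximalIdeal A) ω ⟨a, hGE⟩ i
  haveI : Subsingleton (Dual.inD A (A ⧸ IsLocalRing.maximalIdeal A) ⟶ ω⟦i⟧) := by
    haveI := hn i hi
    exact (Iso.homFromEquiv ((singleFunctor (ModuleCat.{u} A) 0).mapIso
      (residueEquiv A).toModuleIso) (Z := ω⟦i⟧)).subsingleton
  haveI : Subsingleton (B ⊗[A] (Dual.inD A (A ⧸ IsLocalRing.maximalIdeal A) ⟶ ω⟦i⟧)) :=
    subsingleton_tensor_of_right _ _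
  haveI : Subsingleton (Dual.inD B (B ⧸ (IsLocalRing.maximalIdeal A).map (algebraMap A B)) ⟶
      ((ε (algebraMap A B)).obj ω)⟦i⟧) := Θ.symm.subsingleton
  let e1 : (B ⧸ (IsLocalRing.maximalIdeal A).map (algebraMap A B)) ≃ₗ[B]
      IsLocalRing.ResidueField B :=
    (Submodule.quotEquivOfEq _ _ hm).trans (residueEquiv B)
  exact (Iso.homFromEquiv ((singleFunctor (ModuleCat.{u} B) 0).mapIso e1.toModuleIso)
    (Z := ((ε (algebraMap A B)).obj ω)⟦i⟧)).symm.subsingleton

end Groth.Agent.Lib.Helper8.EFB
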