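import Mathlib
import Groth.Agent.Lib.Helper8.EFB20

/-! # Helper8 — EFB24: vanishing of `Hom(X, K[i])` for `X` in degrees `≥ m` and `K` of injective amplitude `≤ b < m + i`; `Hom(N, ω[i]) = 0` for `i > 0`, `ω` normalized dualizing over a local ring and `N` in degrees `≥ 0` (S19132) -/

set_option autoImplicit false

universe w v u' u

open CategoryTheory CategoryTheory.Limits DerivedCategory TensorProduct CategoryTheory.Pretriangulated

attribute [local instance] HasDerivedCategory.standard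

namespace Groth.Agent.Lib.Helper8.EFB

open Groth.Agent.Lib.Helper8

/-- no maps `X ⟶ K[i]` when `X` lives in degrees `≥ m` and `K` has injective amplitude `≤ b < m + i`. -/
theorem hom_eq_zero_of_isGE_of_hasInjAmp {C : Type u'} [Category.{v} C] [Abelian C]
    [HasDerivedCategory.{w} C] {a b : ℤ} {K : DerivedCategory C}
    (h : IAmp.HasInjAmp a b K) (X : DerivedCategory C) (m : ℤ) [X.IsGE m]
    (i : ℤ) (hi : b < m + i) (α : X ⟶ K⟦i⟧) : α = 0 := by
  obtain ⟨I, h1, h2, ⟨e⟩⟩ := h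
  have : I.IsKInjective := IAmp.isKInjective_of_data I a (fun j hj => h2 j (Or.inl hj)) h1
  obtain ⟨L, hL, ⟨eX⟩⟩ := DerivedCategory.exists_iso_Q_obj_of_isGE X m
  let ε : K⟦i⟧ ≅ Q.obj (I⟦i⟧) := (shiftFunctor _ i).mapIso e.symm ≪≫ ((Q.commShiftIso i).app I).symm
  obtain ⟨f, hf⟩ := IAmp.exists_Q_map_of_isKInjective L (I⟦i⟧) (eX.inv ≫ α ≫ ε.hom)
  have hf0 : f = 0 := by
    ext j
    by_cases hj : j < m
    · exact (L.isZero_of_isStrictlyGE m j hj).eq_of_src _ _
    · have : IsZero ((I⟦i⟧).X j) := by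
        change IsZero (I.X (j + i))
        exact h2 _ (by omega)
      exact this.eq_of_tgt _ _
  subst hf0
  have h3 : eX.inv ≫ α ≫ ε.hom = 0 := hf.trans (by
    change Q.map (0 : L ⟶ _) = 0
    exact Functor.map_zero _ _ _)
  have h4 : α ≫ ε.hom = 0 := (cancel_epi eX.inv).1 (h3.trans comp_zero.symm)
  exact (cancel_mono ε.hom).1 (h4.trans zero_comp.symm)

/-- S19132 -/
theorem subsingleton_hom_shift_of_normalized
    (A : Type u) [CommRing A] [IsLocalRing A] [IsNoetherianRing A]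
    (ω : Dual.D A) (hω : Dual.IsDualizing A ω) (hn : Dual.IsNormalized A ω)
    (N : Dual.D A)
    (hge : ∀ i : ℤ, i < 0 → Subsingleton (Dual.HD A N i))
    (i : ℤ) (hi : 0 < i) :
    Subsingleton (N ⟶ ω⟦i⟧) := by
  obtain ⟨a, b, hinj⟩ := hω.finite_injective_dimension
  have hab : DRing.HasInjAmplitudeIn A a b ω :=
    ((IAmp.injectiveAmplitude_tfae ω a b).out 1 0).1 (by intro M _ _ i hi; exact hinj M i hi)
  have hGE : ω.IsGE a := by
    obtain ⟨E, hE, _, ⟨e⟩⟩ := hab
    exact isGE_of_subsingleton ω a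
      (fun i hi => subsingleton_HD_of_vanishesOutside E a b hE ω e i (Or.inl hi))
  have hmax : ∀ (m : Ideal A) [m.IsMaximal] (i : ℤ), 0 < i →
      Subsingleton (Dual.inD A (A ⧸ m) ⟶ ω⟦i⟧) := by
    intro m hm i hi
    obtain rfl : m = IsLocalRing.maximalIdeal A := IsLocalRing.eq_maximalIdeal hm
    haveI := hn i (by omega)
    let e : Dual.inD A (A ⧸ IsLocalRing.maximalIdeal A) ≅ Dual.inD A (IsLocalRing.ResidueField A) :=
      (DerivedCategory.singleFunctor (ModuleCat.{u} A) 0).mapIso (residueEquiv A).toModuleIso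
    exact (Iso.homFromEquiv (Z := ω⟦i⟧) e).subsingleton
  have h0 := hinj_of_residue ω 0 a hGE hω.finite_cohomology hmax
  have ha0 : DRing.HasInjAmplitudeIn A a 0 ω :=
    ((IAmp.injectiveAmplitude_tfae ω a 0).out 1 0).1 (by intro M _ _ i hi; exact h0 M i hi)
  rw [IAmp.hasInjAmp_iff] at ha0
  haveI : N.IsGE 0 := isGE_of_subsingleton N 0 hge
  refine ⟨fun x y => ?_⟩
  exact (hom_eq_zero_of_isGE_of_hasInjAmp ha0 N 0 i (by omega) x).trans
    (hom_eq_zero_of_isGE_of_hasInjAmp ha0 N 0 i (by omega) y).symm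

end Groth.Agent.Lib.Helper8.EFB
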