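import Mathlib
import Groth.Agent.Lib.Helper8.Bid1
import Groth.Agent.Lib.Helper8.EFB24

/-! # Helper8 — Bid2: the contravariant functor `M ↦ Q(Hom_A(M, I•))` from modules to `D(A)` for a complex of injectives `I`, its triangles, `Hom_A(A, I) ≅ I`, and biduality for finite modules (`P_TI`) when `Q I` satisfies the endomorphism conditions of a dualizing complex -/

set_option autoImplicit false

universe u

open CategoryTheory CategoryTheory.Limits CategoryTheory.Pretriangulated Opposite DerivedCategory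

attribute [local instance] HasDerivedCategory.standard

namespace Groth.Agent.Lib.Helper8.Bidual

variable {A : Type u} [CommRing A]

/-- the complex `Hom_A(M, I•)`, contravariant in the module `M` -/
noncomputable def homF (I : DRing.Cx A) : (ModuleCat.{u} A)ᵒᵖ ⥤ DRing.Cx A where
  obj M := (((linearCoyoneda A (ModuleCat.{u} A)).obj M).mapHomologicalComplex
    (ComplexShape.up ℤ)).obj I
  map f := (NatTrans.mapHomologicalComplex ((linearCoyoneda A (ModuleCat.{u} A)).map f)
    (ComplexShape.up ℤ)).app I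
  map_id M := by
    rw [CategoryTheory.Functor.map_id, NatTrans.mapHomologicalComplex_id]
    rfl
  map_comp f g := by
    rw [CategoryTheory.Functor.map_comp, NatTrans.mapHomologicalComplex_comp]
    rfl

lemma homF_map_f_apply (I : DRing.Cx A) {M N : ModuleCat.{u} A} (f : M ⟶ N) (n : ℤ)
    (g : N ⟶ I.X n) : (((homF I).map f.op).f n).hom g = f ≫ g := rfl

instance (I : DRing.Cx A) : (homF I).Additive where
  map_add {M N f g} := by
    ext n x
    change (f + g).unop ≫ x = f.unop ≫ x + g.unop ≫ x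
    rw [unop_add, Preadditive.add_comp]

lemma homF_shortExact (I : DRing.Cx A) (hI : ∀ n : ℤ, Injective (I.X n))
    (S : ShortComplex (ModuleCat.{u} A)) (hS : S.ShortExact) :
    (ShortComplex.mk ((homF I).map S.g.op) ((homF I).map S.f.op) (by
      rw [← Functor.map_comp, ← op_comp, S.zero, op_zero, Functor.map_zero])).ShortExact := by
  refine HomologicalComplex.shortExact_of_degreewise_shortExact _ (fun n => ?_)
  haveI := hS.mono_f
  haveI := hS.epi_g
  haveI := hI n
  refine ShortComplex.ShortExact.mk' ?_ ?_ ?_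
  · rw [ShortComplex.moduleCat_exact_iff]
    intro (x : S.X₂ ⟶ I.X n) (hx : S.f ≫ x = 0)
    exact ⟨hS.exact.desc x hx, hS.exact.g_desc x hx⟩
  · rw [ModuleCat.mono_iff_injective]
    intro (x : S.X₃ ⟶ I.X n) (y : S.X₃ ⟶ I.X n) (hxy : S.g ≫ x = S.g ≫ y)
    exact (cancel_epi S.g).1 hxy
  · rw [ModuleCat.epi_iff_surjective]
    intro (x : S.X₁ ⟶ I.X n)
    exact ⟨Injective.factorThru x S.f, Injective.comp_factorThru x S.f⟩

/-- the contravariant functor `M ↦ RHom(M, I)` to the derived category -/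
noncomputable abbrev TI (I : DRing.Cx A) : (ModuleCat.{u} A)ᵒᵖ ⥤ Dual.D A := homF I ⋙ Q

lemma TI_triangle (I : DRing.Cx A) (hI : ∀ n : ℤ, Injective (I.X n))
    (S : ShortComplex (ModuleCat.{u} A)) (hS : S.ShortExact) :
    ∃ δ : (TI I).obj (op S.X₁) ⟶ ((TI I).obj (op S.X₃))⟦(1 : ℤ)⟧,
      Triangle.mk ((TI I).map S.g.op) ((TI I).map S.f.op) δ ∈ distTriang (Dual.D A) :=
  ⟨_, DerivedCategory.triangleOfSES_distinguished (homF_shortExact I hI S hS)⟩

/-- evaluation at `1`: `Hom_A(A, I•) ≅ I•` -/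
noncomputable def evOne (I : DRing.Cx A) : (homF I).obj (op (ModuleCat.of A A)) ≅ I :=
  HomologicalComplex.Hom.isoOfComponents
    (fun n => ((ModuleCat.homLinearEquiv (S := A)).trans
      (LinearMap.ringLmapEquivSelf A A (I.X n))).toModuleIso)
    (fun i j _ => by
      ext (g : ModuleCat.of A A ⟶ I.X i)
      rfl)

lemma evOne_hom_f_apply (I : DRing.Cx A) (n : ℤ) (g : ModuleCat.of A A ⟶ I.X n) :
    ((evOne I).hom.f n).hom g = g.hom (1 : A) := rfl

/-- the comparison map `T A ⟶ (Q I)[0]` -/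
noncomputable def e0I (I : DRing.Cx A) :
    (TI I).obj (op (ModuleCat.of A A)) ⟶ (Q.obj I : Dual.D A)⟦(0 : ℤ)⟧ :=
  Q.map (evOne I).hom ≫ (shiftFunctorZero (Dual.D A) ℤ).inv.app (Q.obj I)

lemma homF_mhat_evOne (I : DRing.Cx A) (a : A) :
    (homF I).map (mhat (ModuleCat.of A A) a).op ≫ (evOne I).hom = (evOne I).hom ≫ (a • 𝟙 I) := by
  ext n (g : ModuleCat.of A A ⟶ I.X n)
  change (mhat (ModuleCat.of A A) a ≫ g).hom (1 : A) = a • g.hom (1 : A)
  rw [← LinearMap.map_smul]
  simp [mhat]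

lemma θ_A_eq (I : DRing.Cx A) (a : A) :
    θ (TI I) (Q.obj I) (e0I I) (ModuleCat.of A A) a =
      Q.map (evOne I).hom ≫ (a • 𝟙 (Q.obj I : Dual.D A)) ≫
        (shiftFunctorZero (Dual.D A) ℤ).inv.app (Q.obj I) := by
  unfold θ e0I
  change Q.map ((homF I).map (mhat (ModuleCat.of A A) a).op) ≫ _ = _
  rw [← Category.assoc, ← Functor.map_comp, homF_mhat_evOne, Functor.map_comp, Functor.map_smul,
    CategoryTheory.Functor.map_id, Category.assoc]

lemma isGE_TI (I : DRing.Cx A) (a : ℤ) (ha : ∀ n : ℤ, n < a → IsZero (I.X n))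
    (M : ModuleCat.{u} A) : ((TI I).obj (op M)).IsGE a := by
  have : ((homF I).obj (op M)).IsStrictlyGE a := by
    rw [CochainComplex.isStrictlyGE_iff]
    intro n hn
    have hz := ha n hn
    haveI : Subsingleton (M ⟶ I.X n) := ⟨fun x y => hz.eq_of_tgt _ _⟩
    exact ModuleCat.isZero_of_subsingleton (ModuleCat.of A (M ⟶ I.X n))
  change (Q.obj ((homF I).obj (op M))).IsGE a
  infer_instance

/-- **biduality for finite modules**, in terms of the functor `M ↦ Q(Hom_A(M, I))`, for a bounded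
complex of injectives `I` with `A ≃ End(Q I)` and `Hom(Q I, Q I[i]) = 0` for `i ≠ 0`. -/
theorem P_TI [IsNoetherianRing A] (I : DRing.Cx A) (hI : ∀ n : ℤ, Injective (I.X n)) (a b : ℤ)
    (hab : ∀ n : ℤ, n < a ∨ b < n → IsZero (I.X n))
    (hbij : Function.Bijective (fun x : A => x • 𝟙 (Q.obj I : Dual.D A)))
    (hext : ∀ i : ℤ, i ≠ 0 → Subsingleton ((Q.obj I : Dual.D A) ⟶ (Q.obj I)⟦i⟧))
    (M : Type u) [AddCommGroup M] [Module A M] [Module.Finite A M] :
    P (TI I) (Q.obj I) (e0I I) (ModuleCat.of A M) := by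
  refine P_of_finite (TI_triangle I hI) ⟨?_, fun i hi φ => ?_⟩ (b - a) ?_ M
  · have h1 : Function.Bijective (fun f : (Q.obj I : Dual.D A) ⟶ Q.obj I =>
        Q.map (evOne I).hom ≫ f ≫ (shiftFunctorZero (Dual.D A) ℤ).inv.app (Q.obj I)) := by
      refine ⟨fun f g h => ?_, fun ψ => ⟨Q.map (evOne I).inv ≫ ψ ≫
        (shiftFunctorZero (Dual.D A) ℤ).hom.app (Q.obj I), ?_⟩⟩
      · have h2 := (cancel_epi (Q.map (evOne I).hom)).1 h
        exact (cancel_mono _).1 h2
      · simp only [Category.assoc, Iso.hom_inv_id_app, Category.comp_id]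
        rw [← Category.assoc, ← Functor.map_comp, Iso.hom_inv_id, CategoryTheory.Functor.map_id,
          Category.id_comp]
    have h2 := h1.comp hbij
    convert h2 using 1
    ext x
    exact θ_A_eq I x
  · haveI := hext i hi
    have h1 : Q.map (evOne I).inv ≫ φ = 0 := Subsingleton.elim _ _
    exact (cancel_epi (Q.map (evOne I).inv)).1 (h1.trans comp_zero.symm)
  · intro M _ _ _ i hi φ
    haveI := isGE_TI I a (fun n hn => hab n (Or.inl hn)) (ModuleCat.of A M)
    exact EFB.hom_eq_zero_of_isGE_of_hasInjAmp (a := a) (b := b)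
      ⟨I, hI, hab, ⟨Iso.refl _⟩⟩ _ a i (by omega) φ

end Groth.Agent.Lib.Helper8.Bidual
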