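import Mathlib
import Groth.Agent.Lib.Helper6.DerivedAdj

/-! # Helper8 — Bid3: for an adjunction `L ⊣ G` of additive functors between abelian categories with `L` exact, and a complex `I` with `I` and `G I` K-injective: `Hom_{D}(Y, Q(G I)) ≃ Hom_{D}(L Y, Q I)` (`bijective_ρ`), hence `Q (G I)` is the value at `Q I` of any right adjoint of the derived functor of `L` (`isIso_homEquiv_ρ`) -/

set_option autoImplicit false

universe w₁ w₂ v₁ v₂ u₁ u₂

open CategoryTheory CategoryTheory.Limits DerivedCategory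

namespace Groth.Agent.Lib.Helper8.Bidual

open Groth.Agent.Lib.Helper6

section General

variable {𝒜 : Type u₁} [Category.{v₁} 𝒜] [Abelian 𝒜] [HasDerivedCategory.{w₁} 𝒜]
  {ℬ : Type u₂} [Category.{v₂} ℬ] [Abelian ℬ] [HasDerivedCategory.{w₂} ℬ]
  {L : 𝒜 ⥤ ℬ} {G : ℬ ⥤ 𝒜} (adj0 : L ⊣ G) [L.Additive] [G.Additive]
  [PreservesFiniteLimits L] [PreservesFiniteColimits L]

/-- the homotopy-category level adjunction -/
noncomputable abbrev adjK : L.mapHomotopyCategory (ComplexShape.up ℤ) ⊣
    G.mapHomotopyCategory (ComplexShape.up ℤ) := DerivedAdj.adjH adj0 (ComplexShape.up ℤ)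

variable (I : CochainComplex ℬ ℤ)

/-- the derived counit `L (G I) ⟶ I` for a complex `I` (used for K-injective `I`) -/
noncomputable def ρ : L.mapDerivedCategory.obj (Qh.obj ((G.mapHomotopyCategory (ComplexShape.up ℤ)).obj
    ((HomotopyCategory.quotient _ _).obj I))) ⟶ Qh.obj ((HomotopyCategory.quotient _ _).obj I) :=
  L.mapDerivedCategoryFactorsh.hom.app _ ≫
    Qh.map ((adjK adj0).counit.app ((HomotopyCategory.quotient _ _).obj I))

variable [I.IsKInjective]
  [CochainComplex.IsKInjective ((G.mapHomologicalComplex (ComplexShape.up ℤ)).obj I)]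

/-- for `I` and `G I` K-injective, `Hom_{D(𝒜)}(Y, G I) ≃ Hom_{D(ℬ)}(L Y, I)` -/
theorem bijective_ρ (Y : HomotopyCategory 𝒜 (ComplexShape.up ℤ)) :
    Function.Bijective (fun f : Qh.obj Y ⟶ Qh.obj ((G.mapHomotopyCategory (ComplexShape.up ℤ)).obj
      ((HomotopyCategory.quotient _ _).obj I)) => L.mapDerivedCategory.map f ≫ ρ adj0 I) := by
  have hbG : Function.Bijective (Qh.map : (Y ⟶ (G.mapHomotopyCategory (ComplexShape.up ℤ)).obj
      ((HomotopyCategory.quotient _ _).obj I)) → _) :=
    CochainComplex.IsKInjective.Qh_map_bijective Y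
      ((G.mapHomologicalComplex (ComplexShape.up ℤ)).obj I)
  have hbI := CochainComplex.IsKInjective.Qh_map_bijective
    ((L.mapHomotopyCategory (ComplexShape.up ℤ)).obj Y) I
  have key : ∀ f₀ : Y ⟶ (G.mapHomotopyCategory (ComplexShape.up ℤ)).obj
      ((HomotopyCategory.quotient _ _).obj I),
      L.mapDerivedCategory.map (Qh.map f₀) ≫ ρ adj0 I =
        L.mapDerivedCategoryFactorsh.hom.app Y ≫
          Qh.map (((adjK adj0).homEquiv _ _).symm f₀) := by
    intro f₀
    unfold ρ
    have h1 := L.mapDerivedCategoryFactorsh.hom.naturality f₀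
    dsimp only [Functor.comp_obj, Functor.comp_map] at h1
    rw [← Category.assoc, h1, Category.assoc, ← Functor.map_comp, Adjunction.homEquiv_counit]
  constructor
  · intro f f' hff
    obtain ⟨f₀, rfl⟩ := hbG.2 f
    obtain ⟨f₀', rfl⟩ := hbG.2 f'
    dsimp only at hff
    rw [key, key] at hff
    have h2 := (cancel_epi _).1 hff
    have h3 := hbI.1 h2
    rw [((adjK adj0).homEquiv _ _).symm.injective h3]
  · intro g
    obtain ⟨g₀, hg₀⟩ := hbI.2 (L.mapDerivedCategoryFactorsh.inv.app Y ≫ g)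
    refine ⟨Qh.map ((adjK adj0).homEquiv _ _ g₀), ?_⟩
    dsimp only
    rw [key, Equiv.symm_apply_apply, hg₀, ← Category.assoc, Iso.hom_inv_id_app, Category.id_comp]

/-- the explicit model `Q (G I)` of the value at `Q I` of any right adjoint of the derived functor of
`L` -/
theorem isIso_homEquiv_ρ {R : DerivedCategory ℬ ⥤ DerivedCategory 𝒜}
    (adjD : L.mapDerivedCategory ⊣ R) : IsIso (adjD.homEquiv _ _ (ρ adj0 I)) := by
  refine isIso_of_yoneda_map_bijective _ (fun Y' => ?_)
  let Y := Qh.objPreimage Y'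
  let e : Qh.obj Y ≅ Y' := Qh.objObjPreimageIso Y'
  have h1 : (fun f : Y' ⟶ _ => f ≫ adjD.homEquiv _ _ (ρ adj0 I)) =
      (adjD.homEquiv _ _) ∘ (fun g => L.mapDerivedCategory.map e.inv ≫ g) ∘
        (fun f : Qh.obj Y ⟶ _ => L.mapDerivedCategory.map f ≫ ρ adj0 I) ∘
          (fun f : Y' ⟶ _ => e.hom ≫ f) := by
    ext f
    dsimp only [Function.comp]
    rw [Functor.map_comp, Category.assoc, ← Category.assoc, ← Functor.map_comp, e.inv_hom_id,
      CategoryTheory.Functor.map_id, Category.id_comp, Adjunction.homEquiv_naturality_left]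
  rw [h1]
  refine (adjD.homEquiv _ _).bijective.comp (Function.Bijective.comp ?_
    ((bijective_ρ adj0 I Y).comp ?_))
  · exact ⟨fun g g' h => (cancel_epi _).1 h, fun g => ⟨L.mapDerivedCategory.map e.hom ≫ g, by
      dsimp only
      rw [← Category.assoc, ← Functor.map_comp, e.inv_hom_id, CategoryTheory.Functor.map_id,
        Category.id_comp]⟩⟩
  · exact ⟨fun g g' h => (cancel_epi _).1 h, fun g => ⟨e.inv ≫ g, by
      dsimp only
      rw [← Category.assoc, e.hom_inv_id, Category.id_comp]⟩⟩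

end General

end Groth.Agent.Lib.Helper8.Bidual
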