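import Mathlib
import Groth.Prelude.Def_DTen4
import Groth.Agent.Lib.Helper8.EFB16

/-! # Helper8 — RAdj1: restriction of scalars on derived categories is semilinear; a right adjoint of restriction has semilinear adjunction bijections -/

set_option autoImplicit false

universe u

open CategoryTheory CategoryTheory.Limits DerivedCategory TensorProduct CategoryTheory.Pretriangulated

attribute [local instance] HasDerivedCategory.standard

namespace Groth.Agent.Lib.Helper8.RAdj

open Groth.Agent.Lib.Helper8.EFB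

variable {A B : Type u} [CommRing A] [CommRing B] (φ : A →+* B)

lemma restrictScalars_map_smul_id (a : A) (M : ModuleCat.{u} B) :
    (ModuleCat.restrictScalars.{u} φ).map (φ a • 𝟙 M) =
      a • 𝟙 ((ModuleCat.restrictScalars.{u} φ).obj M) := by
  refine ModuleCat.hom_ext (LinearMap.ext fun x => ?_)
  rfl

lemma resCx_map_smul_id (a : A) (X : DRing.Cx B) :
    (DTen.resCx φ).map (φ a • 𝟙 X) = a • 𝟙 ((DTen.resCx φ).obj X) := by
  apply HomologicalComplex.hom_ext
  intro i
  exact restrictScalars_map_smul_id φ a (X.X i)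

lemma restrictD_map_smul_id_Q (a : A) (X : DRing.Cx B) :
    (DRing.restrictD φ).map (φ a • 𝟙 (Q.obj X)) = a • 𝟙 ((DRing.restrictD φ).obj (Q.obj X)) := by
  have h1 : φ a • 𝟙 (Q.obj X) = Q.map (φ a • 𝟙 X) := by
    rw [Functor.map_smul, CategoryTheory.Functor.map_id]
  have h2 := (DTen.resFactors φ).hom.naturality (φ a • 𝟙 X)
  rw [Functor.comp_map, Functor.comp_map, resCx_map_smul_id] at h2
  have h4 : Q.map (a • 𝟙 ((DTen.resCx φ).obj X)) = a • 𝟙 (Q.obj ((DTen.resCx φ).obj X)) := by
    rw [Functor.map_smul, CategoryTheory.Functor.map_id]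
  rw [h4] at h2
  rw [h1]
  have h3 : (DRing.restrictD φ).map (Q.map (φ a • 𝟙 X)) =
      ((DTen.resFactors φ).hom.app X ≫ (a • 𝟙 (Q.obj ((DTen.resCx φ).obj X)))) ≫
        (DTen.resFactors φ).inv.app X := by
    rw [← h2, Category.assoc, Iso.hom_inv_id_app]
    exact (Category.comp_id _).symm
  rw [h3, Linear.comp_smul, Linear.smul_comp]
  have h5 : ((DTen.resFactors φ).hom.app X ≫ 𝟙 (Q.obj ((DTen.resCx φ).obj X))) ≫
      (DTen.resFactors φ).inv.app X = 𝟙 _ := by
    exact (congrArg (· ≫ (DTen.resFactors φ).inv.app X)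
      (Category.comp_id ((DTen.resFactors φ).hom.app X))).trans
      ((DTen.resFactors φ).hom_inv_id_app X)
  rw [h5]
  rfl

lemma restrictD_map_smul_id (a : A) (X : Dual.D B) :
    (DRing.restrictD φ).map (φ a • 𝟙 X) = a • 𝟙 ((DRing.restrictD φ).obj X) := by
  let e : Q.obj (Q.objPreimage X) ≅ X := Q.objObjPreimageIso X
  have h1 : φ a • 𝟙 X = e.inv ≫ (φ a • 𝟙 (Q.obj (Q.objPreimage X))) ≫ e.hom := by
    rw [Linear.smul_comp, Linear.comp_smul, Category.id_comp, e.inv_hom_id]
  rw [h1, Functor.map_comp, Functor.map_comp, restrictD_map_smul_id_Q, Linear.smul_comp,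
    Linear.comp_smul, Category.id_comp, ← Functor.map_comp, e.inv_hom_id,
    CategoryTheory.Functor.map_id]

lemma restrictD_map_smul (a : A) {X Y : Dual.D B} (f : X ⟶ Y) :
    (DRing.restrictD φ).map (φ a • f) = a • (DRing.restrictD φ).map f := by
  have h1 : φ a • f = (φ a • 𝟙 X) ≫ f := by rw [Linear.smul_comp, Category.id_comp]
  rw [h1, Functor.map_comp, restrictD_map_smul_id, Linear.smul_comp, Category.id_comp]

variable {φ} {R : Dual.D A ⥤ Dual.D B} (adj : DRing.restrictD φ ⊣ R)

include adj in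
lemma homEquiv_symm_smul (a : A) (Z : Dual.D B) (K : Dual.D A) (f : Z ⟶ R.obj K) :
    (adj.homEquiv Z K).symm (φ a • f) = a • (adj.homEquiv Z K).symm f := by
  rw [Adjunction.homEquiv_counit, Adjunction.homEquiv_counit, restrictD_map_smul,
    Linear.smul_comp]

end Groth.Agent.Lib.Helper8.RAdj
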