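import Mathlib
import Groth.Agent.Lib.Helper8.RAdj1

/-! # Helper8 — RAdj2: a right adjoint of restriction of scalars along a finite map of noetherian rings preserves finiteness of cohomology on bounded below objects (S1774) -/

set_option autoImplicit false

universe u

open CategoryTheory CategoryTheory.Limits DerivedCategory TensorProduct CategoryTheory.Pretriangulated

attribute [local instance] HasDerivedCategory.standard

namespace Groth.Agent.Lib.Helper8.RAdj

open Groth.Agent.Lib.Helper8.EFB

section Algebra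

/-- finiteness transfers along an additive bijection that is semilinear for `A → B` -/
lemma finite_of_semilinear {A B : Type*} [CommRing A] [CommRing B] [Algebra A B]
    (H : Type*) [AddCommGroup H] [Module B H] (E : Type*) [AddCommGroup E] [Module A E]
    [Module.Finite A E] (θ : H ≃+ E)
    (hθ : ∀ (a : A) (h : H), θ (algebraMap A B a • h) = a • θ h) : Module.Finite B H := by
  letI : Module A H := Module.compHom H (algebraMap A B)
  haveI : IsScalarTower A B H := ⟨fun a b h => by
    change (a • b) • h = algebraMap A B a • (b • h)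
    rw [Algebra.smul_def, mul_smul]⟩
  let θ' : H ≃ₗ[A] E := { θ with map_smul' := fun a h => hθ a h }
  haveI : Module.Finite A H := Module.Finite.equiv θ'.symm
  exact Module.Finite.of_restrictScalars_finite A B H

end Algebra

variable {A : Type u} [CommRing A]

/-- unshifted version of `finite_hom_shift` -/
theorem finite_hom [IsNoetherianRing A] (K L : Dual.D A)
    (hb : ∃ b : ℤ, ∀ i : ℤ, b < i → Subsingleton (Dual.HD A K i))
    (hKfin : ∀ i : ℤ, Module.Finite A (Dual.HD A K i))
    (hL : ∃ c : ℤ, L.IsGE c) (hLfin : ∀ i : ℤ, Module.Finite A (Dual.HD A L i)) :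
    Module.Finite A (K ⟶ L) := by
  obtain ⟨c, hc⟩ := hL
  exact finite_hom_of_isPseudoCoherent K L c hc hLfin (isPseudoCoherent_of_noeth K hb hKfin _)

/-- cohomology of a shifted finite module -/
lemma bdd_fin_of_iso_shift_inD (X : Dual.D A) (M : Type u) [AddCommGroup M] [Module A M]
    [Module.Finite A M] (n : ℤ) (e : X ≅ (Dual.inD A M)⟦n⟧) :
    (∃ b : ℤ, ∀ j : ℤ, b < j → Subsingleton (Dual.HD A X j)) ∧
      ∀ j : ℤ, Module.Finite A (Dual.HD A X j) := by
  have key : ∀ j : ℤ, (homologyFunctor (ModuleCat.{u} A) j).obj X ≅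
      (homologyFunctor (ModuleCat.{u} A) (n + j)).obj (Dual.inD A M) := fun j =>
    (homologyFunctor (ModuleCat.{u} A) j).mapIso e ≪≫
      ((homologyFunctor (ModuleCat.{u} A) 0).shiftIso n j (n + j) rfl).app (Dual.inD A M)
  refine ⟨⟨-n, fun j hj => ?_⟩, fun j => ?_⟩
  · haveI := subsingleton_HD_inD (A := A) M (n + j) (by omega)
    exact (key j).toLinearEquiv.toEquiv.subsingleton
  · haveI := finite_HD_inD (A := A) M (n + j)
    exact Module.Finite.equiv (key j).symm.toLinearEquiv

variable {B : Type u} [CommRing B] [Algebra A B]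

/-- `res ((B[0])⟦n⟧) ≅ (B_A[0])⟦n⟧` -/
noncomputable def resSphereIso (n : ℤ) :
    (DRing.restrictD (algebraMap A B)).obj ((S₀ B)⟦n⟧) ≅
      (Dual.inD A ((ModuleCat.restrictScalars.{u} (algebraMap A B)).obj (ModuleCat.of B B)))⟦n⟧ :=
  (DRing.restrictD (algebraMap A B)).mapIso ((shiftFunctor (Dual.D B) n).mapIso
      ((singleFunctorIsoCompQ (ModuleCat.{u} B) 0).app (ModuleCat.of B B)).symm) ≪≫
    ((DRing.restrictD (algebraMap A B)).commShiftIso n).app _ ≪≫
    (shiftFunctor (Dual.D A) n).mapIso
      (((ModuleCat.restrictScalars.{u} (algebraMap A B)).mapDerivedCategorySingleFunctor 0).app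
        (ModuleCat.of B B))

variable {R : Dual.D A ⥤ Dual.D B} (adj : DRing.restrictD (algebraMap A B) ⊣ R)

include adj in
/-- S1774: the right adjoint of restriction along a finite map preserves finiteness of
cohomology on bounded below objects -/
theorem finite_HD_rightAdjoint [IsNoetherianRing A] [Module.Finite A B] (K : Dual.D A)
    (hK : ∃ c : ℤ, K.IsGE c) (hfin : ∀ i : ℤ, Module.Finite A (Dual.HD A K i)) (i : ℤ) :
    Module.Finite B (Dual.HD B (R.obj K) i) := by
  suffices h : ∀ n : ℤ, Module.Finite B (Dual.HD B (R.obj K) (-n)) by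
    have := h (-i)
    rwa [neg_neg] at this
  intro n
  haveI : Module.Finite A ((ModuleCat.restrictScalars.{u} (algebraMap A B)).obj
      (ModuleCat.of B B)) :=
    Module.Finite.equiv (Groth.Agent.Lib.Helper16.FlatBC.bEquiv (A := A) (B := B))
  obtain ⟨hb, hXfin⟩ := bdd_fin_of_iso_shift_inD _ _ n (resSphereIso (A := A) (B := B) n)
  haveI : Module.Finite A ((DRing.restrictD (algebraMap A B)).obj ((S₀ B)⟦n⟧) ⟶ K) :=
    finite_hom _ K hb hXfin hK hfin
  haveI : Module.Finite B ((S₀ B)⟦n⟧ ⟶ R.obj K) := by
    refine finite_of_semilinear (A := A) (B := B) _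
      ((DRing.restrictD (algebraMap A B)).obj ((S₀ B)⟦n⟧) ⟶ K)
      (adj.homAddEquiv ((S₀ B)⟦n⟧) K).symm ?_
    intro a f
    exact homEquiv_symm_smul adj a _ K f
  exact Module.Finite.equiv (sphereEquiv n (R.obj K))

end Groth.Agent.Lib.Helper8.RAdj
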