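import Mathlib
import Groth.Agent.Lib.Helper8.RAdj2
import Groth.Agent.Lib.Helper8.EFB19
import Groth.Prelude.Def_DualSh

/-! # Helper8 — RAdj3: a right adjoint of restriction of scalars preserves cohomological lower bounds -/

set_option autoImplicit false

universe u

open CategoryTheory CategoryTheory.Limits DerivedCategory TensorProduct CategoryTheory.Pretriangulated

attribute [local instance] HasDerivedCategory.standard

namespace Groth.Agent.Lib.Helper8.RAdj

open Groth.Agent.Lib.Helper8.EFB Groth.Agent.Lib.Helper16.FlatBC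

variable {A : Type u} [CommRing A] {B : Type u} [CommRing B] [Algebra A B]
variable {R : Dual.D A ⥤ Dual.D B} (adj : DRing.restrictD (algebraMap A B) ⊣ R)

include adj in
/-- a right adjoint of restriction of scalars preserves cohomological lower bounds -/
theorem subsingleton_HD_rightAdjoint (K : Dual.D A) (c : ℤ) (hK : K.IsGE c) (i : ℤ) (hi : i < c) :
    Subsingleton (Dual.HD B (R.obj K) i) := by
  suffices h : ∀ n : ℤ, -n < c → Subsingleton (Dual.HD B (R.obj K) (-n)) by
    have := h (-i) (by omega)
    rwa [neg_neg] at this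
  intro n hn
  have hLE : ((DRing.restrictD (algebraMap A B)).obj ((S₀ B)⟦n⟧)).IsLE (-n) := by
    haveI : ((Dual.inD A ((ModuleCat.restrictScalars.{u} (algebraMap A B)).obj
        (ModuleCat.of B B)))⟦n⟧).IsLE (-n) :=
      (TStructure.t).isLE_shift _ 0 n (-n) (by omega)
    exact (TStructure.t).isLE_of_iso (resSphereIso (A := A) (B := B) n).symm (-n)
  haveI := subsingleton_hom_of_isLE_of_isGE _ K (-n) c hn hLE hK
  haveI : Subsingleton ((S₀ B)⟦n⟧ ⟶ R.obj K) := (adj.homEquiv _ _).symm.subsingleton
  exact (sphereEquiv n (R.obj K)).symm.toEquiv.subsingleton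

/-- cohomology of a shift -/
noncomputable def HDShiftIso (X : Dual.D A) (n i : ℤ) :
    (homologyFunctor (ModuleCat.{u} A) i).obj (X⟦n⟧) ≅
      (homologyFunctor (ModuleCat.{u} A) (n + i)).obj X :=
  ((homologyFunctor (ModuleCat.{u} A) 0).shiftIso n i (n + i) rfl).app X

end Groth.Agent.Lib.Helper8.RAdj
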