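import Mathlib
import Groth.Agent.Lib.Helper8.Bid2
import Groth.Agent.Lib.Helper8.Bid3
import Groth.Agent.Lib.Helper8.RAdj3

/-! # Helper8 — Bid4: for a ring map `A → B` with `B` a finite module over the noetherian ring `A` and a bounded complex of injectives `I` over `A` whose image in `D(A)` satisfies the endomorphism conditions of a dualizing complex, the complex `Hom_A(B, I)` of `B`-modules satisfies them over `B` (via `Hom_{D(B)}(Y, Q Hom_A(B, I)) ≃ Hom_{D(A)}(res Y, Q I)` and biduality for the finite `A`-module `B`) -/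

set_option autoImplicit false

universe u

open CategoryTheory CategoryTheory.Limits CategoryTheory.Pretriangulated Opposite DerivedCategory

attribute [local instance] HasDerivedCategory.standard

namespace Groth.Agent.Lib.Helper8.Bidual

variable {A B : Type u} [CommRing A] [CommRing B] (φ : A →+* B)

/-- restriction of scalars -/
noncomputable abbrev res : ModuleCat.{u} B ⥤ ModuleCat.{u} A := ModuleCat.restrictScalars.{u} φ

/-- coextension of scalars `Hom_A(B, -)` -/
noncomputable abbrev coext : ModuleCat.{u} A ⥤ ModuleCat.{u} B :=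
  ModuleCat.coextendScalars.{u, u, u} φ

/-- restriction ⊣ coextension -/
noncomputable abbrev adj0 : res φ ⊣ coext φ := ModuleCat.restrictCoextendScalarsAdj.{u, u, u} φ

instance : (coext φ).Additive := (adj0 φ).right_adjoint_additive

/-- `B` as an `A`-module -/
noncomputable abbrev BA : ModuleCat.{u} A := (res φ).obj (ModuleCat.of B B)

/-- termwise coextension of a complex -/
noncomputable abbrev coextCx : DRing.Cx A ⥤ DRing.Cx B :=
  (coext φ).mapHomologicalComplex (ComplexShape.up ℤ)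

/-- termwise restriction of a complex -/
noncomputable abbrev resCx : DRing.Cx B ⥤ DRing.Cx A :=
  (res φ).mapHomologicalComplex (ComplexShape.up ℤ)

lemma injective_coext (N : ModuleCat.{u} A) [Injective N] : Injective ((coext φ).obj N) :=
  Injective.injective_of_adjoint (adj0 φ) N

lemma isKInjective_coextCx (I : DRing.Cx A) (a : ℤ) (ha : ∀ n : ℤ, n < a → IsZero (I.X n))
    (hI : ∀ n : ℤ, Injective (I.X n)) :
    CochainComplex.IsKInjective ((coextCx φ).obj I) :=
  IAmp.isKInjective_of_data _ a (fun n hn => (coext φ).map_isZero (ha n hn))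
    (fun n => by
      haveI := hI n
      exact injective_coext φ (I.X n))

/-- `Hom_A(B, N)` with its `A`-module structure through `B` is `Hom_A(B_A, N)` -/
noncomputable def ιLin (N : ModuleCat.{u} A) :
    ((res φ).obj ((coext φ).obj N)) ≃ₗ[A] (BA φ ⟶ N) where
  toFun x := ModuleCat.ofHom (X := BA φ) (Y := N) (ModuleCat.CoextendScalars.equiv φ N x)
  invFun g := (ModuleCat.CoextendScalars.equiv φ N).symm g.hom
  left_inv x := rfl
  right_inv g := rfl
  map_add' x y := rfl
  map_smul' a x := by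
    refine ModuleCat.hom_ext (LinearMap.ext fun (s : BA φ) => ?_)
    let h : BA φ →ₗ[A] N := ModuleCat.CoextendScalars.equiv φ N x
    change h (((show B from s) * φ a : B)) = a • h s
    rw [← LinearMap.map_smul]
    congr 1
    exact mul_comm (show B from s) (φ a)

lemma ιLin_apply (N : ModuleCat.{u} A) (x : (res φ).obj ((coext φ).obj N)) (s : BA φ) :
    (ιLin φ N x).hom s = ModuleCat.CoextendScalars.equiv φ N x s := by
  rfl

/-- `res (Hom_A(B, I•)) ≅ Hom_A(B_A, I•)` as complexes of `A`-modules -/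
noncomputable def ιCx (I : DRing.Cx A) :
    (resCx φ).obj ((coextCx φ).obj I) ≅ (homF I).obj (op (BA φ)) :=
  HomologicalComplex.Hom.isoOfComponents (fun n => (ιLin φ (I.X n)).toModuleIso)
    (fun i j _ => by
      ext x
      refine ModuleCat.hom_ext (LinearMap.ext fun (s : BA φ) => ?_)
      rfl)

open Groth.Agent.Lib.Helper6 in
/-- chain level: multiplication by `b` on `Hom_A(B, I)` followed by evaluation at `1` is
evaluation at `b` -/
lemma key_chain (I : DRing.Cx A) (b : B) :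
    (resCx φ).map (b • 𝟙 ((coextCx φ).obj I)) ≫ (DerivedAdj.counitCx (adj0 φ) _).app I =
      (ιCx φ I).hom ≫ (homF I).map (mhat (BA φ) b).op ≫ (evOne I).hom := by
  ext n x
  change ModuleCat.CoextendScalars.equiv φ (I.X n) (b • (show (coext φ).obj (I.X n) from x)) (1 : B) =
    (mhat (BA φ) b ≫ ιLin φ (I.X n) x).hom (1 : A)
  rw [ModuleCat.CoextendScalars.smul_apply, one_mul]
  change _ = (ιLin φ (I.X n) x).hom ((mhat (BA φ) b).hom (1 : A))
  rw [ιLin_apply]
  congr 1
  simp [mhat]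

section Main

open Groth.Agent.Lib.Helper6

variable [IsNoetherianRing A] [Module.Finite A (BA φ)]
variable (I : DRing.Cx A) (hI : ∀ n : ℤ, Injective (I.X n)) (a b : ℤ)
  (hab : ∀ n : ℤ, n < a ∨ b < n → IsZero (I.X n))
  (hbij : Function.Bijective (fun x : A => x • 𝟙 (Q.obj I : Dual.D A)))
  (hext : ∀ i : ℤ, i ≠ 0 → Subsingleton ((Q.obj I : Dual.D A) ⟶ (Q.obj I)⟦i⟧))

/-- the homotopy category quotient functor -/
noncomputable abbrev quot (R : Type u) [CommRing R] :=
  HomotopyCategory.quotient (ModuleCat.{u} R) (ComplexShape.up ℤ)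

/-- `res (Q (Hom_A(B, I))) ≅ Q (res (Hom_A(B, I)))` -/
noncomputable def fIso : (DRing.restrictD φ).obj (Q.obj ((coextCx φ).obj I)) ≅
    Q.obj ((resCx φ).obj ((coextCx φ).obj I)) :=
  (ModuleCat.restrictScalars.{u} φ).mapDerivedCategoryFactorsh.app
    ((quot B).obj ((coextCx φ).obj I))

/-- `res (Q (Hom_A(B, I))) ≅ T(B_A)` -/
noncomputable def uIso : (DRing.restrictD φ).obj (Q.obj ((coextCx φ).obj I)) ≅
    (TI I).obj (op (BA φ)) :=
  fIso φ I ≪≫ Q.mapIso (ιCx φ I)

/-- the derived counit, with `Q`-types -/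
noncomputable def ρQ : (DRing.restrictD φ).obj (Q.obj ((coextCx φ).obj I)) ⟶ Q.obj I :=
  ρ (adj0 φ) I

lemma ρQ_eq : ρQ φ I = (fIso φ I).hom ≫ Q.map ((DerivedAdj.counitCx (adj0 φ) _).app I) := rfl

lemma restrictD_map_Q_map {K K' : DRing.Cx B} (g : K ⟶ K') :
    (DRing.restrictD φ).map (Q.map g) ≫
      (ModuleCat.restrictScalars.{u} φ).mapDerivedCategoryFactorsh.hom.app ((quot B).obj K') =
    (ModuleCat.restrictScalars.{u} φ).mapDerivedCategoryFactorsh.hom.app ((quot B).obj K) ≫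
      Q.map ((resCx φ).map g) :=
  (ModuleCat.restrictScalars.{u} φ).mapDerivedCategoryFactorsh.hom.naturality ((quot B).map g)

lemma Ψ_smul (b : B) :
    (DRing.restrictD φ).map (b • 𝟙 (Q.obj ((coextCx φ).obj I) : Dual.D B)) ≫ ρQ φ I =
      (uIso φ I).hom ≫ θ (TI I) (Q.obj I) (e0I I) (BA φ) b ≫
        (shiftFunctorZero (Dual.D A) ℤ).hom.app (Q.obj I) := by
  have h1 : b • 𝟙 (Q.obj ((coextCx φ).obj I) : Dual.D B) =
      Q.map (b • 𝟙 ((coextCx φ).obj I)) := by
    rw [Functor.map_smul, CategoryTheory.Functor.map_id]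
  rw [h1, ρQ_eq, ← Category.assoc]
  have h2 := restrictD_map_Q_map φ (b • 𝟙 ((coextCx φ).obj I))
  change (DRing.restrictD φ).map (Q.map (b • 𝟙 ((coextCx φ).obj I))) ≫ (fIso φ I).hom =
    (fIso φ I).hom ≫ Q.map ((resCx φ).map (b • 𝟙 ((coextCx φ).obj I))) at h2
  rw [h2, Category.assoc, ← Functor.map_comp, key_chain]
  unfold uIso θ e0I
  simp only [Iso.trans_hom, Functor.mapIso_hom, Functor.map_comp, Category.assoc,
    Iso.inv_hom_id_app, Functor.comp_map]
  erw [Category.comp_id]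

include hI hab in
lemma isKInjective_I : I.IsKInjective :=
  IAmp.isKInjective_of_data I a (fun n hn => hab n (Or.inl hn)) hI

include hI hab in
lemma isKInjective_coextCx' : CochainComplex.IsKInjective ((coextCx φ).obj I) :=
  isKInjective_coextCx φ I a (fun n hn => hab n (Or.inl hn)) hI

include hI hab hbij hext in
/-- `B → End(Q (Hom_A(B, I)))` is bijective -/
theorem toEnd_bijective_coext :
    Function.Bijective (fun x : B => x • 𝟙 (Q.obj ((coextCx φ).obj I) : Dual.D B)) := by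
  haveI := isKInjective_I I hI a b hab
  haveI := isKInjective_coextCx' φ I hI a b hab
  have hΨ : Function.Bijective (fun f : (Q.obj ((coextCx φ).obj I) : Dual.D B) ⟶
      Q.obj ((coextCx φ).obj I) => (DRing.restrictD φ).map f ≫ ρQ φ I) :=
    bijective_ρ (adj0 φ) I ((quot B).obj ((coextCx φ).obj I))
  rw [← Function.Bijective.of_comp_iff' hΨ]
  have hP : P (TI I) (Q.obj I) (e0I I) (BA φ) := P_TI I hI a b hab hbij hext (BA φ)
  have h3 : (fun f : (Q.obj ((coextCx φ).obj I) : Dual.D B) ⟶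
      Q.obj ((coextCx φ).obj I) => (DRing.restrictD φ).map f ≫ ρQ φ I) ∘
      (fun x : B => x • 𝟙 (Q.obj ((coextCx φ).obj I) : Dual.D B)) =
      (fun g => (uIso φ I).hom ≫ g ≫ (shiftFunctorZero (Dual.D A) ℤ).hom.app (Q.obj I)) ∘
        θ (TI I) (Q.obj I) (e0I I) (BA φ) := funext (Ψ_smul φ I)
  rw [h3]
  refine Function.Bijective.comp ⟨fun g g' h => ?_, fun ψ => ⟨(uIso φ I).inv ≫ ψ ≫
    (shiftFunctorZero (Dual.D A) ℤ).inv.app (Q.obj I), ?_⟩⟩ hP.1
  · have h4 := (cancel_epi (uIso φ I).hom).1 h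
    exact (cancel_mono _).1 h4
  · simp

include hI hab hbij hext in
/-- `Hom(Q (Hom_A(B, I)), Q (Hom_A(B, I))[i]) = 0` for `i ≠ 0` -/
theorem ext_subsingleton_coext (i : ℤ) (hi : i ≠ 0) :
    Subsingleton ((Q.obj ((coextCx φ).obj I) : Dual.D B) ⟶ (Q.obj ((coextCx φ).obj I))⟦i⟧) := by
  haveI : (I⟦i⟧).IsKInjective :=
    IAmp.isKInjective_of_data (I⟦i⟧) (a - i) (fun n hn => hab (n + i) (Or.inl (by omega)))
      (fun n => hI (n + i))
  haveI : CochainComplex.IsKInjective ((coextCx φ).obj (I⟦i⟧)) :=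
    isKInjective_coextCx φ (I⟦i⟧) (a - i) (fun n hn => hab (n + i) (Or.inl (by omega)))
      (fun n => hI (n + i))
  have hΨ : Function.Bijective (fun f : (Q.obj ((coextCx φ).obj I) : Dual.D B) ⟶
      Q.obj ((coextCx φ).obj (I⟦i⟧)) => (DRing.restrictD φ).map f ≫ ρQ φ (I⟦i⟧)) :=
    bijective_ρ (adj0 φ) (I⟦i⟧) ((quot B).obj ((coextCx φ).obj I))
  have hP : P (TI I) (Q.obj I) (e0I I) (BA φ) := P_TI I hI a b hab hbij hext (BA φ)
  have hz : ∀ ψ : (DRing.restrictD φ).obj (Q.obj ((coextCx φ).obj I)) ⟶ Q.obj (I⟦i⟧), ψ = 0 := by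
    intro ψ
    have h1 := hP.2 i hi ((uIso φ I).inv ≫ ψ ≫ (Q.commShiftIso i).hom.app I)
    have h2 := (cancel_epi (uIso φ I).inv).1 (h1.trans comp_zero.symm)
    exact (cancel_mono ((Q.commShiftIso i).hom.app I)).1 (h2.trans zero_comp.symm)
  let κ : (Q.obj ((coextCx φ).obj I) : Dual.D B)⟦i⟧ ≅ Q.obj ((coextCx φ).obj (I⟦i⟧)) :=
    ((Q.commShiftIso i).app ((coextCx φ).obj I)).symm ≪≫
      Q.mapIso ((((coextCx φ).commShiftIso i).app I).symm)
  refine ⟨fun f g => ?_⟩
  have h1 : f ≫ κ.hom = g ≫ κ.hom := hΨ.1 ((hz _).trans (hz _).symm)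
  exact (cancel_mono κ.hom).1 h1

end Main

end Groth.Agent.Lib.Helper8.Bidual
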