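import Mathlib
import Groth.Agent.Lib.Helper8.Bid4

/-! # Helper8 — Bid5: the right adjoint of restriction `D(B) → D(A)` along a finite map of noetherian rings sends a dualizing complex `ω ≅ Q I` to a dualizing complex, isomorphic to `Q (Hom_A(B, I))` (S1772) -/

set_option autoImplicit false

universe u

open CategoryTheory CategoryTheory.Limits CategoryTheory.Pretriangulated Opposite DerivedCategory

attribute [local instance] HasDerivedCategory.standard

namespace Groth.Agent.Lib.Helper8.Bidual

open Groth.Agent.Lib.Helper8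

variable {A B : Type u} [CommRing A] [CommRing B] [Algebra A B] [IsNoetherianRing A]
  [IsNoetherianRing B] [Module.Finite A B]

/-- a dualizing complex is represented by a bounded complex of injectives -/
lemma exists_injective_model (ω : Dual.D A) (hω : Dual.IsDualizing A ω) :
    ∃ (I : DRing.Cx A) (a b : ℤ), (∀ n : ℤ, Injective (I.X n)) ∧
      (∀ n : ℤ, n < a ∨ b < n → IsZero (I.X n)) ∧ Nonempty (Q.obj I ≅ ω) := by
  obtain ⟨a, b, hinj⟩ := hω.finite_injective_dimension
  have hab : DRing.HasInjAmplitudeIn A a b ω :=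
    ((IAmp.injectiveAmplitude_tfae ω a b).out 1 0).1 (by intro M _ _ i hi; exact hinj M i hi)
  rw [IAmp.hasInjAmp_iff] at hab
  obtain ⟨I, h1, h2, h3⟩ := hab
  exact ⟨I, a, b, h1, h2, h3⟩

variable {R : Dual.D A ⥤ Dual.D B} (adj : DRing.restrictD (algebraMap A B) ⊣ R)

include adj in
/-- S1772: the right adjoint of restriction along a finite map of noetherian rings preserves
dualizing complexes; moreover `R ω ≅ Q (Hom_A(B, I))` for a bounded injective model `I` of `ω`. -/
theorem isDualizing_rightAdjoint_and_model (ω : Dual.D A) (hω : Dual.IsDualizing A ω)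
    (I : DRing.Cx A) (a b : ℤ) (hI : ∀ n : ℤ, Injective (I.X n))
    (hab : ∀ n : ℤ, n < a ∨ b < n → IsZero (I.X n)) (e : Q.obj I ≅ ω) :
    Dual.IsDualizing B (R.obj ω) ∧
      Nonempty ((Q.obj ((coextCx (algebraMap A B)).obj I) : Dual.D B) ≅ R.obj ω) := by
  let φ := algebraMap A B
  have hωI : Dual.IsDualizing A (Q.obj I) := EFB.isDualizing_of_iso e.symm hω
  haveI : Module.Finite A (BA φ) :=
    Module.Finite.equiv (Groth.Agent.Lib.Helper16.FlatBC.bEquiv (A := A) (B := B))
  haveI := isKInjective_I I hI a b hab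
  haveI := isKInjective_coextCx' φ I hI a b hab
  haveI hα := isIso_homEquiv_ρ (adj0 φ) I adj
  let α : (Q.obj ((coextCx φ).obj I) : Dual.D B) ≅ R.obj (Q.obj I) :=
    @asIso _ _ _ _ (adj.homEquiv _ _ (ρ (adj0 φ) I)) hα
  have hJ : Dual.IsDualizing B (Q.obj ((coextCx φ).obj I)) := by
    refine ⟨inferInstance, ⟨a, b, fun M _ _ i hi => ?_⟩, fun i => ?_, ?_, ?_⟩
    · have hamp : IAmp.HasInjAmp a b (Q.obj ((coextCx φ).obj I) : Dual.D B) :=
        ⟨(coextCx φ).obj I, fun n => by
          haveI := hI n
          exact injective_coext φ (I.X n), fun n hn => (coext φ).map_isZero (hab n hn),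
          ⟨Iso.refl _⟩⟩
      exact ⟨fun x y => (hamp.hom_eq_zero _ i hi x).trans (hamp.hom_eq_zero _ i hi y).symm⟩
    · have hGE : (Q.obj I : Dual.D A).IsGE a :=
        EFB.isGE_of_subsingleton _ a (fun i hi => by
          have hz : IsZero (I.homology i) :=
            ShortComplex.isZero_homology_of_isZero_X₂ _ (hab i (Or.inl hi))
          have hz2 : IsZero ((DerivedCategory.homologyFunctor (ModuleCat.{u} A) i).obj (Q.obj I)) :=
            hz.of_iso ((DerivedCategory.homologyFunctorFactors (ModuleCat.{u} A) i).app I)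
          exact ModuleCat.subsingleton_of_isZero hz2)
      haveI := RAdj.finite_HD_rightAdjoint adj (Q.obj I) ⟨a, hGE⟩ hωI.finite_cohomology i
      exact Module.Finite.equiv
        ((DerivedCategory.homologyFunctor (ModuleCat.{u} B) i).mapIso α).symm.toLinearEquiv
    · exact toEnd_bijective_coext φ I hI a b hab hωI.toEnd_bijective hωI.ext_self_subsingleton
    · exact ext_subsingleton_coext φ I hI a b hab hωI.toEnd_bijective hωI.ext_self_subsingleton
  exact ⟨EFB.isDualizing_of_iso (α ≪≫ R.mapIso e) hJ, ⟨α ≪≫ R.mapIso e⟩⟩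

end Groth.Agent.Lib.Helper8.Bidual
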