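import Mathlib
import Groth.Agent.Lib.Helper8.Bid5

/-! # Helper8 — Bid6: `Hom(N[0], ω[i]) = 0` (`i ≠ 0`) for `N` of finite length and `ω` normalized over a local ring (S1749 part 1); finite modules killed by a maximal ideal have finite length; `Hom(X, (R K)[i]) ↪ Hom(res X, K[i])` for a right adjoint `R` of restriction; the right adjoint of restriction along a finite local map preserves normalized objects (S1773) -/

set_option autoImplicit false

universe u

open CategoryTheory CategoryTheory.Limits CategoryTheory.Pretriangulated Opposite DerivedCategory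

attribute [local instance] HasDerivedCategory.standard

namespace Groth.Agent.Lib.Helper8.Bidual

open Groth.Agent.Lib.Helper8

section FL

variable {A : Type u} [CommRing A]

/-- vanishing of `Hom(-[0], L)` is closed under extensions -/
lemma subsingleton_hom_of_ses {M₁ M₂ M₃ : Type u} [AddCommGroup M₁] [Module A M₁]
    [AddCommGroup M₂] [Module A M₂] [AddCommGroup M₃] [Module A M₃]
    (f : M₁ →ₗ[A] M₂) (g : M₂ →ₗ[A] M₃) (hf : Function.Injective f)
    (hg : Function.Surjective g) (hfg : Function.Exact f g) (L : Dual.D A)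
    (h₁ : Subsingleton (Dual.inD A M₁ ⟶ L)) (h₃ : Subsingleton (Dual.inD A M₃ ⟶ L)) :
    Subsingleton (Dual.inD A M₂ ⟶ L) := by
  obtain ⟨δ, hT⟩ := EFB.exists_singleTriangle f g hf hg hfg
  have hx : ∀ z : Dual.inD A M₂ ⟶ L, z = 0 := by
    intro z
    obtain ⟨w, hw⟩ : ∃ w : Dual.inD A M₃ ⟶ L,
        z = (singleFunctor (ModuleCat.{u} A) 0).map (ModuleCat.ofHom g) ≫ w :=
      Triangle.yoneda_exact₂ _ hT z (h₁.elim _ _)
    rw [hw, h₃.elim w 0, comp_zero]
  exact ⟨fun x y => (hx x).trans (hx y).symm⟩

/-- S1749 (first part): over a local ring with normalized `ω`, `Hom(N[0], ω[i]) = 0` for `i ≠ 0`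
and `N` of finite length -/
theorem subsingleton_hom_of_isFiniteLength [IsLocalRing A] (ω : Dual.D A)
    (hn : Dual.IsNormalized A ω) (N : Type u) [AddCommGroup N] [Module A N]
    (hN : IsFiniteLength A N) (i : ℤ) (hi : i ≠ 0) : Subsingleton (Dual.inD A N ⟶ ω⟦i⟧) := by
  induction hN with
  | of_subsingleton =>
    rename_i M _ _ _
    have hz : IsZero (Dual.inD A M) :=
      (singleFunctor (ModuleCat.{u} A) 0).map_isZero (ModuleCat.isZero_of_subsingleton _)
    exact ⟨fun x y => hz.eq_of_src _ _⟩
  | of_simple_quotient _ ih =>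
    rename_i M _ _ S hS _
    obtain ⟨m, hm, ⟨e⟩⟩ := isSimpleModule_iff_quot_maximal.1 hS
    obtain rfl : m = IsLocalRing.maximalIdeal A := IsLocalRing.eq_maximalIdeal hm
    haveI := hn i hi
    let e' : Dual.inD A (M ⧸ S) ≅ Dual.inD A (IsLocalRing.ResidueField A) :=
      (DerivedCategory.singleFunctor (ModuleCat.{u} A) 0).mapIso
        (e.trans (EFB.residueEquiv A)).toModuleIso
    have h3 : Subsingleton (Dual.inD A (M ⧸ S) ⟶ ω⟦i⟧) :=
      (Iso.homFromEquiv (Z := ω⟦i⟧) e').subsingleton
    exact subsingleton_hom_of_ses S.subtype S.mkQ S.injective_subtype S.mkQ_surjective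
      (LinearMap.exact_subtype_mkQ S) _ ih h3

/-- a finite module killed by a maximal ideal has finite length -/
lemma isFiniteLength_of_killed [IsNoetherianRing A] (m : Ideal A) [m.IsMaximal] (M : Type u)
    [AddCommGroup M] [Module A M] [Module.Finite A M] (h : ∀ a ∈ m, ∀ x : M, a • x = 0) :
    IsFiniteLength A M := by
  rw [isFiniteLength_iff_isNoetherian_isArtinian]
  refine ⟨inferInstance, ?_⟩
  have ht : Module.IsTorsionBySet A M (m : Set A) := fun x a => h a.1 a.2 x
  letI : Module (A ⧸ m) M := ht.module
  letI : Field (A ⧸ m) := Ideal.Quotient.field m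
  haveI : Module.Finite (A ⧸ m) M := Module.Finite.of_restrictScalars_finite A (A ⧸ m) M
  exact isArtinian_of_surjective_algebraMap (S := A) (R := A ⧸ m) Ideal.Quotient.mk_surjective

end FL

section Shift

variable {A B : Type u} [CommRing A] [CommRing B] [Algebra A B]
  {R : Dual.D A ⥤ Dual.D B} (adj : DRing.restrictD (algebraMap A B) ⊣ R)

include adj in
/-- `Hom(X, (R K)[i])` injects into `Hom(res X, K[i])` -/
lemma subsingleton_hom_rightAdjoint_shift (X : Dual.D B) (K : Dual.D A) (i : ℤ)
    (h : Subsingleton ((DRing.restrictD (algebraMap A B)).obj X ⟶ K⟦i⟧)) :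
    Subsingleton (X ⟶ (R.obj K)⟦i⟧) := by
  let Φ : (X ⟶ (R.obj K)⟦i⟧) → ((DRing.restrictD (algebraMap A B)).obj X ⟶ K⟦i⟧) := fun f =>
    (shiftNegShift ((DRing.restrictD (algebraMap A B)).obj X) i).inv ≫
      (((DRing.restrictD (algebraMap A B)).commShiftIso (-i)).inv.app X ≫
        (adj.homEquiv (X⟦-i⟧) K).symm (f⟦-i⟧' ≫ (shiftShiftNeg (R.obj K) i).hom))⟦i⟧'
  have hΦ : Function.Injective Φ := by
    intro f f' hff
    have h1 := (cancel_epi _).1 hff
    have h2 := (shiftFunctor (Dual.D A) i).map_injective h1
    have h3 := (cancel_epi _).1 h2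
    have h4 := (adj.homEquiv (X⟦-i⟧) K).symm.injective h3
    have h5 := (cancel_mono _).1 h4
    exact (shiftFunctor (Dual.D B) (-i)).map_injective h5
  exact ⟨fun f f' => hΦ (h.elim _ _)⟩

section Normalized

variable [IsLocalRing A] [IsLocalRing B] [IsLocalHom (algebraMap A B)] [IsNoetherianRing A]
  [Module.Finite A B]

/-- the residue field of `B` as an `A`-module -/
noncomputable abbrev κBA (A B : Type u) [CommRing A] [CommRing B] [Algebra A B] [IsLocalRing B] :
    ModuleCat.{u} A :=
  (ModuleCat.restrictScalars.{u} (algebraMap A B)).obj (ModuleCat.of B (IsLocalRing.ResidueField B))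

omit [IsLocalRing A] [IsLocalHom (algebraMap A B)] [IsNoetherianRing A] [Module.Finite A B] in
lemma κBA_smul (a : A) (x : κBA A B) :
    a • x = (IsLocalRing.residue B (algebraMap A B a) * (show IsLocalRing.ResidueField B from x) :
      IsLocalRing.ResidueField B) := by
  rw [ModuleCat.restrictScalars.smul_def]
  exact Algebra.smul_def (algebraMap A B a) (show IsLocalRing.ResidueField B from x)

/-- the residue map `B → κ_B` as an `A`-linear map -/
noncomputable def resProj : B →ₗ[A] κBA A B where
  toFun b := IsLocalRing.residue B b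
  map_add' x y := map_add _ x y
  map_smul' a b := by
    have h1 : (a • b : B) = algebraMap A B a * b := Algebra.smul_def a b
    change (IsLocalRing.residue B (a • b) : IsLocalRing.ResidueField B) =
      a • (show κBA A B from IsLocalRing.residue B b)
    rw [κBA_smul, h1, map_mul]

omit [IsLocalRing A] [IsLocalHom (algebraMap A B)] [IsNoetherianRing A] in
instance : Module.Finite A (κBA A B) :=
  Module.Finite.of_surjective (resProj (A := A) (B := B)) IsLocalRing.residue_surjective

omit [Module.Finite A B] [IsNoetherianRing A] in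
lemma κBA_killed (a : A) (ha : a ∈ IsLocalRing.maximalIdeal A) (x : κBA A B) : a • x = 0 := by
  rw [κBA_smul]
  have h1 : algebraMap A B a ∈ IsLocalRing.maximalIdeal B := by
    rw [IsLocalRing.mem_maximalIdeal, mem_nonunits_iff] at ha ⊢
    exact fun hu => ha (isUnit_of_map_unit (algebraMap A B) a hu)
  rw [(IsLocalRing.residue_eq_zero_iff _).2 h1, zero_mul]
  rfl

include adj in
/-- S1773: the right adjoint of restriction along a finite local map preserves normalized
objects -/
theorem isNormalized_rightAdjoint (ω : Dual.D A) (hn : Dual.IsNormalized A ω) :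
    Dual.IsNormalized B (R.obj ω) := by
  intro i hi
  refine subsingleton_hom_rightAdjoint_shift adj _ ω i ?_
  have hfl : IsFiniteLength A (κBA A B) :=
    isFiniteLength_of_killed (IsLocalRing.maximalIdeal A) (κBA A B) κBA_killed
  haveI := subsingleton_hom_of_isFiniteLength ω hn (κBA A B) hfl i hi
  let e : (DRing.restrictD (algebraMap A B)).obj (Dual.inD B (IsLocalRing.ResidueField B)) ≅
      Dual.inD A (κBA A B) :=
    ((ModuleCat.restrictScalars.{u} (algebraMap A B)).mapDerivedCategorySingleFunctor 0).app
      (ModuleCat.of B (IsLocalRing.ResidueField B))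
  exact (Iso.homFromEquiv (Z := ω⟦i⟧) e).subsingleton

end Normalized

end Shift

end Groth.Agent.Lib.Helper8.Bidual
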