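import Mathlib
import Groth.Agent.Lib.Helper8.Bid6

/-! # Helper8 — Bid7: the distinguished triangle `R Hom_A(A/f, ω) → ω →f ω →` for a nonzerodivisor `f` and `R` right adjoint to restriction along `A → A/(f)` (S8941) -/

set_option autoImplicit false

universe u

open CategoryTheory CategoryTheory.Limits CategoryTheory.Pretriangulated Opposite DerivedCategory

attribute [local instance] HasDerivedCategory.standard

namespace Groth.Agent.Lib.Helper8.Bidual

open Groth.Agent.Lib.Helper8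

variable {A : Type u} [CommRing A] [IsNoetherianRing A]

/-- the projection `A → A/J` as a map of `A`-modules to `B_A` -/
noncomputable def mkBA (J : Ideal A) : ModuleCat.of A A ⟶ BA (algebraMap A (A ⧸ J)) :=
  ModuleCat.ofHom (X := A) (Y := BA (algebraMap A (A ⧸ J)))
    { toFun := fun a => Ideal.Quotient.mk J a
      map_add' := fun x y => map_add _ x y
      map_smul' := fun a x => by
        change Ideal.Quotient.mk J (a * x) = algebraMap A (A ⧸ J) a • (Ideal.Quotient.mk J x : A ⧸ J)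
        rw [map_mul]
        rfl }

lemma mkBA_apply (J : Ideal A) (a : A) : (mkBA J).hom a = Ideal.Quotient.mk J a := rfl

/-- `0 → A →f A → A/(f) → 0` -/
lemma shortExact_mulf (f : A) (hf : f ∈ nonZeroDivisors A) :
    (ShortComplex.mk (mhat (ModuleCat.of A A) f) (mkBA (Ideal.span {f})) (by
      refine ModuleCat.hom_ext (LinearMap.ext_ring ?_)
      change Ideal.Quotient.mk (Ideal.span {f}) ((1 : A) • f) = 0
      rw [one_smul, Ideal.Quotient.eq_zero_iff_mem]
      exact Ideal.mem_span_singleton_self f)).ShortExact := by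
  refine ShortComplex.ShortExact.mk' ?_ ?_ ?_
  · rw [ShortComplex.moduleCat_exact_iff]
    intro (x : A) hx
    have hx' : Ideal.Quotient.mk (Ideal.span {f}) x = 0 := hx
    rw [Ideal.Quotient.eq_zero_iff_mem, Ideal.mem_span_singleton'] at hx'
    obtain ⟨c, hc⟩ := hx'
    exact ⟨c, hc⟩
  · rw [ModuleCat.mono_iff_injective]
    intro (x : A) (y : A) hxy
    have h1 : x * f = y * f := hxy
    have h2 : (x - y) * f = 0 := by rw [sub_mul, h1, sub_self]
    exact sub_eq_zero.1 ((mem_nonZeroDivisors_iff_right.1 hf) _ h2)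
  · rw [ModuleCat.epi_iff_surjective]
    exact Ideal.Quotient.mk_surjective

/-- S8941: the triangle `R Hom_A(A/f, ω) → ω →f ω →` for a nonzerodivisor `f` -/
theorem exists_triangle_rightAdjoint_quotient (ω : Dual.D A) (hω : Dual.IsDualizing A ω) (f : A)
    (hf : f ∈ nonZeroDivisors A) (R : Dual.D A ⥤ Dual.D (A ⧸ Ideal.span {f}))
    (adj : DRing.restrictD (algebraMap A (A ⧸ Ideal.span {f})) ⊣ R) :
    ∃ (u : (DRing.restrictD (algebraMap A (A ⧸ Ideal.span {f}))).obj (R.obj ω) ⟶ ω)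
      (w : ω ⟶ ((DRing.restrictD (algebraMap A (A ⧸ Ideal.span {f}))).obj (R.obj ω))⟦(1 : ℤ)⟧),
      Triangle.mk u (f • 𝟙 ω) w ∈ distTriang (Dual.D A) := by
  obtain ⟨I, a, b, hI, hab, ⟨e⟩⟩ := exists_injective_model ω hω
  obtain ⟨-, ⟨m⟩⟩ := isDualizing_rightAdjoint_and_model adj ω hω I a b hI hab e
  let φ := algebraMap A (A ⧸ Ideal.span {f})
  obtain ⟨δ, hδ⟩ := TI_triangle I hI _ (shortExact_mulf f hf)
  let e₁ : (DRing.restrictD φ).obj (R.obj ω) ≅ (TI I).obj (op (BA φ)) :=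
    (DRing.restrictD φ).mapIso m.symm ≪≫ uIso φ I
  let e₂ : (TI I).obj (op (ModuleCat.of A A)) ≅ ω := Q.mapIso (evOne I) ≪≫ e
  refine ⟨e₁.hom ≫ (TI I).map (mkBA (Ideal.span {f})).op ≫ e₂.hom,
    e₂.inv ≫ δ ≫ e₁.inv⟦(1 : ℤ)⟧', ?_⟩
  refine isomorphic_distinguished _ hδ _ (Triangle.isoMk _ _ e₁ e₂.symm e₂.symm ?_ ?_ ?_)
  · change (e₁.hom ≫ (TI I).map (mkBA (Ideal.span {f})).op ≫ e₂.hom) ≫ e₂.inv =
      e₁.hom ≫ (TI I).map (mkBA (Ideal.span {f})).op
    rw [Category.assoc, Category.assoc, Iso.hom_inv_id, Category.comp_id]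
  · change (f • 𝟙 ω) ≫ e₂.inv = e₂.inv ≫ (TI I).map (mhat (ModuleCat.of A A) f).op
    have h1 : (TI I).map (mhat (ModuleCat.of A A) f).op ≫ e₂.hom =
        e₂.hom ≫ (f • 𝟙 ω) := by
      change Q.map ((homF I).map (mhat (ModuleCat.of A A) f).op) ≫ Q.map (evOne I).hom ≫ e.hom =
        (Q.map (evOne I).hom ≫ e.hom) ≫ (f • 𝟙 ω)
      rw [← Category.assoc, ← Functor.map_comp, homF_mhat_evOne, Functor.map_comp,
        Functor.map_smul, CategoryTheory.Functor.map_id]
      simp only [Linear.smul_comp, Linear.comp_smul, Category.comp_id]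
    rw [← cancel_mono e₂.hom, Category.assoc, Category.assoc, Iso.inv_hom_id, Category.comp_id,
      h1, ← Category.assoc, Iso.inv_hom_id, Category.id_comp]
  · change (e₂.inv ≫ δ ≫ e₁.inv⟦(1 : ℤ)⟧') ≫ e₁.hom⟦(1 : ℤ)⟧' = e₂.inv ≫ δ
    rw [Category.assoc, Category.assoc, ← Functor.map_comp, Iso.inv_hom_id,
      CategoryTheory.Functor.map_id, Category.comp_id]

end Groth.Agent.Lib.Helper8.Bidual
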