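import Mathlib

/-! # Helper8 — PolySES: for an `A[X]`-module `N`, the short exact sequence `0 → A[X] ⊗_A N → A[X] ⊗_A N → N → 0` (`X ⊗ 1 - 1 ⊗ X`, multiplication), with an `A`-linear contracting homotopy -/

set_option autoImplicit false

universe u

open TensorProduct Polynomial

namespace Groth.Agent.Lib.Helper8.PolySES

/-- `A`-linear maps out of `A[X] ⊗ N` are determined by their values on `X^k ⊗ n` -/
lemma ext_tensor {A : Type*} [CommRing A] {N : Type*} [AddCommGroup N] [Module A N] {Q : Type*} [AddCommGroup Q] [Module A Q] (f g : A[X] ⊗[A] N →ₗ[A] Q)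
    (h : ∀ (k : ℕ) (n : N), f (((X : A[X]) ^ k) ⊗ₜ[A] n) = g (((X : A[X]) ^ k) ⊗ₜ[A] n)) :
    f = g := by
  apply TensorProduct.ext
  apply Polynomial.lhom_ext'
  intro k
  apply LinearMap.ext_ring
  ext n
  simp only [LinearMap.comp_apply, Polynomial.monomial_one_right_eq_X_pow]
  exact h k n

variable {A : Type*} [CommRing A] {N : Type*} [AddCommGroup N] [Module A[X] N] [Module A N]
  [IsScalarTower A A[X] N]

variable (A N)

/-- multiplication by `X` on `N`, as an `A`-linear map -/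
noncomputable def xmul : N →ₗ[A] N := (LinearMap.lsmul A[X] N X).restrictScalars A

/-- the multiplication map `A[X] ⊗ N → N` -/
noncomputable def μ : A[X] ⊗[A] N →ₗ[A[X]] N :=
  LinearMap.liftBaseChange A[X] (LinearMap.id : N →ₗ[A] N)

/-- `X ⊗ 1 - 1 ⊗ X` -/
noncomputable def δ : A[X] ⊗[A] N →ₗ[A[X]] A[X] ⊗[A] N :=
  (X : A[X]) • LinearMap.id - LinearMap.baseChange A[X] (xmul A N)

variable {A N}

@[simp] lemma xmul_apply (n : N) : xmul A N n = (X : A[X]) • n := rfl

lemma xmul_pow_apply (k : ℕ) (n : N) : ((xmul A N) ^ k) n = ((X : A[X]) ^ k) • n := by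
  induction k generalizing n with
  | zero => simp
  | succ k ih => rw [pow_succ, Module.End.mul_apply, ih, xmul_apply, smul_smul, ← pow_succ]

@[simp] lemma μ_tmul (p : A[X]) (n : N) : μ A N (p ⊗ₜ[A] n) = p • n := by
  simp [μ]

@[simp] lemma δ_tmul (p : A[X]) (n : N) :
    δ A N (p ⊗ₜ[A] n) = (X * p) ⊗ₜ[A] n - p ⊗ₜ[A] ((X : A[X]) • n) := by
  simp [δ, TensorProduct.smul_tmul']

lemma μ_comp_δ (z : A[X] ⊗[A] N) : μ A N (δ A N z) = 0 := by
  induction z using TensorProduct.induction_on with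
  | zero => simp
  | tmul p n =>
    rw [δ_tmul, map_sub, μ_tmul, μ_tmul, mul_smul, smul_comm, sub_self]
  | add x y hx hy => rw [map_add, map_add, hx, hy, add_zero]

variable (A N)

/-- the `k`-th component of the contracting homotopy -/
noncomputable def G (k : ℕ) : N →ₗ[A] A[X] ⊗[A] N :=
  ∑ j ∈ Finset.range k, (TensorProduct.mk A A[X] N ((X : A[X]) ^ j)) ∘ₗ ((xmul A N) ^ (k - 1 - j))

/-- the contracting homotopy -/
noncomputable def h : A[X] ⊗[A] N →ₗ[A] A[X] ⊗[A] N :=
  TensorProduct.lift (Polynomial.lsum (fun k =>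
    LinearMap.toSpanSingleton A (N →ₗ[A] A[X] ⊗[A] N) (G A N k)))

variable {A N}

lemma G_apply (k : ℕ) (n : N) :
    G A N k n = ∑ j ∈ Finset.range k, ((X : A[X]) ^ j) ⊗ₜ[A] (((X : A[X]) ^ (k - 1 - j)) • n) := by
  simp [G, xmul_pow_apply]

lemma h_X_pow_tmul (k : ℕ) (n : N) : h A N (((X : A[X]) ^ k) ⊗ₜ[A] n) = G A N k n := by
  rw [h, TensorProduct.lift.tmul, ← Polynomial.monomial_one_right_eq_X_pow, Polynomial.lsum_apply,
    Polynomial.sum_monomial_index]
  · simp
  · simp

lemma h_δ (z : A[X] ⊗[A] N) : h A N (δ A N z) = z := by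
  have : (h A N) ∘ₗ ((δ A N).restrictScalars A) = LinearMap.id := by
    apply ext_tensor
    intro k n
    rw [LinearMap.comp_apply, LinearMap.restrictScalars_apply, δ_tmul, map_sub, ← pow_succ',
      h_X_pow_tmul, h_X_pow_tmul, G_apply, G_apply, Finset.sum_range_succ, LinearMap.id_apply]
    have h1 : ∀ j ∈ Finset.range k, ((X : A[X]) ^ j) ⊗ₜ[A] (((X : A[X]) ^ (k + 1 - 1 - j)) • n) =
        ((X : A[X]) ^ j) ⊗ₜ[A] (((X : A[X]) ^ (k - 1 - j)) • ((X : A[X]) • n)) := by
      intro j hj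
      rw [Finset.mem_range] at hj
      rw [smul_smul, ← pow_succ]
      congr 3
      omega
    rw [Finset.sum_congr rfl h1]
    simp
  exact LinearMap.congr_fun this z

lemma δ_h_add (z : A[X] ⊗[A] N) :
    δ A N (h A N z) + (1 : A[X]) ⊗ₜ[A] (μ A N z) = z := by
  have : ((δ A N).restrictScalars A) ∘ₗ (h A N) +
      (TensorProduct.mk A A[X] N 1) ∘ₗ ((μ A N).restrictScalars A) = LinearMap.id := by
    apply ext_tensor
    intro k n
    rw [LinearMap.add_apply, LinearMap.comp_apply, LinearMap.comp_apply,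
      LinearMap.restrictScalars_apply, LinearMap.restrictScalars_apply, h_X_pow_tmul, G_apply,
      map_sum, μ_tmul, TensorProduct.mk_apply, LinearMap.id_apply]
    have h1 : ∀ j ∈ Finset.range k,
        δ A N (((X : A[X]) ^ j) ⊗ₜ[A] (((X : A[X]) ^ (k - 1 - j)) • n)) =
        (fun i : ℕ => ((X : A[X]) ^ i) ⊗ₜ[A] (((X : A[X]) ^ (k - i)) • n)) (j + 1) -
        (fun i : ℕ => ((X : A[X]) ^ i) ⊗ₜ[A] (((X : A[X]) ^ (k - i)) • n)) j := by
      intro j hj
      rw [Finset.mem_range] at hj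
      rw [δ_tmul, ← pow_succ', smul_smul, ← pow_succ']
      have e1 : k - 1 - j = k - (j + 1) := by omega
      have e2 : k - 1 - j + 1 = k - j := by omega
      rw [e2, e1]
    rw [Finset.sum_congr rfl h1,
      Finset.sum_range_sub (fun i : ℕ => ((X : A[X]) ^ i) ⊗ₜ[A] (((X : A[X]) ^ (k - i)) • n)) k]
    simp
  exact LinearMap.congr_fun this z

theorem δ_injective : Function.Injective (δ A N) :=
  Function.LeftInverse.injective (g := h A N) h_δ

theorem μ_surjective : Function.Surjective (μ A N) := fun n => ⟨1 ⊗ₜ[A] n, by simp⟩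

theorem exact_δ_μ : Function.Exact (δ A N) (μ A N) := by
  intro z
  constructor
  · intro hz
    refine ⟨h A N z, ?_⟩
    have := δ_h_add z
    rw [hz, TensorProduct.tmul_zero, add_zero] at this
    exact this
  · rintro ⟨w, rfl⟩
    exact μ_comp_δ w

end Groth.Agent.Lib.Helper8.PolySES
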