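import Mathlib
import Groth.Agent.Lib.Helper8.EFB19
import Groth.Agent.Lib.Helper8.PolySES

/-! # Helper8 — EFB22: for flat `A → B` with `A` noetherian, `res (ε ω)` has the same injective amplitude over `A` as `ω`; hence `Ext_B^i(B ⊗ M, ε ω)` vanishes outside that range for every `A`-module `M` -/

set_option autoImplicit false

universe u

open CategoryTheory CategoryTheory.Limits DerivedCategory TensorProduct CategoryTheory.Pretriangulated

attribute [local instance] HasDerivedCategory.standard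

namespace Groth.Agent.Lib.Helper8.EFB

open Groth.Agent.Lib.Helper16.FlatBC Groth.Agent.Lib.Helper8.EBC

variable {A B : Type u} [CommRing A] [CommRing B] [Algebra A B] [Module.Flat A B]

/-- `res (ε ω)` has the same injective amplitude over `A` as `ω` (noetherian case) -/
theorem hinj_res_ε [IsNoetherianRing A] (ω : Dual.D A) (a b : ℤ)
    (hab : ∀ (M : Type u) [AddCommGroup M] [Module A M] (i : ℤ),
      (i < a ∨ b < i) → Subsingleton (Dual.inD A M ⟶ ω⟦i⟧)) :
    ∀ (M : Type u) [AddCommGroup M] [Module A M] (i : ℤ), (i < a ∨ b < i) →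
      Subsingleton (Dual.inD A M ⟶
        ((DRing.restrictD (algebraMap A B)).obj ((ε (algebraMap A B)).obj ω))⟦i⟧) := by
  have hbdd := hbdd_of_hinj ω a b hab
  have hGE : ω.IsGE a := isGE_of_subsingleton ω a (fun i hi => hbdd i (Or.inl hi))
  apply ((IAmp.injectiveAmplitude_tfae
    ((DRing.restrictD (algebraMap A B)).obj ((ε (algebraMap A B)).obj ω)) a b).out 2 1).1
  intro I i hi
  obtain ⟨Θ, -⟩ := exists_bcEquiv_shift (B := B) (Dual.inD A (A ⧸ I)) ω
    ⟨0, fun j hj => subsingleton_HD_inD (A ⧸ I) j (by omega)⟩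
    (fun j => finite_HD_inD (A ⧸ I) j) ⟨a, hGE⟩ i
  haveI := hab (A ⧸ I) i hi
  haveI : Subsingleton (B ⊗[A] (Dual.inD A (A ⧸ I) ⟶ ω⟦i⟧)) := subsingleton_tensor_of_right _ _
  haveI : Subsingleton ((ε (algebraMap A B)).obj (Dual.inD A (A ⧸ I)) ⟶
      ((ε (algebraMap A B)).obj ω)⟦i⟧) := Θ.symm.toEquiv.subsingleton
  have s1 : Subsingleton (Dual.inD A (A ⧸ I) ⟶
      (DRing.restrictD (algebraMap A B)).obj (((ε (algebraMap A B)).obj ω)⟦i⟧)) :=
    ((flatAdj (algebraMap A B)).homEquiv _ _).symm.subsingleton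
  exact @Equiv.subsingleton _ _ (postcompAddEquiv (Dual.inD A (A ⧸ I))
    (((DRing.restrictD (algebraMap A B)).commShiftIso i).app
      ((ε (algebraMap A B)).obj ω))).symm.toEquiv s1

/-- Ext-vanishing over `B` from extended modules `B ⊗ M`, `M` an arbitrary `A`-module -/
theorem subsingleton_hom_ext_ε [IsNoetherianRing A] (ω : Dual.D A) (a b : ℤ)
    (hab : ∀ (M : Type u) [AddCommGroup M] [Module A M] (i : ℤ),
      (i < a ∨ b < i) → Subsingleton (Dual.inD A M ⟶ ω⟦i⟧))
    (M : Type u) [AddCommGroup M] [Module A M] (i : ℤ) (hi : i < a ∨ b < i) :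
    Subsingleton (Dual.inD B (B ⊗[A] M) ⟶ ((ε (algebraMap A B)).obj ω)⟦i⟧) := by
  have s0 := hinj_res_ε (B := B) ω a b hab M i hi
  haveI : Subsingleton (Dual.inD A M ⟶
      (DRing.restrictD (algebraMap A B)).obj (((ε (algebraMap A B)).obj ω)⟦i⟧)) :=
    @Equiv.subsingleton _ _ (postcompAddEquiv (Dual.inD A M)
      (((DRing.restrictD (algebraMap A B)).commShiftIso i).app
        ((ε (algebraMap A B)).obj ω))).toEquiv s0
  haveI : Subsingleton ((ε (algebraMap A B)).obj (Dual.inD A M) ⟶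
      ((ε (algebraMap A B)).obj ω)⟦i⟧) :=
    ((flatAdj (algebraMap A B)).homEquiv _ _).subsingleton
  exact (Iso.homFromEquiv (inDExtIso (B := B) M)).subsingleton

end Groth.Agent.Lib.Helper8.EFB
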