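import Mathlib
import Groth.Agent.Lib.Helper8.EFB22

/-! # Helper8 — EFB23: the base change of a dualizing complex to the polynomial ring `A[X]` is dualizing (injective amplitude `[a, b+1]` via the sequence `0 → A[X] ⊗ N → A[X] ⊗ N → N → 0`) -/

set_option autoImplicit false

universe u

open CategoryTheory CategoryTheory.Limits DerivedCategory TensorProduct CategoryTheory.Pretriangulated
  Polynomial

attribute [local instance] HasDerivedCategory.standard

namespace Groth.Agent.Lib.Helper8.EFB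

open Groth.Agent.Lib.Helper16.FlatBC Groth.Agent.Lib.Helper8.EBC Groth.Agent.Lib.Helper8.PolySES

variable {A : Type u} [CommRing A] [IsNoetherianRing A]

/-- Ext-vanishing over `A[X]` against `ε ω`, from modules with a compatible `A`-structure -/
theorem subsingleton_hom_polynomial (ω : Dual.D A) (a b : ℤ)
    (hab : ∀ (M : Type u) [AddCommGroup M] [Module A M] (i : ℤ),
      (i < a ∨ b < i) → Subsingleton (Dual.inD A M ⟶ ω⟦i⟧))
    (N : Type u) [AddCommGroup N] [Module A[X] N] [Module A N] [IsScalarTower A A[X] N]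
    (i : ℤ) (hi : i < a ∨ b + 1 < i) :
    Subsingleton (Dual.inD A[X] N ⟶ ((ε (algebraMap A A[X])).obj ω)⟦i⟧) := by
  obtain ⟨d, hT⟩ := exists_singleTriangle (A := A[X]) (δ A N) (μ A N) δ_injective μ_surjective
    exact_δ_μ
  set Tr := Triangle.mk ((singleFunctor (ModuleCat.{u} A[X]) 0).map (ModuleCat.ofHom (δ A N)))
    ((singleFunctor (ModuleCat.{u} A[X]) 0).map (ModuleCat.ofHom (μ A N))) d with hTr
  set Y := ((ε (algebraMap A A[X])).obj ω)⟦i⟧ with hY
  have hex := exact_leftComp Y Tr.rotate (rot_of_distTriang _ hT)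
  -- vanishing of `Hom(F, Y)`
  have s1 : Subsingleton (Tr.rotate.obj₁ ⟶ Y) := by
    change Subsingleton (Dual.inD A[X] (A[X] ⊗[A] N) ⟶ ((ε (algebraMap A A[X])).obj ω)⟦i⟧)
    exact subsingleton_hom_ext_ε (B := A[X]) ω a b hab N i (by omega)
  -- vanishing of `Hom(F⟦1⟧, Y)`
  have s3 : Subsingleton (Tr.rotate.obj₃ ⟶ Y) := by
    change Subsingleton ((Dual.inD A[X] (A[X] ⊗[A] N))⟦(1 : ℤ)⟧ ⟶
      ((ε (algebraMap A A[X])).obj ω)⟦i⟧)
    have s0 := subsingleton_hom_ext_ε (B := A[X]) ω a b hab N (i - 1) (by omega)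
    have e1 : (Dual.inD A[X] (A[X] ⊗[A] N) ⟶ ((ε (algebraMap A A[X])).obj ω)⟦i - 1⟧) ≃
        ((Dual.inD A[X] (A[X] ⊗[A] N))⟦(1 : ℤ)⟧ ⟶
          ((ε (algebraMap A A[X])).obj ω)⟦i - 1⟧⟦(1 : ℤ)⟧) :=
      (shiftEquivLin 1 _ _).toEquiv
    have e2 := Iso.homCongr
      (Iso.refl ((Dual.inD A[X] (A[X] ⊗[A] N))⟦(1 : ℤ)⟧))
      ((shiftFunctorAdd' (Dual.D A[X]) (i - 1) 1 i (by omega)).app
        ((ε (algebraMap A A[X])).obj ω)).symm
    exact @Equiv.subsingleton _ _ (e1.trans e2).symm s0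
  refine ⟨fun x y => ?_⟩
  have hx : ∀ z : Dual.inD A[X] N ⟶ Y, z = 0 := by
    intro z
    obtain ⟨w, hw⟩ := (hex z).1 (s1.elim _ _)
    rw [← hw, s3.elim w 0]
    exact (comp_zero : Tr.rotate.mor₂ ≫ (0 : Tr.rotate.obj₃ ⟶ Y) = 0)
  rw [hx x, hx y]

/-- **the base change of a dualizing complex to the polynomial ring is dualizing** -/
theorem isDualizing_ε_polynomial (ω : Dual.D A) (hω : Dual.IsDualizing A ω) :
    Dual.IsDualizing A[X] ((ε (algebraMap A A[X])).obj ω) := by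
  obtain ⟨a, b, hab⟩ := hω.finite_injective_dimension
  refine isDualizing_ε_of_hinj ω hω ⟨a, b + 1, ?_⟩
  apply ((IAmp.injectiveAmplitude_tfae ((ε (algebraMap A A[X])).obj ω) a (b + 1)).out 2 1).1
  intro J i hi
  exact subsingleton_hom_polynomial ω a b hab (A[X] ⧸ J) i hi

end Groth.Agent.Lib.Helper8.EFB
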