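import Mathlib
import Groth.Agent.Lib.Helper8.Bid5
import Groth.Agent.Lib.Helper8.EFB23

/-! # Helper8 — Bid8: shifts of dualizing complexes are dualizing; transitivity of flat base change `ε` on objects; base change of a dualizing complex along a ring isomorphism and to `R[x_1, …, x_n]` is dualizing (towards S1782) -/

set_option autoImplicit false

universe u

open CategoryTheory CategoryTheory.Limits CategoryTheory.Pretriangulated Opposite DerivedCategory

attribute [local instance] HasDerivedCategory.standard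

namespace Groth.Agent.Lib.Helper8.Bidual

open Groth.Agent.Lib.Helper8 Groth.Agent.Lib.Helper16.FlatBC

section Shift

variable {A : Type u} [CommRing A]

/-- a shift of a dualizing complex is dualizing -/
theorem isDualizing_shift (ω : Dual.D A) (hω : Dual.IsDualizing A ω) (n : ℤ) :
    Dual.IsDualizing A (ω⟦n⟧) := by
  obtain ⟨a, b, hab⟩ := hω.finite_injective_dimension
  refine ⟨hω.isNoetherianRing, ⟨a - n, b - n, fun M _ _ i hi => ?_⟩, fun i => ?_, ?_, fun i hi => ?_⟩
  · haveI := hab M (n + i) (by omega)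
    exact (Iso.homToEquiv (Z := Dual.inD A M)
      ((shiftFunctorAdd' (Dual.D A) n i (n + i) rfl).app ω)).symm.subsingleton
  · haveI := hω.finite_cohomology (n + i)
    exact Module.Finite.equiv (RAdj.HDShiftIso ω n i).symm.toLinearEquiv
  · have h1 : (fun x : A => x • 𝟙 (ω⟦n⟧)) = (EFB.shiftEquivLin n ω ω) ∘ (fun x : A => x • 𝟙 ω) := by
      ext x
      simp only [Function.comp, EFB.shiftEquivLin_apply]
      rw [Functor.map_smul, CategoryTheory.Functor.map_id]
    rw [h1]
    exact (EFB.shiftEquivLin n ω ω).bijective.comp hω.toEnd_bijective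
  · haveI := hω.ext_self_subsingleton i hi
    have e1 : (ω ⟶ ω⟦i⟧) ≃ (ω⟦n⟧ ⟶ (ω⟦i⟧)⟦n⟧) := (EFB.shiftEquivLin n ω (ω⟦i⟧)).toEquiv
    have e2 : (ω⟦n⟧ ⟶ (ω⟦i⟧)⟦n⟧) ≃ (ω⟦n⟧ ⟶ (ω⟦n⟧)⟦i⟧) :=
      Iso.homToEquiv (Z := ω⟦n⟧) ((shiftFunctorComm (Dual.D A) i n).app ω)
    exact (e1.trans e2).symm.subsingleton

end Shift

section Comp

variable {A B C : Type u} [CommRing A] [CommRing B] [CommRing C] (φ : A →+* B) (ψ : B →+* C)
  [FlatHom φ] [FlatHom ψ] [FlatHom (ψ.comp φ)]

/-- termwise transitivity of extension of scalars on complexes -/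
noncomputable def εCompCx (L : DRing.Cx A) :
    (DTen.extCx (ψ.comp φ)).obj L ≅ (DTen.extCx ψ).obj ((DTen.extCx φ).obj L) :=
  (NatIso.mapHomologicalComplex (ModuleCat.extendScalarsComp.{u, u} φ ψ) (ComplexShape.up ℤ)).app L

/-- transitivity of flat base change on objects of the derived category -/
noncomputable def εCompObjIso (ω : Dual.D A) :
    (ε (ψ.comp φ)).obj ω ≅ (ε ψ).obj ((ε φ).obj ω) :=
  (ε (ψ.comp φ)).mapIso (Q.objObjPreimageIso ω).symm ≪≫ εQIso (ψ.comp φ) (Q.objPreimage ω) ≪≫
    Q.mapIso (εCompCx φ ψ (Q.objPreimage ω)) ≪≫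
    (εQIso ψ ((DTen.extCx φ).obj (Q.objPreimage ω))).symm ≪≫
    (ε ψ).mapIso (εQIso φ (Q.objPreimage ω)).symm ≪≫
    (ε ψ).mapIso ((ε φ).mapIso (Q.objObjPreimageIso ω))

/-- `ε` only depends on the ring map -/
noncomputable def εCongrObjIso {φ φ' : A →+* B} [FlatHom φ] [FlatHom φ'] (h : φ = φ')
    (ω : Dual.D A) : (ε φ).obj ω ≅ (ε φ').obj ω := by
  subst h
  exact Iso.refl _

end Comp

section Bij

variable {A B : Type u} [CommRing A] [CommRing B] [Algebra A B] [IsNoetherianRing A]

/-- base change along a ring isomorphism preserves dualizing complexes -/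
theorem isDualizing_ε_of_bijective (hb : Function.Bijective (algebraMap A B))
    [Module.Flat A B] (ω : Dual.D A) (hω : Dual.IsDualizing A ω) :
    Dual.IsDualizing B ((ε (algebraMap A B)).obj ω) := by
  haveI : IsNoetherianRing B :=
    isNoetherianRing_of_ringEquiv A (RingEquiv.ofBijective (algebraMap A B) hb)
  refine EFB.isDualizing_ε_of_maximal_extended (fun n _ => ⟨n.comap (algebraMap A B), ?_⟩) ω hω
  exact Ideal.map_comap_of_surjective _ hb.2 n

lemma flat_of_bijective (hb : Function.Bijective (algebraMap A B)) : Module.Flat A B :=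
  Module.Flat.of_linearEquiv (LinearEquiv.ofBijective (Algebra.linearMap A B) hb).symm

end Bij

section MvPoly

open Polynomial

variable {R : Type u} [CommRing R] [IsNoetherianRing R]

/-- the base change of a dualizing complex to a polynomial ring in finitely many variables is
dualizing -/
theorem isDualizing_ε_mvPolynomial (ω : Dual.D R) (hω : Dual.IsDualizing R ω) (n : ℕ) :
    Dual.IsDualizing (MvPolynomial (Fin n) R)
      ((ε (algebraMap R (MvPolynomial (Fin n) R))).obj ω) := by
  induction n with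
  | zero =>
    haveI := flat_of_bijective (A := R) (B := MvPolynomial (Fin 0) R)
      (MvPolynomial.C_surjective (Fin 0) |> fun h => ⟨MvPolynomial.C_injective _ _, h⟩)
    exact isDualizing_ε_of_bijective
      ⟨MvPolynomial.C_injective _ _, MvPolynomial.C_surjective (Fin 0)⟩ ω hω
  | succ n ih =>
    let B := MvPolynomial (Fin n) R
    let C := MvPolynomial (Fin (n + 1)) R
    let e : B[X] ≃ₐ[R] C := (MvPolynomial.finSuccEquiv R n).symm
    have h2 := EFB.isDualizing_ε_polynomial _ ih
    letI : Algebra B[X] C := e.toRingEquiv.toRingHom.toAlgebra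
    have hb : Function.Bijective (algebraMap B[X] C) := e.bijective
    haveI := flat_of_bijective hb
    have h3 := isDualizing_ε_of_bijective hb _ h2
    have hcomp : algebraMap R C =
        (algebraMap B[X] C).comp ((algebraMap B B[X]).comp (algebraMap R B)) := by
      refine RingHom.ext fun r => ?_
      exact (e.commutes r).symm
    haveI : FlatHom ((algebraMap B B[X]).comp (algebraMap R B)) :=
      ⟨RingHom.Flat.comp (FlatHom.flat) (FlatHom.flat)⟩
    haveI : FlatHom ((algebraMap B[X] C).comp ((algebraMap B B[X]).comp (algebraMap R B))) :=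
      ⟨RingHom.Flat.comp (FlatHom.flat) (FlatHom.flat)⟩
    refine EFB.isDualizing_of_iso ?_ h3
    exact ((ε (algebraMap B[X] C)).mapIso (εCompObjIso (algebraMap R B) (algebraMap B B[X]) ω)).symm ≪≫
      (εCompObjIso ((algebraMap B B[X]).comp (algebraMap R B)) (algebraMap B[X] C) ω).symm ≪≫
      (εCongrObjIso hcomp ω).symm

end MvPoly

end Groth.Agent.Lib.Helper8.Bidual
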