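import Mathlib
import Groth.Agent.Lib.Helper8.Bid8

/-! # Helper8 — Gor1: `A[0]` satisfies the finiteness and endomorphism conditions of a dualizing complex; a noetherian local ring is Gorenstein (finite injective dimension of `A`) iff `A[0]` is dualizing (S11179) -/

set_option autoImplicit false

universe u

open CategoryTheory CategoryTheory.Limits CategoryTheory.Pretriangulated Opposite DerivedCategory

attribute [local instance] HasDerivedCategory.standard

namespace Groth.Agent.Lib.Helper8.Bidual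

open Groth.Agent.Lib.Helper8

variable {A : Type u} [CommRing A]

/-- `Hom(A[0], Y) ≃ H^0(Y)` for `inD A A` -/
noncomputable def inDEvEquiv (Y : Dual.D A) :
    (Dual.inD A A ⟶ Y) ≃ (homologyFunctor (ModuleCat.{u} A) 0).obj Y :=
  (Iso.homFromEquiv (Z := Y)
    ((singleFunctorIsoCompQ (ModuleCat.{u} A) 0).app (ModuleCat.of A A))).symm.trans
    (EFB.evEquiv Y).toEquiv

lemma isZero_HD_inD (M : Type u) [AddCommGroup M] [Module A M] (i : ℤ) (hi : i ≠ 0) :
    IsZero ((homologyFunctor (ModuleCat.{u} A) i).obj (Dual.inD A M)) := by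
  rcases lt_or_gt_of_ne hi with h | h
  · exact (Dual.inD A M).isZero_of_isGE 0 i h
  · exact (Dual.inD A M).isZero_of_isLE 0 i h

/-- the endomorphism and finiteness conditions for `A[0]` -/
lemma inD_self_conditions [IsNoetherianRing A] :
    (∀ i : ℤ, Module.Finite A (Dual.HD A (Dual.inD A A) i)) ∧
    Function.Bijective (fun a : A => a • 𝟙 (Dual.inD A A)) ∧
    (∀ i : ℤ, i ≠ 0 → Subsingleton (Dual.inD A A ⟶ (Dual.inD A A)⟦i⟧)) := by
  refine ⟨fun i => ?_, ⟨fun a a' h => ?_, fun f => ?_⟩, fun i hi => ?_⟩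
  · by_cases hi : i = 0
    · subst hi
      haveI : Module.Finite A ↑((𝟭 (ModuleCat.{u} A)).obj (ModuleCat.of A A)) :=
        (inferInstance : Module.Finite A A)
      exact Module.Finite.equiv
        ((singleFunctorCompHomologyFunctorIso (ModuleCat.{u} A) 0).app
          (ModuleCat.of A A)).symm.toLinearEquiv
    · haveI := ModuleCat.subsingleton_of_isZero (isZero_HD_inD (A := A) A i hi)
      infer_instance
  · have h1 : (singleFunctor (ModuleCat.{u} A) 0).map (a • 𝟙 (ModuleCat.of A A)) =
        (singleFunctor (ModuleCat.{u} A) 0).map (a' • 𝟙 (ModuleCat.of A A)) := by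
      rw [Functor.map_smul, Functor.map_smul, CategoryTheory.Functor.map_id]
      exact h
    have h2 := (singleFunctor (ModuleCat.{u} A) 0).map_injective h1
    have h3 := congrArg (fun g : ModuleCat.of A A ⟶ ModuleCat.of A A => g.hom (1 : A)) h2
    simpa using h3
  · obtain ⟨g, rfl⟩ := (singleFunctor (ModuleCat.{u} A) 0).map_surjective f
    refine ⟨g.hom (1 : A), ?_⟩
    have h1 : g = g.hom (1 : A) • 𝟙 (ModuleCat.of A A) := by
      refine ModuleCat.hom_ext (LinearMap.ext_ring ?_)
      simp
    change g.hom (1 : A) • 𝟙 ((singleFunctor (ModuleCat.{u} A) 0).obj (ModuleCat.of A A)) = _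
    rw [← CategoryTheory.Functor.map_id, ← Functor.map_smul, ← h1]
  · haveI : Subsingleton ((homologyFunctor (ModuleCat.{u} A) 0).obj ((Dual.inD A A)⟦i⟧)) := by
      have hz := isZero_HD_inD (A := A) A (i + 0) (by omega)
      exact ModuleCat.subsingleton_of_isZero (hz.of_iso (RAdj.HDShiftIso (Dual.inD A A) i 0))
    exact (inDEvEquiv ((Dual.inD A A)⟦i⟧)).subsingleton

/-- S11179 -/
theorem isGorensteinLocalRing_iff_isDualizing_self [IsLocalRing A] [IsNoetherianRing A] :
    LocCoh.IsGorensteinLocalRing A ↔ Dual.IsDualizing A (Dual.inD A A) := by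
  obtain ⟨h1, h2, h3⟩ := inD_self_conditions (A := A)
  constructor
  · intro hG
    obtain ⟨n, hn⟩ := hG.exists_hasInjectiveDimensionLT
    refine ⟨inferInstance, ⟨0, n, fun M _ _ i hi => ?_⟩, h1, h2, h3⟩
    rcases hi with hi | hi
    · haveI : ((Dual.inD A A)⟦i⟧).IsGE (0 - i) :=
        (TStructure.t).isGE_shift (Dual.inD A A) 0 i (0 - i) (by omega)
      exact EFB.subsingleton_hom_of_isLE_of_isGE (Dual.inD A M) ((Dual.inD A A)⟦i⟧) 0 (0 - i)
        (by omega) inferInstance inferInstance
    · obtain ⟨k, rfl⟩ : ∃ k : ℕ, i = (k : ℤ) := ⟨i.toNat, by omega⟩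
      letI := HasExt.standard (ModuleCat.{u} A)
      haveI := hn.subsingleton' k (by exact_mod_cast hi.le) (Y := ModuleCat.of A M)
      exact (Abelian.Ext.homEquiv.{u + 1} (X := ModuleCat.of A M) (Y := ModuleCat.of A A)
        (n := k)).symm.subsingleton
  · intro hD
    obtain ⟨a, b, hab⟩ := hD.finite_injective_dimension
    refine { exists_hasInjectiveDimensionLT := ⟨(b + 1).toNat, ⟨fun i hi Y => ?_⟩⟩ }
    letI := HasExt.standard (ModuleCat.{u} A)
    haveI := hab Y (i : ℤ) (Or.inr (by omega))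
    exact (Abelian.Ext.homEquiv.{u + 1} (X := Y) (Y := ModuleCat.of A A) (n := i)).subsingleton

end Groth.Agent.Lib.Helper8.Bidual
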