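import Mathlib
import Groth.Agent.S0973
import Groth.Agent.Lib.Helper8.Gor1

/-! # Helper8 — Res1: over a field `κ`, a bounded object `T` of `D(κ)` with `κ ≃ End(T)` and `Hom(T, T[i]) = 0` for `i ≠ 0` has cohomology in exactly one degree, of dimension one (uses the splitting of S0973) -/

set_option autoImplicit false

universe u

open CategoryTheory CategoryTheory.Limits CategoryTheory.Pretriangulated Opposite DerivedCategory

attribute [local instance] HasDerivedCategory.standard

namespace Groth.Agent.Lib.Helper8.Bidual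

section Field

variable {κ : Type u} [Field κ]

/-- over a field all higher Ext's vanish -/
lemma hom_single_shift_eq_zero_field (M N : ModuleCat.{u} κ) (p : ℕ) (hp : 1 ≤ p)
    (f : (singleFunctor (ModuleCat.{u} κ) 0).obj M ⟶
      ((singleFunctor (ModuleCat.{u} κ) 0).obj N)⟦(p : ℤ)⟧) : f = 0 := by
  letI := HasExt.standard (ModuleCat.{u} κ)
  obtain ⟨k, rfl⟩ : ∃ k, p = k + 1 := ⟨p - 1, by omega⟩
  haveI : Module.Free κ M := Module.Free.of_divisionRing κ M
  haveI : Module.Projective κ M := Module.Projective.of_free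
  haveI : Projective M := M.projective_of_categoryTheory_projective
  haveI := Abelian.Ext.subsingleton_of_projective M N k
  haveI := (Abelian.Ext.homEquiv.{u + 1} (X := M) (Y := N) (n := k + 1)).symm.subsingleton
  exact Subsingleton.elim _ _

example : HasFiniteBiproducts (DerivedCategory (ModuleCat.{u} κ)) := inferInstance

/-- a nonzero linear map between nonzero vector spaces -/
lemma exists_linearMap_apply_eq {V W : Type u} [AddCommGroup V] [Module κ V] [AddCommGroup W]
    [Module κ W] (v : V) (hv : v ≠ 0) (w : W) : ∃ g : V →ₗ[κ] W, g v = w := by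
  have hinj : Function.Injective (LinearMap.toSpanSingleton κ V v) := by
    intro x y h
    have h' : x • v = y • v := by simpa using h
    exact smul_left_injective κ hv h'
  obtain ⟨f, hf⟩ := LinearMap.exists_leftInverse_of_injective (LinearMap.toSpanSingleton κ V v)
    (LinearMap.ker_eq_bot.2 hinj)
  refine ⟨(LinearMap.toSpanSingleton κ W w).comp f, ?_⟩
  have h1 : f v = 1 := by
    have := LinearMap.congr_fun hf (1 : κ)
    simpa using this
  simp [h1]

/-- an object of `D(κ)`, `κ` a field, bounded, with `κ ≃ End(T)` and no self-maps of nonzero degree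
has cohomology in exactly one degree, where it is one-dimensional -/
theorem exists_unique_degree_field (T : Dual.D κ) (a b : ℤ) [T.IsGE a] [T.IsLE b]
    (hbij : Function.Bijective (fun x : κ => x • 𝟙 T))
    (hext : ∀ i : ℤ, i ≠ 0 → Subsingleton (T ⟶ T⟦i⟧)) :
    ∃ n : ℤ, (∀ i : ℤ, i ≠ n → IsZero ((homologyFunctor (ModuleCat.{u} κ) i).obj T)) ∧
      Nonempty ((homologyFunctor (ModuleCat.{u} κ) n).obj T ≃ₗ[κ] κ) := by
  classical
  let F : Finset.Icc a b → DerivedCategory (ModuleCat.{u} κ) := fun i =>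
    (singleFunctor (ModuleCat.{u} κ) (i : ℤ)).obj ((homologyFunctor (ModuleCat.{u} κ) (i : ℤ)).obj T)
  obtain ⟨e⟩ : Nonempty (T ≅ ⨁ F) := Groth.Agent.S0973.result T a b
    (fun i j p _ hp f => hom_single_shift_eq_zero_field _ _ p (by omega) f)
  -- no maps between cohomology in different degrees
  have key : ∀ (i i' : Finset.Icc a b) (g : (homologyFunctor (ModuleCat.{u} κ) (i : ℤ)).obj T ⟶
      (homologyFunctor (ModuleCat.{u} κ) (i' : ℤ)).obj T), (i : ℤ) ≠ (i' : ℤ) → g = 0 := by
    intro i i' g hii'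
    let si := ((singleFunctors (ModuleCat.{u} κ)).shiftIso ((i' : ℤ) - i) i i' (by omega)).app
      ((homologyFunctor (ModuleCat.{u} κ) (i' : ℤ)).obj T)
    let mid : F i ⟶ (F i')⟦(i' : ℤ) - i⟧ :=
      (singleFunctor (ModuleCat.{u} κ) (i : ℤ)).map g ≫ si.inv
    let ψ : T ⟶ T⟦(i' : ℤ) - i⟧ := e.hom ≫ biproduct.π F i ≫ mid ≫
      (biproduct.ι F i')⟦(i' : ℤ) - i⟧' ≫ e.inv⟦(i' : ℤ) - i⟧'
    haveI := hext ((i' : ℤ) - i) (by omega)
    have hψ : ψ = 0 := Subsingleton.elim _ _
    have h1 : mid = biproduct.ι F i ≫ e.inv ≫ ψ ≫ e.hom⟦(i' : ℤ) - i⟧' ≫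
        (biproduct.π F i')⟦(i' : ℤ) - i⟧' := by
      simp only [ψ, Category.assoc, Iso.inv_hom_id_assoc, biproduct.ι_π_self_assoc,
        ← Functor.map_comp, biproduct.ι_π_self, CategoryTheory.Functor.map_id,
        Category.comp_id]
    rw [hψ] at h1
    simp only [zero_comp, comp_zero] at h1
    have h2 : (singleFunctor (ModuleCat.{u} κ) (i : ℤ)).map g = 0 := by
      have : (singleFunctor (ModuleCat.{u} κ) (i : ℤ)).map g = mid ≫ si.hom := by
        simp [mid]
      rw [this, h1, zero_comp]
    apply (singleFunctor (ModuleCat.{u} κ) (i : ℤ)).map_injective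
    rw [h2, Functor.map_zero]
  -- nonvanishing somewhere
  have hne : ∃ n : Finset.Icc a b,
      ¬ IsZero ((homologyFunctor (ModuleCat.{u} κ) (n : ℤ)).obj T) := by
    by_contra hcon
    push Not at hcon
    have hF : ∀ j, IsZero (F j) := fun j =>
      (singleFunctor (ModuleCat.{u} κ) (j : ℤ)).map_isZero (hcon j)
    have hz : IsZero (⨁ F) :=
      (IsZero.iff_id_eq_zero _).2 (biproduct.hom_ext _ _ (fun j => (hF j).eq_of_tgt _ _))
    have hT : IsZero T := hz.of_iso e
    have h01 : (fun x : κ => x • 𝟙 T) 1 = (fun x : κ => x • 𝟙 T) 0 := hT.eq_of_src _ _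
    exact one_ne_zero (hbij.1 h01)
  obtain ⟨n, hn⟩ := hne
  have hsub : ∀ (M : ModuleCat.{u} κ), ¬ IsZero M → ∃ v : M, v ≠ 0 := by
    intro M hM
    by_contra hcon
    push Not at hcon
    haveI : Subsingleton M := ⟨fun x y => (hcon x).trans (hcon y).symm⟩
    exact hM (ModuleCat.isZero_of_subsingleton M)
  obtain ⟨v, hv⟩ := hsub _ hn
  refine ⟨(n : ℤ), fun i hi => ?_, ?_⟩
  · by_cases hmem : i ∈ Finset.Icc a b
    · by_contra hi0
      obtain ⟨w, hw⟩ := hsub _ hi0
      obtain ⟨g, hg⟩ := exists_linearMap_apply_eq (κ := κ) v hv w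
      have h0 := key n ⟨i, hmem⟩ (ModuleCat.ofHom g) (fun h => hi h.symm)
      have h1 := congrArg (fun t => t.hom v) h0
      simp only [ModuleCat.hom_ofHom, ModuleCat.hom_zero, LinearMap.zero_apply] at h1
      exact hw (hg.symm.trans h1)
    · rw [Finset.mem_Icc, not_and_or, not_le, not_le] at hmem
      rcases hmem with h | h
      · exact T.isZero_of_isGE a i h
      · exact T.isZero_of_isLE b i h
  · -- every endomorphism of `H^n` is a scalar
    have hsc : ∀ h : (homologyFunctor (ModuleCat.{u} κ) (n : ℤ)).obj T ⟶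
        (homologyFunctor (ModuleCat.{u} κ) (n : ℤ)).obj T, ∃ x : κ, h = x • 𝟙 _ := by
      intro h
      let ψ : T ⟶ T := e.hom ≫ biproduct.π F n ≫
        (singleFunctor (ModuleCat.{u} κ) (n : ℤ)).map h ≫ biproduct.ι F n ≫ e.inv
      obtain ⟨x, hx⟩ := hbij.2 ψ
      refine ⟨x, ?_⟩
      apply (singleFunctor (ModuleCat.{u} κ) (n : ℤ)).map_injective
      have h1 : (singleFunctor (ModuleCat.{u} κ) (n : ℤ)).map h =
          biproduct.ι F n ≫ e.inv ≫ ψ ≫ e.hom ≫ biproduct.π F n := by
        simp only [ψ, Category.assoc, Iso.inv_hom_id_assoc, biproduct.ι_π_self_assoc,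
          biproduct.ι_π_self]
        exact (Category.comp_id _).symm
      rw [h1, ← hx]
      simp only [Linear.smul_comp, Linear.comp_smul, Category.id_comp, Iso.inv_hom_id_assoc,
        biproduct.ι_π_self]
      rw [Functor.map_smul, CategoryTheory.Functor.map_id]
    let L : κ →ₗ[κ] (homologyFunctor (ModuleCat.{u} κ) (n : ℤ)).obj T :=
      LinearMap.toSpanSingleton κ _ v
    have hL : Function.Bijective L := by
      constructor
      · intro x y h
        have h' : x • v = y • v := by simpa [L] using h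
        exact smul_left_injective κ hv h'
      · intro w
        obtain ⟨g, hg⟩ := exists_linearMap_apply_eq (κ := κ) v hv w
        obtain ⟨x, hx⟩ := hsc (ModuleCat.ofHom g)
        refine ⟨x, ?_⟩
        have h1 := congrArg (fun t => t.hom v) hx
        simp only [ModuleCat.hom_ofHom] at h1
        rw [← hg, h1]
        simp [L]
    exact ⟨(LinearEquiv.ofBijective L hL).symm⟩

end Field

end Groth.Agent.Lib.Helper8.Bidual
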