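import Mathlib
import Groth.Agent.Lib.Helper8.Res1

/-! # Helper8 — Res2: for a dualizing complex `ω` over a noetherian ring `A` and a field `B` finite over `A`, `Hom_{D(A)}(B[0], ω[i])` vanishes except in one degree where it is `B` (via the model `Q(Hom_A(B, I))` in `D(B)` and Res1) (S0364) -/

set_option autoImplicit false

universe u

open CategoryTheory CategoryTheory.Limits CategoryTheory.Pretriangulated Opposite DerivedCategory

attribute [local instance] HasDerivedCategory.standard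

namespace Groth.Agent.Lib.Helper8.Bidual

open Groth.Agent.Lib.Helper8 Groth.Agent.Lib.Helper6

section Chain

variable {A B : Type u} [CommRing A] [CommRing B] (φ : A →+* B)

/-- `B_A[0] ≅ res (B[0])` -/
noncomputable def jIso : Dual.inD A (BA φ) ≅ (DRing.restrictD φ).obj (EFB.S₀ B) :=
  (((ModuleCat.restrictScalars.{u} φ).mapDerivedCategorySingleFunctor 0).app
      (ModuleCat.of B B)).symm ≪≫
    (DRing.restrictD φ).mapIso
      ((singleFunctorIsoCompQ (ModuleCat.{u} B) 0).app (ModuleCat.of B B))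

/-- `Q(Hom_A(B, I))[i] ≅ Q(Hom_A(B, I[i]))` -/
noncomputable def κIso (I : DRing.Cx A) (i : ℤ) :
    (Q.obj ((coextCx φ).obj I) : Dual.D B)⟦i⟧ ≅ Q.obj ((coextCx φ).obj (I⟦i⟧)) :=
  ((Q.commShiftIso i).app ((coextCx φ).obj I)).symm ≪≫
    Q.mapIso ((((coextCx φ).commShiftIso i).app I).symm)

/-- the comparison `Hom_{D(B)}(B[0], Q(Hom_A(B, I))[i]) → Hom_{D(A)}(B_A[0], (Q I)[i])` -/
noncomputable def Gmap (I : DRing.Cx A) (i : ℤ)
    (f : EFB.S₀ B ⟶ (Q.obj ((coextCx φ).obj I) : Dual.D B)⟦i⟧) :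
    Dual.inD A (BA φ) ⟶ (Q.obj I : Dual.D A)⟦i⟧ :=
  (jIso φ).hom ≫ ((DRing.restrictD φ).map (f ≫ (κIso φ I i).hom) ≫ ρQ φ (I⟦i⟧)) ≫
    (Q.commShiftIso i).hom.app I

lemma Gmap_add (I : DRing.Cx A) (i : ℤ)
    (f g : EFB.S₀ B ⟶ (Q.obj ((coextCx φ).obj I) : Dual.D B)⟦i⟧) :
    Gmap φ I i (f + g) = Gmap φ I i f + Gmap φ I i g := by
  unfold Gmap
  rw [Preadditive.add_comp, Functor.map_add, Preadditive.add_comp, Preadditive.add_comp,
    Preadditive.comp_add]

lemma Gmap_smul (I : DRing.Cx A) (i : ℤ) (a : A)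
    (f : EFB.S₀ B ⟶ (Q.obj ((coextCx φ).obj I) : Dual.D B)⟦i⟧) :
    Gmap φ I i (φ a • f) = a • Gmap φ I i f := by
  unfold Gmap
  rw [Linear.smul_comp, RAdj.restrictD_map_smul, Linear.smul_comp, Linear.smul_comp,
    Linear.comp_smul]

lemma Gmap_bijective (I : DRing.Cx A) (hI : ∀ n : ℤ, Injective (I.X n)) (a b : ℤ)
    (hab : ∀ n : ℤ, n < a ∨ b < n → IsZero (I.X n)) (i : ℤ) :
    Function.Bijective (Gmap φ I i) := by
  haveI : (I⟦i⟧).IsKInjective :=
    IAmp.isKInjective_of_data (I⟦i⟧) (a - i) (fun n hn => hab (n + i) (Or.inl (by omega)))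
      (fun n => hI (n + i))
  haveI : CochainComplex.IsKInjective ((coextCx φ).obj (I⟦i⟧)) :=
    isKInjective_coextCx φ (I⟦i⟧) (a - i) (fun n hn => hab (n + i) (Or.inl (by omega)))
      (fun n => hI (n + i))
  have hΨ : Function.Bijective (fun f : (EFB.S₀ B : Dual.D B) ⟶
      Q.obj ((coextCx φ).obj (I⟦i⟧)) => (DRing.restrictD φ).map f ≫ ρQ φ (I⟦i⟧)) :=
    bijective_ρ (adj0 φ) (I⟦i⟧) ((quot B).obj (DSingleHom.sg (ModuleCat.of B B)))
  have h1 : Function.Bijective (fun f : EFB.S₀ B ⟶ (Q.obj ((coextCx φ).obj I) : Dual.D B)⟦i⟧ =>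
      f ≫ (κIso φ I i).hom) :=
    ⟨fun f g h => (cancel_mono _).1 h, fun g => ⟨g ≫ (κIso φ I i).inv, by simp⟩⟩
  have h2 : Function.Bijective (fun g : (DRing.restrictD φ).obj (EFB.S₀ B) ⟶ Q.obj (I⟦i⟧) =>
      (jIso φ).hom ≫ g ≫ (Q.commShiftIso i).hom.app I) := by
    refine ⟨fun f g h => ?_, fun g => ⟨(jIso φ).inv ≫ g ≫ (Q.commShiftIso i).inv.app I, ?_⟩⟩
    · have h' := (cancel_epi _).1 h
      exact (cancel_mono _).1 h'
    · simp
  exact h2.comp (hΨ.comp h1)

end Chain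

section Main

variable {A B : Type u} [CommRing A] [IsNoetherianRing A] [Field B] [Algebra A B]
  [Module.Finite A B]

/-- for a dualizing complex `ω` over `A` and a field `B` finite over `A`: `Hom(B[0], ω[i])` vanishes
except in one degree, where it is `B` -/
theorem ext_field_single_degree (ω : Dual.D A) (hω : Dual.IsDualizing A ω) :
    ∃ n : ℤ, (∀ i : ℤ, i ≠ n → Subsingleton (Dual.inD A (BA (algebraMap A B)) ⟶ ω⟦i⟧)) ∧
      Nonempty ((Dual.inD A (BA (algebraMap A B)) ⟶ ω⟦n⟧) ≃ₗ[A] BA (algebraMap A B)) := by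
  let φ := algebraMap A B
  obtain ⟨I, a, b, hI, hab, ⟨e⟩⟩ := exists_injective_model ω hω
  have hωI : Dual.IsDualizing A (Q.obj I) := EFB.isDualizing_of_iso e.symm hω
  haveI : Module.Finite A (BA φ) :=
    Module.Finite.equiv (Groth.Agent.Lib.Helper16.FlatBC.bEquiv (A := A) (B := B))
  let J := (coextCx φ).obj I
  let T : Dual.D B := Q.obj J
  have hbijT : Function.Bijective (fun x : B => x • 𝟙 T) :=
    toEnd_bijective_coext φ I hI a b hab hωI.toEnd_bijective hωI.ext_self_subsingleton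
  have hextT : ∀ i : ℤ, i ≠ 0 → Subsingleton (T ⟶ T⟦i⟧) :=
    ext_subsingleton_coext φ I hI a b hab hωI.toEnd_bijective hωI.ext_self_subsingleton
  haveI : J.IsStrictlyGE a := by
    rw [CochainComplex.isStrictlyGE_iff]
    intro n hn
    exact (coext φ).map_isZero (hab n (Or.inl hn))
  haveI : J.IsStrictlyLE b := by
    rw [CochainComplex.isStrictlyLE_iff]
    intro n hn
    exact (coext φ).map_isZero (hab n (Or.inr hn))
  haveI : T.IsGE a := by change (Q.obj J).IsGE a; infer_instance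
  haveI : T.IsLE b := by change (Q.obj J).IsLE b; infer_instance
  obtain ⟨n, hn0, ⟨Ln⟩⟩ := exists_unique_degree_field T a b hbijT hextT
  let E : ∀ i : ℤ, (EFB.S₀ B ⟶ T⟦i⟧) ≃ₗ[B] (homologyFunctor (ModuleCat.{u} B) i).obj T := fun i =>
    (EFB.evEquiv (T⟦i⟧)).trans
      (((homologyFunctor (ModuleCat.{u} B) 0).shiftIso i 0 i (add_zero _)).app T).toLinearEquiv
  let out : ∀ i : ℤ, (Dual.inD A (BA φ) ⟶ (Q.obj I : Dual.D A)⟦i⟧) ≃ₗ[A]
      (Dual.inD A (BA φ) ⟶ ω⟦i⟧) := fun i =>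
    { toFun := fun g => g ≫ e.hom⟦i⟧'
      invFun := fun g => g ≫ e.inv⟦i⟧'
      map_add' := fun g g' => Preadditive.add_comp _ _ _ _ _ _
      map_smul' := fun a g => Linear.smul_comp _ _ _ _ _ _
      left_inv := fun g => by simp [← Functor.map_comp]
      right_inv := fun g => by simp [← Functor.map_comp] }
  refine ⟨n, fun i hi => ?_, ?_⟩
  · haveI : Subsingleton ((homologyFunctor (ModuleCat.{u} B) i).obj T) :=
      ModuleCat.subsingleton_of_isZero (hn0 i hi)
    haveI : Subsingleton (EFB.S₀ B ⟶ T⟦i⟧) := (E i).toEquiv.subsingleton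
    haveI : Subsingleton (Dual.inD A (BA φ) ⟶ (Q.obj I : Dual.D A)⟦i⟧) :=
      (Gmap_bijective φ I hI a b hab i).2.subsingleton
    exact (out i).symm.toEquiv.subsingleton
  · let L : B ≃ₗ[B] (EFB.S₀ B ⟶ T⟦n⟧) := (Ln.symm).trans (E n).symm
    let Θ : BA φ →ₗ[A] (Dual.inD A (BA φ) ⟶ (Q.obj I : Dual.D A)⟦n⟧) :=
      { toFun := fun y => Gmap φ I n (L (show B from y))
        map_add' := fun y y' => by
          change Gmap φ I n (L ((show B from y) + (show B from y'))) = _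
          rw [map_add, Gmap_add]
        map_smul' := fun x y => by
          change Gmap φ I n (L (φ x • (show B from y))) = x • Gmap φ I n (L (show B from y))
          rw [map_smul, Gmap_smul] }
    have hΘ : Function.Bijective Θ := (Gmap_bijective φ I hI a b hab n).comp L.bijective
    exact ⟨((LinearEquiv.ofBijective Θ hΘ).trans (out n)).symm⟩

end Main

end Groth.Agent.Lib.Helper8.Bidual
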