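import Mathlib
import Groth.Agent.S5155
import Groth.Agent.S0302
import Groth.Agent.Lib.Helper8.Res2
import Groth.Agent.Lib.Helper8.Bid6

/-! # Helper8 — Res3: for a normalized dualizing complex `ω` over a noetherian local ring, `Hom(κ[0], ω) ≅ κ`; over an artinian local ring `ω ≅ E[0]` with `E` the injective hull of the residue field (S0375), via Baer's criterion and helper26's criterion S5155 -/

set_option autoImplicit false

universe u

open CategoryTheory CategoryTheory.Limits CategoryTheory.Pretriangulated Opposite DerivedCategory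

attribute [local instance] HasDerivedCategory.standard

namespace Groth.Agent.Lib.Helper8.Bidual

open Groth.Agent.Lib.Helper8

section Post

variable {A : Type u} [CommRing A]

/-- postcomposition with an isomorphism as a linear equivalence -/
noncomputable def postcompEquivLin {Y Y' : Dual.D A} (j : Y ≅ Y') (K : Dual.D A) :
    (K ⟶ Y) ≃ₗ[A] (K ⟶ Y') where
  toFun g := g ≫ j.hom
  invFun g := g ≫ j.inv
  map_add' g g' := Preadditive.add_comp _ _ _ _ _ _
  map_smul' a g := Linear.smul_comp _ _ _ _ _ _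
  left_inv g := by simp
  right_inv g := by simp

/-- the single functor as a linear equivalence on Hom modules -/
noncomputable def singleEquivLin (M N : ModuleCat.{u} A) :
    (M ⟶ N) ≃ₗ[A] ((singleFunctor (ModuleCat.{u} A) 0).obj M ⟶
      (singleFunctor (ModuleCat.{u} A) 0).obj N) :=
  LinearEquiv.ofBijective (Functor.mapLinearMap A (singleFunctor (ModuleCat.{u} A) 0))
    ⟨(singleFunctor (ModuleCat.{u} A) 0).map_injective,
      (singleFunctor (ModuleCat.{u} A) 0).map_surjective⟩

end Post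

variable {A : Type u} [CommRing A] [IsLocalRing A] [IsNoetherianRing A]

/-- for a normalized dualizing complex, `Hom(κ[0], ω) ≅ κ` -/
theorem hom_residue_normalized (ω : Dual.D A) (hω : Dual.IsDualizing A ω)
    (hn : Dual.IsNormalized A ω) :
    Nonempty ((Dual.inD A (IsLocalRing.ResidueField A) ⟶ ω) ≃ₗ[A]
      IsLocalRing.ResidueField A) := by
  obtain ⟨n, h1, ⟨h2⟩⟩ := ext_field_single_degree (A := A) (B := IsLocalRing.ResidueField A) ω hω
  let eM : IsLocalRing.ResidueField A ≃ₗ[A] BA (algebraMap A (IsLocalRing.ResidueField A)) :=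
    Groth.Agent.Lib.Helper16.FlatBC.bEquiv (A := A) (B := IsLocalRing.ResidueField A)
  let j : Dual.inD A (IsLocalRing.ResidueField A) ≅
      Dual.inD A (BA (algebraMap A (IsLocalRing.ResidueField A))) :=
    (singleFunctor (ModuleCat.{u} A) 0).mapIso eM.toModuleIso
  have hn0 : n = 0 := by
    by_contra hne
    haveI := hn n hne
    haveI : Subsingleton (Dual.inD A (BA (algebraMap A (IsLocalRing.ResidueField A))) ⟶ ω⟦n⟧) :=
      (EFB.precompEquivLin j (ω⟦n⟧)).toEquiv.subsingleton
    haveI : Subsingleton (BA (algebraMap A (IsLocalRing.ResidueField A))) :=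
      h2.symm.toEquiv.subsingleton
    haveI : Subsingleton (IsLocalRing.ResidueField A) := eM.toEquiv.subsingleton
    exact not_subsingleton (IsLocalRing.ResidueField A) ‹_›
  subst hn0
  exact ⟨(postcompEquivLin ((shiftFunctorZero (Dual.D A) ℤ).app ω).symm _).trans
    ((EFB.precompEquivLin j.symm (ω⟦(0 : ℤ)⟧)).trans (h2.trans eM.symm))⟩

variable [IsArtinianRing A]

/-- over an artinian local ring a normalized complex is a module in degree `0` -/
theorem exists_iso_single_of_artinian (ω : Dual.D A) (hn : Dual.IsNormalized A ω) :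
    ∃ M : ModuleCat.{u} A, Nonempty (ω ≅ (singleFunctor (ModuleCat.{u} A) 0).obj M) := by
  have hA : IsFiniteLength A A :=
    isFiniteLength_iff_isNoetherian_isArtinian.2 ⟨inferInstance, inferInstance⟩
  have hz : ∀ i : ℤ, i ≠ 0 → IsZero ((homologyFunctor (ModuleCat.{u} A) i).obj ω) := by
    intro i hi
    haveI := subsingleton_hom_of_isFiniteLength ω hn A hA i hi
    haveI : Subsingleton ((homologyFunctor (ModuleCat.{u} A) 0).obj (ω⟦i⟧)) :=
      (inDEvEquiv (ω⟦i⟧)).symm.subsingleton
    have h0 : IsZero ((homologyFunctor (ModuleCat.{u} A) 0).obj (ω⟦i⟧)) :=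
      ModuleCat.isZero_of_subsingleton _
    exact h0.of_iso
      (((homologyFunctor (ModuleCat.{u} A) 0).shiftIso i 0 i (add_zero _)).app ω).symm
  haveI : ω.IsGE 0 := (isGE_iff ω 0).2 (fun i hi => hz i (by omega))
  haveI : ω.IsLE 0 := (isLE_iff ω 0).2 (fun i hi => hz i (by omega))
  exact exists_iso_singleFunctor_obj_of_isGE_of_isLE ω 0

/-- the module is injective -/
theorem injective_of_iso_single (ω : Dual.D A) (hn : Dual.IsNormalized A ω) (M : ModuleCat.{u} A)
    (e : ω ≅ (singleFunctor (ModuleCat.{u} A) 0).obj M) : Module.Injective A M := by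
  refine Module.Baer.injective (fun J g => ?_)
  obtain ⟨δ, hT⟩ := EFB.exists_singleTriangle (Submodule.subtype J) (Submodule.mkQ J)
    J.injective_subtype J.mkQ_surjective (LinearMap.exact_subtype_mkQ J)
  have hfl : IsFiniteLength A (A ⧸ J) :=
    isFiniteLength_iff_isNoetherian_isArtinian.2 ⟨inferInstance, inferInstance⟩
  haveI s1 : Subsingleton (Dual.inD A (A ⧸ J) ⟶ ω⟦(1 : ℤ)⟧) :=
    subsingleton_hom_of_isFiniteLength ω hn (A ⧸ J) hfl 1 one_ne_zero
  let φ0 : Dual.inD A J ⟶ (singleFunctor (ModuleCat.{u} A) 0).obj M :=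
    (singleFunctor (ModuleCat.{u} A) 0).map (ModuleCat.ofHom g)
  have hzero : δ ≫ φ0⟦(1 : ℤ)⟧' = 0 := by
    have h0 : (δ ≫ φ0⟦(1 : ℤ)⟧') ≫ e.inv⟦(1 : ℤ)⟧' = 0 := Subsingleton.elim _ _
    have h1 : δ ≫ φ0⟦(1 : ℤ)⟧' = ((δ ≫ φ0⟦(1 : ℤ)⟧') ≫ e.inv⟦(1 : ℤ)⟧') ≫ e.hom⟦(1 : ℤ)⟧' := by
      simp only [Category.assoc, ← Functor.map_comp, Iso.inv_hom_id, Category.comp_id]
    rw [h1, h0, zero_comp]
  obtain ⟨χ, hχ⟩ := yoneda_exact₁' _ hT φ0 hzero
  obtain ⟨χ₀, rfl⟩ := (singleFunctor (ModuleCat.{u} A) 0).map_surjective χ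
  refine ⟨χ₀.hom, fun x hx => ?_⟩
  have h3 : ModuleCat.ofHom g = ModuleCat.ofHom (Submodule.subtype J) ≫ χ₀ :=
    (singleFunctor (ModuleCat.{u} A) 0).map_injective (by rw [Functor.map_comp]; exact hχ)
  have h4 := congrArg (fun t => t.hom ⟨x, hx⟩) h3
  simpa using h4.symm

/-- S0375: over an artinian local ring a normalized dualizing complex is the injective hull of
the residue field in degree `0` -/
theorem iso_injectiveHull_of_artinian (ω : Dual.D A) (hω : Dual.IsDualizing A ω)
    (hn : Dual.IsNormalized A ω) (E : Type u) [AddCommGroup E] [Module A E]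
    (f : IsLocalRing.ResidueField A →ₗ[A] E) (hf : InjHull.IsInjectiveHull f) :
    Nonempty (ω ≅ Dual.inD A E) := by
  obtain ⟨M, ⟨e⟩⟩ := exists_iso_single_of_artinian ω hn
  have hinj : Module.Injective A M := injective_of_iso_single ω hn M e
  have hpt : LocCoh.IsPowerTorsion (IsLocalRing.maximalIdeal A) M := by
    have hnil : IsNilpotent (IsLocalRing.maximalIdeal A) := by
      have h := IsArtinianRing.isNilpotent_jacobson_bot (R := A)
      rwa [IsLocalRing.jacobson_eq_maximalIdeal (⊥ : Ideal A) bot_ne_top] at h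
    obtain ⟨k, hk⟩ := hnil
    intro x
    refine ⟨k, fun a ha => ?_⟩
    rw [hk] at ha
    have h0 : a = 0 := by simpa using ha
    rw [h0, zero_smul]
  obtain ⟨h2⟩ := hom_residue_normalized ω hω hn
  have hsimple : IsSimpleModule A (IsLocalRing.ResidueField A →ₗ[A] M) := by
    refine isSimpleModule_iff_quot_maximal.2 ⟨IsLocalRing.maximalIdeal A, inferInstance, ⟨?_⟩⟩
    exact (ModuleCat.homLinearEquiv (S := A)
        (M := ModuleCat.of A (IsLocalRing.ResidueField A)) (N := M)).symm.trans
      ((singleEquivLin _ M).trans ((postcompEquivLin e.symm _).trans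
        (h2.trans (EFB.residueEquiv A).symm)))
  obtain ⟨f', hf'⟩ := (Groth.Agent.S5155.result A M).2 ⟨hinj, hpt, hsimple⟩
  obtain ⟨eE, _⟩ := Groth.Agent.S0302.result A (IsLocalRing.ResidueField A) E M f hf f' hf'
  exact ⟨e ≪≫ (singleFunctor (ModuleCat.{u} A) 0).mapIso eE.symm.toModuleIso⟩

end Groth.Agent.Lib.Helper8.Bidual
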