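import Mathlib
import Groth.Agent.Lib.Helper8.Res3

/-! # Helper8 — Res4: for a ring map `A → B` and a complex `I` over `A` with `I`, `Hom_A(B, I)` K-injective, the natural semilinear bijection `Hom_{D(B)}(X, Q(Hom_A(B, I))) ≃ Hom_{D(A)}(res X, Q I)` for every `X` in `D(B)`, and its shifted version -/

set_option autoImplicit false

universe u

open CategoryTheory CategoryTheory.Limits CategoryTheory.Pretriangulated Opposite DerivedCategory

attribute [local instance] HasDerivedCategory.standard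

namespace Groth.Agent.Lib.Helper8.Bidual

open Groth.Agent.Lib.Helper8 Groth.Agent.Lib.Helper6

section G

variable {A B : Type u} [CommRing A] [CommRing B] (φ : A →+* B)

/-- the comparison `Hom_{D(B)}(X, Q(Hom_A(B, I))) → Hom_{D(A)}(res X, Q I)` -/
noncomputable def G0 (I : DRing.Cx A) (X : Dual.D B)
    (f : X ⟶ (Q.obj ((coextCx φ).obj I) : Dual.D B)) :
    (DRing.restrictD φ).obj X ⟶ (Q.obj I : Dual.D A) :=
  (DRing.restrictD φ).map f ≫ ρQ φ I

lemma G0_add (I : DRing.Cx A) (X : Dual.D B)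
    (f g : X ⟶ (Q.obj ((coextCx φ).obj I) : Dual.D B)) :
    G0 φ I X (f + g) = G0 φ I X f + G0 φ I X g := by
  unfold G0
  rw [Functor.map_add, Preadditive.add_comp]

lemma G0_smul (I : DRing.Cx A) (X : Dual.D B) (a : A)
    (f : X ⟶ (Q.obj ((coextCx φ).obj I) : Dual.D B)) :
    G0 φ I X (φ a • f) = a • G0 φ I X f := by
  unfold G0
  rw [RAdj.restrictD_map_smul, Linear.smul_comp]

lemma G0_comp (I : DRing.Cx A) {X X' : Dual.D B} (u : X' ⟶ X)
    (f : X ⟶ (Q.obj ((coextCx φ).obj I) : Dual.D B)) :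
    G0 φ I X' (u ≫ f) = (DRing.restrictD φ).map u ≫ G0 φ I X f := by
  unfold G0
  rw [Functor.map_comp, Category.assoc]

lemma G0_bijective (I : DRing.Cx A) [I.IsKInjective]
    [CochainComplex.IsKInjective ((coextCx φ).obj I)] (X : Dual.D B) :
    Function.Bijective (G0 φ I X) := by
  let Y := Qh.objPreimage X
  let ε : Qh.obj Y ≅ X := Qh.objObjPreimageIso X
  have hΨ : Function.Bijective (G0 φ I (Qh.obj Y)) := bijective_ρ (adj0 φ) I Y
  have h1 : G0 φ I X = (fun g => (DRing.restrictD φ).map ε.inv ≫ g) ∘ G0 φ I (Qh.obj Y) ∘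
      (fun f => ε.hom ≫ f) := by
    ext f
    dsimp only [Function.comp]
    rw [← G0_comp, ε.inv_hom_id_assoc]
  rw [h1]
  refine Function.Bijective.comp ?_ (hΨ.comp ?_)
  · exact ⟨fun g g' h => (cancel_epi _).1 h, fun g => ⟨(DRing.restrictD φ).map ε.hom ≫ g, by
      dsimp only
      rw [← Category.assoc, ← Functor.map_comp, ε.inv_hom_id, CategoryTheory.Functor.map_id,
        Category.id_comp]⟩⟩
  · exact ⟨fun g g' h => (cancel_epi _).1 h, fun g => ⟨ε.inv ≫ g, by simp⟩⟩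

/-- shifted version -/
noncomputable def GX (I : DRing.Cx A) (X : Dual.D B) (i : ℤ)
    (f : X ⟶ (Q.obj ((coextCx φ).obj I) : Dual.D B)⟦i⟧) :
    (DRing.restrictD φ).obj X ⟶ (Q.obj I : Dual.D A)⟦i⟧ :=
  G0 φ (I⟦i⟧) X (f ≫ (κIso φ I i).hom) ≫ (Q.commShiftIso i).hom.app I

lemma GX_injective (I : DRing.Cx A) (hI : ∀ n : ℤ, Injective (I.X n)) (a b : ℤ)
    (hab : ∀ n : ℤ, n < a ∨ b < n → IsZero (I.X n)) (X : Dual.D B) (i : ℤ) :
    Function.Injective (GX φ I X i) := by
  haveI : (I⟦i⟧).IsKInjective :=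
    IAmp.isKInjective_of_data (I⟦i⟧) (a - i) (fun n hn => hab (n + i) (Or.inl (by omega)))
      (fun n => hI (n + i))
  haveI : CochainComplex.IsKInjective ((coextCx φ).obj (I⟦i⟧)) :=
    isKInjective_coextCx φ (I⟦i⟧) (a - i) (fun n hn => hab (n + i) (Or.inl (by omega)))
      (fun n => hI (n + i))
  intro f g h
  have h1 := (cancel_mono _).1 h
  have h2 := (G0_bijective φ (I⟦i⟧) X).1 h1
  exact (cancel_mono _).1 h2

end G

end Groth.Agent.Lib.Helper8.Bidual
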