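import Mathlib
import Groth.Agent.S5157
import Groth.Agent.Lib.Helper8.Res4

/-! # Helper8 — Res5: for a normalized dualizing complex `ω` over a noetherian local ring with injective hull `E` of the residue field and `N` of finite length, `Hom_{D(A)}(N[0], ω) ≅ Hom_A(N, E)` (S1749): reduce to the artinian quotient `B = A ⧸ m^k`, where the model `Q(Hom_A(B, I))` of `RHom_A(B, ω)` is `E[m^k]` in degree `0` (Res3 + helper26's S5157) -/

set_option autoImplicit false

universe u

open CategoryTheory CategoryTheory.Limits CategoryTheory.Pretriangulated Opposite DerivedCategory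

attribute [local instance] HasDerivedCategory.standard

namespace Groth.Agent.Lib.Helper8.Bidual

open Groth.Agent.Lib.Helper8 Groth.Agent.Lib.Helper6

section Art

variable {A : Type u} [CommRing A] [IsLocalRing A] [IsNoetherianRing A] [IsArtinianRing A]

/-- variant of `iso_injectiveHull_of_artinian` not assuming that `ω` is dualizing -/
theorem iso_injectiveHull_of_artinian' (ω : Dual.D A) (hn : Dual.IsNormalized A ω)
    (h2 : (Dual.inD A (IsLocalRing.ResidueField A) ⟶ ω) ≃ₗ[A] IsLocalRing.ResidueField A)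
    (E : Type u) [AddCommGroup E] [Module A E]
    (f : IsLocalRing.ResidueField A →ₗ[A] E) (hf : InjHull.IsInjectiveHull f) :
    Nonempty (ω ≅ Dual.inD A E) := by
  obtain ⟨M, ⟨e⟩⟩ := exists_iso_single_of_artinian ω hn
  have hinj : Module.Injective A M := injective_of_iso_single ω hn M e
  have hpt : LocCoh.IsPowerTorsion (IsLocalRing.maximalIdeal A) M := by
    have hnil : IsNilpotent (IsLocalRing.maximalIdeal A) := by
      have h := IsArtinianRing.isNilpotent_jacobson_bot (R := A)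
      rwa [IsLocalRing.jacobson_eq_maximalIdeal (⊥ : Ideal A) bot_ne_top] at h
    obtain ⟨k, hk⟩ := hnil
    intro x
    refine ⟨k, fun a ha => ?_⟩
    rw [hk] at ha
    have h0 : a = 0 := by simpa using ha
    rw [h0, zero_smul]
  have hsimple : IsSimpleModule A (IsLocalRing.ResidueField A →ₗ[A] M) := by
    refine isSimpleModule_iff_quot_maximal.2 ⟨IsLocalRing.maximalIdeal A, inferInstance, ⟨?_⟩⟩
    exact (ModuleCat.homLinearEquiv (S := A)
        (M := ModuleCat.of A (IsLocalRing.ResidueField A)) (N := M)).symm.trans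
      ((singleEquivLin _ M).trans ((postcompEquivLin e.symm _).trans
        (h2.trans (EFB.residueEquiv A).symm)))
  obtain ⟨f', hf'⟩ := (Groth.Agent.S5155.result A M).2 ⟨hinj, hpt, hsimple⟩
  obtain ⟨eE, _⟩ := Groth.Agent.S0302.result A (IsLocalRing.ResidueField A) E M f hf f' hf'
  exact ⟨e ≪≫ (singleFunctor (ModuleCat.{u} A) 0).mapIso eE.symm.toModuleIso⟩

end Art

section Killed

variable {A : Type u} [CommRing A] [IsLocalRing A]

/-- a module of finite length over a local ring is killed by a power of the maximal ideal -/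
lemma exists_pow_killed (N : Type u) [AddCommGroup N] [Module A N] (hN : IsFiniteLength A N) :
    ∃ k : ℕ, ∀ a ∈ IsLocalRing.maximalIdeal A ^ k, ∀ x : N, a • x = 0 := by
  induction hN with
  | of_subsingleton => exact ⟨0, fun a _ x => Subsingleton.elim _ _⟩
  | of_simple_quotient _ ih =>
    rename_i M _ _ S hS _
    obtain ⟨k, hk⟩ := ih
    obtain ⟨m, hm, ⟨e⟩⟩ := isSimpleModule_iff_quot_maximal.1 hS
    obtain rfl : m = IsLocalRing.maximalIdeal A := IsLocalRing.eq_maximalIdeal hm
    have hc : ∀ c ∈ IsLocalRing.maximalIdeal A, ∀ x : M, c • x ∈ S := by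
      intro c hc x
      have h1 : c • e (S.mkQ x) = 0 := by
        obtain ⟨z, hz⟩ := Ideal.Quotient.mk_surjective (e (S.mkQ x))
        rw [← hz, ← Ideal.Quotient.mk_eq_mk, ← Submodule.Quotient.mk_smul]
        rw [Submodule.Quotient.mk_eq_zero]
        exact Ideal.mul_mem_right _ _ hc
      rw [← map_smul, ← map_smul] at h1
      have h2 := (LinearEquiv.map_eq_zero_iff e).1 h1
      exact (Submodule.Quotient.mk_eq_zero S).1 h2
    refine ⟨k + 1, fun a ha x => ?_⟩
    rw [pow_succ] at ha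
    refine Submodule.mul_induction_on ha (fun b hb c hc' => ?_) (fun y z hy hz => ?_)
    · have h3 := hk b hb ⟨c • x, hc c hc' x⟩
      have h4 := congrArg (Subtype.val) h3
      rw [mul_smul]
      simpa using h4
    · rw [add_smul, hy, hz, add_zero]

end Killed

section Lam

variable {A B : Type u} [CommRing A] [CommRing B] (φ : A →+* B) (I : DRing.Cx A) {ω : Dual.D A}
  (e : Q.obj I ≅ ω)

/-- `res (V[0]) ≅ (res V)[0]` -/
noncomputable abbrev resSingleIso (V : ModuleCat.{u} B) :
    (DRing.restrictD φ).obj ((singleFunctor (ModuleCat.{u} B) 0).obj V) ≅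
      (singleFunctor (ModuleCat.{u} A) 0).obj ((ModuleCat.restrictScalars.{u} φ).obj V) :=
  ((ModuleCat.restrictScalars.{u} φ).mapDerivedCategorySingleFunctor 0).app V

/-- the semilinear bijection `Hom_{D(B)}(V[0], Q(Hom_A(B, I))) ≃ Hom_{D(A)}((res V)[0], ω)` -/
noncomputable def Lam (V : ModuleCat.{u} B)
    (f : (singleFunctor (ModuleCat.{u} B) 0).obj V ⟶ (Q.obj ((coextCx φ).obj I) : Dual.D B)) :
    (singleFunctor (ModuleCat.{u} A) 0).obj ((ModuleCat.restrictScalars.{u} φ).obj V) ⟶ ω :=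
  (resSingleIso φ V).inv ≫ G0 φ I _ f ≫ e.hom

lemma Lam_add (V : ModuleCat.{u} B)
    (f g : (singleFunctor (ModuleCat.{u} B) 0).obj V ⟶ (Q.obj ((coextCx φ).obj I) : Dual.D B)) :
    Lam φ I e V (f + g) = Lam φ I e V f + Lam φ I e V g := by
  unfold Lam
  rw [G0_add, Preadditive.add_comp, Preadditive.comp_add]

lemma Lam_smul (V : ModuleCat.{u} B) (a : A)
    (f : (singleFunctor (ModuleCat.{u} B) 0).obj V ⟶ (Q.obj ((coextCx φ).obj I) : Dual.D B)) :
    Lam φ I e V (φ a • f) = a • Lam φ I e V f := by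
  unfold Lam
  rw [G0_smul, Linear.smul_comp, Linear.comp_smul]

lemma Lam_bijective [I.IsKInjective] [CochainComplex.IsKInjective ((coextCx φ).obj I)]
    (V : ModuleCat.{u} B) : Function.Bijective (Lam φ I e V) := by
  have h1 := G0_bijective φ I ((singleFunctor (ModuleCat.{u} B) 0).obj V)
  have h2 : Function.Bijective (fun g : (DRing.restrictD φ).obj
      ((singleFunctor (ModuleCat.{u} B) 0).obj V) ⟶ (Q.obj I : Dual.D A) =>
      (resSingleIso φ V).inv ≫ g ≫ e.hom) := by
    refine ⟨fun f g h => ?_, fun g => ⟨(resSingleIso φ V).hom ≫ g ≫ e.inv, ?_⟩⟩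
    · have h' := (cancel_epi _).1 h
      exact (cancel_mono _).1 h'
    · simp
  exact h2.comp h1

end Lam

section Quot

variable {A : Type u} [CommRing A] [IsLocalRing A] [IsNoetherianRing A] (a : Ideal A)
  [IsLocalRing (A ⧸ a)]

/-- the residue field of `A ⧸ a`, as an `A`-module, is the residue field of `A` -/
noncomputable def κEquiv : IsLocalRing.ResidueField A ≃ₗ[A] κBA A (A ⧸ a) := by
  let p : A →ₗ[A] κBA A (A ⧸ a) :=
    { toFun := fun x => IsLocalRing.residue (A ⧸ a) (algebraMap A (A ⧸ a) x)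
      map_add' := fun x y => by
        rw [map_add, map_add]
        rfl
      map_smul' := fun c x => by
        rw [κBA_smul, smul_eq_mul, map_mul, map_mul]
        rfl }
  have hp : Function.Surjective p := fun y => by
    obtain ⟨b, hb⟩ := IsLocalRing.residue_surjective
      (show IsLocalRing.ResidueField (A ⧸ a) from y)
    obtain ⟨x, rfl⟩ := Ideal.Quotient.mk_surjective b
    exact ⟨x, hb⟩
  have hker : LinearMap.ker p = IsLocalRing.maximalIdeal A := by
    haveI := IsLocalHom.of_surjective (Ideal.Quotient.mk a) Ideal.Quotient.mk_surjective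
    ext x
    rw [LinearMap.mem_ker]
    change IsLocalRing.residue (A ⧸ a) (Ideal.Quotient.mk a x) = 0 ↔ _
    rw [IsLocalRing.residue_eq_zero_iff, IsLocalRing.mem_maximalIdeal,
      IsLocalRing.mem_maximalIdeal, mem_nonunits_iff, mem_nonunits_iff]
    exact ⟨fun h hu => h (hu.map _),
      fun h hu => h (isUnit_of_map_unit (Ideal.Quotient.mk a) x hu)⟩
  exact (EFB.residueEquiv A).symm.trans
    ((Submodule.quotEquivOfEq _ _ hker.symm).trans (p.quotKerEquivOfSurjective hp))

variable (I : DRing.Cx A) (hI : ∀ n : ℤ, Injective (I.X n)) (lo hi : ℤ)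
  (hab : ∀ n : ℤ, n < lo ∨ hi < n → IsZero (I.X n)) {ω : Dual.D A} (e : Q.obj I ≅ ω)

include hI hab e in
/-- the model of `RHom_A(A ⧸ a, ω)` is normalized -/
lemma isNormalized_Tq (hn : Dual.IsNormalized A ω) :
    Dual.IsNormalized (A ⧸ a)
      (Q.obj ((coextCx (algebraMap A (A ⧸ a))).obj I) : Dual.D (A ⧸ a)) := by
  intro i hi0
  have hinj := GX_injective (algebraMap A (A ⧸ a)) I hI lo hi hab
    (Dual.inD (A ⧸ a) (IsLocalRing.ResidueField (A ⧸ a))) i
  haveI := hn i hi0
  let j1 := resSingleIso (algebraMap A (A ⧸ a))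
    (ModuleCat.of (A ⧸ a) (IsLocalRing.ResidueField (A ⧸ a)))
  let j2 : Dual.inD A (κBA A (A ⧸ a)) ≅ Dual.inD A (IsLocalRing.ResidueField A) :=
    (singleFunctor (ModuleCat.{u} A) 0).mapIso (κEquiv a).symm.toModuleIso
  haveI : Subsingleton ((DRing.restrictD (algebraMap A (A ⧸ a))).obj
      (Dual.inD (A ⧸ a) (IsLocalRing.ResidueField (A ⧸ a))) ⟶ (Q.obj I : Dual.D A)⟦i⟧) :=
    (Iso.homCongr (j1 ≪≫ j2) ((shiftFunctor (Dual.D A) i).mapIso e)).subsingleton
  exact ⟨fun f g => hinj (Subsingleton.elim _ _)⟩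

include hI hab e in
/-- the socle of the model of `RHom_A(A ⧸ a, ω)` -/
lemma socle_Tq (hω : Dual.IsDualizing A ω) (hn : Dual.IsNormalized A ω) :
    Nonempty ((Dual.inD (A ⧸ a) (IsLocalRing.ResidueField (A ⧸ a)) ⟶
      (Q.obj ((coextCx (algebraMap A (A ⧸ a))).obj I) : Dual.D (A ⧸ a))) ≃ₗ[A ⧸ a]
        IsLocalRing.ResidueField (A ⧸ a)) := by
  obtain ⟨h2⟩ := hom_residue_normalized ω hω hn
  haveI : I.IsKInjective :=
    IAmp.isKInjective_of_data I lo (fun n hn => hab n (Or.inl hn)) hI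
  haveI := isKInjective_coextCx (algebraMap A (A ⧸ a)) I lo (fun n hn => hab n (Or.inl hn)) hI
  let j2 : Dual.inD A (IsLocalRing.ResidueField A) ≅ Dual.inD A (κBA A (A ⧸ a)) :=
    (singleFunctor (ModuleCat.{u} A) 0).mapIso (κEquiv a).toModuleIso
  let t2 : (Dual.inD A (κBA A (A ⧸ a)) ⟶ ω) ≃ₗ[A] κBA A (A ⧸ a) :=
    (EFB.precompEquivLin j2 ω).trans (h2.trans (κEquiv a))
  let Ψ : (Dual.inD (A ⧸ a) (IsLocalRing.ResidueField (A ⧸ a)) ⟶
      (Q.obj ((coextCx (algebraMap A (A ⧸ a))).obj I) : Dual.D (A ⧸ a))) →ₗ[A ⧸ a]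
        IsLocalRing.ResidueField (A ⧸ a) :=
    { toFun := fun f => t2 (Lam (algebraMap A (A ⧸ a)) I e _ f)
      map_add' := fun f g => by
        rw [Lam_add, map_add]
        rfl
      map_smul' := fun b f => by
        obtain ⟨x, rfl⟩ := Ideal.Quotient.mk_surjective b
        change t2 (Lam (algebraMap A (A ⧸ a)) I e _ (algebraMap A (A ⧸ a) x • f)) = _
        rw [Lam_smul, map_smul, κBA_smul]
        rfl }
  have hΨ : Function.Bijective Ψ :=
    t2.bijective.comp (Lam_bijective (algebraMap A (A ⧸ a)) I e _)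
  exact ⟨LinearEquiv.ofBijective Ψ hΨ⟩

variable [IsArtinianRing (A ⧸ a)]

include hI hab e in
/-- the model of `RHom_A(A ⧸ a, ω)` is `E[a]` in degree `0` when `A ⧸ a` is artinian -/
lemma iso_Tq (hω : Dual.IsDualizing A ω) (hn : Dual.IsNormalized A ω)
    (E : Type u) [AddCommGroup E] [Module A E]
    (f : IsLocalRing.ResidueField A →ₗ[A] E) (hf : InjHull.IsInjectiveHull f) :
    Nonempty ((Q.obj ((coextCx (algebraMap A (A ⧸ a))).obj I) : Dual.D (A ⧸ a)) ≅
      Dual.inD (A ⧸ a) (LocCoh.torsionBy a E)) := by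
  obtain ⟨g, hg⟩ := Groth.Agent.S5157.result A a E f hf
  obtain ⟨h2⟩ := socle_Tq a I hI lo hi hab e hω hn
  exact iso_injectiveHull_of_artinian' _ (isNormalized_Tq a I hI lo hi hab e hn) h2 _ g hg

include hI hab e in
/-- `Hom_{D(A)}(N[0], ω) ≅ Hom_A(N, E)` for `N` killed by `a` with `A ⧸ a` artinian local -/
theorem hom_equiv_of_killed (hω : Dual.IsDualizing A ω) (hn : Dual.IsNormalized A ω)
    (E : Type u) [AddCommGroup E] [Module A E]
    (f : IsLocalRing.ResidueField A →ₗ[A] E) (hf : InjHull.IsInjectiveHull f)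
    (N : Type u) [AddCommGroup N] [Module A N] (hN : ∀ x ∈ a, ∀ n : N, x • n = 0) :
    Nonempty ((Dual.inD A N ⟶ ω) ≃ₗ[A] (N →ₗ[A] E)) := by
  obtain ⟨eT⟩ := iso_Tq a I hI lo hi hab e hω hn E f hf
  haveI : I.IsKInjective :=
    IAmp.isKInjective_of_data I lo (fun n hn => hab n (Or.inl hn)) hI
  haveI := isKInjective_coextCx (algebraMap A (A ⧸ a)) I lo (fun n hn => hab n (Or.inl hn)) hI
  have ht : Module.IsTorsionBySet A N (a : Set A) := fun n x => hN x.1 x.2 n
  letI : Module (A ⧸ a) N := ht.module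
  let s1 : (N →ₗ[A] E) → (N →ₗ[A ⧸ a] LocCoh.torsionBy a E) := fun g =>
    { toFun := fun n => ⟨g n, by
        rw [Submodule.mem_torsionBySet_iff]
        intro x
        rw [← map_smul, hN x.1 x.2, map_zero]⟩
      map_add' := fun n n' => Subtype.ext (map_add g n n')
      map_smul' := fun b n => by
        obtain ⟨x, rfl⟩ := Ideal.Quotient.mk_surjective b
        apply Subtype.ext
        change g (x • n) = x • g n
        exact map_smul g x n }
  have s1_add : ∀ g g', s1 (g + g') = s1 g + s1 g' := fun g g' =>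
    LinearMap.ext fun n => Subtype.ext rfl
  have s1_smul : ∀ (x : A) g, s1 (x • g) = (algebraMap A (A ⧸ a) x) • s1 g := fun x g =>
    LinearMap.ext fun n => Subtype.ext rfl
  have s1_bij : Function.Bijective s1 := by
    constructor
    · intro g g' h
      ext n
      exact congrArg (fun t => ((t n : LocCoh.torsionBy a E) : E)) h
    · intro h
      refine ⟨{ toFun := fun n => ((h n : LocCoh.torsionBy a E) : E)
                map_add' := fun n n' => by rw [map_add]; rfl
                map_smul' := fun x n => by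
                  have h1 : x • n = (Ideal.Quotient.mk a x) • n := rfl
                  rw [h1, map_smul]
                  rfl }, ?_⟩
      ext n
      rfl
  let L : (N →ₗ[A ⧸ a] LocCoh.torsionBy a E) ≃ₗ[A ⧸ a]
      (Dual.inD (A ⧸ a) N ⟶ (Q.obj ((coextCx (algebraMap A (A ⧸ a))).obj I) : Dual.D (A ⧸ a))) :=
    (ModuleCat.homLinearEquiv (S := A ⧸ a) (M := ModuleCat.of (A ⧸ a) N)
      (N := ModuleCat.of (A ⧸ a) (LocCoh.torsionBy a E))).symm.trans
      ((singleEquivLin _ _).trans (postcompEquivLin eT.symm _))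
  let eN : N ≃ₗ[A] (ModuleCat.restrictScalars.{u} (algebraMap A (A ⧸ a))).obj
      (ModuleCat.of (A ⧸ a) N) :=
    { toFun := id, invFun := id, map_add' := fun _ _ => rfl, map_smul' := fun _ _ => rfl,
      left_inv := fun _ => rfl, right_inv := fun _ => rfl }
  let j : Dual.inD A N ≅ (singleFunctor (ModuleCat.{u} A) 0).obj
      ((ModuleCat.restrictScalars.{u} (algebraMap A (A ⧸ a))).obj (ModuleCat.of (A ⧸ a) N)) :=
    (singleFunctor (ModuleCat.{u} A) 0).mapIso eN.toModuleIso
  let Θ : (N →ₗ[A] E) →ₗ[A] (Dual.inD A N ⟶ ω) :=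
    { toFun := fun g => j.hom ≫ Lam (algebraMap A (A ⧸ a)) I e _ (L (s1 g))
      map_add' := fun g g' => by rw [s1_add, map_add, Lam_add, Preadditive.comp_add]
      map_smul' := fun x g => by
        rw [s1_smul, map_smul, Lam_smul, Linear.comp_smul]
        rfl }
  have hj : Function.Bijective (fun g : (singleFunctor (ModuleCat.{u} A) 0).obj
      ((ModuleCat.restrictScalars.{u} (algebraMap A (A ⧸ a))).obj (ModuleCat.of (A ⧸ a) N)) ⟶ ω =>
      j.hom ≫ g) :=
    ⟨fun g g' h => (cancel_epi _).1 h, fun g => ⟨j.inv ≫ g, by simp⟩⟩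
  have hΘ : Function.Bijective Θ :=
    hj.comp ((Lam_bijective (algebraMap A (A ⧸ a)) I e _).comp (L.bijective.comp s1_bij))
  exact ⟨(LinearEquiv.ofBijective Θ hΘ).symm⟩

end Quot

section Final

variable {A : Type u} [CommRing A] [IsLocalRing A] [IsNoetherianRing A]

lemma isArtinianRing_quot_pow (k : ℕ) (a : Ideal A) (ha : a ≠ ⊤)
    (hk : IsLocalRing.maximalIdeal A ^ k ≤ a) [IsLocalRing (A ⧸ a)] : IsArtinianRing (A ⧸ a) := by
  rw [isArtinianRing_iff_isNilpotent_maximalIdeal]
  have hmap : (IsLocalRing.maximalIdeal A).map (Ideal.Quotient.mk a) =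
      IsLocalRing.maximalIdeal (A ⧸ a) := by
    haveI := IsLocalHom.of_surjective (Ideal.Quotient.mk a) Ideal.Quotient.mk_surjective
    ext x
    obtain ⟨x, rfl⟩ := Ideal.Quotient.mk_surjective x
    simp [sup_eq_left.mpr (IsLocalRing.le_maximalIdeal ha)]
  refine ⟨k, ?_⟩
  rw [← hmap, ← Ideal.map_pow, Ideal.zero_eq_bot, Ideal.map_eq_bot_iff_le_ker, Ideal.mk_ker]
  exact hk

/-- S1749 -/
theorem ext_finiteLength_normalized (ω : Dual.D A) (hω : Dual.IsDualizing A ω)
    (hn : Dual.IsNormalized A ω) (E : Type u) [AddCommGroup E] [Module A E]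
    (f : IsLocalRing.ResidueField A →ₗ[A] E) (hf : InjHull.IsInjectiveHull f)
    (N : Type u) [AddCommGroup N] [Module A N] (hN : IsFiniteLength A N) :
    (∀ i : ℤ, i ≠ 0 → Subsingleton (Dual.inD A N ⟶ ω⟦i⟧)) ∧
      Nonempty ((Dual.inD A N ⟶ ω) ≃ₗ[A] (N →ₗ[A] E)) := by
  refine ⟨fun i hi => subsingleton_hom_of_isFiniteLength ω hn N hN i hi, ?_⟩
  obtain ⟨k, hk⟩ := exists_pow_killed N hN
  have ha_le : IsLocalRing.maximalIdeal A ^ (k + 1) ≤ IsLocalRing.maximalIdeal A :=
    Ideal.pow_le_self (by omega)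
  have ha_ne : IsLocalRing.maximalIdeal A ^ (k + 1) ≠ ⊤ :=
    ne_top_of_le_ne_top (Ideal.IsMaximal.ne_top inferInstance) ha_le
  have hak : ∀ x ∈ IsLocalRing.maximalIdeal A ^ (k + 1), ∀ n : N, x • n = 0 := fun x hx n =>
    hk x (Ideal.pow_le_pow_right (Nat.le_succ k) hx) n
  haveI : Nontrivial (A ⧸ IsLocalRing.maximalIdeal A ^ (k + 1)) :=
    Ideal.Quotient.nontrivial_iff.2 ha_ne
  haveI : IsLocalRing (A ⧸ IsLocalRing.maximalIdeal A ^ (k + 1)) :=
    IsLocalRing.of_surjective' (Ideal.Quotient.mk _) Ideal.Quotient.mk_surjective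
  haveI : IsArtinianRing (A ⧸ IsLocalRing.maximalIdeal A ^ (k + 1)) :=
    isArtinianRing_quot_pow (k + 1) _ ha_ne le_rfl
  obtain ⟨I, lo, hi, hI, hab, ⟨e⟩⟩ := exists_injective_model ω hω
  exact hom_equiv_of_killed _ I hI lo hi hab e hω hn E f hf N hak

end Final

end Groth.Agent.Lib.Helper8.Bidual
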