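import Mathlib
import Groth.Agent.Lib.Helper8.Res5
import Groth.Agent.Lib.Helper8.RGam2
import Groth.Agent.Lib.Helper8.Bid7

/-! # Helper8 — Res6: `H^q(Hom_A(M, K•)) ≃ Hom_D(M[0], (Q K)[q])` for `K` K-injective; for `M` of finite length and `ω` normalized dualizing, `RHom(M, ω) ≅ Hom_A(M, E)[0]`; the triangle `R Hom_A(A/J, ω) → ω → Hom_A(J, E)[0] →` for an ideal `J` of finite length (S8945) -/

set_option autoImplicit false

universe u

open CategoryTheory CategoryTheory.Limits CategoryTheory.Pretriangulated Opposite DerivedCategory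

attribute [local instance] HasDerivedCategory.standard

namespace Groth.Agent.Lib.Helper8.Bidual

open Groth.Agent.Lib.Helper8 Groth.Agent.Lib.Helper6

section ExtCoh

variable {A : Type u} [CommRing A] (K : DRing.Cx A) (M : ModuleCat.{u} A) (q : ℤ)

/-- the short complex computing `H^q(Hom_A(M, K•))` -/
noncomputable abbrev scH : ShortComplex (ModuleCat.{u} A) :=
  ((homF K).obj (op M)).sc' (q - 1) q (q + 1)

lemma scH_g_apply (z : M ⟶ K.X q) : (scH K M q).g.hom z = z ≫ K.d q (q + 1) := rfl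

lemma scH_f_apply (z : M ⟶ K.X (q - 1)) : (scH K M q).f.hom z = z ≫ K.d (q - 1) q := rfl

/-- cocycles to classes -/
noncomputable def clsLin : LinearMap.ker (scH K M q).g.hom →ₗ[A]
    ((Q.obj (RGam.sg M) : Dual.D A) ⟶ (Q.obj K : Dual.D A)⟦q⟧) where
  toFun z := RGam.clsQ K q (show M ⟶ K.X q from z.1) z.2
  map_add' z z' := RGam.clsQ_add K q _ _ z.2 z'.2
  map_smul' a z := RGam.clsQ_smul K q a _ z.2

variable [K.IsKInjective]

lemma clsLin_surjective : Function.Surjective (clsLin K M q) := by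
  intro φ
  obtain ⟨f, hf, h⟩ := RGam.clsQ_surjective K q φ
  exact ⟨⟨f, hf⟩, h⟩

lemma ker_clsLin : LinearMap.ker (clsLin K M q) =
    LinearMap.range (scH K M q).moduleCatToCycles := by
  ext z
  rw [LinearMap.mem_ker, LinearMap.mem_range]
  change RGam.clsQ K q (show M ⟶ K.X q from z.1) z.2 = 0 ↔ _
  rw [RGam.clsQ_eq_zero_iff]
  constructor
  · rintro ⟨g, hg⟩
    exact ⟨g, Subtype.ext hg⟩
  · rintro ⟨g, hg⟩
    exact ⟨g, congrArg Subtype.val hg⟩

/-- `H^q(Hom_A(M, K•)) ≃ Hom_D(M[0], (Q K)[q])` for `K` K-injective -/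
noncomputable def homologyHomFEquiv :
    ((homologyFunctor (ModuleCat.{u} A) q).obj ((TI K).obj (op M))) ≃ₗ[A]
      ((Q.obj (RGam.sg M) : Dual.D A) ⟶ (Q.obj K : Dual.D A)⟦q⟧) :=
  (((homologyFunctorFactors (ModuleCat.{u} A) q).app ((homF K).obj (op M))) ≪≫
    ((homF K).obj (op M)).homologyIsoSc' (q - 1) q (q + 1) (by simp) (by simp) ≪≫
    (scH K M q).moduleCatHomologyIso).toLinearEquiv.trans
  ((Submodule.quotEquivOfEq _ _ (ker_clsLin K M q).symm).trans
    ((clsLin K M q).quotKerEquivOfSurjective (clsLin_surjective K M q)))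

end ExtCoh

section Tri

variable {A : Type u} [CommRing A] [IsLocalRing A] [IsNoetherianRing A]

/-- `0 → J → A → A/J → 0` -/
lemma shortExact_ideal (J : Ideal A) :
    (ShortComplex.mk (ModuleCat.ofHom (X := J) (Y := A) (Submodule.subtype J)) (mkBA J) (by
      refine ModuleCat.hom_ext (LinearMap.ext fun x => ?_)
      change Ideal.Quotient.mk J (x : A) = 0
      rw [Ideal.Quotient.eq_zero_iff_mem]
      exact x.2)).ShortExact := by
  refine ShortComplex.ShortExact.mk' ?_ ?_ ?_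
  · rw [ShortComplex.moduleCat_exact_iff]
    intro (x : A) hx
    have hx' : Ideal.Quotient.mk J x = 0 := hx
    rw [Ideal.Quotient.eq_zero_iff_mem] at hx'
    exact ⟨⟨x, hx'⟩, rfl⟩
  · rw [ModuleCat.mono_iff_injective]
    exact Subtype.val_injective
  · rw [ModuleCat.epi_iff_surjective]
    exact Ideal.Quotient.mk_surjective

/-- for `M` of finite length, `RHom(M, ω)` is `Hom_A(M, E)` in degree `0` -/
theorem TI_iso_single_of_isFiniteLength (ω : Dual.D A) (hω : Dual.IsDualizing A ω)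
    (hn : Dual.IsNormalized A ω) (E : Type u) [AddCommGroup E] [Module A E]
    (f : IsLocalRing.ResidueField A →ₗ[A] E) (hf : InjHull.IsInjectiveHull f)
    (K : DRing.Cx A) [K.IsKInjective] (e : Q.obj K ≅ ω)
    (M : Type u) [AddCommGroup M] [Module A M] (hM : IsFiniteLength A M) :
    Nonempty ((TI K).obj (op (ModuleCat.of A M)) ≅ Dual.inD A (M →ₗ[A] E)) := by
  obtain ⟨h1, ⟨h2⟩⟩ := ext_finiteLength_normalized ω hω hn E f hf M hM
  let X := (TI K).obj (op (ModuleCat.of A M))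
  let j0 : Dual.inD A M ≅ (Q.obj (RGam.sg (ModuleCat.of A M)) : Dual.D A) :=
    (singleFunctorIsoCompQ (ModuleCat.{u} A) 0).app (ModuleCat.of A M)
  have hz : ∀ q : ℤ, q ≠ 0 → IsZero ((homologyFunctor (ModuleCat.{u} A) q).obj X) := by
    intro q hq
    haveI := h1 q hq
    haveI : Subsingleton ((Q.obj (RGam.sg (ModuleCat.of A M)) : Dual.D A) ⟶
        (Q.obj K : Dual.D A)⟦q⟧) :=
      (Iso.homCongr j0.symm ((shiftFunctor (Dual.D A) q).mapIso e)).subsingleton
    haveI : Subsingleton ((homologyFunctor (ModuleCat.{u} A) q).obj X) :=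
      (homologyHomFEquiv K (ModuleCat.of A M) q).toEquiv.subsingleton
    exact ModuleCat.isZero_of_subsingleton _
  haveI : X.IsGE 0 := (isGE_iff X 0).2 (fun i hi => hz i (by omega))
  haveI : X.IsLE 0 := (isLE_iff X 0).2 (fun i hi => hz i (by omega))
  obtain ⟨e1⟩ := Groth.Agent.Lib.Helper16.DerT.nonempty_iso_single_homology X 0
  let l : ((homologyFunctor (ModuleCat.{u} A) 0).obj X) ≃ₗ[A] (M →ₗ[A] E) :=
    (homologyHomFEquiv K (ModuleCat.of A M) 0).trans
      ((EFB.precompEquivLin j0 _).trans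
        ((postcompEquivLin ((shiftFunctorZero (Dual.D A) ℤ).app (Q.obj K) ≪≫ e) _).trans h2))
  exact ⟨e1 ≪≫ (singleFunctor (ModuleCat.{u} A) 0).mapIso l.toModuleIso⟩

/-- S8945 -/
theorem exists_triangle_rightAdjoint_quotient_finiteLength (ω : Dual.D A)
    (hω : Dual.IsDualizing A ω) (hn : Dual.IsNormalized A ω) (J : Ideal A)
    (hJl : IsFiniteLength A J) (E : Type u) [AddCommGroup E] [Module A E]
    (f : IsLocalRing.ResidueField A →ₗ[A] E) (hf : InjHull.IsInjectiveHull f)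
    (R : Dual.D A ⥤ Dual.D (A ⧸ J)) (adj : DRing.restrictD (algebraMap A (A ⧸ J)) ⊣ R) :
    ∃ (u : (DRing.restrictD (algebraMap A (A ⧸ J))).obj (R.obj ω) ⟶ ω)
      (v : ω ⟶ Dual.inD A (J →ₗ[A] E))
      (w : Dual.inD A (J →ₗ[A] E) ⟶
        ((DRing.restrictD (algebraMap A (A ⧸ J))).obj (R.obj ω))⟦(1 : ℤ)⟧),
      Triangle.mk u v w ∈ distTriang (Dual.D A) := by
  obtain ⟨K, a, b, hK, hab, ⟨e⟩⟩ := exists_injective_model ω hω
  obtain ⟨-, ⟨m⟩⟩ := isDualizing_rightAdjoint_and_model adj ω hω K a b hK hab e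
  let φ := algebraMap A (A ⧸ J)
  haveI : K.IsKInjective := IAmp.isKInjective_of_data K a (fun n hn => hab n (Or.inl hn)) hK
  obtain ⟨δ, hδ⟩ := TI_triangle K hK _ (shortExact_ideal J)
  obtain ⟨e₃⟩ := TI_iso_single_of_isFiniteLength ω hω hn E f hf K e J hJl
  let e₁ : (DRing.restrictD φ).obj (R.obj ω) ≅ (TI K).obj (op (BA φ)) :=
    (DRing.restrictD φ).mapIso m.symm ≪≫ uIso φ K
  let e₂ : (TI K).obj (op (ModuleCat.of A A)) ≅ ω := Q.mapIso (evOne K) ≪≫ e
  refine ⟨e₁.hom ≫ (TI K).map (mkBA J).op ≫ e₂.hom,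
    e₂.inv ≫ (TI K).map (ModuleCat.ofHom (X := J) (Y := A) (Submodule.subtype J)).op ≫ e₃.hom,
    e₃.inv ≫ δ ≫ e₁.inv⟦(1 : ℤ)⟧', ?_⟩
  refine isomorphic_distinguished _ hδ _ (Triangle.isoMk _ _ e₁ e₂.symm e₃.symm ?_ ?_ ?_)
  · change (e₁.hom ≫ (TI K).map (mkBA J).op ≫ e₂.hom) ≫ e₂.inv =
      e₁.hom ≫ (TI K).map (mkBA J).op
    rw [Category.assoc, Category.assoc, Iso.hom_inv_id, Category.comp_id]
  · change (e₂.inv ≫ (TI K).map (ModuleCat.ofHom (X := J) (Y := A) (Submodule.subtype J)).op ≫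
      e₃.hom) ≫ e₃.inv = e₂.inv ≫ (TI K).map (ModuleCat.ofHom (X := J) (Y := A)
        (Submodule.subtype J)).op
    rw [Category.assoc, Category.assoc, Iso.hom_inv_id, Category.comp_id]
  · change (e₃.inv ≫ δ ≫ e₁.inv⟦(1 : ℤ)⟧') ≫ e₁.hom⟦(1 : ℤ)⟧' = e₃.inv ≫ δ
    rw [Category.assoc, Category.assoc, ← Functor.map_comp, Iso.inv_hom_id,
      CategoryTheory.Functor.map_id, Category.comp_id]

end Tri

end Groth.Agent.Lib.Helper8.Bidual
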