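import Mathlib
import Groth.Agent.S0299
import Groth.Agent.Lib.Helper8.Res6
import Groth.Agent.Lib.Helper8.EFB19

/-! # Helper8 — Dim1: a dualizing complex over a local ring has a normalized shift; over an artinian local ring it has exactly one nonzero cohomology module; the localization of a dualizing complex at a prime is dualizing; at a minimal prime exactly one localized cohomology module is nonzero (S1762) -/

set_option autoImplicit false

universe u

open CategoryTheory CategoryTheory.Limits CategoryTheory.Pretriangulated Opposite DerivedCategory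
  TensorProduct

attribute [local instance] HasDerivedCategory.standard

namespace Groth.Agent.Lib.Helper8.Bidual

open Groth.Agent.Lib.Helper8 Groth.Agent.Lib.Helper16.FlatBC

section Normalize

variable {A : Type u} [CommRing A] [IsLocalRing A] [IsNoetherianRing A]

/-- a dualizing complex over a local ring has a normalized shift -/
theorem exists_isNormalized_shift (ω : Dual.D A) (hω : Dual.IsDualizing A ω) :
    ∃ n : ℤ, Dual.IsNormalized A (ω⟦n⟧) := by
  obtain ⟨n, h1, -⟩ := ext_field_single_degree (A := A) (B := IsLocalRing.ResidueField A) ω hω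
  refine ⟨n, fun i hi => ?_⟩
  let eM : IsLocalRing.ResidueField A ≃ₗ[A] BA (algebraMap A (IsLocalRing.ResidueField A)) :=
    Groth.Agent.Lib.Helper16.FlatBC.bEquiv (A := A) (B := IsLocalRing.ResidueField A)
  let j : Dual.inD A (IsLocalRing.ResidueField A) ≅
      Dual.inD A (BA (algebraMap A (IsLocalRing.ResidueField A))) :=
    (singleFunctor (ModuleCat.{u} A) 0).mapIso eM.toModuleIso
  haveI := h1 (n + i) (by omega)
  exact (Iso.homCongr j ((shiftFunctorAdd' (Dual.D A) n i (n + i) rfl).app ω).symm).subsingleton

variable [IsArtinianRing A]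

/-- over an artinian local ring a dualizing complex has exactly one nonzero cohomology module -/
theorem exists_unique_degree_artinian (ω : Dual.D A) (hω : Dual.IsDualizing A ω) :
    ∃ n : ℤ, ∀ i : ℤ, Nontrivial (Dual.HD A ω i) ↔ i = n := by
  obtain ⟨n, hn⟩ := exists_isNormalized_shift ω hω
  obtain ⟨E, _, _, f, hf⟩ := Groth.Agent.S0299.result A (IsLocalRing.ResidueField A)
  obtain ⟨e⟩ := iso_injectiveHull_of_artinian (ω⟦n⟧) (isDualizing_shift ω hω n) hn E f hf
  haveI : Nontrivial E := hf.injective.nontrivial
  refine ⟨n, fun i => ?_⟩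
  have hE : ∀ j : ℤ, Nontrivial (Dual.HD A (Dual.inD A E) j) ↔ j = 0 := by
    intro j
    constructor
    · intro h
      by_contra hj
      haveI := EFB.subsingleton_HD_inD (A := A) E j hj
      exact not_subsingleton _ ‹_›
    · rintro rfl
      exact (EFB.HDinD (A := A) E).toEquiv.nontrivial
  let k : Dual.HD A ω i ≃ₗ[A] Dual.HD A (Dual.inD A E) (i - n) :=
    ((((homologyFunctor (ModuleCat.{u} A) 0).shiftIso n (i - n) i (by omega)).app ω).symm ≪≫
      (homologyFunctor (ModuleCat.{u} A) (i - n)).mapIso e).toLinearEquiv
  rw [k.toEquiv.nontrivial_congr, hE]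
  omega

end Normalize

section Loc

variable {A : Type u} [CommRing A] [IsNoetherianRing A] (p : Ideal A) [p.IsPrime]

/-- the localization of a dualizing complex at a prime is dualizing -/
theorem isDualizing_ε_atPrime (ω : Dual.D A) (hω : Dual.IsDualizing A ω) :
    Dual.IsDualizing (Localization.AtPrime p)
      ((ε (algebraMap A (Localization.AtPrime p))).obj ω) := by
  refine EFB.isDualizing_ε_of_maximal_extended (fun n hn => ⟨p, ?_⟩) ω hω
  rw [Localization.AtPrime.map_eq_maximalIdeal]
  exact (IsLocalRing.eq_maximalIdeal hn).symm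

/-- localized cohomology is the cohomology of the localization -/
lemma nontrivial_localizedModule_HD_iff (K : Dual.D A) (i : ℤ) :
    Nontrivial (LocalizedModule p.primeCompl (Dual.HD A K i)) ↔
      Nontrivial (Dual.HD (Localization.AtPrime p)
        ((ε (algebraMap A (Localization.AtPrime p))).obj K) i) := by
  obtain ⟨e1⟩ := EFB.nonempty_HD_ε_equiv (B := Localization.AtPrime p) K i
  let e2 : (Localization.AtPrime p) ⊗[A] Dual.HD A K i ≃ₗ[Localization.AtPrime p]
      LocalizedModule p.primeCompl (Dual.HD A K i) :=
    (IsLocalizedModule.isBaseChange p.primeCompl (Localization.AtPrime p)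
      (LocalizedModule.mkLinearMap p.primeCompl (Dual.HD A K i))).equiv
  exact (e1.trans e2).toEquiv.nontrivial_congr.symm

/-- S1762 -/
theorem existsUnique_nontrivial_localized_HD_of_minimal (ω : Dual.D A)
    (hω : Dual.IsDualizing A ω) (hp : p ∈ minimalPrimes A) :
    ∃! i : ℤ, Nontrivial (LocalizedModule p.primeCompl (Dual.HD A ω i)) := by
  haveI : IsArtinianRing (Localization.AtPrime p) := by
    rw [isArtinianRing_iff_krullDimLE_zero, Ring.krullDimLE_iff,
      IsLocalization.AtPrime.ringKrullDim_eq_height p (Localization.AtPrime p),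
      Ideal.height_eq_zero_iff.2 hp]
    rfl
  obtain ⟨n, hn⟩ := exists_unique_degree_artinian _ (isDualizing_ε_atPrime p ω hω)
  refine ⟨n, ?_, fun i hi => ?_⟩
  · exact (nontrivial_localizedModule_HD_iff p ω n).2 ((hn n).2 rfl)
  · exact (hn i).1 ((nontrivial_localizedModule_HD_iff p ω i).1 hi)

end Loc

end Groth.Agent.Lib.Helper8.Bidual
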