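import Mathlib
import Groth.Agent.Lib.Helper8.Dim1

/-! # Helper8 — Dim2: the local covering lemma for the dimension function of a dualizing complex: over a noetherian local ring with normalized dualizing complex `ω` and a prime `p` directly below the maximal ideal, `Ext^i(A/p, ω)_p ≠ 0` iff `i = -1` (via `0 → A/p →f A/p → A/(p,f) → 0`, Nakayama and S1749) -/

set_option autoImplicit false

universe u

open CategoryTheory CategoryTheory.Limits CategoryTheory.Pretriangulated Opposite DerivedCategory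
  TensorProduct

attribute [local instance] HasDerivedCategory.standard

namespace Groth.Agent.Lib.Helper8.Bidual

open Groth.Agent.Lib.Helper8

section Aux

variable {A : Type u} [CommRing A] [IsLocalRing A] [IsNoetherianRing A]

/-- a finite module killed by a power of the maximal ideal has finite length -/
lemma isFiniteLength_of_killed_pow (N : Type u) [AddCommGroup N] [Module A N] [Module.Finite A N]
    (k : ℕ) (h : ∀ a ∈ IsLocalRing.maximalIdeal A ^ k, ∀ x : N, a • x = 0) :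
    IsFiniteLength A N := by
  by_cases htop : IsLocalRing.maximalIdeal A ^ k = ⊤
  · haveI : Subsingleton N := ⟨fun x y => by
      have h1 := h 1 (by rw [htop]; exact Submodule.mem_top)
      rw [← one_smul A x, ← one_smul A y, h1 x, h1 y]⟩
    exact IsFiniteLength.of_subsingleton
  · rw [isFiniteLength_iff_isNoetherian_isArtinian]
    refine ⟨inferInstance, ?_⟩
    haveI : Nontrivial (A ⧸ IsLocalRing.maximalIdeal A ^ k) :=
      Ideal.Quotient.nontrivial_iff.2 htop
    haveI : IsLocalRing (A ⧸ IsLocalRing.maximalIdeal A ^ k) :=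
      IsLocalRing.of_surjective' (Ideal.Quotient.mk _) Ideal.Quotient.mk_surjective
    haveI : IsArtinianRing (A ⧸ IsLocalRing.maximalIdeal A ^ k) :=
      isArtinianRing_quot_pow k _ htop le_rfl
    have ht : Module.IsTorsionBySet A N ((IsLocalRing.maximalIdeal A ^ k : Ideal A) : Set A) :=
      fun x a => h a.1 a.2 x
    letI : Module (A ⧸ IsLocalRing.maximalIdeal A ^ k) N := ht.module
    haveI : Module.Finite (A ⧸ IsLocalRing.maximalIdeal A ^ k) N :=
      Module.Finite.of_restrictScalars_finite A (A ⧸ IsLocalRing.maximalIdeal A ^ k) N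
    exact isArtinian_of_surjective_algebraMap (S := A)
      (R := A ⧸ IsLocalRing.maximalIdeal A ^ k) Ideal.Quotient.mk_surjective

/-- an ideal whose only prime divisor is the maximal ideal contains a power of it -/
lemma exists_pow_le_of_primes (J : Ideal A)
    (h : ∀ r : Ideal A, r.IsPrime → J ≤ r → r = IsLocalRing.maximalIdeal A) :
    ∃ k : ℕ, IsLocalRing.maximalIdeal A ^ k ≤ J := by
  refine Ideal.exists_pow_le_of_le_radical_of_fg ?_ (IsNoetherian.noetherian _)
  rw [Ideal.radical_eq_sInf]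
  exact le_sInf (fun r hr => (h r hr.2 hr.1).ge)

end Aux

section LES

variable {A : Type u} [CommRing A] (L : Dual.D A) {M : Type u} [AddCommGroup M] [Module A M]
  (f : A) (hf : Function.Injective (fun x : M => f • x))

lemma single_map_lsmul :
    (singleFunctor (ModuleCat.{u} A) 0).map (ModuleCat.ofHom (LinearMap.lsmul A M f)) =
      f • 𝟙 (Dual.inD A M) := by
  have h2 : ModuleCat.ofHom (LinearMap.lsmul A M f) = f • 𝟙 (ModuleCat.of A M) := by
    refine ModuleCat.hom_ext (LinearMap.ext fun x => ?_)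
    rfl
  rw [h2, Functor.map_smul, CategoryTheory.Functor.map_id]

lemma smul_eq_comp {X : Dual.D A} (w : Dual.inD A M ⟶ X) :
    (f • 𝟙 (Dual.inD A M)) ≫ w = f • w := by
  rw [Linear.smul_comp, Category.id_comp]

include hf in
/-- if `Ext^{i+1}(M/fM, L) = 0` then `f` is surjective on `Ext^i(M, L)` -/
lemma smul_surjective_of_subsingleton (i : ℤ)
    (h : Subsingleton (Dual.inD A (M ⧸ LinearMap.range (LinearMap.lsmul A M f)) ⟶ L⟦i + 1⟧))
    (e : Dual.inD A M ⟶ L⟦i⟧) : ∃ e' : Dual.inD A M ⟶ L⟦i⟧, f • e' = e := by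
  obtain ⟨δ, hT⟩ := EFB.exists_singleTriangle (LinearMap.lsmul A M f)
    (LinearMap.range (LinearMap.lsmul A M f)).mkQ hf (Submodule.mkQ_surjective _)
    (LinearMap.exact_map_mkQ_range _)
  have hT' := inv_rot_of_distTriang _ hT
  have hsub : Subsingleton ((Dual.inD A (M ⧸ LinearMap.range (LinearMap.lsmul A M f)))⟦(-1 : ℤ)⟧ ⟶
      L⟦i⟧) := by
    have e1 : ((Dual.inD A (M ⧸ LinearMap.range (LinearMap.lsmul A M f)))⟦(-1 : ℤ)⟧ ⟶ L⟦i⟧) ≃
        ((Dual.inD A (M ⧸ LinearMap.range (LinearMap.lsmul A M f)))⟦(-1 : ℤ)⟧⟦(1 : ℤ)⟧ ⟶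
          L⟦i⟧⟦(1 : ℤ)⟧) :=
      (EFB.shiftEquivLin 1 _ _).toEquiv
    have e2 := Iso.homCongr
      ((shiftFunctorCompIsoId (Dual.D A) (-1) 1 (by omega)).app
        (Dual.inD A (M ⧸ LinearMap.range (LinearMap.lsmul A M f))))
      ((shiftFunctorAdd' (Dual.D A) i 1 (i + 1) rfl).app L).symm
    exact @Equiv.subsingleton _ _ (e1.trans e2) h
  obtain ⟨(w : Dual.inD A M ⟶ L⟦i⟧), hw⟩ := Triangle.yoneda_exact₂ _ hT' e (hsub.elim _ _)
  refine ⟨w, ?_⟩
  rw [hw]
  change f • w = (singleFunctor (ModuleCat.{u} A) 0).map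
    (ModuleCat.ofHom (LinearMap.lsmul A M f)) ≫ w
  rw [single_map_lsmul, smul_eq_comp]

include hf in
/-- if `Ext^i(M/fM, L) = 0` then `f` is injective on `Ext^i(M, L)` -/
lemma smul_injective_of_subsingleton (i : ℤ)
    (h : Subsingleton (Dual.inD A (M ⧸ LinearMap.range (LinearMap.lsmul A M f)) ⟶ L⟦i⟧))
    (e : Dual.inD A M ⟶ L⟦i⟧) (he : f • e = 0) : e = 0 := by
  obtain ⟨δ, hT⟩ := EFB.exists_singleTriangle (LinearMap.lsmul A M f)
    (LinearMap.range (LinearMap.lsmul A M f)).mkQ hf (Submodule.mkQ_surjective _)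
    (LinearMap.exact_map_mkQ_range _)
  have h1 : (singleFunctor (ModuleCat.{u} A) 0).map
      (ModuleCat.ofHom (LinearMap.lsmul A M f)) ≫ e = 0 := by
    rw [single_map_lsmul, smul_eq_comp, he]
  obtain ⟨(w : Dual.inD A (M ⧸ LinearMap.range (LinearMap.lsmul A M f)) ⟶ L⟦i⟧), hw⟩ :=
    Triangle.yoneda_exact₂ _ hT e h1
  rw [hw, h.elim w 0]
  exact comp_zero

include hf in
/-- if `Ext^{i+1}(M, L) = 0` and `Ext^{i+1}(M/fM, L) ≠ 0` then `Ext^i(M, L) ≠ 0` -/
lemma nontrivial_of_connecting (i : ℤ)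
    (h0 : Subsingleton (Dual.inD A M ⟶ L⟦i + 1⟧))
    (h1 : Nontrivial (Dual.inD A (M ⧸ LinearMap.range (LinearMap.lsmul A M f)) ⟶ L⟦i + 1⟧)) :
    Nontrivial (Dual.inD A M ⟶ L⟦i⟧) := by
  obtain ⟨δ, hT⟩ := EFB.exists_singleTriangle (LinearMap.lsmul A M f)
    (LinearMap.range (LinearMap.lsmul A M f)).mkQ hf (Submodule.mkQ_surjective _)
    (LinearMap.exact_map_mkQ_range _)
  obtain ⟨w, hw⟩ := exists_ne (0 : Dual.inD A (M ⧸ LinearMap.range (LinearMap.lsmul A M f)) ⟶
    L⟦i + 1⟧)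
  obtain ⟨v, hv⟩ := Triangle.yoneda_exact₃ _ hT w (h0.elim _ _)
  have hv0 : v ≠ 0 := by
    rintro rfl
    exact hw (by rw [hv]; exact comp_zero)
  have e1 : (Dual.inD A M ⟶ L⟦i⟧) ≃ ((Dual.inD A M)⟦(1 : ℤ)⟧ ⟶ L⟦i⟧⟦(1 : ℤ)⟧) :=
    (EFB.shiftEquivLin 1 _ _).toEquiv
  have e2 := Iso.homCongr (Iso.refl ((Dual.inD A M)⟦(1 : ℤ)⟧))
    ((shiftFunctorAdd' (Dual.D A) i 1 (i + 1) rfl).app L).symm
  haveI : Nontrivial ((Dual.inD A M)⟦(1 : ℤ)⟧ ⟶ L⟦i + 1⟧) := ⟨⟨v, 0, hv0⟩⟩
  exact (e1.trans e2).nontrivial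

end LES

section Cov

variable {A : Type u} [CommRing A] [IsNoetherianRing A]

/-- a dualizing complex is bounded below -/
lemma exists_isGE_of_isDualizing (ω : Dual.D A) (hω : Dual.IsDualizing A ω) : ∃ c : ℤ, ω.IsGE c := by
  obtain ⟨a, b, hab⟩ := hω.finite_injective_dimension
  have hbdd := EFB.hbdd_of_hinj ω a b hab
  exact ⟨a, EFB.isGE_of_subsingleton ω a (fun i hi => hbdd i (Or.inl hi))⟩

/-- `Ext^i(M, ω)` is finite for finite `M` -/
lemma finite_hom_inD_of_isDualizing (ω : Dual.D A) (hω : Dual.IsDualizing A ω)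
    (M : Type u) [AddCommGroup M] [Module A M] [Module.Finite A M] (j : ℤ) :
    Module.Finite A (Dual.inD A M ⟶ ω⟦j⟧) :=
  EFB.finite_hom_shift (Dual.inD A M) ω
    ⟨0, fun i hi => EFB.subsingleton_HD_inD M i (by omega)⟩ (fun i => EFB.finite_HD_inD M i)
    (exists_isGE_of_isDualizing ω hω) hω.finite_cohomology j

variable [IsLocalRing A]

omit [IsNoetherianRing A] in
/-- a nonzero map from a nonzero finite module to an extension of the residue field -/
lemma exists_ne_zero_linearMap_of_injective (N : Type u) [AddCommGroup N] [Module A N]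
    [Nontrivial N] [IsNoetherian A N] (E : Type u) [AddCommGroup E] [Module A E]
    (g : IsLocalRing.ResidueField A →ₗ[A] E) (hg : Function.Injective g) :
    Nontrivial (N →ₗ[A] E) := by
  obtain ⟨N', hN', -⟩ := (eq_top_or_exists_le_coatom (⊥ : Submodule A N)).resolve_left bot_ne_top
  haveI : IsSimpleModule A (N ⧸ N') := isSimpleModule_iff_isCoatom.2 hN'
  obtain ⟨m', hm', ⟨e⟩⟩ := isSimpleModule_iff_quot_maximal.1 (inferInstance :
    IsSimpleModule A (N ⧸ N'))
  obtain rfl : m' = IsLocalRing.maximalIdeal A := IsLocalRing.eq_maximalIdeal hm'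
  let h : N →ₗ[A] E := g ∘ₗ (EFB.residueEquiv A).toLinearMap ∘ₗ e.toLinearMap ∘ₗ N'.mkQ
  obtain ⟨x, hx⟩ : ∃ x : N, x ∉ N' := by
    by_contra hcon
    push Not at hcon
    exact hN'.1 (eq_top_iff.2 (fun x _ => hcon x))
  refine ⟨⟨h, 0, fun h0 => hx ?_⟩⟩
  have h1 : h x = 0 := by rw [h0]; rfl
  have h2 : (EFB.residueEquiv A) (e (N'.mkQ x)) = 0 := hg (h1.trans (map_zero g).symm)
  have h3 : e (N'.mkQ x) = 0 := (LinearEquiv.map_eq_zero_iff _).1 h2
  have h4 : N'.mkQ x = 0 := (LinearEquiv.map_eq_zero_iff _).1 h3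
  exact (Submodule.Quotient.mk_eq_zero N').1 h4

/-- **local covering lemma**: over a local ring with normalized dualizing complex, for a prime
`p` directly below the maximal ideal, `Ext^i(A/p, ω)_p ≠ 0` iff `i = -1` -/
theorem nontrivial_localized_ext_iff_of_covBy (ω : Dual.D A) (hω : Dual.IsDualizing A ω)
    (hn : Dual.IsNormalized A ω) (p : Ideal A) [hpp : p.IsPrime]
    (hp : p ≠ IsLocalRing.maximalIdeal A)
    (hcov : ∀ r : Ideal A, r.IsPrime → p ≤ r → r = p ∨ r = IsLocalRing.maximalIdeal A) (i : ℤ) :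
    Nontrivial (LocalizedModule p.primeCompl (Dual.inD A (A ⧸ p) ⟶ ω⟦i⟧)) ↔ i = -1 := by
  have hlt : p < IsLocalRing.maximalIdeal A :=
    lt_of_le_of_ne (IsLocalRing.le_maximalIdeal hpp.ne_top) hp
  obtain ⟨f, hfm, hfp⟩ := SetLike.exists_of_lt hlt
  have hf : Function.Injective (fun x : A ⧸ p => f • x) := by
    intro x y hxy
    obtain ⟨x', rfl⟩ := Ideal.Quotient.mk_surjective x
    obtain ⟨y', rfl⟩ := Ideal.Quotient.mk_surjective y
    have h1 : Ideal.Quotient.mk p (f * x') = Ideal.Quotient.mk p (f * y') := hxy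
    rw [Ideal.Quotient.eq] at h1 ⊢
    have h2 : f * (x' - y') ∈ p := by rw [mul_sub]; exact h1
    exact (hpp.mem_or_mem h2).resolve_left hfp
  -- primes above `p ⊔ (s)` for `s ∉ p`
  have hprimes : ∀ s : A, s ∉ p → ∀ r : Ideal A, r.IsPrime → p ⊔ Ideal.span {s} ≤ r →
      r = IsLocalRing.maximalIdeal A := by
    intro s hs r hr hle
    rcases hcov r hr (le_sup_left.trans hle) with h | h
    · exact absurd (h ▸ hle (Ideal.mem_sup_right (Ideal.mem_span_singleton_self s))) hs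
    · exact h
  -- `p` kills `Ext(A/p, -)`
  have hpkill : ∀ (j : ℤ) (a : A), a ∈ p → ∀ e : Dual.inD A (A ⧸ p) ⟶ ω⟦j⟧, a • e = 0 := by
    intro j a ha e
    refine EFB.smul_hom_eq_zero a (fun x => ?_) _ e
    obtain ⟨x', rfl⟩ := Ideal.Quotient.mk_surjective x
    change Ideal.Quotient.mk p (a * x') = 0
    rw [Ideal.Quotient.eq_zero_iff_mem]
    exact p.mul_mem_right x' ha
  -- the quotient `N = A/(p, f)`
  have hNkill : ∀ a ∈ p ⊔ Ideal.span {f}, ∀ y : (A ⧸ p) ⧸ LinearMap.range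
      (LinearMap.lsmul A (A ⧸ p) f), a • y = 0 := by
    intro a ha y
    obtain ⟨x, rfl⟩ := Submodule.mkQ_surjective _ y
    obtain ⟨b, hb, c, hc, rfl⟩ := Submodule.mem_sup.1 ha
    obtain ⟨d, rfl⟩ := Ideal.mem_span_singleton'.1 hc
    rw [← map_smul, Submodule.mkQ_apply, Submodule.Quotient.mk_eq_zero, add_smul]
    refine Submodule.add_mem _ ?_ ⟨d • x, ?_⟩
    · obtain ⟨x', rfl⟩ := Ideal.Quotient.mk_surjective x
      have h0 : b • Ideal.Quotient.mk p x' = 0 := by
        change Ideal.Quotient.mk p (b * x') = 0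
        rw [Ideal.Quotient.eq_zero_iff_mem]
        exact p.mul_mem_right x' hb
      rw [h0]
      exact Submodule.zero_mem _
    · change f • (d • x) = (d * f) • x
      rw [smul_smul, mul_comm]
  obtain ⟨k, hk⟩ := exists_pow_le_of_primes (p ⊔ Ideal.span {f}) (hprimes f hfp)
  have hNfl : IsFiniteLength A ((A ⧸ p) ⧸ LinearMap.range (LinearMap.lsmul A (A ⧸ p) f)) :=
    isFiniteLength_of_killed_pow _ k (fun a ha y => hNkill a (hk ha) y)
  haveI hNne : Nontrivial ((A ⧸ p) ⧸ LinearMap.range (LinearMap.lsmul A (A ⧸ p) f)) := by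
    by_contra hcon
    rw [not_nontrivial_iff_subsingleton] at hcon
    have h0 : (LinearMap.range (LinearMap.lsmul A (A ⧸ p) f)).mkQ (Ideal.Quotient.mk p 1) = 0 :=
      Subsingleton.elim _ _
    rw [Submodule.mkQ_apply, Submodule.Quotient.mk_eq_zero] at h0
    obtain ⟨x, hx⟩ := h0
    obtain ⟨x', rfl⟩ := Ideal.Quotient.mk_surjective x
    have h1 : Ideal.Quotient.mk p (f * x') = Ideal.Quotient.mk p 1 := hx
    rw [Ideal.Quotient.eq] at h1
    have h2 : f * x' - 1 ∈ IsLocalRing.maximalIdeal A := hlt.le h1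
    have h3 : (1 : A) ∈ IsLocalRing.maximalIdeal A := by
      have := (IsLocalRing.maximalIdeal A).sub_mem
        ((IsLocalRing.maximalIdeal A).mul_mem_right x' hfm) h2
      rwa [sub_sub_cancel] at this
    exact (Ideal.IsMaximal.ne_top inferInstance) ((Ideal.eq_top_iff_one _).2 h3)
  have hN0 : ∀ j : ℤ, j ≠ 0 → Subsingleton (Dual.inD A ((A ⧸ p) ⧸ LinearMap.range
      (LinearMap.lsmul A (A ⧸ p) f)) ⟶ ω⟦j⟧) := fun j hj =>
    subsingleton_hom_of_isFiniteLength ω hn _ hNfl j hj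
  have hN1 : Nontrivial (Dual.inD A ((A ⧸ p) ⧸ LinearMap.range
      (LinearMap.lsmul A (A ⧸ p) f)) ⟶ ω⟦(0 : ℤ)⟧) := by
    obtain ⟨E, _, _, g, hg⟩ := Groth.Agent.S0299.result A (IsLocalRing.ResidueField A)
    obtain ⟨-, ⟨l⟩⟩ := ext_finiteLength_normalized ω hω hn E g hg _ hNfl
    haveI := exists_ne_zero_linearMap_of_injective ((A ⧸ p) ⧸ LinearMap.range
      (LinearMap.lsmul A (A ⧸ p) f)) E g hg.injective
    exact ((postcompEquivLin ((shiftFunctorZero (Dual.D A) ℤ).app ω) _).trans l).toEquiv.nontrivial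
  -- vanishing for `j ≠ -1`
  have hvan : ∀ j : ℤ, j ≠ -1 → Subsingleton (Dual.inD A (A ⧸ p) ⟶ ω⟦j⟧) := by
    intro j hj
    have hsurj := smul_surjective_of_subsingleton ω f hf j (hN0 (j + 1) (by omega))
    haveI := finite_hom_inD_of_isDualizing ω hω (A ⧸ p) j
    have hbot : (⊤ : Submodule A (Dual.inD A (A ⧸ p) ⟶ ω⟦j⟧)) = ⊥ := by
      refine Submodule.eq_bot_of_le_smul_of_le_jacobson_bot (Ideal.span {f}) _
        Module.Finite.fg_top ?_ ?_
      · intro e _
        obtain ⟨e', rfl⟩ := hsurj e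
        exact Submodule.smul_mem_smul (Ideal.mem_span_singleton_self f) Submodule.mem_top
      · rw [IsLocalRing.jacobson_eq_maximalIdeal ⊥ bot_ne_top, Ideal.span_singleton_le_iff_mem]
        exact hfm
    exact ⟨fun x y => by
      have hx : x ∈ (⊥ : Submodule A (Dual.inD A (A ⧸ p) ⟶ ω⟦j⟧)) := hbot ▸ Submodule.mem_top
      have hy : y ∈ (⊥ : Submodule A (Dual.inD A (A ⧸ p) ⟶ ω⟦j⟧)) := hbot ▸ Submodule.mem_top
      rw [(Submodule.mem_bot A).1 hx, (Submodule.mem_bot A).1 hy]⟩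
  constructor
  · intro h
    by_contra hi
    haveI := hvan i hi
    exact not_subsingleton _ (inferInstance :
      Subsingleton (LocalizedModule p.primeCompl (Dual.inD A (A ⧸ p) ⟶ ω⟦i⟧)))
  · rintro rfl
    have hne : Nontrivial (Dual.inD A (A ⧸ p) ⟶ ω⟦(-1 : ℤ)⟧) :=
      nontrivial_of_connecting ω f hf (-1) (hvan (-1 + 1) (by omega)) hN1
    have hinj := smul_injective_of_subsingleton ω f hf (-1) (hN0 (-1) (by omega))
    haveI := finite_hom_inD_of_isDualizing ω hω (A ⧸ p) (-1)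
    have hsupp : (⟨p, hpp⟩ : PrimeSpectrum A) ∈
        Module.support A (Dual.inD A (A ⧸ p) ⟶ ω⟦(-1 : ℤ)⟧) := by
      rw [Module.mem_support_iff_of_finite]
      intro s hs
      by_contra hsp
      change s ∉ p at hsp
      obtain ⟨k', hk'⟩ := exists_pow_le_of_primes (p ⊔ Ideal.span {s}) (hprimes s hsp)
      have hJkill : ∀ a ∈ p ⊔ Ideal.span {s}, ∀ e : Dual.inD A (A ⧸ p) ⟶ ω⟦(-1 : ℤ)⟧,
          a • e = 0 := by
        intro a ha e
        obtain ⟨b, hb, c, hc, rfl⟩ := Submodule.mem_sup.1 ha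
        obtain ⟨d, rfl⟩ := Ideal.mem_span_singleton'.1 hc
        rw [add_smul, hpkill (-1) b hb e, zero_add, mul_smul,
          Module.mem_annihilator.1 hs e, smul_zero]
      have hfk : ∀ e : Dual.inD A (A ⧸ p) ⟶ ω⟦(-1 : ℤ)⟧, f ^ k' • e = 0 := fun e =>
        hJkill _ (hk' (Ideal.pow_mem_pow hfm k')) e
      have hzero : ∀ (n : ℕ) (e : Dual.inD A (A ⧸ p) ⟶ ω⟦(-1 : ℤ)⟧), f ^ n • e = 0 → e = 0 := by
        intro n
        induction n with
        | zero => intro e he; simpa using he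
        | succ n ih =>
          intro e he
          rw [pow_succ, mul_smul] at he
          exact hinj e (ih _ he)
      obtain ⟨e, he⟩ := exists_ne (0 : Dual.inD A (A ⧸ p) ⟶ ω⟦(-1 : ℤ)⟧)
      exact he (hzero k' e (hfk e))
    exact Module.mem_support_iff.1 hsupp

end Cov

end Groth.Agent.Lib.Helper8.Bidual
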