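import Mathlib
import Groth.Agent.Lib.Helper8.Dim2

/-! # Helper8 — Dim3: the dimension function of a dualizing complex over a noetherian ring (S1722): `Ext^i(A/p, ω)_p ≠ 0` for exactly one `i = n(p)`, and `n(p) = n(q) - 1` for an immediate specialization `p ⋖ q` (localize at `q`, apply the local covering lemma Dim2, transfer back by `B`-linear Ext flat base change and transitivity of localization of modules) -/

set_option autoImplicit false

universe u v

open CategoryTheory CategoryTheory.Limits CategoryTheory.Pretriangulated Opposite DerivedCategory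
  TensorProduct

attribute [local instance] HasDerivedCategory.standard

namespace Groth.Agent.Lib.Helper8.Bidual

open Groth.Agent.Lib.Helper8 Groth.Agent.Lib.Helper16.FlatBC

section ModTransfer

variable {A : Type u} [CommRing A] (q : Ideal A) [q.IsPrime] (p : Ideal A) [hpp : p.IsPrime]
  (hpq : p ≤ q) (M : Type v) [AddCommGroup M] [Module A M] [Module.Finite A M]

include hpq in
/-- localizing at `p ⊆ q` factors through localizing at `q` -/
lemma nontrivial_localized_baseChange_iff
    [hp' : (p.map (algebraMap A (Localization.AtPrime q))).IsPrime] :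
    Nontrivial (LocalizedModule (p.map (algebraMap A (Localization.AtPrime q))).primeCompl
      ((Localization.AtPrime q) ⊗[A] M)) ↔ Nontrivial (LocalizedModule p.primeCompl M) := by
  have hdisj : Disjoint (q.primeCompl : Set A) (p : Set A) := by
    rw [Set.disjoint_left]
    intro x hx hxp
    exact hx (hpq hxp)
  have hcomap : (p.map (algebraMap A (Localization.AtPrime q))).comap
      (algebraMap A (Localization.AtPrime q)) = p :=
    IsLocalization.under_map_of_isPrime_disjoint q.primeCompl (Localization.AtPrime q) hpp hdisj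
  have h1 : Nontrivial (LocalizedModule p.primeCompl M) ↔ Module.annihilator A M ≤ p := by
    rw [← Module.mem_support_iff (p := ⟨p, hpp⟩), Module.mem_support_iff_of_finite]
  have h2 : Nontrivial (LocalizedModule (p.map (algebraMap A (Localization.AtPrime q))).primeCompl
      ((Localization.AtPrime q) ⊗[A] M)) ↔
      Module.annihilator (Localization.AtPrime q) ((Localization.AtPrime q) ⊗[A] M) ≤
        p.map (algebraMap A (Localization.AtPrime q)) := by
    rw [← Module.mem_support_iff (p := ⟨p.map (algebraMap A (Localization.AtPrime q)), hp'⟩),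
      Module.mem_support_iff_of_finite]
  rw [h1, h2]
  constructor
  · intro h a ha
    rw [← hcomap, Ideal.mem_comap]
    refine h (Module.mem_annihilator.2 (fun z => ?_))
    induction z using TensorProduct.induction_on with
    | zero => rw [smul_zero]
    | tmul b x =>
      rw [TensorProduct.smul_tmul', smul_eq_mul, ← Algebra.smul_def, TensorProduct.smul_tmul,
        Module.mem_annihilator.1 ha x, TensorProduct.tmul_zero]
    | add y z hy hz => rw [smul_add, hy, hz, add_zero]
  · intro h t ht
    obtain ⟨a, s, rfl⟩ := IsLocalization.exists_mk'_eq q.primeCompl t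
    -- `a/1` kills `B ⊗ M`
    have ha : ∀ x : M, ∃ u : q.primeCompl, (u : A) • (a • x) = 0 := by
      intro x
      have h0 := Module.mem_annihilator.1 ht ((1 : Localization.AtPrime q) ⊗ₜ[A] x)
      have h3 : (algebraMap A (Localization.AtPrime q) a) •
          ((1 : Localization.AtPrime q) ⊗ₜ[A] x) = 0 := by
        have h4 : algebraMap A (Localization.AtPrime q) a =
            algebraMap A (Localization.AtPrime q) s *
              IsLocalization.mk' (Localization.AtPrime q) a s := by
          rw [IsLocalization.mul_mk'_eq_mk'_of_mul, IsLocalization.mk'_mul_cancel_left]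
        rw [h4, mul_smul, h0, smul_zero]
      rw [← algebra_compatible_smul, ← TensorProduct.tmul_smul] at h3
      exact (IsLocalizedModule.eq_zero_iff q.primeCompl
        (TensorProduct.mk A (Localization.AtPrime q) M 1)).1 h3
    -- a common denominator
    obtain ⟨S, hS⟩ := (Module.Finite.fg_top : (⊤ : Submodule A M).FG)
    choose u hu using ha
    let w : A := ∏ x ∈ S, (u x : A)
    have hw : w ∉ q := fun hwq => by
      obtain ⟨x, -, hx⟩ := (Ideal.IsPrime.prod_mem_iff (hp := ‹q.IsPrime›)).1 hwq
      exact (u x).2 hx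
    have hwa : w * a ∈ Module.annihilator A M := by
      rw [Module.mem_annihilator]
      intro y
      have hy : y ∈ Submodule.span A (S : Set M) := hS ▸ Submodule.mem_top
      induction hy using Submodule.span_induction with
      | mem x hx =>
        obtain ⟨c, hc⟩ := Finset.dvd_prod_of_mem (fun x => (u x : A)) hx
        change (w * a) • x = 0
        rw [show w = c * (u x : A) from hc.trans (mul_comm _ _), mul_assoc, mul_smul, mul_smul,
          hu x, smul_zero]
      | zero => rw [smul_zero]
      | add y z _ _ hy hz => rw [smul_add, hy, hz, add_zero]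
      | smul c y _ hy => rw [smul_comm, hy, smul_zero]
    have hap : a ∈ p := (hpp.mem_or_mem (h hwa)).resolve_left (fun hwp => hw (hpq hwp))
    rw [IsLocalization.mk'_mem_map_algebraMap_iff q.primeCompl]
    exact ⟨1, q.primeCompl.one_mem, by simpa using hap⟩

end ModTransfer

section BC

variable {A B : Type u} [CommRing A] [CommRing B] [Algebra A B] [Module.Flat A B]
  [IsNoetherianRing A]

/-- `B`-linear Ext flat base change for a cyclic module -/
theorem nonempty_bcLinearEquiv_quot (I : Ideal A) (L : Dual.D A) (hL : ∃ c : ℤ, L.IsGE c) (i : ℤ) :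
    Nonempty (B ⊗[A] (Dual.inD A (A ⧸ I) ⟶ L⟦i⟧) ≃ₗ[B]
      (Dual.inD B (B ⧸ I.map (algebraMap A B)) ⟶ ((ε (algebraMap A B)).obj L)⟦i⟧)) := by
  obtain ⟨Θ, hΘ⟩ := EFB.exists_bcEquiv_shift (B := B) (Dual.inD A (A ⧸ I)) L
    ⟨0, fun j hj => EFB.subsingleton_HD_inD (A ⧸ I) j (by omega)⟩
    (fun j => EFB.finite_HD_inD (A ⧸ I) j) hL i
  have hlin : ∀ (c : B) (z : B ⊗[A] (Dual.inD A (A ⧸ I) ⟶ L⟦i⟧)), Θ (c • z) = c • Θ z := by
    intro c z
    induction z using TensorProduct.induction_on with
    | zero => rw [smul_zero, map_zero, smul_zero]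
    | tmul b f => rw [TensorProduct.smul_tmul', hΘ, hΘ, smul_eq_mul, mul_smul]
    | add y z hy hz => rw [smul_add, map_add, map_add, hy, hz, smul_add]
  let Θl : B ⊗[A] (Dual.inD A (A ⧸ I) ⟶ L⟦i⟧) ≃ₗ[B]
      ((ε (algebraMap A B)).obj (Dual.inD A (A ⧸ I)) ⟶ ((ε (algebraMap A B)).obj L)⟦i⟧) :=
    { Θ with map_smul' := hlin }
  let e1 : (B ⧸ I.map (algebraMap A B)) ≃ₗ[B] B ⊗[A] (A ⧸ I) :=
    Algebra.TensorProduct.quotIdealMapEquivTensorQuotAux B I
  let e2 : Dual.inD B (B ⧸ I.map (algebraMap A B)) ≅ Dual.inD B (B ⊗[A] (A ⧸ I)) :=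
    (singleFunctor (ModuleCat.{u} B) 0).mapIso e1.toModuleIso
  exact ⟨Θl.trans ((EFB.precompEquivLin (inDExtIso (B := B) (A ⧸ I)) _).trans
    (EFB.precompEquivLin e2 _))⟩

end BC

section Deg

variable {A : Type u} [CommRing A] [IsNoetherianRing A]

/-- over a local ring: the degree of `Ext^•(κ, ω)` -/
theorem exists_residue_degree [IsLocalRing A] (ω : Dual.D A) (hω : Dual.IsDualizing A ω) :
    ∃ n : ℤ, ∀ i : ℤ, Nontrivial (Dual.inD A (IsLocalRing.ResidueField A) ⟶ ω⟦i⟧) ↔ i = n := by
  obtain ⟨n, h1, ⟨h2⟩⟩ := ext_field_single_degree (A := A) (B := IsLocalRing.ResidueField A) ω hω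
  let eM : IsLocalRing.ResidueField A ≃ₗ[A] BA (algebraMap A (IsLocalRing.ResidueField A)) :=
    Groth.Agent.Lib.Helper16.FlatBC.bEquiv (A := A) (B := IsLocalRing.ResidueField A)
  let j : Dual.inD A (IsLocalRing.ResidueField A) ≅
      Dual.inD A (BA (algebraMap A (IsLocalRing.ResidueField A))) :=
    (singleFunctor (ModuleCat.{u} A) 0).mapIso eM.toModuleIso
  refine ⟨n, fun i => ⟨fun h => ?_, ?_⟩⟩
  · by_contra hi
    haveI := h1 i hi
    haveI : Subsingleton (Dual.inD A (IsLocalRing.ResidueField A) ⟶ ω⟦i⟧) :=
      (EFB.precompEquivLin j.symm (ω⟦i⟧)).toEquiv.subsingleton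
    exact not_subsingleton _ ‹_›
  · rintro rfl
    exact ((EFB.precompEquivLin j.symm (ω⟦i⟧)).trans (h2.trans eM.symm)).toEquiv.nontrivial

variable (p : Ideal A) [hpp : p.IsPrime]

/-- `Ext^i(A/p, ω)_p ≠ 0` iff `Ext^i(κ(p), ω_p) ≠ 0` -/
theorem nontrivial_localized_ext_iff (ω : Dual.D A) (hω : Dual.IsDualizing A ω) (i : ℤ) :
    Nontrivial (LocalizedModule p.primeCompl (Dual.inD A (A ⧸ p) ⟶ ω⟦i⟧)) ↔
      Nontrivial (Dual.inD (Localization.AtPrime p)
        (IsLocalRing.ResidueField (Localization.AtPrime p)) ⟶
          ((ε (algebraMap A (Localization.AtPrime p))).obj ω)⟦i⟧) := by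
  obtain ⟨Φ⟩ := nonempty_bcLinearEquiv_quot (B := Localization.AtPrime p) p ω
    (exists_isGE_of_isDualizing ω hω) i
  let e2 : (Localization.AtPrime p) ⊗[A] (Dual.inD A (A ⧸ p) ⟶ ω⟦i⟧) ≃ₗ[Localization.AtPrime p]
      LocalizedModule p.primeCompl (Dual.inD A (A ⧸ p) ⟶ ω⟦i⟧) :=
    (IsLocalizedModule.isBaseChange p.primeCompl (Localization.AtPrime p)
      (LocalizedModule.mkLinearMap p.primeCompl (Dual.inD A (A ⧸ p) ⟶ ω⟦i⟧))).equiv
  let e3 : ((Localization.AtPrime p) ⧸ p.map (algebraMap A (Localization.AtPrime p)))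
      ≃ₗ[Localization.AtPrime p] IsLocalRing.ResidueField (Localization.AtPrime p) :=
    (Submodule.quotEquivOfEq _ _ (Localization.AtPrime.map_eq_maximalIdeal (I := p))).trans
      (EFB.residueEquiv (Localization.AtPrime p))
  let j : Dual.inD (Localization.AtPrime p)
      ((Localization.AtPrime p) ⧸ p.map (algebraMap A (Localization.AtPrime p))) ≅
      Dual.inD (Localization.AtPrime p) (IsLocalRing.ResidueField (Localization.AtPrime p)) :=
    (singleFunctor (ModuleCat.{u} (Localization.AtPrime p)) 0).mapIso e3.toModuleIso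
  exact (e2.symm.trans (Φ.trans (EFB.precompEquivLin j.symm _))).toEquiv.nontrivial_congr

/-- the degree function `n(p)` with `Ext^i(A/p, ω)_p ≠ 0 ↔ i = n(p)` -/
theorem exists_localized_ext_degree (ω : Dual.D A) (hω : Dual.IsDualizing A ω) :
    ∃ n : ℤ, ∀ i : ℤ,
      Nontrivial (LocalizedModule p.primeCompl (Dual.inD A (A ⧸ p) ⟶ ω⟦i⟧)) ↔ i = n := by
  obtain ⟨n, hn⟩ := exists_residue_degree _ (isDualizing_ε_atPrime p ω hω)
  exact ⟨n, fun i => (nontrivial_localized_ext_iff p ω hω i).trans (hn i)⟩

omit [IsNoetherianRing A] hpp in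
lemma nontrivial_localizedModule_congr {R : Type u} [CommRing R] (r : Ideal R) [hr : r.IsPrime]
    {M : Type*} {N : Type*} [AddCommGroup M] [Module R M] [AddCommGroup N] [Module R N]
    (e : M ≃ₗ[R] N) :
    Nontrivial (LocalizedModule r.primeCompl M) ↔ Nontrivial (LocalizedModule r.primeCompl N) := by
  rw [← Module.mem_support_iff (p := ⟨r, hr⟩), ← Module.mem_support_iff (p := ⟨r, hr⟩),
    e.support_eq]

/-- the degree drops by one along an immediate specialization -/
theorem degree_covBy (ω : Dual.D A) (hω : Dual.IsDualizing A ω) (q : Ideal A) [hqq : q.IsPrime]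
    (hlt : p < q) (hcov : ∀ r : Ideal A, r.IsPrime → p ≤ r → r ≤ q → r = p ∨ r = q)
    (np nq : ℤ)
    (hnp : ∀ i : ℤ,
      Nontrivial (LocalizedModule p.primeCompl (Dual.inD A (A ⧸ p) ⟶ ω⟦i⟧)) ↔ i = np)
    (hnq : ∀ i : ℤ,
      Nontrivial (LocalizedModule q.primeCompl (Dual.inD A (A ⧸ q) ⟶ ω⟦i⟧)) ↔ i = nq) :
    np = nq - 1 := by
  have hωB := isDualizing_ε_atPrime q ω hω
  have hq' : ∀ i : ℤ, Nontrivial (Dual.inD (Localization.AtPrime q)
      (IsLocalRing.ResidueField (Localization.AtPrime q)) ⟶
        ((ε (algebraMap A (Localization.AtPrime q))).obj ω)⟦i⟧) ↔ i = nq := fun i =>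
    (nontrivial_localized_ext_iff q ω hω i).symm.trans (hnq i)
  have hω' := isDualizing_shift _ hωB nq
  have hn' : Dual.IsNormalized (Localization.AtPrime q)
      (((ε (algebraMap A (Localization.AtPrime q))).obj ω)⟦nq⟧) := by
    intro i hi
    rw [← not_nontrivial_iff_subsingleton]
    intro h
    have h1 : Nontrivial (Dual.inD (Localization.AtPrime q)
        (IsLocalRing.ResidueField (Localization.AtPrime q)) ⟶
          ((ε (algebraMap A (Localization.AtPrime q))).obj ω)⟦nq + i⟧) :=
      @Equiv.nontrivial _ _ (postcompEquivLin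
        ((shiftFunctorAdd' (Dual.D (Localization.AtPrime q)) nq i (nq + i) rfl).app
        ((ε (algebraMap A (Localization.AtPrime q))).obj ω)) _).toEquiv h
    have := (hq' (nq + i)).1 h1
    omega
  have hdisj : Disjoint (q.primeCompl : Set A) (p : Set A) := by
    rw [Set.disjoint_left]
    intro x hx hxp
    exact hx (hlt.le hxp)
  haveI hp' : (p.map (algebraMap A (Localization.AtPrime q))).IsPrime :=
    IsLocalization.isPrime_of_isPrime_disjoint q.primeCompl (Localization.AtPrime q) p hpp hdisj
  have hcomap : (p.map (algebraMap A (Localization.AtPrime q))).comap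
      (algebraMap A (Localization.AtPrime q)) = p :=
    IsLocalization.under_map_of_isPrime_disjoint q.primeCompl (Localization.AtPrime q) hpp hdisj
  have hne : p.map (algebraMap A (Localization.AtPrime q)) ≠
      IsLocalRing.maximalIdeal (Localization.AtPrime q) := by
    intro h
    have h1 := congrArg (Ideal.comap (algebraMap A (Localization.AtPrime q))) h
    have h2 : (IsLocalRing.maximalIdeal (Localization.AtPrime q)).comap
        (algebraMap A (Localization.AtPrime q)) = q :=
      Localization.AtPrime.under_maximalIdeal (I := q)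
    rw [hcomap, h2] at h1
    exact hlt.ne h1
  have hcov' : ∀ r' : Ideal (Localization.AtPrime q), r'.IsPrime →
      p.map (algebraMap A (Localization.AtPrime q)) ≤ r' →
      r' = p.map (algebraMap A (Localization.AtPrime q)) ∨
        r' = IsLocalRing.maximalIdeal (Localization.AtPrime q) := by
    intro r' hr' hle
    have h1 : p ≤ r'.comap (algebraMap A (Localization.AtPrime q)) := by
      rw [← hcomap]; exact Ideal.comap_mono hle
    have h2 : r'.comap (algebraMap A (Localization.AtPrime q)) ≤ q := by
      have h4 : (IsLocalRing.maximalIdeal (Localization.AtPrime q)).comap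
          (algebraMap A (Localization.AtPrime q)) = q :=
        Localization.AtPrime.under_maximalIdeal (I := q)
      exact (Ideal.comap_mono (IsLocalRing.le_maximalIdeal hr'.ne_top)).trans h4.le
    have h3 : (r'.comap (algebraMap A (Localization.AtPrime q))).map
        (algebraMap A (Localization.AtPrime q)) = r' :=
      IsLocalization.map_under q.primeCompl (Localization.AtPrime q) r'
    rcases hcov _ (hr'.comap _) h1 h2 with h | h
    · left; rw [← h3, h]
    · right; rw [← h3, h, Localization.AtPrime.map_eq_maximalIdeal]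
  have key := nontrivial_localized_ext_iff_of_covBy _ hω' hn'
    (p.map (algebraMap A (Localization.AtPrime q))) hne hcov'
  have key2 : ∀ j : ℤ, Nontrivial (LocalizedModule
      (p.map (algebraMap A (Localization.AtPrime q))).primeCompl
      (Dual.inD (Localization.AtPrime q)
        ((Localization.AtPrime q) ⧸ p.map (algebraMap A (Localization.AtPrime q))) ⟶
        ((ε (algebraMap A (Localization.AtPrime q))).obj ω)⟦j⟧)) ↔ j = nq - 1 := by
    intro j
    have e := nontrivial_localizedModule_congr (p.map (algebraMap A (Localization.AtPrime q)))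
      (postcompEquivLin
        ((shiftFunctorAdd' (Dual.D (Localization.AtPrime q)) nq (j - nq) j (by omega)).app
          ((ε (algebraMap A (Localization.AtPrime q))).obj ω))
        (Dual.inD (Localization.AtPrime q)
          ((Localization.AtPrime q) ⧸ p.map (algebraMap A (Localization.AtPrime q)))))
    exact e.trans ((key (j - nq)).trans ⟨fun h => by omega, fun h => by omega⟩)
  have key3 : ∀ j : ℤ, j = np ↔ j = nq - 1 := by
    intro j
    obtain ⟨Φ⟩ := nonempty_bcLinearEquiv_quot (B := Localization.AtPrime q) p ω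
      (exists_isGE_of_isDualizing ω hω) j
    haveI := finite_hom_inD_of_isDualizing ω hω (A ⧸ p) j
    rw [← hnp j, ← key2 j, ← nontrivial_localizedModule_congr _ Φ]
    exact (nontrivial_localized_baseChange_iff q p hlt.le _).symm
  exact (key3 np).1 rfl

end Deg

section DimFun

variable {A : Type u} [CommRing A] [IsNoetherianRing A]

/-- S1722: the dimension function of a dualizing complex -/
theorem exists_dimension_function (ω : Dual.D A) (hω : Dual.IsDualizing A ω) :
    ∃ δ : PrimeSpectrum A → ℤ,
      (∀ (p : PrimeSpectrum A) (i : ℤ),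
        Nontrivial (LocalizedModule p.asIdeal.primeCompl
          (Dual.inD A (A ⧸ p.asIdeal) ⟶ ω⟦i⟧)) ↔ i = -δ p) ∧
      ∀ p q : PrimeSpectrum A, p ⋖ q → δ p = δ q + 1 := by
  choose n hn using fun p : PrimeSpectrum A => exists_localized_ext_degree p.asIdeal ω hω
  refine ⟨fun p => -n p, fun p i => by rw [neg_neg]; exact hn p i, fun p q hpq => ?_⟩
  have hlt : p.asIdeal < q.asIdeal := hpq.lt
  have hcov : ∀ r : Ideal A, r.IsPrime → p.asIdeal ≤ r → r ≤ q.asIdeal →
      r = p.asIdeal ∨ r = q.asIdeal := by
    intro r hr h1 h2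
    have h3 := hpq.eq_or_eq (c := (⟨r, hr⟩ : PrimeSpectrum A)) h1 h2
    rcases h3 with h | h
    · left; exact congrArg PrimeSpectrum.asIdeal h
    · right; exact congrArg PrimeSpectrum.asIdeal h
  have h := degree_covBy p.asIdeal ω hω q.asIdeal hlt hcov (n p) (n q) (hn p) (hn q)
  change -n p = -n q + 1
  omega

end DimFun

end Groth.Agent.Lib.Helper8.Bidual
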