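import Mathlib
import Groth.Agent.Lib.Helper8.Dim3

/-! # Helper8 — Dim4: a dimension function on the spectrum of a noetherian ring is strictly decreasing under strict specialization; a noetherian ring with a dualizing complex has finite Krull dimension (S0371) -/

set_option autoImplicit false

universe u

open CategoryTheory CategoryTheory.Limits CategoryTheory.Pretriangulated Opposite DerivedCategory

attribute [local instance] HasDerivedCategory.standard

namespace Groth.Agent.Lib.Helper8.Bidual

open Groth.Agent.Lib.Helper8

section KDim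

variable {A : Type u} [CommRing A] [IsNoetherianRing A]

/-- a dimension function is strictly decreasing along strict specializations -/
lemma dimFun_strictAnti (δ : PrimeSpectrum A → ℤ)
    (h2 : ∀ p q : PrimeSpectrum A, p ⋖ q → δ p = δ q + 1) :
    ∀ p q : PrimeSpectrum A, p < q → δ q + 1 ≤ δ p := by
  haveI : WellFoundedGT (PrimeSpectrum A) :=
    StrictMono.wellFoundedGT (f := PrimeSpectrum.asIdeal)
      (fun x y h => (PrimeSpectrum.asIdeal_lt_asIdeal x y).2 h)
  have hmono : ∀ (n : ℕ) (p q : PrimeSpectrum A), p < q → q.asIdeal.height ≤ n →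
      δ q + 1 ≤ δ p := by
    intro n
    induction n with
    | zero =>
      intro p q hpq hq
      exfalso
      have h1 : p.asIdeal.height < q.asIdeal.height :=
        Ideal.height_strict_mono_of_isPrime ((PrimeSpectrum.asIdeal_lt_asIdeal p q).2 hpq)
      have h3 : q.asIdeal.height = 0 := le_antisymm (by exact_mod_cast hq) zero_le
      rw [h3] at h1
      exact not_lt_zero h1
    | succ n ih =>
      intro p q hpq hq
      obtain ⟨x, hpx, hxq⟩ := exists_le_covBy_of_lt hpq
      have hx := h2 x q hxq
      rcases hpx.eq_or_lt with rfl | hlt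
      · omega
      · have hxh : x.asIdeal.height ≤ n := by
          have h1 : x.asIdeal.height < q.asIdeal.height :=
            Ideal.height_strict_mono_of_isPrime ((PrimeSpectrum.asIdeal_lt_asIdeal x q).2 hxq.lt)
          have h3 : x.asIdeal.height < (n : ℕ∞) + 1 := lt_of_lt_of_le h1 (by exact_mod_cast hq)
          exact (ENat.lt_add_one_iff (ENat.natCast_ne_top n)).1 h3
        have := ih p x hlt hxh
        omega
  intro p q hpq
  have hfin : q.asIdeal.height ≠ ⊤ := Ideal.height_ne_top_of_isPrime
  exact hmono q.asIdeal.height.toNat p q hpq (le_of_eq (ENat.natCast_toNat hfin).symm)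

/-- S0371: a noetherian ring with a dualizing complex has finite Krull dimension -/
theorem ringKrullDim_lt_top_of_isDualizing (ω : Dual.D A) (hω : Dual.IsDualizing A ω) :
    ringKrullDim A < ⊤ := by
  obtain ⟨δ, h1, h2⟩ := exists_dimension_function ω hω
  obtain ⟨a, b, hab⟩ := hω.finite_injective_dimension
  have hbd : ∀ p : PrimeSpectrum A, a ≤ -δ p ∧ -δ p ≤ b := by
    intro p
    have hnt := (h1 p (-δ p)).2 rfl
    by_contra hcon
    have h3 : (-δ p < a ∨ b < -δ p) := by omega
    haveI := hab (A ⧸ p.asIdeal) (-δ p) h3
    have h4 : Subsingleton (LocalizedModule p.asIdeal.primeCompl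
        (Dual.inD A (A ⧸ p.asIdeal) ⟶ ω⟦-δ p⟧)) := inferInstance
    exact not_subsingleton _ h4
  have hanti := dimFun_strictAnti δ h2
  have hlen : ∀ l : LTSeries (PrimeSpectrum A), (l.length : ℤ) ≤ b - a := by
    intro l
    have hk : ∀ (k : ℕ) (hk : k < l.length + 1), δ (l ⟨k, hk⟩) + k ≤ δ (l 0) := by
      intro k
      induction k with
      | zero => intro hk; simp
      | succ k ih =>
        intro hk
        have h3 := ih (by omega)
        have h4 : l ⟨k, by omega⟩ < l ⟨k + 1, hk⟩ := l.strictMono (by simp [Fin.lt_def])
        have h5 := hanti _ _ h4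
        push_cast
        omega
    have h6 := hk l.length (by omega)
    have h7 := hbd (l 0)
    have h8 := hbd (l ⟨l.length, by omega⟩)
    omega
  have hle : ringKrullDim A ≤ ((b - a).toNat : ℕ∞) := by
    unfold ringKrullDim Order.krullDim
    refine iSup_le (fun l => ?_)
    have := hlen l
    have h9 : l.length ≤ (b - a).toNat := by omega
    exact_mod_cast h9
  exact lt_of_le_of_lt hle (WithBot.coe_lt_coe.2 (ENat.natCast_lt_top _))

end KDim

end Groth.Agent.Lib.Helper8.Bidual
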