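import Mathlib
import Groth.Prelude.Def_Found
import Groth.Agent.Lib.Helper8.Dim4

/-! # Helper8 — dualizing complexes force (universal) catenarity

`isCatenary_of_dimFun`, `isDualizing_coextCx` (`Hom_A(B, I)` is dualizing over a finite
`A`-algebra `B`, no adjoint functor needed), `exists_isDualizing_of_finite`,
`isCatenary_of_isDualizing`, `isUniversallyCatenary_of_isDualizing` (S1721). -/

set_option autoImplicit false

universe u

open CategoryTheory CategoryTheory.Limits CategoryTheory.Pretriangulated Opposite DerivedCategory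

attribute [local instance] HasDerivedCategory.standard

namespace Groth.Agent.Lib.Helper8.Bidual

open Groth.Agent.Lib.Helper8 Groth.Agent.Lib.Helper16.FlatBC

section Cat

variable {S : Type u} [CommRing S] [IsNoetherianRing S]

/-- a noetherian ring with a dimension function is catenary -/
theorem isCatenary_of_dimFun (δ : PrimeSpectrum S → ℤ)
    (h2 : ∀ p q : PrimeSpectrum S, p ⋖ q → δ p = δ q + 1) : CAlg.IsCatenary S := by
  have hanti := dimFun_strictAnti δ h2
  have hle : ∀ l : LTSeries (PrimeSpectrum S), δ l.last + l.length ≤ δ l.head := by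
    intro l
    have hk : ∀ (k : ℕ) (hk : k < l.length + 1), δ (l ⟨k, hk⟩) + k ≤ δ (l 0) := by
      intro k
      induction k with
      | zero => intro hk; simp
      | succ k ih =>
        intro hk
        have h3 := ih (by omega)
        have h4 : l ⟨k, by omega⟩ < l ⟨k + 1, hk⟩ := l.strictMono (by simp [Fin.lt_def])
        have h5 := hanti _ _ h4
        push_cast
        omega
    exact hk l.length (by omega)
  have heq : ∀ l : LTSeries (PrimeSpectrum S),
      (∀ i : Fin l.length, l (Fin.castSucc i) ⋖ l (Fin.succ i)) →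
      δ l.last + l.length = δ l.head := by
    intro l hl
    have hk : ∀ (k : ℕ) (hk : k < l.length + 1), δ (l ⟨k, hk⟩) + k = δ (l 0) := by
      intro k
      induction k with
      | zero => intro hk; simp
      | succ k ih =>
        intro hk
        have h3 := ih (by omega)
        have h5 := h2 _ _ (hl ⟨k, by omega⟩)
        have h6 : δ (l ⟨k, by omega⟩) = δ (l ⟨k + 1, hk⟩) + 1 := h5
        push_cast
        omega
    exact hk l.length (by omega)
  refine ⟨fun p q _ => ⟨(δ p - δ q).toNat, fun s hs hs' => ?_⟩, fun s t hh hl hs ht => ?_⟩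
  · have := hle s
    rw [hs, hs'] at this
    omega
  · have h3 := heq s hs
    have h4 := heq t ht
    rw [hh, hl] at h3
    omega

end Cat

section Model

variable {A B : Type u} [CommRing A] [CommRing B] [Algebra A B] [IsNoetherianRing A]
  [IsNoetherianRing B] [Module.Finite A B]

/-- for a finite map of noetherian rings and a bounded injective model `I` of a dualizing complex
over `A`, the complex `Hom_A(B, I)` is dualizing over `B` (no adjoint needed) -/
theorem isDualizing_coextCx (ω : Dual.D A) (hω : Dual.IsDualizing A ω)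
    (I : DRing.Cx A) (a b : ℤ) (hI : ∀ n : ℤ, Injective (I.X n))
    (hab : ∀ n : ℤ, n < a ∨ b < n → IsZero (I.X n)) (e : Q.obj I ≅ ω) :
    Dual.IsDualizing B (Q.obj ((coextCx (algebraMap A B)).obj I)) := by
  have hωI : Dual.IsDualizing A (Q.obj I) := EFB.isDualizing_of_iso e.symm hω
  haveI : Module.Finite A (BA (algebraMap A B)) :=
    Module.Finite.equiv (bEquiv (A := A) (B := B))
  refine ⟨inferInstance, ⟨a, b, fun M _ _ i hi => ?_⟩, fun i => ?_, ?_, ?_⟩
  · have hamp : IAmp.HasInjAmp a b (Q.obj ((coextCx (algebraMap A B)).obj I) : Dual.D B) :=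
      ⟨(coextCx (algebraMap A B)).obj I, fun n => by
        haveI := hI n
        exact injective_coext (algebraMap A B) (I.X n),
        fun n hn => (coext (algebraMap A B)).map_isZero (hab n hn), ⟨Iso.refl _⟩⟩
    exact ⟨fun x y => (hamp.hom_eq_zero _ i hi x).trans (hamp.hom_eq_zero _ i hi y).symm⟩
  · let E : (EFB.S₀ B ⟶ (Q.obj ((coextCx (algebraMap A B)).obj I) : Dual.D B)⟦i⟧) ≃ₗ[B]
        Dual.HD B (Q.obj ((coextCx (algebraMap A B)).obj I)) i :=
      (EFB.evEquiv _).trans
        (((homologyFunctor (ModuleCat.{u} B) 0).shiftIso i 0 i (add_zero _)).app _).toLinearEquiv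
    haveI : Module.Finite A (Dual.inD A (BA (algebraMap A B)) ⟶ (Q.obj I : Dual.D A)⟦i⟧) :=
      finite_hom_inD_of_isDualizing (Q.obj I) hωI (BA (algebraMap A B)) i
    haveI : Module.Finite B
        (EFB.S₀ B ⟶ (Q.obj ((coextCx (algebraMap A B)).obj I) : Dual.D B)⟦i⟧) :=
      RAdj.finite_of_semilinear (A := A) (B := B) _
        (Dual.inD A (BA (algebraMap A B)) ⟶ (Q.obj I : Dual.D A)⟦i⟧)
        (AddEquiv.ofBijective (AddMonoidHom.mk' (Gmap (algebraMap A B) I i)
          (Gmap_add (algebraMap A B) I i)) (Gmap_bijective (algebraMap A B) I hI a b hab i))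
        (fun x f => Gmap_smul (algebraMap A B) I i x f)
    exact Module.Finite.equiv E
  · exact toEnd_bijective_coext (algebraMap A B) I hI a b hab hωI.toEnd_bijective
      hωI.ext_self_subsingleton
  · exact ext_subsingleton_coext (algebraMap A B) I hI a b hab hωI.toEnd_bijective
      hωI.ext_self_subsingleton

/-- a finite algebra over a noetherian ring with a dualizing complex has a dualizing complex -/
theorem exists_isDualizing_of_finite (ω : Dual.D A) (hω : Dual.IsDualizing A ω) :
    ∃ ω' : Dual.D B, Dual.IsDualizing B ω' := by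
  obtain ⟨I, a, b, hI, hab, ⟨e⟩⟩ := exists_injective_model ω hω
  exact ⟨_, isDualizing_coextCx ω hω I a b hI hab e⟩

end Model

section UC

variable {A : Type u} [CommRing A] [IsNoetherianRing A]

/-- a noetherian ring with a dualizing complex is catenary -/
theorem isCatenary_of_isDualizing (ω : Dual.D A) (hω : Dual.IsDualizing A ω) :
    CAlg.IsCatenary A := by
  obtain ⟨δ, -, h2⟩ := exists_dimension_function ω hω
  exact isCatenary_of_dimFun δ h2

/-- S1721: a noetherian ring with a dualizing complex is universally catenary -/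
theorem isUniversallyCatenary_of_isDualizing (ω : Dual.D A) (hω : Dual.IsDualizing A ω) :
    CAlg.IsUniversallyCatenary A := by
  refine ⟨inferInstance, fun S _ _ hS => ?_⟩
  obtain ⟨n, f, hf⟩ := Algebra.FiniteType.iff_quotient_mvPolynomial''.1 hS
  have hP := isDualizing_ε_mvPolynomial ω hω n
  letI : Algebra (MvPolynomial (Fin n) A) S := f.toRingHom.toAlgebra
  haveI : Module.Finite (MvPolynomial (Fin n) A) S :=
    Module.Finite.of_surjective (Algebra.linearMap (MvPolynomial (Fin n) A) S) hf
  haveI : IsNoetherianRing S := isNoetherianRing_of_surjective _ _ f.toRingHom hf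
  obtain ⟨ω', hω'⟩ := exists_isDualizing_of_finite (A := MvPolynomial (Fin n) A) (B := S) _ hP
  exact isCatenary_of_isDualizing ω' hω'

end UC

end Groth.Agent.Lib.Helper8.Bidual
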