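import Mathlib
import Groth.Agent.Lib.Helper8.Dim5

/-! # Helper8 — Dim6: over an artinian local ring a dualizing complex whose `n`-shift is normalized lives
in degree `n`; for a local noetherian ring with dimension function `δ`, `δ(closed point) = 0`:
`dim A/p = δ p`. -/

set_option autoImplicit false

universe u

open CategoryTheory CategoryTheory.Limits CategoryTheory.Pretriangulated Opposite DerivedCategory

attribute [local instance] HasDerivedCategory.standard

namespace Groth.Agent.Lib.Helper8.Bidual

open Groth.Agent.Lib.Helper8 Groth.Agent.Lib.Helper16.FlatBC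

section Art

variable {A : Type u} [CommRing A] [IsLocalRing A] [IsNoetherianRing A] [IsArtinianRing A]

/-- over an artinian local ring, if `ω⟦n⟧` is normalized then `ω` has cohomology exactly in degree `n` -/
theorem nontrivial_HD_iff_of_isNormalized_shift (ω : Dual.D A) (hω : Dual.IsDualizing A ω) (n : ℤ)
    (hn : Dual.IsNormalized A (ω⟦n⟧)) (i : ℤ) : Nontrivial (Dual.HD A ω i) ↔ i = n := by
  obtain ⟨E, _, _, f, hf⟩ := Groth.Agent.S0299.result A (IsLocalRing.ResidueField A)
  obtain ⟨e⟩ := iso_injectiveHull_of_artinian (ω⟦n⟧) (isDualizing_shift ω hω n) hn E f hf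
  haveI : Nontrivial E := hf.injective.nontrivial
  have hE : ∀ j : ℤ, Nontrivial (Dual.HD A (Dual.inD A E) j) ↔ j = 0 := by
    intro j
    constructor
    · intro h
      by_contra hj
      haveI := EFB.subsingleton_HD_inD (A := A) E j hj
      exact not_subsingleton _ ‹_›
    · rintro rfl
      exact (EFB.HDinD (A := A) E).toEquiv.nontrivial
  let k : Dual.HD A ω i ≃ₗ[A] Dual.HD A (Dual.inD A E) (i - n) :=
    ((((homologyFunctor (ModuleCat.{u} A) 0).shiftIso n (i - n) i (by omega)).app ω).symm ≪≫
      (homologyFunctor (ModuleCat.{u} A) (i - n)).mapIso e).toLinearEquiv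
  rw [k.toEquiv.nontrivial_congr, hE]
  omega

end Art

section Loc

variable {A : Type u} [CommRing A] [IsLocalRing A] [IsNoetherianRing A]

/-- for a local noetherian ring with a dimension function `δ` vanishing at the closed point,
`dim A/p = δ p` -/
theorem ringKrullDim_quotient_eq_dimFun (δ : PrimeSpectrum A → ℤ)
    (h2 : ∀ p q : PrimeSpectrum A, p ⋖ q → δ p = δ q + 1)
    (h0 : δ (IsLocalRing.closedPoint A) = 0) (p : PrimeSpectrum A) :
    0 ≤ δ p ∧ ringKrullDim (A ⧸ p.asIdeal) = ((δ p).toNat : ℕ∞) := by
  have hanti := dimFun_strictAnti δ h2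
  have hle_m : ∀ q : PrimeSpectrum A, q ≤ IsLocalRing.closedPoint A := fun q =>
    IsLocalRing.le_maximalIdeal q.2.ne_top
  have hnonneg : ∀ q : PrimeSpectrum A, 0 ≤ δ q := by
    intro q
    rcases (hle_m q).eq_or_lt with rfl | hlt
    · omega
    · have := hanti _ _ hlt
      omega
  have hle : ∀ l : LTSeries (PrimeSpectrum A), δ l.last + l.length ≤ δ l.head := by
    intro l
    have hk : ∀ (k : ℕ) (hk : k < l.length + 1), δ (l ⟨k, hk⟩) + k ≤ δ (l 0) := by
      intro k
      induction k with
      | zero => intro hk; simp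
      | succ k ih =>
        intro hk
        have h3 := ih (by omega)
        have h4 : l ⟨k, by omega⟩ < l ⟨k + 1, hk⟩ := l.strictMono (by simp [Fin.lt_def])
        have h5 := hanti _ _ h4
        push_cast
        omega
    exact hk l.length (by omega)
  haveI : WellFoundedLT (PrimeSpectrum A) :=
    StrictMono.wellFoundedLT (f := fun q : PrimeSpectrum A => q.asIdeal.height)
      (fun x y h => Ideal.height_strict_mono_of_isPrime ((PrimeSpectrum.asIdeal_lt_asIdeal x y).2 h))
  have hex : ∀ (k : ℕ) (q : PrimeSpectrum A), δ q = k →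
      ∃ l : LTSeries (PrimeSpectrum A), l.head = q ∧ l.length = k := by
    intro k
    induction k with
    | zero => intro q _; exact ⟨RelSeries.singleton _ q, rfl, rfl⟩
    | succ k ih =>
      intro q hq
      have hne : q ≠ IsLocalRing.closedPoint A := by
        rintro rfl
        rw [h0] at hq
        push_cast at hq
        omega
      have hlt : q < IsLocalRing.closedPoint A := lt_of_le_of_ne (hle_m q) hne
      obtain ⟨x, hqx, -⟩ := exists_covBy_le_of_lt hlt
      have hx := h2 q x hqx
      obtain ⟨l, hl1, hl2⟩ := ih x (by push_cast at hq; omega)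
      refine ⟨l.cons q (by rw [hl1]; exact hqx.lt), RelSeries.head_cons _ _ _, ?_⟩
      rw [RelSeries.cons_length, hl2]
  refine ⟨hnonneg p, ?_⟩
  have hset : PrimeSpectrum.zeroLocus (p.asIdeal : Set A) = Set.Ici p := by
    ext q
    rw [PrimeSpectrum.mem_zeroLocus, Set.mem_Ici, SetLike.coe_subset_coe]
    rfl
  rw [ringKrullDim_quotient, hset, ← Order.coheight_eq_krullDim_Ici]
  congr 1
  apply le_antisymm
  · refine Order.coheight_le (fun l hl => ?_)
    have h3 := hle l
    rw [hl] at h3
    have h4 := hnonneg l.last
    have h5 : l.length ≤ (δ p).toNat := by omega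
    exact_mod_cast h5
  · obtain ⟨l, hl1, hl2⟩ := hex (δ p).toNat p (by have := hnonneg p; omega)
    have := Order.length_le_coheight_head (p := l)
    rw [hl1, hl2] at this
    exact this

end Loc

end Groth.Agent.Lib.Helper8.Bidual
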