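import Mathlib
import Groth.Agent.Lib.Helper8.Dim6

/-! # Helper8 — Dim7: a normalized dualizing complex over a local ring has dimension function with
`δ(m) = 0`; at a minimal prime `p` with `dim A/p = e`, `H^i(ω)_p ≠ 0 ↔ i = -e` (S1719). -/

set_option autoImplicit false

universe u

open CategoryTheory CategoryTheory.Limits CategoryTheory.Pretriangulated Opposite DerivedCategory

attribute [local instance] HasDerivedCategory.standard

namespace Groth.Agent.Lib.Helper8.Bidual

open Groth.Agent.Lib.Helper8 Groth.Agent.Lib.Helper16.FlatBC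

section Main

variable {A : Type u} [CommRing A] [IsLocalRing A] [IsNoetherianRing A]

/-- the dimension function of a normalized dualizing complex vanishes at the closed point -/
theorem exists_dimension_function_normalized (ω : Dual.D A) (hω : Dual.IsDualizing A ω)
    (hn : Dual.IsNormalized A ω) :
    ∃ δ : PrimeSpectrum A → ℤ,
      (∀ (p : PrimeSpectrum A) (i : ℤ),
        Nontrivial (LocalizedModule p.asIdeal.primeCompl
          (Dual.inD A (A ⧸ p.asIdeal) ⟶ ω⟦i⟧)) ↔ i = -δ p) ∧
      (∀ p q : PrimeSpectrum A, p ⋖ q → δ p = δ q + 1) ∧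
      δ (IsLocalRing.closedPoint A) = 0 := by
  obtain ⟨δ, h1, h2⟩ := exists_dimension_function ω hω
  refine ⟨δ, h1, h2, ?_⟩
  by_contra h0
  have hnt := (h1 (IsLocalRing.closedPoint A) (-δ (IsLocalRing.closedPoint A))).2 rfl
  have hsub : Subsingleton (Dual.inD A (IsLocalRing.ResidueField A) ⟶
      ω⟦-δ (IsLocalRing.closedPoint A)⟧) := hn _ (by omega)
  let j : Dual.inD A (A ⧸ (IsLocalRing.closedPoint A).asIdeal) ≅
      Dual.inD A (IsLocalRing.ResidueField A) :=
    (singleFunctor (ModuleCat.{u} A) 0).mapIso (EFB.residueEquiv A).toModuleIso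
  haveI : Subsingleton (Dual.inD A (A ⧸ (IsLocalRing.closedPoint A).asIdeal) ⟶
      ω⟦-δ (IsLocalRing.closedPoint A)⟧) :=
    (EFB.precompEquivLin j.symm _).toEquiv.subsingleton
  have h4 : Subsingleton (LocalizedModule (IsLocalRing.closedPoint A).asIdeal.primeCompl
      (Dual.inD A (A ⧸ (IsLocalRing.closedPoint A).asIdeal) ⟶
        ω⟦-δ (IsLocalRing.closedPoint A)⟧)) := inferInstance
  exact not_subsingleton _ h4

/-- S1719 -/
theorem nontrivial_localized_HD_iff_of_minimal (ω : Dual.D A) (hω : Dual.IsDualizing A ω)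
    (hn : Dual.IsNormalized A ω) (p : Ideal A) [hpp : p.IsPrime] (hp : p ∈ minimalPrimes A)
    (e : ℕ) (he : ringKrullDim (A ⧸ p) = e) (i : ℤ) :
    Nontrivial (LocalizedModule p.primeCompl (Dual.HD A ω i)) ↔ i = -(e : ℤ) := by
  obtain ⟨δ, h1, h2, h0⟩ := exists_dimension_function_normalized ω hω hn
  obtain ⟨h3, h4⟩ := ringKrullDim_quotient_eq_dimFun δ h2 h0 ⟨p, hpp⟩
  have h5 : (δ ⟨p, hpp⟩).toNat = e := by
    change ringKrullDim (A ⧸ p) = _ at h4
    rw [he] at h4
    exact_mod_cast h4.symm
  have h6 : δ ⟨p, hpp⟩ = e := by omega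
  haveI : IsArtinianRing (Localization.AtPrime p) := by
    rw [isArtinianRing_iff_krullDimLE_zero, Ring.krullDimLE_iff,
      IsLocalization.AtPrime.ringKrullDim_eq_height p (Localization.AtPrime p),
      Ideal.height_eq_zero_iff.2 hp]
    rfl
  have hωp := isDualizing_ε_atPrime p ω hω
  have hdeg : ∀ j : ℤ, Nontrivial (Dual.inD (Localization.AtPrime p)
        (IsLocalRing.ResidueField (Localization.AtPrime p)) ⟶
          ((ε (algebraMap A (Localization.AtPrime p))).obj ω)⟦j⟧) ↔ j = -(e : ℤ) := by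
    intro j
    rw [← nontrivial_localized_ext_iff p ω hω j, ← h6]
    exact h1 ⟨p, hpp⟩ j
  have hnorm : Dual.IsNormalized (Localization.AtPrime p)
      (((ε (algebraMap A (Localization.AtPrime p))).obj ω)⟦-(e : ℤ)⟧) := by
    intro j hj
    have h7 : ¬ Nontrivial (Dual.inD (Localization.AtPrime p)
        (IsLocalRing.ResidueField (Localization.AtPrime p)) ⟶
          ((ε (algebraMap A (Localization.AtPrime p))).obj ω)⟦-(e : ℤ) + j⟧) := by
      rw [hdeg]
      omega
    rw [not_nontrivial_iff_subsingleton] at h7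
    exact (Iso.homCongr (Iso.refl _)
      ((shiftFunctorAdd' (Dual.D (Localization.AtPrime p)) (-(e : ℤ)) j (-(e : ℤ) + j) rfl).app
        _).symm).subsingleton
  rw [nontrivial_localizedModule_HD_iff p ω i]
  exact nontrivial_HD_iff_of_isNormalized_shift _ hωp _ hnorm i

end Main

end Groth.Agent.Lib.Helper8.Bidual
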