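import Mathlib
import Groth.Agent.Lib.Helper8.Dim7
import Groth.Agent.Lib.Helper21.DepthKit3

/-! # Helper8 — Dep1: `Ext^i(N, ω)` for a normalized dualizing complex over a local ring vanishes
outside `[-dim N, 0]` (`ext_range`, `subsingleton_ext_pos`); half exactness and Nakayama helpers. -/

set_option autoImplicit false

universe u

open CategoryTheory CategoryTheory.Limits CategoryTheory.Pretriangulated Opposite DerivedCategory

attribute [local instance] HasDerivedCategory.standard

namespace Groth.Agent.Lib.Helper8.Bidual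

open Groth.Agent.Lib.Helper8 Groth.Agent.Lib.Helper16.FlatBC

section Half

variable {A : Type u} [CommRing A] (L : Dual.D A)

/-- half exactness of `Hom(-, L)` on short exact sequences of modules -/
lemma subsingleton_hom_of_exact {N₁ N₂ N₃ : Type u} [AddCommGroup N₁] [Module A N₁]
    [AddCommGroup N₂] [Module A N₂] [AddCommGroup N₃] [Module A N₃]
    (f : N₁ →ₗ[A] N₂) (g : N₂ →ₗ[A] N₃) (hf : Function.Injective f)
    (hg : Function.Surjective g) (hfg : Function.Exact f g)
    (h1 : Subsingleton (Dual.inD A N₁ ⟶ L)) (h3 : Subsingleton (Dual.inD A N₃ ⟶ L)) :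
    Subsingleton (Dual.inD A N₂ ⟶ L) := by
  obtain ⟨δ, hT⟩ := EFB.exists_singleTriangle f g hf hg hfg
  have key : ∀ e : Dual.inD A N₂ ⟶ L, e = 0 := by
    intro e
    obtain ⟨(w : Dual.inD A N₃ ⟶ L), hw⟩ := Triangle.yoneda_exact₂ _ hT e (h1.elim _ _)
    rw [hw, h3.elim w 0]
    exact comp_zero
  exact ⟨fun a b => by rw [key a, key b]⟩

lemma subsingleton_hom_inD_of_subsingleton (N : Type u) [AddCommGroup N] [Module A N]
    [Subsingleton N] : Subsingleton (Dual.inD A N ⟶ L) := by
  have hz : IsZero (Dual.inD A N) :=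
    (singleFunctor (ModuleCat.{u} A) 0).map_isZero (ModuleCat.isZero_of_subsingleton (ModuleCat.of A N))
  exact ⟨fun a b => hz.eq_of_src a b⟩

lemma subsingleton_hom_congr {N N' : Type u} [AddCommGroup N] [Module A N]
    [AddCommGroup N'] [Module A N'] (e : N ≃ₗ[A] N') :
    Subsingleton (Dual.inD A N ⟶ L) ↔ Subsingleton (Dual.inD A N' ⟶ L) := by
  let j : Dual.inD A N ≅ Dual.inD A N' :=
    (singleFunctor (ModuleCat.{u} A) 0).mapIso e.toModuleIso
  exact (EFB.precompEquivLin j.symm L).toEquiv.subsingleton_congr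

end Half

section Nak

variable {A : Type u} [CommRing A] [IsLocalRing A]

/-- Nakayama: if multiplication by an element of the maximal ideal is surjective on a finite
module, the module vanishes -/
lemma subsingleton_of_smul_surjective {X : Type*} [AddCommGroup X] [Module A X] [Module.Finite A X]
    (f : A) (hfm : f ∈ IsLocalRing.maximalIdeal A) (hsurj : ∀ e : X, ∃ e' : X, f • e' = e) :
    Subsingleton X := by
  have hbot : (⊤ : Submodule A X) = ⊥ := by
    refine Submodule.eq_bot_of_le_smul_of_le_jacobson_bot (Ideal.span {f}) _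
      Module.Finite.fg_top ?_ ?_
    · intro e _
      obtain ⟨e', rfl⟩ := hsurj e
      exact Submodule.smul_mem_smul (Ideal.mem_span_singleton_self f) Submodule.mem_top
    · rw [IsLocalRing.jacobson_eq_maximalIdeal ⊥ bot_ne_top, Ideal.span_singleton_le_iff_mem]
      exact hfm
  exact ⟨fun x y => by
    have hx : x ∈ (⊥ : Submodule A X) := hbot ▸ Submodule.mem_top
    have hy : y ∈ (⊥ : Submodule A X) := hbot ▸ Submodule.mem_top
    rw [(Submodule.mem_bot A).1 hx, (Submodule.mem_bot A).1 hy]⟩

end Nak

section Range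

variable {A : Type u} [CommRing A] [IsLocalRing A] [IsNoetherianRing A]

/-- the step of the induction for the vanishing range -/
theorem ext_range_step (ω : Dual.D A) (hω : Dual.IsDualizing A ω) (hn : Dual.IsNormalized A ω)
    (δ : PrimeSpectrum A → ℤ) (h2 : ∀ p q : PrimeSpectrum A, p ⋖ q → δ p = δ q + 1)
    (h0 : δ (IsLocalRing.closedPoint A) = 0) (j : ℤ)
    (ih : ∀ (N : Type u) [AddCommGroup N] [Module A N] [Module.Finite A N],
      (∀ q ∈ Module.support A N, δ q ≤ j - 1) → ∀ i : ℤ, Nontrivial (Dual.inD A N ⟶ ω⟦i⟧) →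
        -(j - 1) ≤ i ∧ i ≤ 0)
    (N : Type u) [AddCommGroup N] [Module A N] [hN : Module.Finite A N]
    (hsupp : ∀ q ∈ Module.support A N, δ q ≤ j) (i : ℤ)
    (hnt : Nontrivial (Dual.inD A N ⟶ ω⟦i⟧)) : -j ≤ i ∧ i ≤ 0 := by
  have hanti := dimFun_strictAnti δ h2
  revert hsupp hnt
  induction hN using IsNoetherianRing.induction_on_isQuotientEquivQuotientPrime A with
  | subsingleton N =>
    intro _ hnt
    haveI := subsingleton_hom_inD_of_subsingleton (ω⟦i⟧) N
    exact absurd hnt (not_nontrivial _)
  | quotient N p f =>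
    intro hsupp hnt
    have hpN : p ∈ Module.support A N := by
      rw [f.support_eq, Module.support_eq_zeroLocus, Ideal.annihilator_quotient,
        PrimeSpectrum.mem_zeroLocus]
    have hpj : δ p ≤ j := hsupp p hpN
    have hnt' : Nontrivial (Dual.inD A (A ⧸ p.asIdeal) ⟶ ω⟦i⟧) := by
      by_contra hcon
      rw [not_nontrivial_iff_subsingleton] at hcon
      have := (subsingleton_hom_congr (ω⟦i⟧) f).2 hcon
      exact not_subsingleton _ this
    have hle_m : p ≤ IsLocalRing.closedPoint A := IsLocalRing.le_maximalIdeal p.2.ne_top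
    rcases hle_m.eq_or_lt with rfl | hlt
    · -- the residue field
      have hi0 : i = 0 := by
        by_contra hi
        have hsub := hn i hi
        have := (subsingleton_hom_congr (ω⟦i⟧) (EFB.residueEquiv A)).2 hsub
        exact (not_subsingleton_iff_nontrivial.2 hnt') this
      omega
    · -- a prime different from the maximal ideal
      have hltI : p.asIdeal < IsLocalRing.maximalIdeal A := hlt
      obtain ⟨x, hxm, hxp⟩ := SetLike.exists_of_lt hltI
      have hx : Function.Injective (fun y : A ⧸ p.asIdeal => x • y) := by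
        intro y z hyz
        obtain ⟨y', rfl⟩ := Ideal.Quotient.mk_surjective y
        obtain ⟨z', rfl⟩ := Ideal.Quotient.mk_surjective z
        have h1 : Ideal.Quotient.mk p.asIdeal (x * y') = Ideal.Quotient.mk p.asIdeal (x * z') := hyz
        rw [Ideal.Quotient.eq] at h1 ⊢
        have h2 : x * (y' - z') ∈ p.asIdeal := by rw [mul_sub]; exact h1
        exact (p.2.mem_or_mem h2).resolve_left hxp
      have hδp := hanti _ _ hlt
      -- the support of the quotient
      have hsuppN' : ∀ q ∈ Module.support A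
          ((A ⧸ p.asIdeal) ⧸ LinearMap.range (LinearMap.lsmul A (A ⧸ p.asIdeal) x)), δ q ≤ j - 1 := by
        intro q hq
        have hq1 : q ∈ Module.support A (A ⧸ p.asIdeal) :=
          Module.support_subset_of_surjective _ (Submodule.mkQ_surjective _) hq
        rw [Module.support_eq_zeroLocus, Ideal.annihilator_quotient,
          PrimeSpectrum.mem_zeroLocus] at hq1
        have hpq : p ≤ q := hq1
        have hxq : x ∈ q.asIdeal := by
          rw [Module.mem_support_iff_of_finite] at hq
          refine hq (Module.mem_annihilator.2 (fun y => ?_))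
          obtain ⟨z, rfl⟩ := Submodule.mkQ_surjective _ y
          rw [← map_smul, Submodule.mkQ_apply, Submodule.Quotient.mk_eq_zero]
          exact ⟨z, rfl⟩
        have hne : p ≠ q := by
          rintro rfl
          exact hxp hxq
        have := hanti _ _ (lt_of_le_of_ne hpq hne)
        omega
      by_contra hcon
      have hsub : Subsingleton (Dual.inD A ((A ⧸ p.asIdeal) ⧸
          LinearMap.range (LinearMap.lsmul A (A ⧸ p.asIdeal) x)) ⟶ ω⟦i + 1⟧) := by
        by_contra hc
        rw [not_subsingleton_iff_nontrivial] at hc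
        have := ih _ hsuppN' (i + 1) hc
        omega
      have hsurj := smul_surjective_of_subsingleton ω x hx i hsub
      haveI := finite_hom_inD_of_isDualizing ω hω (A ⧸ p.asIdeal) i
      have := subsingleton_of_smul_surjective x hxm hsurj
      exact not_subsingleton _ this
  | exact N₁ N₂ N₃ f g hf hg hfg h₁ h₃ =>
    intro hsupp hnt
    have hs := Module.support_of_exact hfg hf hg
    by_cases c1 : Nontrivial (Dual.inD A N₁ ⟶ ω⟦i⟧)
    · exact h₁ (fun q hq => hsupp q (by rw [hs]; exact Or.inl hq)) c1
    · by_cases c3 : Nontrivial (Dual.inD A N₃ ⟶ ω⟦i⟧)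
      · exact h₃ (fun q hq => hsupp q (by rw [hs]; exact Or.inr hq)) c3
      · rw [not_nontrivial_iff_subsingleton] at c1 c3
        have := subsingleton_hom_of_exact (ω⟦i⟧) f g hf hg hfg c1 c3
        exact absurd hnt (not_nontrivial _)

/-- vanishing range in terms of the dimension function on the support -/
theorem ext_range_of_support (ω : Dual.D A) (hω : Dual.IsDualizing A ω) (hn : Dual.IsNormalized A ω)
    (δ : PrimeSpectrum A → ℤ) (h2 : ∀ p q : PrimeSpectrum A, p ⋖ q → δ p = δ q + 1)
    (h0 : δ (IsLocalRing.closedPoint A) = 0) (k : ℕ) :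
    ∀ (N : Type u) [AddCommGroup N] [Module A N] [Module.Finite A N],
      (∀ q ∈ Module.support A N, δ q ≤ k) → ∀ i : ℤ, Nontrivial (Dual.inD A N ⟶ ω⟦i⟧) →
        -(k : ℤ) ≤ i ∧ i ≤ 0 := by
  induction k with
  | zero =>
    intro N _ _ _ hsupp i hnt
    refine ext_range_step ω hω hn δ h2 h0 0 ?_ N (by simpa using hsupp) i hnt
    intro N' _ _ _ hsupp' i' hnt'
    exfalso
    have hemp : Module.support A N' = ∅ := by
      rw [Set.eq_empty_iff_forall_notMem]
      intro q hq
      have h3 := hsupp' q hq
      have h4 := (ringKrullDim_quotient_eq_dimFun δ h2 h0 q).1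
      omega
    rw [Module.support_eq_empty_iff] at hemp
    haveI := subsingleton_hom_inD_of_subsingleton (ω⟦i'⟧) N'
    exact not_nontrivial _ hnt'
  | succ k ih =>
    intro N _ _ _ hsupp i hnt
    have := ext_range_step ω hω hn δ h2 h0 (k + 1) (fun N' _ _ _ hsupp' i' hnt' => by
      have := ih N' (fun q hq => by have := hsupp' q hq; omega) i' hnt'
      omega) N (by exact_mod_cast hsupp) i hnt
    push_cast
    omega

/-- S0366, first half: `Ext^i(N, ω) ≠ 0` only for `-dim N ≤ i ≤ 0` -/
theorem ext_range (ω : Dual.D A) (hω : Dual.IsDualizing A ω) (hn : Dual.IsNormalized A ω)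
    (N : Type u) [AddCommGroup N] [Module A N] [Module.Finite A N] (d : ℕ)
    (hd : Module.supportDim A N ≤ d) (i : ℤ) (hnt : Nontrivial (Dual.inD A N ⟶ ω⟦i⟧)) :
    -(d : ℤ) ≤ i ∧ i ≤ 0 := by
  obtain ⟨δ, -, h2, h0⟩ := exists_dimension_function_normalized ω hω hn
  refine ext_range_of_support ω hω hn δ h2 h0 d N (fun q hq => ?_) i hnt
  obtain ⟨h3, h4⟩ := ringKrullDim_quotient_eq_dimFun δ h2 h0 q
  have h5 := (Groth.Agent.Lib.Helper21.DepthKit.ringKrullDim_quotient_le_supportDim_of_mem_support
    hq).trans hd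
  rw [h4] at h5
  have h6 : (δ q).toNat ≤ d := by exact_mod_cast h5
  omega

/-- positive degree vanishing -/
theorem subsingleton_ext_pos (ω : Dual.D A) (hω : Dual.IsDualizing A ω) (hn : Dual.IsNormalized A ω)
    (N : Type u) [AddCommGroup N] [Module A N] [Module.Finite A N] (i : ℤ) (hi : 0 < i) :
    Subsingleton (Dual.inD A N ⟶ ω⟦i⟧) := by
  by_contra hc
  rw [not_subsingleton_iff_nontrivial] at hc
  obtain ⟨δ, -, h2, h0⟩ := exists_dimension_function_normalized ω hω hn
  have hfin : ringKrullDim A < ⊤ := ringKrullDim_lt_top_of_isDualizing ω hω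
  rcases subsingleton_or_nontrivial N with hs | hnt
  · haveI := subsingleton_hom_inD_of_subsingleton (ω⟦i⟧) N
    exact not_nontrivial _ hc
  · obtain ⟨d, hd⟩ := Groth.Agent.Lib.Helper21.DepthKit.exists_nat_supportDim (A := A) (M := N)
    have := ext_range ω hω hn N d hd.le i hc
    omega

end Range

end Groth.Agent.Lib.Helper8.Bidual
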