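import Mathlib
import Groth.Prelude.Def_DRing3
import Groth.Agent.Lib.Helper8.DCmpD

/-!
# Helper8 — DCmpE: derived completion of a cone; homology isomorphism ranges (S7091, S7092)
-/

set_option autoImplicit false

universe u

open CategoryTheory CategoryTheory.Limits CategoryTheory.Pretriangulated DerivedCategory

attribute [local instance] HasDerivedCategory.standard

namespace Groth.Agent.Lib.Helper8.DCmpE

open Groth.Agent.Lib.Helper8.DCmpA Groth.Agent.Lib.Helper8.DCmpB Groth.Agent.Lib.Helper8.DCmpC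
  Groth.Agent.Lib.Helper8.DCmpD

section Abstract

variable {T : Type*} [Category T] [Preadditive T] [HasZeroObject T] [HasShift T ℤ]
  [∀ n : ℤ, (shiftFunctor T n).Additive] [Pretriangulated T]

lemma bijective_shift_precomp {X Y E : T} (u : X ⟶ Y)
    (h : Function.Bijective (fun g : Y ⟶ E⟦(-1 : ℤ)⟧ => u ≫ g)) :
    Function.Bijective (fun g : Y⟦(1 : ℤ)⟧ ⟶ E => u⟦(1 : ℤ)⟧' ≫ g) := by
  let adj : shiftFunctor T (1 : ℤ) ⊣ shiftFunctor T (-1 : ℤ) :=
    (shiftEquiv' T (1 : ℤ) (-1) (by omega)).toAdjunction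
  have : (fun g : Y⟦(1 : ℤ)⟧ ⟶ E => u⟦(1 : ℤ)⟧' ≫ g) =
      (adj.homEquiv X E).symm ∘ (fun g : Y ⟶ E⟦(-1 : ℤ)⟧ => u ≫ g) ∘ (adj.homEquiv Y E) := by
    funext g
    dsimp
    rw [← adj.homEquiv_naturality_left, Equiv.symm_apply_apply]
  rw [this]
  exact (adj.homEquiv X E).symm.bijective.comp (h.comp (adj.homEquiv Y E).bijective)

/-- five lemma for `Hom(-, E)` applied to a morphism of distinguished triangles -/
theorem bijective_precomp_mor₃ (T₁ T₂ : Triangle T) (h₁ : T₁ ∈ distTriang T)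
    (h₂ : T₂ ∈ distTriang T) (a : T₁.obj₁ ⟶ T₂.obj₁) (b : T₁.obj₂ ⟶ T₂.obj₂)
    (c : T₁.obj₃ ⟶ T₂.obj₃) (comm₁ : T₁.mor₁ ≫ b = a ≫ T₂.mor₁)
    (comm₂ : T₁.mor₂ ≫ c = b ≫ T₂.mor₂) (comm₃ : T₁.mor₃ ≫ a⟦(1 : ℤ)⟧' = c ≫ T₂.mor₃) (E : T)
    (ha : Function.Bijective (fun g : T₂.obj₁ ⟶ E => a ≫ g))
    (hb : Function.Bijective (fun g : T₂.obj₂ ⟶ E => b ≫ g))
    (ha' : Function.Bijective (fun g : T₂.obj₁⟦(1 : ℤ)⟧ ⟶ E => a⟦(1 : ℤ)⟧' ≫ g))
    (hb' : Function.Bijective (fun g : T₂.obj₂⟦(1 : ℤ)⟧ ⟶ E => b⟦(1 : ℤ)⟧' ≫ g)) :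
    Function.Bijective (fun g : T₂.obj₃ ⟶ E => c ≫ g) := by
  have inj0 : ∀ x : T₂.obj₃ ⟶ E, c ≫ x = 0 → x = 0 := by
    intro x hx
    have s1 : T₂.mor₂ ≫ x = 0 := by
      apply hb.1
      change b ≫ T₂.mor₂ ≫ x = b ≫ 0
      rw [← Category.assoc, ← comm₂, Category.assoc, hx, comp_zero, comp_zero]
    obtain ⟨y, hy⟩ := Triangle.yoneda_exact₃ T₂ h₂ x s1
    have s3 : T₁.mor₃ ≫ (a⟦(1 : ℤ)⟧' ≫ y) = 0 := by
      rw [← Category.assoc, comm₃, Category.assoc, ← hy, hx]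
    obtain ⟨z, hz⟩ := Triangle.yoneda_exact₃ T₁.rotate (rot_of_distTriang _ h₁)
      (a⟦(1 : ℤ)⟧' ≫ y) s3
    obtain ⟨z, hz⟩ : ∃ z : T₁.obj₂⟦(1 : ℤ)⟧ ⟶ E,
        a⟦(1 : ℤ)⟧' ≫ y = (-T₁.mor₁⟦(1 : ℤ)⟧') ≫ z := ⟨z, hz⟩
    obtain ⟨z', hz'⟩ := hb'.2 (-z)
    simp only at hz'
    have s4 : y = T₂.mor₁⟦(1 : ℤ)⟧' ≫ z' := by
      apply ha'.1
      change a⟦(1 : ℤ)⟧' ≫ y = a⟦(1 : ℤ)⟧' ≫ T₂.mor₁⟦(1 : ℤ)⟧' ≫ z'
      rw [hz, ← Category.assoc (a⟦(1 : ℤ)⟧'), ← Functor.map_comp, ← comm₁, Functor.map_comp,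
        Category.assoc, hz', Preadditive.neg_comp, Preadditive.comp_neg]
    rw [hy, s4, ← Category.assoc, comp_distTriang_mor_zero₃₁ _ h₂, zero_comp]
  constructor
  · intro x x' hxx
    have : c ≫ (x - x') = 0 := by
      rw [Preadditive.comp_sub]
      exact sub_eq_zero.2 hxx
    exact sub_eq_zero.1 (inj0 _ this)
  · intro w
    obtain ⟨t, ht⟩ := hb.2 (T₁.mor₂ ≫ w)
    simp only at ht
    have s2 : T₂.mor₁ ≫ t = 0 := by
      apply ha.1
      change a ≫ T₂.mor₁ ≫ t = a ≫ 0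
      rw [← Category.assoc, ← comm₁, Category.assoc, ht, ← Category.assoc,
        comp_distTriang_mor_zero₁₂ _ h₁, zero_comp, comp_zero]
    obtain ⟨x₀, hx₀⟩ := Triangle.yoneda_exact₂ T₂ h₂ t s2
    have s4 : T₁.mor₂ ≫ (w - c ≫ x₀) = 0 := by
      rw [Preadditive.comp_sub, ← Category.assoc, comm₂, Category.assoc, ← hx₀, ht, sub_self]
    obtain ⟨y, hy⟩ := Triangle.yoneda_exact₃ T₁ h₁ _ s4
    obtain ⟨y', hy'⟩ := ha'.2 y
    simp only at hy'
    refine ⟨x₀ + T₂.mor₃ ≫ y', ?_⟩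
    change c ≫ (x₀ + T₂.mor₃ ≫ y') = w
    rw [Preadditive.comp_add, ← Category.assoc, ← comm₃, Category.assoc, hy', ← hy]
    abel

end Abstract

section Concrete

variable {A : Type u} [CommRing A] (I : Ideal A)

lemma isDerivedComplete_iff_forall_isCompl (X : Dual.D A) :
    DRing.IsDerivedComplete I X ↔ ∀ f ∈ I, IsCompl f X :=
  ⟨fun h f hf => (isCompl_iff f X).2 (h f hf), fun h f hf => (isCompl_iff f X).1 (h f hf)⟩

lemma isDerivedComplete_shift {X : Dual.D A} (h : DRing.IsDerivedComplete I X) (n : ℤ) :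
    DRing.IsDerivedComplete I (X⟦n⟧) := by
  rw [isDerivedComplete_iff_forall_isCompl] at h ⊢
  exact fun f hf => (h f hf).shift n

lemma isDerivedComplete_obj₃ (T : Triangle (Dual.D A)) (hT : T ∈ distTriang _)
    (h₁ : DRing.IsDerivedComplete I T.obj₁) (h₂ : DRing.IsDerivedComplete I T.obj₂) :
    DRing.IsDerivedComplete I T.obj₃ := by
  rw [isDerivedComplete_iff_forall_isCompl] at h₁ h₂ ⊢
  exact fun f hf => IsCompl.of_tri₃ T hT (h₁ f hf) (h₂ f hf)

variable [DRing.HasDerivedCompletion I]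

/-- the completed object -/
noncomputable abbrev Cpl (K : Dual.D A) : Dual.D A := ((DRing.derivedCompletion I).obj K).obj

/-- the completed morphism -/
noncomputable abbrev cplMap {K L : Dual.D A} (φ : K ⟶ L) : Cpl I K ⟶ Cpl I L :=
  ((DRing.derivedCompletion I).map φ).hom

lemma unit_naturality {K L : Dual.D A} (φ : K ⟶ L) :
    φ ≫ DRing.toDerivedCompletion I L = DRing.toDerivedCompletion I K ≫ cplMap I φ :=
  (DRing.derivedCompletionAdj I).unit.naturality φ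

/-- the cone of the completed morphism is the completion of the cone -/
theorem exists_cone_iso {K L : Dual.D A} (φ : K ⟶ L) {C : Dual.D A} (p : L ⟶ C)
    (q : C ⟶ K⟦(1 : ℤ)⟧) (h₁ : Triangle.mk φ p q ∈ distTriang (Dual.D A))
    {D' : Dual.D A} (p' : Cpl I L ⟶ D') (q' : D' ⟶ (Cpl I K)⟦(1 : ℤ)⟧)
    (h₂ : Triangle.mk (cplMap I φ) p' q' ∈ distTriang (Dual.D A)) :
    Nonempty (D' ≅ Cpl I C) := by
  obtain ⟨c, hc₂, hc₃⟩ := complete_distinguished_triangle_morphism _ _ h₁ h₂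
    (DRing.toDerivedCompletion I K) (DRing.toDerivedCompletion I L) (unit_naturality I φ)
  have hD : DRing.IsDerivedComplete I D' :=
    isDerivedComplete_obj₃ I _ h₂ ((DRing.derivedCompletion I).obj K).property
      ((DRing.derivedCompletion I).obj L).property
  have hB : ∀ E : Dual.D A, DRing.IsDerivedComplete I E →
      Function.Bijective (fun g : D' ⟶ E => c ≫ g) := by
    intro E hE
    have hE' := isDerivedComplete_shift I hE (-1)
    exact bijective_precomp_mor₃ _ _ h₁ h₂ _ _ c (unit_naturality I φ) hc₂ hc₃ E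
      (bijective_unit_comp I K E hE) (bijective_unit_comp I L E hE)
      (bijective_shift_precomp _ (bijective_unit_comp I K _ hE'))
      (bijective_shift_precomp _ (bijective_unit_comp I L _ hE'))
  obtain ⟨e, -⟩ := exists_iso_of_reflection I C D' c hD hB
  exact ⟨e.symm⟩

/-- vanishing of the cohomology of a cone -/
lemma isZero_H_cone (T : Triangle (Dual.D A)) (hT : T ∈ distTriang _) (i : ℤ)
    (h1 : Epi ((homologyFunctor (ModuleCat.{u} A) i).map T.mor₁))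
    (h2 : Mono ((homologyFunctor (ModuleCat.{u} A) (i + 1)).map T.mor₁)) :
    IsZero ((homologyFunctor (ModuleCat.{u} A) i).obj T.obj₃) :=
  (HomologySequence.exact₃ T hT i (i + 1) rfl).isZero_of_both_zeros
    ((HomologySequence.epi_homologyMap_mor₁_iff T hT i).1 h1)
    ((HomologySequence.mono_homologyMap_mor₁_iff T hT i (i + 1) rfl).1 h2)

lemma epi_H_mor₁ (T : Triangle (Dual.D A)) (hT : T ∈ distTriang _) (i : ℤ)
    (h : IsZero ((homologyFunctor (ModuleCat.{u} A) i).obj T.obj₃)) :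
    Epi ((homologyFunctor (ModuleCat.{u} A) i).map T.mor₁) :=
  (HomologySequence.epi_homologyMap_mor₁_iff T hT i).2 (h.eq_of_tgt _ _)

lemma mono_H_mor₁ (T : Triangle (Dual.D A)) (hT : T ∈ distTriang _) (i j : ℤ) (hij : i + 1 = j)
    (h : IsZero ((homologyFunctor (ModuleCat.{u} A) i).obj T.obj₃)) :
    Mono ((homologyFunctor (ModuleCat.{u} A) j).map T.mor₁) :=
  (HomologySequence.mono_homologyMap_mor₁_iff T hT i j hij).2 (h.eq_of_src _ _)

/-- **S7091** -/
theorem map_homology_iso_of_pos (hI : I.FG) {K L : Dual.D A} (φ : K ⟶ L)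
    (hiso : ∀ i : ℤ, 1 ≤ i → IsIso ((homologyFunctor (ModuleCat.{u} A) i).map φ))
    (hepi : Epi ((homologyFunctor (ModuleCat.{u} A) 0).map φ)) :
    (∀ i : ℤ, 1 ≤ i → IsIso ((homologyFunctor (ModuleCat.{u} A) i).map
        ((DRing.derivedCompletion I).map φ).hom)) ∧
      Epi ((homologyFunctor (ModuleCat.{u} A) 0).map ((DRing.derivedCompletion I).map φ).hom) := by
  obtain ⟨C, p, q, h₁⟩ := distinguished_cocone_triangle φ
  obtain ⟨D', p', q', h₂⟩ := distinguished_cocone_triangle (cplMap I φ)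
  obtain ⟨e⟩ := exists_cone_iso I φ p q h₁ p' q' h₂
  obtain ⟨s, hs⟩ := hI
  have hepi' : ∀ i : ℤ, 0 ≤ i → Epi ((homologyFunctor (ModuleCat.{u} A) i).map φ) := by
    intro i hi
    rcases eq_or_lt_of_le hi with rfl | hi'
    · exact hepi
    · haveI := hiso i (by omega)
      infer_instance
  have hC : ∀ i : ℤ, 0 ≤ i → IsZero ((homologyFunctor (ModuleCat.{u} A) i).obj C) := by
    intro i hi
    refine isZero_H_cone (Triangle.mk φ p q) h₁ i (hepi' i hi) ?_
    haveI := hiso (i + 1) (by omega)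
    change Mono ((homologyFunctor (ModuleCat.{u} A) (i + 1)).map φ)
    infer_instance
  have hD : ∀ i : ℤ, 0 ≤ i → IsZero ((homologyFunctor (ModuleCat.{u} A) i).obj D') := by
    intro i hi
    have hb := bounds I s.card ⟨s, le_rfl, hs⟩ C ⊥ ((-1 : ℤ) : WithTop ℤ)
      (fun j hj => absurd hj (not_lt_bot))
      (fun j hj => (isZero_iff_subsingleton _).1 (hC j (by
        have := WithTop.coe_lt_coe.1 hj
        omega))) i (Or.inr (WithTop.coe_lt_coe.2 (by omega)))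
    exact IsZero.of_iso ((isZero_iff_subsingleton _).2 hb)
      ((homologyFunctor (ModuleCat.{u} A) i).mapIso e)
  have hE : ∀ i : ℤ, 0 ≤ i → Epi ((homologyFunctor (ModuleCat.{u} A) i).map (cplMap I φ)) :=
    fun i hi => epi_H_mor₁ (Triangle.mk (cplMap I φ) p' q') h₂ i (hD i hi)
  refine ⟨fun i hi => ?_, hE 0 le_rfl⟩
  haveI : Epi ((homologyFunctor (ModuleCat.{u} A) i).map (cplMap I φ)) := hE i (by omega)
  haveI : Mono ((homologyFunctor (ModuleCat.{u} A) i).map (cplMap I φ)) :=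
    mono_H_mor₁ (Triangle.mk (cplMap I φ) p' q') h₂ (i - 1) i (by omega) (hD (i - 1) (by omega))
  exact isIso_of_mono_of_epi _

/-- **S7092** -/
theorem map_homology_iso_of_neg (s : Finset A) (hs : Ideal.span (s : Set A) = I)
    {K L : Dual.D A} (φ : K ⟶ L)
    (hiso : ∀ i : ℤ, i ≤ -1 → IsIso ((homologyFunctor (ModuleCat.{u} A) i).map φ))
    (hmono : Mono ((homologyFunctor (ModuleCat.{u} A) 0).map φ)) :
    (∀ i : ℤ, i ≤ -(s.card : ℤ) - 1 → IsIso ((homologyFunctor (ModuleCat.{u} A) i).map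
        ((DRing.derivedCompletion I).map φ).hom)) ∧
      Mono ((homologyFunctor (ModuleCat.{u} A) (-(s.card : ℤ))).map
        ((DRing.derivedCompletion I).map φ).hom) := by
  obtain ⟨C, p, q, h₁⟩ := distinguished_cocone_triangle φ
  obtain ⟨D', p', q', h₂⟩ := distinguished_cocone_triangle (cplMap I φ)
  obtain ⟨e⟩ := exists_cone_iso I φ p q h₁ p' q' h₂
  have hmono' : ∀ i : ℤ, i ≤ 0 → Mono ((homologyFunctor (ModuleCat.{u} A) i).map φ) := by
    intro i hi
    rcases eq_or_lt_of_le hi with rfl | hi'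
    · exact hmono
    · haveI := hiso i (by omega)
      infer_instance
  have hC : ∀ i : ℤ, i ≤ -1 → IsZero ((homologyFunctor (ModuleCat.{u} A) i).obj C) := by
    intro i hi
    refine isZero_H_cone (Triangle.mk φ p q) h₁ i ?_ (hmono' (i + 1) (by omega))
    haveI := hiso i hi
    change Epi ((homologyFunctor (ModuleCat.{u} A) i).map φ)
    infer_instance
  have hD : ∀ i : ℤ, i + (s.card : ℤ) < 0 →
      IsZero ((homologyFunctor (ModuleCat.{u} A) i).obj D') := by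
    intro i hi
    have hb := bounds I s.card ⟨s, le_rfl, hs⟩ C ((0 : ℤ) : WithBot ℤ) ⊤
      (fun j hj => (isZero_iff_subsingleton _).1 (hC j (by
        have := WithBot.coe_lt_coe.1 hj
        omega)))
      (fun j hj => absurd hj (not_top_lt)) i (Or.inl (WithBot.coe_lt_coe.2 hi))
    exact IsZero.of_iso ((isZero_iff_subsingleton _).2 hb)
      ((homologyFunctor (ModuleCat.{u} A) i).mapIso e)
  have hM : ∀ i : ℤ, i ≤ -(s.card : ℤ) →
      Mono ((homologyFunctor (ModuleCat.{u} A) i).map (cplMap I φ)) :=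
    fun i hi => mono_H_mor₁ (Triangle.mk (cplMap I φ) p' q') h₂ (i - 1) i (by omega)
      (hD (i - 1) (by omega))
  refine ⟨fun i hi => ?_, hM _ le_rfl⟩
  haveI : Mono ((homologyFunctor (ModuleCat.{u} A) i).map (cplMap I φ)) := hM i (by omega)
  haveI : Epi ((homologyFunctor (ModuleCat.{u} A) i).map (cplMap I φ)) :=
    epi_H_mor₁ (Triangle.mk (cplMap I φ) p' q') h₂ i (hD i (by omega))
  exact isIso_of_mono_of_epi _

end Concrete

end Groth.Agent.Lib.Helper8.DCmpE
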