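import Mathlib
import Groth.Prelude.Def_DRing3
import Groth.Prelude.Def_DDual2
import Groth.Agent.Lib.Helper8.DCmpE
import Groth.Agent.Lib.Helper16.KPR7

/-!
# Helper8 — DNak1: multiplication by `f` on `P ⊗ N` and exactness of the mapping cone
-/

set_option autoImplicit false

universe u

open CategoryTheory CategoryTheory.Limits CategoryTheory.Pretriangulated DerivedCategory
  MonoidalCategory

attribute [local instance] HasDerivedCategory.standard

namespace Groth.Agent.Lib.Helper8.DNak

open Groth.Agent.Lib.Helper16.TorAmp Groth.Agent.Lib.Helper16.TorBal Groth.Agent.Lib.Helper16.KPR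
  Groth.Agent.Lib.Helper8.DCmpE

variable {R : Type u} [CommRing R]

section Cone

variable {T : DRing.Cx R} (φ : T ⟶ T)

lemma arrowIso (i : ℤ) :
    Nonempty (Arrow.mk ((homologyFunctor (ModuleCat.{u} R) i).map (Q.map φ)) ≅
      Arrow.mk (HomologicalComplex.homologyMap φ i)) :=
  ⟨Arrow.isoMk ((homologyFunctorFactors (ModuleCat.{u} R) i).app T)
    ((homologyFunctorFactors (ModuleCat.{u} R) i).app T)
    (homologyFunctorFactors_hom_naturality φ i).symm⟩

lemma epi_iff (i : ℤ) : Epi ((homologyFunctor (ModuleCat.{u} R) i).map (Q.map φ)) ↔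
    Epi (HomologicalComplex.homologyMap φ i) :=
  (MorphismProperty.epimorphisms (ModuleCat.{u} R)).arrow_mk_iso_iff (arrowIso φ i).some

lemma mono_iff (i : ℤ) : Mono ((homologyFunctor (ModuleCat.{u} R) i).map (Q.map φ)) ↔
    Mono (HomologicalComplex.homologyMap φ i) :=
  (MorphismProperty.monomorphisms (ModuleCat.{u} R)).arrow_mk_iso_iff (arrowIso φ i).some

lemma exactAt_mappingCone_of (i : ℤ) (h1 : Epi (HomologicalComplex.homologyMap φ i))
    (h2 : Mono (HomologicalComplex.homologyMap φ (i + 1))) :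
    (CochainComplex.mappingCone φ).ExactAt i := by
  rw [exactAt_iff_isZero_Q]
  have hT := mappingCone_triangle_distinguished φ
  exact isZero_H_cone _ hT i ((epi_iff φ i).2 h1) ((mono_iff φ (i + 1)).2 h2)

lemma epi_of_exactAt_mappingCone (i : ℤ) (h : (CochainComplex.mappingCone φ).ExactAt i) :
    Epi (HomologicalComplex.homologyMap φ i) := by
  rw [exactAt_iff_isZero_Q] at h
  have hT := mappingCone_triangle_distinguished φ
  exact (epi_iff φ i).1 (epi_H_mor₁ _ hT i h)

end Cone

section Modules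

variable (N : ModuleCat.{u} R) (f : R)

/-- multiplication by `f` -/
noncomputable abbrev mulMap : (N : Type u) →ₗ[R] (N : Type u) := f • LinearMap.id

/-- the kernel of `f` on `N` -/
noncomputable abbrev Nker : ModuleCat.{u} R := ModuleCat.of R (LinearMap.ker (mulMap N f))

/-- the image of `f` on `N` -/
noncomputable abbrev Nim : ModuleCat.{u} R := ModuleCat.of R (LinearMap.range (mulMap N f))

/-- the cokernel of `f` on `N` -/
noncomputable abbrev Ncok : ModuleCat.{u} R :=
  ModuleCat.of R ((N : Type u) ⧸ LinearMap.range (mulMap N f))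

/-- `0 → ker f → N → f N → 0` -/
noncomputable abbrev S₁ : ShortComplex (ModuleCat.{u} R) :=
  ShortComplex.mk (X₁ := Nker N f) (X₂ := N) (X₃ := Nim N f)
    (ModuleCat.ofHom (LinearMap.ker (mulMap N f)).subtype)
    (ModuleCat.ofHom (mulMap N f).rangeRestrict) (by
      ext x
      exact x.2)

/-- `0 → f N → N → N / f N → 0` -/
noncomputable abbrev S₂ : ShortComplex (ModuleCat.{u} R) :=
  ShortComplex.mk (X₁ := Nim N f) (X₂ := N) (X₃ := Ncok N f)
    (ModuleCat.ofHom (LinearMap.range (mulMap N f)).subtype)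
    (ModuleCat.ofHom (LinearMap.range (mulMap N f)).mkQ) (by
      ext x
      exact (Submodule.Quotient.mk_eq_zero _).2 x.2)

lemma S₁_shortExact : (S₁ N f).ShortExact := by
  have h1 : Mono (S₁ N f).f := (ModuleCat.mono_iff_injective _).2 (Submodule.injective_subtype _)
  have h2 : Epi (S₁ N f).g :=
    (ModuleCat.epi_iff_surjective _).2 (LinearMap.surjective_rangeRestrict _)
  refine ShortComplex.ShortExact.mk' ?_ h1 h2
  rw [ShortComplex.moduleCat_exact_iff_range_eq_ker]
  change LinearMap.range (LinearMap.ker (mulMap N f)).subtype =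
    LinearMap.ker (mulMap N f).rangeRestrict
  rw [Submodule.range_subtype, LinearMap.ker_rangeRestrict]

lemma S₂_shortExact : (S₂ N f).ShortExact := by
  have h1 : Mono (S₂ N f).f := (ModuleCat.mono_iff_injective _).2 (Submodule.injective_subtype _)
  have h2 : Epi (S₂ N f).g := (ModuleCat.epi_iff_surjective _).2 (Submodule.mkQ_surjective _)
  refine ShortComplex.ShortExact.mk' ?_ h1 h2
  rw [ShortComplex.moduleCat_exact_iff_range_eq_ker]
  change LinearMap.range (LinearMap.range (mulMap N f)).subtype =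
    LinearMap.ker (LinearMap.range (mulMap N f)).mkQ
  rw [Submodule.range_subtype, Submodule.ker_mkQ]

lemma S₁g_S₂f : (S₁ N f).g ≫ (S₂ N f).f = f • 𝟙 N := by
  ext x
  rfl

end Modules

section LemmaK

variable (P : DRing.Cx R) (hP : DRing.TermwiseFlat P) (N : ModuleCat.{u} R) (f : R)

lemma whiskerLeft_smul_id (X : ModuleCat.{u} R) : X ◁ (f • 𝟙 N) = f • 𝟙 (X ⊗ N) := by
  apply ModuleCat.hom_ext
  apply TensorProduct.ext'
  intro x n
  change x ⊗ₜ[R] (f • n) = f • (x ⊗ₜ[R] n)
  rw [TensorProduct.tmul_smul]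

lemma tens_comp_eq : (tensSC (S₁ N f) P).g ≫ (tensSC (S₂ N f) P).f =
    f • 𝟙 ((tensCx N).obj P) := by
  refine HomologicalComplex.hom_ext _ _ (fun j => ?_)
  change (P.X j ◁ (S₁ N f).g) ≫ (P.X j ◁ (S₂ N f).f) = f • 𝟙 (P.X j ⊗ N)
  rw [← MonoidalCategory.whiskerLeft_comp, S₁g_S₂f, whiskerLeft_smul_id]

/-- `P ⊗ N → P ⊗ fN` -/
noncomputable def aMap : (tensCx N).obj P ⟶ (tensCx (Nim N f)).obj P := (tensSC (S₁ N f) P).g

/-- `P ⊗ fN → P ⊗ N` -/
noncomputable def bMap : (tensCx (Nim N f)).obj P ⟶ (tensCx N).obj P := (tensSC (S₂ N f) P).f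

lemma aMap_bMap : aMap P N f ≫ bMap P N f = f • 𝟙 ((tensCx N).obj P) := tens_comp_eq P N f

lemma homologyMap_smul_eq (i : ℤ) :
    HomologicalComplex.homologyMap (f • 𝟙 ((tensCx N).obj P)) i =
      HomologicalComplex.homologyMap (aMap P N f) i ≫
        HomologicalComplex.homologyMap (bMap P N f) i := by
  rw [← HomologicalComplex.homologyMap_comp, aMap_bMap]

include hP

lemma epi_homologyMap_smul (i : ℤ) (h1 : ((tensCx (Nker N f)).obj P).ExactAt (i + 1))
    (h2 : ((tensCx (Ncok N f)).obj P).ExactAt i) :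
    Epi (HomologicalComplex.homologyMap (f • 𝟙 ((tensCx N).obj P)) i) := by
  have hS₁ := tensSC_shortExact _ (S₁_shortExact N f) P hP
  have hS₂ := tensSC_shortExact _ (S₂_shortExact N f) P hP
  rw [HomologicalComplex.exactAt_iff_isZero_homology] at h1 h2
  have hα : Epi (HomologicalComplex.homologyMap (aMap P N f) i) :=
    (hS₁.homology_exact₃ i (i + 1) rfl).epi_f (h1.eq_of_tgt _ _)
  have hβ : Epi (HomologicalComplex.homologyMap (bMap P N f) i) :=
    (hS₂.homology_exact₂ i).epi_f (h2.eq_of_tgt _ _)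
  rw [homologyMap_smul_eq]
  exact epi_comp _ _

lemma mono_homologyMap_smul (j i : ℤ) (hji : j + 1 = i)
    (h1 : ((tensCx (Nker N f)).obj P).ExactAt i)
    (h2 : ((tensCx (Ncok N f)).obj P).ExactAt j) :
    Mono (HomologicalComplex.homologyMap (f • 𝟙 ((tensCx N).obj P)) i) := by
  have hS₁ := tensSC_shortExact _ (S₁_shortExact N f) P hP
  have hS₂ := tensSC_shortExact _ (S₂_shortExact N f) P hP
  rw [HomologicalComplex.exactAt_iff_isZero_homology] at h1 h2
  have hα : Mono (HomologicalComplex.homologyMap (aMap P N f) i) :=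
    (hS₁.homology_exact₂ i).mono_g (h1.eq_of_src _ _)
  have hβ : Mono (HomologicalComplex.homologyMap (bMap P N f) i) :=
    (hS₂.homology_exact₁ j i hji).mono_g (h2.eq_of_src _ _)
  rw [homologyMap_smul_eq]
  exact mono_comp _ _

/-- **Lemma K** -/
lemma exactAt_mappingCone_smul (i : ℤ) (h1 : ((tensCx (Nker N f)).obj P).ExactAt (i + 1))
    (h2 : ((tensCx (Ncok N f)).obj P).ExactAt i) :
    (CochainComplex.mappingCone (f • 𝟙 ((tensCx N).obj P))).ExactAt i :=
  exactAt_mappingCone_of _ i (epi_homologyMap_smul P hP N f i h1 h2)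
    (mono_homologyMap_smul P hP N f i (i + 1) rfl h1 h2)

end LemmaK

end Groth.Agent.Lib.Helper8.DNak
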