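import Mathlib
import Groth.Prelude.Def_DRing3
import Groth.Prelude.Def_DDual2
import Groth.Agent.Lib.Helper8.DNak1

/-!
# Helper8 — DNak2: derived Nakayama for derived complete objects (S7055, S7056)
-/

set_option autoImplicit false

universe u

open CategoryTheory CategoryTheory.Limits CategoryTheory.Pretriangulated DerivedCategory
  MonoidalCategory

attribute [local instance] HasDerivedCategory.standard

namespace Groth.Agent.Lib.Helper8.DNak

open Groth.Agent.Lib.Helper16.TorAmp Groth.Agent.Lib.Helper16.TorBal Groth.Agent.Lib.Helper16.KPR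
  Groth.Agent.Lib.Helper8.DCmpE Groth.Agent.Lib.Helper16.DComp

variable {R : Type u} [CommRing R]

/-- `N` is killed by a power of `J` -/
def Killed (J : Ideal R) (N : ModuleCat.{u} R) : Prop :=
  ∃ k : ℕ, ∀ a ∈ J ^ k, ∀ x : N, a • x = 0

lemma Killed.pow_smul_top {J : Ideal R} {N : ModuleCat.{u} R} (h : Killed J N) :
    ∃ k : ℕ, J ^ k • (⊤ : Submodule R N) = ⊥ := by
  obtain ⟨k, hk⟩ := h
  refine ⟨k, ?_⟩
  rw [Submodule.eq_bot_iff]
  intro x hx
  refine Submodule.smul_induction_on hx (fun a ha y _ => hk a ha y) (fun x y hx hy => ?_)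
  rw [hx, hy, add_zero]

lemma mem_sup_pow {J : Ideal R} (f : R) (k : ℕ) {a : R}
    (ha : a ∈ (Ideal.span {f} ⊔ J) ^ (1 + k)) : ∃ c : R, ∃ a' ∈ J ^ k, a = c * f + a' := by
  have h1 := Ideal.sup_pow_add_le_pow_sup_pow (I := Ideal.span {f}) (J := J) (n := 1) (m := k) ha
  rw [pow_one] at h1
  obtain ⟨y, hy, z, hz, rfl⟩ := Submodule.mem_sup.1 h1
  obtain ⟨c, rfl⟩ := Ideal.mem_span_singleton'.1 hy
  exact ⟨c, z, hz, rfl⟩

lemma killed_ker {J : Ideal R} {N : ModuleCat.{u} R} (f : R) (h : Killed J N) :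
    Killed (Ideal.span {f} ⊔ J) (Nker N f) := by
  obtain ⟨k, hk⟩ := h
  refine ⟨1 + k, fun a ha x => ?_⟩
  obtain ⟨c, a', ha', rfl⟩ := mem_sup_pow f k ha
  apply Subtype.ext
  change (c * f + a') • (x.1 : N) = 0
  have hx : f • (x.1 : N) = 0 := x.2
  rw [add_smul, mul_smul, hx, smul_zero, zero_add, hk a' ha']

lemma killed_cok {J : Ideal R} {N : ModuleCat.{u} R} (f : R) (h : Killed J N) :
    Killed (Ideal.span {f} ⊔ J) (Ncok N f) := by
  obtain ⟨k, hk⟩ := h
  refine ⟨1 + k, fun a ha x => ?_⟩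
  obtain ⟨c, a', ha', rfl⟩ := mem_sup_pow f k ha
  induction x using Submodule.Quotient.induction_on with
  | H y =>
    change (c * f + a') • Submodule.Quotient.mk y = 0
    rw [← Submodule.Quotient.mk_smul, Submodule.Quotient.mk_eq_zero, add_smul, hk a' ha',
      add_zero, mul_smul]
    exact ⟨c • y, by simp [mulMap]⟩

lemma span_cons (f : R) (fs : List R) :
    Ideal.span {x | x ∈ f :: fs} = Ideal.span {f} ⊔ Ideal.span {x | x ∈ fs} := by
  rw [← Ideal.span_union]
  congr 1
  ext x
  simp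

/-- the Koszul-type iterated cone -/
noncomputable def KosCx : List R → DRing.Cx R → DRing.Cx R
  | [], P => P
  | f :: fs, P => KosCx fs (CochainComplex.mappingCone (f • 𝟙 P))

lemma exactAt_of_iso {K L : DRing.Cx R} (e : K ≅ L) (i : ℤ) (h : K.ExactAt i) : L.ExactAt i := by
  rw [HomologicalComplex.exactAt_iff_isZero_homology] at h ⊢
  exact IsZero.of_iso h ((HomologicalComplex.homologyFunctor _ _ i).mapIso e.symm)

lemma tensCx_map_smul (N : ModuleCat.{u} R) (P : DRing.Cx R) (f : R) :
    (tensCx N).map (f • 𝟙 P) = f • 𝟙 ((tensCx N).obj P) := by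
  refine HomologicalComplex.hom_ext _ _ (fun j => ?_)
  change (f • 𝟙 (P.X j)) ▷ N = f • 𝟙 (P.X j ⊗ N)
  apply ModuleCat.hom_ext
  apply TensorProduct.ext'
  intro x n
  change (f • x) ⊗ₜ[R] n = f • (x ⊗ₜ[R] n)
  rw [TensorProduct.smul_tmul']

lemma termwiseFlat_of_proj (P : DRing.Cx R) (hP : ∀ i, Projective (P.X i)) :
    DRing.TermwiseFlat P := fun i => by
  haveI := hP i
  haveI : Module.Projective R (P.X i) := ModuleCat.projective_of_module_projective (P.X i)
  infer_instance

/-- **Claim 1** -/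
theorem exactAt_KosCx (b : ℤ) : ∀ (fs : List R) (P : DRing.Cx R), (∀ i, Projective (P.X i)) →
    (∀ N : ModuleCat.{u} R, Killed (Ideal.span {x | x ∈ fs}) N → ∀ i : ℤ, b < i →
      ((tensCx N).obj P).ExactAt i) →
    ∀ i : ℤ, b < i → (KosCx fs P).ExactAt i := by
  intro fs
  induction fs with
  | nil =>
    intro P _ h i hi
    have hk : Killed (Ideal.span {x | x ∈ ([] : List R)}) (𝟙_ (ModuleCat.{u} R)) := by
      refine ⟨1, fun a ha x => ?_⟩
      have : a = 0 := by simpa using ha
      rw [this, zero_smul]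
    exact exactAt_of_iso (tensCxUnitIso P) i (h _ hk i hi)
  | cons f fs ih =>
    intro P hP h i hi
    have hfl := termwiseFlat_of_proj P hP
    refine ih (CochainComplex.mappingCone (f • 𝟙 P))
      (fun j => projective_mappingCone_X _ hP hP j) (fun N hN j hj => ?_) i hi
    have e := CochainComplex.mappingCone.mapHomologicalComplexIso (f • 𝟙 P) (tensorRight N)
    have hmap : ((tensorRight N).mapHomologicalComplex (ComplexShape.up ℤ)).map (f • 𝟙 P) =
        f • 𝟙 ((tensCx N).obj P) := tensCx_map_smul N P f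
    rw [hmap] at e
    refine exactAt_of_iso e.symm j ?_
    apply exactAt_mappingCone_smul P hfl N f j
    · exact h _ (by rw [span_cons]; exact killed_ker f hN) (j + 1) (by omega)
    · exact h _ (by rw [span_cons]; exact killed_cok f hN) j hj

/-- **Claim 2** -/
theorem exactAt_of_exactAt_KosCx (I : Ideal R) (b : ℤ) : ∀ (fs : List R) (P : DRing.Cx R),
    (∀ f ∈ fs, f ∈ I) → DRing.IsDerivedComplete I (Q.obj P) →
    (∀ i : ℤ, b < i → (KosCx fs P).ExactAt i) → ∀ i : ℤ, b < i → P.ExactAt i := by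
  intro fs
  induction fs with
  | nil =>
    intro P _ _ h i hi
    exact h i hi
  | cons f fs ih =>
    intro P hfs hc h i hi
    have hf : f ∈ I := hfs f List.mem_cons_self
    have hT := mappingCone_triangle_distinguished (f • 𝟙 P)
    have hc' : DRing.IsDerivedComplete I (Q.obj (CochainComplex.mappingCone (f • 𝟙 P))) :=
      isDerivedComplete_obj₃ I _ hT hc hc
    have h1 := ih (CochainComplex.mappingCone (f • 𝟙 P))
      (fun g hg => hfs g (List.mem_cons_of_mem _ hg)) hc' h i hi
    have h2 := epi_of_exactAt_mappingCone (f • 𝟙 P) i h1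
    rw [Groth.Agent.Lib.Helper8.HSmul.homologyMap_smul_id] at h2
    have h3 : Function.Surjective (fun m : P.homology i => f • m) :=
      (ModuleCat.epi_iff_surjective _).1 h2
    have hd : DCf f (Dual.HD R (Q.obj P) i) := (isDerivedComplete_iff I (Q.obj P)).1 hc f hf i
    have hd' : DCf f (P.homology i) :=
      hd.of_equiv ((homologyFunctorFactors (ModuleCat.{u} R) i).app P).toLinearEquiv
    have hs : Subsingleton (P.homology i) := hd'.subsingleton_of_surjective h3
    rw [HomologicalComplex.exactAt_iff_isZero_homology]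
    exact ModuleCat.isZero_of_subsingleton _

lemma isDerivedComplete_of_iso (I : Ideal R) {X Y : Dual.D R} (e : X ≅ Y)
    (h : DRing.IsDerivedComplete I X) : DRing.IsDerivedComplete I Y := by
  rw [isDerivedComplete_iff_forall_isCompl] at h ⊢
  exact fun f hf => (h f hf).of_iso e

lemma exists_kproj (K : Dual.D R) :
    ∃ P : DRing.Cx R, P.IsKProjective ∧ (∀ i, Projective (P.X i)) ∧ Nonempty (Q.obj P ≅ K) := by
  obtain ⟨P, h1, h2, h3⟩ := exists_kprojective_module K
  refine ⟨P, h1, fun i => ?_, h3⟩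
  haveI := h2 i
  exact ModuleCat.projective_of_categoryTheory_projective (P.X i)

/-- **core**: vanishing of the cohomology of `K ⊗ᴸ A/I` above `b` implies that of `K`, for `K`
derived complete. -/
theorem core (I : Ideal R) (hI : I.FG) [DRing.HasLTensor R (ModuleCat.of R (R ⧸ I))]
    (K : Dual.D R) (hc : DRing.IsDerivedComplete I K) (b : ℤ)
    (h : ∀ i : ℤ, b < i → Subsingleton
      (Dual.HD R ((DRing.LTensor R (ModuleCat.of R (R ⧸ I))).obj K) i)) :
    ∀ i : ℤ, b < i → Subsingleton (Dual.HD R K i) := by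
  obtain ⟨s, rfl⟩ := hI
  obtain ⟨P, hKP, hproj, ⟨e⟩⟩ := exists_kproj K
  haveI := hKP
  set I := Ideal.span (s : Set R) with hIdef
  have hfl := termwiseFlat_of_proj P hproj
  have h0 : ∀ i : ℤ, b < i → ((tensCx (ModuleCat.of R (R ⧸ I))).obj P).ExactAt i :=
    fun i hi => (subsingleton_HD_LTensor_iff _ P e i).1 (h i hi)
  have hset : {x | x ∈ s.toList} = (s : Set R) := by
    ext x
    simp
  have h1 : ∀ N : ModuleCat.{u} R, Killed (Ideal.span {x | x ∈ s.toList}) N → ∀ i : ℤ, b < i →
      ((tensCx N).obj P).ExactAt i := by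
    intro N hN i hi
    rw [hset] at hN
    obtain ⟨n, hn⟩ := hN.pow_smul_top
    exact exactAt_tensCx_of_quotient_of_gt I P hfl b h0 n N hn i hi
  have h2 := exactAt_KosCx b s.toList P hproj h1
  have hc' : DRing.IsDerivedComplete I (Q.obj P) := isDerivedComplete_of_iso I e.symm hc
  have h3 := exactAt_of_exactAt_KosCx I b s.toList P
    (fun f hf => Ideal.subset_span (Finset.mem_toList.1 hf)) hc' h2
  intro i hi
  exact (subsingleton_HD_iff_exactAt P e.symm i).2 (h3 i hi)

lemma isZero_of_forall_subsingleton_HD (K : Dual.D R)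
    (h : ∀ i : ℤ, Subsingleton (Dual.HD R K i)) : IsZero K := by
  have : IsIso (0 : K ⟶ K) := by
    rw [DerivedCategory.isIso_iff]
    intro n
    have hz : IsZero ((homologyFunctor (ModuleCat.{u} R) n).obj K) :=
      ModuleCat.isZero_of_subsingleton _
    exact ⟨⟨0, hz.eq_of_src _ _, hz.eq_of_src _ _⟩⟩
  rw [IsZero.iff_id_eq_zero]
  rw [← IsIso.hom_inv_id (0 : K ⟶ K), zero_comp]

/-- **S7055** -/
theorem isZero_of_isDerivedComplete (I : Ideal R) (hI : I.FG)
    [DRing.HasLTensor R (ModuleCat.of R (R ⧸ I))]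
    (K : Dual.D R) (hc : DRing.IsDerivedComplete I K)
    (h0 : IsZero ((DRing.LTensor R (ModuleCat.of R (R ⧸ I))).obj K)) : IsZero K := by
  apply isZero_of_forall_subsingleton_HD
  intro i
  refine core I hI K hc (i - 1) (fun j _ => ?_) i (by omega)
  exact ModuleCat.subsingleton_of_isZero
    ((homologyFunctor (ModuleCat.{u} R) j).map_isZero h0)

lemma isLE_of_subsingleton (K : Dual.D R) (b : ℤ)
    (h : ∀ i : ℤ, b < i → Subsingleton (Dual.HD R K i)) : K.IsLE b := by
  rw [DerivedCategory.isLE_iff]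
  intro i hi
  haveI := h i hi
  exact ModuleCat.isZero_of_subsingleton _

/-- right t-exactness of `- ⊗ᴸ M` -/
theorem subsingleton_HD_LTensor_of_gt (M : ModuleCat.{u} R) [DRing.HasLTensor R M] (K : Dual.D R)
    (b : ℤ) (h : ∀ i : ℤ, b < i → Subsingleton (Dual.HD R K i)) :
    ∀ i : ℤ, b < i → Subsingleton (Dual.HD R ((DRing.LTensor R M).obj K) i) := by
  obtain ⟨P, hKP, hproj, ⟨e⟩⟩ := exists_kproj K
  haveI := hKP
  have hle : (Q.obj P).IsLE b := by
    apply isLE_of_subsingleton
    intro i hi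
    haveI := h i hi
    exact ((homologyFunctor (ModuleCat.{u} R) i).mapIso e).toLinearEquiv.toEquiv.subsingleton
  obtain ⟨F, eF, hF, -⟩ := exists_bddAbove_model P b hle
  intro i hi
  rw [subsingleton_HD_LTensor_iff M P e i, ← exactAt_tensCx_iff_of_homotopyEquiv eF M i,
    HomologicalComplex.exactAt_iff_isZero_homology]
  apply ShortComplex.isZero_homology_of_isZero_X₂
  exact Functor.map_isZero (tensorRight M) (hF i hi)

/-- **S7056** -/
theorem homology_pos_vanishing_iff (I : Ideal R) (hI : I.FG)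
    [DRing.HasLTensor R (ModuleCat.of R (R ⧸ I))]
    (K : Dual.D R) (hc : DRing.IsDerivedComplete I K) :
    (∀ i : ℤ, 0 < i → Subsingleton (Dual.HD R K i)) ↔
      ∀ i : ℤ, 0 < i → Subsingleton
        (Dual.HD R ((DRing.LTensor R (ModuleCat.of R (R ⧸ I))).obj K) i) :=
  ⟨subsingleton_HD_LTensor_of_gt _ K 0, core I hI K hc 0⟩

end Groth.Agent.Lib.Helper8.DNak
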