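import Mathlib
import Groth.Agent.Lib.Helper8.Dep1
import Groth.Agent.Lib.Helper8.Gor1

/-! # Helper8 — Dep2: depth of a finite module over a local ring with normalized dualizing complex `ω`
is the least `δ` with `Ext^{-δ}(M, ω) ≠ 0` (`depth_aux`, `depth_eq_iff_ext`, S0367); surjectivity in
the long exact sequence (`hom_surjective_of_exact`, `nontrivial_hom_of_exact`). -/

set_option autoImplicit false

universe u

open CategoryTheory CategoryTheory.Limits CategoryTheory.Pretriangulated Opposite DerivedCategory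

attribute [local instance] HasDerivedCategory.standard

namespace Groth.Agent.Lib.Helper8.Bidual

open Groth.Agent.Lib.Helper8 Groth.Agent.Lib.Helper16.FlatBC

section LES2

variable {A : Type u} [CommRing A] (L : Dual.D A)

/-- if `Ext^{i+1}(N₃, L) = 0` then `Ext^i(N₂, L) → Ext^i(N₁, L)` is surjective -/
lemma hom_surjective_of_exact {N₁ N₂ N₃ : Type u} [AddCommGroup N₁] [Module A N₁]
    [AddCommGroup N₂] [Module A N₂] [AddCommGroup N₃] [Module A N₃]
    (f : N₁ →ₗ[A] N₂) (g : N₂ →ₗ[A] N₃) (hf : Function.Injective f)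
    (hg : Function.Surjective g) (hfg : Function.Exact f g) (i : ℤ)
    (h : Subsingleton (Dual.inD A N₃ ⟶ L⟦i + 1⟧)) (e : Dual.inD A N₁ ⟶ L⟦i⟧) :
    ∃ e' : Dual.inD A N₂ ⟶ L⟦i⟧,
      (singleFunctor (ModuleCat.{u} A) 0).map (ModuleCat.ofHom f) ≫ e' = e := by
  obtain ⟨δ, hT⟩ := EFB.exists_singleTriangle f g hf hg hfg
  have hT' := inv_rot_of_distTriang _ hT
  have hsub : Subsingleton ((Dual.inD A N₃)⟦(-1 : ℤ)⟧ ⟶ L⟦i⟧) := by
    have e1 : ((Dual.inD A N₃)⟦(-1 : ℤ)⟧ ⟶ L⟦i⟧) ≃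
        ((Dual.inD A N₃)⟦(-1 : ℤ)⟧⟦(1 : ℤ)⟧ ⟶ L⟦i⟧⟦(1 : ℤ)⟧) :=
      (EFB.shiftEquivLin 1 _ _).toEquiv
    have e2 := Iso.homCongr
      ((shiftFunctorCompIsoId (Dual.D A) (-1) 1 (by omega)).app (Dual.inD A N₃))
      ((shiftFunctorAdd' (Dual.D A) i 1 (i + 1) rfl).app L).symm
    exact @Equiv.subsingleton _ _ (e1.trans e2) h
  obtain ⟨(w : Dual.inD A N₂ ⟶ L⟦i⟧), hw⟩ := Triangle.yoneda_exact₂ _ hT' e (hsub.elim _ _)
  exact ⟨w, hw.symm⟩

lemma nontrivial_hom_of_exact {N₁ N₂ N₃ : Type u} [AddCommGroup N₁] [Module A N₁]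
    [AddCommGroup N₂] [Module A N₂] [AddCommGroup N₃] [Module A N₃]
    (f : N₁ →ₗ[A] N₂) (g : N₂ →ₗ[A] N₃) (hf : Function.Injective f)
    (hg : Function.Surjective g) (hfg : Function.Exact f g) (i : ℤ)
    (h : Subsingleton (Dual.inD A N₃ ⟶ L⟦i + 1⟧)) (h1 : Nontrivial (Dual.inD A N₁ ⟶ L⟦i⟧)) :
    Nontrivial (Dual.inD A N₂ ⟶ L⟦i⟧) := by
  obtain ⟨w, hw⟩ := exists_ne (0 : Dual.inD A N₁ ⟶ L⟦i⟧)
  obtain ⟨e', he'⟩ := hom_surjective_of_exact L f g hf hg hfg i h w
  refine ⟨⟨e', 0, ?_⟩⟩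
  rintro rfl
  exact hw (by rw [← he']; exact comp_zero)

lemma nontrivial_hom_congr {N N' : Type u} [AddCommGroup N] [Module A N]
    [AddCommGroup N'] [Module A N'] (e : N ≃ₗ[A] N') :
    Nontrivial (Dual.inD A N ⟶ L) ↔ Nontrivial (Dual.inD A N' ⟶ L) := by
  let j : Dual.inD A N ≅ Dual.inD A N' :=
    (singleFunctor (ModuleCat.{u} A) 0).mapIso e.toModuleIso
  exact (EFB.precompEquivLin j.symm L).toEquiv.nontrivial_congr

end LES2

section Quot

variable {A : Type u} [CommRing A] (M : Type u) [AddCommGroup M] [Module A M] (x : A)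

/-- `M / xM` in the two forms -/
noncomputable def quotSMulTopEquiv :
    QuotSMulTop x M ≃ₗ[A] M ⧸ LinearMap.range (LinearMap.lsmul A M x) :=
  Submodule.quotEquivOfEq _ _ (by
    ext y
    rw [Submodule.mem_smul_pointwise_iff_exists, LinearMap.mem_range]
    constructor
    · rintro ⟨z, -, rfl⟩
      exact ⟨z, rfl⟩
    · rintro ⟨z, rfl⟩
      exact ⟨z, Submodule.mem_top, rfl⟩)

end Quot

section Depth

variable {A : Type u} [CommRing A] [IsLocalRing A] [IsNoetherianRing A]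

open Groth.Agent.Lib.Helper21.DepthKit

/-- the residue field has a nonzero map to a normalized dualizing complex -/
lemma nontrivial_hom_residue (ω : Dual.D A) (hω : Dual.IsDualizing A ω)
    (hn : Dual.IsNormalized A ω) :
    Nontrivial (Dual.inD A (A ⧸ IsLocalRing.maximalIdeal A) ⟶ ω⟦(0 : ℤ)⟧) := by
  obtain ⟨l⟩ := hom_residue_normalized ω hω hn
  have h1 : Nontrivial (Dual.inD A (IsLocalRing.ResidueField A) ⟶ ω⟦(0 : ℤ)⟧) :=
    ((postcompEquivLin ((shiftFunctorZero (Dual.D A) ℤ).app ω) _).trans l).toEquiv.nontrivial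
  exact (nontrivial_hom_congr (ω⟦(0 : ℤ)⟧) (EFB.residueEquiv A)).2 h1

theorem depth_aux (ω : Dual.D A) (hω : Dual.IsDualizing A ω) (hn : Dual.IsNormalized A ω) :
    ∀ (n : ℕ) (M : Type u) [AddCommGroup M] [Module A M] [Module.Finite A M] [Nontrivial M],
      LocCoh.depth A M = n →
      (∀ k : ℕ, k < n → Subsingleton (Dual.inD A M ⟶ ω⟦(-(k : ℤ))⟧)) ∧
        Nontrivial (Dual.inD A M ⟶ ω⟦(-(n : ℤ))⟧) := by
  intro n
  induction n with
  | zero =>
    intro M _ _ _ _ hdep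
    refine ⟨fun k hk => absurd hk (Nat.not_lt_zero k), ?_⟩
    have hass : IsLocalRing.maximalIdeal A ∈ associatedPrimes A M :=
      (Groth.Agent.S5752.result A M).1 (by exact_mod_cast hdep)
    obtain ⟨_, f, hf⟩ := (isAssociatedPrime_iff_exists_injective_linearMap
      (IsLocalRing.maximalIdeal A) M).1 hass
    have h1 := nontrivial_hom_residue ω hω hn
    have h3 : Subsingleton (Dual.inD A (M ⧸ LinearMap.range f) ⟶ ω⟦(0 : ℤ) + 1⟧) :=
      subsingleton_ext_pos ω hω hn _ _ (by omega)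
    have := nontrivial_hom_of_exact ω f (LinearMap.range f).mkQ hf (Submodule.mkQ_surjective _)
      (LinearMap.exact_map_mkQ_range f) 0 h3 h1
    simpa using this
  | succ n ih =>
    intro M _ _ _ _ hdep
    have h1le : 1 ≤ LocCoh.depth A M := by
      rw [hdep]
      exact_mod_cast Nat.succ_le_succ (Nat.zero_le n)
    obtain ⟨x, hxm, hreg⟩ := exists_regular_of_one_le_depth (A := A) (M := M) h1le
    have hx : Function.Injective (fun y : M => x • y) := hreg
    haveI hnt' : Nontrivial (QuotSMulTop x M) := nontrivial_quotSMulTop (M := M) x hxm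
    haveI : Nontrivial (M ⧸ LinearMap.range (LinearMap.lsmul A M x)) :=
      (quotSMulTopEquiv M x).symm.toEquiv.nontrivial
    have hd1 := depth_quotSMulTop (M := M) x hxm hreg
    rw [depth_congr (quotSMulTopEquiv M x), hdep] at hd1
    have hd2 : LocCoh.depth A (M ⧸ LinearMap.range (LinearMap.lsmul A M x)) = n := by
      obtain ⟨k, hk⟩ := exists_nat_depth (A := A)
        (M := M ⧸ LinearMap.range (LinearMap.lsmul A M x))
      rw [hk] at hd1 ⊢
      have : k + 1 = n + 1 := by exact_mod_cast hd1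
      have : k = n := by omega
      rw [this]
    obtain ⟨hv, hnv⟩ := ih (M ⧸ LinearMap.range (LinearMap.lsmul A M x)) hd2
    have hvan : ∀ k : ℕ, k < n + 1 → Subsingleton (Dual.inD A M ⟶ ω⟦(-(k : ℤ))⟧) := by
      intro k hk
      have hsub : Subsingleton (Dual.inD A (M ⧸ LinearMap.range (LinearMap.lsmul A M x)) ⟶
          ω⟦(-(k : ℤ)) + 1⟧) := by
        rcases Nat.eq_zero_or_pos k with rfl | hkpos
        · exact subsingleton_ext_pos ω hω hn _ _ (by simp)
        · have := hv (k - 1) (by omega)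
          have h5 : (-((k - 1 : ℕ) : ℤ)) = (-(k : ℤ)) + 1 := by
            rw [Nat.cast_sub hkpos]
            push_cast
            ring
          rwa [h5] at this
      have hsurj := smul_surjective_of_subsingleton ω x hx (-(k : ℤ)) hsub
      haveI := finite_hom_inD_of_isDualizing ω hω M (-(k : ℤ))
      exact subsingleton_of_smul_surjective x hxm hsurj
    refine ⟨hvan, ?_⟩
    have h6 : (-((n + 1 : ℕ) : ℤ)) + 1 = -(n : ℤ) := by push_cast; ring
    exact nontrivial_of_connecting ω x hx (-((n + 1 : ℕ) : ℤ)) (by rw [h6]; exact hvan n (by omega))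
      (by rw [h6]; exact hnv)

/-- S0367 -/
theorem depth_eq_iff_ext (ω : Dual.D A) (hω : Dual.IsDualizing A ω) (hn : Dual.IsNormalized A ω)
    (M : Type u) [AddCommGroup M] [Module A M] [Module.Finite A M] [Nontrivial M] (n : ℕ) :
    LocCoh.depth A M = n ↔
      ((∀ k : ℕ, k < n → Subsingleton (Dual.inD A M ⟶ ω⟦(-(k : ℤ))⟧)) ∧
        Nontrivial (Dual.inD A M ⟶ ω⟦(-(n : ℤ))⟧)) := by
  constructor
  · exact depth_aux ω hω hn n M
  · rintro ⟨h1, h2⟩
    obtain ⟨k, hk⟩ := exists_nat_depth (A := A) (M := M)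
    obtain ⟨h3, h4⟩ := depth_aux ω hω hn k M hk
    rw [hk]
    rcases lt_trichotomy k n with h | h | h
    · exact absurd h4 (not_nontrivial_iff_subsingleton.2 (h1 k h))
    · rw [h]
    · exact absurd h2 (not_nontrivial_iff_subsingleton.2 (h3 n h))

end Depth

end Groth.Agent.Lib.Helper8.Bidual
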