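import Mathlib
import Groth.Agent.Lib.Helper8.Dep2

/-! # Helper8 — Dep3: depth of the ring from `H^{-δ}(ω)` (S0365); Cohen–Macaulay modules via a single
nonvanishing `Ext` into the normalized dualizing complex (S0368). -/

set_option autoImplicit false

universe u

open CategoryTheory CategoryTheory.Limits CategoryTheory.Pretriangulated Opposite DerivedCategory

attribute [local instance] HasDerivedCategory.standard

namespace Groth.Agent.Lib.Helper8.Bidual

open Groth.Agent.Lib.Helper8 Groth.Agent.Lib.Helper16.FlatBC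

section Unit

variable {A : Type u} [CommRing A]

/-- `Hom(A[0], K[i]) ≃ H^i(K)` -/
noncomputable def homUnitShiftEquiv (K : Dual.D A) (i : ℤ) :
    (Dual.inD A A ⟶ K⟦i⟧) ≃ Dual.HD A K i :=
  (inDEvEquiv (K⟦i⟧)).trans
    (((homologyFunctor (ModuleCat.{u} A) 0).shiftIso i 0 i (by omega)).app K).toLinearEquiv.toEquiv

end Unit

section Depth

variable {A : Type u} [CommRing A] [IsLocalRing A] [IsNoetherianRing A]

open Groth.Agent.Lib.Helper21.DepthKit

/-- S0365 -/
theorem depth_self_eq_iff (ω : Dual.D A) (hω : Dual.IsDualizing A ω) (hn : Dual.IsNormalized A ω)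
    (n : ℕ) :
    LocCoh.depth A A = n ↔
      ((∀ k : ℕ, k < n → Subsingleton (Dual.HD A ω (-(k : ℤ)))) ∧
        Nontrivial (Dual.HD A ω (-(n : ℤ)))) := by
  rw [depth_eq_iff_ext ω hω hn A n]
  refine and_congr (forall_congr' fun k => imp_congr_right fun _ => ?_) ?_
  · exact (homUnitShiftEquiv ω (-(k : ℤ))).subsingleton_congr
  · exact (homUnitShiftEquiv ω (-(n : ℤ))).nontrivial_congr

/-- S0368 -/
theorem isCohenMacaulayModule_iff_ext (ω : Dual.D A) (hω : Dual.IsDualizing A ω)
    (hn : Dual.IsNormalized A ω) (M : Type u) [AddCommGroup M] [Module A M] [Module.Finite A M]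
    [Nontrivial M] (d : ℕ) (hd : Module.supportDim A M = d) :
    LocCoh.IsCohenMacaulayModule A M ↔
      ∀ i : ℤ, i ≠ d → Subsingleton (Dual.inD A M ⟶ ω⟦(-i)⟧) := by
  unfold LocCoh.IsCohenMacaulayModule
  obtain ⟨k, hk⟩ := exists_nat_depth (A := A) (M := M)
  obtain ⟨h3, h4⟩ := depth_aux ω hω hn k M hk
  rw [hd, hk]
  constructor
  · intro h i hi
    have hkd : d = k := by exact_mod_cast h
    by_contra hc
    rw [not_subsingleton_iff_nontrivial] at hc
    have h5 := ext_range ω hω hn M d hd.le (-i) hc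
    -- so `0 ≤ i ≤ d`
    obtain ⟨j, rfl⟩ : ∃ j : ℕ, i = j := ⟨i.toNat, by omega⟩
    have hjk : j < k := by
      have : (j : ℤ) ≠ d := hi
      have : j ≠ d := by exact_mod_cast this
      omega
    exact (not_subsingleton_iff_nontrivial.2 hc) (h3 j hjk)
  · intro h
    have : k = d := by
      by_contra hne
      have := h (k : ℤ) (by exact_mod_cast hne)
      exact (not_subsingleton_iff_nontrivial.2 h4) this
    rw [this]
    rfl

end Depth

end Groth.Agent.Lib.Helper8.Bidual
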