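import Mathlib
import Groth.Agent.Lib.Helper8.Dep3
import Groth.Agent.Lib.Helper21.DepthKit11

/-! # Helper8 — Dep4: localization of `Ext^i(M, ω)` for finite `M` (`nontrivial_localized_hom_iff`), the
localized dualizing complex shifted by the dimension function is normalized
(`isNormalized_localization_shift`), and the key computation `localized_ext_depth`:
`Ext^{-j}(M, ω)_p` vanishes for `j < depth M_p + dim A/p` and is nonzero at equality. -/

set_option autoImplicit false

universe u

open CategoryTheory CategoryTheory.Limits CategoryTheory.Pretriangulated Opposite DerivedCategory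
open scoped TensorProduct

attribute [local instance] HasDerivedCategory.standard

namespace Groth.Agent.Lib.Helper8.Bidual

open Groth.Agent.Lib.Helper8 Groth.Agent.Lib.Helper16.FlatBC

section BC

variable {A B : Type u} [CommRing A] [CommRing B] [Algebra A B] [Module.Flat A B]
  [IsNoetherianRing A]

/-- `B`-linear Ext flat base change for a finite module -/
theorem nonempty_bcLinearEquiv_finite (M : Type u) [AddCommGroup M] [Module A M]
    [Module.Finite A M] (L : Dual.D A) (hL : ∃ c : ℤ, L.IsGE c) (i : ℤ) :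
    Nonempty (B ⊗[A] (Dual.inD A M ⟶ L⟦i⟧) ≃ₗ[B]
      (Dual.inD B (B ⊗[A] M) ⟶ ((ε (algebraMap A B)).obj L)⟦i⟧)) := by
  obtain ⟨Θ, hΘ⟩ := EFB.exists_bcEquiv_shift (B := B) (Dual.inD A M) L
    ⟨0, fun j hj => EFB.subsingleton_HD_inD M j (by omega)⟩
    (fun j => EFB.finite_HD_inD M j) hL i
  have hlin : ∀ (c : B) (z : B ⊗[A] (Dual.inD A M ⟶ L⟦i⟧)), Θ (c • z) = c • Θ z := by
    intro c z
    induction z using TensorProduct.induction_on with
    | zero => rw [smul_zero, map_zero, smul_zero]
    | tmul b f => rw [TensorProduct.smul_tmul', hΘ, hΘ, smul_eq_mul, mul_smul]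
    | add y z hy hz => rw [smul_add, map_add, map_add, hy, hz, smul_add]
  let Θl : B ⊗[A] (Dual.inD A M ⟶ L⟦i⟧) ≃ₗ[B]
      ((ε (algebraMap A B)).obj (Dual.inD A M) ⟶ ((ε (algebraMap A B)).obj L)⟦i⟧) :=
    { Θ with map_smul' := hlin }
  exact ⟨Θl.trans (EFB.precompEquivLin (inDExtIso (B := B) M) _)⟩

end BC

section Loc

variable {A : Type u} [CommRing A] [IsNoetherianRing A] (p : Ideal A) [hpp : p.IsPrime]

/-- `Ext^i(M, ω)_p ≠ 0` iff `Ext^i(M_p, ω_p) ≠ 0` -/
theorem nontrivial_localized_hom_iff (ω : Dual.D A) (hω : Dual.IsDualizing A ω)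
    (M : Type u) [AddCommGroup M] [Module A M] [Module.Finite A M] (i : ℤ) :
    Nontrivial (LocalizedModule p.primeCompl (Dual.inD A M ⟶ ω⟦i⟧)) ↔
      Nontrivial (Dual.inD (Localization.AtPrime p) (LocalizedModule p.primeCompl M) ⟶
          ((ε (algebraMap A (Localization.AtPrime p))).obj ω)⟦i⟧) := by
  obtain ⟨Φ⟩ := nonempty_bcLinearEquiv_finite (B := Localization.AtPrime p) M ω
    (exists_isGE_of_isDualizing ω hω) i
  let e2 : (Localization.AtPrime p) ⊗[A] (Dual.inD A M ⟶ ω⟦i⟧) ≃ₗ[Localization.AtPrime p]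
      LocalizedModule p.primeCompl (Dual.inD A M ⟶ ω⟦i⟧) :=
    (IsLocalizedModule.isBaseChange p.primeCompl (Localization.AtPrime p)
      (LocalizedModule.mkLinearMap p.primeCompl (Dual.inD A M ⟶ ω⟦i⟧))).equiv
  let e3 : LocalizedModule p.primeCompl M ≃ₗ[Localization.AtPrime p]
      (Localization.AtPrime p) ⊗[A] M := LocalizedModule.equivTensorProduct p.primeCompl M
  exact (e2.symm.trans Φ).toEquiv.nontrivial_congr.trans (nontrivial_hom_congr _ e3).symm

/-- the shift of the localized dualizing complex by the dimension function is normalized -/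
theorem isNormalized_localization_shift (ω : Dual.D A) (hω : Dual.IsDualizing A ω) (e : ℤ)
    (h1 : ∀ i : ℤ, Nontrivial (LocalizedModule p.primeCompl
      (Dual.inD A (A ⧸ p) ⟶ ω⟦i⟧)) ↔ i = -e) :
    Dual.IsNormalized (Localization.AtPrime p)
      (((ε (algebraMap A (Localization.AtPrime p))).obj ω)⟦-e⟧) := by
  intro j hj
  have h7 : ¬ Nontrivial (Dual.inD (Localization.AtPrime p)
      (IsLocalRing.ResidueField (Localization.AtPrime p)) ⟶
        ((ε (algebraMap A (Localization.AtPrime p))).obj ω)⟦-e + j⟧) := by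
    rw [← nontrivial_localized_ext_iff p ω hω (-e + j), h1]
    omega
  rw [not_nontrivial_iff_subsingleton] at h7
  exact (Iso.homCongr (Iso.refl _)
    ((shiftFunctorAdd' (Dual.D (Localization.AtPrime p)) (-e) j (-e + j) rfl).app
      _).symm).subsingleton

end Loc

section Key

variable {A : Type u} [CommRing A] [IsNoetherianRing A]

open Groth.Agent.Lib.Helper21.DepthKit

/-- the key local computation: `Ext^{-j}(M, ω)_p` vanishes for `j < depth M_p + dim A/p` and is
nonzero for `j = depth M_p + dim A/p` -/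
theorem localized_ext_depth (ω : Dual.D A) (hω : Dual.IsDualizing A ω)
    (p : Ideal A) [hpp : p.IsPrime] (e : ℤ)
    (h1 : ∀ i : ℤ, Nontrivial (LocalizedModule p.primeCompl
      (Dual.inD A (A ⧸ p) ⟶ ω⟦i⟧)) ↔ i = -e)
    (M : Type u) [AddCommGroup M] [Module A M] [Module.Finite A M]
    [Nontrivial (LocalizedModule p.primeCompl M)] (k : ℕ)
    (hk : LocCoh.depth (Localization.AtPrime p) (LocalizedModule p.primeCompl M) = k) :
    (∀ j : ℤ, j < k + e →
      Subsingleton (LocalizedModule p.primeCompl (Dual.inD A M ⟶ ω⟦-j⟧))) ∧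
    Nontrivial (LocalizedModule p.primeCompl (Dual.inD A M ⟶ ω⟦-(k + e)⟧)) := by
  have hωp := isDualizing_ε_atPrime p ω hω
  have hω' := isDualizing_shift _ hωp (-e)
  have hn' := isNormalized_localization_shift p ω hω e h1
  obtain ⟨h3, h4⟩ := depth_aux _ hω' hn' k (LocalizedModule p.primeCompl M) hk
  -- translation between shifts
  have htr : ∀ t s : ℤ, -e + t = s →
      ((Dual.inD (Localization.AtPrime p) (LocalizedModule p.primeCompl M) ⟶
        (((ε (algebraMap A (Localization.AtPrime p))).obj ω)⟦-e⟧)⟦t⟧) ≃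
      (Dual.inD (Localization.AtPrime p) (LocalizedModule p.primeCompl M) ⟶
        ((ε (algebraMap A (Localization.AtPrime p))).obj ω)⟦s⟧)) := fun t s hts =>
    Iso.homCongr (Iso.refl _)
      ((shiftFunctorAdd' (Dual.D (Localization.AtPrime p)) (-e) t s hts).app _).symm
  constructor
  · intro j hj
    rw [← not_nontrivial_iff_subsingleton, nontrivial_localized_hom_iff p ω hω M (-j),
      not_nontrivial_iff_subsingleton]
    rcases lt_or_ge j e with hlt | hge
    · haveI := subsingleton_ext_pos _ hω' hn' (LocalizedModule p.primeCompl M) (e - j) (by omega)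
      exact (htr (e - j) (-j) (by omega)).symm.subsingleton
    · obtain ⟨k', hk'⟩ : ∃ k' : ℕ, j - e = k' := ⟨(j - e).toNat, by omega⟩
      haveI := h3 k' (by omega)
      exact (htr (-(k' : ℤ)) (-j) (by omega)).symm.subsingleton
  · rw [nontrivial_localized_hom_iff p ω hω M]
    exact (htr (-(k : ℤ)) (-(k + e)) (by omega)).symm.nontrivial

end Key

end Groth.Agent.Lib.Helper8.Bidual
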