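import Mathlib
import Groth.Agent.Lib.Helper8.Dep4

/-! # Helper8 — Dep5: for a local ring with normalized dualizing complex `ω` and finite `M`:
`dim Supp Ext^i(M, ω) ≤ -i` (S0366), `Ext^{-dim M}(M, ω) ≠ 0` (S19859), and
`p ∈ Supp Ext^{-j}(M, ω)` for some `j ≤ i` iff `depth M_p + dim A/p ≤ i` (S1712). -/

set_option autoImplicit false

universe u

open CategoryTheory CategoryTheory.Limits CategoryTheory.Pretriangulated Opposite DerivedCategory
open scoped TensorProduct

attribute [local instance] HasDerivedCategory.standard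

namespace Groth.Agent.Lib.Helper8.Bidual

open Groth.Agent.Lib.Helper8 Groth.Agent.Lib.Helper16.FlatBC

section Chains

variable {A : Type u} [CommRing A] [IsNoetherianRing A]

/-- chains of primes and a dimension function -/
lemma dimFun_length_le (δ : PrimeSpectrum A → ℤ)
    (h2 : ∀ p q : PrimeSpectrum A, p ⋖ q → δ p = δ q + 1) (l : LTSeries (PrimeSpectrum A)) :
    δ l.last + l.length ≤ δ l.head := by
  have hanti := dimFun_strictAnti δ h2
  have hk : ∀ (k : ℕ) (hk : k < l.length + 1), δ (l ⟨k, hk⟩) + k ≤ δ (l 0) := by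
    intro k
    induction k with
    | zero => intro hk; simp
    | succ k ih =>
      intro hk
      have h3 := ih (by omega)
      have h4 : l ⟨k, by omega⟩ < l ⟨k + 1, hk⟩ := l.strictMono (by simp [Fin.lt_def])
      have h5 := hanti _ _ h4
      push_cast
      omega
  exact hk l.length (by omega)

end Chains

section Main

variable {A : Type u} [CommRing A] [IsLocalRing A] [IsNoetherianRing A]

open Groth.Agent.Lib.Helper21.DepthKit

omit [IsLocalRing A] in
/-- primes in the support of `Ext^i(M, ω)` have `dim A/q ≤ -i` -/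
theorem dimFun_le_of_mem_support_ext (ω : Dual.D A) (hω : Dual.IsDualizing A ω)
    (δ : PrimeSpectrum A → ℤ)
    (h1 : ∀ (p : PrimeSpectrum A) (i : ℤ),
        Nontrivial (LocalizedModule p.asIdeal.primeCompl
          (Dual.inD A (A ⧸ p.asIdeal) ⟶ ω⟦i⟧)) ↔ i = -δ p)
    (M : Type u) [AddCommGroup M] [Module A M] [Module.Finite A M] (i : ℤ)
    (q : PrimeSpectrum A) (hq : q ∈ Module.support A (Dual.inD A M ⟶ ω⟦i⟧)) :
    δ q ≤ -i ∧ q ∈ Module.support A M := by
  rw [Module.mem_support_iff] at hq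
  have hq' := (nontrivial_localized_hom_iff q.asIdeal ω hω M i).1 hq
  have hMq : Nontrivial (LocalizedModule q.asIdeal.primeCompl M) := by
    by_contra hc
    rw [not_nontrivial_iff_subsingleton] at hc
    haveI := subsingleton_hom_inD_of_subsingleton
      (((ε (algebraMap A (Localization.AtPrime q.asIdeal))).obj ω)⟦i⟧)
      (LocalizedModule q.asIdeal.primeCompl M)
    exact not_nontrivial _ hq'
  refine ⟨?_, Module.mem_support_iff.2 hMq⟩
  obtain ⟨k, hk⟩ := exists_nat_depth (A := Localization.AtPrime q.asIdeal)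
    (M := LocalizedModule q.asIdeal.primeCompl M)
  obtain ⟨h3, -⟩ := localized_ext_depth ω hω q.asIdeal (δ q) (h1 q) M k hk
  by_contra hc
  haveI := h3 (-i) (by omega)
  rw [neg_neg] at this
  exact not_nontrivial _ hq

/-- S0366 -/
theorem ext_vanishing_and_support (ω : Dual.D A) (hω : Dual.IsDualizing A ω)
    (hn : Dual.IsNormalized A ω) (M : Type u) [AddCommGroup M] [Module A M] [Module.Finite A M]
    (d : ℕ) (hd : Module.supportDim A M = d) (i : ℤ) :
    (Nontrivial (Dual.inD A M ⟶ ω⟦i⟧) → (-(d : ℤ) ≤ i ∧ i ≤ 0)) ∧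
      Module.supportDim A (Dual.inD A M ⟶ ω⟦i⟧) ≤ ((-i).toNat : WithBot ℕ∞) := by
  refine ⟨fun h => ext_range ω hω hn M d hd.le i h, ?_⟩
  obtain ⟨δ, h1, h2, h0⟩ := exists_dimension_function_normalized ω hω hn
  unfold Module.supportDim Order.krullDim
  refine iSup_le (fun l => ?_)
  have h3 := dimFun_length_le δ h2 (l.map Subtype.val (fun _ _ h => h))
  rw [LTSeries.head_map, LTSeries.last_map] at h3
  have h4 := (dimFun_le_of_mem_support_ext ω hω δ h1 M i l.head.1 l.head.2).1
  have h5 := (ringKrullDim_quotient_eq_dimFun δ h2 h0 l.last.1).1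
  have h6 : (l.map Subtype.val (fun _ _ h => h)).length = l.length := rfl
  rw [h6] at h3
  have h7 : l.length ≤ (-i).toNat := by omega
  exact_mod_cast h7

/-- S19859 -/
theorem nontrivial_ext_neg_supportDim (ω : Dual.D A) (hω : Dual.IsDualizing A ω)
    (hn : Dual.IsNormalized A ω) (M : Type u) [AddCommGroup M] [Module A M] [Module.Finite A M]
    [Nontrivial M] (d : ℕ) (hd : Module.supportDim A M = d) :
    Nontrivial (Dual.inD A M ⟶ ω⟦(-(d : ℤ))⟧) := by
  obtain ⟨δ, h1, h2, h0⟩ := exists_dimension_function_normalized ω hω hn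
  have hanti := dimFun_strictAnti δ h2
  obtain ⟨l, hl⟩ := Order.le_krullDim_iff.1 (show ((d : ℕ) : WithBot ℕ∞) ≤
    Order.krullDim (Module.support A M) from hd.ge)
  have hδle : ∀ q ∈ Module.support A M, δ q ≤ d := by
    intro q hq
    obtain ⟨h3, h4⟩ := ringKrullDim_quotient_eq_dimFun δ h2 h0 q
    have h5 := ringKrullDim_quotient_le_supportDim_of_mem_support (A := A) (M := M) hq
    rw [h4, hd] at h5
    have h6 : (δ q).toNat ≤ d := by exact_mod_cast h5
    omega
  have h3 := dimFun_length_le δ h2 (l.map Subtype.val (fun _ _ h => h))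
  rw [LTSeries.head_map, LTSeries.last_map] at h3
  have h6 : (l.map Subtype.val (fun _ _ h => h)).length = d := hl
  rw [h6] at h3
  have h5 := (ringKrullDim_quotient_eq_dimFun δ h2 h0 l.last.1).1
  have hpd : δ l.head.1 = d := by
    have := hδle l.head.1 l.head.2
    omega
  have hmin : ∀ q : PrimeSpectrum A, q ∈ Module.support A M → q.asIdeal ≤ l.head.1.asIdeal →
      q.asIdeal = l.head.1.asIdeal := by
    intro q hq hle
    by_contra hne
    have hlt : q < l.head.1 := lt_of_le_of_ne hle (fun h => hne (congrArg PrimeSpectrum.asIdeal h))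
    have := hanti _ _ hlt
    have := hδle q hq
    omega
  haveI hMp : Nontrivial (LocalizedModule l.head.1.asIdeal.primeCompl M) :=
    Module.mem_support_iff.1 l.head.2
  have hdim0 := (Groth.Agent.Lib.Helper21.DepthKit.supportDim_localization_le_zero_iff
    (R := A) (M := M) l.head.1.asIdeal).2 hmin
  have hdep : LocCoh.depth (Localization.AtPrime l.head.1.asIdeal)
      (LocalizedModule l.head.1.asIdeal.primeCompl M) = ((0 : ℕ) : ℕ∞) := by
    have h7 := (depth_le_supportDim (A := Localization.AtPrime l.head.1.asIdeal)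
      (M := LocalizedModule l.head.1.asIdeal.primeCompl M)).trans hdim0
    have h8 : LocCoh.depth (Localization.AtPrime l.head.1.asIdeal)
      (LocalizedModule l.head.1.asIdeal.primeCompl M) ≤ 0 := by exact_mod_cast h7
    exact_mod_cast le_antisymm h8 zero_le
  obtain ⟨-, h9⟩ := localized_ext_depth ω hω l.head.1.asIdeal (δ l.head.1) (h1 l.head.1) M 0 hdep
  rw [hpd] at h9
  have h10 : -(((0 : ℕ) : ℤ) + (d : ℤ)) = -(d : ℤ) := by push_cast; ring
  rw [h10] at h9
  by_contra hc
  rw [not_nontrivial_iff_subsingleton] at hc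
  exact not_nontrivial _ h9

/-- S1712 -/
theorem mem_support_ext_iff_depth_add_dim (ω : Dual.D A) (hω : Dual.IsDualizing A ω)
    (hn : Dual.IsNormalized A ω) (M : Type u) [AddCommGroup M] [Module A M] [Module.Finite A M]
    (i : ℕ) (p : PrimeSpectrum A) :
    (∃ j : ℕ, j ≤ i ∧ p ∈ Module.support A (Dual.inD A M ⟶ ω⟦(-(j : ℤ))⟧)) ↔
      ((LocCoh.depth (Localization.AtPrime p.asIdeal)
        (LocalizedModule p.asIdeal.primeCompl M) : ℕ∞) : WithBot ℕ∞) +
          ringKrullDim (A ⧸ p.asIdeal) ≤ (i : WithBot ℕ∞) := by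
  obtain ⟨δ, h1, h2, h0⟩ := exists_dimension_function_normalized ω hω hn
  obtain ⟨h3, h4⟩ := ringKrullDim_quotient_eq_dimFun δ h2 h0 p
  rw [h4]
  rcases subsingleton_or_nontrivial (LocalizedModule p.asIdeal.primeCompl M) with hs | hnt
  · rw [depth_of_subsingleton (A := Localization.AtPrime p.asIdeal)
      (M := LocalizedModule p.asIdeal.primeCompl M)]
    constructor
    · rintro ⟨j, -, hj⟩
      exfalso
      have := (dimFun_le_of_mem_support_ext ω hω δ h1 M _ p hj).2
      rw [Module.mem_support_iff] at this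
      exact not_nontrivial _ this
    · intro h
      exfalso
      have h5 : ((⊤ : ℕ∞) : WithBot ℕ∞) + (((δ p).toNat : ℕ∞) : WithBot ℕ∞) =
          (((⊤ : ℕ∞) + ((δ p).toNat : ℕ∞) : ℕ∞) : WithBot ℕ∞) := (WithBot.coe_add _ _).symm
      rw [h5, top_add] at h
      have h6 : ((⊤ : ℕ∞) : WithBot ℕ∞) ≤ (((i : ℕ) : ℕ∞) : WithBot ℕ∞) := h
      rw [WithBot.coe_le_coe, top_le_iff] at h6
      exact ENat.natCast_ne_top i h6
  · obtain ⟨k, hk⟩ := exists_nat_depth (A := Localization.AtPrime p.asIdeal)
      (M := LocalizedModule p.asIdeal.primeCompl M)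
    obtain ⟨h5, h6⟩ := localized_ext_depth ω hω p.asIdeal (δ p) (h1 p) M k hk
    rw [hk]
    have hiff : (((k : ℕ∞) : WithBot ℕ∞) + (((δ p).toNat : ℕ∞) : WithBot ℕ∞) ≤ (i : WithBot ℕ∞)) ↔
        k + (δ p).toNat ≤ i := by
      have : (((k : ℕ∞) : WithBot ℕ∞) + (((δ p).toNat : ℕ∞) : WithBot ℕ∞)) =
          ((k + (δ p).toNat : ℕ) : WithBot ℕ∞) := by push_cast; rfl
      rw [this]
      exact_mod_cast Iff.rfl
    rw [hiff]
    constructor
    · rintro ⟨j, hji, hj⟩
      rw [Module.mem_support_iff] at hj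
      by_contra hc
      haveI := h5 (j : ℤ) (by omega)
      exact not_nontrivial _ hj
    · intro h
      refine ⟨k + (δ p).toNat, h, ?_⟩
      rw [Module.mem_support_iff]
      have h7 : (-((k + (δ p).toNat : ℕ) : ℤ)) = -((k : ℤ) + δ p) := by
        push_cast
        omega
      rw [h7]
      exact h6

end Main

end Groth.Agent.Lib.Helper8.Bidual
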