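import Mathlib
import Groth.Agent.Lib.Helper8.Dep5

/-! # Helper8 — Dep6: a noetherian ring with a dualizing complex concentrated in a single degree is
Cohen–Macaulay (S0370); `ringKrullDim_quotient_eq_coheight`, `exists_minimalPrime_dim_eq`. -/

set_option autoImplicit false

universe u

open CategoryTheory CategoryTheory.Limits CategoryTheory.Pretriangulated Opposite DerivedCategory
open scoped TensorProduct

attribute [local instance] HasDerivedCategory.standard

namespace Groth.Agent.Lib.Helper8.Bidual

open Groth.Agent.Lib.Helper8 Groth.Agent.Lib.Helper16.FlatBC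

section Coheight

variable {A : Type u} [CommRing A]

lemma ringKrullDim_quotient_eq_coheight (p : PrimeSpectrum A) :
    ringKrullDim (A ⧸ p.asIdeal) = (Order.coheight p : ℕ∞) := by
  have hset : PrimeSpectrum.zeroLocus (p.asIdeal : Set A) = Set.Ici p := by
    ext q
    rw [PrimeSpectrum.mem_zeroLocus, Set.mem_Ici, SetLike.coe_subset_coe]
    rfl
  rw [ringKrullDim_quotient, hset, ← Order.coheight_eq_krullDim_Ici]

/-- a ring of finite dimension `d` has a minimal prime of dimension `d` -/
lemma exists_minimalPrime_dim_eq (d : ℕ) (hd : ringKrullDim A = d) :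
    ∃ q ∈ minimalPrimes A, ringKrullDim (A ⧸ q) = d := by
  obtain ⟨l, hl⟩ := Order.le_krullDim_iff.1 (show ((d : ℕ) : WithBot ℕ∞) ≤
    Order.krullDim (PrimeSpectrum A) from hd.ge)
  obtain ⟨q, hq, hle⟩ := Ideal.exists_minimalPrimes_le (show (⊥ : Ideal A) ≤ l.head.asIdeal from bot_le)
  refine ⟨q, hq, le_antisymm ?_ ?_⟩
  · rw [← hd]
    exact ringKrullDim_quotient_le q
  · haveI := hq.1.1
    have h1 := ringKrullDim_quotient_eq_coheight (⟨q, hq.1.1⟩ : PrimeSpectrum A)
    change ringKrullDim (A ⧸ q) = _ at h1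
    rw [h1]
    have h2 : (l.length : ℕ∞) ≤ Order.coheight (⟨q, hq.1.1⟩ : PrimeSpectrum A) :=
      Order.length_le_coheight (show (⟨q, hq.1.1⟩ : PrimeSpectrum A) ≤ l.head from hle)
    rw [hl] at h2
    exact_mod_cast h2

end Coheight

section Single

variable {A : Type u} [CommRing A] [IsLocalRing A] [IsNoetherianRing A]

open Groth.Agent.Lib.Helper21.DepthKit

/-- a local ring with a dualizing complex concentrated in one degree is Cohen–Macaulay -/
theorem supportDim_eq_depth_of_single (N : Type u) [AddCommGroup N] [Module A N]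
    (h : Dual.IsDualizing A (Dual.inD A N)) :
    Module.supportDim A A = ((LocCoh.depth A A : ℕ∞) : WithBot ℕ∞) := by
  obtain ⟨n, hn⟩ := exists_isNormalized_shift (Dual.inD A N) h
  have hω := isDualizing_shift _ h n
  have hH : ∀ i : ℤ, Nontrivial (Dual.HD A ((Dual.inD A N)⟦n⟧) i) → i = -n := by
    intro i hi
    by_contra hne
    let k : Dual.HD A ((Dual.inD A N)⟦n⟧) i ≃ₗ[A] Dual.HD A (Dual.inD A N) (i + n) :=
      (((homologyFunctor (ModuleCat.{u} A) 0).shiftIso n i (i + n) (by omega)).app
        (Dual.inD A N)).toLinearEquiv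
    haveI := EFB.subsingleton_HD_inD (A := A) N (i + n) (by omega)
    haveI : Subsingleton (Dual.HD A ((Dual.inD A N)⟦n⟧) i) := k.toEquiv.subsingleton
    exact not_nontrivial _ hi
  obtain ⟨k, hk⟩ := exists_nat_depth (A := A) (M := A)
  have h1 := hH _ ((depth_self_eq_iff _ hω hn k).1 hk).2
  obtain ⟨d, hd⟩ := exists_nat_supportDim (A := A) (M := A)
  have hd' : ringKrullDim A = d := by rw [← Module.supportDim_self_eq_ringKrullDim, hd]
  obtain ⟨q, hq, hqd⟩ := exists_minimalPrime_dim_eq d hd'
  haveI := hq.1.1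
  have h2 := (nontrivial_localized_HD_iff_of_minimal _ hω hn q hq d hqd (-(d : ℤ))).2 rfl
  have h3 : Nontrivial (Dual.HD A ((Dual.inD A N)⟦n⟧) (-(d : ℤ))) := by
    by_contra hc
    rw [not_nontrivial_iff_subsingleton] at hc
    exact not_nontrivial _ h2
  have h4 := hH _ h3
  have hkd : d = k := by omega
  rw [hd, hk, hkd]
  rfl

end Single

section Global

variable {A : Type u} [CommRing A] [IsNoetherianRing A]

/-- S0370 -/
theorem isCohenMacaulayRing_of_single (W : Type u) [AddCommGroup W] [Module A W]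
    (h : Dual.IsDualizing A (Dual.inD A W)) : LocCoh.IsCohenMacaulayRing A := by
  refine ⟨fun p hp => ?_⟩
  have h1 := isDualizing_ε_atPrime p _ h
  have h2 := EFB.isDualizing_of_iso (inDExtIso (B := Localization.AtPrime p) W).symm h1
  exact ⟨supportDim_eq_depth_of_single _ h2⟩

end Global

end Groth.Agent.Lib.Helper8.Bidual
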