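import Mathlib
import Groth.Agent.Lib.Helper8.Dep6

/-! # Helper8 — Dep7: Cohen–Macaulay locus of a finite module over a noetherian ring with a dualizing
complex is open, and dense in the support (S1716): `isCM_iff_unique_degree`, `isCM_localization_iff`,
`cmLocus_eq`, `isOpen_cmLocus`, `support_subset_closure_cmLocus`. -/

set_option autoImplicit false

universe u

open CategoryTheory CategoryTheory.Limits CategoryTheory.Pretriangulated Opposite DerivedCategory
open scoped TensorProduct

attribute [local instance] HasDerivedCategory.standard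

namespace Groth.Agent.Lib.Helper8.Bidual

open Groth.Agent.Lib.Helper8 Groth.Agent.Lib.Helper16.FlatBC

section LocalA

variable {A : Type u} [CommRing A] [IsLocalRing A] [IsNoetherianRing A]

open Groth.Agent.Lib.Helper21.DepthKit

/-- a nonzero finite module is Cohen–Macaulay iff it has exactly one nonvanishing `Ext` into the
normalized dualizing complex -/
theorem isCM_iff_unique_degree (ω : Dual.D A) (hω : Dual.IsDualizing A ω)
    (hn : Dual.IsNormalized A ω) (N : Type u) [AddCommGroup N] [Module A N] [Module.Finite A N]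
    [Nontrivial N] :
    LocCoh.IsCohenMacaulayModule A N ↔
      ∀ i j : ℤ, Nontrivial (Dual.inD A N ⟶ ω⟦i⟧) → Nontrivial (Dual.inD A N ⟶ ω⟦j⟧) → i = j := by
  obtain ⟨d, hd⟩ := exists_nat_supportDim (A := A) (M := N)
  have h19 := nontrivial_ext_neg_supportDim ω hω hn N d hd
  rw [isCohenMacaulayModule_iff_ext ω hω hn N d hd]
  constructor
  · intro h
    have key : ∀ i : ℤ, Nontrivial (Dual.inD A N ⟶ ω⟦i⟧) → i = -(d : ℤ) := by
      intro i hi
      by_contra hne
      have := h (-i) (by omega)
      rw [neg_neg] at this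
      exact not_nontrivial _ hi
    intro i j hi hj
    rw [key i hi, key j hj]
  · intro h i hi
    by_contra hc
    rw [not_subsingleton_iff_nontrivial] at hc
    have := h _ _ hc h19
    omega

end LocalA

section Global

variable {A : Type u} [CommRing A] [IsNoetherianRing A]

open Groth.Agent.Lib.Helper21.DepthKit

/-- Cohen–Macaulayness of `M_p` in terms of the supports of the `Ext^i(M, ω)` -/
theorem isCM_localization_iff (ω : Dual.D A) (hω : Dual.IsDualizing A ω)
    (M : Type u) [AddCommGroup M] [Module A M] [Module.Finite A M] (p : PrimeSpectrum A)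
    [Nontrivial (LocalizedModule p.asIdeal.primeCompl M)] :
    LocCoh.IsCohenMacaulayModule (Localization.AtPrime p.asIdeal)
        (LocalizedModule p.asIdeal.primeCompl M) ↔
      ∀ i j : ℤ, p ∈ Module.support A (Dual.inD A M ⟶ ω⟦i⟧) →
        p ∈ Module.support A (Dual.inD A M ⟶ ω⟦j⟧) → i = j := by
  obtain ⟨δ, h1, -⟩ := exists_dimension_function ω hω
  have hωp := isDualizing_ε_atPrime p.asIdeal ω hω
  have hω' := isDualizing_shift _ hωp (-δ p)
  have hn' := isNormalized_localization_shift p.asIdeal ω hω (δ p) (h1 p)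
  rw [isCM_iff_unique_degree _ hω' hn']
  have htr : ∀ t s : ℤ, -δ p + t = s →
      (Nontrivial (Dual.inD (Localization.AtPrime p.asIdeal)
        (LocalizedModule p.asIdeal.primeCompl M) ⟶
        (((ε (algebraMap A (Localization.AtPrime p.asIdeal))).obj ω)⟦-δ p⟧)⟦t⟧) ↔
      p ∈ Module.support A (Dual.inD A M ⟶ ω⟦s⟧)) := fun t s hts => by
    rw [Module.mem_support_iff, nontrivial_localized_hom_iff p.asIdeal ω hω M s]
    exact (Iso.homCongr (Iso.refl _)
      ((shiftFunctorAdd' (Dual.D (Localization.AtPrime p.asIdeal)) (-δ p) t s hts).app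
        _).symm).nontrivial_congr
  constructor
  · intro h i j hi hj
    have := h (i + δ p) (j + δ p) ((htr _ i (by omega)).2 hi) ((htr _ j (by omega)).2 hj)
    omega
  · intro h t s ht hs
    have := h (-δ p + t) (-δ p + s) ((htr t _ rfl).1 ht) ((htr s _ rfl).1 hs)
    omega

/-- the locus where `M_p` is zero or Cohen–Macaulay, in terms of supports -/
theorem cmLocus_eq (ω : Dual.D A) (hω : Dual.IsDualizing A ω)
    (M : Type u) [AddCommGroup M] [Module A M] [Module.Finite A M] :
    {p : PrimeSpectrum A | Subsingleton (LocalizedModule p.asIdeal.primeCompl M) ∨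
      LocCoh.IsCohenMacaulayModule (Localization.AtPrime p.asIdeal)
        (LocalizedModule p.asIdeal.primeCompl M)} =
    {p : PrimeSpectrum A | ∀ i j : ℤ, p ∈ Module.support A (Dual.inD A M ⟶ ω⟦i⟧) →
        p ∈ Module.support A (Dual.inD A M ⟶ ω⟦j⟧) → i = j} := by
  obtain ⟨δ, h1, -⟩ := exists_dimension_function ω hω
  ext p
  simp only [Set.mem_ofPred_eq]
  rcases subsingleton_or_nontrivial (LocalizedModule p.asIdeal.primeCompl M) with hs | hnt
  · refine ⟨fun _ i j hi _ => ?_, fun _ => Or.inl hs⟩
    exfalso
    have := (dimFun_le_of_mem_support_ext ω hω δ h1 M i p hi).2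
    rw [Module.mem_support_iff] at this
    exact not_nontrivial _ this
  · rw [← isCM_localization_iff ω hω M p]
    constructor
    · rintro (h | h)
      · exact absurd hnt (not_nontrivial_iff_subsingleton.2 h)
      · exact h
    · exact fun h => Or.inr h

/-- S1716, openness -/
theorem isOpen_cmLocus (ω : Dual.D A) (hω : Dual.IsDualizing A ω)
    (M : Type u) [AddCommGroup M] [Module A M] [Module.Finite A M] :
    IsOpen {p : PrimeSpectrum A | Subsingleton (LocalizedModule p.asIdeal.primeCompl M) ∨
      LocCoh.IsCohenMacaulayModule (Localization.AtPrime p.asIdeal)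
        (LocalizedModule p.asIdeal.primeCompl M)} := by
  rw [cmLocus_eq ω hω M, ← isClosed_compl_iff]
  obtain ⟨a, b, hab⟩ := hω.finite_injective_dimension
  have hset : {p : PrimeSpectrum A | ∀ i j : ℤ, p ∈ Module.support A (Dual.inD A M ⟶ ω⟦i⟧) →
        p ∈ Module.support A (Dual.inD A M ⟶ ω⟦j⟧) → i = j}ᶜ =
      ⋃ i ∈ Finset.Icc a b, ⋃ j ∈ (Finset.Icc a b).filter (fun j => j ≠ i),
        (Module.support A (Dual.inD A M ⟶ ω⟦i⟧) ∩ Module.support A (Dual.inD A M ⟶ ω⟦j⟧)) := by
    have hrange : ∀ (i : ℤ) (p : PrimeSpectrum A),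
        p ∈ Module.support A (Dual.inD A M ⟶ ω⟦i⟧) → i ∈ Finset.Icc a b := by
      intro i p hp
      rw [Finset.mem_Icc]
      by_contra hc
      haveI := hab M i (by omega)
      rw [Module.mem_support_iff] at hp
      exact not_nontrivial _ hp
    ext p
    simp only [Set.mem_compl_iff, Set.mem_ofPred_eq, Set.mem_iUnion, Set.mem_inter_iff,
      Finset.mem_filter, exists_prop]
    constructor
    · intro h
      push Not at h
      obtain ⟨i, j, hi, hj, hne⟩ := h
      exact ⟨i, hrange i p hi, j, ⟨hrange j p hj, fun h => hne h.symm⟩, hi, hj⟩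
    · rintro ⟨i, -, j, ⟨-, hne⟩, hi, hj⟩ h
      exact hne (h i j hi hj).symm
  rw [hset]
  refine isClosed_biUnion_finset (fun i _ => isClosed_biUnion_finset (fun j _ => ?_))
  haveI := finite_hom_inD_of_isDualizing ω hω M i
  haveI := finite_hom_inD_of_isDualizing ω hω M j
  exact Module.isClosed_support.inter Module.isClosed_support

omit [IsNoetherianRing A] in
/-- S1716, density (no dualizing complex needed) -/
theorem support_subset_closure_cmLocus [IsNoetherianRing A]
    (M : Type u) [AddCommGroup M] [Module A M] [Module.Finite A M] :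
    Module.support A M ⊆ closure ({p : PrimeSpectrum A |
      LocCoh.IsCohenMacaulayModule (Localization.AtPrime p.asIdeal)
        (LocalizedModule p.asIdeal.primeCompl M)} ∩ Module.support A M) := by
  intro p hp
  rw [Module.mem_support_iff_of_finite] at hp
  obtain ⟨q, hq, hqp⟩ := Ideal.exists_minimalPrimes_le hp
  haveI hqprime : q.IsPrime := hq.1.1
  let Q : PrimeSpectrum A := ⟨q, hqprime⟩
  have hQ : Q ∈ Module.support A M := Module.mem_support_iff_of_finite.2 hq.1.2
  have hmin : ∀ r : PrimeSpectrum A, r ∈ Module.support A M → r.asIdeal ≤ q → r.asIdeal = q := by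
    intro r hr hle
    rw [Module.mem_support_iff_of_finite] at hr
    exact le_antisymm hle (hq.2 ⟨r.2, hr⟩ hle)
  haveI hnt : Nontrivial (LocalizedModule q.primeCompl M) := Module.mem_support_iff.1 hQ
  have hdim0 := (supportDim_localization_le_zero_iff (R := A) (M := M) q).2 hmin
  have hdep := depth_le_supportDim (A := Localization.AtPrime q)
      (M := LocalizedModule q.primeCompl M)
  have hCM : LocCoh.IsCohenMacaulayModule (Localization.AtPrime q)
      (LocalizedModule q.primeCompl M) := by
    unfold LocCoh.IsCohenMacaulayModule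
    have h8 : LocCoh.depth (Localization.AtPrime q) (LocalizedModule q.primeCompl M) ≤ 0 := by
      exact_mod_cast hdep.trans hdim0
    have h9 : LocCoh.depth (Localization.AtPrime q) (LocalizedModule q.primeCompl M) = 0 :=
      le_antisymm h8 zero_le
    rw [h9] at hdep ⊢
    exact le_antisymm hdim0 hdep
  have hmem : Q ∈ {p : PrimeSpectrum A |
      LocCoh.IsCohenMacaulayModule (Localization.AtPrime p.asIdeal)
        (LocalizedModule p.asIdeal.primeCompl M)} ∩ Module.support A M := ⟨hCM, hQ⟩
  refine closure_mono (Set.singleton_subset_iff.2 hmem) ?_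
  rw [PrimeSpectrum.closure_singleton, PrimeSpectrum.mem_zeroLocus]
  exact hqp

end Global

end Groth.Agent.Lib.Helper8.Bidual
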