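import Mathlib
import Groth.Agent.Lib.Helper8.Dep7

/-! # Helper8 — Dep8: the Cohen–Macaulay locus of a noetherian ring with a dualizing complex is open
and dense (S0372). -/

set_option autoImplicit false

universe u

open CategoryTheory CategoryTheory.Limits CategoryTheory.Pretriangulated Opposite DerivedCategory
open scoped TensorProduct

attribute [local instance] HasDerivedCategory.standard

namespace Groth.Agent.Lib.Helper8.Bidual

open Groth.Agent.Lib.Helper8 Groth.Agent.Lib.Helper16.FlatBC

section Ring

variable {A : Type u} [CommRing A] [IsNoetherianRing A]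

open Groth.Agent.Lib.Helper21.DepthKit

/-- `A_p` as a localized module -/
noncomputable def localizedSelfEquiv (p : Ideal A) [p.IsPrime] :
    LocalizedModule p.primeCompl A ≃ₗ[Localization.AtPrime p] Localization.AtPrime p :=
  (LocalizedModule.equivTensorProduct p.primeCompl A).trans
    (TensorProduct.AlgebraTensorModule.rid A (Localization.AtPrime p) (Localization.AtPrime p))

theorem isCohenMacaulayLocalRing_iff_module (p : Ideal A) [p.IsPrime] :
    LocCoh.IsCohenMacaulayLocalRing (Localization.AtPrime p) ↔
      LocCoh.IsCohenMacaulayModule (Localization.AtPrime p) (LocalizedModule p.primeCompl A) := by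
  unfold LocCoh.IsCohenMacaulayModule
  rw [Module.supportDim_eq_of_equiv (localizedSelfEquiv p), depth_congr (localizedSelfEquiv p)]
  exact ⟨fun h => h.supportDim_eq_depth, fun h => ⟨h⟩⟩

/-- S0372 -/
theorem isOpen_dense_cmLocus_ring (ω : Dual.D A) (hω : Dual.IsDualizing A ω) :
    IsOpen {p : PrimeSpectrum A | LocCoh.IsCohenMacaulayLocalRing (Localization.AtPrime p.asIdeal)} ∧
      Dense {p : PrimeSpectrum A |
        LocCoh.IsCohenMacaulayLocalRing (Localization.AtPrime p.asIdeal)} := by
  have hnt : ∀ p : PrimeSpectrum A, Nontrivial (LocalizedModule p.asIdeal.primeCompl A) := fun p =>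
    (localizedSelfEquiv p.asIdeal).toEquiv.nontrivial
  have hset : {p : PrimeSpectrum A |
      LocCoh.IsCohenMacaulayLocalRing (Localization.AtPrime p.asIdeal)} =
      {p : PrimeSpectrum A | Subsingleton (LocalizedModule p.asIdeal.primeCompl A) ∨
        LocCoh.IsCohenMacaulayModule (Localization.AtPrime p.asIdeal)
          (LocalizedModule p.asIdeal.primeCompl A)} := by
    ext p
    simp only [Set.mem_ofPred_eq]
    rw [isCohenMacaulayLocalRing_iff_module p.asIdeal]
    constructor
    · exact fun h => Or.inr h
    · rintro (h | h)
      · exact absurd (hnt p) (not_nontrivial_iff_subsingleton.2 h)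
      · exact h
  constructor
  · rw [hset]
    exact isOpen_cmLocus ω hω A
  · intro p
    have hp : p ∈ Module.support A A := Module.mem_support_iff.2 (hnt p)
    refine closure_mono ?_ (support_subset_closure_cmLocus A hp)
    rintro q ⟨hq, -⟩
    exact (isCohenMacaulayLocalRing_iff_module q.asIdeal).2 hq

end Ring

end Groth.Agent.Lib.Helper8.Bidual
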