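import Mathlib
import Groth.Agent.Lib.Helper8.PAmp5

/-!
# Helper8 — Stupid2: induction over cohomologically bounded objects of `D(A)` via canonical
truncations.
-/

open CategoryTheory CategoryTheory.Limits DerivedCategory CategoryTheory.Pretriangulated

namespace Groth.Agent.Lib.Helper8.Stupid

open Groth.Agent.Lib.Helper8.DTrunc Groth.Agent.Lib.Helper8.PAmp

universe w v u

variable {A : Type u} [Category.{v} A] [Abelian A] [HasDerivedCategory.{w} A]

/-- Induction principle: a property of objects of `D(A)` closed under isomorphisms and extensions,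
holding for `0` and for all `H^i(K)[-i]`, holds for a cohomologically bounded `K`. -/
theorem induction_cohomology (P : ObjectProperty (DerivedCategory A)) [P.IsClosedUnderIsomorphisms]
    (hext : ∀ T : Triangle (DerivedCategory A), T ∈ distTriang _ → P T.obj₁ → P T.obj₃ → P T.obj₂)
    (h0 : ∀ Z : DerivedCategory A, IsZero Z → P Z) :
    ∀ (n : ℕ) (K : DerivedCategory A) (b : ℤ), K.IsLE b → K.IsGE (b + 1 - n) →
      (∀ i : ℤ, P ((singleFunctor A i).obj ((homologyFunctor A i).obj K))) → P K := by
  intro n
  induction n with
  | zero =>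
    intro K b hLE hGE _
    have : K.IsGE (b + 1) := by simpa using hGE
    exact h0 _ (tt.isZero K b (b + 1) (by omega))
  | succ n ih =>
    intro K b hLE hGE hterm
    have hT := tt.triangleLTGE_distinguished b K
    refine hext _ hT ?_ ?_
    · -- τ_{<b} K
      change P ((tt.truncLT b).obj K)
      have h1 : ((tt.truncLT b).obj K).IsLE (b - 1) :=
        (inferInstance : tt.IsLE ((tt.truncLT b).obj K) (b - 1))
      have h2 : ((tt.truncLT b).obj K).IsGE (b - 1 + 1 - n) := by
        refine (isGE_iff _ _).2 (fun i hi => ?_)
        have := mono_homologyMap_truncLTι K b i (by omega)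
        have hz : IsZero ((homologyFunctor A i).obj K) :=
          isZero_of_isGE K (b + 1 - (n + 1 : ℕ)) i (by push_cast; omega)
        exact IsZero.of_mono_eq_zero ((homologyFunctor A i).map ((tt.truncLTι b).app K))
          (hz.eq_of_tgt _ _)
      refine ih _ (b - 1) h1 h2 (fun i => ?_)
      by_cases hi : i < b
      · have := isIso_homologyMap_truncLTι K b i hi
        exact P.prop_of_iso ((singleFunctor A i).mapIso
          (asIso ((homologyFunctor A i).map ((tt.truncLTι b).app K))).symm) (hterm i)
      · exact h0 _ (Functor.map_isZero _ (isZero_of_isLE _ (b - 1) i (by omega)))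
    · -- τ_{≥b} K
      change P ((tt.truncGE b).obj K)
      have h1 : ((tt.truncGE b).obj K).IsGE b := (inferInstance : tt.IsGE ((tt.truncGE b).obj K) b)
      have h2 : ((tt.truncGE b).obj K).IsLE b := (inferInstance : tt.IsLE ((tt.truncGE b).obj K) b)
      obtain ⟨M, ⟨e⟩⟩ := exists_iso_singleFunctor_obj_of_isGE_of_isLE ((tt.truncGE b).obj K) b
      have hπ : IsIso ((homologyFunctor A b).map ((tt.truncGEπ b).app K)) := by
        have hepi := epi_homologyMap_truncGEπ K b
        have : tt.IsLE ((tt.truncLT b).obj K) (b - 1) := inferInstance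
        have hmono : Mono ((homologyFunctor A b).map ((tt.truncGEπ b).app K)) :=
          (HomologySequence.mono_homologyMap_mor₂_iff _ hT b).2
            ((isZero_of_isLE ((tt.truncLT b).obj K) (b - 1) b (by omega)).eq_of_src _ _)
        exact isIso_of_mono_of_epi _
      let eM : (homologyFunctor A b).obj K ≅ M :=
        asIso ((homologyFunctor A b).map ((tt.truncGEπ b).app K)) ≪≫
          (homologyFunctor A b).mapIso e ≪≫ (singleFunctorCompHomologyFunctorIso A b).app M
      exact P.prop_of_iso ((singleFunctor A b).mapIso eM ≪≫ e.symm) (hterm b)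

end Groth.Agent.Lib.Helper8.Stupid
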