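import Mathlib
import Groth.Agent.Lib.Helper8.Dep8
import Groth.Agent.Lib.Helper8.Stupid2

/-! # Helper8 — S2a: truncations and maps to a normalized dualizing complex: `isIso_homologyMap_truncGEπ`,
`subsingleton_hom_single_of_pos`, `subsingleton_hom_of_amplitude` (no maps from `D^{[-d+1,0]}_{fg}` to
`ω[s]`, `s ≥ d`). -/

set_option autoImplicit false

universe w v u' u

open CategoryTheory CategoryTheory.Limits CategoryTheory.Pretriangulated Opposite DerivedCategory
open scoped TensorProduct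

attribute [local instance] HasDerivedCategory.standard

namespace Groth.Agent.Lib.Helper8.Bidual

open Groth.Agent.Lib.Helper8 Groth.Agent.Lib.Helper16.FlatBC
open Groth.Agent.Lib.Helper8.DTrunc Groth.Agent.Lib.Helper8.PAmp

section Trunc

variable {C : Type u'} [Category.{v} C] [Abelian C] [HasDerivedCategory.{w} C]

/-- `H^i(X) → H^i(τ_{≥ b} X)` is an isomorphism for `i ≥ b` -/
lemma isIso_homologyMap_truncGEπ (X : DerivedCategory C) (b i : ℤ) (hi : b ≤ i) :
    IsIso ((homologyFunctor C i).map ((tt.truncGEπ b).app X)) := by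
  have hT := tt.triangleLTGE_distinguished b X
  have hle : tt.IsLE ((tt.truncLT b).obj X) (b - 1) := inferInstance
  have hmono : Mono ((homologyFunctor C i).map ((tt.truncGEπ b).app X)) :=
    (HomologySequence.mono_homologyMap_mor₂_iff _ hT i).2
      ((isZero_of_isLE ((tt.truncLT b).obj X) (b - 1) i (by omega)).eq_of_src _ _)
  have hepi : Epi ((homologyFunctor C i).map ((tt.truncGEπ b).app X)) :=
    (HomologySequence.epi_homologyMap_mor₂_iff _ hT i (i + 1) rfl).2
      ((isZero_of_isLE ((tt.truncLT b).obj X) (b - 1) (i + 1) (by omega)).eq_of_tgt _ _)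
  exact isIso_of_mono_of_epi _

end Trunc

section V

variable {A : Type u} [CommRing A] [IsLocalRing A] [IsNoetherianRing A]

/-- maps out of a module placed in degree `i` -/
lemma subsingleton_hom_single_of_pos (ω : Dual.D A) (hω : Dual.IsDualizing A ω)
    (hn : Dual.IsNormalized A ω) (N : Type u) [AddCommGroup N] [Module A N] [Module.Finite A N]
    (i s : ℤ) (h : 0 < s + i) :
    Subsingleton ((singleFunctor (ModuleCat.{u} A) i).obj (ModuleCat.of A N) ⟶ ω⟦s⟧) := by
  have h0 := subsingleton_ext_pos ω hω hn N (s + i) h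
  let j : (Dual.inD A N)⟦-i⟧ ≅ (singleFunctor (ModuleCat.{u} A) i).obj (ModuleCat.of A N) :=
    ((DerivedCategory.singleFunctors (ModuleCat.{u} A)).shiftIso (-i) i 0 (by omega)).app
      (ModuleCat.of A N)
  have e1 : ((Dual.inD A N)⟦-i⟧ ⟶ ω⟦s⟧) ≃ ((Dual.inD A N)⟦-i⟧⟦i⟧ ⟶ ω⟦s⟧⟦i⟧) :=
    (EFB.shiftEquivLin i _ _).toEquiv
  have e2 := Iso.homCongr
    ((shiftFunctorCompIsoId (Dual.D A) (-i) i (by omega)).app (Dual.inD A N))
    ((shiftFunctorAdd' (Dual.D A) s i (s + i) rfl).app ω).symm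
  haveI : Subsingleton ((Dual.inD A N)⟦-i⟧ ⟶ ω⟦s⟧) := @Equiv.subsingleton _ _ (e1.trans e2) h0
  exact (Iso.homCongr j (Iso.refl _)).symm.subsingleton

/-- Lemma V: no maps from `D^{[-d+1, 0]}_{fg}` to `ω[s]` for `s ≥ d` -/
theorem subsingleton_hom_of_amplitude (ω : Dual.D A) (hω : Dual.IsDualizing A ω)
    (hn : Dual.IsNormalized A ω) (d : ℕ) (X : Dual.D A) (hLE : X.IsLE 0)
    (hGE : X.IsGE (-(d : ℤ) + 1)) (hfin : ∀ i : ℤ, Module.Finite A (Dual.HD A X i))
    (s : ℤ) (hs : (d : ℤ) ≤ s) : Subsingleton (X ⟶ ω⟦s⟧) := by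
  let P : ObjectProperty (Dual.D A) := fun Y => ∀ s : ℤ, (d : ℤ) ≤ s → Subsingleton (Y ⟶ ω⟦s⟧)
  haveI : P.IsClosedUnderIsomorphisms :=
    ⟨fun {Y Z} e h s hs => by
      haveI := h s hs
      exact (Iso.homCongr e (Iso.refl (ω⟦s⟧))).symm.subsingleton⟩
  have key : P X := by
    refine Stupid.induction_cohomology P ?_ ?_ d X 0 hLE (by
      have : (0 : ℤ) + 1 - (d : ℤ) = -(d : ℤ) + 1 := by ring
      rw [this]; exact hGE) ?_
    · intro T hT h1 h3 s hs
      haveI := h1 s hs
      haveI := h3 s hs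
      refine ⟨fun f g => ?_⟩
      have hz : ∀ f : T.obj₂ ⟶ ω⟦s⟧, f = 0 := by
        intro f
        obtain ⟨w, hw⟩ := Triangle.yoneda_exact₂ _ hT f (Subsingleton.elim _ _)
        rw [hw, Subsingleton.elim w 0, comp_zero]
      rw [hz f, hz g]
    · intro Z hZ s _
      exact ⟨fun f g => hZ.eq_of_src f g⟩
    · intro i s hs
      by_cases hi : i < -(d : ℤ) + 1
      · have hz : IsZero ((homologyFunctor (ModuleCat.{u} A) i).obj X) :=
          isZero_of_isGE X (-(d : ℤ) + 1) i hi
        have hz' : IsZero ((singleFunctor (ModuleCat.{u} A) i).obj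
            ((homologyFunctor (ModuleCat.{u} A) i).obj X)) := Functor.map_isZero _ hz
        exact ⟨fun f g => hz'.eq_of_src f g⟩
      · haveI := hfin i
        exact subsingleton_hom_single_of_pos ω hω hn (Dual.HD A X i) i s (by omega)
  exact key s hs

end V

end Groth.Agent.Lib.Helper8.Bidual
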