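import Mathlib
import Groth.Agent.Lib.Helper8.S2a

/-! # Helper8 — S2b: the dualizing module `ω_A = H^{-dim A}(ω)` of a local ring with normalized dualizing
complex: `HD_range_of_normalized`, `subsingleton_ext_dualizingModule` (`Ext^{-j}(ω_A, ω) = 0` for
`j ≤ 1`, `j ≠ dim A`), `depth_dualizingModule` (`depth ω_A ≥ min(2, dim A)`). -/

set_option autoImplicit false

universe u

open CategoryTheory CategoryTheory.Limits CategoryTheory.Pretriangulated Opposite DerivedCategory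
open scoped TensorProduct

attribute [local instance] HasDerivedCategory.standard

namespace Groth.Agent.Lib.Helper8.Bidual

open Groth.Agent.Lib.Helper8 Groth.Agent.Lib.Helper16.FlatBC
open Groth.Agent.Lib.Helper8.DTrunc Groth.Agent.Lib.Helper8.PAmp

section W

variable {A : Type u} [CommRing A] [IsLocalRing A] [IsNoetherianRing A]

open Groth.Agent.Lib.Helper21.DepthKit

/-- cohomological amplitude of a normalized dualizing complex -/
lemma HD_range_of_normalized (ω : Dual.D A) (hω : Dual.IsDualizing A ω)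
    (hn : Dual.IsNormalized A ω) (d : ℕ) (hd : ringKrullDim A = d) (i : ℤ)
    (h : Nontrivial (Dual.HD A ω i)) : -(d : ℤ) ≤ i ∧ i ≤ 0 := by
  have h1 : Nontrivial (Dual.inD A A ⟶ ω⟦i⟧) := (homUnitShiftEquiv ω i).nontrivial
  exact ext_range ω hω hn A d (by rw [Module.supportDim_self_eq_ringKrullDim, hd]) i h1

/-- Lemma W: `Ext^{-j}(ω_A, ω) = 0` for `j ≤ 1`, `j ≠ dim A` -/
theorem subsingleton_ext_dualizingModule (ω : Dual.D A) (hω : Dual.IsDualizing A ω)
    (hn : Dual.IsNormalized A ω) (d : ℕ) (hd : ringKrullDim A = d) (j : ℤ) (hj1 : j ≤ 1)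
    (hjd : j ≠ d) :
    Subsingleton (Dual.inD A (Dual.HD A ω (-(d : ℤ))) ⟶ ω⟦-j⟧) := by
  have hrange := HD_range_of_normalized ω hω hn d hd
  haveI hGE : ω.IsGE (-(d : ℤ)) := EFB.isGE_of_subsingleton ω _ (fun i hi => by
    by_contra hc
    rw [not_subsingleton_iff_nontrivial] at hc
    have := hrange i hc
    omega)
  haveI hLE : ω.IsLE 0 := EFB.isLE_of_subsingleton ω _ (fun i hi => by
    by_contra hc
    rw [not_subsingleton_iff_nontrivial] at hc
    have := hrange i hc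
    omega)
  set b : ℤ := -(d : ℤ) + 1 with hb
  have hT := tt.triangleLTGE_distinguished b ω
  -- the truncation `τ_{≥ b} ω`
  have h3GE : ((tt.truncGE b).obj ω).IsGE (-(d : ℤ) + 1) :=
    (inferInstance : tt.IsGE ((tt.truncGE b).obj ω) b)
  have h3iso : ∀ i : ℤ, b ≤ i → (Dual.HD A ω i ≃ₗ[A] Dual.HD A ((tt.truncGE b).obj ω) i) := by
    intro i hi
    haveI := isIso_homologyMap_truncGEπ ω b i hi
    exact (asIso ((homologyFunctor (ModuleCat.{u} A) i).map ((tt.truncGEπ b).app ω))).toLinearEquiv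
  have h3zero : ∀ i : ℤ, i < b → Subsingleton (Dual.HD A ((tt.truncGE b).obj ω) i) := by
    intro i hi
    exact ModuleCat.subsingleton_of_isZero (isZero_of_isGE _ b i hi)
  have h3fin : ∀ i : ℤ, Module.Finite A (Dual.HD A ((tt.truncGE b).obj ω) i) := by
    intro i
    by_cases hi : i < b
    · haveI := h3zero i hi
      infer_instance
    · haveI := hω.finite_cohomology i
      exact Module.Finite.equiv (h3iso i (by omega))
  have h3LE : ((tt.truncGE b).obj ω).IsLE 0 := EFB.isLE_of_subsingleton _ _ (fun i hi => by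
    by_cases hib : i < b
    · exact h3zero i hib
    · haveI : Subsingleton (Dual.HD A ω i) := by
        by_contra hc
        rw [not_subsingleton_iff_nontrivial] at hc
        have := hrange i hc
        omega
      exact (h3iso i (by omega)).symm.toEquiv.subsingleton)
  -- the truncation `τ_{< b} ω` is `ω_A[d]`
  have h1LE : ((tt.truncLT b).obj ω).IsLE (-(d : ℤ)) := by
    have : tt.IsLE ((tt.truncLT b).obj ω) (b - 1) := inferInstance
    have hbb : b - 1 = -(d : ℤ) := by omega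
    rw [hbb] at this
    exact this
  have h1GE : ((tt.truncLT b).obj ω).IsGE (-(d : ℤ)) := by
    refine (isGE_iff _ _).2 (fun i hi => ?_)
    have := mono_homologyMap_truncLTι ω b i (by omega)
    have hz : IsZero ((homologyFunctor (ModuleCat.{u} A) i).obj ω) :=
      isZero_of_isGE ω (-(d : ℤ)) i hi
    exact IsZero.of_mono_eq_zero ((homologyFunctor (ModuleCat.{u} A) i).map
      ((tt.truncLTι b).app ω)) (hz.eq_of_tgt _ _)
  obtain ⟨M, ⟨e⟩⟩ := exists_iso_singleFunctor_obj_of_isGE_of_isLE ((tt.truncLT b).obj ω) (-(d : ℤ))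
  haveI := isIso_homologyMap_truncLTι ω b (-(d : ℤ)) (by omega)
  let eM : (homologyFunctor (ModuleCat.{u} A) (-(d : ℤ))).obj ω ≅ M :=
    (asIso ((homologyFunctor (ModuleCat.{u} A) (-(d : ℤ))).map ((tt.truncLTι b).app ω))).symm ≪≫
      (homologyFunctor (ModuleCat.{u} A) (-(d : ℤ))).mapIso e ≪≫
        (singleFunctorCompHomologyFunctorIso (ModuleCat.{u} A) (-(d : ℤ))).app M
  let e1 : (singleFunctor (ModuleCat.{u} A) (-(d : ℤ))).obj
      (ModuleCat.of A (Dual.HD A ω (-(d : ℤ)))) ≅ (tt.truncLT b).obj ω :=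
    (singleFunctor (ModuleCat.{u} A) (-(d : ℤ))).mapIso eM ≪≫ e.symm
  -- vanishing of `Hom(τ_{<b} ω, ω[s])`
  have hvan : ∀ s : ℤ, s ≠ 0 → (d : ℤ) ≤ s + 1 →
      ∀ f : (tt.truncLT b).obj ω ⟶ ω⟦s⟧, f = 0 := by
    intro s hs0 hsd f
    have hT' := inv_rot_of_distTriang _ hT
    have hsub : Subsingleton (((tt.truncGE b).obj ω)⟦(-1 : ℤ)⟧ ⟶ ω⟦s⟧) := by
      have h0 := subsingleton_hom_of_amplitude ω hω hn d _ h3LE h3GE h3fin (s + 1) hsd
      have e1 : (((tt.truncGE b).obj ω)⟦(-1 : ℤ)⟧ ⟶ ω⟦s⟧) ≃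
          (((tt.truncGE b).obj ω)⟦(-1 : ℤ)⟧⟦(1 : ℤ)⟧ ⟶ ω⟦s⟧⟦(1 : ℤ)⟧) :=
        (EFB.shiftEquivLin 1 _ _).toEquiv
      have e2 := Iso.homCongr
        ((shiftFunctorCompIsoId (Dual.D A) (-1) 1 (by omega)).app ((tt.truncGE b).obj ω))
        ((shiftFunctorAdd' (Dual.D A) s 1 (s + 1) rfl).app ω).symm
      exact @Equiv.subsingleton _ _ (e1.trans e2) h0
    obtain ⟨(w : ω ⟶ ω⟦s⟧), hw⟩ := Triangle.yoneda_exact₂ _ hT' f (hsub.elim _ _)
    haveI := hω.ext_self_subsingleton s hs0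
    rw [hw, Subsingleton.elim w 0]
    exact comp_zero
  -- translate
  have hfinal : Subsingleton ((singleFunctor (ModuleCat.{u} A) (-(d : ℤ))).obj
      (ModuleCat.of A (Dual.HD A ω (-(d : ℤ)))) ⟶ ω⟦(d : ℤ) - j⟧) := by
    refine ⟨fun f g => ?_⟩
    have hz : ∀ f : (singleFunctor (ModuleCat.{u} A) (-(d : ℤ))).obj
        (ModuleCat.of A (Dual.HD A ω (-(d : ℤ)))) ⟶ ω⟦(d : ℤ) - j⟧, f = 0 := by
      intro f
      have := hvan ((d : ℤ) - j) (by omega) (by omega) (e1.inv ≫ f)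
      exact (cancel_epi e1.inv).1 (this.trans comp_zero.symm)
    rw [hz f, hz g]
  let jj : (Dual.inD A (Dual.HD A ω (-(d : ℤ))))⟦(d : ℤ)⟧ ≅
      (singleFunctor (ModuleCat.{u} A) (-(d : ℤ))).obj (ModuleCat.of A (Dual.HD A ω (-(d : ℤ)))) :=
    ((DerivedCategory.singleFunctors (ModuleCat.{u} A)).shiftIso (d : ℤ) (-(d : ℤ)) 0
      (by omega)).app (ModuleCat.of A (Dual.HD A ω (-(d : ℤ))))
  haveI h5 : Subsingleton ((Dual.inD A (Dual.HD A ω (-(d : ℤ))))⟦(d : ℤ)⟧ ⟶ ω⟦(d : ℤ) - j⟧) :=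
    (Iso.homCongr jj (Iso.refl _)).subsingleton
  have e3 : (Dual.inD A (Dual.HD A ω (-(d : ℤ))) ⟶ ω⟦-j⟧) ≃
      ((Dual.inD A (Dual.HD A ω (-(d : ℤ))))⟦(d : ℤ)⟧ ⟶ (ω⟦-j⟧)⟦(d : ℤ)⟧) :=
    (EFB.shiftEquivLin (d : ℤ) _ _).toEquiv
  have e4 := Iso.homCongr (Iso.refl ((Dual.inD A (Dual.HD A ω (-(d : ℤ))))⟦(d : ℤ)⟧))
    ((shiftFunctorAdd' (Dual.D A) (-j) (d : ℤ) ((d : ℤ) - j) (by omega)).app ω).symm
  exact @Equiv.subsingleton _ _ (e3.trans e4) h5

/-- the dualizing module `ω_A = H^{-dim A}(ω)` is nonzero of depth `≥ min(2, dim A)` -/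
theorem depth_dualizingModule (ω : Dual.D A) (hω : Dual.IsDualizing A ω)
    (hn : Dual.IsNormalized A ω) (d : ℕ) (hd : ringKrullDim A = d) :
    Nontrivial (Dual.HD A ω (-(d : ℤ))) ∧
      ((min 2 d : ℕ) : ℕ∞) ≤ LocCoh.depth A (Dual.HD A ω (-(d : ℤ))) := by
  haveI hnt : Nontrivial (Dual.HD A ω (-(d : ℤ))) := by
    have := nontrivial_ext_neg_supportDim ω hω hn A d
      (by rw [Module.supportDim_self_eq_ringKrullDim, hd])
    exact (homUnitShiftEquiv ω (-(d : ℤ))).symm.nontrivial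
  refine ⟨hnt, ?_⟩
  haveI := hω.finite_cohomology (-(d : ℤ))
  obtain ⟨t, ht⟩ := exists_nat_depth (A := A) (M := Dual.HD A ω (-(d : ℤ)))
  obtain ⟨-, h4⟩ := depth_aux ω hω hn t (Dual.HD A ω (-(d : ℤ))) ht
  rw [ht]
  have : min 2 d ≤ t := by
    by_contra hc
    have h5 : (t : ℤ) ≤ 1 ∧ (t : ℤ) ≠ d := by
      rcases Nat.lt_or_ge t 2 with h | h
      · constructor
        · omega
        · intro heq
          have : t = d := by exact_mod_cast heq
          subst this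
          exact hc (min_le_right _ _)
      · exact absurd ((min_le_left 2 d).trans h) hc
    haveI := subsingleton_ext_dualizingModule ω hω hn d hd t h5.1 h5.2
    exact not_nontrivial _ h4
  exact_mod_cast this

end W

end Groth.Agent.Lib.Helper8.Bidual
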