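import Mathlib
import Groth.Agent.Lib.Helper8.S2b

/-! # Helper8 — S2c: the dualizing module `ω_A = H^{-dim A}(ω)` of a noetherian local ring with normalized
dualizing complex has support the union of the components of maximal dimension and satisfies `(S_2)`
(S0369). -/

set_option autoImplicit false

universe u

open CategoryTheory CategoryTheory.Limits CategoryTheory.Pretriangulated Opposite DerivedCategory
open scoped TensorProduct

attribute [local instance] HasDerivedCategory.standard

namespace Groth.Agent.Lib.Helper8.Bidual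

open Groth.Agent.Lib.Helper8 Groth.Agent.Lib.Helper16.FlatBC

section Global

variable {A : Type u} [CommRing A] [IsLocalRing A] [IsNoetherianRing A]

open Groth.Agent.Lib.Helper21.DepthKit

/-- local analysis of `ω_A = H^{-d}(ω)` at a prime of its support -/
theorem dualizingModule_localization (ω : Dual.D A) (hω : Dual.IsDualizing A ω)
    (_hn : Dual.IsNormalized A ω) (d : ℕ) (hd : ringKrullDim A = d)
    (δ : PrimeSpectrum A → ℤ)
    (h1 : ∀ (p : PrimeSpectrum A) (i : ℤ),
        Nontrivial (LocalizedModule p.asIdeal.primeCompl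
          (Dual.inD A (A ⧸ p.asIdeal) ⟶ ω⟦i⟧)) ↔ i = -δ p)
    (h2 : ∀ p q : PrimeSpectrum A, p ⋖ q → δ p = δ q + 1)
    (h0 : δ (IsLocalRing.closedPoint A) = 0)
    (p : PrimeSpectrum A)
    (hp : Nontrivial (LocalizedModule p.asIdeal.primeCompl (Dual.HD A ω (-(d : ℤ))))) :
    ∃ dB : ℕ, ringKrullDim (Localization.AtPrime p.asIdeal) = dB ∧ δ p + dB = d ∧
      (∃ l : LTSeries (PrimeSpectrum A), l.last = p ∧ l.length = dB) ∧
      ((min 2 dB : ℕ) : ℕ∞) ≤ LocCoh.depth (Localization.AtPrime p.asIdeal)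
        (LocalizedModule p.asIdeal.primeCompl (Dual.HD A ω (-(d : ℤ)))) := by
  have hδd : ∀ q : PrimeSpectrum A, δ q ≤ d := by
    intro q
    obtain ⟨h3, h4⟩ := ringKrullDim_quotient_eq_dimFun δ h2 h0 q
    have h5 := ringKrullDim_quotient_le q.asIdeal
    rw [h4, hd] at h5
    have h6 : (δ q).toNat ≤ d := by exact_mod_cast h5
    omega
  haveI := hω.finite_cohomology (-(d : ℤ))
  have hωp := isDualizing_ε_atPrime p.asIdeal ω hω
  have hω' := isDualizing_shift _ hωp (-δ p)
  have hn' := isNormalized_localization_shift p.asIdeal ω hω (δ p) (h1 p)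
  obtain ⟨dB, hdB⟩ := exists_nat_supportDim (A := Localization.AtPrime p.asIdeal)
    (M := Localization.AtPrime p.asIdeal)
  rw [Module.supportDim_self_eq_ringKrullDim] at hdB
  -- the chain
  have hht : Order.height p = dB := by
    have h3 := IsLocalization.AtPrime.ringKrullDim_eq_height p.asIdeal
      (Localization.AtPrime p.asIdeal)
    rw [hdB] at h3
    have h4 : (dB : ℕ∞) = p.asIdeal.height := by exact_mod_cast h3
    rw [PrimeSpectrum.height_eq_orderHeight] at h4
    exact h4.symm
  obtain ⟨l, hl1, hl2⟩ := Order.exists_series_of_height_eq_coe p hht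
  have hchain := dimFun_length_le δ h2 l
  rw [hl1, hl2] at hchain
  have hhead := hδd l.head
  -- the localization of the cohomology module
  obtain ⟨e1⟩ := EFB.nonempty_HD_ε_equiv (B := Localization.AtPrime p.asIdeal) ω (-(d : ℤ))
  let e0 : LocalizedModule p.asIdeal.primeCompl (Dual.HD A ω (-(d : ℤ))) ≃ₗ[Localization.AtPrime
      p.asIdeal] (Localization.AtPrime p.asIdeal) ⊗[A] Dual.HD A ω (-(d : ℤ)) :=
    LocalizedModule.equivTensorProduct p.asIdeal.primeCompl _
  let e2 : Dual.HD (Localization.AtPrime p.asIdeal)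
      (((ε (algebraMap A (Localization.AtPrime p.asIdeal))).obj ω)⟦-δ p⟧) (-(d : ℤ) + δ p)
      ≃ₗ[Localization.AtPrime p.asIdeal]
      Dual.HD (Localization.AtPrime p.asIdeal)
        ((ε (algebraMap A (Localization.AtPrime p.asIdeal))).obj ω) (-(d : ℤ)) :=
    (((homologyFunctor (ModuleCat.{u} (Localization.AtPrime p.asIdeal)) 0).shiftIso (-δ p)
      (-(d : ℤ) + δ p) (-(d : ℤ)) (by omega)).app _).toLinearEquiv
  let E := (e0.trans e1.symm).trans e2.symm
  haveI hnt' : Nontrivial (Dual.HD (Localization.AtPrime p.asIdeal)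
      (((ε (algebraMap A (Localization.AtPrime p.asIdeal))).obj ω)⟦-δ p⟧) (-(d : ℤ) + δ p)) :=
    E.symm.toEquiv.nontrivial
  have hr := HD_range_of_normalized _ hω' hn' dB hdB _ hnt'
  have hsum : δ p + dB = d := by omega
  refine ⟨dB, hdB, hsum, ⟨l, hl1, hl2⟩, ?_⟩
  obtain ⟨-, hdep⟩ := depth_dualizingModule _ hω' hn' dB hdB
  have hidx : -(d : ℤ) + δ p = -(dB : ℤ) := by omega
  rw [depth_congr E, hidx]
  exact hdep

/-- S0369 -/
theorem dualizingModule_support_and_S2 (ω : Dual.D A) (hω : Dual.IsDualizing A ω)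
    (hn : Dual.IsNormalized A ω) (d : ℕ) (hd : ringKrullDim A = d) :
    Module.support A (Dual.HD A ω (-(d : ℤ))) =
      {p : PrimeSpectrum A | ∃ q ∈ minimalPrimes A, q ≤ p.asIdeal ∧ ringKrullDim (A ⧸ q) = d} ∧
    LocCoh.HasSk 2 A (Dual.HD A ω (-(d : ℤ))) := by
  obtain ⟨δ, h1, h2, h0⟩ := exists_dimension_function_normalized ω hω hn
  have hanti := dimFun_strictAnti δ h2
  have hδd : ∀ q : PrimeSpectrum A, δ q ≤ d := by
    intro q
    obtain ⟨h3, h4⟩ := ringKrullDim_quotient_eq_dimFun δ h2 h0 q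
    have h5 := ringKrullDim_quotient_le q.asIdeal
    rw [h4, hd] at h5
    have h6 : (δ q).toNat ≤ d := by exact_mod_cast h5
    omega
  haveI := hω.finite_cohomology (-(d : ℤ))
  constructor
  · ext p
    simp only [Set.mem_ofPred_eq]
    constructor
    · intro hp
      rw [Module.mem_support_iff] at hp
      obtain ⟨dB, -, hsum, ⟨l, hl1, hl2⟩, -⟩ :=
        dualizingModule_localization ω hω hn d hd δ h1 h2 h0 p hp
      have hchain := dimFun_length_le δ h2 l
      rw [hl1, hl2] at hchain
      obtain ⟨q, hq, hle⟩ := Ideal.exists_minimalPrimes_le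
        (show (⊥ : Ideal A) ≤ l.head.asIdeal from bot_le)
      haveI hqp : q.IsPrime := hq.1.1
      have hqh : δ l.head ≤ δ ⟨q, hqp⟩ := by
        rcases (show (⟨q, hqp⟩ : PrimeSpectrum A) ≤ l.head from hle).eq_or_lt with h | h
        · rw [h]
        · have := hanti _ _ h
          omega
      have hqd := hδd ⟨q, hqp⟩
      have hδq : δ ⟨q, hqp⟩ = d := by omega
      obtain ⟨h3, h4⟩ := ringKrullDim_quotient_eq_dimFun δ h2 h0 ⟨q, hqp⟩
      refine ⟨q, hq, ?_, ?_⟩
      · have h5 : l.head ≤ l.last := LTSeries.head_le_last l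
        rw [hl1] at h5
        exact hle.trans h5
      · change ringKrullDim (A ⧸ q) = _ at h4
        rw [h4, hδq]
        simp
    · rintro ⟨q, hq, hqp, hqd⟩
      haveI hqprime : q.IsPrime := hq.1.1
      have h3 := (nontrivial_localized_HD_iff_of_minimal ω hω hn q hq d hqd (-(d : ℤ))).2 rfl
      have h4 : (⟨q, hqprime⟩ : PrimeSpectrum A) ∈ Module.support A (Dual.HD A ω (-(d : ℤ))) :=
        Module.mem_support_iff.2 h3
      exact Module.mem_support_mono (show (⟨q, hqprime⟩ : PrimeSpectrum A) ≤ p from hqp) h4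
  · intro p hp
    rcases subsingleton_or_nontrivial (LocalizedModule p.primeCompl (Dual.HD A ω (-(d : ℤ))))
      with hs | hnt
    · rw [depth_of_subsingleton (A := Localization.AtPrime p)
        (M := LocalizedModule p.primeCompl (Dual.HD A ω (-(d : ℤ))))]
      exact le_top
    · obtain ⟨dB, hdB, -, -, hdep⟩ :=
        dualizingModule_localization ω hω hn d hd δ h1 h2 h0 ⟨p, hp⟩ hnt
      have h5 : Module.supportDim (Localization.AtPrime p)
          (LocalizedModule p.primeCompl (Dual.HD A ω (-(d : ℤ)))) ≤ dB := by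
        rw [← hdB]
        exact Module.supportDim_le_ringKrullDim _ _
      have h6 : min ((2 : ℕ) : WithBot ℕ∞) ((dB : ℕ) : WithBot ℕ∞) =
          ((min 2 dB : ℕ) : WithBot ℕ∞) := by
        rcases le_total 2 dB with h | h
        · rw [min_eq_left h, min_eq_left (by exact_mod_cast h)]
        · rw [min_eq_right h, min_eq_right (by exact_mod_cast h)]
      calc min ((2 : ℕ) : WithBot ℕ∞) (Module.supportDim (Localization.AtPrime p)
            (LocalizedModule p.primeCompl (Dual.HD A ω (-(d : ℤ)))))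
          ≤ min ((2 : ℕ) : WithBot ℕ∞) ((dB : ℕ) : WithBot ℕ∞) := min_le_min le_rfl h5
        _ = ((min 2 dB : ℕ) : WithBot ℕ∞) := h6
        _ ≤ _ := by exact_mod_cast hdep

end Global

end Groth.Agent.Lib.Helper8.Bidual
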