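import Mathlib
import Groth.Agent.Lib.Helper8.Dep8
import Groth.Agent.Lib.Helper21.DepthKit15
import Groth.Agent.Lib.Helper21.FinResKit2

/-! # Helper8 — Sk1: Serre's condition `(S_k)` in terms of the supports of `Ext^i(M, ω)` for a dualizing
complex `ω` over a noetherian ring: `support_ext_bounds`, `sk_at_iff`, `hasSk_iff_codim_support_ext`
(S18716). -/

set_option autoImplicit false

universe u

open CategoryTheory CategoryTheory.Limits CategoryTheory.Pretriangulated Opposite DerivedCategory
open scoped TensorProduct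

attribute [local instance] HasDerivedCategory.standard

namespace Groth.Agent.Lib.Helper8.Bidual

open Groth.Agent.Lib.Helper8 Groth.Agent.Lib.Helper16.FlatBC

section Bounds

variable {A : Type u} [CommRing A] [IsNoetherianRing A]

open Groth.Agent.Lib.Helper21.DepthKit

/-- the degrees `i` with `p ∈ Supp Ext^i(M, ω)` lie between `-(dim M_p + δ p)` and
`-(depth M_p + δ p)`, and both bounds are attained -/
theorem support_ext_bounds (ω : Dual.D A) (hω : Dual.IsDualizing A ω)
    (p : PrimeSpectrum A) (e : ℤ)
    (h1 : ∀ i : ℤ, Nontrivial (LocalizedModule p.asIdeal.primeCompl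
      (Dual.inD A (A ⧸ p.asIdeal) ⟶ ω⟦i⟧)) ↔ i = -e)
    (M : Type u) [AddCommGroup M] [Module A M] [Module.Finite A M]
    [Nontrivial (LocalizedModule p.asIdeal.primeCompl M)] (t d : ℕ)
    (ht : LocCoh.depth (Localization.AtPrime p.asIdeal)
      (LocalizedModule p.asIdeal.primeCompl M) = t)
    (hd : Module.supportDim (Localization.AtPrime p.asIdeal)
      (LocalizedModule p.asIdeal.primeCompl M) = d) :
    p ∈ Module.support A (Dual.inD A M ⟶ ω⟦-(t + e)⟧) ∧
    p ∈ Module.support A (Dual.inD A M ⟶ ω⟦-(d + e)⟧) ∧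
    ∀ i : ℤ, p ∈ Module.support A (Dual.inD A M ⟶ ω⟦i⟧) → -(d + e) ≤ i ∧ i ≤ -(t + e) := by
  obtain ⟨h5, h6⟩ := localized_ext_depth ω hω p.asIdeal e h1 M t ht
  have hωp := isDualizing_ε_atPrime p.asIdeal ω hω
  have hω' := isDualizing_shift _ hωp (-e)
  have hn' := isNormalized_localization_shift p.asIdeal ω hω e h1
  have htr : ∀ s r : ℤ, -e + s = r →
      (Nontrivial (Dual.inD (Localization.AtPrime p.asIdeal)
        (LocalizedModule p.asIdeal.primeCompl M) ⟶
        (((ε (algebraMap A (Localization.AtPrime p.asIdeal))).obj ω)⟦-e⟧)⟦s⟧) ↔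
      p ∈ Module.support A (Dual.inD A M ⟶ ω⟦r⟧)) := fun s r hsr => by
    rw [Module.mem_support_iff, nontrivial_localized_hom_iff p.asIdeal ω hω M r]
    exact (Iso.homCongr (Iso.refl _)
      ((shiftFunctorAdd' (Dual.D (Localization.AtPrime p.asIdeal)) (-e) s r hsr).app
        _).symm).nontrivial_congr
  refine ⟨Module.mem_support_iff.2 h6, ?_, fun i hi => ⟨?_, ?_⟩⟩
  · exact (htr (-(d : ℤ)) _ (by omega)).1
      (nontrivial_ext_neg_supportDim _ hω' hn' _ d hd)
  · have := ext_range _ hω' hn' _ d hd.le (i + e) ((htr (i + e) i (by omega)).2 hi)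
    omega
  · by_contra hc
    haveI := h5 (-i) (by omega)
    rw [neg_neg] at this
    rw [Module.mem_support_iff] at hi
    exact not_nontrivial _ hi

/-- the `(S_k)` inequality at a prime in terms of the supports of the `Ext^i(M, ω)` -/
theorem sk_at_iff (ω : Dual.D A) (hω : Dual.IsDualizing A ω)
    (M : Type u) [AddCommGroup M] [Module A M] [Module.Finite A M] (k : ℕ)
    (p : PrimeSpectrum A) :
    (min (k : WithBot ℕ∞)
        (Module.supportDim (Localization.AtPrime p.asIdeal)
          (LocalizedModule p.asIdeal.primeCompl M)) ≤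
      ((LocCoh.depth (Localization.AtPrime p.asIdeal)
        (LocalizedModule p.asIdeal.primeCompl M) : ℕ∞) : WithBot ℕ∞)) ↔
    ∀ i j : ℤ, j < i → p ∈ Module.support A (Dual.inD A M ⟶ ω⟦i⟧) →
      p ∈ Module.support A (Dual.inD A M ⟶ ω⟦j⟧) →
        (((k : ℤ) + i - j).toNat : WithBot ℕ∞) ≤
          Module.supportDim (Localization.AtPrime p.asIdeal)
            (LocalizedModule p.asIdeal.primeCompl M) := by
  obtain ⟨δ, h1, -⟩ := exists_dimension_function ω hω
  rcases subsingleton_or_nontrivial (LocalizedModule p.asIdeal.primeCompl M) with hs | hnt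
  · rw [depth_of_subsingleton (A := Localization.AtPrime p.asIdeal)
      (M := LocalizedModule p.asIdeal.primeCompl M)]
    refine ⟨fun _ i j _ hi _ => ?_, fun _ => le_top⟩
    exfalso
    have := (dimFun_le_of_mem_support_ext ω hω δ h1 M i p hi).2
    rw [Module.mem_support_iff] at this
    exact not_nontrivial _ this
  · obtain ⟨t, ht⟩ := exists_nat_depth (A := Localization.AtPrime p.asIdeal)
      (M := LocalizedModule p.asIdeal.primeCompl M)
    obtain ⟨d, hd⟩ := exists_nat_supportDim (A := Localization.AtPrime p.asIdeal)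
      (M := LocalizedModule p.asIdeal.primeCompl M)
    obtain ⟨ha, hb, hc⟩ := support_ext_bounds ω hω p (δ p) (h1 p) M t d ht hd
    have htd : t ≤ d := by
      have := depth_le_supportDim (A := Localization.AtPrime p.asIdeal)
        (M := LocalizedModule p.asIdeal.primeCompl M)
      rw [ht, hd] at this
      exact_mod_cast this
    rw [ht, hd]
    have hmin : (min (k : WithBot ℕ∞) ((d : ℕ) : WithBot ℕ∞) ≤ (((t : ℕ) : ℕ∞) : WithBot ℕ∞)) ↔
        min k d ≤ t := by
      have h2 : min (k : WithBot ℕ∞) ((d : ℕ) : WithBot ℕ∞) = ((min k d : ℕ) : WithBot ℕ∞) := by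
        rcases le_total k d with h | h
        · rw [min_eq_left h, min_eq_left (by exact_mod_cast h)]
        · rw [min_eq_right h, min_eq_right (by exact_mod_cast h)]
      rw [h2]
      exact_mod_cast Iff.rfl
    rw [hmin]
    constructor
    · intro h i j hji hi hj
      have hi' := hc i hi
      have hj' := hc j hj
      have h3 : (((k : ℤ) + i - j).toNat) ≤ d := by
        rcases le_total k d with hkd | hkd
        · rw [min_eq_left hkd] at h
          omega
        · rw [min_eq_right hkd] at h
          omega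
      exact_mod_cast h3
    · intro h
      rcases lt_or_ge t d with hlt | hge
      · have h3 := h (-(t + δ p)) (-(d + δ p)) (by omega) ha hb
        have h4 : (((k : ℤ) + -(t + δ p) - -(d + δ p)).toNat) ≤ d := by exact_mod_cast h3
        have : k ≤ t := by omega
        exact (min_le_left k d).trans this
      · exact (min_le_right k d).trans hge

/-- S18716 -/
theorem hasSk_iff_codim_support_ext (ω : Dual.D A) (hω : Dual.IsDualizing A ω)
    (M : Type u) [AddCommGroup M] [Module A M] [Module.Finite A M] (k : ℕ) :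
    LocCoh.HasSk k A M ↔
      ∀ (i j : ℤ), j < i → ∀ p : PrimeSpectrum A,
        p ∈ Module.support A (Dual.inD A M ⟶ ω⟦i⟧) →
        p ∈ Module.support A (Dual.inD A M ⟶ ω⟦j⟧) →
          (((k : ℤ) + i - j).toNat : WithBot ℕ∞) ≤
            Module.supportDim (Localization.AtPrime p.asIdeal)
              (LocalizedModule p.asIdeal.primeCompl M) := by
  unfold LocCoh.HasSk
  constructor
  · intro h i j hji p hi hj
    exact (sk_at_iff ω hω M k p).1 (h p.asIdeal) i j hji hi hj
  · intro h p hp
    exact (sk_at_iff ω hω M k ⟨p, hp⟩).2 (fun i j hji hi hj => h i j hji ⟨p, hp⟩ hi hj)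

end Bounds

end Groth.Agent.Lib.Helper8.Bidual
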