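import Mathlib
import Groth.Agent.Lib.Helper8.Sk1

/-! # Helper8 — Sk2: the `(S_k)`-locus of a finite module over a noetherian ring with a dualizing complex
is open (S18715); `supportDim_localization_mono`. -/

set_option autoImplicit false

universe u

open CategoryTheory CategoryTheory.Limits CategoryTheory.Pretriangulated Opposite DerivedCategory
open scoped TensorProduct

attribute [local instance] HasDerivedCategory.standard

namespace Groth.Agent.Lib.Helper8.Bidual

open Groth.Agent.Lib.Helper8 Groth.Agent.Lib.Helper16.FlatBC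

section Mono

variable {A : Type u} [CommRing A] {X : Type u} [AddCommGroup X] [Module A X]

/-- the dimension of the localization is monotone under specialization -/
theorem supportDim_localization_mono (r q : Ideal A) [r.IsPrime] [q.IsPrime] (hrq : r ≤ q) :
    Module.supportDim (Localization.AtPrime r) (LocalizedModule r.primeCompl X) ≤
      Module.supportDim (Localization.AtPrime q) (LocalizedModule q.primeCompl X) := by
  rw [Groth.Agent.Lib.Helper21.FinResKit.supportDim_localization_eq r,
    Groth.Agent.Lib.Helper21.FinResKit.supportDim_localization_eq q]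
  exact Order.krullDim_le_of_strictMono
    (fun x : {P' : PrimeSpectrum A // P' ∈ Module.support A X ∧ P'.asIdeal ≤ r} =>
      (⟨x.1, x.2.1, x.2.2.trans hrq⟩ :
        {P' : PrimeSpectrum A // P' ∈ Module.support A X ∧ P'.asIdeal ≤ q}))
    (fun _ _ h => h)

end Mono

section Open

variable {A : Type u} [CommRing A] [IsNoetherianRing A]

open Groth.Agent.Lib.Helper21.DepthKit

/-- S18715 -/
theorem isOpen_setOf_hasSkAt (ω : Dual.D A) (hω : Dual.IsDualizing A ω)
    (M : Type u) [AddCommGroup M] [Module A M] [Module.Finite A M] (k : ℕ) :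
    IsOpen {p : PrimeSpectrum A | EGA4.HasSkAt k A M p.asIdeal} := by
  rw [← isClosed_compl_iff]
  obtain ⟨a, b, hab⟩ := hω.finite_injective_dimension
  have hfinE : ∀ i : ℤ, Module.Finite A (Dual.inD A M ⟶ ω⟦i⟧) := fun i =>
    finite_hom_inD_of_isDualizing ω hω M i
  have hrange : ∀ (i : ℤ) (p : PrimeSpectrum A),
      p ∈ Module.support A (Dual.inD A M ⟶ ω⟦i⟧) → i ∈ Finset.Icc a b := by
    intro i p hp
    rw [Finset.mem_Icc]
    by_contra hc
    haveI := hab M i (by omega)
    rw [Module.mem_support_iff] at hp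
    exact not_nontrivial _ hp
  -- the ideal cutting out `Supp E^i ∩ Supp E^j`
  let I : ℤ → ℤ → Ideal A := fun i j =>
    Module.annihilator A (Dual.inD A M ⟶ ω⟦i⟧) ⊔ Module.annihilator A (Dual.inD A M ⟶ ω⟦j⟧)
  have hI : ∀ (i j : ℤ) (q : PrimeSpectrum A), I i j ≤ q.asIdeal ↔
      (q ∈ Module.support A (Dual.inD A M ⟶ ω⟦i⟧) ∧
        q ∈ Module.support A (Dual.inD A M ⟶ ω⟦j⟧)) := by
    intro i j q
    haveI := hfinE i
    haveI := hfinE j
    rw [Module.mem_support_iff_of_finite, Module.mem_support_iff_of_finite]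
    exact sup_le_iff
  let bad : ℤ → ℤ → Set (Ideal A) := fun i j =>
    {r | r ∈ (I i j).minimalPrimes ∧ j < i ∧ ∃ hr : r.IsPrime,
      ¬ ((((k : ℤ) + i - j).toNat : WithBot ℕ∞) ≤
        Module.supportDim (Localization.AtPrime r) (LocalizedModule r.primeCompl M))}
  have hset : {p : PrimeSpectrum A | EGA4.HasSkAt k A M p.asIdeal}ᶜ =
      ⋃ i ∈ Finset.Icc a b, ⋃ j ∈ Finset.Icc a b, ⋃ r ∈ bad i j,
        PrimeSpectrum.zeroLocus (r : Set A) := by
    ext p
    simp only [Set.mem_compl_iff, Set.mem_ofPred_eq, Set.mem_iUnion, exists_prop,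
      PrimeSpectrum.mem_zeroLocus, SetLike.coe_subset_coe]
    rw [hasSkAt_iff]
    constructor
    · intro h
      push Not at h
      obtain ⟨q, hq, hqp, hbadq⟩ := h
      have h2 := (sk_at_iff ω hω M k ⟨q, hq⟩).not.1 (not_le.2 hbadq)
      push Not at h2
      obtain ⟨i, j, hji, hi, hj, hlt⟩ := h2
      have hle : I i j ≤ q := (hI i j ⟨q, hq⟩).2 ⟨hi, hj⟩
      obtain ⟨r, hr, hrq⟩ := Ideal.exists_minimalPrimes_le hle
      haveI hrp : r.IsPrime := hr.1.1
      refine ⟨i, hrange i _ hi, j, hrange j _ hj, r, ⟨hr, hji, hrp, ?_⟩, hrq.trans hqp⟩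
      intro hc
      exact absurd (hc.trans (supportDim_localization_mono (X := M) r q hrq)) (not_le.2 hlt)
    · rintro ⟨i, -, j, -, r, ⟨hr, hji, hrp, hbad⟩, hrp'⟩ h
      have hsupp := (hI i j ⟨r, hrp⟩).1 hr.1.2
      have h3 := (sk_at_iff ω hω M k ⟨r, hrp⟩).1 (h r hrp') i j hji hsupp.1 hsupp.2
      exact hbad h3
  rw [hset]
  refine isClosed_biUnion_finset (fun i _ => isClosed_biUnion_finset (fun j _ => ?_))
  have hfin : (bad i j).Finite :=
    (Ideal.finite_minimalPrimes_of_isNoetherianRing A (I i j)).subset (fun r hr => hr.1)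
  exact hfin.isClosed_biUnion (fun r _ => PrimeSpectrum.isClosed_zeroLocus _)

end Open

end Groth.Agent.Lib.Helper8.Bidual
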