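import Mathlib
import Groth.Agent.Lib.Helper8.Sk2

/-! # Helper8 — Sk3: for a finite `(S_k)` module over a noetherian ring with a dualizing complex there are
only finitely many primes with `depth M_p = k < dim M_p` (S1715). -/

set_option autoImplicit false

universe u

open CategoryTheory CategoryTheory.Limits CategoryTheory.Pretriangulated Opposite DerivedCategory
open scoped TensorProduct

attribute [local instance] HasDerivedCategory.standard

namespace Groth.Agent.Lib.Helper8.Bidual

open Groth.Agent.Lib.Helper8 Groth.Agent.Lib.Helper16.FlatBC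

section Fin

variable {A : Type u} [CommRing A] [IsNoetherianRing A]

open Groth.Agent.Lib.Helper21.DepthKit

/-- S1715 -/
theorem finite_setOf_depth_eq_of_hasSk (ω : Dual.D A) (hω : Dual.IsDualizing A ω)
    (M : Type u) [AddCommGroup M] [Module A M] [Module.Finite A M] (k : ℕ)
    (hM : LocCoh.HasSk k A M) :
    Set.Finite {p : PrimeSpectrum A |
      LocCoh.depth (Localization.AtPrime p.asIdeal) (LocalizedModule p.asIdeal.primeCompl M) = k ∧
      (k : WithBot ℕ∞) < Module.supportDim (Localization.AtPrime p.asIdeal)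
        (LocalizedModule p.asIdeal.primeCompl M)} := by
  obtain ⟨δ, h1, h2⟩ := exists_dimension_function ω hω
  have hanti := dimFun_strictAnti δ h2
  obtain ⟨a, b, hab⟩ := hω.finite_injective_dimension
  have hfinE : ∀ i : ℤ, Module.Finite A (Dual.inD A M ⟶ ω⟦i⟧) := fun i =>
    finite_hom_inD_of_isDualizing ω hω M i
  have hrange : ∀ (i : ℤ) (p : PrimeSpectrum A),
      p ∈ Module.support A (Dual.inD A M ⟶ ω⟦i⟧) → i ∈ Finset.Icc a b := by
    intro i p hp
    rw [Finset.mem_Icc]
    by_contra hc
    haveI := hab M i (by omega)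
    rw [Module.mem_support_iff] at hp
    exact not_nontrivial _ hp
  let I : ℤ → ℤ → Ideal A := fun i j =>
    Module.annihilator A (Dual.inD A M ⟶ ω⟦i⟧) ⊔ Module.annihilator A (Dual.inD A M ⟶ ω⟦j⟧)
  have hI : ∀ (i j : ℤ) (q : PrimeSpectrum A), I i j ≤ q.asIdeal ↔
      (q ∈ Module.support A (Dual.inD A M ⟶ ω⟦i⟧) ∧
        q ∈ Module.support A (Dual.inD A M ⟶ ω⟦j⟧)) := by
    intro i j q
    haveI := hfinE i
    haveI := hfinE j
    rw [Module.mem_support_iff_of_finite, Module.mem_support_iff_of_finite]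
    exact sup_le_iff
  have hfin : (⋃ i ∈ Finset.Icc a b, ⋃ j ∈ Finset.Icc a b,
      {p : PrimeSpectrum A | p.asIdeal ∈ (I i j).minimalPrimes}).Finite := by
    refine Set.Finite.biUnion (Finset.finite_toSet _) (fun i _ =>
      Set.Finite.biUnion (Finset.finite_toSet _) (fun j _ => ?_))
    exact Set.Finite.preimage (fun x _ y _ h => PrimeSpectrum.ext h)
      (Ideal.finite_minimalPrimes_of_isNoetherianRing A (I i j))
  refine hfin.subset ?_
  rintro p ⟨hdep, hdim⟩
  haveI hnt : Nontrivial (LocalizedModule p.asIdeal.primeCompl M) := by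
    by_contra hc
    rw [not_nontrivial_iff_subsingleton] at hc
    rw [depth_of_subsingleton (A := Localization.AtPrime p.asIdeal)
      (M := LocalizedModule p.asIdeal.primeCompl M)] at hdep
    exact ENat.top_ne_natCast k hdep
  obtain ⟨d, hd⟩ := exists_nat_supportDim (A := Localization.AtPrime p.asIdeal)
    (M := LocalizedModule p.asIdeal.primeCompl M)
  have hkd : k < d := by
    rw [hd] at hdim
    exact_mod_cast hdim
  obtain ⟨ha, hb, -⟩ := support_ext_bounds ω hω p (δ p) (h1 p) M k d hdep hd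
  simp only [Set.mem_iUnion, Set.mem_ofPred_eq, exists_prop]
  refine ⟨-(k + δ p), hrange _ p ha, -(d + δ p), hrange _ p hb, ⟨p.2, (hI _ _ p).2 ⟨ha, hb⟩⟩, ?_⟩
  rintro q ⟨hqprime, hIq⟩ hqp
  by_contra hnle
  have hlt : (⟨q, hqprime⟩ : PrimeSpectrum A) < p := lt_of_le_of_ne hqp (fun h => hnle (h ▸ le_rfl))
  have hδ := hanti _ _ hlt
  obtain ⟨hqa, hqb⟩ := (hI _ _ ⟨q, hqprime⟩).1 hIq
  haveI hntq : Nontrivial (LocalizedModule q.primeCompl M) := by
    have := (dimFun_le_of_mem_support_ext ω hω δ h1 M _ ⟨q, hqprime⟩ hqa).2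
    exact Module.mem_support_iff.1 this
  obtain ⟨t', ht'⟩ := exists_nat_depth (A := Localization.AtPrime q)
    (M := LocalizedModule q.primeCompl M)
  obtain ⟨d', hd'⟩ := exists_nat_supportDim (A := Localization.AtPrime q)
    (M := LocalizedModule q.primeCompl M)
  obtain ⟨-, -, hc⟩ := support_ext_bounds ω hω ⟨q, hqprime⟩ (δ ⟨q, hqprime⟩) (h1 _) M t' d' ht' hd'
  have hca := hc _ hqa
  have hcb := hc _ hqb
  have hsk := hM q
  rw [ht', hd'] at hsk
  have hmin : min k d' ≤ t' := by
    have h2 : min (k : WithBot ℕ∞) ((d' : ℕ) : WithBot ℕ∞) = ((min k d' : ℕ) : WithBot ℕ∞) := by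
      rcases le_total k d' with h | h
      · rw [min_eq_left h, min_eq_left (by exact_mod_cast h)]
      · rw [min_eq_right h, min_eq_right (by exact_mod_cast h)]
    rw [h2] at hsk
    exact_mod_cast hsk
  rcases le_total k d' with h | h
  · rw [min_eq_left h] at hmin
    omega
  · rw [min_eq_right h] at hmin
    omega

end Fin

end Groth.Agent.Lib.Helper8.Bidual
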