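import Mathlib
import Groth.Agent.Lib.Helper8.Sk3

/-! # Helper8 — (S_k) for equidimensional modules via dim Supp Ext^j(M, ω) (S18717)

Over a Noetherian local ring with a normalized dualizing complex `ω` and dimension function `δ`:
* `ringKrullDim_quotient_le_supportDim_of_mem_support'` : universe-polymorphic `dim A/p ≤ dim N`
  for `p ∈ Supp N` (the Hom-modules in `D(A)` live one universe up);
* `exists_chain_of_dimFun` : saturated chains between primes `q ≤ p` have length `δ q - δ p`;
* `supportDim_localization_of_equidim` : for `M` equidimensional of dimension `D`,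
  `dim M_p = D - δ p` for `p ∈ Supp M`;
* `hasSk_iff_supportDim_ext_le_of_equidim` : `M` is `(S_k)` iff `dim Supp Ext^j(M, ω) ≤ -j-k` for
  all `j ≠ -D`. -/

set_option autoImplicit false

universe u

open CategoryTheory CategoryTheory.Limits CategoryTheory.Pretriangulated Opposite DerivedCategory
open scoped TensorProduct

attribute [local instance] HasDerivedCategory.standard

namespace Groth.Agent.Lib.Helper8.Bidual

open Groth.Agent.Lib.Helper8 Groth.Agent.Lib.Helper16.FlatBC

section Poly

/-- universe-polymorphic version of helper21's lemma -/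
theorem ringKrullDim_quotient_le_supportDim_of_mem_support' {A : Type*} [CommRing A]
    {N : Type*} [AddCommGroup N] [Module A N] [Module.Finite A N] {p : PrimeSpectrum A}
    (hp : p ∈ Module.support A N) : ringKrullDim (A ⧸ p.asIdeal) ≤ Module.supportDim A N := by
  rw [Module.supportDim_eq_ringKrullDim_quotient_annihilator]
  have hle : Module.annihilator A N ≤ p.asIdeal := Module.mem_support_iff_of_finite.1 hp
  exact ringKrullDim_le_of_surjective (Ideal.Quotient.factor hle)
    (Ideal.Quotient.factor_surjective hle)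

end Poly

section Chain

variable {A : Type u} [CommRing A] [IsNoetherianRing A]

/-- saturated chains between two primes have length the difference of the dimension function -/
theorem exists_chain_of_dimFun (δ : PrimeSpectrum A → ℤ)
    (h2 : ∀ p q : PrimeSpectrum A, p ⋖ q → δ p = δ q + 1) (p : PrimeSpectrum A) :
    ∀ (k : ℕ) (q : PrimeSpectrum A), q ≤ p → δ q - δ p = k →
      ∃ l : LTSeries (PrimeSpectrum A), l.head = q ∧ l.last = p ∧ l.length = k := by
  have hanti := dimFun_strictAnti δ h2
  haveI : WellFoundedLT (PrimeSpectrum A) :=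
    StrictMono.wellFoundedLT (f := fun q : PrimeSpectrum A => q.asIdeal.height)
      (fun x y h => Ideal.height_strict_mono_of_isPrime ((PrimeSpectrum.asIdeal_lt_asIdeal x y).2 h))
  intro k
  induction k with
  | zero =>
    intro q hqp hk
    have : q = p := by
      rcases hqp.eq_or_lt with h | h
      · exact h
      · have := hanti _ _ h
        push_cast at hk
        omega
    subst this
    exact ⟨RelSeries.singleton _ q, rfl, rfl, rfl⟩
  | succ k ih =>
    intro q hqp hk
    have hlt : q < p := by
      rcases hqp.eq_or_lt with h | h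
      · subst h
        push_cast at hk
        omega
      · exact h
    obtain ⟨x, hqx, hxp⟩ := exists_covBy_le_of_lt hlt
    have hx := h2 q x hqx
    obtain ⟨l, hl1, hl2, hl3⟩ := ih x hxp (by push_cast at hk; omega)
    refine ⟨l.cons q (by rw [hl1]; exact hqx.lt), RelSeries.head_cons _ _ _, ?_, ?_⟩
    · rw [RelSeries.last_cons, hl2]
    · rw [RelSeries.cons_length, hl3]

end Chain

section Equidim

variable {A : Type u} [CommRing A] [IsLocalRing A] [IsNoetherianRing A]

open Groth.Agent.Lib.Helper21.DepthKit

/-- for an equidimensional module over a local ring with dimension function `δ`,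
`dim M_p = dim M - dim A/p` -/
theorem supportDim_localization_of_equidim (δ : PrimeSpectrum A → ℤ)
    (h2 : ∀ p q : PrimeSpectrum A, p ⋖ q → δ p = δ q + 1)
    (h0 : δ (IsLocalRing.closedPoint A) = 0)
    (M : Type u) [AddCommGroup M] [Module A M] [Module.Finite A M]
    (hM : EGA4.IsEquidimModule A M) (D : ℕ) (hD : Module.supportDim A M = D)
    (p : PrimeSpectrum A) (hp : p ∈ Module.support A M) (d : ℕ)
    (hd : Module.supportDim (Localization.AtPrime p.asIdeal)
      (LocalizedModule p.asIdeal.primeCompl M) = d) :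
    (d : ℤ) = D - δ p := by
  have hδle : ∀ q ∈ Module.support A M, δ q ≤ D := by
    intro q hq
    obtain ⟨h3, h4⟩ := ringKrullDim_quotient_eq_dimFun δ h2 h0 q
    have h5 := ringKrullDim_quotient_le_supportDim_of_mem_support (A := A) (M := M) hq
    rw [h4, hD] at h5
    have h6 : (δ q).toNat ≤ D := by exact_mod_cast h5
    omega
  rw [Groth.Agent.Lib.Helper21.FinResKit.supportDim_localization_eq p.asIdeal] at hd
  apply le_antisymm
  · -- upper bound
    obtain ⟨l, hl⟩ := Order.le_krullDim_iff.1 hd.ge
    have h3 := dimFun_length_le δ h2 (l.map Subtype.val (fun _ _ h => h))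
    rw [LTSeries.head_map, LTSeries.last_map] at h3
    have h6 : (l.map Subtype.val (fun _ _ h => h)).length = d := hl
    rw [h6] at h3
    have h7 := hδle l.head.1 l.head.2.1
    have h8 : δ p ≤ δ l.last.1 := by
      rcases (show l.last.1 ≤ p from l.last.2.2).eq_or_lt with h | h
      · rw [h]
      · have := dimFun_strictAnti δ h2 _ _ h
        omega
    omega
  · -- lower bound
    rw [Module.mem_support_iff_of_finite] at hp
    obtain ⟨q, hq, hqp⟩ := Ideal.exists_minimalPrimes_le hp
    haveI hqprime : q.IsPrime := hq.1.1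
    have hqD : δ ⟨q, hqprime⟩ = D := by
      obtain ⟨h3, h4⟩ := ringKrullDim_quotient_eq_dimFun δ h2 h0 ⟨q, hqprime⟩
      have h5 := hM q hq
      rw [hD] at h5
      change ringKrullDim (A ⧸ q) = _ at h4
      rw [h4] at h5
      have h6 : (δ ⟨q, hqprime⟩).toNat = D := by exact_mod_cast h5
      omega
    have hδp : δ p ≤ D := by
      have := hδle p (Module.mem_support_iff_of_finite.2 hp)
      exact this
    obtain ⟨l, hl1, hl2, hl3⟩ := exists_chain_of_dimFun δ h2 p (D - δ p).toNat ⟨q, hqprime⟩ hqp
      (by rw [hqD]; omega)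
    have hmem : ∀ i : Fin (l.length + 1), l i ∈ Module.support A M ∧ (l i).asIdeal ≤ p.asIdeal := by
      intro i
      have h3 : l.head ≤ l i := l.strictMono.monotone (Fin.zero_le i)
      have h4 : l i ≤ l.last := l.strictMono.monotone (Fin.le_last i)
      rw [hl1] at h3
      rw [hl2] at h4
      refine ⟨Module.mem_support_iff_of_finite.2 (hq.1.2.trans h3), h4⟩
    let l' : LTSeries {P' : PrimeSpectrum A // P' ∈ Module.support A M ∧ P'.asIdeal ≤ p.asIdeal} :=
      { length := l.length
        toFun := fun i => ⟨l i, hmem i⟩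
        step := fun i => l.step i }
    have h5 := Order.LTSeries.length_le_krullDim l'
    rw [hd] at h5
    have h6 : l.length ≤ d := by exact_mod_cast h5
    omega

/-- S18717 -/
theorem hasSk_iff_supportDim_ext_le_of_equidim (ω : Dual.D A) (hω : Dual.IsDualizing A ω)
    (hn : Dual.IsNormalized A ω) (M : Type u) [AddCommGroup M] [Module A M] [Module.Finite A M]
    (hM : EGA4.IsEquidimModule A M) (D : ℕ) (hD : Module.supportDim A M = D) (k : ℕ) :
    LocCoh.HasSk k A M ↔
      ∀ j : ℤ, j ≠ -(D : ℤ) →
        (-j - (k : ℤ) < 0 → Subsingleton (Dual.inD A M ⟶ ω⟦j⟧)) ∧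
        (0 ≤ -j - (k : ℤ) → Module.supportDim A (Dual.inD A M ⟶ ω⟦j⟧) ≤
          ((-j - (k : ℤ)).toNat : WithBot ℕ∞)) := by
  obtain ⟨δ, h1, h2, h0⟩ := exists_dimension_function_normalized ω hω hn
  have hfinE : ∀ i : ℤ, Module.Finite A (Dual.inD A M ⟶ ω⟦i⟧) := fun i =>
    finite_hom_inD_of_isDualizing ω hω M i
  -- the local picture at a prime of the support of some `E^i`
  have hloc : ∀ (p : PrimeSpectrum A) (i : ℤ), p ∈ Module.support A (Dual.inD A M ⟶ ω⟦i⟧) →
      ∃ d : ℕ, Module.supportDim (Localization.AtPrime p.asIdeal)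
        (LocalizedModule p.asIdeal.primeCompl M) = d ∧ (d : ℤ) = D - δ p ∧
        p ∈ Module.support A (Dual.inD A M ⟶ ω⟦-(D : ℤ)⟧) ∧ -(D : ℤ) ≤ i := by
    intro p i hi
    have hpM := (dimFun_le_of_mem_support_ext ω hω δ h1 M i p hi).2
    haveI hnt : Nontrivial (LocalizedModule p.asIdeal.primeCompl M) := Module.mem_support_iff.1 hpM
    obtain ⟨t, ht⟩ := exists_nat_depth (A := Localization.AtPrime p.asIdeal)
      (M := LocalizedModule p.asIdeal.primeCompl M)
    obtain ⟨d, hd⟩ := exists_nat_supportDim (A := Localization.AtPrime p.asIdeal)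
      (M := LocalizedModule p.asIdeal.primeCompl M)
    have hdD := supportDim_localization_of_equidim δ h2 h0 M hM D hD p hpM d hd
    obtain ⟨-, hb, hc⟩ := support_ext_bounds ω hω p (δ p) (h1 p) M t d ht hd
    have hidx : -((d : ℤ) + δ p) = -(D : ℤ) := by omega
    rw [hidx] at hb
    have := (hc i hi).1
    exact ⟨d, hd, hdD, hb, by omega⟩
  have hδ0 : ∀ q : PrimeSpectrum A, 0 ≤ δ q := fun q => (ringKrullDim_quotient_eq_dimFun δ h2 h0 q).1
  rw [hasSk_iff_codim_support_ext ω hω M k]
  constructor
  · intro h j hj
    have hkey : ∀ p ∈ Module.support A (Dual.inD A M ⟶ ω⟦j⟧), δ p ≤ -j - k := by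
      intro p hp
      obtain ⟨d, hd, hdD, hb, hle⟩ := hloc p j hp
      have h3 := h j (-(D : ℤ)) (lt_of_le_of_ne hle (Ne.symm hj)) p hp hb
      rw [hd] at h3
      have h4 : ((k : ℤ) + j - -(D : ℤ)).toNat ≤ d := by exact_mod_cast h3
      omega
    constructor
    · intro hneg
      by_contra hc
      rw [not_subsingleton_iff_nontrivial] at hc
      haveI := hfinE j
      obtain ⟨p, hp⟩ := (Module.nonempty_support_iff (R := A)
        (M := (Dual.inD A M ⟶ ω⟦j⟧))).2 hc
      have := hkey p hp
      have := hδ0 p
      omega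
    · intro hpos
      unfold Module.supportDim Order.krullDim
      refine iSup_le (fun l => ?_)
      have h3 := dimFun_length_le δ h2 (l.map Subtype.val (fun _ _ h => h))
      rw [LTSeries.head_map, LTSeries.last_map] at h3
      have h4 := hkey l.head.1 l.head.2
      have h5 := hδ0 l.last.1
      have h6 : (l.map Subtype.val (fun _ _ h => h)).length = l.length := rfl
      rw [h6] at h3
      have h7 : l.length ≤ (-j - (k : ℤ)).toNat := by omega
      exact_mod_cast h7
  · intro h i j hji p hi hj
    obtain ⟨d, hd, hdD, -, -⟩ := hloc p i hi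
    obtain ⟨-, -, -, -, hjD⟩ := hloc p j hj
    have hiD : i ≠ -(D : ℤ) := by omega
    obtain ⟨hA1, hA2⟩ := h i hiD
    have hpos : 0 ≤ -i - (k : ℤ) := by
      by_contra hc
      haveI := hA1 (by omega)
      rw [Module.mem_support_iff] at hi
      exact not_nontrivial _ hi
    have h3 := hA2 hpos
    haveI := hfinE i
    have h4 := (ringKrullDim_quotient_le_supportDim_of_mem_support' hi).trans h3
    obtain ⟨h5, h6⟩ := ringKrullDim_quotient_eq_dimFun δ h2 h0 p
    rw [h6] at h4
    have h7 : (δ p).toNat ≤ (-i - (k : ℤ)).toNat := by exact_mod_cast h4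
    rw [hd]
    have h8 : ((k : ℤ) + i - j).toNat ≤ d := by omega
    exact_mod_cast h8

end Equidim

end Groth.Agent.Lib.Helper8.Bidual
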