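import Mathlib
import Groth.Agent.Lib.Helper8.Sk4

/-! # Helper8 — Sk5: global forms of the (S_k)/equidimensional criterion

* `homUnitShiftLinearEquiv` : `Hom(A[0], K[i]) ≃ₗ[A] H^i(K)`;
* `ringKrullDim_quotient_eq_dimFun_of_max` : for a Noetherian ring with a dimension function `δ`
  vanishing at all maximal ideals, `dim A/p = δ p`;
* `supportDim_localization_of_equidim'`, `hasSk_iff_supportDim_ext_le_of_equidim'` : the statements of
  `Sk4` over any Noetherian ring whose dimension function computes `dim A/p`. -/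

set_option autoImplicit false

universe u

open CategoryTheory CategoryTheory.Limits CategoryTheory.Pretriangulated Opposite DerivedCategory
open scoped TensorProduct

attribute [local instance] HasDerivedCategory.standard

namespace Groth.Agent.Lib.Helper8.Bidual

open Groth.Agent.Lib.Helper8 Groth.Agent.Lib.Helper16.FlatBC

section Unit

variable {A : Type u} [CommRing A]

/-- `Hom(A[0], K[i]) ≃ₗ H^i(K)` -/
noncomputable def homUnitShiftLinearEquiv (K : Dual.D A) (i : ℤ) :
    (Dual.inD A A ⟶ K⟦i⟧) ≃ₗ[A] Dual.HD A K i :=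
  (EFB.precompEquivLin
    ((singleFunctorIsoCompQ (ModuleCat.{u} A) 0).app (ModuleCat.of A A)).symm (K⟦i⟧)).trans
    ((EFB.evEquiv (K⟦i⟧)).trans
      (((homologyFunctor (ModuleCat.{u} A) 0).shiftIso i 0 i (by omega)).app K).toLinearEquiv)

end Unit

section Global

variable {A : Type u} [CommRing A] [IsNoetherianRing A]

/-- for a noetherian ring with a dimension function `δ` vanishing at all closed points,
`dim A/p = δ p` -/
theorem ringKrullDim_quotient_eq_dimFun_of_max (δ : PrimeSpectrum A → ℤ)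
    (h2 : ∀ p q : PrimeSpectrum A, p ⋖ q → δ p = δ q + 1)
    (h0 : ∀ m : PrimeSpectrum A, m.asIdeal.IsMaximal → δ m = 0) (p : PrimeSpectrum A) :
    0 ≤ δ p ∧ ringKrullDim (A ⧸ p.asIdeal) = ((δ p).toNat : ℕ∞) := by
  have hanti := dimFun_strictAnti δ h2
  have hle_m : ∀ q : PrimeSpectrum A, ∃ m : PrimeSpectrum A, m.asIdeal.IsMaximal ∧ q ≤ m := by
    intro q
    obtain ⟨m, hm, hqm⟩ := Ideal.exists_le_maximal q.asIdeal q.2.ne_top
    exact ⟨⟨m, hm.isPrime⟩, hm, hqm⟩
  have hnonneg : ∀ q : PrimeSpectrum A, 0 ≤ δ q := by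
    intro q
    obtain ⟨m, hm, hqm⟩ := hle_m q
    have h0m := h0 m hm
    rcases hqm.eq_or_lt with rfl | hlt
    · omega
    · have := hanti _ _ hlt
      omega
  have hle : ∀ l : LTSeries (PrimeSpectrum A), δ l.last + l.length ≤ δ l.head :=
    fun l => dimFun_length_le δ h2 l
  haveI : WellFoundedLT (PrimeSpectrum A) :=
    StrictMono.wellFoundedLT (f := fun q : PrimeSpectrum A => q.asIdeal.height)
      (fun x y h => Ideal.height_strict_mono_of_isPrime ((PrimeSpectrum.asIdeal_lt_asIdeal x y).2 h))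
  have hex : ∀ (k : ℕ) (q : PrimeSpectrum A), δ q = k →
      ∃ l : LTSeries (PrimeSpectrum A), l.head = q ∧ l.length = k := by
    intro k
    induction k with
    | zero => intro q _; exact ⟨RelSeries.singleton _ q, rfl, rfl⟩
    | succ k ih =>
      intro q hq
      obtain ⟨m, hm, hqm⟩ := hle_m q
      have hne : q ≠ m := by
        rintro rfl
        rw [h0 q hm] at hq
        push_cast at hq
        omega
      have hlt : q < m := lt_of_le_of_ne hqm hne
      obtain ⟨x, hqx, -⟩ := exists_covBy_le_of_lt hlt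
      have hx := h2 q x hqx
      obtain ⟨l, hl1, hl2⟩ := ih x (by push_cast at hq; omega)
      refine ⟨l.cons q (by rw [hl1]; exact hqx.lt), RelSeries.head_cons _ _ _, ?_⟩
      rw [RelSeries.cons_length, hl2]
  refine ⟨hnonneg p, ?_⟩
  have hset : PrimeSpectrum.zeroLocus (p.asIdeal : Set A) = Set.Ici p := by
    ext q
    rw [PrimeSpectrum.mem_zeroLocus, Set.mem_Ici, SetLike.coe_subset_coe]
    rfl
  rw [ringKrullDim_quotient, hset, ← Order.coheight_eq_krullDim_Ici]
  congr 1
  apply le_antisymm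
  · refine Order.coheight_le (fun l hl => ?_)
    have h3 := hle l
    rw [hl] at h3
    have h4 := hnonneg l.last
    have h5 : l.length ≤ (δ p).toNat := by omega
    exact_mod_cast h5
  · obtain ⟨l, hl1, hl2⟩ := hex (δ p).toNat p (by have := hnonneg p; omega)
    have := Order.length_le_coheight_head (p := l)
    rw [hl1, hl2] at this
    exact this

open Groth.Agent.Lib.Helper21.DepthKit

/-- for an equidimensional module over a ring with dimension function `δ` computing `dim A/p`,
`dim M_p = dim M - dim A/p` -/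
theorem supportDim_localization_of_equidim' (δ : PrimeSpectrum A → ℤ)
    (h2 : ∀ p q : PrimeSpectrum A, p ⋖ q → δ p = δ q + 1)
    (hdim : ∀ p : PrimeSpectrum A,
      0 ≤ δ p ∧ ringKrullDim (A ⧸ p.asIdeal) = ((δ p).toNat : ℕ∞))
    (M : Type u) [AddCommGroup M] [Module A M] [Module.Finite A M]
    (hM : EGA4.IsEquidimModule A M) (D : ℕ) (hD : Module.supportDim A M = D)
    (p : PrimeSpectrum A) (hp : p ∈ Module.support A M) (d : ℕ)
    (hd : Module.supportDim (Localization.AtPrime p.asIdeal)
      (LocalizedModule p.asIdeal.primeCompl M) = d) :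
    (d : ℤ) = D - δ p := by
  have hδle : ∀ q ∈ Module.support A M, δ q ≤ D := by
    intro q hq
    obtain ⟨h3, h4⟩ := hdim q
    have h5 := ringKrullDim_quotient_le_supportDim_of_mem_support' (A := A) (N := M) hq
    rw [h4, hD] at h5
    have h6 : (δ q).toNat ≤ D := by exact_mod_cast h5
    omega
  rw [Groth.Agent.Lib.Helper21.FinResKit.supportDim_localization_eq p.asIdeal] at hd
  apply le_antisymm
  · -- upper bound
    obtain ⟨l, hl⟩ := Order.le_krullDim_iff.1 hd.ge
    have h3 := dimFun_length_le δ h2 (l.map Subtype.val (fun _ _ h => h))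
    rw [LTSeries.head_map, LTSeries.last_map] at h3
    have h6 : (l.map Subtype.val (fun _ _ h => h)).length = d := hl
    rw [h6] at h3
    have h7 := hδle l.head.1 l.head.2.1
    have h8 : δ p ≤ δ l.last.1 := by
      rcases (show l.last.1 ≤ p from l.last.2.2).eq_or_lt with h | h
      · rw [h]
      · have := dimFun_strictAnti δ h2 _ _ h
        omega
    omega
  · -- lower bound
    rw [Module.mem_support_iff_of_finite] at hp
    obtain ⟨q, hq, hqp⟩ := Ideal.exists_minimalPrimes_le hp
    haveI hqprime : q.IsPrime := hq.1.1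
    have hqD : δ ⟨q, hqprime⟩ = D := by
      obtain ⟨h3, h4⟩ := hdim ⟨q, hqprime⟩
      have h5 := hM q hq
      rw [hD] at h5
      change ringKrullDim (A ⧸ q) = _ at h4
      rw [h4] at h5
      have h6 : (δ ⟨q, hqprime⟩).toNat = D := by exact_mod_cast h5
      omega
    have hδp : δ p ≤ D := by
      have := hδle p (Module.mem_support_iff_of_finite.2 hp)
      exact this
    obtain ⟨l, hl1, hl2, hl3⟩ := exists_chain_of_dimFun δ h2 p (D - δ p).toNat ⟨q, hqprime⟩ hqp
      (by rw [hqD]; omega)
    have hmem : ∀ i : Fin (l.length + 1), l i ∈ Module.support A M ∧ (l i).asIdeal ≤ p.asIdeal := by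
      intro i
      have h3 : l.head ≤ l i := l.strictMono.monotone (Fin.zero_le i)
      have h4 : l i ≤ l.last := l.strictMono.monotone (Fin.le_last i)
      rw [hl1] at h3
      rw [hl2] at h4
      refine ⟨Module.mem_support_iff_of_finite.2 (hq.1.2.trans h3), h4⟩
    let l' : LTSeries {P' : PrimeSpectrum A // P' ∈ Module.support A M ∧ P'.asIdeal ≤ p.asIdeal} :=
      { length := l.length
        toFun := fun i => ⟨l i, hmem i⟩
        step := fun i => l.step i }
    have h5 := Order.LTSeries.length_le_krullDim l'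
    rw [hd] at h5
    have h6 : l.length ≤ d := by exact_mod_cast h5
    omega

/-- the general form of S18717: `(S_k)` for an equidimensional module via the dimensions of the
supports of the `Ext^j(M, ω)`, over a ring whose dimension function computes `dim A/p` -/
theorem hasSk_iff_supportDim_ext_le_of_equidim' (ω : Dual.D A) (hω : Dual.IsDualizing A ω)
    (δ : PrimeSpectrum A → ℤ)
    (h1 : ∀ (p : PrimeSpectrum A) (i : ℤ),
      Nontrivial (LocalizedModule p.asIdeal.primeCompl
        (Dual.inD A (A ⧸ p.asIdeal) ⟶ ω⟦i⟧)) ↔ i = -δ p)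
    (h2 : ∀ p q : PrimeSpectrum A, p ⋖ q → δ p = δ q + 1)
    (hdim : ∀ p : PrimeSpectrum A,
      0 ≤ δ p ∧ ringKrullDim (A ⧸ p.asIdeal) = ((δ p).toNat : ℕ∞))
    (M : Type u) [AddCommGroup M] [Module A M] [Module.Finite A M]
    (hM : EGA4.IsEquidimModule A M) (D : ℕ) (hD : Module.supportDim A M = D) (k : ℕ) :
    (∀ j : ℤ, j < -(D : ℤ) → Subsingleton (Dual.inD A M ⟶ ω⟦j⟧)) ∧
    (∀ j : ℤ, 0 < j → Subsingleton (Dual.inD A M ⟶ ω⟦j⟧)) ∧
    (LocCoh.HasSk k A M ↔
      ∀ j : ℤ, j ≠ -(D : ℤ) →
        (-j - (k : ℤ) < 0 → Subsingleton (Dual.inD A M ⟶ ω⟦j⟧)) ∧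
        (0 ≤ -j - (k : ℤ) → Module.supportDim A (Dual.inD A M ⟶ ω⟦j⟧) ≤
          ((-j - (k : ℤ)).toNat : WithBot ℕ∞))) := by
  have hfinE : ∀ i : ℤ, Module.Finite A (Dual.inD A M ⟶ ω⟦i⟧) := fun i =>
    finite_hom_inD_of_isDualizing ω hω M i
  have hδ0 : ∀ q : PrimeSpectrum A, 0 ≤ δ q := fun q => (hdim q).1
  -- the local picture at a prime of the support of some `E^i`
  have hloc : ∀ (p : PrimeSpectrum A) (i : ℤ), p ∈ Module.support A (Dual.inD A M ⟶ ω⟦i⟧) →
      ∃ d : ℕ, Module.supportDim (Localization.AtPrime p.asIdeal)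
        (LocalizedModule p.asIdeal.primeCompl M) = d ∧ (d : ℤ) = D - δ p ∧
        p ∈ Module.support A (Dual.inD A M ⟶ ω⟦-(D : ℤ)⟧) ∧ -(D : ℤ) ≤ i ∧ i ≤ 0 := by
    intro p i hi
    have hpM := (dimFun_le_of_mem_support_ext ω hω δ h1 M i p hi).2
    haveI hnt : Nontrivial (LocalizedModule p.asIdeal.primeCompl M) := Module.mem_support_iff.1 hpM
    obtain ⟨t, ht⟩ := exists_nat_depth (A := Localization.AtPrime p.asIdeal)
      (M := LocalizedModule p.asIdeal.primeCompl M)
    obtain ⟨d, hd⟩ := exists_nat_supportDim (A := Localization.AtPrime p.asIdeal)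
      (M := LocalizedModule p.asIdeal.primeCompl M)
    have hdD := supportDim_localization_of_equidim' δ h2 hdim M hM D hD p hpM d hd
    obtain ⟨-, hb, hc⟩ := support_ext_bounds ω hω p (δ p) (h1 p) M t d ht hd
    have hidx : -((d : ℤ) + δ p) = -(D : ℤ) := by omega
    rw [hidx] at hb
    have h3 := hc i hi
    have h4 := hδ0 p
    exact ⟨d, hd, hdD, hb, by omega, by omega⟩
  have hvan : ∀ j : ℤ, (j < -(D : ℤ) ∨ 0 < j) → Subsingleton (Dual.inD A M ⟶ ω⟦j⟧) := by
    intro j hj
    by_contra hc
    rw [not_subsingleton_iff_nontrivial] at hc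
    haveI := hfinE j
    have hne : (Module.support A (Dual.inD A M ⟶ ω⟦j⟧)).Nonempty :=
      Module.nonempty_support_iff.2 hc
    obtain ⟨p, hp⟩ := hne
    obtain ⟨d, -, -, -, h3, h4⟩ := hloc p j hp
    omega
  refine ⟨fun j hj => hvan j (Or.inl hj), fun j hj => hvan j (Or.inr hj), ?_⟩
  rw [hasSk_iff_codim_support_ext ω hω M k]
  constructor
  · intro h j hj
    have hkey : ∀ p ∈ Module.support A (Dual.inD A M ⟶ ω⟦j⟧), δ p ≤ -j - k := by
      intro p hp
      obtain ⟨d, hd, hdD, hb, hle, -⟩ := hloc p j hp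
      have h3 := h j (-(D : ℤ)) (lt_of_le_of_ne hle (Ne.symm hj)) p hp hb
      rw [hd] at h3
      have h4 : ((k : ℤ) + j - -(D : ℤ)).toNat ≤ d := by exact_mod_cast h3
      omega
    constructor
    · intro hneg
      by_contra hc
      rw [not_subsingleton_iff_nontrivial] at hc
      haveI := hfinE j
      have hne : (Module.support A (Dual.inD A M ⟶ ω⟦j⟧)).Nonempty :=
        Module.nonempty_support_iff.2 hc
      obtain ⟨p, hp⟩ := hne
      have := hkey p hp
      have := hδ0 p
      omega
    · intro hpos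
      unfold Module.supportDim Order.krullDim
      refine iSup_le (fun l => ?_)
      have h3 := dimFun_length_le δ h2 (l.map Subtype.val (fun _ _ h => h))
      rw [LTSeries.head_map, LTSeries.last_map] at h3
      have h4 := hkey l.head.1 l.head.2
      have h5 := hδ0 l.last.1
      have h6 : (l.map Subtype.val (fun _ _ h => h)).length = l.length := rfl
      rw [h6] at h3
      have h7 : l.length ≤ (-j - (k : ℤ)).toNat := by omega
      exact_mod_cast h7
  · intro h i j hji p hi hj
    obtain ⟨d, hd, hdD, -, -, -⟩ := hloc p i hi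
    obtain ⟨-, -, -, -, hjD, -⟩ := hloc p j hj
    have hiD : i ≠ -(D : ℤ) := by omega
    obtain ⟨hA1, hA2⟩ := h i hiD
    have hpos : 0 ≤ -i - (k : ℤ) := by
      by_contra hc
      haveI := hA1 (by omega)
      rw [Module.mem_support_iff] at hi
      exact not_nontrivial _ hi
    have h3 := hA2 hpos
    haveI := hfinE i
    have h4 := (ringKrullDim_quotient_le_supportDim_of_mem_support' hi).trans h3
    obtain ⟨h5, h6⟩ := hdim p
    rw [h6] at h4
    have h7 : (δ p).toNat ≤ (-i - (k : ℤ)).toNat := by exact_mod_cast h4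
    rw [hd]
    have h8 : ((k : ℤ) + i - j).toNat ≤ d := by omega
    exact_mod_cast h8

end Global

end Groth.Agent.Lib.Helper8.Bidual
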