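import Mathlib
import Groth.Agent.Lib.Helper8.Sk5

/-! # Helper8 — Sk6: (S_k) for an equidimensional Noetherian ring with a dualizing complex normalized
at every maximal ideal, via `dim Supp H^{-i}(ω) ≤ i - k` (S18721; the finite type hypothesis over a
field is not needed). -/

set_option autoImplicit false

universe u

open CategoryTheory CategoryTheory.Limits CategoryTheory.Pretriangulated Opposite DerivedCategory
open scoped TensorProduct

attribute [local instance] HasDerivedCategory.standard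

namespace Groth.Agent.Lib.Helper8.Bidual

open Groth.Agent.Lib.Helper8 Groth.Agent.Lib.Helper16.FlatBC

section FT

variable {A : Type u} [CommRing A]

lemma isEquidimModule_self (hEq : EGA4.IsEquidim A) : EGA4.IsEquidimModule A A := by
  intro p hp
  have h1 : Module.annihilator A A = ⊥ :=
    Module.annihilator_eq_bot.mpr ((faithfulSMul_iff_algebraMap_injective A A).mpr fun {a₁ a₂} a ↦ a)
  rw [h1] at hp
  rw [Module.supportDim_self_eq_ringKrullDim]
  exact hEq p hp

/-- S18721 (the finite type hypothesis is not needed) -/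
theorem hasSk_iff_supportDim_HD_of_normalized_at_max [IsNoetherianRing A]
    (hEq : EGA4.IsEquidim A) (n : ℕ) (hd : ringKrullDim A = n)
    (ω : Dual.D A) (hω : Dual.IsDualizing A ω)
    (hnorm : ∀ (m : Ideal A) (_ : m.IsMaximal) (i : ℤ), i ≠ 0 →
      Subsingleton (Dual.inD A (A ⧸ m) ⟶ ω⟦i⟧)) :
    (∀ i : ℕ, n < i → Subsingleton (Dual.HD A ω (-(i : ℤ)))) ∧
    ∀ k' : ℕ,
      (LocCoh.HasSk k' A A ↔
        ∀ i : ℕ, i ≠ n →
          (i < k' → Subsingleton (Dual.HD A ω (-(i : ℤ)))) ∧
          (k' ≤ i → Module.supportDim A (Dual.HD A ω (-(i : ℤ))) ≤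
            ((i - k' : ℕ) : WithBot ℕ∞))) := by
  obtain ⟨δ, h1, h2⟩ := exists_dimension_function ω hω
  have h0 : ∀ m : PrimeSpectrum A, m.asIdeal.IsMaximal → δ m = 0 := by
    intro m hm
    by_contra hc
    have h3 := (h1 m (-δ m)).2 rfl
    haveI := hnorm m.asIdeal hm (-δ m) (by omega)
    exact not_nontrivial _ h3
  have hdim := ringKrullDim_quotient_eq_dimFun_of_max δ h2 h0
  have hM := isEquidimModule_self hEq
  have hD : Module.supportDim A A = n := by rw [Module.supportDim_self_eq_ringKrullDim, hd]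
  have hsub : ∀ j : ℤ, Subsingleton (Dual.inD A A ⟶ ω⟦j⟧) ↔ Subsingleton (Dual.HD A ω j) :=
    fun j => (homUnitShiftLinearEquiv ω j).toEquiv.subsingleton_congr
  have hsd : ∀ j : ℤ, Module.supportDim A (Dual.inD A A ⟶ ω⟦j⟧) =
      Module.supportDim A (Dual.HD A ω j) :=
    fun j => Module.supportDim_eq_of_equiv (homUnitShiftLinearEquiv ω j)
  refine ⟨fun i hi => ?_, fun k' => ?_⟩
  · obtain ⟨hv1, -, -⟩ := hasSk_iff_supportDim_ext_le_of_equidim' ω hω δ h1 h2 hdim A hM n hD 0
    exact (hsub _).1 (hv1 (-(i : ℤ)) (by omega))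
  · obtain ⟨-, hv2, hiff⟩ :=
      hasSk_iff_supportDim_ext_le_of_equidim' ω hω δ h1 h2 hdim A hM n hD k'
    rw [hiff]
    constructor
    · intro h i hi
      obtain ⟨hA1, hA2⟩ := h (-(i : ℤ)) (by omega)
      refine ⟨fun hlt => (hsub _).1 (hA1 (by omega)), fun hle => ?_⟩
      have h3 := hA2 (by omega)
      rw [hsd] at h3
      have h4 : (-(-(i : ℤ)) - (k' : ℤ)).toNat = i - k' := by omega
      rw [h4] at h3
      exact h3
    · intro h j hj
      rcases lt_or_ge 0 j with hpos | hnp
      · haveI := hv2 j hpos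
        refine ⟨fun _ => inferInstance, fun _ => ?_⟩
        rw [Module.supportDim_eq_bot_of_subsingleton]
        exact bot_le
      · obtain ⟨i, rfl⟩ : ∃ i : ℕ, j = -(i : ℤ) := ⟨(-j).toNat, by omega⟩
        obtain ⟨hA1, hA2⟩ := h i (by omega)
        refine ⟨fun hlt => (hsub _).2 (hA1 (by omega)), fun hle => ?_⟩
        rw [hsd]
        have h4 : (-(-(i : ℤ)) - (k' : ℤ)).toNat = i - k' := by omega
        rw [h4]
        exact hA2 (by omega)

end FT

end Groth.Agent.Lib.Helper8.Bidual
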