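import Mathlib
import Groth.Agent.Lib.Helper8.Sk6
import Groth.Agent.S7707

/-! # Helper8 — Equi: Hartshorne's connectedness (helper12's S7707) with a dimension function: over a
noetherian local `(S_2)` ring with a dimension function `δ`, `δ` is constant on the minimal primes
(`dimFun_const_on_minimalPrimes_of_hasSk_two`). -/

set_option autoImplicit false

universe u

namespace Groth.Agent.Lib.Helper8.Bidual

section Equi

variable {A : Type u} [CommRing A]

/-- the intersection of the components `ker (A → A_p)`, `p ∈ T` -/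
def compIdeal (T : Set (Ideal A)) (hT : T ⊆ minimalPrimes A) : Ideal A where
  carrier := {r | ∀ p ∈ T, ∃ s : A, s ∉ p ∧ s * r = 0}
  add_mem' := by
    intro x y hx hy p hp
    obtain ⟨s, hs, hsx⟩ := hx p hp
    obtain ⟨t, ht, hty⟩ := hy p hp
    haveI := (hT hp).1.1
    refine ⟨s * t, fun h => (Ideal.IsPrime.mem_or_mem inferInstance h).elim hs ht, ?_⟩
    rw [mul_add, mul_right_comm, hsx, zero_mul, mul_assoc, hty, mul_zero, add_zero]
  zero_mem' := by
    intro p hp
    haveI := (hT hp).1.1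
    exact ⟨1, fun h => Ideal.IsPrime.ne_top inferInstance ((Ideal.eq_top_iff_one p).2 h), mul_zero 1⟩
  smul_mem' := by
    intro c x hx p hp
    obtain ⟨s, hs, hsx⟩ := hx p hp
    exact ⟨s, hs, by rw [smul_eq_mul, mul_left_comm, hsx, mul_zero]⟩

lemma mem_compIdeal (T : Set (Ideal A)) (hT : T ⊆ minimalPrimes A) (r : A) :
    r ∈ compIdeal T hT ↔ ∀ p ∈ T, ∃ s : A, s ∉ p ∧ s * r = 0 := Iff.rfl

lemma compIdeal_le (T : Set (Ideal A)) (hT : T ⊆ minimalPrimes A) (p : Ideal A) (hp : p ∈ T) :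
    compIdeal T hT ≤ p := by
  intro r hr
  obtain ⟨s, hs, hsr⟩ := hr p hp
  haveI := (hT hp).1.1
  have : s * r ∈ p := by rw [hsr]; exact p.zero_mem
  exact (Ideal.IsPrime.mem_or_mem inferInstance this).resolve_left hs

variable [IsLocalRing A] [IsNoetherianRing A]

/-- Hartshorne: a noetherian local `(S_2)` ring with a dimension function has all its minimal primes
of the same dimension -/
theorem dimFun_const_on_minimalPrimes_of_hasSk_two (δ : PrimeSpectrum A → ℤ)
    (h2 : ∀ p q : PrimeSpectrum A, p ⋖ q → δ p = δ q + 1) (hS : LocCoh.HasSk 2 A A) (n : ℤ)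
    (q0 : Ideal A) (hq0 : q0 ∈ minimalPrimes A) (hq0n : δ ⟨q0, hq0.1.1⟩ = n)
    (q : Ideal A) (hq : q ∈ minimalPrimes A) : δ ⟨q, hq.1.1⟩ = n := by
  by_contra hne
  let P1 : Set (Ideal A) := {r | ∃ h : r ∈ minimalPrimes A, δ ⟨r, h.1.1⟩ = n}
  let P2 : Set (Ideal A) := {r | ∃ h : r ∈ minimalPrimes A, δ ⟨r, h.1.1⟩ ≠ n}
  have hT1 : P1 ⊆ minimalPrimes A := fun r hr => hr.1
  have hT2 : P2 ⊆ minimalPrimes A := fun r hr => hr.1
  have hP : P1 ∪ P2 = minimalPrimes A := by
    ext r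
    constructor
    · rintro (h | h)
      · exact h.1
      · exact h.1
    · intro h
      by_cases hr : δ ⟨r, h.1.1⟩ = n
      · exact Or.inl ⟨h, hr⟩
      · exact Or.inr ⟨h, hr⟩
  have hdisj : Disjoint P1 P2 := by
    rw [Set.disjoint_left]
    rintro r ⟨h, hr⟩ ⟨h', hr'⟩
    exact hr' hr
  have hne1 : P1.Nonempty := ⟨q0, hq0, hq0n⟩
  have hne2 : P2.Nonempty := ⟨q, hq, hne⟩
  let a := compIdeal P1 hT1
  let b := compIdeal P2 hT2
  have hab : a ⊔ b ≤ IsLocalRing.maximalIdeal A := by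
    refine sup_le ?_ ?_
    · exact (compIdeal_le P1 hT1 q0 ⟨hq0, hq0n⟩).trans (IsLocalRing.le_maximalIdeal hq0.1.1.ne_top)
    · exact (compIdeal_le P2 hT2 q ⟨hq, hne⟩).trans (IsLocalRing.le_maximalIdeal hq.1.1.ne_top)
  obtain ⟨P, hPmin, -⟩ := Ideal.exists_minimalPrimes_le hab
  have hht := Groth.Agent.S7707.result A hS P1 P2 hP hdisj hne1 hne2 a b
    (mem_compIdeal P1 hT1) (mem_compIdeal P2 hT2) P hPmin
  haveI hPp : P.IsPrime := hPmin.1.1
  have hcov : ∀ (T : Set (Ideal A)) (hT : T ⊆ minimalPrimes A), compIdeal T hT ≤ P →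
      ∃ (r : Ideal A) (hr : r ∈ T), δ ⟨r, (hT hr).1.1⟩ = δ ⟨P, hPp⟩ + 1 := by
    intro T hT hle
    obtain ⟨r, hr, hrP⟩ := Groth.Agent.Lib.Helper12.S2Connected.exists_le_of_le T hT
      (compIdeal T hT) (fun x hx => hx) P hle
    haveI hrp : r.IsPrime := (hT hr).1.1
    refine ⟨r, hr, h2 ⟨r, hrp⟩ ⟨P, hPp⟩ ⟨?_, ?_⟩⟩
    · refine lt_of_le_of_ne hrP (fun heq => ?_)
      have h0 : P.height = 0 := by
        rw [Ideal.height_eq_zero_iff]
        have : r = P := congrArg PrimeSpectrum.asIdeal heq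
        rw [← this]
        exact hT hr
      rw [hht] at h0
      exact one_ne_zero h0
    · intro c hrc hcP
      have h3 : r.height < c.asIdeal.height :=
        Ideal.height_strict_mono_of_isPrime ((PrimeSpectrum.asIdeal_lt_asIdeal _ _).2 hrc)
      have h4 : c.asIdeal.height < P.height :=
        Ideal.height_strict_mono_of_isPrime ((PrimeSpectrum.asIdeal_lt_asIdeal _ _).2 hcP)
      rw [hht] at h4
      have h5 : c.asIdeal.height = 0 := Order.lt_one_iff.1 h4
      rw [h5] at h3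
      exact not_lt_zero h3
  obtain ⟨r1, hr1, h5⟩ := hcov P1 hT1 (le_sup_left.trans hPmin.1.2)
  obtain ⟨r2, hr2, h6⟩ := hcov P2 hT2 (le_sup_right.trans hPmin.1.2)
  obtain ⟨h7, h8⟩ := hr1
  obtain ⟨h9, h10⟩ := hr2
  exact h10 (by rw [h6, ← h5]; exact h8)

end Equi

end Groth.Agent.Lib.Helper8.Bidual
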