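import Mathlib
import Groth.Agent.Lib.Helper8.Sk6
import Groth.Agent.Lib.Helper8.S2c
import Groth.Agent.Lib.Helper8.Equi

/-! # Helper8 — End1: a noetherian local `(S_2)` ring with a dualizing complex is equidimensional
(`isEquidim_of_hasSk_two`); under `(S_k)` there are no maps `τ_{> -n} ω → ω[j]` for `j < k`
(`subsingleton_hom_truncGE_of_hasSk`); `subsingleton_hom_single_of_ext`,
`subsingleton_hom_shift_neg_one`, `hasSk_mono`. -/

set_option autoImplicit false

universe u

open CategoryTheory CategoryTheory.Limits CategoryTheory.Pretriangulated Opposite DerivedCategory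
open scoped TensorProduct

attribute [local instance] HasDerivedCategory.standard

namespace Groth.Agent.Lib.Helper8.Bidual

open Groth.Agent.Lib.Helper8 Groth.Agent.Lib.Helper16.FlatBC
open Groth.Agent.Lib.Helper8.DTrunc Groth.Agent.Lib.Helper8.PAmp

section Gen

variable {A : Type u} [CommRing A]

/-- maps out of a module placed in degree `i` -/
lemma subsingleton_hom_single_of_ext (ω : Dual.D A) (N : Type u) [AddCommGroup N] [Module A N]
    (i s : ℤ) (h0 : Subsingleton (Dual.inD A N ⟶ ω⟦s + i⟧)) :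
    Subsingleton ((singleFunctor (ModuleCat.{u} A) i).obj (ModuleCat.of A N) ⟶ ω⟦s⟧) := by
  let j : (Dual.inD A N)⟦-i⟧ ≅ (singleFunctor (ModuleCat.{u} A) i).obj (ModuleCat.of A N) :=
    ((DerivedCategory.singleFunctors (ModuleCat.{u} A)).shiftIso (-i) i 0 (by omega)).app
      (ModuleCat.of A N)
  have e1 : ((Dual.inD A N)⟦-i⟧ ⟶ ω⟦s⟧) ≃ ((Dual.inD A N)⟦-i⟧⟦i⟧ ⟶ ω⟦s⟧⟦i⟧) :=
    (EFB.shiftEquivLin i _ _).toEquiv
  have e2 := Iso.homCongr
    ((shiftFunctorCompIsoId (Dual.D A) (-i) i (by omega)).app (Dual.inD A N))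
    ((shiftFunctorAdd' (Dual.D A) s i (s + i) rfl).app ω).symm
  haveI : Subsingleton ((Dual.inD A N)⟦-i⟧ ⟶ ω⟦s⟧) := @Equiv.subsingleton _ _ (e1.trans e2) h0
  exact (Iso.homCongr j (Iso.refl _)).symm.subsingleton

/-- `Hom(C[-1], Y) = 0` if `Hom(C, Y[1]) = 0` -/
lemma subsingleton_hom_shift_neg_one (C Y : Dual.D A) (h : Subsingleton (C ⟶ Y⟦(1 : ℤ)⟧)) :
    Subsingleton (C⟦(-1 : ℤ)⟧ ⟶ Y) := by
  have e1 : (C⟦(-1 : ℤ)⟧ ⟶ Y) ≃ (C⟦(-1 : ℤ)⟧⟦(1 : ℤ)⟧ ⟶ Y⟦(1 : ℤ)⟧) :=
    (EFB.shiftEquivLin 1 _ _).toEquiv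
  have e2 := Iso.homCongr
    ((shiftFunctorCompIsoId (Dual.D A) (-1) 1 (by omega)).app C) (Iso.refl (Y⟦(1 : ℤ)⟧))
  exact @Equiv.subsingleton _ _ (e1.trans e2) h

lemma hasSk_mono {k l : ℕ} (hkl : k ≤ l) (M : Type u) [AddCommGroup M] [Module A M]
    (h : LocCoh.HasSk l A M) : LocCoh.HasSk k A M := fun q _ =>
  le_trans (min_le_min_right _ (by exact_mod_cast hkl)) (h q)

end Gen

section Local

variable {A : Type u} [CommRing A] [IsLocalRing A] [IsNoetherianRing A]

open Groth.Agent.Lib.Helper21.DepthKit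

/-- a noetherian local `(S_2)` ring with a dualizing complex is equidimensional -/
theorem isEquidim_of_hasSk_two (ω : Dual.D A) (hω : Dual.IsDualizing A ω)
    (hn : Dual.IsNormalized A ω) (hS : LocCoh.HasSk 2 A A) : EGA4.IsEquidim A := by
  obtain ⟨δ, h1, h2, h0⟩ := exists_dimension_function_normalized ω hω hn
  obtain ⟨n, hn'⟩ := exists_nat_supportDim (A := A) (M := A)
  have hd : ringKrullDim A = n := by rw [← Module.supportDim_self_eq_ringKrullDim, hn']
  obtain ⟨q0, hq0, hq0n⟩ := exists_minimalPrime_dim_eq n hd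
  have hδ : ∀ (q : Ideal A) (hq : q ∈ minimalPrimes A) (e : ℕ), ringKrullDim (A ⧸ q) = e →
      δ ⟨q, hq.1.1⟩ = e := by
    intro q hq e he
    obtain ⟨h3, h4⟩ := ringKrullDim_quotient_eq_dimFun δ h2 h0 ⟨q, hq.1.1⟩
    change ringKrullDim (A ⧸ q) = _ at h4
    rw [he] at h4
    have : e = (δ ⟨q, hq.1.1⟩).toNat := by exact_mod_cast h4
    omega
  intro q hq
  have h3 := dimFun_const_on_minimalPrimes_of_hasSk_two δ h2 hS (n : ℤ) q0 hq0
    (hδ q0 hq0 n hq0n) q hq
  obtain ⟨h4, h5⟩ := ringKrullDim_quotient_eq_dimFun δ h2 h0 ⟨q, hq.1.1⟩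
  change ringKrullDim (A ⧸ q) = _ at h5
  rw [h5, h3, hd]
  simp

/-- under `(S_k)`, there are no maps `τ_{> -n} ω → ω[j]` for `j < k` -/
theorem subsingleton_hom_truncGE_of_hasSk (ω : Dual.D A) (hω : Dual.IsDualizing A ω)
    (hn : Dual.IsNormalized A ω) (n : ℕ) (hd : ringKrullDim A = n) (k : ℕ)
    (hS : LocCoh.HasSk k A A) (hEq : EGA4.IsEquidim A) (j : ℤ) (hj : j < k) :
    Subsingleton ((tt.truncGE (-(n : ℤ) + 1)).obj ω ⟶ ω⟦j⟧) := by
  have hrange := HD_range_of_normalized ω hω hn n hd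
  haveI hGE : ω.IsGE (-(n : ℤ)) := EFB.isGE_of_subsingleton ω _ (fun i hi => by
    by_contra hc
    rw [not_subsingleton_iff_nontrivial] at hc
    have := hrange i hc
    omega)
  haveI hLE : ω.IsLE 0 := EFB.isLE_of_subsingleton ω _ (fun i hi => by
    by_contra hc
    rw [not_subsingleton_iff_nontrivial] at hc
    have := hrange i hc
    omega)
  set b : ℤ := -(n : ℤ) + 1 with hb
  have h3GE : ((tt.truncGE b).obj ω).IsGE (-(n : ℤ) + 1) :=
    (inferInstance : tt.IsGE ((tt.truncGE b).obj ω) b)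
  have h3iso : ∀ i : ℤ, b ≤ i → (Dual.HD A ω i ≃ₗ[A] Dual.HD A ((tt.truncGE b).obj ω) i) := by
    intro i hi
    haveI := isIso_homologyMap_truncGEπ ω b i hi
    exact (asIso ((homologyFunctor (ModuleCat.{u} A) i).map ((tt.truncGEπ b).app ω))).toLinearEquiv
  have h3zero : ∀ i : ℤ, i < b → Subsingleton (Dual.HD A ((tt.truncGE b).obj ω) i) := by
    intro i hi
    exact ModuleCat.subsingleton_of_isZero (isZero_of_isGE _ b i hi)
  have h3fin : ∀ i : ℤ, Module.Finite A (Dual.HD A ((tt.truncGE b).obj ω) i) := by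
    intro i
    by_cases hi : i < b
    · haveI := h3zero i hi
      infer_instance
    · haveI := hω.finite_cohomology i
      exact Module.Finite.equiv (h3iso i (by omega))
  have h3LE : ((tt.truncGE b).obj ω).IsLE 0 := EFB.isLE_of_subsingleton _ _ (fun i hi => by
    by_cases hib : i < b
    · exact h3zero i hib
    · haveI : Subsingleton (Dual.HD A ω i) := by
        by_contra hc
        rw [not_subsingleton_iff_nontrivial] at hc
        have := hrange i hc
        omega
      exact (h3iso i (by omega)).symm.toEquiv.subsingleton)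
  have hM := isEquidimModule_self hEq
  have hD : Module.supportDim A A = n := by rw [Module.supportDim_self_eq_ringKrullDim, hd]
  have hcrit := (hasSk_iff_supportDim_ext_le_of_equidim ω hω hn A hM n hD k).1 hS
  let P : ObjectProperty (Dual.D A) := fun Y => ∀ s : ℤ, s < k → Subsingleton (Y ⟶ ω⟦s⟧)
  haveI : P.IsClosedUnderIsomorphisms :=
    ⟨fun {Y Z} e h s hs => by
      haveI := h s hs
      exact (Iso.homCongr e (Iso.refl (ω⟦s⟧))).symm.subsingleton⟩
  have key : P ((tt.truncGE b).obj ω) := by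
    refine Stupid.induction_cohomology P ?_ ?_ n _ 0 h3LE (by
      have : (0 : ℤ) + 1 - (n : ℤ) = -(n : ℤ) + 1 := by ring
      rw [this]; exact h3GE) ?_
    · intro T hT h1 h3 s hs
      haveI := h1 s hs
      haveI := h3 s hs
      refine ⟨fun f g => ?_⟩
      have hz : ∀ f : T.obj₂ ⟶ ω⟦s⟧, f = 0 := by
        intro f
        obtain ⟨w, hw⟩ := Triangle.yoneda_exact₂ _ hT f (Subsingleton.elim _ _)
        rw [hw, Subsingleton.elim w 0, comp_zero]
      rw [hz f, hz g]
    · intro Z hZ s _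
      exact ⟨fun f g => hZ.eq_of_src f g⟩
    · intro i s hs
      by_cases hi : i < b
      · have hz : IsZero ((homologyFunctor (ModuleCat.{u} A) i).obj ((tt.truncGE b).obj ω)) :=
          isZero_of_isGE _ b i hi
        have hz' : IsZero ((singleFunctor (ModuleCat.{u} A) i).obj
            ((homologyFunctor (ModuleCat.{u} A) i).obj ((tt.truncGE b).obj ω))) :=
          Functor.map_isZero _ hz
        exact ⟨fun f g => hz'.eq_of_src f g⟩
      · haveI := h3fin i
        obtain ⟨hA1, hA2⟩ := hcrit i (by omega)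
        refine subsingleton_hom_single_of_ext ω (Dual.HD A ((tt.truncGE b).obj ω) i) i s ?_
        by_cases hneg : -i - (k : ℤ) < 0
        · haveI := hA1 hneg
          haveI : Subsingleton (Dual.HD A ω i) :=
            (homUnitShiftLinearEquiv ω i).symm.toEquiv.subsingleton
          haveI : Subsingleton (Dual.HD A ((tt.truncGE b).obj ω) i) :=
            (h3iso i (by omega)).symm.toEquiv.subsingleton
          exact subsingleton_hom_inD_of_subsingleton _ _
        · have h5 := hA2 (by omega)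
          rw [Module.supportDim_eq_of_equiv (homUnitShiftLinearEquiv ω i),
            Module.supportDim_eq_of_equiv (h3iso i (by omega))] at h5
          by_contra hc
          rw [not_subsingleton_iff_nontrivial] at hc
          have h6 := ext_range ω hω hn (Dual.HD A ((tt.truncGE b).obj ω) i)
            (-i - (k : ℤ)).toNat h5 (s + i) hc
          omega
  exact key j hj

end Local

end Groth.Agent.Lib.Helper8.Bidual
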