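import Mathlib
import Groth.Agent.Lib.Helper8.Dep1
import Groth.Agent.Lib.Helper8.Res6

/-! # Helper8 — Uniq1: vanishing of `Hom(T M, W)` for a contravariant "δ-functor" `T` from modules over
a Noetherian local ring to `D(A)`: dévissage along prime filtrations (`subsingleton_homT_of_support`)
and Nakayama (`subsingleton_homT_of_residue`: if `Hom(T κ, W) = 0` and all `Hom(T M, W)` are finite
modules then `Hom(T M, W) = 0` for all finite `M`). -/

set_option autoImplicit false

universe u

open CategoryTheory CategoryTheory.Limits CategoryTheory.Pretriangulated Opposite DerivedCategory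

attribute [local instance] HasDerivedCategory.standard

namespace Groth.Agent.Lib.Helper8.Bidual

open Groth.Agent.Lib.Helper8

section Gen

variable {A : Type u} [CommRing A]
variable (T : (ModuleCat.{u} A)ᵒᵖ ⥤ Dual.D A)
  (hT : ∀ (S : ShortComplex (ModuleCat.{u} A)), S.ShortExact →
    ∃ δ : T.obj (op S.X₁) ⟶ (T.obj (op S.X₃))⟦(1 : ℤ)⟧,
      Triangle.mk (T.map S.g.op) (T.map S.f.op) δ ∈ distTriang (Dual.D A))
  (W : Dual.D A)

/-- the short exact sequence of modules attached to linear maps -/
lemma shortExact_of_linear {M₁ M₂ M₃ : Type u} [AddCommGroup M₁] [Module A M₁]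
    [AddCommGroup M₂] [Module A M₂] [AddCommGroup M₃] [Module A M₃]
    (f : M₁ →ₗ[A] M₂) (g : M₂ →ₗ[A] M₃) (hf : Function.Injective f)
    (hg : Function.Surjective g) (hfg : Function.Exact f g) :
    (ShortComplex.mk (ModuleCat.ofHom f) (ModuleCat.ofHom g)
      (by
        refine ModuleCat.hom_ext (LinearMap.ext fun x => ?_)
        exact hfg.apply_apply_eq_zero x)).ShortExact := by
  set S : ShortComplex (ModuleCat.{u} A) := ShortComplex.mk (ModuleCat.ofHom f) (ModuleCat.ofHom g)
    (by
      refine ModuleCat.hom_ext (LinearMap.ext fun x => ?_)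
      exact hfg.apply_apply_eq_zero x)
  haveI : Mono S.f := (ModuleCat.mono_iff_injective _).2 hf
  haveI : Epi S.g := (ModuleCat.epi_iff_surjective _).2 hg
  refine ShortComplex.ShortExact.mk ((ShortComplex.moduleCat_exact_iff S).2 ?_)
  intro x₂ hx₂
  exact (hfg x₂).1 hx₂

include hT in
/-- half exactness of `Hom(T -, W)` -/
lemma subsingleton_homT_of_exact {N₁ N₂ N₃ : Type u} [AddCommGroup N₁] [Module A N₁]
    [AddCommGroup N₂] [Module A N₂] [AddCommGroup N₃] [Module A N₃]
    (f : N₁ →ₗ[A] N₂) (g : N₂ →ₗ[A] N₃) (hf : Function.Injective f)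
    (hg : Function.Surjective g) (hfg : Function.Exact f g)
    (h1 : Subsingleton (T.obj (op (ModuleCat.of A N₁)) ⟶ W))
    (h3 : Subsingleton (T.obj (op (ModuleCat.of A N₃)) ⟶ W)) :
    Subsingleton (T.obj (op (ModuleCat.of A N₂)) ⟶ W) := by
  obtain ⟨δ, hδ⟩ := hT _ (shortExact_of_linear f g hf hg hfg)
  have key : ∀ e : T.obj (op (ModuleCat.of A N₂)) ⟶ W, e = 0 := by
    intro e
    obtain ⟨(w : T.obj (op (ModuleCat.of A N₁)) ⟶ W), hw⟩ :=
      Triangle.yoneda_exact₂ _ hδ e (h3.elim _ _)
    rw [hw, h1.elim w 0]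
    exact comp_zero
  exact ⟨fun a b => by rw [key a, key b]⟩

lemma subsingleton_homT_congr {N N' : Type u} [AddCommGroup N] [Module A N]
    [AddCommGroup N'] [Module A N'] (e : N ≃ₗ[A] N') :
    Subsingleton (T.obj (op (ModuleCat.of A N)) ⟶ W) ↔
      Subsingleton (T.obj (op (ModuleCat.of A N')) ⟶ W) := by
  let j : T.obj (op (ModuleCat.of A N')) ≅ T.obj (op (ModuleCat.of A N)) :=
    T.mapIso e.toModuleIso.op
  exact (Iso.homCongr j (Iso.refl W)).symm.subsingleton_congr

include hT in
lemma subsingleton_homT_of_subsingleton (N : Type u) [AddCommGroup N] [Module A N]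
    [Subsingleton N] : Subsingleton (T.obj (op (ModuleCat.of A N)) ⟶ W) := by
  -- `0 → N → N → N → 0` with identity maps is short exact
  have hz : IsZero (ModuleCat.of A N) := ModuleCat.isZero_of_subsingleton _
  obtain ⟨δ, hδ⟩ := hT (ShortComplex.mk (𝟙 (ModuleCat.of A N)) (𝟙 (ModuleCat.of A N))
    (hz.eq_of_src _ _)) (by
      refine ShortComplex.ShortExact.mk ((ShortComplex.moduleCat_exact_iff _).2 ?_)
      intro x _
      exact ⟨x, Subsingleton.elim _ _⟩)
  have hT0 : IsZero (T.obj (op (ModuleCat.of A N))) := by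
    have h1 : T.map (𝟙 (ModuleCat.of A N)).op ≫ T.map (𝟙 (ModuleCat.of A N)).op = 0 :=
      comp_distTriang_mor_zero₁₂ _ hδ
    rw [IsZero.iff_id_eq_zero]
    have h2 : T.map (𝟙 (ModuleCat.of A N)).op = 𝟙 (T.obj (op (ModuleCat.of A N))) := by
      rw [op_id, T.map_id]
    have h3 : 𝟙 (T.obj (op (ModuleCat.of A N))) =
        T.map (𝟙 (ModuleCat.of A N)).op ≫ T.map (𝟙 (ModuleCat.of A N)).op := by
      rw [h2, Category.comp_id]
    exact h3.trans h1
  exact ⟨fun a b => hT0.eq_of_src a b⟩

end Gen

section Van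

variable {A : Type u} [CommRing A] [IsLocalRing A] [IsNoetherianRing A]
variable (T : (ModuleCat.{u} A)ᵒᵖ ⥤ Dual.D A)
  (hT : ∀ (S : ShortComplex (ModuleCat.{u} A)), S.ShortExact →
    ∃ δ : T.obj (op S.X₁) ⟶ (T.obj (op S.X₃))⟦(1 : ℤ)⟧,
      Triangle.mk (T.map S.g.op) (T.map S.f.op) δ ∈ distTriang (Dual.D A))
  (hlin : ∀ (M : ModuleCat.{u} A) (x : A), T.map (x • 𝟙 M).op = x • 𝟙 (T.obj (op M)))
  (W : Dual.D A)

include hT in
/-- dévissage along a prime filtration -/
theorem subsingleton_homT_of_support (N : Type u) [AddCommGroup N] [Module A N]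
    [hN : Module.Finite A N]
    (h : ∀ q ∈ Module.support A N,
      Subsingleton (T.obj (op (ModuleCat.of A (A ⧸ q.asIdeal))) ⟶ W)) :
    Subsingleton (T.obj (op (ModuleCat.of A N)) ⟶ W) := by
  revert h
  induction hN using IsNoetherianRing.induction_on_isQuotientEquivQuotientPrime A with
  | subsingleton N =>
    intro _
    exact subsingleton_homT_of_subsingleton T hT W N
  | quotient N p f =>
    intro h
    have hpN : p ∈ Module.support A N := by
      rw [f.support_eq, Module.support_eq_zeroLocus, Ideal.annihilator_quotient,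
        PrimeSpectrum.mem_zeroLocus]
    exact (subsingleton_homT_congr T W f).2 (h p hpN)
  | exact N₁ N₂ N₃ f g hf hg hfg h₁ h₃ =>
    intro h
    have hs := Module.support_of_exact hfg hf hg
    exact subsingleton_homT_of_exact T hT W f g hf hg hfg
      (h₁ (fun q hq => h q (by rw [hs]; exact Or.inl hq)))
      (h₃ (fun q hq => h q (by rw [hs]; exact Or.inr hq)))

include hT hlin in
/-- **vanishing by Nakayama**: if `Hom(T κ, W) = 0` and all `Hom(T M, W)` are finite modules, then
`Hom(T M, W) = 0` for all finite modules `M` -/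
theorem subsingleton_homT_of_residue
    (hk : Subsingleton (T.obj (op (ModuleCat.of A (A ⧸ IsLocalRing.maximalIdeal A))) ⟶ W))
    (hfin : ∀ (M : Type u) [AddCommGroup M] [Module A M] [Module.Finite A M],
      Module.Finite A (T.obj (op (ModuleCat.of A M)) ⟶ W))
    (M : Type u) [AddCommGroup M] [Module A M] [Module.Finite A M] :
    Subsingleton (T.obj (op (ModuleCat.of A M)) ⟶ W) := by
  haveI : WellFoundedGT (PrimeSpectrum A) :=
    StrictMono.wellFoundedGT (f := fun q : PrimeSpectrum A => q.asIdeal)
      (fun x y h => (PrimeSpectrum.asIdeal_lt_asIdeal x y).2 h)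
  have key : ∀ p : PrimeSpectrum A,
      Subsingleton (T.obj (op (ModuleCat.of A (A ⧸ p.asIdeal))) ⟶ W) := by
    intro p
    induction p using WellFoundedGT.induction with
    | ind p ih =>
      have hle_m : p ≤ IsLocalRing.closedPoint A := IsLocalRing.le_maximalIdeal p.2.ne_top
      rcases hle_m.eq_or_lt with rfl | hlt
      · exact hk
      · have hltI : p.asIdeal < IsLocalRing.maximalIdeal A := hlt
        obtain ⟨x, hxm, hxp⟩ := SetLike.exists_of_lt hltI
        have hx : Function.Injective (LinearMap.lsmul A (A ⧸ p.asIdeal) x) := by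
          intro y z hyz
          obtain ⟨y', rfl⟩ := Ideal.Quotient.mk_surjective y
          obtain ⟨z', rfl⟩ := Ideal.Quotient.mk_surjective z
          have h1 : Ideal.Quotient.mk p.asIdeal (x * y') = Ideal.Quotient.mk p.asIdeal (x * z') :=
            hyz
          rw [Ideal.Quotient.eq] at h1 ⊢
          have h2 : x * (y' - z') ∈ p.asIdeal := by rw [mul_sub]; exact h1
          exact (p.2.mem_or_mem h2).resolve_left hxp
        -- the quotient has support above `p`
        have hsub : Subsingleton (T.obj (op (ModuleCat.of A ((A ⧸ p.asIdeal) ⧸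
            LinearMap.range (LinearMap.lsmul A (A ⧸ p.asIdeal) x)))) ⟶ W) := by
          refine subsingleton_homT_of_support T hT W _ (fun q hq => ih q ?_)
          have hq1 : q ∈ Module.support A (A ⧸ p.asIdeal) :=
            Module.support_subset_of_surjective _ (Submodule.mkQ_surjective _) hq
          rw [Module.support_eq_zeroLocus, Ideal.annihilator_quotient,
            PrimeSpectrum.mem_zeroLocus] at hq1
          have hpq : p ≤ q := hq1
          have hxq : x ∈ q.asIdeal := by
            rw [Module.mem_support_iff_of_finite] at hq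
            refine hq (Module.mem_annihilator.2 (fun y => ?_))
            obtain ⟨z, rfl⟩ := Submodule.mkQ_surjective _ y
            rw [← map_smul, Submodule.mkQ_apply, Submodule.Quotient.mk_eq_zero]
            exact ⟨z, rfl⟩
          have hne : p ≠ q := by
            rintro rfl
            exact hxp hxq
          exact lt_of_le_of_ne hpq hne
        -- the triangle of multiplication by `x`
        obtain ⟨δ, hδ⟩ := hT _ (shortExact_of_linear (LinearMap.lsmul A (A ⧸ p.asIdeal) x)
          (LinearMap.range (LinearMap.lsmul A (A ⧸ p.asIdeal) x)).mkQ hx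
          (Submodule.mkQ_surjective _) (LinearMap.exact_map_mkQ_range _))
        have hmapx : T.map (ModuleCat.ofHom (LinearMap.lsmul A (A ⧸ p.asIdeal) x)).op =
            x • 𝟙 (T.obj (op (ModuleCat.of A (A ⧸ p.asIdeal)))) := by
          rw [← hlin]
          congr 2
        have hsurj : ∀ e : T.obj (op (ModuleCat.of A (A ⧸ p.asIdeal))) ⟶ W,
            ∃ e' : T.obj (op (ModuleCat.of A (A ⧸ p.asIdeal))) ⟶ W, x • e' = e := by
          intro e
          obtain ⟨(w : T.obj (op (ModuleCat.of A (A ⧸ p.asIdeal))) ⟶ W), hw⟩ :=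
            Triangle.yoneda_exact₂ _ hδ e (hsub.elim _ _)
          refine ⟨w, ?_⟩
          rw [hw]
          change x • w = T.map (ModuleCat.ofHom (LinearMap.lsmul A (A ⧸ p.asIdeal) x)).op ≫ w
          rw [hmapx, Linear.smul_comp, Category.id_comp]
        haveI := hfin (A ⧸ p.asIdeal)
        exact subsingleton_of_smul_surjective x hxm hsurj
  exact subsingleton_homT_of_support T hT W M (fun q _ => key q)

end Van

end Groth.Agent.Lib.Helper8.Bidual
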