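import Mathlib
import Groth.Agent.Lib.Helper8.Uniq1
import Groth.Agent.Lib.Helper8.Dim3

/-! # Helper8 — Uniq2: towards uniqueness of dualizing complexes over a local ring: linearity of
`M ↦ RHom(M, I)` (`TI_map_smul`), `H^q(RHom(M, I)) ≃ₗ Hom_D(M[0], ω[q])` (`homologyTIEquiv`), finiteness of
`Hom(RHom(M, ω), W)` (`finite_hom_TI`), `Hom(κ, ω[0]) ≃ₗ κ` and `RHom(κ, ω) ≅ κ[0]` for `ω` normalized
(`nonempty_hom_residue_equiv`, `TI_residue_iso`). -/

set_option autoImplicit false

universe u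

open CategoryTheory CategoryTheory.Limits CategoryTheory.Pretriangulated Opposite DerivedCategory

attribute [local instance] HasDerivedCategory.standard

namespace Groth.Agent.Lib.Helper8.Bidual

open Groth.Agent.Lib.Helper8

section Lin

variable {A : Type u} [CommRing A]

lemma TI_map_smul (I : DRing.Cx A) (M : ModuleCat.{u} A) (x : A) :
    (TI I).map (x • 𝟙 M).op = x • 𝟙 ((TI I).obj (op M)) := by
  have h1 : (homF I).map (x • 𝟙 M).op = x • 𝟙 ((homF I).obj (op M)) := by
    ext n (g : M ⟶ I.X n)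
    change (x • 𝟙 M) ≫ g = x • g
    rw [Linear.smul_comp, Category.id_comp]
  change Q.map ((homF I).map (x • 𝟙 M).op) = _
  rw [h1, Functor.map_smul, CategoryTheory.Functor.map_id]
  rfl

/-- `H^q(RHom(M, I)) ≃ Hom_D(M[0], ω[q])` -/
noncomputable def homologyTIEquiv (I : DRing.Cx A) [I.IsKInjective] {ω : Dual.D A} (e : Q.obj I ≅ ω)
    (M : Type u) [AddCommGroup M] [Module A M] (q : ℤ) :
    Dual.HD A ((TI I).obj (op (ModuleCat.of A M))) q ≃ₗ[A] (Dual.inD A M ⟶ ω⟦q⟧) :=
  (homologyHomFEquiv I (ModuleCat.of A M) q).trans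
    ((EFB.precompEquivLin ((singleFunctorIsoCompQ (ModuleCat.{u} A) 0).app (ModuleCat.of A M)) _).trans
      (postcompEquivLin ((shiftFunctor (Dual.D A) q).mapIso e) _))

end Lin

section Setup

variable {A : Type u} [CommRing A] [IsNoetherianRing A]

/-- finiteness of `Hom(RHom(M, ω), W)` -/
lemma finite_hom_TI (ω : Dual.D A) (hω : Dual.IsDualizing A ω) (I : DRing.Cx A) [I.IsKInjective]
    (e : Q.obj I ≅ ω) (W : Dual.D A) (hW : ∃ c : ℤ, W.IsGE c)
    (hWfin : ∀ i : ℤ, Module.Finite A (Dual.HD A W i))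
    (M : Type u) [AddCommGroup M] [Module A M] [Module.Finite A M] :
    Module.Finite A ((TI I).obj (op (ModuleCat.of A M)) ⟶ W) := by
  obtain ⟨a, b, hab⟩ := hω.finite_injective_dimension
  refine RAdj.finite_hom _ W ⟨b, fun i hi => ?_⟩ (fun i => ?_) hW hWfin
  · haveI := hab M i (Or.inr hi)
    exact (homologyTIEquiv I e M i).toEquiv.subsingleton
  · haveI := finite_hom_inD_of_isDualizing ω hω M i
    exact Module.Finite.equiv (homologyTIEquiv I e M i).symm

variable [IsLocalRing A]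

/-- for a normalized dualizing complex, `Hom(κ, ω[0]) ≃ κ` -/
lemma nonempty_hom_residue_equiv (ω : Dual.D A) (hω : Dual.IsDualizing A ω)
    (hn : Dual.IsNormalized A ω) :
    Nonempty ((Dual.inD A (A ⧸ IsLocalRing.maximalIdeal A) ⟶ ω⟦(0 : ℤ)⟧) ≃ₗ[A]
      (A ⧸ IsLocalRing.maximalIdeal A)) := by
  obtain ⟨n, h1, ⟨h2⟩⟩ := ext_field_single_degree (A := A) (B := IsLocalRing.ResidueField A) ω hω
  let eM : IsLocalRing.ResidueField A ≃ₗ[A] BA (algebraMap A (IsLocalRing.ResidueField A)) :=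
    Groth.Agent.Lib.Helper16.FlatBC.bEquiv (A := A) (B := IsLocalRing.ResidueField A)
  let eM' : (A ⧸ IsLocalRing.maximalIdeal A) ≃ₗ[A]
      BA (algebraMap A (IsLocalRing.ResidueField A)) := (EFB.residueEquiv A).trans eM
  let j : Dual.inD A (A ⧸ IsLocalRing.maximalIdeal A) ≅
      Dual.inD A (BA (algebraMap A (IsLocalRing.ResidueField A))) :=
    (singleFunctor (ModuleCat.{u} A) 0).mapIso eM'.toModuleIso
  have hn0 : n = 0 := by
    by_contra hne
    haveI := hn n hne
    let j' : Dual.inD A (IsLocalRing.ResidueField A) ≅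
        Dual.inD A (BA (algebraMap A (IsLocalRing.ResidueField A))) :=
      (singleFunctor (ModuleCat.{u} A) 0).mapIso eM.toModuleIso
    haveI : Subsingleton (Dual.inD A (BA (algebraMap A (IsLocalRing.ResidueField A))) ⟶ ω⟦n⟧) :=
      (EFB.precompEquivLin j' (ω⟦n⟧)).toEquiv.subsingleton
    haveI : Subsingleton (BA (algebraMap A (IsLocalRing.ResidueField A))) :=
      h2.symm.toEquiv.subsingleton
    haveI : Subsingleton (IsLocalRing.ResidueField A) := eM.toEquiv.subsingleton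
    exact not_subsingleton (IsLocalRing.ResidueField A) inferInstance
  subst hn0
  exact ⟨(EFB.precompEquivLin j.symm (ω⟦(0 : ℤ)⟧)).trans (h2.trans eM'.symm)⟩

/-- `RHom(κ, ω) ≅ κ[0]` for a normalized dualizing complex -/
lemma TI_residue_iso (ω : Dual.D A) (hω : Dual.IsDualizing A ω) (hn : Dual.IsNormalized A ω)
    (I : DRing.Cx A) [I.IsKInjective] (e : Q.obj I ≅ ω) :
    Nonempty ((TI I).obj (op (ModuleCat.of A (A ⧸ IsLocalRing.maximalIdeal A))) ≅
      Dual.inD A (A ⧸ IsLocalRing.maximalIdeal A)) := by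
  let X := (TI I).obj (op (ModuleCat.of A (A ⧸ IsLocalRing.maximalIdeal A)))
  have hz : ∀ q : ℤ, q ≠ 0 → IsZero ((homologyFunctor (ModuleCat.{u} A) q).obj X) := by
    intro q hq
    haveI := hn q hq
    haveI : Subsingleton (Dual.inD A (A ⧸ IsLocalRing.maximalIdeal A) ⟶ ω⟦q⟧) :=
      (subsingleton_hom_congr (ω⟦q⟧) (EFB.residueEquiv A)).2 inferInstance
    haveI : Subsingleton ((homologyFunctor (ModuleCat.{u} A) q).obj X) :=
      (homologyTIEquiv I e (A ⧸ IsLocalRing.maximalIdeal A) q).toEquiv.subsingleton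
    exact ModuleCat.isZero_of_subsingleton _
  haveI : X.IsGE 0 := (isGE_iff X 0).2 (fun i hi => hz i (by omega))
  haveI : X.IsLE 0 := (isLE_iff X 0).2 (fun i hi => hz i (by omega))
  obtain ⟨e1⟩ := Groth.Agent.Lib.Helper16.DerT.nonempty_iso_single_homology X 0
  obtain ⟨h2⟩ := nonempty_hom_residue_equiv ω hω hn
  let l : ((homologyFunctor (ModuleCat.{u} A) 0).obj X) ≃ₗ[A]
      (A ⧸ IsLocalRing.maximalIdeal A) :=
    (homologyTIEquiv I e (A ⧸ IsLocalRing.maximalIdeal A) 0).trans h2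
  exact ⟨e1 ≪≫ (singleFunctor (ModuleCat.{u} A) 0).mapIso l.toModuleIso⟩

end Setup

end Groth.Agent.Lib.Helper8.Bidual
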