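import Mathlib
import Groth.Agent.Lib.Helper8.Uniq2
import Groth.Agent.Lib.Helper8.Sk5
import Groth.Agent.Lib.Helper8.DNak2
import Groth.Agent.Lib.helper11.ConeBasic

/-! # Helper8 — Uniq3: **uniqueness of dualizing complexes over a noetherian local ring** (S1747):
two normalized dualizing complexes are isomorphic (`nonempty_iso_of_normalized`), hence any two
dualizing complexes differ by a shift (`exists_iso_shift_of_isDualizing`). Tools: vanishing of maps into the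
cone (`hom_obj₃_eq_zero`), shift adjunction on Hom (`shiftHomEquiv`, `subsingleton_shift_hom(_shift)`),
Schur's lemma on `Hom(κ, -)` (`postcomp_bijective_of_ne_zero`), `isIso_of_bijective_residue`. -/

set_option autoImplicit false

universe u v' u'

open CategoryTheory CategoryTheory.Limits CategoryTheory.Pretriangulated Opposite DerivedCategory

attribute [local instance] HasDerivedCategory.standard

namespace Groth.Agent.Lib.Helper8.Bidual

open Groth.Agent.Lib.Helper8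

section Tri

variable {C : Type u'} [Category.{v'} C] [Preadditive C] [HasZeroObject C] [HasShift C ℤ]
  [∀ n : ℤ, (shiftFunctor C n).Additive] [Pretriangulated C]

/-- maps to the third vertex of a distinguished triangle vanish as soon as `Hom(Y, mor₁)` is
surjective and `Hom(Y, mor₁[1])` is injective -/
lemma hom_obj₃_eq_zero (T : Triangle C) (hT : T ∈ distTriang C) (Y : C)
    (ha : ∀ g : Y ⟶ T.obj₂, ∃ g' : Y ⟶ T.obj₁, g = g' ≫ T.mor₁)
    (hb : ∀ h : Y ⟶ T.obj₁⟦(1 : ℤ)⟧, h ≫ T.mor₁⟦(1 : ℤ)⟧' = 0 → h = 0)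
    (f : Y ⟶ T.obj₃) : f = 0 := by
  have h1 : f ≫ T.mor₃ = 0 := hb _ (by
    rw [Category.assoc, comp_distTriang_mor_zero₃₁ T hT]
    exact comp_zero)
  obtain ⟨g, hg⟩ := Triangle.coyoneda_exact₃ T hT f h1
  obtain ⟨g', hg'⟩ := ha g
  rw [hg, hg', Category.assoc, comp_distTriang_mor_zero₁₂ T hT]
  exact comp_zero

/-- `Hom(K[a], Y) ≃ Hom(K, Y[-a])` -/
noncomputable def shiftHomEquiv (K Y : C) (a b : ℤ) (h : a + b = 0) :
    (K⟦a⟧ ⟶ Y) ≃ (K ⟶ Y⟦b⟧) :=
  (shiftEquiv' C a b h).toAdjunction.homEquiv K Y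

lemma subsingleton_shift_hom (K Y : C) (a b : ℤ) (h : a + b = 0)
    (hs : Subsingleton (K ⟶ Y⟦b⟧)) : Subsingleton (K⟦a⟧ ⟶ Y) :=
  (shiftHomEquiv K Y a b h).subsingleton

lemma subsingleton_shift_hom_shift (K Y : C) (a c b : ℤ) (h : a + b = c)
    (hs : Subsingleton (K ⟶ Y⟦b⟧)) : Subsingleton (K⟦a⟧ ⟶ Y⟦c⟧) := by
  refine subsingleton_shift_hom K (Y⟦c⟧) a (-a) (by omega) ?_
  exact (Iso.homCongr (Iso.refl K)
    ((shiftFunctorAdd' C c (-a) b (by omega)).app Y).symm).subsingleton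

end Tri

section Main

variable {A : Type u} [CommRing A] [IsLocalRing A] [IsNoetherianRing A]

omit [IsNoetherianRing A] in
lemma isSimpleModule_residue : IsSimpleModule A (A ⧸ IsLocalRing.maximalIdeal A) :=
  isSimpleModule_iff_isCoatom.2 (Ideal.isMaximal_def.1 inferInstance)

omit [IsNoetherianRing A] in
/-- a map between objects whose `Hom(K, -)` is the residue field induces a bijection on
`Hom(K, -)` as soon as it is nonzero there -/
lemma postcomp_bijective_of_ne_zero {K X Y : Dual.D A} (χ : X ⟶ Y)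
    (eX : (K ⟶ X) ≃ₗ[A] (A ⧸ IsLocalRing.maximalIdeal A))
    (eY : (K ⟶ Y) ≃ₗ[A] (A ⧸ IsLocalRing.maximalIdeal A))
    (θ : K ⟶ X) (h : θ ≫ χ ≠ 0) : Function.Bijective (fun g : K ⟶ X => g ≫ χ) := by
  haveI := isSimpleModule_residue (A := A)
  haveI : IsSimpleModule A (K ⟶ X) := IsSimpleModule.congr eX
  haveI : IsSimpleModule A (K ⟶ Y) := IsSimpleModule.congr eY
  have h1 : Linear.rightComp A K χ ≠ 0 := by
    intro h0
    exact h (by
      have := congrArg (fun l => l θ) h0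
      exact this)
  exact LinearMap.bijective_of_ne_zero h1

/-- a distinguished triangle on a map `χ : ω ⟶ ω'` of normalized dualizing complexes which is
bijective on `Hom(κ, -)` has vanishing cone -/
lemma isIso_of_bijective_residue (ω ω' : Dual.D A) (hω : Dual.IsDualizing A ω)
    (hω' : Dual.IsDualizing A ω')
    (hn : ∀ i : ℤ, i ≠ 0 → Subsingleton (Dual.inD A (A ⧸ IsLocalRing.maximalIdeal A) ⟶ ω⟦i⟧))
    (hn' : ∀ i : ℤ, i ≠ 0 → Subsingleton (Dual.inD A (A ⧸ IsLocalRing.maximalIdeal A) ⟶ ω'⟦i⟧))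
    (χ : ω ⟶ ω')
    (hbij : Function.Bijective
      (fun g : Dual.inD A (A ⧸ IsLocalRing.maximalIdeal A) ⟶ ω => g ≫ χ)) : IsIso χ := by
  obtain ⟨C, v, w, hT⟩ := distinguished_cocone_triangle χ
  set k : Dual.D A := Dual.inD A (A ⧸ IsLocalRing.maximalIdeal A) with hk
  -- maps from shifts of the residue field to the cone vanish
  have key : ∀ (j : ℤ) (f : k⟦j⟧ ⟶ C), f = 0 := by
    intro j f
    refine hom_obj₃_eq_zero (Triangle.mk χ v w) hT (k⟦j⟧) ?_ ?_ f
    · intro (g : k⟦j⟧ ⟶ ω')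
      by_cases hj : j = 0
      · subst hj
        let z : k⟦(0 : ℤ)⟧ ≅ k := (shiftFunctorZero (Dual.D A) ℤ).app k
        obtain ⟨g'', hg''⟩ := hbij.2 (z.inv ≫ g)
        refine ⟨z.hom ≫ g'', ?_⟩
        change g = (z.hom ≫ g'') ≫ χ
        have hg3 : g'' ≫ χ = z.inv ≫ g := hg''
        rw [Category.assoc, hg3, Iso.hom_inv_id_assoc]
      · have hs : Subsingleton (k⟦j⟧ ⟶ ω') :=
          subsingleton_shift_hom k ω' j (-j) (by omega) (hn' (-j) (by omega))
        exact ⟨0, hs.elim _ _⟩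
    · intro (h : k⟦j⟧ ⟶ ω⟦(1 : ℤ)⟧) (hh : h ≫ χ⟦(1 : ℤ)⟧' = 0)
      by_cases hj : j = 1
      · subst hj
        obtain ⟨h₀, rfl⟩ := (shiftFunctor (Dual.D A) (1 : ℤ)).map_surjective h
        have h2 : h₀ ≫ χ = 0 := by
          apply (shiftFunctor (Dual.D A) (1 : ℤ)).map_injective
          rw [Functor.map_comp, hh, Functor.map_zero]
        have h3 : h₀ = 0 := hbij.1 (by
          change h₀ ≫ χ = 0 ≫ χ
          rw [h2]
          exact zero_comp.symm)
        rw [h3]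
        exact Functor.map_zero _ _ _
      · have hs : Subsingleton (k⟦j⟧ ⟶ ω⟦(1 : ℤ)⟧) :=
          subsingleton_shift_hom_shift k ω j 1 (1 - j) (by omega) (hn (1 - j) (by omega))
        exact hs.elim _ _
  -- bounds and finiteness for the cone
  obtain ⟨a, ha⟩ := exists_isGE_of_isDualizing ω hω
  obtain ⟨a', ha'⟩ := exists_isGE_of_isDualizing ω' hω'
  let t := DerivedCategory.TStructure.t (C := ModuleCat.{u} A)
  have hC : C.IsGE (min a' (a - 1)) := by
    have h1 : t.IsGE ω' (min a' (a - 1)) := t.isGE_of_ge _ _ a' (min_le_left _ _)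
    have h3 : t.IsGE (ω⟦(1 : ℤ)⟧) (min a' (a - 1)) := by
      haveI : t.IsGE (ω⟦(1 : ℤ)⟧) (a - 1) := t.isGE_shift ω a 1 (a - 1) (by omega)
      exact t.isGE_of_ge _ _ (a - 1) (min_le_right _ _)
    exact t.isGE₂ _ (rot_of_distTriang _ hT) _ h1 h3
  have hfin : ∀ i : ℤ, Module.Finite A (Dual.HD A C i) := fun i =>
    Groth.Agent.Lib.helper11.ConeBasic.finite_of_exact _ _ _
      (HomologySequence.exact₃ _ hT i (i + 1) rfl) (hω'.finite_cohomology i)
      (hω.finite_cohomology (i + 1))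
  have hmax : ∀ (m : Ideal A) [m.IsMaximal] (i : ℤ), min a' (a - 1) - 1 < i →
      Subsingleton (Dual.inD A (A ⧸ m) ⟶ C⟦i⟧) := by
    intro m hm i _
    obtain rfl := IsLocalRing.eq_maximalIdeal hm
    have e := shiftHomEquiv k C (-i) i (by omega)
    exact ⟨fun x y => e.symm.injective ((key (-i) _).trans (key (-i) _).symm)⟩
  have hall := EFB.hinj_of_residue C (min a' (a - 1) - 1) (min a' (a - 1)) hC hfin hmax
  have hC0 : IsZero C := by
    apply DNak.isZero_of_forall_subsingleton_HD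
    intro i
    haveI := hall A i (by omega)
    exact (homUnitShiftLinearEquiv C i).symm.toEquiv.subsingleton
  exact (Triangle.isZero₃_iff_isIso₁ _ hT).1 hC0

/-- **uniqueness of normalized dualizing complexes over a noetherian local ring** -/
theorem nonempty_iso_of_normalized (ω ω' : Dual.D A) (hω : Dual.IsDualizing A ω)
    (hω' : Dual.IsDualizing A ω') (hn : Dual.IsNormalized A ω) (hn' : Dual.IsNormalized A ω') :
    Nonempty (ω ≅ ω') := by
  obtain ⟨I, lo, hi, hI, hab, ⟨e⟩⟩ := exists_injective_model ω hω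
  haveI : I.IsKInjective := IAmp.isKInjective_of_data I lo (fun n hn => hab n (Or.inl hn)) hI
  set k : Dual.D A := Dual.inD A (A ⧸ IsLocalRing.maximalIdeal A) with hk
  have hnk : ∀ i : ℤ, i ≠ 0 → Subsingleton (k ⟶ ω⟦i⟧) := fun i hi => by
    haveI := hn i hi
    exact (subsingleton_hom_congr (ω⟦i⟧) (EFB.residueEquiv A)).2 inferInstance
  have hnk' : ∀ i : ℤ, i ≠ 0 → Subsingleton (k ⟶ ω'⟦i⟧) := fun i hi => by
    haveI := hn' i hi
    exact (subsingleton_hom_congr (ω'⟦i⟧) (EFB.residueEquiv A)).2 inferInstance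
  -- `Hom(RHom(m, ω), ω'[1]) = 0`
  have hω'1 := isDualizing_shift ω' hω' 1
  obtain ⟨jk⟩ := TI_residue_iso ω hω hn I e
  have hkk : Subsingleton ((TI I).obj (op (ModuleCat.of A (A ⧸ IsLocalRing.maximalIdeal A))) ⟶
      ω'⟦(1 : ℤ)⟧) := by
    haveI := hnk' 1 one_ne_zero
    exact (Iso.homCongr jk (Iso.refl (ω'⟦(1 : ℤ)⟧))).subsingleton
  have h5 : Subsingleton ((TI I).obj (op (ModuleCat.of A (IsLocalRing.maximalIdeal A))) ⟶
      ω'⟦(1 : ℤ)⟧) :=
    subsingleton_homT_of_residue (TI I) (TI_triangle I hI) (fun M x => TI_map_smul I M x)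
      (ω'⟦(1 : ℤ)⟧) hkk
      (fun M _ _ _ => finite_hom_TI ω hω I e _ (exists_isGE_of_isDualizing _ hω'1)
        hω'1.finite_cohomology M) (IsLocalRing.maximalIdeal A)
  -- a nonzero map `κ ⟶ ω'`
  obtain ⟨l'⟩ := nonempty_hom_residue_equiv ω' hω' hn'
  obtain ⟨l⟩ := nonempty_hom_residue_equiv ω hω hn
  let z' : ω'⟦(0 : ℤ)⟧ ≅ ω' := (shiftFunctorZero (Dual.D A) ℤ).app ω'
  let z : ω⟦(0 : ℤ)⟧ ≅ ω := (shiftFunctorZero (Dual.D A) ℤ).app ω
  let eY : (k ⟶ ω') ≃ₗ[A] (A ⧸ IsLocalRing.maximalIdeal A) :=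
    (postcompEquivLin z'.symm k).trans l'
  let eX : (k ⟶ ω) ≃ₗ[A] (A ⧸ IsLocalRing.maximalIdeal A) :=
    (postcompEquivLin z.symm k).trans l
  let φ1 : k ⟶ ω' := eY.symm 1
  have hφ1 : φ1 ≠ 0 := by
    intro h0
    have h1 : eY φ1 = 1 := eY.apply_symm_apply 1
    rw [h0, map_zero] at h1
    exact zero_ne_one h1
  -- extend it over `RHom(A, ω) = ω`
  have hS := shortExact_of_linear (Submodule.subtype (IsLocalRing.maximalIdeal A))
    (Submodule.mkQ (IsLocalRing.maximalIdeal A)) (Submodule.injective_subtype _)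
    (Submodule.mkQ_surjective _) (LinearMap.exact_subtype_mkQ _)
  obtain ⟨δ, hδ⟩ := TI_triangle I hI _ hS
  obtain ⟨χ, hχ⟩ := yoneda_exact₁' _ hδ (jk.hom ≫ φ1) (h5.elim _ _)
  let e₂ : (TI I).obj (op (ModuleCat.of A A)) ≅ ω := Q.mapIso (evOne I) ≪≫ e
  let χ' : ω ⟶ ω' := e₂.inv ≫ χ
  let θ' : k ⟶ ω := jk.inv ≫
    (TI I).map (ModuleCat.ofHom (Submodule.mkQ (IsLocalRing.maximalIdeal A))).op ≫ e₂.hom
  have hχ2 : jk.hom ≫ φ1 =
      (TI I).map (ModuleCat.ofHom (Submodule.mkQ (IsLocalRing.maximalIdeal A))).op ≫ χ := hχ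
  have hθ : θ' ≫ χ' = φ1 := by
    change (jk.inv ≫ (TI I).map
      (ModuleCat.ofHom (Submodule.mkQ (IsLocalRing.maximalIdeal A))).op ≫ e₂.hom) ≫ e₂.inv ≫ χ = φ1
    rw [Category.assoc, Category.assoc, Iso.hom_inv_id_assoc, ← hχ2, Iso.inv_hom_id_assoc]
  have hbij := postcomp_bijective_of_ne_zero χ' eX eY θ' (by rw [hθ]; exact hφ1)
  haveI := isIso_of_bijective_residue ω ω' hω hω' hnk hnk' χ' hbij
  exact ⟨asIso χ'⟩

/-- **uniqueness of dualizing complexes over a noetherian local ring up to shift** -/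
theorem exists_iso_shift_of_isDualizing (ω ω' : Dual.D A) (hω : Dual.IsDualizing A ω)
    (hω' : Dual.IsDualizing A ω') : ∃ n : ℤ, Nonempty (ω' ≅ ω⟦n⟧) := by
  obtain ⟨s, hs⟩ := exists_isNormalized_shift ω hω
  obtain ⟨s', hs'⟩ := exists_isNormalized_shift ω' hω'
  obtain ⟨j⟩ := nonempty_iso_of_normalized (ω⟦s⟧) (ω'⟦s'⟧) (isDualizing_shift ω hω s)
    (isDualizing_shift ω' hω' s') hs hs'
  refine ⟨s - s', ⟨?_⟩⟩
  exact ((shiftFunctorCompIsoId (Dual.D A) s' (-s') (by omega)).app ω').symm ≪≫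
    (shiftFunctor (Dual.D A) (-s')).mapIso j.symm ≪≫
    ((shiftFunctorAdd' (Dual.D A) s (-s') (s - s') (by omega)).app ω).symm

end Main

end Groth.Agent.Lib.Helper8.Bidual
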