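import Mathlib
import Groth.Agent.Lib.Helper8.Uniq3
import Groth.Agent.Lib.Helper8.Gor1
import Groth.Agent.Lib.Helper8.Dim1

/-! # Helper8 — Gor2: **the Gorenstein locus of a noetherian ring with a dualizing complex is open** (S0373).
* `isGorensteinLocalRing_iff_of_isDualizing` : a noetherian local ring with dualizing complex `Ω` is Gorenstein iff
  `Ω` has exactly one nonzero cohomology module and that module is `≃ R` (uses uniqueness, `Uniq3`);
* `nonempty_HD_ε_atPrime_equiv` : `H^i(ω_p) ≃ H^i(ω)_p`;
* `mem_freeLocus_and_rank_one_iff`, `isOpen_free_rank_one` : the locus where a finite module is free of rank one;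
* `isOpen_gorensteinLocus`. -/

set_option autoImplicit false

universe u

open CategoryTheory CategoryTheory.Limits CategoryTheory.Pretriangulated Opposite DerivedCategory
  TensorProduct

attribute [local instance] HasDerivedCategory.standard

namespace Groth.Agent.Lib.Helper8.Bidual

open Groth.Agent.Lib.Helper8 Groth.Agent.Lib.Helper16.FlatBC

section Local

variable {R : Type u} [CommRing R]

/-- `H^0(R[0]) ≃ R` -/
noncomputable def HDinDSelfEquiv : Dual.HD R (Dual.inD R R) 0 ≃ₗ[R] R :=
  ((singleFunctorCompHomologyFunctorIso (ModuleCat.{u} R) 0).app (ModuleCat.of R R)).toLinearEquiv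

/-- transport along an equality of degrees -/
noncomputable def HDCongr (K : Dual.D R) {i j : ℤ} (h : i = j) :
    Dual.HD R K i ≃ₗ[R] Dual.HD R K j := by
  subst h
  exact LinearEquiv.refl R _

variable [IsLocalRing R] [IsNoetherianRing R]

/-- a noetherian local ring with a dualizing complex `Ω` is Gorenstein iff `Ω` has exactly one
nonzero cohomology module, which is free of rank one -/
theorem isGorensteinLocalRing_iff_of_isDualizing (Ω : Dual.D R) (hΩ : Dual.IsDualizing R Ω) :
    LocCoh.IsGorensteinLocalRing R ↔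
      ∃ n : ℤ, (∀ i : ℤ, i ≠ n → Subsingleton (Dual.HD R Ω i)) ∧
        Nonempty (Dual.HD R Ω n ≃ₗ[R] R) := by
  rw [isGorensteinLocalRing_iff_isDualizing_self]
  constructor
  · intro hD
    obtain ⟨m, ⟨j⟩⟩ := exists_iso_shift_of_isDualizing (Dual.inD R R) Ω hD hΩ
    have e : ∀ i : ℤ, Dual.HD R Ω i ≃ₗ[R] Dual.HD R (Dual.inD R R) (m + i) := fun i =>
      (((homologyFunctor (ModuleCat.{u} R) i).mapIso j) ≪≫
        RAdj.HDShiftIso (Dual.inD R R) m i).toLinearEquiv
    refine ⟨-m, fun i hi => ?_, ⟨?_⟩⟩
    · haveI : Subsingleton (Dual.HD R (Dual.inD R R) (m + i)) :=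
        ModuleCat.subsingleton_of_isZero (isZero_HD_inD (A := R) R (m + i) (by omega))
      exact (e i).toEquiv.subsingleton
    · exact (e (-m)).trans ((HDCongr (Dual.inD R R) (by omega)).trans HDinDSelfEquiv)
  · rintro ⟨n, hz, ⟨l⟩⟩
    let X : Dual.D R := Ω⟦n⟧
    have hX : Dual.IsDualizing R X := isDualizing_shift Ω hΩ n
    have hzX : ∀ q : ℤ, q ≠ 0 → IsZero ((homologyFunctor (ModuleCat.{u} R) q).obj X) := by
      intro q hq
      haveI := hz (n + q) (by omega)
      exact (ModuleCat.isZero_of_subsingleton _).of_iso (RAdj.HDShiftIso Ω n q)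
    haveI : X.IsGE 0 := (isGE_iff X 0).2 (fun i hi => hzX i (by omega))
    haveI : X.IsLE 0 := (isLE_iff X 0).2 (fun i hi => hzX i (by omega))
    obtain ⟨e1⟩ := Groth.Agent.Lib.Helper16.DerT.nonempty_iso_single_homology X 0
    let l' : ((homologyFunctor (ModuleCat.{u} R) 0).obj X) ≃ₗ[R] R :=
      (RAdj.HDShiftIso Ω n 0).toLinearEquiv.trans ((HDCongr Ω (by omega)).trans l)
    exact EFB.isDualizing_of_iso (e1 ≪≫ (singleFunctor (ModuleCat.{u} R) 0).mapIso l'.toModuleIso) hX

end Local

section Global

variable {A : Type u} [CommRing A] [IsNoetherianRing A]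

/-- cohomology of the localization is the localized cohomology -/
lemma nonempty_HD_ε_atPrime_equiv (p : Ideal A) [p.IsPrime] (K : Dual.D A) (i : ℤ) :
    Nonempty (Dual.HD (Localization.AtPrime p)
      ((ε (algebraMap A (Localization.AtPrime p))).obj K) i ≃ₗ[Localization.AtPrime p]
        LocalizedModule p.primeCompl (Dual.HD A K i)) := by
  obtain ⟨e1⟩ := EFB.nonempty_HD_ε_equiv (B := Localization.AtPrime p) K i
  exact ⟨e1.trans (IsLocalizedModule.isBaseChange p.primeCompl (Localization.AtPrime p)
    (LocalizedModule.mkLinearMap p.primeCompl (Dual.HD A K i))).equiv⟩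

omit [IsNoetherianRing A] in
/-- free of rank one at a prime -/
lemma mem_freeLocus_and_rank_one_iff (M : Type u) [AddCommGroup M] [Module A M]
    [Module.Finite A M] (p : PrimeSpectrum A) :
    (p ∈ Module.freeLocus A M ∧ Module.rankAtStalk M p = 1) ↔
      Nonempty (LocalizedModule p.asIdeal.primeCompl M ≃ₗ[Localization.AtPrime p.asIdeal]
        Localization.AtPrime p.asIdeal) := by
  constructor
  · rintro ⟨h1, h2⟩
    haveI : Module.Free (Localization.AtPrime p.asIdeal)
      (LocalizedModule p.asIdeal.primeCompl M) := h1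
    have h3 : Module.finrank (Localization.AtPrime p.asIdeal)
        (LocalizedModule p.asIdeal.primeCompl M) =
        Module.finrank (Localization.AtPrime p.asIdeal) (Localization.AtPrime p.asIdeal) := by
      rw [Module.finrank_self]
      exact h2
    exact FiniteDimensional.nonempty_linearEquiv_of_finrank_eq h3
  · rintro ⟨e⟩
    refine ⟨Module.Free.of_equiv e.symm, ?_⟩
    change Module.finrank (Localization.AtPrime p.asIdeal)
      (LocalizedModule p.asIdeal.primeCompl M) = 1
    rw [e.finrank_eq, Module.finrank_self]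

/-- the locus where a finite module over a noetherian ring is free of rank one is open -/
lemma isOpen_free_rank_one (M : Type u) [AddCommGroup M] [Module A M] [Module.Finite A M] :
    IsOpen {p : PrimeSpectrum A | p ∈ Module.freeLocus A M ∧ Module.rankAtStalk M p = 1} := by
  haveI : Module.FinitePresentation A M := Module.finitePresentation_of_finite A M
  have h1 : IsOpen {x : Module.freeLocus A M | Module.rankAtStalk M x.1 = 1} :=
    (Module.isLocallyConstant_rankAtStalk_freeLocus (R := A) (M := M)).isOpen_fiber 1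
  have h2 := (Module.isOpen_freeLocus (R := A) (M := M)).isOpenMap_subtype_val _ h1
  convert h2 using 1
  ext p
  constructor
  · rintro ⟨hp1, hp2⟩
    exact ⟨⟨p, hp1⟩, hp2, rfl⟩
  · rintro ⟨⟨q, hq1⟩, hq2, rfl⟩
    exact ⟨hq1, hq2⟩

/-- **S0373**: the Gorenstein locus of a noetherian ring with a dualizing complex is open -/
theorem isOpen_gorensteinLocus (ω : Dual.D A) (hω : Dual.IsDualizing A ω) :
    IsOpen {p : PrimeSpectrum A |
      LocCoh.IsGorensteinLocalRing (Localization.AtPrime p.asIdeal)} := by
  obtain ⟨a, b, hab⟩ := hω.finite_injective_dimension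
  have hbdd := EFB.hbdd_of_hinj ω a b hab
  haveI := hω.finite_cohomology
  -- the open pieces
  let V : ℤ → Set (PrimeSpectrum A) := fun n =>
    {p | ∀ i : ℤ, i ≠ n → p ∉ Module.support A (Dual.HD A ω i)}
  let W : ℤ → Set (PrimeSpectrum A) := fun n =>
    {p | p ∈ Module.freeLocus A (Dual.HD A ω n) ∧ Module.rankAtStalk (Dual.HD A ω n) p = 1}
  have hV : ∀ n, IsOpen (V n) := by
    intro n
    have h1 : V n = ⋂ i ∈ (Finset.Icc a b).erase n, (Module.support A (Dual.HD A ω i))ᶜ := by
      ext p
      simp only [V, Set.mem_ofPred_eq, Set.mem_iInter, Set.mem_compl_iff, Finset.mem_erase,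
        Finset.mem_Icc]
      constructor
      · intro h i hi
        exact h i hi.1
      · intro h i hi
        by_cases hi2 : a ≤ i ∧ i ≤ b
        · exact h i ⟨hi, hi2⟩
        · haveI := hbdd i (by omega)
          rw [Module.notMem_support_iff]
          infer_instance
    rw [h1]
    exact isOpen_biInter_finset (fun i _ => Module.isClosed_support.isOpen_compl)
  have hW : ∀ n, IsOpen (W n) := fun n => isOpen_free_rank_one (Dual.HD A ω n)
  have hset : {p : PrimeSpectrum A |
      LocCoh.IsGorensteinLocalRing (Localization.AtPrime p.asIdeal)} = ⋃ n : ℤ, V n ∩ W n := by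
    ext p
    rw [Set.mem_ofPred_eq, Set.mem_iUnion,
      isGorensteinLocalRing_iff_of_isDualizing _ (isDualizing_ε_atPrime p.asIdeal ω hω)]
    have he := fun i => nonempty_HD_ε_atPrime_equiv p.asIdeal ω i
    constructor
    · rintro ⟨n, hz, ⟨l⟩⟩
      refine ⟨n, fun i hi => ?_, ?_⟩
      · rw [Module.notMem_support_iff]
        obtain ⟨e⟩ := he i
        haveI := hz i hi
        exact e.symm.toEquiv.subsingleton
      · obtain ⟨e⟩ := he n
        exact (mem_freeLocus_and_rank_one_iff _ p).2 ⟨e.symm.trans l⟩
    · rintro ⟨n, hz, hw⟩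
      refine ⟨n, fun i hi => ?_, ?_⟩
      · obtain ⟨e⟩ := he i
        haveI := Module.notMem_support_iff.1 (hz i hi)
        exact e.toEquiv.subsingleton
      · obtain ⟨e⟩ := he n
        obtain ⟨l⟩ := (mem_freeLocus_and_rank_one_iff _ p).1 hw
        exact ⟨e.trans l⟩
  rw [hset]
  exact isOpen_iUnion (fun n => (hV n).inter (hW n))

end Global

end Groth.Agent.Lib.Helper8.Bidual
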