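import Mathlib
import Groth.Agent.Lib.Helper8.Sk6
import Groth.Agent.Lib.Helper8.S2c
import Groth.Agent.Lib.Helper21.DepthKit8

/-! # Helper8 — Ord1: a dualizing complex over a local ring which is concentrated in degree 0 off a
closed set of codimension ≥ 1 is ordinary: `A` is equidimensional, `ω[dim A]` is normalized and
`H^0(ω)` is `(S_2)`; if the codimension is ≥ 2 then `depth_J H^0(ω) ≥ 2` (S18720).
Also `hasSk_congr'`, `depth_loc_congr'`, `supportDim_loc_congr'` (transport along linear equivalences). -/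

set_option autoImplicit false

universe u

open CategoryTheory CategoryTheory.Limits CategoryTheory.Pretriangulated Opposite DerivedCategory
open scoped TensorProduct

attribute [local instance] HasDerivedCategory.standard

namespace Groth.Agent.Lib.Helper8.Bidual

open Groth.Agent.Lib.Helper8 Groth.Agent.Lib.Helper16.FlatBC

section Congr

variable {R : Type u} [CommRing R] {M N : Type u} [AddCommGroup M] [Module R M]
  [AddCommGroup N] [Module R N]

/-- the localization of a linear equivalence at a prime. -/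
noncomputable def locEquivOfEquiv' (e : M ≃ₗ[R] N) (q : Ideal R) [q.IsPrime] :
    LocalizedModule q.primeCompl M ≃ₗ[Localization.AtPrime q] LocalizedModule q.primeCompl N :=
  IsLocalizedModule.mapEquiv q.primeCompl (LocalizedModule.mkLinearMap q.primeCompl M)
    (LocalizedModule.mkLinearMap q.primeCompl N) (Localization.AtPrime q) e

theorem depth_loc_congr' (e : M ≃ₗ[R] N) (q : Ideal R) [q.IsPrime] :
    LocCoh.depth (Localization.AtPrime q) (LocalizedModule q.primeCompl M) =
      LocCoh.depth (Localization.AtPrime q) (LocalizedModule q.primeCompl N) :=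
  Groth.Agent.Lib.Helper21.DepthKit.idealDepth_congr _ (locEquivOfEquiv' e q)

theorem supportDim_loc_congr' (e : M ≃ₗ[R] N) (q : Ideal R) [q.IsPrime] :
    Module.supportDim (Localization.AtPrime q) (LocalizedModule q.primeCompl M) =
      Module.supportDim (Localization.AtPrime q) (LocalizedModule q.primeCompl N) :=
  Module.supportDim_eq_of_equiv (locEquivOfEquiv' e q)

theorem hasSk_congr' (e : M ≃ₗ[R] N) (k : ℕ) :
    LocCoh.HasSk k R M ↔ LocCoh.HasSk k R N := by
  unfold LocCoh.HasSk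
  refine forall_congr' fun p => forall_congr' fun hp => ?_
  rw [depth_loc_congr' e p, supportDim_loc_congr' e p]

end Congr

section Ord

variable {A : Type u} [CommRing A] [IsLocalRing A] [IsNoetherianRing A]

open Groth.Agent.Lib.Helper21.DepthKit

/-- S18720 -/
theorem ordinary_of_concentrated_off (ω : Dual.D A) (hω : Dual.IsDualizing A ω) (n : ℕ)
    (hd : ringKrullDim A = n) (J : Ideal A) (hJ : 1 ≤ J.height)
    (hoff : ∀ p : PrimeSpectrum A, ¬ J ≤ p.asIdeal → ∀ i : ℤ, i ≠ 0 →
      p ∉ Module.support A (Dual.HD A ω i)) :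
    (EGA4.IsEquidim A ∧ Dual.IsNormalized A (ω⟦(n : ℤ)⟧) ∧ LocCoh.HasSk 2 A (Dual.HD A ω 0)) ∧
    (2 ≤ J.height → 2 ≤ LocCoh.idealDepth J (Dual.HD A ω 0)) := by
  obtain ⟨s, hs⟩ := exists_isNormalized_shift ω hω
  have hω' := isDualizing_shift ω hω s
  obtain ⟨δ, h1, h2, h0⟩ := exists_dimension_function_normalized (ω⟦s⟧) hω' hs
  -- the shift isomorphisms on cohomology
  let k : ∀ i j : ℤ, s + i = j → (Dual.HD A (ω⟦s⟧) i ≃ₗ[A] Dual.HD A ω j) := fun i j hij =>
    (((homologyFunctor (ModuleCat.{u} A) 0).shiftIso s i j hij).app ω).toLinearEquiv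
  -- every minimal prime has dimension `s`
  have hmin : ∀ q ∈ minimalPrimes A, ringKrullDim (A ⧸ q) = ((s.toNat : ℕ) : ℕ∞) ∧ 0 ≤ s := by
    intro q hq
    haveI hqp : q.IsPrime := hq.1.1
    obtain ⟨h3, h4⟩ := ringKrullDim_quotient_eq_dimFun δ h2 h0 ⟨q, hqp⟩
    change ringKrullDim (A ⧸ q) = _ at h4
    have h5 := (nontrivial_localized_HD_iff_of_minimal (ω⟦s⟧) hω' hs q hq
      (δ ⟨q, hqp⟩).toNat h4 (-((δ ⟨q, hqp⟩).toNat : ℤ))).2 rfl
    have hJq : ¬ J ≤ q := by
      intro hle
      have h6 := Ideal.height_mono hle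
      rw [Ideal.height_eq_zero_iff.2 hq] at h6
      have : (1 : ℕ∞) ≤ 0 := hJ.trans h6
      simp at this
    have h7 : Nontrivial (LocalizedModule q.primeCompl
        (Dual.HD A ω (s + -((δ ⟨q, hqp⟩).toNat : ℤ)))) :=
      (locEquivOfEquiv' (k _ _ rfl) q).toEquiv.nontrivial_congr.1 h5
    have h8 : s + -((δ ⟨q, hqp⟩).toNat : ℤ) = 0 := by
      by_contra hne
      exact hoff ⟨q, hqp⟩ hJq _ hne (Module.mem_support_iff.2 h7)
    have h9 : (δ ⟨q, hqp⟩).toNat = s.toNat := by omega
    rw [h4, h9]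
    exact ⟨rfl, by omega⟩
  obtain ⟨q0, hq0, hq0n⟩ := exists_minimalPrime_dim_eq n hd
  obtain ⟨h3, hs0⟩ := hmin q0 hq0
  have hsn : s = (n : ℤ) := by
    rw [hq0n] at h3
    have : n = s.toNat := by exact_mod_cast h3
    omega
  subst hsn
  have hL : LocCoh.HasSk 2 A (Dual.HD A ω 0) :=
    (hasSk_congr' (k (-(n : ℤ)) 0 (by omega)) 2).1
      (dualizingModule_support_and_S2 (ω⟦(n : ℤ)⟧) hω' hs n hd).2
  refine ⟨⟨fun q hq => ?_, hs, hL⟩, fun hJ2 => ?_⟩
  · rw [(hmin q hq).1, hd]
    simp
  · haveI := hω.finite_cohomology 0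
    rw [idealDepth_eq_iInf_depth_localization J (M := Dual.HD A ω 0)]
    refine le_iInf₂ (fun p hp => ?_)
    rcases subsingleton_or_nontrivial (LocalizedModule p.asIdeal.primeCompl (Dual.HD A ω 0))
      with hsub | hnt
    · rw [depth_of_subsingleton]
      exact le_top
    · have hnt' : Nontrivial (LocalizedModule p.asIdeal.primeCompl
          (Dual.HD A (ω⟦(n : ℤ)⟧) (-(n : ℤ)))) :=
        (locEquivOfEquiv' (k (-(n : ℤ)) 0 (by omega)) p.asIdeal).toEquiv.nontrivial_congr.2 hnt
      obtain ⟨dB, hdB, -, -, hdepth⟩ :=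
        dualizingModule_localization (ω⟦(n : ℤ)⟧) hω' hs n hd δ h1 h2 h0 p hnt'
      rw [depth_loc_congr' (k (-(n : ℤ)) 0 (by omega)) p.asIdeal] at hdepth
      refine le_trans ?_ hdepth
      rw [IsLocalization.AtPrime.ringKrullDim_eq_height p.asIdeal
        (Localization.AtPrime p.asIdeal)] at hdB
      have h5 : (2 : ℕ∞) ≤ p.asIdeal.height := hJ2.trans (Ideal.height_mono hp)
      have h6 : (p.asIdeal.height : WithBot ℕ∞) = ((dB : ℕ) : WithBot ℕ∞) := hdB
      have h7 : p.asIdeal.height = (dB : ℕ∞) := by exact_mod_cast h6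
      rw [h7] at h5
      have h8 : 2 ≤ dB := by exact_mod_cast h5
      have h9 : min 2 dB = 2 := min_eq_left h8
      rw [h9]
      rfl

end Ord

end Groth.Agent.Lib.Helper8.Bidual
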