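import Mathlib
import Groth.Agent.Lib.Helper7.ReflexiveLoc
import Groth.Agent.Lib.Helper21.DepthKit8

/-! # Helper8 — Refl1: a finite module `L` over a Noetherian ring which is reflexive off `V(J)`, with
`depth_J L ≥ 2` and `depth_J A ≥ 1`, is reflexive (`Refl.isReflexive_of_depth`); regular pairs and
regular elements from ideal depth (`Refl.exists_regular_pair`, `Refl.exists_regular_elt`; the former
copied from helper7's `ModHartogs` to avoid its scheme-level imports). -/

set_option autoImplicit false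

universe u

namespace Groth.Agent.Lib.Helper8.Refl

open RingTheory.Sequence Groth.Agent.Lib.Helper21.DepthKit
open scoped Pointwise

section alg

variable {R : Type*} [CommRing R] {N : Type*} [AddCommGroup N] [Module R N] {a b : R}

theorem exists_eq_pow_smul_of_smul (ha : IsSMulRegular N a)
    (hb : ∀ u : N, (∃ z, b • u = a • z) → ∃ z, u = a • z) :
    ∀ n : ℕ, ∀ u : N, (∃ z, b • u = a ^ n • z) → ∃ z, u = a ^ n • z := by
  intro n
  induction n with
  | zero =>
    intro u _
    exact ⟨u, by rw [pow_zero, one_smul]⟩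
  | succ n ih =>
    rintro u ⟨w, hw⟩
    obtain ⟨v, hv⟩ := ih u ⟨a • w, by rw [hw, pow_succ, mul_smul]⟩
    have h2 : a ^ n • (b • v) = a ^ n • (a • w) := by
      rw [smul_comm, ← hv, hw, pow_succ, mul_smul]
    have h3 : b • v = a • w := (ha.pow n) h2
    obtain ⟨v', hv'⟩ := hb v ⟨w, h3⟩
    exact ⟨v', by rw [hv, hv', pow_succ, mul_smul]⟩

theorem exists_eq_pow_smul_of_pow_smul (ha : IsSMulRegular N a)
    (hb : ∀ u : N, (∃ z, b • u = a • z) → ∃ z, u = a • z) (n m : ℕ) :
    ∀ u : N, (∃ z, b ^ m • u = a ^ n • z) → ∃ z, u = a ^ n • z := by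
  induction m with
  | zero =>
    rintro u ⟨z, hz⟩
    exact ⟨z, by rwa [pow_zero, one_smul] at hz⟩
  | succ m ih =>
    rintro u ⟨z, hz⟩
    apply ih
    apply exists_eq_pow_smul_of_smul ha hb n
    exact ⟨z, by rw [← mul_smul, ← pow_succ']; exact hz⟩

end alg

section regular

variable {B : Type u} [CommRing B] [IsNoetherianRing B] {N : Type u} [AddCommGroup N] [Module B N]
  [Module.Finite B N]

/-- from ideal depth `≥ 2` on a finite module to a regular pair in elementwise form -/
theorem exists_regular_pair (J : Ideal B) (hdepth : (2 : ℕ∞) ≤ LocCoh.idealDepth J N) :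
    ∃ a ∈ J, ∃ b ∈ J, IsSMulRegular N a ∧ ∀ u : N, (∃ z, b • u = a • z) → ∃ z, u = a • z := by
  by_cases hJ : J • (⊤ : Submodule B N) = ⊤
  · obtain ⟨r, hr1, hr2⟩ := Submodule.exists_sub_one_mem_and_smul_eq_zero_of_fg_of_le_smul J
      (⊤ : Submodule B N) (Module.Finite.fg_top) (le_of_eq hJ.symm)
    have hc : (1 - r) ∈ J := by
      have := J.neg_mem hr1
      rwa [neg_sub] at this
    have hid : ∀ n : N, (1 - r) • n = n := by
      intro n
      rw [sub_smul, one_smul, hr2 n Submodule.mem_top, sub_zero]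
    refine ⟨1 - r, hc, 1 - r, hc, ?_, ?_⟩
    · intro x y hxy
      simpa only [hid] using hxy
    · rintro u ⟨z, hz⟩
      exact ⟨z, by rw [← hz, hid]⟩
  · have h2 : ((2 : ℕ) : ℕ∞) ≤ LocCoh.idealDepth J N := hdepth
    obtain ⟨rs, hlen, hmem, hreg⟩ := (natCast_le_idealDepth_iff J hJ 2).1 h2
    match rs, hlen, hmem, hreg with
    | [a, b], _, hmem, hreg =>
      rw [isWeaklyRegular_cons_iff, isWeaklyRegular_cons_iff] at hreg
      obtain ⟨ha, hb, -⟩ := hreg
      refine ⟨a, hmem a (by simp), b, hmem b (by simp), ha, ?_⟩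
      rw [isSMulRegular_quotient_iff_mem_of_smul_mem] at hb
      rintro u ⟨w, hw⟩
      have h3 : b • u ∈ a • (⊤ : Submodule B N) := by
        rw [Submodule.mem_smul_pointwise_iff_exists]
        exact ⟨w, trivial, hw.symm⟩
      obtain ⟨w', -, hw'⟩ := (Submodule.mem_smul_pointwise_iff_exists _ _ _).1 (hb u h3)
      exact ⟨w', hw'.symm⟩

/-- from ideal depth `≥ 1` on a finite module to a regular element -/
theorem exists_regular_elt (J : Ideal B) (hdepth : (1 : ℕ∞) ≤ LocCoh.idealDepth J N) :
    ∃ a ∈ J, IsSMulRegular N a := by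
  by_cases hJ : J • (⊤ : Submodule B N) = ⊤
  · obtain ⟨r, hr1, hr2⟩ := Submodule.exists_sub_one_mem_and_smul_eq_zero_of_fg_of_le_smul J
      (⊤ : Submodule B N) (Module.Finite.fg_top) (le_of_eq hJ.symm)
    have hc : (1 - r) ∈ J := by
      have := J.neg_mem hr1
      rwa [neg_sub] at this
    have hid : ∀ n : N, (1 - r) • n = n := by
      intro n
      rw [sub_smul, one_smul, hr2 n Submodule.mem_top, sub_zero]
    refine ⟨1 - r, hc, ?_⟩
    intro x y hxy
    simpa only [hid] using hxy
  · exact exists_regular_of_one_le_idealDepth J hJ hdepth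

end regular

section Refl

variable {A : Type u} [CommRing A] [IsNoetherianRing A]

/-- an ideal which meets the complement of every prime not containing `J` contains a power of `J` -/
theorem exists_pow_le_of_forall_prime (J I : Ideal A)
    (h : ∀ p : PrimeSpectrum A, ¬ J ≤ p.asIdeal → ∃ s ∉ p.asIdeal, s ∈ I) :
    ∃ k : ℕ, J ^ k ≤ I := by
  apply Ideal.exists_pow_le_of_le_radical_of_fg _ (IsNoetherian.noetherian J)
  rw [Ideal.radical_eq_sInf]
  refine le_sInf (fun p hp => ?_)
  by_contra hJp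
  obtain ⟨s, hs, hsI⟩ := h ⟨p, hp.2⟩ hJp
  exact hs (hp.1 hsI)

variable {L : Type u} [AddCommGroup L] [Module A L] [Module.Finite A L]

/-- a finite module which is reflexive off `V(J)`, of `J`-depth at least 2 over a ring of `J`-depth
at least 1, is reflexive -/
theorem isReflexive_of_depth (J : Ideal A)
    (hrefl : ∀ p : PrimeSpectrum A, ¬ J ≤ p.asIdeal →
      Module.IsReflexive (Localization.AtPrime p.asIdeal)
        (LocalizedModule p.asIdeal.primeCompl L))
    (hL : 2 ≤ LocCoh.idealDepth J L) (hA : 1 ≤ LocCoh.idealDepth J A) :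
    Module.IsReflexive A L := by
  obtain ⟨a, haJ, b, hbJ, ha, hb⟩ := exists_regular_pair J hL
  obtain ⟨z0, hz0J, hz0⟩ := exists_regular_elt J hA
  -- injectivity
  have hinj : ∀ g : L, Module.Dual.eval A L g = 0 → g = 0 := by
    intro g hg
    let I : Ideal A := LinearMap.ker (LinearMap.toSpanSingleton A L g)
    obtain ⟨k, hk⟩ := exists_pow_le_of_forall_prime J I (fun p hp => by
      haveI := hrefl p hp
      obtain ⟨s, hs, hsg⟩ :=
        Groth.Agent.Lib.Helper7.ReflLoc.exists_smul_eq_zero_of_eval_eq_zero p.asIdeal g hg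
      exact ⟨s, hs, by
        change LinearMap.toSpanSingleton A L g s = 0
        rw [LinearMap.toSpanSingleton_apply]; exact hsg⟩)
    have h1 : a ^ k ∈ I := hk (Ideal.pow_mem_pow haJ k)
    have h2 : a ^ k • g = 0 := by
      have : LinearMap.toSpanSingleton A L g (a ^ k) = 0 := h1
      rwa [LinearMap.toSpanSingleton_apply] at this
    exact (ha.pow k) (by change a ^ k • g = a ^ k • 0; rw [h2, smul_zero])
  have hinj' : Function.Injective (Module.Dual.eval A L) :=
    (injective_iff_map_eq_zero _).2 hinj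
  refine ⟨hinj', fun c => ?_⟩
  let I : Ideal A := Submodule.comap (LinearMap.toSpanSingleton A _ c)
    (LinearMap.range (Module.Dual.eval A L))
  have hI : ∀ s : A, s ∈ I ↔ ∃ g : L, Module.Dual.eval A L g = s • c := by
    intro s
    change LinearMap.toSpanSingleton A _ c s ∈ LinearMap.range (Module.Dual.eval A L) ↔ _
    rw [LinearMap.toSpanSingleton_apply, LinearMap.mem_range]
  obtain ⟨k, hk⟩ := exists_pow_le_of_forall_prime J I (fun p hp => by
    haveI := hrefl p hp
    obtain ⟨s, hs, g, hsg⟩ :=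
      Groth.Agent.Lib.Helper7.ReflLoc.exists_smul_mem_range_eval p.asIdeal c
    exact ⟨s, hs, (hI s).2 ⟨g, hsg.symm⟩⟩)
  obtain ⟨u, hu⟩ := (hI (a ^ k)).1 (hk (Ideal.pow_mem_pow haJ k))
  obtain ⟨v, hv⟩ := (hI (b ^ k)).1 (hk (Ideal.pow_mem_pow hbJ k))
  have h1 : b ^ k • u = a ^ k • v := by
    apply hinj'
    rw [map_smul, map_smul, hu, hv, smul_comm]
  obtain ⟨z, hz⟩ := exists_eq_pow_smul_of_pow_smul ha hb k k u ⟨v, h1⟩
  -- the difference `f = c - eval z` is killed by `a^k`
  have hf1 : a ^ k • (c - Module.Dual.eval A L z) = 0 := by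
    rw [smul_sub, ← hu, ← map_smul, ← hz, sub_self]
  -- hence by `J^k`
  have hf2 : ∀ w ∈ J ^ k, w • (c - Module.Dual.eval A L z) = 0 := by
    intro w hw
    obtain ⟨l, hl⟩ := (hI w).1 (hk hw)
    have h2 : w • (c - Module.Dual.eval A L z) = Module.Dual.eval A L (l - w • z) := by
      rw [map_sub, map_smul, hl, smul_sub]
    rw [h2]
    have h3 : Module.Dual.eval A L (a ^ k • (l - w • z)) = 0 := by
      rw [map_smul, ← h2, smul_comm, hf1, smul_zero]
    have h4 := hinj _ h3
    have h5 : l - w • z = 0 :=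
      (ha.pow k) (by change a ^ k • (l - w • z) = a ^ k • 0; rw [h4, smul_zero])
    rw [h5, map_zero]
  have hf3 : c - Module.Dual.eval A L z = 0 := by
    have h2 := hf2 (z0 ^ k) (Ideal.pow_mem_pow hz0J k)
    ext t
    have h3 := LinearMap.congr_fun h2 t
    rw [LinearMap.smul_apply, LinearMap.zero_apply] at h3
    rw [LinearMap.zero_apply]
    exact (hz0.pow k) (by
      change z0 ^ k • (c - Module.Dual.eval A L z) t = z0 ^ k • 0
      rw [h3, smul_zero])
  exact ⟨z, (sub_eq_zero.1 hf3).symm⟩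

end Refl

end Groth.Agent.Lib.Helper8.Refl
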