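import Mathlib
import Groth.Agent.Lib.Helper8.Ord1
import Groth.Agent.Lib.Helper8.Refl1
import Groth.Agent.Lib.Helper8.Dep8
import Groth.Agent.Lib.Helper21.DepthKit9
import Groth.Agent.S6877

/-! # Helper8 — Ord2: the dualizing module `L = H^0(ω)` which is invertible off a closed set of
codimension ≥ 2 is reflexive and `(S_2)` when `A` is `(S_1)`; over an `(S_2)` ring the reflexive hulls
of its tensor powers are `(S_2)` of `J`-depth ≥ 2 (S18723). Also `le_depth_localization_self_of_hasSk`,
`le_idealDepth_self_of_hasSk`, `two_le_idealDepth_dual_of_hasSk`. -/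

set_option autoImplicit false

universe u

open CategoryTheory CategoryTheory.Limits CategoryTheory.Pretriangulated Opposite DerivedCategory
open scoped TensorProduct

attribute [local instance] HasDerivedCategory.standard

namespace Groth.Agent.Lib.Helper8.Bidual

open Groth.Agent.Lib.Helper8 Groth.Agent.Lib.Helper16.FlatBC

section SkRing

variable {A : Type u} [CommRing A]

open Groth.Agent.Lib.Helper21.DepthKit

/-- if `A` is `(S_k)` and `p` has height at least `k` then `depth A_p ≥ k` -/
theorem le_depth_localization_self_of_hasSk (k : ℕ) (h : LocCoh.HasSk k A A) (p : Ideal A)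
    [p.IsPrime] (hp : (k : ℕ∞) ≤ p.height) :
    (k : ℕ∞) ≤ LocCoh.depth (Localization.AtPrime p) (LocalizedModule p.primeCompl A) := by
  have h1 := h p
  rw [Module.supportDim_eq_of_equiv (localizedSelfEquiv p), Module.supportDim_self_eq_ringKrullDim,
    IsLocalization.AtPrime.ringKrullDim_eq_height p (Localization.AtPrime p)] at h1
  have h2 : ((k : ℕ∞) : WithBot ℕ∞) ≤ ((p.height : ℕ∞) : WithBot ℕ∞) := WithBot.coe_le_coe.2 hp
  have h3 : ((k : ℕ) : WithBot ℕ∞) = (((k : ℕ∞)) : WithBot ℕ∞) := rfl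
  rw [h3, min_eq_left h2] at h1
  exact WithBot.coe_le_coe.1 h1

variable [IsNoetherianRing A]

/-- if `A` is `(S_k)` and `J` has height at least `k` then `depth_J A ≥ k` -/
theorem le_idealDepth_self_of_hasSk (k : ℕ) (h : LocCoh.HasSk k A A) (J : Ideal A)
    (hJ : (k : ℕ∞) ≤ J.height) : (k : ℕ∞) ≤ LocCoh.idealDepth J A := by
  rw [idealDepth_eq_iInf_depth_localization J (M := A)]
  exact le_iInf₂ (fun p hp =>
    le_depth_localization_self_of_hasSk k h p.asIdeal (hJ.trans (Ideal.height_mono hp)))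

/-- if `A` is `(S_2)` and `J` has height at least 2 then every dual has `J`-depth at least 2 -/
theorem two_le_idealDepth_dual_of_hasSk (h : LocCoh.HasSk 2 A A) (J : Ideal A)
    (hJ : 2 ≤ J.height) (Y : Type u) [AddCommGroup Y] [Module A Y] [Module.Finite A Y] :
    2 ≤ LocCoh.idealDepth J (Module.Dual A Y) := by
  rw [idealDepth_eq_iInf_depth_localization J (M := Module.Dual A Y)]
  refine le_iInf₂ (fun p hp => ?_)
  exact two_le_depth_localization_hom (M := Y) (N := A) p.asIdeal
    (le_depth_localization_self_of_hasSk 2 h p.asIdeal (hJ.trans (Ideal.height_mono hp)))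

end SkRing

section Ord

variable {A : Type u} [CommRing A] [IsLocalRing A] [IsNoetherianRing A]

/-- S18723 -/
theorem dualizingModule_reflexive_of_invertible_off (ω : Dual.D A) (hω : Dual.IsDualizing A ω)
    (n : ℕ) (hd : ringKrullDim A = n) (J : Ideal A) (hJ : 2 ≤ J.height)
    (hoff : ∀ p : PrimeSpectrum A, ¬ J ≤ p.asIdeal →
      (∀ i : ℤ, i ≠ 0 → p ∉ Module.support A (Dual.HD A ω i)) ∧
      Module.Free (Localization.AtPrime p.asIdeal)
        (LocalizedModule p.asIdeal.primeCompl (Dual.HD A ω 0)) ∧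
      Module.finrank (Localization.AtPrime p.asIdeal)
        (LocalizedModule p.asIdeal.primeCompl (Dual.HD A ω 0)) = 1) :
    (LocCoh.HasSk 1 A A →
      (EGA4.IsEquidim A ∧ Dual.IsNormalized A (ω⟦(n : ℤ)⟧)) ∧
      Module.IsReflexive A (Dual.HD A ω 0) ∧ LocCoh.HasSk 2 A (Dual.HD A ω 0)) ∧
    (LocCoh.HasSk 2 A A → ∀ m : ℕ,
      LocCoh.HasSk 2 A (Module.Dual A (Module.Dual A (TensorPower A m (Dual.HD A ω 0)))) ∧
      2 ≤ LocCoh.idealDepth J
        (Module.Dual A (Module.Dual A (TensorPower A m (Dual.HD A ω 0))))) := by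
  haveI := hω.finite_cohomology 0
  have hJ1 : 1 ≤ J.height := le_trans (by norm_num) hJ
  obtain ⟨⟨hEq, hnorm, hS2⟩, hdep⟩ := ordinary_of_concentrated_off ω hω n hd J hJ1
    (fun p hp => (hoff p hp).1)
  refine ⟨fun hS1 => ⟨⟨hEq, hnorm⟩, ?_, hS2⟩, fun hA2 m => ⟨?_, ?_⟩⟩
  · refine Refl.isReflexive_of_depth J (fun p hp => ?_) (hdep hJ) ?_
    · haveI hfree := (hoff p hp).2.1
      haveI hfin : Module.Finite (Localization.AtPrime p.asIdeal)
          (LocalizedModule p.asIdeal.primeCompl (Dual.HD A ω 0)) :=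
        Module.Finite.of_isLocalizedModule p.asIdeal.primeCompl
          (LocalizedModule.mkLinearMap p.asIdeal.primeCompl (Dual.HD A ω 0))
      exact Module.IsReflexive.of_finite_of_free _ _
    · exact le_idealDepth_self_of_hasSk 1 hS1 J (by exact_mod_cast hJ1)
  · exact (Groth.Agent.S6877.result A (Module.Dual A (TensorPower A m (Dual.HD A ω 0))) A).2 hA2
  · exact two_le_idealDepth_dual_of_hasSk hA2 J hJ _

end Ord

end Groth.Agent.Lib.Helper8.Bidual
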