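import Groth.Agent.Lib.Helper8.Compact3
import Groth.Prelude.Def_DerLim

universe w v u

set_option linter.unusedSectionVars false

open CategoryTheory CategoryTheory.Limits CategoryTheory.Pretriangulated

namespace Groth.Agent.Lib.Helper8.Compact

section LemmaH

variable {D : Type u} [Category.{v} D] [Preadditive D] [HasZeroObject D] [HasShift D ℤ]
  [∀ n : ℤ, (shiftFunctor D n).Additive] [Pretriangulated D] [HasCoproducts.{v} D]
  [HasColimitsOfShape (Discrete ℕ) D]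
  (K : ℕ → D) (f : ∀ n, K n ⟶ K (n + 1))

lemma shiftMap_π_zero [DecidableEq ℕ] : DerLim.shiftMap K f ≫ Sigma.π K 0 = 0 := by
  apply Sigma.hom_ext
  intro m
  simp only [DerLim.shiftMap, Sigma.ι_desc_assoc, Category.assoc, comp_zero]
  rw [Sigma.ι_π_of_ne K (Nat.succ_ne_zero m), comp_zero]

lemma shiftMap_π_succ [DecidableEq ℕ] (n : ℕ) :
    DerLim.shiftMap K f ≫ Sigma.π K (n + 1) = Sigma.π K n ≫ f n := by
  apply Sigma.hom_ext
  intro m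
  simp only [DerLim.shiftMap, Sigma.ι_desc_assoc, Category.assoc]
  by_cases h : m = n
  · subst h
    rw [Sigma.ι_π_eq_id, Category.comp_id, Sigma.ι_π_eq_id_assoc]
  · have h' : m + 1 ≠ n + 1 := fun e => h (Nat.succ_injective e)
    rw [Sigma.ι_π_of_ne K h', comp_zero, Sigma.ι_π_of_ne_assoc K h, zero_comp]

variable {K f}

lemma comp_π_eq_zero_of_comp_one_sub_shiftMap [DecidableEq ℕ] {C : D}
    (θ : C ⟶ (∐ K)⟦(1 : ℤ)⟧)
    (h0 : θ ≫ (𝟙 (∐ K) - DerLim.shiftMap K f)⟦(1 : ℤ)⟧' = 0) (n : ℕ) :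
    θ ≫ (Sigma.π K n)⟦(1 : ℤ)⟧' = 0 := by
  induction n with
  | zero =>
    have h1 : (𝟙 (∐ K) - DerLim.shiftMap K f) ≫ Sigma.π K 0 = Sigma.π K 0 := by
      rw [Preadditive.sub_comp, Category.id_comp, shiftMap_π_zero, sub_zero]
    rw [← h1, Functor.map_comp, ← Category.assoc, h0, zero_comp]
  | succ n ih =>
    have h1 : (𝟙 (∐ K) - DerLim.shiftMap K f) ≫ Sigma.π K (n + 1) =
        Sigma.π K (n + 1) - Sigma.π K n ≫ f n := by
      rw [Preadditive.sub_comp, Category.id_comp, shiftMap_π_succ]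
    have h2 : (θ ≫ (𝟙 (∐ K) - DerLim.shiftMap K f)⟦(1 : ℤ)⟧') ≫ (Sigma.π K (n + 1))⟦(1 : ℤ)⟧' =
        θ ≫ (Sigma.π K (n + 1))⟦(1 : ℤ)⟧' - (θ ≫ (Sigma.π K n)⟦(1 : ℤ)⟧') ≫ (f n)⟦(1 : ℤ)⟧' := by
      rw [Category.assoc, ← Functor.map_comp, h1, Functor.map_sub, Functor.map_comp,
        Preadditive.comp_sub, Category.assoc]
    rw [h0, zero_comp, ih, zero_comp, sub_zero] at h2
    exact h2.symm

lemma FF.comp_hocolim_c_eq_zero {C : D} (hC : FF C) {L : D} {i : ∀ n, K n ⟶ L}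
    (c : L ⟶ (∐ K)⟦(1 : ℤ)⟧)
    (hT : Triangle.mk (𝟙 (∐ K) - DerLim.shiftMap K f) (Sigma.desc i) c ∈ distTriang D)
    (φ : C ⟶ L) : φ ≫ c = 0 := by
  classical
  have h0 : (φ ≫ c) ≫ (𝟙 (∐ K) - DerLim.shiftMap K f)⟦(1 : ℤ)⟧' = 0 := by
    have : c ≫ (𝟙 (∐ K) - DerLim.shiftMap K f)⟦(1 : ℤ)⟧' = 0 := comp_distTriang_mor_zero₃₁ _ hT
    rw [Category.assoc, this, comp_zero]
  obtain ⟨S, hS⟩ := hC.finite_support (Equiv.ulift.{v} : ULift.{v} ℕ ≃ ℕ) K 1 (φ ≫ c)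
  have h1 : (eSw K S)⟦(1 : ℤ)⟧' + (cSw K S)⟦(1 : ℤ)⟧' = 𝟙 _ := by
    rw [← Functor.map_add, eSw_add_cSw]
    exact CategoryTheory.Functor.map_id _ _
  have h2 : (φ ≫ c) ≫ (eSw K S)⟦(1 : ℤ)⟧' = 0 := by
    rw [eSw, Functor.map_sum, Preadditive.comp_sum]
    apply Finset.sum_eq_zero
    intro n _
    have key := fun (inst : DecidableEq ℕ) =>
      @comp_π_eq_zero_of_comp_one_sub_shiftMap D _ _ _ _ _ _ _ _ K f inst C (φ ≫ c) h0 n
    rw [Functor.map_comp, ← Category.assoc, key, zero_comp]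
  calc φ ≫ c = (φ ≫ c) ≫ ((eSw K S)⟦(1 : ℤ)⟧' + (cSw K S)⟦(1 : ℤ)⟧') := by
        rw [h1, Category.comp_id]
    _ = 0 := by rw [Preadditive.comp_add, h2, hS, add_zero]

lemma FF.factors_through_stage {C : D} (hC : FF C) {L : D} {i : ∀ n, K n ⟶ L}
    (hL : DerLim.IsHocolim K f L i) (φ : C ⟶ L) : ∃ (n : ℕ) (ψ : C ⟶ K n), ψ ≫ i n = φ := by
  classical
  obtain ⟨c, hT⟩ := hL
  obtain ⟨φ', hφ'⟩ : ∃ φ' : C ⟶ ∐ K, φ = φ' ≫ Sigma.desc i :=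
    Triangle.coyoneda_exact₃ _ hT φ (hC.comp_hocolim_c_eq_zero c hT φ)
  obtain ⟨S, hS⟩ := hC.finite_support_unshifted (Equiv.ulift.{v} : ULift.{v} ℕ ≃ ℕ) K φ'
  have hφ'' := eq_comp_eSw_of_comp_cSw_eq_zero K φ' S hS
  have hi : ∀ n, f n ≫ i (n + 1) = i n := by
    intro n
    have h0 : (𝟙 (∐ K) - DerLim.shiftMap K f) ≫ Sigma.desc i = 0 :=
      comp_distTriang_mor_zero₁₂ _ hT
    have h1 := congrArg (fun t => Sigma.ι K n ≫ t) h0
    simp only [Preadditive.sub_comp, Preadditive.comp_sub, Category.id_comp, comp_zero,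
      DerLim.shiftMap, Sigma.ι_desc_assoc, Sigma.ι_desc, Category.assoc] at h1
    rw [sub_eq_zero] at h1
    exact h1.symm
  have htr : ∀ n m, n ≤ m → ∃ t : K n ⟶ K m, t ≫ i m = i n := by
    intro n m hnm
    induction m, hnm using Nat.le_induction with
    | base => exact ⟨𝟙 _, Category.id_comp _⟩
    | succ m _ ih =>
      obtain ⟨t, ht⟩ := ih
      exact ⟨t ≫ f m, by rw [Category.assoc, hi, ht]⟩
  have hsum : φ = ∑ n ∈ S, (φ' ≫ Sigma.π K n) ≫ i n := by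
    calc φ = (φ' ≫ eSw K S) ≫ Sigma.desc i := by rw [hφ'', hφ']
      _ = _ := by
        rw [eSw, Preadditive.comp_sum, Preadditive.sum_comp]
        refine Finset.sum_congr rfl (fun n _ => ?_)
        simp only [Category.assoc, Sigma.ι_desc]
        congr!
  rw [hsum]
  apply Finset.sum_induction _ (fun φ : C ⟶ L => ∃ (n : ℕ) (ψ : C ⟶ K n), ψ ≫ i n = φ)
  · rintro a b ⟨n₁, ψ₁, h₁⟩ ⟨n₂, ψ₂, h₂⟩
    obtain ⟨t₁, ht₁⟩ := htr n₁ (max n₁ n₂) (le_max_left _ _)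
    obtain ⟨t₂, ht₂⟩ := htr n₂ (max n₁ n₂) (le_max_right _ _)
    exact ⟨max n₁ n₂, ψ₁ ≫ t₁ + ψ₂ ≫ t₂, by
      rw [Preadditive.add_comp, Category.assoc, Category.assoc, ht₁, ht₂, h₁, h₂]⟩
  · exact ⟨0, 0, zero_comp⟩
  · intro n _
    exact ⟨n, _, rfl⟩

end LemmaH

end Groth.Agent.Lib.Helper8.Compact
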