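import Groth.Prelude.Def_CohDer
import Mathlib.CategoryTheory.Triangulated.Generators
import Mathlib.CategoryTheory.Triangulated.Subcategory
import Mathlib.CategoryTheory.Limits.Preserves.Shapes.Products
import Mathlib.CategoryTheory.Adjunction.Limits

/-!
# Compact objects and finite factorisations (helper8)

`FF K`: every map from `K` to a shifted coproduct factors through a finite subcoproduct.
This is a triangulated, retract-closed property containing the compact objects.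
`main`: Stacks 09SN — a map from an `FF` object to a stage `K n` of a tower built from cones of
coproducts of shifts of compact objects `E i` factors through an object of the triangulated
envelope of finitely many `E i`.
-/

universe v u

open CategoryTheory CategoryTheory.Limits CategoryTheory.Pretriangulated

namespace Groth.Agent.Lib.Helper8.Compact

section Coprod

variable {D : Type u} [Category.{v} D] [Preadditive D] {κ : Type v} (X : κ → D) [HasCoproduct X]

open Classical in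
/-- The projector of `∐ X` killing the summands in `S`. -/
noncomputable def cS (S : Finset κ) : ∐ X ⟶ ∐ X :=
  Sigma.desc (fun j => if j ∈ S then 0 else Sigma.ι X j)

open Classical in
/-- The projector of `∐ X` onto the summands in `S`. -/
noncomputable def eS (S : Finset κ) : ∐ X ⟶ ∐ X :=
  ∑ i ∈ S, Sigma.π X i ≫ Sigma.ι X i

open Classical in
@[reassoc]
lemma ι_cS (S : Finset κ) (j : κ) :
    Sigma.ι X j ≫ cS X S = if j ∈ S then 0 else Sigma.ι X j := by
  simp [cS]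

open Classical in
@[reassoc]
lemma ι_eS (S : Finset κ) (j : κ) :
    Sigma.ι X j ≫ eS X S = if j ∈ S then Sigma.ι X j else 0 := by
  unfold eS
  rw [Preadditive.comp_sum]
  split_ifs with h
  · rw [Finset.sum_eq_single j]
    · simp
    · intro b _ hb
      rw [Sigma.ι_π_of_ne_assoc X (Ne.symm hb), zero_comp]
    · intro hj; exact absurd h hj
  · apply Finset.sum_eq_zero
    intro b hb
    have : j ≠ b := fun e => h (e ▸ hb)
    rw [Sigma.ι_π_of_ne_assoc X this, zero_comp]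

lemma eS_add_cS (S : Finset κ) : eS X S + cS X S = 𝟙 _ := by
  classical
  apply Sigma.hom_ext
  intro j
  rw [Preadditive.comp_add, ι_eS, ι_cS]
  split_ifs <;> simp

open Classical in
lemma cS_comp_cS (S T : Finset κ) : cS X S ≫ cS X T = cS X (S ∪ T) := by
  classical
  apply Sigma.hom_ext
  intro j
  rw [ι_cS_assoc, ι_cS]
  by_cases h1 : j ∈ S
  · simp [h1]
  · by_cases h2 : j ∈ T
    · simp [h1, h2, ι_cS]
    · simp [h1, h2, ι_cS]

lemma cS_comm (S T : Finset κ) : cS X S ≫ cS X T = cS X T ≫ cS X S := by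
  classical
  rw [cS_comp_cS, cS_comp_cS, Finset.union_comm]

lemma eq_comp_eS_of_comp_cS_eq_zero {C : D} (θ : C ⟶ ∐ X) (S : Finset κ) (h : θ ≫ cS X S = 0) :
    θ ≫ eS X S = θ := by
  have := congrArg (fun t => θ ≫ t) (eS_add_cS X S)
  simp only [Preadditive.comp_add, h, add_zero, Category.comp_id] at this
  exact this

end Coprod


section FF

set_option linter.unusedSectionVars false

open ZeroObject

variable {D : Type u} [Category.{v} D] [Preadditive D] [HasZeroObject D] [HasShift D ℤ]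
  [∀ n : ℤ, (shiftFunctor D n).Additive] [Pretriangulated D] [HasCoproducts.{v} D]

/-- Objects all of whose maps into a shifted coproduct factor through a finite subcoproduct. -/
def FF : ObjectProperty D := fun K =>
  ∀ (m : ℤ) (κ : Type v) (X : κ → D) (θ : K ⟶ (∐ X)⟦m⟧), ∃ S : Finset κ, θ ≫ (cS X S)⟦m⟧' = 0

lemma FF.unshifted {K : D} (hK : FF K) {κ : Type v} (X : κ → D) (θ : K ⟶ ∐ X) :
    ∃ S : Finset κ, θ ≫ cS X S = 0 := by
  obtain ⟨S, hS⟩ := hK 0 κ X (θ ≫ (shiftFunctorZero D ℤ).inv.app _)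
  refine ⟨S, ?_⟩
  have nat := (shiftFunctorZero D ℤ).inv.naturality (cS X S)
  simp only [Functor.id_obj, Functor.id_map] at nat
  have hS' : (θ ≫ cS X S) ≫ (shiftFunctorZero D ℤ).inv.app (∐ X) = 0 := by
    rw [Category.assoc, nat, ← Category.assoc]; exact hS
  rw [← cancel_mono ((shiftFunctorZero D ℤ).inv.app (∐ X)), hS', zero_comp]

instance : (FF (D := D)).IsStableUnderRetracts where
  of_retract := by
    intro K K' r hK' m κ X θ
    obtain ⟨S, hS⟩ := hK' m κ X (r.r ≫ θ)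
    refine ⟨S, ?_⟩
    have : θ = r.i ≫ r.r ≫ θ := by simp
    rw [this, Category.assoc, Category.assoc, ← Category.assoc r.r, hS, comp_zero]

instance : (FF (D := D)).ContainsZero where
  exists_zero := ⟨0, isZero_zero _, fun m κ X θ => ⟨∅, by
    rw [(isZero_zero D).eq_of_src θ 0, zero_comp]⟩⟩

instance : (FF (D := D)).IsStableUnderShift ℤ where
  isStableUnderShiftBy a := ⟨by
    intro K hK m κ X θ
    let e := shiftFunctorAdd' D (m - a) a m (by omega)
    obtain ⟨θ', hθ'⟩ := (shiftFunctor D a).map_surjective (θ ≫ e.hom.app (∐ X))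
    obtain ⟨S, hS⟩ := hK (m - a) κ X θ'
    refine ⟨S, ?_⟩
    have nat := e.hom.naturality (cS X S)
    simp only [Functor.comp_map] at nat
    rw [← cancel_mono (e.hom.app (∐ X)), Category.assoc, nat, ← Category.assoc, ← hθ',
      ← Functor.map_comp, hS, Functor.map_zero, zero_comp]⟩

instance : (FF (D := D)).IsTriangulatedClosed₂ := by
  apply ObjectProperty.IsTriangulatedClosed₂.mk'
  intro T hT h₁ h₃ m κ X θ
  obtain ⟨S₁, hS₁⟩ := h₁ m κ X (T.mor₁ ≫ θ)
  rw [Category.assoc] at hS₁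
  obtain ⟨θ', hθ'⟩ := Triangle.yoneda_exact₂ T hT (θ ≫ (cS X S₁)⟦m⟧') hS₁
  obtain ⟨S₂, hS₂⟩ := h₃ m κ X θ'
  classical
  refine ⟨S₁ ∪ S₂, ?_⟩
  rw [← cS_comp_cS, Functor.map_comp, ← Category.assoc, hθ', Category.assoc, hS₂, comp_zero]

instance : (FF (D := D)).IsTriangulated where

lemma exists_cS_of_directSum (C : D) {κ : Type v} (Y : κ → D)
    (x : DirectSum κ (fun j => C ⟶ Y j)) :
    ∃ S : Finset κ, CohDer.homSumToHomCoprod C Y x ≫ cS Y S = 0 := by
  classical
  induction x using DirectSum.induction_on with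
  | zero => exact ⟨∅, by simp⟩
  | of i y =>
    refine ⟨{i}, ?_⟩
    have : CohDer.homSumToHomCoprod C Y (DirectSum.of (fun j => C ⟶ Y j) i y) = y ≫ Sigma.ι Y i := by
      simp only [CohDer.homSumToHomCoprod, DirectSum.toAddMonoid_of]
      rfl
    rw [this, Category.assoc, ι_cS, if_pos (Finset.mem_singleton_self i), comp_zero]
  | add x₁ x₂ h₁ h₂ =>
    obtain ⟨S₁, hS₁⟩ := h₁
    obtain ⟨S₂, hS₂⟩ := h₂
    refine ⟨S₁ ∪ S₂, ?_⟩
    rw [map_add, Preadditive.add_comp]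
    nth_rw 1 [← cS_comp_cS]
    rw [Finset.union_comm, ← cS_comp_cS, ← Category.assoc, ← Category.assoc, hS₁, hS₂,
      zero_comp, zero_comp, add_zero]

lemma sigmaComparison_comp_map_cS (F : D ⥤ D) [F.PreservesZeroMorphisms] {κ : Type v} (X : κ → D)
    (S : Finset κ) :
    sigmaComparison F X ≫ F.map (cS X S) = cS (fun j => F.obj (X j)) S ≫ sigmaComparison F X := by
  classical
  apply Sigma.hom_ext
  intro j
  rw [ι_comp_sigmaComparison_assoc, ← F.map_comp, ι_cS, ι_cS_assoc]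
  split_ifs
  · simp
  · simp

lemma FF_of_isCompactObject {C : D} (hC : CohDer.IsCompactObject C) : FF C := by
  intro m κ X θ
  have : IsIso (sigmaComparison (shiftFunctor D m) X) := inferInstance
  obtain ⟨x, hx⟩ := (hC κ (fun j => (X j)⟦m⟧)).2 (θ ≫ inv (sigmaComparison (shiftFunctor D m) X))
  obtain ⟨S, hS⟩ := exists_cS_of_directSum C _ x
  refine ⟨S, ?_⟩
  have h1 : θ = CohDer.homSumToHomCoprod C (fun j => (X j)⟦m⟧) x ≫
      sigmaComparison (shiftFunctor D m) X := by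
    rw [hx]; simp
  rw [h1, Category.assoc, sigmaComparison_comp_map_cS, ← Category.assoc, hS, zero_comp]

end FF

section Main

set_option linter.unusedSectionVars false

open ZeroObject

variable {D : Type u} [Category.{v} D] [Preadditive D] [HasZeroObject D] [HasShift D ℤ]
  [∀ n : ℤ, (shiftFunctor D n).Additive] [Pretriangulated D]

lemma prop_biprod (P : ObjectProperty D) [P.IsTriangulated] [P.IsClosedUnderIsomorphisms]
    {A B : D} (hA : P A) (hB : P B) : P (A ⊞ B) :=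
  P.ext_of_isTriangulatedClosed₂ _ (binaryBiproductTriangle_distinguished A B) hA hB

lemma finsum_factor (P : ObjectProperty D) [P.IsTriangulated] [P.IsClosedUnderIsomorphisms]
    {κ : Type*} {Z : D} (Y : κ → D) (p : ∀ k, Z ⟶ Y k) (q : ∀ k, Y k ⟶ Z) (S : Finset κ)
    (hS : ∀ k ∈ S, P (Y k)) {C : D} (θ : C ⟶ Z) :
    ∃ (B : D) (a : C ⟶ B) (b : B ⟶ Z), P B ∧ a ≫ b = θ ≫ ∑ k ∈ S, p k ≫ q k := by
  classical
  induction S using Finset.induction_on with
  | empty =>
    obtain ⟨Z₀, hZ₀, hP⟩ := ObjectProperty.ContainsZero.exists_zero (P := P)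
    exact ⟨Z₀, 0, 0, hP, by simp⟩
  | insert i S hi ih =>
    obtain ⟨B, a, b, hB, hab⟩ := ih (fun k hk => hS k (Finset.mem_insert_of_mem hk))
    refine ⟨B ⊞ Y i, biprod.lift a (θ ≫ p i), biprod.desc b (q i),
      prop_biprod P hB (hS i (Finset.mem_insert_self i S)), ?_⟩
    rw [biprod.lift_desc, hab, Finset.sum_insert hi, Preadditive.comp_add, Category.assoc, add_comm]

variable [IsTriangulated D] [HasCoproducts.{v} D]

/-- The property "is one of the `E i`, `i ∈ s`". -/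
abbrev Qs {ι : Type v} (E : ι → D) (s : Finset ι) : ObjectProperty D := fun Y => ∃ i ∈ s, Y = E i

lemma env_mono {ι : Type v} (E : ι → D) {s t : Finset ι} (h : s ⊆ t) :
    (Qs E s).triangEnvelope ≤ (Qs E t).triangEnvelope :=
  ObjectProperty.monotone_triangEnvelope (fun _ ⟨i, hi, e⟩ => ⟨i, h hi, e⟩)

lemma Qs_nonempty {ι : Type v} (E : ι → D) {s : Finset ι} {i : ι} (hi : i ∈ s) :
    (Qs E s).Nonempty := ⟨E i, i, hi, rfl⟩

lemma env_le_FF {ι : Type v} (E : ι → D) (hc : ∀ i, CohDer.IsCompactObject (E i)) (s : Finset ι) :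
    (Qs E s).triangEnvelope ≤ FF :=
  (ObjectProperty.triangEnvelope_le_iff _).2
    (fun _ ⟨i, _, h⟩ => h ▸ FF_of_isCompactObject (hc i))

set_option backward.isDefEq.respectTransparency false in
theorem main {ι : Type v} [Nonempty ι] (E : ι → D) (hc : ∀ i, CohDer.IsCompactObject (E i))
    (K : ℕ → D) (f : ∀ n, K n ⟶ K (n + 1))
    (h0 : ∃ (κ : Type v) (a : κ → ι) (m : κ → ℤ),
      Nonempty (K 0 ≅ ∐ (fun k => (shiftFunctor D (m k)).obj (E (a k)))))
    (hstep : ∀ n, ∃ (κ : Type v) (a : κ → ι) (m : κ → ℤ)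
      (y : (∐ fun k => (shiftFunctor D (m k)).obj (E (a k))) ⟶ K n)
      (z : K (n + 1) ⟶ (shiftFunctor D (1 : ℤ)).obj (∐ fun k => (shiftFunctor D (m k)).obj (E (a k)))),
      Triangle.mk y (f n) z ∈ distinguishedTriangles) (n : ℕ) :
    ∀ (C : D) (_ : FF C) (φ : C ⟶ K n),
      ∃ (s : Finset ι) (E' : D) (g : C ⟶ E') (h : E' ⟶ K n),
        (Qs E s).triangEnvelope E' ∧ g ≫ h = φ := by
  classical
  obtain ⟨i₀⟩ := ‹Nonempty ι›
  induction n with
  | zero =>
    intro C hC φ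
    obtain ⟨κ, a, m, ⟨iso⟩⟩ := h0
    obtain ⟨S, hS⟩ := hC.unshifted _ (φ ≫ iso.hom)
    have hθ := eq_comp_eS_of_comp_cS_eq_zero _ _ S hS
    let s : Finset ι := insert i₀ (S.image a)
    have : (Qs E s).Nonempty := Qs_nonempty E (Finset.mem_insert_self _ _)
    obtain ⟨B, a', b', hB, hab⟩ := finsum_factor (Qs E s).triangEnvelope
      (fun k => (E (a k))⟦m k⟧) (fun k => Sigma.π (fun k => (E (a k))⟦m k⟧) k)
      (fun k => Sigma.ι (fun k => (E (a k))⟦m k⟧) k) S
      (fun k hk => (Qs E s).triangEnvelope.le_shift (m k) _ ((Qs E s).le_triangEnvelope _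
        ⟨a k, Finset.mem_insert_of_mem (Finset.mem_image_of_mem a hk), rfl⟩)) (φ ≫ iso.hom)
    refine ⟨s, B, a', b' ≫ iso.inv, hB, ?_⟩
    rw [← Category.assoc, hab]
    change ((φ ≫ iso.hom) ≫ eS _ S) ≫ iso.inv = φ
    rw [hθ]; simp
  | succ n ih =>
    intro C hC φ
    obtain ⟨κ, a, m, y, z, hT⟩ := hstep n
    obtain ⟨S, hS⟩ := hC 1 κ _ (φ ≫ z)
    have hθ : (φ ≫ z) ≫ (eS (fun k => (E (a k))⟦m k⟧) S)⟦(1 : ℤ)⟧' = φ ≫ z := by
      have h1 : (eS (fun k => (E (a k))⟦m k⟧) S)⟦(1 : ℤ)⟧' +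
          (cS (fun k => (E (a k))⟦m k⟧) S)⟦(1 : ℤ)⟧' = 𝟙 _ := by
        rw [← Functor.map_add, eS_add_cS]
        exact CategoryTheory.Functor.map_id _ _
      calc (φ ≫ z) ≫ (eS (fun k => (E (a k))⟦m k⟧) S)⟦(1 : ℤ)⟧'
          = (φ ≫ z) ≫ ((eS (fun k => (E (a k))⟦m k⟧) S)⟦(1 : ℤ)⟧' +
            (cS (fun k => (E (a k))⟦m k⟧) S)⟦(1 : ℤ)⟧') := by
            rw [Preadditive.comp_add, hS, add_zero]
        _ = φ ≫ z := by rw [h1, Category.comp_id]
    let s₁ : Finset ι := insert i₀ (S.image a)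
    have : (Qs E s₁).Nonempty := Qs_nonempty E (Finset.mem_insert_self _ _)
    obtain ⟨E₁, g₁, b, hE₁, hgb⟩ := finsum_factor (Qs E s₁).triangEnvelope
      (fun k => ((E (a k))⟦m k⟧)⟦(1 : ℤ)⟧)
      (fun k => (Sigma.π (fun k => (E (a k))⟦m k⟧) k)⟦(1 : ℤ)⟧')
      (fun k => (Sigma.ι (fun k => (E (a k))⟦m k⟧) k)⟦(1 : ℤ)⟧') S
      (fun k hk => (Qs E s₁).triangEnvelope.le_shift (1 : ℤ) _
        ((Qs E s₁).triangEnvelope.le_shift (m k) _ ((Qs E s₁).le_triangEnvelope _
        ⟨a k, Finset.mem_insert_of_mem (Finset.mem_image_of_mem a hk), rfl⟩))) (φ ≫ z)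
    have hsum : ∑ k ∈ S, (Sigma.π (fun k => (E (a k))⟦m k⟧) k)⟦(1 : ℤ)⟧' ≫
        (Sigma.ι (fun k => (E (a k))⟦m k⟧) k)⟦(1 : ℤ)⟧' =
        (eS (fun k => (E (a k))⟦m k⟧) S)⟦(1 : ℤ)⟧' := by
      simp [eS, Functor.map_sum]
    rw [hsum, hθ] at hgb
    obtain ⟨C', u, w, hT'⟩ := distinguished_cocone_triangle₁ g₁
    have hC' : FF C' := FF.ext_of_isTriangulatedClosed₁ _ hT' hC (env_le_FF E hc s₁ _ hE₁)
    have hu : u ≫ g₁ = 0 := comp_distTriang_mor_zero₁₂ _ hT'
    obtain ⟨ψ, hψ⟩ : ∃ ψ : C' ⟶ K n, u ≫ φ = ψ ≫ f n :=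
      Triangle.coyoneda_exact₃ _ hT (u ≫ φ) (by
        change (u ≫ φ) ≫ z = 0
        rw [Category.assoc, ← hgb, reassoc_of% hu, zero_comp])
    obtain ⟨s₂, F, g₂, h₂, hF, hgh⟩ := ih C' hC' ψ
    obtain ⟨C'', β, γ, hT''⟩ := distinguished_cocone_triangle (biprod.lift g₂ u : C' ⟶ F ⊞ C)
    obtain ⟨ε, hε⟩ : ∃ ε : C'' ⟶ K (n + 1), biprod.desc (h₂ ≫ f n) (-φ) = β ≫ ε :=
      Triangle.yoneda_exact₂ _ hT'' (biprod.desc (h₂ ≫ f n) (-φ)) (by
        change biprod.lift g₂ u ≫ biprod.desc (h₂ ≫ f n) (-φ) = 0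
        rw [biprod.lift_desc, reassoc_of% hgh, Preadditive.comp_neg, hψ, add_neg_cancel])
    refine ⟨s₁ ∪ s₂, C'', -(biprod.inr ≫ β), ε, ?_, ?_⟩
    · have : (Qs E (s₁ ∪ s₂)).Nonempty :=
        Qs_nonempty E (Finset.mem_union_left _ (Finset.mem_insert_self _ _))
      have hE₁' := env_mono E (Finset.subset_union_left (s₁ := s₁) (s₂ := s₂)) _ hE₁
      have hF' := env_mono E (Finset.subset_union_right (s₁ := s₁) (s₂ := s₂)) _ hF
      have h₂₃ : Triangle.mk (biprod.snd : F ⊞ C ⟶ C) (0 : C ⟶ F⟦(1 : ℤ)⟧)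
          (-(biprod.inl : F ⟶ F ⊞ C)⟦(1 : ℤ)⟧') ∈ distTriang D :=
        rot_of_distTriang _ (binaryBiproductTriangle_distinguished F C)
      have oct := Triangulated.someOctahedron (biprod.lift_snd g₂ u) hT'' h₂₃ hT'
      exact (Qs E (s₁ ∪ s₂)).triangEnvelope.ext_of_isTriangulatedClosed₁ _ oct.mem hE₁'
        ((Qs E (s₁ ∪ s₂)).triangEnvelope.le_shift (1 : ℤ) _ hF')
    · rw [Preadditive.neg_comp, Category.assoc, ← hε, biprod.inr_desc, neg_neg]

end Main

end Groth.Agent.Lib.Helper8.Compact
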