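import Mathlib.CategoryTheory.Abelian.Refinements
import Mathlib.CategoryTheory.Subobject.Lattice
import Mathlib.CategoryTheory.Subobject.Limits
import Mathlib.CategoryTheory.Simple
import Mathlib.CategoryTheory.Subobject.ArtinianObject
import Mathlib.CategoryTheory.Subobject.NoetherianObject
import Mathlib.Order.ModularLattice
import Mathlib.Order.JordanHolder
import Mathlib.Algebra.Homology.ShortComplex.ShortExact

/-!
# Helper8: the lattice of subobjects in an abelian category is modular; second isomorphism theorem
-/

universe v u

open CategoryTheory CategoryTheory.Limits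

namespace Groth.Agent.Lib.Helper8.SubLat1

variable {A : Type u} [Category.{v} A] [Abelian A] {X : A}

lemma factors_iff_comp_cokernel (P : Subobject X) {Z : A} (f : Z ⟶ X) :
    P.Factors f ↔ f ≫ cokernel.π P.arrow = 0 := by
  constructor
  · intro h
    rw [← P.factorThru_arrow f h, Category.assoc, cokernel.condition, comp_zero]
  · intro h
    rw [← Abelian.monoLift_comp P.arrow f h]
    exact Subobject.factors_comp_arrow _

lemma factors_of_epi_comp {Z' Z : A} (π : Z' ⟶ Z) [Epi π] (P : Subobject X) (f : Z ⟶ X)
    (h : P.Factors (π ≫ f)) : P.Factors f := by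
  rw [factors_iff_comp_cokernel] at h ⊢
  rw [Category.assoc] at h
  rw [← cancel_epi π, h, comp_zero]

lemma sup_eq_image (P Q : Subobject X) :
    P ⊔ Q = imageSubobject (biprod.desc P.arrow Q.arrow) := by
  apply le_antisymm
  · apply sup_le
    · apply Subobject.le_of_factors
      have := imageSubobject_factors_comp_self (f := biprod.desc P.arrow Q.arrow)
        (biprod.inl : (P : A) ⟶ _)
      rwa [biprod.inl_desc] at this
    · apply Subobject.le_of_factors
      have := imageSubobject_factors_comp_self (f := biprod.desc P.arrow Q.arrow)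
        (biprod.inr : (Q : A) ⟶ _)
      rwa [biprod.inr_desc] at this
  · refine imageSubobject_le _
      (biprod.desc (Subobject.ofLE P (P ⊔ Q) le_sup_left) (Subobject.ofLE Q (P ⊔ Q) le_sup_right)) ?_
    apply biprod.hom_ext' <;> simp

lemma sup_factors_iff (P Q : Subobject X) {Z : A} (f : Z ⟶ X) :
    (P ⊔ Q).Factors f ↔ ∃ (Z' : A) (π : Z' ⟶ Z) (_ : Epi π) (a : Z' ⟶ (P : A)) (b : Z' ⟶ (Q : A)),
      π ≫ f = a ≫ P.arrow + b ≫ Q.arrow := by
  constructor
  · intro h
    rw [sup_eq_image] at h
    obtain ⟨Z', π, hπ, c, hc⟩ := surjective_up_to_refinements_of_epi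
      (factorThruImageSubobject (biprod.desc P.arrow Q.arrow))
      ((imageSubobject (biprod.desc P.arrow Q.arrow)).factorThru f h)
    refine ⟨Z', π, hπ, c ≫ biprod.fst, c ≫ biprod.snd, ?_⟩
    have := congrArg (fun k => k ≫ (imageSubobject (biprod.desc P.arrow Q.arrow)).arrow) hc
    simp only [Category.assoc, Subobject.factorThru_arrow, imageSubobject_arrow_comp] at this
    rw [this, biprod.desc_eq]
    simp
  · rintro ⟨Z', π, hπ, a, b, hab⟩
    apply factors_of_epi_comp π
    rw [hab]
    apply Subobject.factors_add
    · exact Subobject.sup_factors_of_factors_left (Subobject.factors_comp_arrow a)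
    · exact Subobject.sup_factors_of_factors_right (Subobject.factors_comp_arrow b)

instance : IsModularLattice (Subobject X) where
  sup_inf_le_assoc_of_le {x} y {z} hxz := by
    apply Subobject.le_of_factors
    have h1 : (x ⊔ y).Factors ((x ⊔ y) ⊓ z).arrow := Subobject.inf_arrow_factors_left _ _
    have h2 : z.Factors ((x ⊔ y) ⊓ z).arrow := Subobject.inf_arrow_factors_right _ _
    obtain ⟨Z', π, hπ, a, b, hab⟩ := (sup_factors_iff x y _).1 h1
    apply factors_of_epi_comp π
    rw [hab]
    apply Subobject.factors_add
    · exact Subobject.sup_factors_of_factors_left (Subobject.factors_comp_arrow a)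
    · apply Subobject.sup_factors_of_factors_right
      rw [Subobject.inf_factors]
      refine ⟨Subobject.factors_comp_arrow b, ?_⟩
      have : b ≫ y.arrow = π ≫ ((x ⊔ y) ⊓ z).arrow + (-a) ≫ x.arrow := by
        rw [hab]; simp
      rw [this]
      apply Subobject.factors_add
      · exact Subobject.factors_of_factors_right π h2
      · exact Subobject.factors_of_le _ hxz (Subobject.factors_comp_arrow (-a))

end Groth.Agent.Lib.Helper8.SubLat1
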