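import Groth.Agent.Lib.Helper8.SubLat1

/-!
# Helper8: second isomorphism theorem for subobjects; covering relation and simple quotients
-/

universe v u

open CategoryTheory CategoryTheory.Limits

namespace Groth.Agent.Lib.Helper8.SubLat2

open SubLat1

variable {A : Type u} [Category.{v} A] [Abelian A] {X : A}

section SecondIso

variable (x y : Subobject X)

/-- `y ⟶ (x ⊔ y)/x` -/
noncomputable def ψ : (y : A) ⟶ cokernel (Subobject.ofLE x (x ⊔ y) le_sup_left) :=
  Subobject.ofLE y (x ⊔ y) le_sup_right ≫ cokernel.π _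

lemma inf_ψ : Subobject.ofLE (x ⊓ y) y inf_le_right ≫ ψ x y = 0 := by
  have : Subobject.ofLE (x ⊓ y) y inf_le_right ≫ Subobject.ofLE y (x ⊔ y) le_sup_right =
      Subobject.ofLE (x ⊓ y) x inf_le_left ≫ Subobject.ofLE x (x ⊔ y) le_sup_left := by
    rw [Subobject.ofLE_comp_ofLE, Subobject.ofLE_comp_ofLE]
  rw [ψ, reassoc_of% this, cokernel.condition, comp_zero]

instance epi_ψ : Epi (ψ x y) := by
  rw [epi_iff_surjective_up_to_refinements]
  intro Z t
  obtain ⟨Z₁, π₁, hπ₁, g₁, hg₁⟩ := surjective_up_to_refinements_of_epi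
    (cokernel.π (Subobject.ofLE x (x ⊔ y) le_sup_left)) t
  obtain ⟨Z₂, π₂, hπ₂, a, b, hab⟩ := (sup_factors_iff x y (g₁ ≫ (x ⊔ y).arrow)).1
    (Subobject.factors_comp_arrow g₁)
  refine ⟨Z₂, π₂ ≫ π₁, inferInstance, b, ?_⟩
  have h1 : π₂ ≫ g₁ = a ≫ Subobject.ofLE x (x ⊔ y) le_sup_left +
      b ≫ Subobject.ofLE y (x ⊔ y) le_sup_right := by
    rw [← cancel_mono (x ⊔ y).arrow]
    simp only [Category.assoc, Preadditive.add_comp, Subobject.ofLE_arrow]
    exact hab
  rw [Category.assoc, hg₁, reassoc_of% h1, ψ]
  simp

lemma exact_ψ : (ShortComplex.mk _ _ (inf_ψ x y)).Exact := by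
  rw [ShortComplex.exact_iff_exact_up_to_refinements]
  intro Z a ha
  dsimp only at a ha
  have h1 : (a ≫ Subobject.ofLE y (x ⊔ y) le_sup_right) ≫
      cokernel.π (Subobject.ofLE x (x ⊔ y) le_sup_left) = 0 := by
    rw [Category.assoc]; exact ha
  have h2 := Abelian.monoLift_comp (Subobject.ofLE x (x ⊔ y) le_sup_left) _ h1
  have h3 : a ≫ y.arrow = Abelian.monoLift (Subobject.ofLE x (x ⊔ y) le_sup_left) _ h1 ≫
      x.arrow := by
    have := congrArg (fun k => k ≫ (x ⊔ y).arrow) h2
    simp only [Category.assoc, Subobject.ofLE_arrow] at this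
    exact this.symm
  have h4 : (x ⊓ y).Factors (a ≫ y.arrow) := by
    rw [Subobject.inf_factors]
    refine ⟨?_, Subobject.factors_comp_arrow a⟩
    rw [h3]
    exact Subobject.factors_comp_arrow _
  refine ⟨Z, 𝟙 Z, inferInstance, (x ⊓ y).factorThru _ h4, ?_⟩
  dsimp only
  rw [Category.id_comp, ← cancel_mono y.arrow, Category.assoc, Subobject.ofLE_arrow,
    Subobject.factorThru_arrow]

lemma shortExact_ψ : (ShortComplex.mk _ _ (inf_ψ x y)).ShortExact where
  exact := exact_ψ x y
  mono_f := by dsimp; infer_instance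
  epi_g := by dsimp; infer_instance

/-- The second isomorphism theorem. -/
noncomputable def secondIso : cokernel (Subobject.ofLE x (x ⊔ y) le_sup_left) ≅
    cokernel (Subobject.ofLE (x ⊓ y) y inf_le_right) :=
  IsColimit.coconePointUniqueUpToIso (shortExact_ψ x y).gIsCokernel
    (colimit.isColimit _)

end SecondIso


section Cov

variable {F G : Subobject X}

lemma eq_of_isZero_cokernel (h : F ≤ G) (hz : IsZero (cokernel (Subobject.ofLE F G h))) :
    F = G := by
  apply le_antisymm h
  apply Subobject.le_of_factors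
  have h1 : 𝟙 (G : A) ≫ cokernel.π (Subobject.ofLE F G h) = 0 := hz.eq_of_tgt _ _
  have h2 := Abelian.monoLift_comp (Subobject.ofLE F G h) _ h1
  have : G.arrow = Abelian.monoLift (Subobject.ofLE F G h) _ h1 ≫ F.arrow := by
    rw [← Subobject.ofLE_arrow h, ← Category.assoc, h2, Category.id_comp]
  rw [this]
  exact Subobject.factors_comp_arrow _

lemma covBy_of_simple (h : F ≤ G) [Simple (cokernel (Subobject.ofLE F G h))] : F ⋖ G := by
  constructor
  · refine lt_of_le_of_ne h (fun e => ?_)
    subst e
    apply Simple.not_isZero (cokernel (Subobject.ofLE F F h))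
    have : IsIso (Subobject.ofLE F F h) := by
      rw [Subobject.ofLE_refl]; infer_instance
    exact isZero_cokernel_of_epi _
  · intro H hFH hHG
    by_cases hφ : Subobject.ofLE H G hHG.le ≫ cokernel.π (Subobject.ofLE F G h) = 0
    · -- H ≤ F
      have h2 := Abelian.monoLift_comp (Subobject.ofLE F G h) _ hφ
      have : H.arrow = Abelian.monoLift (Subobject.ofLE F G h) _ hφ ≫ F.arrow := by
        rw [← Subobject.ofLE_arrow h, ← Category.assoc, h2, Subobject.ofLE_arrow]
      have hle : H ≤ F := by
        apply Subobject.le_of_factors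
        rw [this]
        exact Subobject.factors_comp_arrow _
      exact (not_le_of_gt hFH) hle
    · -- G ≤ H
      have hepi : Epi (Subobject.ofLE H G hHG.le ≫ cokernel.π (Subobject.ofLE F G h)) :=
        epi_of_nonzero_to_simple hφ
      obtain ⟨Z', ρ, hρ, b, hb⟩ := surjective_up_to_refinements_of_epi
        (Subobject.ofLE H G hHG.le ≫ cokernel.π (Subobject.ofLE F G h))
        (cokernel.π (Subobject.ofLE F G h))
      have h1 : (ρ - b ≫ Subobject.ofLE H G hHG.le) ≫ cokernel.π (Subobject.ofLE F G h) = 0 := by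
        rw [Preadditive.sub_comp, Category.assoc, hb, sub_self]
      have h2 := Abelian.monoLift_comp (Subobject.ofLE F G h) _ h1
      have h3 : ρ ≫ G.arrow = Abelian.monoLift (Subobject.ofLE F G h) _ h1 ≫ F.arrow +
          b ≫ H.arrow := by
        have := congrArg (fun k => k ≫ G.arrow) h2
        simp only [Category.assoc, Subobject.ofLE_arrow, Preadditive.sub_comp] at this
        rw [this]; abel
      have hle : G ≤ H := by
        apply Subobject.le_of_factors
        apply factors_of_epi_comp ρ
        rw [h3]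
        apply Subobject.factors_add
        · exact Subobject.factors_of_le _ hFH.le (Subobject.factors_comp_arrow _)
        · exact Subobject.factors_comp_arrow _
      exact (not_le_of_gt hHG) hle

lemma simple_of_covBy (hc : F ⋖ G) : Simple (cokernel (Subobject.ofLE F G hc.le)) := by
  have hnz : ¬ IsZero (cokernel (Subobject.ofLE F G hc.le)) := fun hz =>
    hc.lt.ne (eq_of_isZero_cokernel hc.le hz)
  have : Nontrivial (Subobject (cokernel (Subobject.ofLE F G hc.le))) :=
    Subobject.nontrivial_of_not_isZero hnz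
  obtain ⟨π, hπ⟩ : ∃ π, π = cokernel.π (Subobject.ofLE F G hc.le) := ⟨_, rfl⟩
  have hπ0 : Subobject.ofLE F G hc.le ≫ π = 0 := by rw [hπ, cokernel.condition]
  have hπe : Epi π := by rw [hπ]; infer_instance
  have : IsSimpleOrder (Subobject (cokernel (Subobject.ofLE F G hc.le))) := by
    refine ⟨fun Q => ?_⟩
    let k := pullback.snd Q.arrow π
    let H : Subobject X := Subobject.mk (k ≫ G.arrow)
    have hFH : F ≤ H := by
      refine Subobject.le_mk_of_comm (pullback.lift 0 (Subobject.ofLE F G hc.le) ?_) ?_
      · rw [zero_comp, hπ0]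
      · rw [← Category.assoc, pullback.lift_snd, Subobject.ofLE_arrow]
    have hHG : H ≤ G := Subobject.mk_le_of_comm k rfl
    rcases hc.eq_or_eq hFH hHG with hH | hH
    · -- H = F : Q = ⊥
      left
      have hle : H ≤ F := hH.le
      have h1 : (Subobject.underlyingIso (k ≫ G.arrow)).inv ≫ H.arrow = k ≫ G.arrow :=
        Subobject.underlyingIso_arrow _
      have h2 : k = ((Subobject.underlyingIso (k ≫ G.arrow)).inv ≫ Subobject.ofLE H F hle) ≫
          Subobject.ofLE F G hc.le := by
        rw [← cancel_mono G.arrow]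
        simp only [Category.assoc, Subobject.ofLE_arrow]
        exact h1.symm
      have h3 : k ≫ π = 0 := by
        rw [h2, Category.assoc, hπ0, comp_zero]
      have h4 : pullback.fst Q.arrow π ≫ Q.arrow = 0 := by
        rw [pullback.condition]; exact h3
      have h6 : Q.arrow = 0 := by
        rw [← cancel_epi (pullback.fst Q.arrow π), h4, comp_zero]
      rw [← Subobject.mk_arrow Q]
      exact Subobject.mk_eq_bot_iff_zero.2 h6
    · -- H = G : Q = ⊤
      right
      have hle : G ≤ H := hH.ge
      have h1 : Subobject.ofLE G H hle ≫ (Subobject.underlyingIso (k ≫ G.arrow)).hom ≫ k ≫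
          G.arrow = G.arrow := by
        rw [Subobject.underlyingIso_hom_comp_eq_mk, Subobject.ofLE_arrow]
      have h2 : (Subobject.ofLE G H hle ≫ (Subobject.underlyingIso (k ≫ G.arrow)).hom) ≫ k =
          𝟙 _ := by
        rw [← cancel_mono G.arrow]
        simp only [Category.assoc, Category.id_comp]
        exact h1
      have h3 : Q.Factors π := by
        have : π = ((Subobject.ofLE G H hle ≫ (Subobject.underlyingIso (k ≫ G.arrow)).hom) ≫
            pullback.fst Q.arrow π) ≫ Q.arrow := by
          rw [Category.assoc, pullback.condition, ← Category.assoc, h2, Category.id_comp]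
        rw [this]
        exact Subobject.factors_comp_arrow _
      have h4 : Q.Factors (𝟙 _) := by
        apply factors_of_epi_comp π
        rw [Category.comp_id]; exact h3
      apply top_le_iff.1
      apply Subobject.le_of_factors
      have : (⊤ : Subobject (cokernel (Subobject.ofLE F G hc.le))).arrow =
          (⊤ : Subobject (cokernel (Subobject.ofLE F G hc.le))).arrow ≫ 𝟙 _ := by simp
      rw [this]
      exact Subobject.factors_of_factors_right _ h4
  exact simple_of_isSimpleOrder_subobject _

lemma simple_iff_covBy (h : F ≤ G) : Simple (cokernel (Subobject.ofLE F G h)) ↔ F ⋖ G :=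
  ⟨fun _ => covBy_of_simple h, fun hc => simple_of_covBy hc⟩

end Cov

end Groth.Agent.Lib.Helper8.SubLat2
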