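import Groth.Agent.Lib.Helper28.DualInv
import Groth.Agent.Lib.Helper28.InvTensor
import Groth.Agent.Lib.Helper28.SecPow
import Groth.Agent.Lib.Helper28.AmpleSep
import Groth.Agent.Lib.Helper28.TensorIso
import Groth.Prelude.Def_ClSub2

/-! # Helper8 — the dual of an invertible module is a tensor inverse: `L^∨ ⊗ L ≅ O_X` -/
set_option autoImplicit false
universe u
open CategoryTheory CategoryTheory.Limits AlgebraicGeometry Opposite TopologicalSpace
noncomputable section

namespace Groth.Agent.Lib.Helper8.InvInverse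

open Groth.Agent.Lib.Helper28 Groth.Agent.Lib.Helper28.QCohLoc Groth.Agent.Lib.Helper28.GenLocus
  Groth.Agent.Lib.Helper28.TensorGen Groth.Agent.Lib.Helper28.HomMod

variable {X : Scheme.{u}} {L : X.Modules}

theorem coef_res_eq {U : X.Opens} {g : Γ(L, U)} (hg : IsGen L U g) {V : X.Opens} (hV : V ≤ U)
    {W : X.Opens} (h : W ≤ V) (x : Γ(L, W)) :
    (hg.res hV).coef h x = hg.coef (h.trans hV) x := by
  apply (hg.res hV).coef_eq
  rw [res_res]
  exact hg.coef_smul (h.trans hV) x

theorem res_gdual {U : X.Opens} {g : Γ(L, U)} (hg : IsGen L U g) {V : X.Opens} (hV : V ≤ U) :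
    res (dual L) hV (gdual hg) = gdual (hg.res hV) := by
  apply ext_evO
  intro W hW x
  rw [res_evO, evO_gdual, evO_gdual, coef_res_eq]

/-- the canonical local section `g^∨ ⊗ g` of `L^∨ ⊗ L` -/
def can {U : X.Opens} {g : Γ(L, U)} (hg : IsGen L U g) : Γ(CohB1.tensorMod (dual L) L, U) :=
  tmulSec (dual L) L (gdual hg) g

theorem can_res {U : X.Opens} {g : Γ(L, U)} (hg : IsGen L U g) {V : X.Opens} (hV : V ≤ U) :
    res (CohB1.tensorMod (dual L) L) hV (can hg) = can (hg.res hV) := by
  unfold can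
  rw [tmulSec_res, res_gdual]

theorem can_indep {U : X.Opens} {g g' : Γ(L, U)} (hg : IsGen L U g) (hg' : IsGen L U g') :
    can hg = can hg' := by
  unfold can
  set u : Γ(X, U) := hg.coef le_rfl g' with hu
  have h1 : (u • g : Γ(L, U)) = g' := by
    have := hg.coef_smul le_rfl g'
    rwa [res_self] at this
  have h2 : gdual hg = (u • gdual hg' : Γ(dual L, U)) := by
    apply ext_evO
    intro W hW x
    rw [smul_evO, evO_gdual, evO_gdual]
    apply hg.coef_eq
    rw [mul_smul]
    have h3 : (resO hW u • res L hW g : Γ(L, W)) = res L hW g' := by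
      rw [← h1, res_smul]
    rw [smul_comm, h3]
    exact hg'.coef_smul hW x
  rw [h2, tmulSec_smul_left, ← tmulSec_smul_right, h1]

/-- a local-generator cover -/
theorem exists_global (hL : PicF.IsInvertible L) :
    ∃ σ : Γ(CohB1.tensorMod (dual L) L, ⊤), ∀ (U : X.Opens) (g : Γ(L, U)) (hg : IsGen L U g),
      res (CohB1.tensorMod (dual L) L) (le_top : U ≤ ⊤) σ = can hg := by
  let ι := {p : Σ U : X.Opens, Γ(L, U) // IsGen L p.1 p.2}
  obtain ⟨σ, hσ⟩ := exists_gluing (M := CohB1.tensorMod (dual L) L) (fun i : ι => i.1.1) ⊤ (fun _ => le_top)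
    (by
      intro x _
      obtain ⟨U, g, hxU, hg⟩ := exists_isGen L hL x
      exact Opens.mem_iSup.mpr ⟨⟨⟨U, g⟩, hg⟩, hxU⟩)
    (fun i => can i.2) (by
      intro i j
      rw [can_res, can_res]
      exact can_indep _ _)
  exact ⟨σ, fun U g hg => hσ ⟨⟨U, g⟩, hg⟩⟩

/-- **the dual of an invertible module is a tensor inverse** -/
theorem nonempty_dual_tensor_iso (hL : PicF.IsInvertible L) :
    Nonempty (CohB1.tensorMod (dual L) L ≅ Coh.structureModule X) := by
  obtain ⟨σ, hσ⟩ := exists_global hL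
  let ψ : Coh.structureModule X ⟶ CohB1.tensorMod (dual L) L := TwistGen.ofSection _ σ
  have hgen : CohB1.genLocus _ ψ = ⊤ := by
    rw [eq_top_iff]
    intro x _
    obtain ⟨U, g, hxU, hg⟩ := exists_isGen L hL x
    have h1 := genLocus_inf_eq ψ U (can hg) (InvTensor.isGen_tmulSec (dual L) L (isGen_gdual hg) hg) 1 (by
      rw [secOf_ofSection, hσ U g hg, one_smul])
    have h2 : x ∈ CohB1.genLocus _ ψ ⊓ U := by
      rw [h1, X.basicOpen_of_isUnit isUnit_one]
      exact hxU
    exact h2.1
  haveI : IsIso ψ :=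
    TensorIso.isIso_of_bijective_on_basis ψ (fun _ => True) (fun U x hx => ⟨U, trivial, hx, le_rfl⟩)
      (fun W _ => bijective_app_of_le_genLocus ψ W (by rw [hgen]; exact le_top))
  exact ⟨(asIso ψ).symm⟩

theorem isInverseOf_dual (hL : PicF.IsInvertible L) : ClSub.IsInverseOf (dual L) L :=
  nonempty_dual_tensor_iso hL

/-- every invertible module has an invertible tensor inverse -/
theorem exists_isInverseOf (hL : PicF.IsInvertible L) :
    ∃ M : X.Modules, PicF.IsInvertible M ∧ ClSub.IsInverseOf M L :=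
  ⟨dual L, isInvertible_dual hL, isInverseOf_dual hL⟩

end Groth.Agent.Lib.Helper8.InvInverse
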