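import Mathlib
import Groth.Agent.Lib.Helper29.MeroGen
import Groth.Agent.Lib.Helper29.QCohStalk2
import Groth.Agent.Lib.Helper17.StalkExact

/-! # Helper8 — invertible modules on integral schemes: torsion-freeness, nonzero maps are mono, generic stalk of the cokernel vanishes -/
set_option autoImplicit false

universe u

open CategoryTheory CategoryTheory.Limits AlgebraicGeometry Opposite TopologicalSpace

namespace Groth.Agent.Lib.Helper8.CurveInv

open Groth.Agent.Lib.Helper28.QCohLoc Groth.Agent.Lib.Helper29.QCohStalk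
  Groth.Agent.Lib.Helper29.MeroGen Groth.Agent.Lib.Helper17.StalkExact

variable {X : Scheme.{u}}

/-- a morphism of modules vanishing on all sections is zero -/
theorem hom_eq_zero_of_app {F G : X.Modules} (φ : F ⟶ G)
    (h : ∀ (U : X.Opens) (t : Γ(F, U)), φ.app U t = 0) : φ = 0 := by
  apply Scheme.Modules.hom_ext
  intro U
  ext x
  exact h U x

/-- a morphism of modules injective on all sections is a monomorphism -/
theorem mono_of_app_injective {F G : X.Modules} (φ : F ⟶ G)
    (h : ∀ U : X.Opens, Function.Injective (φ.app U)) : Mono φ := by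
  apply Preadditive.mono_of_cancel_zero
  intro C g hg
  apply Scheme.Modules.hom_ext
  intro U
  ext x
  apply h U
  have : (g ≫ φ).app U x = 0 := by rw [hg]; rfl
  exact this.trans (map_zero _).symm

section integral

variable [IsIntegral X]

theorem resO_injective {U V : X.Opens} (h : V ≤ U) (hV : (V : Set X).Nonempty) :
    Function.Injective (resO h : Γ(X, U) → Γ(X, V)) := by
  haveI : Nonempty V := hV.to_subtype
  exact map_injective_of_isIntegral X (homOfLE h)

/-- torsion-freeness of invertible modules on integral schemes: a section vanishing on a nonempty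
open subset vanishes -/
theorem eq_zero_of_res_eq_zero {L : X.Modules} (hL : PicF.IsInvertible L) {U V : X.Opens}
    (hVU : V ≤ U) (hV : (V : Set X).Nonempty) (t : Γ(L, U)) (h : res L hVU t = 0) : t = 0 := by
  apply eq_zero_of_forall_gm_eq_zero
  intro z hz
  obtain ⟨W, hzW, e, he⟩ := exists_isGen hL z
  obtain ⟨T₁, h1, hzT₁, c, hc⟩ := he.gen (inf_le_right : U ⊓ W ≤ W) (res L inf_le_left t) z
    ⟨hz, hzW⟩
  have hne : ((T₁ ⊓ V : X.Opens) : Set X).Nonempty :=
    nonempty_preirreducible_inter T₁.2 V.2 ⟨z, hzT₁⟩ hV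
  have h2 : (resO (inf_le_left : T₁ ⊓ V ≤ T₁) c •
      res L ((inf_le_left : T₁ ⊓ V ≤ T₁).trans (h1.trans inf_le_right)) e : Γ(L, T₁ ⊓ V)) = 0 := by
    have h3 := congrArg (res L (inf_le_left : T₁ ⊓ V ≤ T₁)) hc
    rw [res_smul, res_res, res_res, res_res] at h3
    rw [← h3]
    have h4 : res L ((inf_le_right : T₁ ⊓ V ≤ V).trans hVU) t = 0 := by
      rw [← res_res L hVU inf_le_right, h, res_zero]
    exact h4
  have h4 := he.indep _ _ h2
  have h5 : c = 0 := resO_injective inf_le_left hne (h4.trans (map_zero _).symm)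
  have h6 := congrArg (gm L T₁ z hzT₁) hc
  rw [gm_res, gm_res, h5, zero_smul, gm_zero] at h6
  exact h6

/-- torsion-freeness, germ version -/
theorem eq_zero_of_gm_eq_zero {L : X.Modules} (hL : PicF.IsInvertible L) (U : X.Opens)
    (t : Γ(L, U)) (y : X) (hy : y ∈ U) (h : gm L U y hy t = 0) : t = 0 := by
  have h0 : gm L U y hy t = gm L U y hy 0 := by rw [h, gm_zero]
  obtain ⟨W, hyW, iU, iV, hres⟩ := TopCat.Presheaf.germ_eq L.presheaf y hy hy _ _ h0
  have hres' : res L iU.le t = 0 := by
    have : L.presheaf.map iV.op (0 : Γ(L, U)) = 0 := map_zero _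
    rw [this] at hres
    exact hres
  exact eq_zero_of_res_eq_zero hL iU.le ⟨y, hyW⟩ t hres'

variable {N L : X.Modules}

omit [IsIntegral X] in
/-- local form of a morphism of invertible modules: multiplication by a function -/
theorem exists_local_form (hN : PicF.IsInvertible N) (hL : PicF.IsInvertible L) (φ : N ⟶ L)
    (y : X) : ∃ (T : X.Opens) (_ : y ∈ T) (e : Γ(N, T)) (e' : Γ(L, T)) (c : Γ(X, T)),
      IsGen N T e ∧ IsGen L T e' ∧ φ.app T e = c • e' := by
  obtain ⟨W, hyW, e, he⟩ := exists_isGen hN y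
  obtain ⟨W', hyW', e', he'⟩ := exists_isGen hL y
  obtain ⟨T, h2, hyT, c, hc⟩ := he'.gen (inf_le_right : W ⊓ W' ≤ W')
    (φ.app (W ⊓ W') (res N inf_le_left e)) y ⟨hyW, hyW'⟩
  refine ⟨T, hyT, res N (h2.trans inf_le_left) e, res L (h2.trans inf_le_right) e', c,
    he.mono _, he'.mono _, ?_⟩
  rw [← hc, ← app_res, res_res]

omit [IsIntegral X] in
/-- stalk version of the local form -/
theorem stalkHom_gm_gen {T : X.Opens} {e : Γ(N, T)} {e' : Γ(L, T)} {c : Γ(X, T)} (φ : N ⟶ L)
    (hc : φ.app T e = c • e') (y : X) (hy : y ∈ T) :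
    stalkHom φ y (gm N T y hy e) = X.presheaf.germ T y hy c • gm L T y hy e' := by
  have h1 : stalkHom φ y (gm N T y hy e) = gm L T y hy (φ.app T e) := stalkHom_germ φ y T hy e
  rw [h1, hc, gm_smul]

/-- if the coefficient function of a local form vanishes, the morphism is zero -/
theorem eq_zero_of_local_form (hL : PicF.IsInvertible L) (φ : N ⟶ L) {T : X.Opens}
    (hT : (T : Set X).Nonempty) {e : Γ(N, T)} (he : IsGen N T e) (h0 : φ.app T e = 0) : φ = 0 := by
  apply hom_eq_zero_of_app
  intro V t'
  by_cases hV : (V : Set X).Nonempty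
  · obtain ⟨z, hzV, hzT⟩ : ((V ⊓ T : X.Opens) : Set X).Nonempty :=
      nonempty_preirreducible_inter V.2 T.2 hV hT
    apply eq_zero_of_gm_eq_zero hL V _ z hzV
    obtain ⟨b, hb⟩ := he.stalk_gen z hzT (gm N V z hzV t')
    have h1 : gm L V z hzV (φ.app V t') = stalkHom φ z (gm N V z hzV t') :=
      (stalkHom_germ φ z V hzV t').symm
    rw [h1, hb, stalkHom_smul]
    have h2 : stalkHom φ z (gm N T z hzT e) = gm L T z hzT (φ.app T e) := stalkHom_germ φ z T hzT e
    rw [h2, h0, gm_zero, smul_zero]
  · apply eq_zero_of_forall_gm_eq_zero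
    intro x hx
    exact absurd ⟨x, hx⟩ hV

/-- a nonzero morphism of invertible modules on an integral scheme is injective on sections -/
theorem app_injective (hN : PicF.IsInvertible N) (hL : PicF.IsInvertible L) (φ : N ⟶ L)
    (hφ : φ ≠ 0) (U : X.Opens) : Function.Injective (φ.app U) := by
  rw [injective_iff_map_eq_zero]
  intro t ht
  by_contra htne
  apply hφ
  obtain ⟨y, hy, hgy⟩ : ∃ y, ∃ hy : y ∈ U, gm N U y hy t ≠ 0 := by
    by_contra hcon
    apply htne
    apply eq_zero_of_forall_gm_eq_zero U t
    intro x hx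
    by_contra h
    exact hcon ⟨x, hx, h⟩
  obtain ⟨T, hyT, e, e', c, he, he', hc⟩ := exists_local_form hN hL φ y
  obtain ⟨a, ha⟩ := he.stalk_gen y hyT (gm N U y hy t)
  have ha0 : a ≠ 0 := by
    rintro rfl
    rw [zero_smul] at ha
    exact hgy ha
  have h1 : stalkHom φ y (gm N U y hy t) = 0 := by
    have : stalkHom φ y (gm N U y hy t) = gm L U y hy (φ.app U t) := stalkHom_germ φ y U hy t
    rw [this, ht, gm_zero]
  rw [ha, stalkHom_smul, stalkHom_gm_gen φ hc y hyT, ← mul_smul] at h1
  have h2 := he'.stalk_indep y hyT _ h1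
  have h3 : X.presheaf.germ T y hyT c = 0 := by
    rcases mul_eq_zero.1 h2 with h | h
    · exact absurd h ha0
    · exact h
  have h4 : c = 0 := by
    apply germ_injective_of_isIntegral X y hyT
    rw [h3, map_zero]
  apply eq_zero_of_local_form hL φ ⟨y, hyT⟩ he
  rw [hc, h4, zero_smul]

/-- a nonzero morphism of invertible modules on an integral scheme is a monomorphism -/
theorem mono_of_ne_zero (hN : PicF.IsInvertible N) (hL : PicF.IsInvertible L) (φ : N ⟶ L)
    (hφ : φ ≠ 0) : Mono φ :=
  mono_of_app_injective φ (app_injective hN hL φ hφ)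

/-- the stalk at the generic point of a nonzero morphism of invertible modules is surjective -/
theorem stalkHom_genericPoint_surjective (hN : PicF.IsInvertible N) (hL : PicF.IsInvertible L)
    (φ : N ⟶ L) (hφ : φ ≠ 0) : Function.Surjective (stalkHom φ (genericPoint X)) := by
  obtain ⟨T, hyT, e, e', c, he, he', hc⟩ := exists_local_form hN hL φ (genericPoint X)
  have hF : IsField (X.presheaf.stalk (genericPoint X)) :=
    isField_stalk_of_closure_mem_irreducibleComponents X _
      (by simp [irreducibleComponents_eq_singleton])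
  have hr : X.presheaf.germ T (genericPoint X) hyT c ≠ 0 := by
    intro h3
    have h4 : c = 0 := by
      apply germ_injective_of_isIntegral X (genericPoint X) hyT
      rw [h3, map_zero]
    apply hφ
    apply eq_zero_of_local_form hL φ ⟨genericPoint X, hyT⟩ he
    rw [hc, h4, zero_smul]
  obtain ⟨r', hr'⟩ := hF.mul_inv_cancel hr
  intro m
  obtain ⟨b, hb⟩ := he'.stalk_gen (genericPoint X) hyT m
  refine ⟨(b * r') • gm N T (genericPoint X) hyT e, ?_⟩
  rw [stalkHom_smul, stalkHom_gm_gen φ hc (genericPoint X) hyT, ← mul_smul, hb, mul_assoc,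
    mul_comm r', hr', mul_one]

/-- the generic point is not in the support of the cokernel of a nonzero morphism of invertible
modules -/
theorem genericPoint_notMem_support_cokernel (hN : PicF.IsInvertible N)
    (hL : PicF.IsInvertible L) (φ : N ⟶ L) (hφ : φ ≠ 0) :
    genericPoint X ∉ CohB1.support (cokernel φ) := by
  intro hmem
  apply hmem
  refine ⟨fun q q' => ?_⟩
  have key : ∀ q : (cokernel φ).presheaf.stalk (genericPoint X), q = 0 := by
    intro q
    obtain ⟨m, rfl⟩ := stalkHom_surjective_of_epi (cokernel.π φ) (genericPoint X) q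
    obtain ⟨n, rfl⟩ := stalkHom_genericPoint_surjective hN hL φ hφ m
    have hS : (ShortComplex.mk φ (cokernel.π φ) (cokernel.condition φ)).Exact :=
      ShortComplex.exact_cokernel φ
    have := (stalkHom_exact_of_exact _ hS (genericPoint X)).apply_apply_eq_zero n
    exact this
  rw [key q, key q']

end integral

end Groth.Agent.Lib.Helper8.CurveInv
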