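import Mathlib
import Groth.Prelude.Def_CurvBase
import Groth.Agent.Lib.Helper4.EulerAdd
import Groth.Agent.Lib.Helper2.SerreFin1
import Groth.Agent.Lib.Helper6.DevCore
import Groth.Agent.S0016
import Groth.Agent.S0002

/-! # Helper8 — Euler characteristic over a field: finiteness (S0002), vanishing bound (S0016), additivity, LES rank inequalities, iso-invariance -/
set_option autoImplicit false

universe u

open CategoryTheory CategoryTheory.Limits AlgebraicGeometry

namespace Groth.Agent.Lib.Helper8.EulerK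

open Groth.Agent.Lib.Helper2.HLesLin Groth.Agent.Lib.Helper4.HLesFin1 Groth.Agent.Lib.Helper2.SerreFin1

section LinAlg

variable {K : Type*} [Field K] {V₁ V₂ V₃ : Type*} [AddCommGroup V₁] [Module K V₁]
  [AddCommGroup V₂] [Module K V₂] [AddCommGroup V₃] [Module K V₃]

/-- middle term of a three term exact sequence of finite-dimensional spaces -/
lemma finrank_le_of_exact (f : V₁ →ₗ[K] V₂) (g : V₂ →ₗ[K] V₃)
    (h : LinearMap.range f = LinearMap.ker g) [Module.Finite K V₁] [Module.Finite K V₂]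
    [Module.Finite K V₃] :
    Module.finrank K V₂ ≤ Module.finrank K V₁ + Module.finrank K V₃ := by
  have h1 := LinearMap.finrank_range_add_finrank_ker g
  have h2 : Module.finrank K (LinearMap.ker g) ≤ Module.finrank K V₁ := by
    rw [← h]
    exact LinearMap.finrank_range_le f
  have h3 : Module.finrank K (LinearMap.range g) ≤ Module.finrank K V₃ :=
    Submodule.finrank_le _
  omega

lemma finrank_le_of_injective' (f : V₁ →ₗ[K] V₂) (hf : Function.Injective f)
    [Module.Finite K V₂] : Module.finrank K V₁ ≤ Module.finrank K V₂ :=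
  LinearMap.finrank_le_finrank_of_injective hf

end LinAlg

variable (k : Type u) [Field k] (X : Scheme.{u}) [X.Over (Spec (CommRingCat.of k))]
  [IsProper (X ↘ Spec (CommRingCat.of k))]

lemma finite_HH (M : X.Modules) (hM : Coh.IsCoh M) (i : ℕ) : Module.Finite k (Coh.HH X M i) :=
  Groth.Agent.S0002.result k X M hM i

include k in
lemma isLocallyNoetherian : IsLocallyNoetherian X :=
  LocallyOfFiniteType.isLocallyNoetherian (X ↘ Spec (CommRingCat.of k))

include k in
lemma exists_bound : ∃ d : ℕ, ∀ (M : X.Modules), Coh.IsQCoh M → ∀ p : ℕ, d ≤ p →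
    Subsingleton (Coh.HH X M p) := by
  haveI : IsLocallyNoetherian X := isLocallyNoetherian k X
  haveI : CompactSpace X := QuasiCompact.compactSpace_of_compactSpace (X ↘ Spec (CommRingCat.of k))
  haveI : IsNoetherian X := { }
  exact Groth.Agent.S0016.result X

omit [IsProper (X ↘ Spec (CommRingCat.of k))] in
lemma euler_eq_sum (M : X.Modules) (d : ℕ)
    (hd : ∀ p : ℕ, d ≤ p → Subsingleton (Coh.HH X M p)) :
    Curv2.euler k X M =
      (Finset.range d).sum fun i => (-1 : ℤ) ^ i * (Module.finrank k (Coh.HH X M i) : ℤ) := by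
  unfold Curv2.euler
  apply finsum_eq_sum_of_support_subset
  intro i hi
  rw [Function.mem_support] at hi
  rw [Finset.coe_range, Set.mem_Iio]
  by_contra h
  rw [not_lt] at h
  haveI := hd i h
  apply hi
  rw [Module.finrank_zero_of_subsingleton]
  simp

/-- additivity of the Euler characteristic -/
theorem euler_add (S : ShortComplex X.Modules) (hS : S.ShortExact)
    (h₁ : Coh.IsCoh S.X₁) (h₂ : Coh.IsCoh S.X₂) (h₃ : Coh.IsCoh S.X₃) :
    Curv2.euler k X S.X₂ = Curv2.euler k X S.X₁ + Curv2.euler k X S.X₃ := by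
  obtain ⟨d, hd⟩ := exists_bound k X
  rw [euler_eq_sum k X S.X₁ (d + 1) (fun p hp => hd _ h₁.1 p (by omega)),
    euler_eq_sum k X S.X₂ (d + 1) (fun p hp => hd _ h₂.1 p (by omega)),
    euler_eq_sum k X S.X₃ (d + 1) (fun p hp => hd _ h₃.1 p (by omega))]
  have h := Groth.Agent.Lib.Helper4.EulerAdd.euler_add k X S hS h₁ h₂ h₃ d
    (fun i hi => ⟨hd _ h₁.1 i (by omega), hd _ h₂.1 i (by omega), hd _ h₃.1 i (by omega)⟩)
  have hconv : ∀ (M : X.Modules), Coh.IsCoh M → ∀ i : ℕ,
      ((Module.length k (Coh.HH X M i)).toNat : ℤ) = (Module.finrank k (Coh.HH X M i) : ℤ) := by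
    intro M hM i
    haveI := finite_HH k X M hM i
    rw [Module.length_eq_finrank]
    rfl
  simp only [hconv _ h₁, hconv _ h₂, hconv _ h₃] at h
  exact h

section LES

variable {X}
variable (S : ShortComplex X.Modules) (hS : S.ShortExact)
  (h₁ : Coh.IsCoh S.X₁) (h₂ : Coh.IsCoh S.X₂) (h₃ : Coh.IsCoh S.X₃)

/-- abbreviation: dimension of cohomology -/
noncomputable def hh (M : X.Modules) (i : ℕ) : ℕ := Module.finrank k (Coh.HH X M i)

include hS h₁ h₂ h₃ in
lemma hh₂_le (i : ℕ) : hh k S.X₂ i ≤ hh k S.X₁ i + hh k S.X₃ i := by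
  haveI := finite_HH k X _ h₁ i
  haveI := finite_HH k X _ h₂ i
  haveI := finite_HH k X _ h₃ i
  exact finrank_le_of_exact _ _ (range_eq_ker₂ S hS k i)

include hS h₁ h₂ h₃ in
lemma hh₃_le (i : ℕ) : hh k S.X₃ i ≤ hh k S.X₂ i + hh k S.X₁ (i + 1) := by
  haveI := finite_HH k X _ h₁ (i + 1)
  haveI := finite_HH k X _ h₂ i
  haveI := finite_HH k X _ h₃ i
  exact finrank_le_of_exact _ _ (range_eq_ker₃ S hS k i)

include hS h₁ h₂ h₃ in
lemma hh₁_succ_le (i : ℕ) : hh k S.X₁ (i + 1) ≤ hh k S.X₃ i + hh k S.X₂ (i + 1) := by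
  haveI := finite_HH k X _ h₁ (i + 1)
  haveI := finite_HH k X _ h₂ (i + 1)
  haveI := finite_HH k X _ h₃ i
  exact finrank_le_of_exact _ _ (range_eq_ker₁ S hS k i)

include hS h₂ in
lemma hh₁_zero_le : hh k S.X₁ 0 ≤ hh k S.X₂ 0 := by
  haveI := finite_HH k X _ h₂ 0
  exact LinearMap.finrank_le_finrank_of_injective (injective_zero S hS k)

end LES

/-- iso-invariance of the dimension of cohomology -/
lemma hh_congr {X : Scheme.{u}} [X.Over (Spec (CommRingCat.of k))] {M M' : X.Modules} (e : M ≅ M')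
    (i : ℕ) : hh k M i = hh k M' i := by
  refine LinearEquiv.finrank_eq (LinearEquiv.ofLinearMap (Canon.HHlin k e.hom i) (Canon.HHlin k e.inv i) ?_ ?_)
  · ext y
    exact (HHlin_comp_apply k e.inv e.hom i y).trans
      (by rw [e.inv_hom_id]; exact HHlin_id_apply k i y)
  · ext y
    exact (HHlin_comp_apply k e.hom e.inv i y).trans
      (by rw [e.hom_inv_id]; exact HHlin_id_apply k i y)

/-- iso-invariance of the Euler characteristic -/
lemma euler_congr {X : Scheme.{u}} [X.Over (Spec (CommRingCat.of k))] {M M' : X.Modules}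
    (e : M ≅ M') : Curv2.euler k X M = Curv2.euler k X M' := by
  unfold Curv2.euler
  exact finsum_congr fun i => by
    have := hh_congr k e i
    unfold hh at this
    rw [this]

end Groth.Agent.Lib.Helper8.EulerK
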