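import Mathlib
import Groth.Agent.Lib.Helper8.EulerK
import Groth.Agent.Lib.Helper8.CurveInv1
import Groth.Agent.Lib.Helper17.ZeroSupp
import Groth.Agent.Lib.Helper6.K0Op

/-! # Helper8 — degree comparison on integral proper curves: chi(F) = chi(E) + h0(coker) for generically iso monos, closed-point supports, nonzero H0 of skyscraper-like modules -/
set_option autoImplicit false

universe u

open CategoryTheory CategoryTheory.Limits AlgebraicGeometry Opposite TopologicalSpace

namespace Groth.Agent.Lib.Helper8.CurveDeg

open Groth.Agent.Lib.Helper8.EulerK Groth.Agent.Lib.Helper8.CurveInv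

section top

variable {X : Scheme.{u}} [IsIntegral X]

/-- in an integral scheme of dimension at most one every point other than the generic point is
closed (as in `Helper13.CDivLib`) -/
theorem isClosed_singleton_of_ne_genericPoint (hdim : topologicalKrullDim X ≤ 1) (z : X)
    (hz : z ≠ genericPoint X) : IsClosed ({z} : Set X) := by
  rw [← closure_eq_iff_isClosed]
  apply Set.Subset.antisymm _ subset_closure
  intro y hy
  rw [Set.mem_singleton_iff]
  let T₀ : IrreducibleCloseds X := ⟨closure {y}, isIrreducible_singleton.closure, isClosed_closure⟩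
  let T₁ : IrreducibleCloseds X := ⟨closure {z}, isIrreducible_singleton.closure, isClosed_closure⟩
  let T₂ : IrreducibleCloseds X :=
    ⟨closure {genericPoint X}, isIrreducible_singleton.closure, isClosed_closure⟩
  have h01 : T₀ ≤ T₁ := by
    change closure {y} ⊆ closure {z}
    exact closure_minimal (Set.singleton_subset_iff.mpr hy) isClosed_closure
  have h12 : T₁ ≤ T₂ := by
    change closure {z} ⊆ closure {genericPoint X}
    rw [(genericPoint_spec X).def]
    exact Set.subset_univ _
  rcases (Order.krullDim_le_one_iff.mp hdim) T₁ with hmin | hmax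
  · have h10 : T₁ ≤ T₀ := hmin h01
    have hzy : z ∈ closure ({y} : Set X) := h10 (subset_closure rfl)
    have h1 : y ⤳ z := specializes_iff_mem_closure.mpr hzy
    have h2 : z ⤳ y := specializes_iff_mem_closure.mpr hy
    exact (h1.antisymm h2).eq
  · exfalso
    apply hz
    have h21 : T₂ ≤ T₁ := hmax h12
    have hηz : genericPoint X ∈ closure ({z} : Set X) := h21 (subset_closure rfl)
    have h1 : z ⤳ genericPoint X := specializes_iff_mem_closure.mpr hηz
    have h2 : genericPoint X ⤳ z := (genericPoint_spec X).specializes trivial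
    exact (h1.antisymm h2).eq

/-- the cokernel of a nonzero morphism of invertible modules on an integral scheme of dimension at
most one is supported in closed points -/
theorem support_cokernel_closedPoints (hdim : topologicalKrullDim X ≤ 1) {N L : X.Modules}
    (hN : PicF.IsInvertible N) (hL : PicF.IsInvertible L) (φ : N ⟶ L) (hφ : φ ≠ 0) :
    ∀ x ∈ CohB1.support (cokernel φ), IsClosed ({x} : Set X) := by
  intro x hx
  apply isClosed_singleton_of_ne_genericPoint hdim
  rintro rfl
  exact genericPoint_notMem_support_cokernel hN hL φ hφ hx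

end top

section flasque

variable {X : Scheme.{u}}

/-- a coherent module supported in closed points is acyclic (explicit-hypothesis form of
`Helper17.ZeroSupp.subsingleton_HH_of_support_closedPoints`) -/
theorem subsingleton_HH_succ [IsLocallyNoetherian X] (M : X.Modules) (hcM : Coh.IsCoh M)
    (h0 : ∀ x ∈ CohB1.support M, IsClosed ({x} : Set X)) (n : ℕ) :
    Subsingleton (Coh.HH X M (n + 1)) :=
  @Groth.Agent.Lib.Helper17.ZeroSupp.subsingleton_HH_of_support_closedPoints _ M _ hcM.1 hcM.2 h0 n

/-- a nonzero coherent module supported in closed points has a nonzero global section, hence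
nontrivial `H⁰` -/
theorem nontrivial_HH_zero [IsLocallyNoetherian X] (M : X.Modules) (hcM : Coh.IsCoh M)
    (h0 : ∀ x ∈ CohB1.support M, IsClosed ({x} : Set X)) (hM : ¬ IsZero M) :
    Nontrivial (Coh.HH X M 0) := by
  have hsupp : (CohB1.support M).Nonempty := by
    by_contra h
    exact hM (Groth.Agent.Lib.Helper6.DevCore.isZero_of_support_eq_empty M
      (Set.not_nonempty_iff_eq_empty.1 h))
  obtain ⟨x, hx⟩ := hsupp
  haveI := @Groth.Agent.Lib.Helper17.ZeroSupp.isFlasque_of_support_closedPoints _ M _ hcM.1 hcM.2 h0
  obtain ⟨m, hm⟩ : ∃ m : M.presheaf.stalk x, m ≠ 0 := by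
    by_contra hcon
    apply hx
    refine ⟨fun a b => ?_⟩
    have key : ∀ c : M.presheaf.stalk x, c = 0 := fun c => by
      by_contra hc
      exact hcon ⟨c, hc⟩
    rw [key a, key b]
  obtain ⟨W, hxW, t, rfl⟩ := TopCat.Presheaf.exists_germ_eq M.presheaf m
  have hepi : Epi ((Coh.toAb M).obj.map (homOfLE (le_top : W ≤ ⊤)).op) :=
    TopCat.Presheaf.IsFlasque.epi _
  rw [AddCommGrpCat.epi_iff_surjective] at hepi
  obtain ⟨T, hT⟩ := hepi t
  have hTne : T ≠ 0 := by
    rintro rfl
    rw [map_zero] at hT
    apply hm
    rw [← hT]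
    exact map_zero _
  let e := Sheaf.H.equiv₀ (Coh.toAb M) Limits.isTerminalTop
  refine ⟨⟨e.symm T, 0, fun h => hTne ?_⟩⟩
  have := congrArg e h
  rw [AddEquiv.apply_symm_apply, map_zero] at this
  exact this

end flasque

section main

variable (k : Type u) [Field k] (X : Scheme.{u}) [X.Over (Spec (CommRingCat.of k))]
  [IsIntegral X] [IsProper (X ↘ Spec (CommRingCat.of k))]

/-- on an integral proper curve, for a monomorphism `f : E ⟶ F` of coherent modules which is
generically an isomorphism: `χ(F) = χ(E) + h⁰(coker f)`, and `f` is an isomorphism if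
`h⁰(coker f) = 0` -/
theorem euler_eq_add_of_mono (hdim : topologicalKrullDim X ≤ 1) (E F : X.Modules)
    (hcE : Coh.IsCoh E) (hcF : Coh.IsCoh F) (f : E ⟶ F) [Mono f]
    (hgen : genericPoint X ∉ CohB1.support (cokernel f)) :
    Curv2.euler k X F = Curv2.euler k X E + (Module.finrank k (Coh.HH X (cokernel f) 0) : ℤ) ∧
      (Module.finrank k (Coh.HH X (cokernel f) 0) = 0 → IsIso f) := by
  haveI : IsLocallyNoetherian X := isLocallyNoetherian k X
  have hcQ := Groth.Agent.Lib.Helper6.DevCore.isCoh_cokernel f hcE hcF
  have h0 : ∀ x ∈ CohB1.support (cokernel f), IsClosed ({x} : Set X) := by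
    intro x hx
    apply isClosed_singleton_of_ne_genericPoint hdim
    rintro rfl
    exact hgen hx
  have hS : (ShortComplex.mk f (cokernel.π f) (cokernel.condition f)).ShortExact :=
    { exact := ShortComplex.exact_cokernel f
      mono_f := by dsimp; infer_instance
      epi_g := by dsimp; infer_instance }
  have hadd := euler_add k X _ hS hcE hcF hcQ
  have hQ : Curv2.euler k X (cokernel f) = (Module.finrank k (Coh.HH X (cokernel f) 0) : ℤ) := by
    rw [euler_eq_sum k X (cokernel f) 1 (fun p hp => by
      obtain ⟨n, rfl⟩ := Nat.exists_eq_succ_of_ne_zero (by omega : p ≠ 0)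
      exact subsingleton_HH_succ (cokernel f) hcQ h0 n)]
    simp
  refine ⟨?_, fun hzero => ?_⟩
  · rw [← hQ]
    exact hadd
  · have hZ : IsZero (cokernel f) := by
      by_contra hnz
      haveI := nontrivial_HH_zero (cokernel f) hcQ h0 hnz
      haveI := finite_HH k X (cokernel f) hcQ 0
      have := Module.finrank_pos (R := k) (M := Coh.HH X (cokernel f) 0)
      omega
    haveI : Epi f := Preadditive.epi_of_isZero_cokernel f hZ
    exact isIso_of_mono_of_epi f

/-- on an integral proper curve, for a nonzero morphism `φ : N ⟶ L` of invertible modules: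
`χ(L) = χ(N) + h⁰(coker φ)`, and `φ` is an isomorphism if `h⁰(coker φ) = 0` -/
theorem euler_eq_add (hdim : topologicalKrullDim X ≤ 1) (N L : X.Modules)
    (hN : PicF.IsInvertible N) (hL : PicF.IsInvertible L) (φ : N ⟶ L) (hφ : φ ≠ 0) :
    Curv2.euler k X L = Curv2.euler k X N + (Module.finrank k (Coh.HH X (cokernel φ) 0) : ℤ) ∧
      (Module.finrank k (Coh.HH X (cokernel φ) 0) = 0 → IsIso φ) := by
  haveI : Mono φ := mono_of_ne_zero hN hL φ hφ
  exact euler_eq_add_of_mono k X hdim N L
    (Groth.Agent.Lib.Helper6.K0Op.isCoh_of_isInvertible N hN)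
    (Groth.Agent.Lib.Helper6.K0Op.isCoh_of_isInvertible L hL) φ
    (genericPoint_notMem_support_cokernel hN hL φ hφ)

/-- degree comparison for a nonzero morphism of invertible modules on an integral proper curve -/
theorem deg_le (hdim : topologicalKrullDim X ≤ 1) (N L : X.Modules)
    (hN : PicF.IsInvertible N) (hL : PicF.IsInvertible L) (φ : N ⟶ L) (hφ : φ ≠ 0) :
    Curv2.deg k X N 1 ≤ Curv2.deg k X L 1 ∧
      (Curv2.deg k X N 1 = Curv2.deg k X L 1 → IsIso φ) := by
  obtain ⟨h1, h2⟩ := euler_eq_add k X hdim N L hN hL φ hφ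
  unfold Curv2.deg
  refine ⟨by omega, fun h => h2 (by omega)⟩

omit [X.Over (Spec (CommRingCat.of k))] [IsIntegral X] in
/-- the structure sheaf is invertible -/
theorem isInvertible_structureModule : PicF.IsInvertible (Coh.structureModule X) :=
  Groth.Agent.Lib.Helper28.AmpleUnit.isInvertible_structureModule X

omit [IsIntegral X] [IsProper (X ↘ Spec (CommRingCat.of k))] in
/-- the degree of the structure sheaf is zero -/
theorem deg_structureModule : Curv2.deg k X (Coh.structureModule X) 1 = 0 := by
  unfold Curv2.deg
  simp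

end main

end Groth.Agent.Lib.Helper8.CurveDeg
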