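import Groth.Agent.S7637
import Groth.Agent.Lib.Helper8.InvInverse
import Groth.Agent.Lib.Helper8.CurveDeg1
import Groth.Agent.Lib.Helper28.TensorPowGen

/-! # Helper8 — the subgroup of `ℤ` of degrees of invertible modules on a proper curve -/
set_option autoImplicit false
universe u
open CategoryTheory CategoryTheory.Limits AlgebraicGeometry Opposite TopologicalSpace
noncomputable section

namespace Groth.Agent.Lib.Helper8.DegGroup

open Groth.Agent.Lib.Helper8.EulerK Groth.Agent.Lib.Helper8.CurveDeg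

variable (k : Type u) [Field k] (X : Scheme.{u}) [X.Over (Spec (CommRingCat.of k))]
  [IsProper (X ↘ Spec (CommRingCat.of k))]

/-- degree of a tensor product of invertible modules -/
theorem deg_tensorMod (hdim : topologicalKrullDim X ≤ 1) {L M : X.Modules} (hL : PicF.IsInvertible L)
    (hM : PicF.IsInvertible M) :
    Curv2.deg k X (CohB1.tensorMod L M) 1 = Curv2.deg k X L 1 + Curv2.deg k X M 1 := by
  have h := Groth.Agent.S7637.result k X hdim 1 1 L M
    (Groth.Agent.Lib.Helper6.K0Op.isFinLocFreeOfRank_one_of_isInvertible _ hL)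
    (Groth.Agent.Lib.Helper6.K0Op.isFinLocFreeOfRank_one_of_isInvertible _ hM)
  have h2 : Curv2.deg k X (CohB1.tensorMod L M) 1 = Curv2.deg k X M 1 + Curv2.deg k X L 1 := by
    simpa using h
  rw [h2, add_comm]

/-- degree of an inverse -/
theorem deg_inverse_eq_neg (hdim : topologicalKrullDim X ≤ 1) {L M : X.Modules}
    (hL : PicF.IsInvertible L) (hM : PicF.IsInvertible M) (hML : ClSub.IsInverseOf M L) :
    Curv2.deg k X M 1 = - Curv2.deg k X L 1 := by
  obtain ⟨e⟩ := hML
  have h := deg_tensorMod k X hdim hM hL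
  have h0 : Curv2.deg k X (CohB1.tensorMod M L) 1 = 0 := by
    unfold Curv2.deg
    rw [euler_congr k e]
    simp
  rw [h0] at h
  omega

/-- the subgroup of degrees of invertible modules -/
def degSubgroup (hdim : topologicalKrullDim X ≤ 1) : AddSubgroup ℤ where
  carrier := {n | ∃ L : X.Modules, PicF.IsInvertible L ∧ Curv2.deg k X L 1 = n}
  zero_mem' := ⟨Coh.structureModule X, isInvertible_structureModule X, deg_structureModule k X⟩
  add_mem' := by
    rintro a b ⟨L, hL, rfl⟩ ⟨M, hM, rfl⟩
    exact ⟨CohB1.tensorMod L M, Groth.Agent.Lib.Helper28.GenLocus.isInvertible_tensorMod hL hM,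
      deg_tensorMod k X hdim hL hM⟩
  neg_mem' := by
    rintro a ⟨L, hL, rfl⟩
    obtain ⟨M, hM, hML⟩ := Groth.Agent.Lib.Helper8.InvInverse.exists_isInverseOf hL
    exact ⟨M, hM, deg_inverse_eq_neg k X hdim hL hM hML⟩

theorem mem_degSubgroup (hdim : topologicalKrullDim X ≤ 1) {L : X.Modules} (hL : PicF.IsInvertible L) :
    Curv2.deg k X L 1 ∈ degSubgroup k X hdim := ⟨L, hL, rfl⟩

/-- a subgroup of `ℤ` containing a family of naturals contains their gcd -/
theorem gcd_mem {ι : Type*} (G : AddSubgroup ℤ) (s : Finset ι) (f : ι → ℕ)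
    (h : ∀ i ∈ s, (f i : ℤ) ∈ G) : ((s.gcd f : ℕ) : ℤ) ∈ G := by
  classical
  induction s using Finset.induction_on with
  | empty => simp
  | insert a s ha ih =>
    rw [Finset.gcd_insert]
    have h1 : (f a : ℤ) ∈ G := h a (Finset.mem_insert_self a s)
    have h2 : ((s.gcd f : ℕ) : ℤ) ∈ G := ih fun i hi => h i (Finset.mem_insert_of_mem hi)
    show ((Nat.gcd (f a) (s.gcd f) : ℕ) : ℤ) ∈ G
    rw [Nat.gcd_eq_gcd_ab]
    refine G.add_mem ?_ ?_
    · rw [mul_comm]
      exact G.zsmul_mem h1 _
    · rw [mul_comm]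
      exact G.zsmul_mem h2 _

end Groth.Agent.Lib.Helper8.DegGroup
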