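import Groth.Agent.Lib.Helper8.DegTensor
import Groth.Prelude.Def_BlowUp2
import Mathlib
set_option backward.isDefEq.respectTransparency.types false
/-! # Helper8 — effective Cartier divisors on proper schemes of dimension ≤ 1: support in closed points, finite over the base field, χ(E ⊗ O(D)) = χ(E) + n·h⁰(O_D) -/
set_option autoImplicit false
universe u
open CategoryTheory CategoryTheory.Limits AlgebraicGeometry

namespace Groth.Agent.Lib.Helper8.EffCart
open Groth.Agent.Lib.Helper8.EulerK Groth.Agent.Lib.Helper8.CurveTensor Groth.Agent.Lib.Helper8.PtSupp2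
open Groth.Agent.Lib.Helper29.QCohStalk

/-- in a T0 space of dimension at most one, a proper specialization is a closed point -/
theorem isClosed_singleton_of_specializes {T : Type*} [TopologicalSpace T] [T0Space T]
    (hdim : topologicalKrullDim T ≤ 1) {y z : T} (h : y ⤳ z) (hne : y ≠ z) :
    IsClosed ({z} : Set T) := by
  rw [← closure_eq_iff_isClosed]
  apply Set.Subset.antisymm _ subset_closure
  intro w hw
  rw [Set.mem_singleton_iff]
  let T₀ : TopologicalSpace.IrreducibleCloseds T :=
    ⟨closure {w}, isIrreducible_singleton.closure, isClosed_closure⟩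
  let T₁ : TopologicalSpace.IrreducibleCloseds T :=
    ⟨closure {z}, isIrreducible_singleton.closure, isClosed_closure⟩
  let T₂ : TopologicalSpace.IrreducibleCloseds T :=
    ⟨closure {y}, isIrreducible_singleton.closure, isClosed_closure⟩
  have h01 : T₀ ≤ T₁ := by
    change closure {w} ⊆ closure {z}
    exact closure_minimal (Set.singleton_subset_iff.mpr hw) isClosed_closure
  have h12 : T₁ ≤ T₂ := by
    change closure {z} ⊆ closure {y}
    exact closure_minimal (Set.singleton_subset_iff.mpr (specializes_iff_mem_closure.1 h))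
      isClosed_closure
  rcases (Order.krullDim_le_one_iff.mp hdim) T₁ with hmin | hmax
  · have h10 : T₁ ≤ T₀ := hmin h01
    have hzw : z ∈ closure ({w} : Set T) := h10 (subset_closure rfl)
    have h1 : w ⤳ z := specializes_iff_mem_closure.mpr hzw
    have h2 : z ⤳ w := specializes_iff_mem_closure.mpr hw
    exact (h1.antisymm h2).eq
  · exfalso
    apply hne
    have h21 : T₂ ≤ T₁ := hmax h12
    have hyz : y ∈ closure ({z} : Set T) := h21 (subset_closure rfl)
    have h1 : z ⤳ y := specializes_iff_mem_closure.mpr hyz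
    exact (h.antisymm h1).eq

/-- the support of an effective Cartier divisor on a scheme of dimension at most one consists of
closed points -/
theorem isClosed_singleton_of_mem_support {X : Scheme.{u}} (hdim : topologicalKrullDim X ≤ 1)
    (D : X.IdealSheafData) (hD : BlowUp.IsEffCartierIdeal D) (x : X) (hx : x ∈ D.support) :
    IsClosed ({x} : Set X) := by
  obtain ⟨U, hxU, f, hf, hDf⟩ := hD x
  have hU : IsAffineOpen U.1 := U.2
  have hxf : x ∉ X.basicOpen f := by
    have h1 := (Scheme.IdealSheafData.mem_support_iff_of_mem (I := D) hxU).1 hx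
    rw [hDf] at h1
    intro h2
    have h3 := (Scheme.mem_zeroLocus_iff _ _ x).1 h1 f (Ideal.subset_span rfl)
    exact h3 h2
  have hfp : f ∈ germPrime U.1 x hxU := (mem_germPrime_iff_notMem_basicOpen U.1 x hxU f).2 hxf
  obtain ⟨q, hq, hqp⟩ := Ideal.exists_minimalPrimes_le (bot_le : (⊥ : Ideal Γ(X, U.1)) ≤ germPrime U.1 x hxU)
  haveI : q.IsPrime := hq.1.1
  have hfq : f ∉ q := fun h =>
    Set.disjoint_left.mp (Ideal.disjoint_nonZeroDivisors_of_mem_minimalPrimes hq) h hf
  obtain ⟨p, hp⟩ := exists_fromSpec_eq hU hxU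
  have hpe : p.asIdeal = germPrime U.1 x hxU := by
    rw [← germPrime_fromSpec hU p]
    congr 1
  set y := hU.fromSpec ⟨q, inferInstance⟩ with hy
  have hspec : y ⤳ x := by
    rw [← hp]
    apply Specializes.map _ hU.fromSpec.continuous
    refine (PrimeSpectrum.le_iff_specializes (⟨q, inferInstance⟩ : PrimeSpectrum Γ(X, U.1)) p).1 ?_
    change q ≤ p.asIdeal
    rw [hpe]
    exact hqp
  have hne : y ≠ x := by
    intro h
    apply hfq
    have h1 := germPrime_fromSpec hU ⟨q, inferInstance⟩
    have h2 : germPrime U.1 y (fromSpec_mem hU _) = germPrime U.1 x hxU := by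
      congr 1
    rw [← show germPrime U.1 y (fromSpec_mem hU _) = q from h1, h2]
    exact hfp
  exact isClosed_singleton_of_specializes hdim hspec hne

section proper

variable (k : Type u) [Field k] (X : Scheme.{u}) [X.Over (Spec (CommRingCat.of k))]
  [IsProper (X ↘ Spec (CommRingCat.of k))]

include k in
/-- a coherent module supported in closed points has finite support -/
theorem exists_finset_of_closedPoints (F : X.Modules) (hF : Coh.IsCoh F)
    (hpt : ∀ x ∈ CohB1.support F, IsClosed ({x} : Set X)) :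
    ∃ S : Finset X, (∀ z ∈ S, IsClosed ({z} : Set X)) ∧ CohB1.support F = (S : Set X) := by
  haveI : F.IsQuasicoherent := hF.1
  haveI : SheafOfModules.IsFiniteType.{u} (R := X.ringCatSheaf) F := hF.2
  haveI : IsLocallyNoetherian X := isLocallyNoetherian k X
  haveI : CompactSpace X := QuasiCompact.compactSpace_of_compactSpace (X ↘ Spec (CommRingCat.of k))
  have hfin : (CohB1.support F).Finite := by
    obtain ⟨t, ht⟩ := isCompact_univ.elim_finite_subcover (fun U : X.affineOpens => (U.1 : Set X))
      (fun U => U.1.isOpen) (by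
        intro x _
        obtain ⟨_, ⟨U, hU, rfl⟩, hxU, -⟩ :=
          X.isBasis_affineOpens.exists_subset_of_mem_open (Set.mem_univ x) isOpen_univ
        exact Set.mem_iUnion.2 ⟨⟨U, hU⟩, hxU⟩)
    refine Set.Finite.subset (t.finite_toSet.biUnion (t := fun U => CohB1.support F ∩ (U.1 : Set X))
      (fun U _ => ?_)) ?_
    · haveI : IsNoetherianRing Γ(X, U.1) := IsLocallyNoetherian.component_noetherian U
      exact Groth.Agent.Lib.Helper17.ZeroSupp.finite_support_inter F hpt U.2
    · intro x hx
      obtain ⟨U, hUt, hxU⟩ := Set.mem_iUnion₂.1 (ht (Set.mem_univ x))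
      exact Set.mem_biUnion hUt ⟨hx, hxU⟩
  refine ⟨hfin.toFinset, fun z hz => hpt z (hfin.mem_toFinset.1 hz), ?_⟩
  rw [Set.Finite.coe_toFinset]

/-- a closed subscheme supported in finitely many closed points is finite over the base field -/
theorem isFinite_of_closedPoints (D : X.IdealSheafData) (hfin : (D.support : Set X).Finite)
    (hpt : ∀ x ∈ D.support, IsClosed ({x} : Set X)) :
    IsFinite (D.subschemeι ≫ (X ↘ Spec (CommRingCat.of k))) := by
  have hinj : Function.Injective D.subschemeι := D.subschemeι.isEmbedding.injective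
  haveI : Finite (Set.range D.subschemeι) := by
    rw [D.range_subschemeι]
    exact hfin.to_subtype
  haveI : Finite D.subscheme := Finite.of_injective_finite_range hinj
  haveI : T1Space D.subscheme := ⟨fun z => by
    have h1 : ({z} : Set D.subscheme) = D.subschemeι ⁻¹' {D.subschemeι z} := by
      ext w
      simp only [Set.mem_singleton_iff, Set.mem_preimage]
      exact ⟨fun h => h ▸ rfl, fun h => hinj h⟩
    rw [h1]
    refine (hpt _ ?_).preimage D.subschemeι.continuous
    have : D.subschemeι z ∈ Set.range D.subschemeι := ⟨z, rfl⟩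
    rw [D.range_subschemeι] at this
    exact this⟩
  haveI : DiscreteTopology D.subscheme := inferInstance
  haveI : IsAffine D.subscheme := inferInstance
  exact IsFinite.iff_isProper_and_isAffineHom.2 ⟨inferInstance, inferInstance⟩

open Groth.Agent.Lib.Helper6.DevCore Groth.Agent.Lib.Helper6.DevRed in
/-- `χ(E ⊗ L) = χ(E) + n h⁰(O_D)` for `L` inverse to the ideal of a divisor supported in closed points -/
theorem euler_tensor_inverse (D : X.IdealSheafData)
    (hpt : ∀ x ∈ D.support, IsClosed ({x} : Set X))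
    (L : X.Modules) (hL : PicF.IsInvertible L) (hLD : ClSub.IsInverseOf L (ClSub.idealMod D))
    (n : ℕ) (E : X.Modules) (hE : FlatMod.IsFinLocFreeOfRank n E) :
    Curv2.euler k X (CohB1.tensorMod E L) =
      Curv2.euler k X E + n * Module.finrank k (Coh.HH X (ClSub.quotMod D) 0) := by
  haveI : IsLocallyNoetherian X := isLocallyNoetherian k X
  have hL1 := Groth.Agent.Lib.Helper6.K0Op.isFinLocFreeOfRank_one_of_isInvertible L hL
  have hLc := isCoh_of_isFinLocFreeOfRank L hL1
  have hEc := isCoh_of_isFinLocFreeOfRank E hE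
  have hcQ : Coh.IsCoh (ClSub.quotMod D) := isCoh_quotMod D
  have hcO : Coh.IsCoh (Coh.structureModule X) := isCoh_structureModule
  have hcI : Coh.IsCoh (ClSub.idealMod D) := isCoh_kernel _ hcO hcQ
  obtain ⟨S, hScl, hS⟩ := exists_finset_of_closedPoints k X (ClSub.quotMod D) hcQ (by
    rw [support_quotMod]; exact hpt)
  have hses := Groth.Agent.Lib.Helper17.Serre.idealSES_shortExact D
  have hT₁ := Groth.Agent.Lib.Helper6.K0Op.shortExact_tensor_of_flat L
    (Groth.Agent.Lib.Helper6.K0Op.isFlat_of_isFinLocFreeOfRank L hL1) _ hses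
  have hT₂ := Groth.Agent.Lib.Helper6.K0Op.shortExact_tensor_of_flat E
    (Groth.Agent.Lib.Helper6.K0Op.isFlat_of_isFinLocFreeOfRank E hE) _ hT₁
  have c1 := Groth.Agent.Lib.Helper6.K0Op.isCoh_tensorMod L _ hLc hcI
  have c2 := Groth.Agent.Lib.Helper6.K0Op.isCoh_tensorMod L _ hLc hcO
  have c3 := Groth.Agent.Lib.Helper6.K0Op.isCoh_tensorMod L _ hLc hcQ
  have e := euler_add k X _ hT₂
    (Groth.Agent.Lib.Helper6.K0Op.isCoh_tensorMod E _ hEc c1)
    (Groth.Agent.Lib.Helper6.K0Op.isCoh_tensorMod E _ hEc c2)
    (Groth.Agent.Lib.Helper6.K0Op.isCoh_tensorMod E _ hEc c3)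
  have e' : Curv2.euler k X (CohB1.tensorMod E (CohB1.tensorMod L (Coh.structureModule X))) =
      Curv2.euler k X (CohB1.tensorMod E (CohB1.tensorMod L (ClSub.idealMod D))) +
      Curv2.euler k X (CohB1.tensorMod E (CohB1.tensorMod L (ClSub.quotMod D))) := e
  obtain ⟨i1⟩ := hLD
  obtain ⟨uE⟩ := Groth.Agent.Lib.Helper28.AmpleUnit.nonempty_tensor_unit_iso E
  obtain ⟨uL⟩ := Groth.Agent.Lib.Helper28.AmpleUnit.nonempty_tensor_unit_iso L
  have j1 : CohB1.tensorMod E (CohB1.tensorMod L (ClSub.idealMod D)) ≅ E :=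
    (DCoh.tensorBi.obj E).mapIso i1 ≪≫ uE
  have j2 : CohB1.tensorMod E (CohB1.tensorMod L (Coh.structureModule X)) ≅ CohB1.tensorMod E L :=
    (DCoh.tensorBi.obj E).mapIso uL
  rw [euler_congr k j1, euler_congr k j2] at e'
  -- the skyscraper term
  have hsupp3 : CohB1.support (CohB1.tensorMod L (ClSub.quotMod D)) ⊆ (S : Set X) := by
    rw [← hS]
    exact Groth.Agent.Lib.Helper6.K0Op.support_tensorMod_subset L _ hLc hcQ
  have t1 := euler_tensor_of_finset k X _ c3 S hScl hsupp3 n E hE
  have t2 := euler_tensor_of_finset k X _ hcQ S hScl hS.le 1 L hL1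
  have b1 := euler_congr k (Groth.Agent.Lib.Helper6.K0Inv.braidIso E
    (CohB1.tensorMod L (ClSub.quotMod D)))
  have b2 := euler_congr k (Groth.Agent.Lib.Helper6.K0Inv.braidIso L (ClSub.quotMod D))
  rw [b1, t1, b2, t2] at e'
  -- χ(O_D) = h⁰(O_D)
  haveI : (ClSub.quotMod D).IsQuasicoherent := hcQ.1
  haveI : SheafOfModules.IsFiniteType.{u} (R := X.ringCatSheaf) (ClSub.quotMod D) := hcQ.2
  have hχ : Curv2.euler k X (ClSub.quotMod D) =
      (Module.finrank k (Coh.HH X (ClSub.quotMod D) 0) : ℤ) := by
    rw [euler_eq_sum k X _ 1 (fun p hp => by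
      obtain ⟨q, rfl⟩ : ∃ q, p = q + 1 := ⟨p - 1, by omega⟩
      exact Groth.Agent.Lib.Helper17.ZeroSupp.subsingleton_HH_of_support_closedPoints _
        (fun x hx => hScl x (by rw [hS] at hx; exact hx)) q)]
    simp
  rw [hχ] at e'
  rw [e']
  push_cast
  ring

end proper

end Groth.Agent.Lib.Helper8.EffCart
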