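import Groth.Agent.Lib.Helper17.ZeroSupp
import Groth.Agent.Lib.Helper6.K0Tensor
import Groth.Agent.Lib.Helper8.EulerK
import Mathlib
set_option backward.isDefEq.respectTransparency.types false
/-! # Helper8 — modules supported in finitely many closed points: Γ(X,M) ≃ Π_z M_z (k-linear), stalks of F ⊗ (locally free), h⁰ as sum of stalk dimensions -/
set_option autoImplicit false
universe u
open CategoryTheory CategoryTheory.Limits Opposite TopologicalSpace AlgebraicGeometry
open Groth.Agent.Lib.Helper28.QCohLoc Groth.Agent.Lib.Helper29.QCohStalk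

namespace Groth.Agent.Lib.Helper8.PtSupp

variable {X : Scheme.{u}} (M : X.Modules)

theorem subsingleton_stalk_of_notMem {z : X} (hz : z ∉ CohB1.support M) :
    Subsingleton (M.presheaf.stalk z) := by
  unfold CohB1.support at hz
  rw [Set.mem_ofPred_eq, not_not] at hz
  exact hz

/-- a global section whose germs at the points of a set containing the support vanish is zero -/
theorem eq_zero_of_gm_eq_zero (S : Set X) (hS : CohB1.support M ⊆ S) (s : Γ(M, ⊤))
    (h : ∀ z ∈ S, gm M ⊤ z trivial s = 0) : s = 0 := by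
  refine TopCat.Presheaf.section_ext (⟨M.presheaf, M.isSheaf⟩ : TopCat.Sheaf Ab X) ⊤ s 0 ?_
  intro x hx
  by_cases hxS : x ∈ S
  · rw [map_zero]; exact h x hxS
  · haveI := subsingleton_stalk_of_notMem M (fun h' => hxS (hS h'))
    exact Subsingleton.elim _ _

/-- germs at finitely many closed points containing the support can be prescribed arbitrarily -/
theorem exists_section (S : Set X) (hfin : S.Finite) (hcl : ∀ z ∈ S, IsClosed ({z} : Set X))
    (hS : CohB1.support M ⊆ S) (m : ∀ z : X, M.presheaf.stalk z) :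
    ∃ s : Γ(M, ⊤), ∀ z ∈ S, gm M ⊤ z trivial s = m z := by
  classical
  have hclS : ∀ A : Set X, A ⊆ S → IsClosed A := fun A hA => by
    have : A = ⋃ a ∈ A, {a} := (Set.biUnion_of_singleton _).symm
    rw [this]
    exact (hfin.subset hA).isClosed_biUnion fun a ha => hcl a (hA ha)
  have hrep : ∀ z : X, ∃ (V : X.Opens) (hz : z ∈ V) (t : Γ(M, V)), gm M V z hz t = m z := fun z => by
    obtain ⟨V, hz, t, ht⟩ := TopCat.Presheaf.exists_germ_eq M.presheaf (m z)
    exact ⟨V, hz, t, ht⟩
  choose V hzV t ht using hrep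
  let W : X → X.Opens := fun z => V z ⊓ ⟨(S \ {z})ᶜ, (hclS _ Set.sdiff_subset).isOpen_compl⟩
  have hWV : ∀ z, W z ≤ V z := fun z => inf_le_left
  have hzW : ∀ z, z ∈ W z := fun z => ⟨hzV z, fun h => h.2 rfl⟩
  have hWS : ∀ z x, x ∈ W z → x ∈ S → x = z := fun z x hx hxS => by
    by_contra hne
    exact hx.2 ⟨hxS, hne⟩
  let sf : ∀ z, Γ(M, W z) := fun z => if z ∈ S then res M (hWV z) (t z) else 0
  obtain ⟨s, hs⟩ := exists_gluing M W ⊤ (fun _ => le_top)
    (fun x _ => Opens.mem_iSup.2 ⟨x, hzW x⟩) sf (by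
      intro a b
      by_cases hab : a = b
      · subst hab; rfl
      · have hzero : ∀ u : Γ(M, W a ⊓ W b), u = 0 := fun u =>
          Groth.Agent.Lib.Helper17.ZeroSupp.eq_zero_of_forall_notMem_support M u fun x hx hxS =>
            hab ((hWS a x hx.1 (hS hxS)).symm.trans (hWS b x hx.2 (hS hxS)))
        exact (hzero _).trans (hzero _).symm)
  refine ⟨s, fun z hz => ?_⟩
  have h1 := hs z
  have h2 : sf z = res M (hWV z) (t z) := if_pos hz
  rw [← gm_res M (le_top : W z ≤ ⊤) z (hzW z) s, h1, h2, gm_res M (hWV z) z (hzW z) (t z)]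
  exact ht z

section linear

variable (k : Type u) [Field k] [X.Over (Spec (CommRingCat.of k))]

/-- the structure map `k → Γ(X, ⊤)` -/
noncomputable def toΓ (X : Scheme.{u}) [X.Over (Spec (CommRingCat.of k))] : k →+* Γ(X, ⊤) :=
  Coh.toGlobal (X ↘ Spec (CommRingCat.of k))

theorem stalkMap_eq (z : X) :
    Curv2.stalkMap k X z = (X.presheaf.germ ⊤ z trivial).hom.comp (toΓ k X) := rfl

/-- the `k`-module structure on global sections -/
noncomputable abbrev gammaModule : Module k Γ(M, ⊤) := Module.compHom _ (toΓ k X)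

/-- the `k`-module structure on a stalk -/
noncomputable abbrev stalkModule (z : X) : Module k (M.presheaf.stalk z) :=
  Module.compHom _ (Curv2.stalkMap k X z)

attribute [local instance] gammaModule stalkModule Curv2.stalkAlgebra

theorem gamma_smul_def (c : k) (s : Γ(M, ⊤)) : c • s = toΓ k X c • s := rfl

theorem stalk_smul_def (z : X) (c : k) (m : M.presheaf.stalk z) :
    c • m = Curv2.stalkMap k X z c • m := rfl

theorem stalk_isScalarTower (z : X) : IsScalarTower k (X.presheaf.stalk z) (M.presheaf.stalk z) :=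
  ⟨fun c r m => by
    rw [stalk_smul_def, Algebra.smul_def, mul_smul]
    rfl⟩

/-- `H⁰(X, M) ≃ Γ(X, M)`, additive -/
noncomputable def e0 : Coh.HH X M 0 ≃+ Γ(M, ⊤) := Sheaf.H.equiv₀ (Coh.toAb M) Limits.isTerminalTop

theorem e0_smul (c : k) (x : Coh.HH X M 0) : e0 M (c • x) = c • e0 M x := by
  have h := Sheaf.H.equiv₀_naturality (Limits.isTerminalTop (α := Opens X))
    (Coh.smulAb M (Coh.toGlobal (X ↘ Spec (CommRingCat.of k)) c)) x
  refine h.symm.trans ?_
  rw [Coh.smulAb_app]
  have : Coh.resTop X (op ⊤) (Coh.toGlobal (X ↘ Spec (CommRingCat.of k)) c) =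
      Coh.toGlobal (X ↘ Spec (CommRingCat.of k)) c := by
    change (X.ringCatSheaf.obj.map (𝟙 _)).hom _ = _
    rw [CategoryTheory.Functor.map_id]
    rfl
  rw [this]
  rfl

/-- `H⁰(X, M) ≃ Γ(X, M)`, `k`-linear -/
noncomputable def e0L : Coh.HH X M 0 ≃ₗ[k] Γ(M, ⊤) :=
  { e0 M with map_smul' := fun c x => e0_smul M k c x }

/-- the germ map, `k`-linear -/
noncomputable def gmL (z : X) : Γ(M, ⊤) →ₗ[k] M.presheaf.stalk z where
  toFun := gm M ⊤ z trivial
  map_add' := map_add _
  map_smul' c s := by
    rw [gamma_smul_def, gm_smul, stalk_smul_def]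
    rfl

/-- global sections of a module supported in finitely many closed points -/
noncomputable def gammaEquiv (S : Finset X) (hcl : ∀ z ∈ S, IsClosed ({z} : Set X))
    (hS : CohB1.support M ⊆ (S : Set X)) : Γ(M, ⊤) ≃ₗ[k] (∀ z : S, M.presheaf.stalk z.1) :=
  LinearEquiv.ofBijective (LinearMap.pi fun z : S => gmL M k z.1) (by
    constructor
    · rw [← LinearMap.ker_eq_bot, LinearMap.ker_eq_bot']
      intro s hs
      refine eq_zero_of_gm_eq_zero M (S : Set X) hS s fun z hz => ?_
      exact congrFun hs ⟨z, hz⟩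
    · intro m
      classical
      obtain ⟨s, hs⟩ := exists_section M (S : Set X) S.finite_toSet hcl hS
        (fun z => if h : z ∈ S then m ⟨z, h⟩ else 0)
      refine ⟨s, funext fun z => ?_⟩
      have := hs z.1 z.2
      rw [dif_pos z.2] at this
      exact this)

attribute [local instance] stalk_isScalarTower

open Groth.Agent.Lib.Helper6.K0Tensor in
open scoped TensorProduct in
/-- the stalk of `F ⊗ E` for `E` locally free of rank `n` -/
theorem nonempty_stalk_tensor_equiv (F E : X.Modules) {n : ℕ} (hE : FlatMod.IsFinLocFreeOfRank n E)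
    (z : X) : Nonempty ((CohB1.tensorMod F E).presheaf.stalk z ≃ₗ[X.presheaf.stalk z]
      (Fin n →₀ F.presheaf.stalk z)) := by
  obtain ⟨b⟩ := exists_stalkBasis E hE z
  exact ⟨(stalkTensorEquiv F E z).symm.trans
    ((TensorProduct.congr (LinearEquiv.refl (X.presheaf.stalk z) _) b.repr).trans
      (TensorProduct.finsuppScalarRight (X.presheaf.stalk z) (X.presheaf.stalk z) _ (Fin n)))⟩

theorem finrank_stalk_tensor (F E : X.Modules) {n : ℕ} (hE : FlatMod.IsFinLocFreeOfRank n E)
    (z : X) : Module.finrank k ((CohB1.tensorMod F E).presheaf.stalk z) =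
      n * Module.finrank k (F.presheaf.stalk z) := by
  obtain ⟨e⟩ := nonempty_stalk_tensor_equiv F E hE z
  rw [(e.restrictScalars k).finrank_eq,
    (Finsupp.domLCongr (R := k) (M := F.presheaf.stalk z) (Equiv.ulift.{u} (α := Fin n)).symm).finrank_eq]
  have := Module.finrank_finsupp (R := k) (M := F.presheaf.stalk z) (ι := ULift.{u} (Fin n))
  rw [Fintype.card_ulift, Fintype.card_fin] at this
  exact this

/-- `h⁰` of a module supported in finitely many closed points is the sum of the dimensions of
its stalks -/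
theorem finrank_HH_zero [Module.Finite k (Coh.HH X M 0)] (S : Finset X)
    (hcl : ∀ z ∈ S, IsClosed ({z} : Set X)) (hS : CohB1.support M ⊆ (S : Set X)) :
    Module.finrank k (Coh.HH X M 0) = ∑ z : S, Module.finrank k (M.presheaf.stalk z.1) := by
  have e := (e0L M k).trans (gammaEquiv M k S hcl hS)
  haveI : Module.Finite k (∀ z : S, M.presheaf.stalk z.1) := Module.Finite.equiv e
  haveI : ∀ z : S, Module.Finite k (M.presheaf.stalk z.1) := fun z =>
    Module.Finite.of_surjective (LinearMap.proj (R := k) (φ := fun z : S => M.presheaf.stalk z.1) z)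
      (LinearMap.proj_surjective z)
  rw [e.finrank_eq, Module.finrank_pi_fintype]

end linear

end Groth.Agent.Lib.Helper8.PtSupp
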