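import Groth.Agent.Lib.Helper2.Bridge3
import Groth.Prelude.Def_CurvBase

/-! # Helper8 — Euler characteristics are preserved by direct images along affine morphisms over a field (from helper2's Bridge3) -/
set_option autoImplicit false
universe u
open CategoryTheory CategoryTheory.Limits AlgebraicGeometry

namespace Groth.Agent.Lib.Helper8.AffPush

/-- Euler characteristics are preserved by direct images along affine morphisms over `k` -/
theorem euler_push (k : Type u) [Field k] {X Y : Scheme.{u}} [X.Over (Spec (CommRingCat.of k))]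
    [Y.Over (Spec (CommRingCat.of k))] (f : X ⟶ Y) [IsAffineHom f]
    (hf : f ≫ (Y ↘ (Spec (CommRingCat.of k))) = X ↘ (Spec (CommRingCat.of k)))
    (M : X.Modules) (hM : M.IsQuasicoherent) :
    Curv2.euler k Y ((Scheme.Modules.pushforward f).obj M) = Curv2.euler k X M := by
  unfold Curv2.euler
  refine finsum_congr fun i => ?_
  obtain ⟨e, -⟩ := Groth.Agent.Lib.Helper2.Bridge3.exists_natural_linearEquiv k f hf i
  rw [(e M hM).finrank_eq]

/-- each `h^i` is preserved by direct images along affine morphisms over `k` -/
theorem finrank_push (k : Type u) [Field k] {X Y : Scheme.{u}} [X.Over (Spec (CommRingCat.of k))]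
    [Y.Over (Spec (CommRingCat.of k))] (f : X ⟶ Y) [IsAffineHom f]
    (hf : f ≫ (Y ↘ (Spec (CommRingCat.of k))) = X ↘ (Spec (CommRingCat.of k)))
    (M : X.Modules) (hM : M.IsQuasicoherent) (i : ℕ) :
    Module.finrank k (Coh.HH Y ((Scheme.Modules.pushforward f).obj M) i) =
      Module.finrank k (Coh.HH X M i) := by
  obtain ⟨e, -⟩ := Groth.Agent.Lib.Helper2.Bridge3.exists_natural_linearEquiv k f hf i
  exact (e M hM).finrank_eq

end Groth.Agent.Lib.Helper8.AffPush
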