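import Groth.Agent.Lib.Helper8.PtSupp2
import Groth.Agent.Lib.Helper8.CurveDeg1
import Groth.Agent.Lib.Helper6.K0Op
import Groth.Agent.Lib.Helper6.K0Inv
import Groth.Agent.Lib.Helper28.AmpleUnit
import Groth.Agent.Lib.Helper7.StalkFree
import Groth.Agent.Lib.Helper4.DimOneConstructible
import Mathlib
set_option backward.isDefEq.respectTransparency.types false
/-! # Helper8 — χ(E ⊗ F) = r(F)·deg E + n·χ(F) on a proper integral curve (generic rank additivity, helper6's additive dévissage, finite-support computation) -/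
set_option autoImplicit false
universe u
open CategoryTheory CategoryTheory.Limits AlgebraicGeometry

namespace Groth.Agent.Lib.Helper8.CurveTensor
open Groth.Agent.Lib.Helper8.PtSupp Groth.Agent.Lib.Helper8.EulerK Groth.Agent.Lib.Helper8.PtSupp2
open Groth.Agent.Lib.Helper6.K0Len Groth.Agent.Lib.Helper6.K0Filt

section general

variable (k : Type u) [Field k] (X : Scheme.{u}) [X.Over (Spec (CommRingCat.of k))]
  [IsProper (X ↘ Spec (CommRingCat.of k))]

theorem isCoh_of_isFinLocFreeOfRank {X : Scheme.{u}} {n : ℕ} (E : X.Modules)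
    (hE : FlatMod.IsFinLocFreeOfRank n E) : Coh.IsCoh E :=
  ⟨Groth.Agent.Lib.Helper29.FreeIso.isQuasicoherent_of_isFinLocFree E (fun x => by
      obtain ⟨U, hxU, h⟩ := hE x
      exact ⟨U, n, hxU, h⟩),
    Groth.Agent.Lib.Helper29.FreeIso.isFiniteType_of_isFinLocFree E (fun x => by
      obtain ⟨U, hxU, h⟩ := hE x
      exact ⟨U, n, hxU, h⟩)⟩

attribute [local instance] stalkModule in
/-- `χ(F ⊗ E) = n χ(F)` for `F` coherent supported in finitely many closed points -/
theorem euler_tensor_of_finset (F : X.Modules) (hF : Coh.IsCoh F) (S : Finset X)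
    (hcl : ∀ z ∈ S, IsClosed ({z} : Set X)) (hS : CohB1.support F ⊆ (S : Set X))
    (n : ℕ) (E : X.Modules) (hE : FlatMod.IsFinLocFreeOfRank n E) :
    Curv2.euler k X (CohB1.tensorMod F E) = n * Curv2.euler k X F := by
  have hEc : Coh.IsCoh E := isCoh_of_isFinLocFreeOfRank E hE
  have hT : Coh.IsCoh (CohB1.tensorMod F E) := Groth.Agent.Lib.Helper6.K0Op.isCoh_tensorMod F E hF hEc
  have hTS : CohB1.support (CohB1.tensorMod F E) ⊆ (S : Set X) := by
    haveI : F.IsQuasicoherent := hF.1
    haveI : E.IsQuasicoherent := hEc.1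
    haveI : SheafOfModules.IsFiniteType.{u} (R := X.ringCatSheaf) F := hF.2
    haveI : SheafOfModules.IsFiniteType.{u} (R := X.ringCatSheaf) E := hEc.2
    rw [Groth.Agent.Lib.Helper17.TensorSupp.support_tensorMod]
    exact Set.inter_subset_left.trans hS
  rw [euler_eq_sum_stalks k X _ hT S hcl hTS, euler_eq_sum_stalks k X F hF S hcl hS,
    Finset.mul_sum]
  refine Finset.sum_congr rfl fun z _ => ?_
  rw [finrank_stalk_tensor k F E hE z.1]
  push_cast
  rfl

end general

section curve

variable (k : Type u) [Field k] (X : Scheme.{u}) [X.Over (Spec (CommRingCat.of k))]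
  [IsIntegral X] [IsProper (X ↘ Spec (CommRingCat.of k))]

/-- the generic rank -/
noncomputable abbrev grank (F : X.Modules) : ℕ :=
  Module.finrank (X.presheaf.stalk (genericPoint X)) (F.presheaf.stalk (genericPoint X))

omit [IsProper (X ↘ Spec (CommRingCat.of k))] [X.Over (Spec (CommRingCat.of k))] in
theorem grank_add (S : ShortComplex X.Modules) (hS : S.ShortExact)
    (h₁ : Coh.IsCoh S.X₁) (h₂ : Coh.IsCoh S.X₂) (h₃ : Coh.IsCoh S.X₃) :
    grank X S.X₂ = grank X S.X₁ + grank X S.X₃ := by
  haveI := Groth.Agent.Lib.Helper7.StalkFree.finite_stalk_of_isCoh X S.X₁ h₁ (genericPoint X)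
  haveI := Groth.Agent.Lib.Helper7.StalkFree.finite_stalk_of_isCoh X S.X₂ h₂ (genericPoint X)
  haveI := Groth.Agent.Lib.Helper7.StalkFree.finite_stalk_of_isCoh X S.X₃ h₃ (genericPoint X)
  have h := len_add S hS (genericPoint X)
  unfold len at h
  rw [Module.length_eq_finrank (X.presheaf.stalk (genericPoint X)),
    Module.length_eq_finrank (X.presheaf.stalk (genericPoint X)),
    Module.length_eq_finrank (X.presheaf.stalk (genericPoint X))] at h
  exact_mod_cast h

omit [IsProper (X ↘ Spec (CommRingCat.of k))] [X.Over (Spec (CommRingCat.of k))] in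
theorem grank_structureModule : grank X (Coh.structureModule X) = 1 := by
  obtain ⟨b⟩ := Groth.Agent.Lib.Helper6.K0Tensor.exists_stalkBasis (Coh.structureModule X)
    (Groth.Agent.Lib.Helper6.K0Op.isFinLocFreeOfRank_one_of_isInvertible _
      (Groth.Agent.Lib.Helper28.AmpleUnit.isInvertible_structureModule X)) (genericPoint X)
  unfold grank
  rw [Module.finrank_eq_card_basis b, Fintype.card_fin]

omit [IsProper (X ↘ Spec (CommRingCat.of k))] [X.Over (Spec (CommRingCat.of k))] in
theorem grank_eq_zero (F : X.Modules) (h : genericPoint X ∉ CohB1.support F) : grank X F = 0 := by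
  haveI := subsingleton_stalk_of_notMem F h
  exact Module.finrank_zero_of_subsingleton

omit [IsProper (X ↘ Spec (CommRingCat.of k))] [X.Over (Spec (CommRingCat.of k))] in
theorem notMem_support_of_grank_eq_zero (F : X.Modules) (hF : Coh.IsCoh F) (h : grank X F = 0) :
    genericPoint X ∉ CohB1.support F := by
  haveI := Groth.Agent.Lib.Helper7.StalkFree.finite_stalk_of_isCoh X F hF (genericPoint X)
  have : Subsingleton (F.presheaf.stalk (genericPoint X)) :=
    (Module.finrank_zero_iff (R := X.presheaf.stalk (genericPoint X))).1 h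
  intro hmem
  exact hmem this

/-- the defect `χ(E ⊗ F) - r(F) deg E - n χ(F)` -/
noncomputable def phi (n : ℕ) (E F : X.Modules) : ℤ :=
  Curv2.euler k X (CohB1.tensorMod E F) - (grank X F : ℤ) * Curv2.deg k X E n - n * Curv2.euler k X F

theorem phi_add (n : ℕ) (E : X.Modules) (hE : FlatMod.IsFinLocFreeOfRank n E)
    (S : ShortComplex X.Modules) (hS : S.ShortExact)
    (h₁ : Coh.IsCoh S.X₁) (h₂ : Coh.IsCoh S.X₂) (h₃ : Coh.IsCoh S.X₃) :
    phi k X n E S.X₂ = phi k X n E S.X₁ + phi k X n E S.X₃ := by
  have hEc := isCoh_of_isFinLocFreeOfRank E hE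
  have hT := Groth.Agent.Lib.Helper6.K0Op.shortExact_tensor_of_flat E
    (Groth.Agent.Lib.Helper6.K0Op.isFlat_of_isFinLocFreeOfRank E hE) S hS
  have e1 := euler_add k X _ hT
    (Groth.Agent.Lib.Helper6.K0Op.isCoh_tensorMod E S.X₁ hEc h₁)
    (Groth.Agent.Lib.Helper6.K0Op.isCoh_tensorMod E S.X₂ hEc h₂)
    (Groth.Agent.Lib.Helper6.K0Op.isCoh_tensorMod E S.X₃ hEc h₃)
  have e1' : Curv2.euler k X (CohB1.tensorMod E S.X₂) =
      Curv2.euler k X (CohB1.tensorMod E S.X₁) + Curv2.euler k X (CohB1.tensorMod E S.X₃) := e1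
  have e2 := euler_add k X S hS h₁ h₂ h₃
  have e3 := grank_add X S hS h₁ h₂ h₃
  unfold phi
  rw [e1', e2, e3]
  push_cast
  ring

theorem phi_of_notMem (hdim : topologicalKrullDim X ≤ 1) (n : ℕ) (E : X.Modules)
    (hE : FlatMod.IsFinLocFreeOfRank n E) (F : X.Modules) (hF : Coh.IsCoh F)
    (h : genericPoint X ∉ CohB1.support F) : phi k X n E F = 0 := by
  haveI : IsLocallyNoetherian X := isLocallyNoetherian k X
  haveI : CompactSpace X := QuasiCompact.compactSpace_of_compactSpace (X ↘ Spec (CommRingCat.of k))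
  haveI : IsNoetherian X := { }
  have hcl : IsClosed (CohB1.support F) := Groth.Agent.S0020.result X F hF.2
  have hne : CohB1.support F ≠ Set.univ := fun e => h (e ▸ Set.mem_univ _)
  obtain ⟨hfin, hpt⟩ := Groth.Agent.Lib.Helper4.DimOneConstructible.closed_proper_finite hdim _ hcl hne
  unfold phi
  rw [grank_eq_zero X F h, euler_congr k (Groth.Agent.Lib.Helper6.K0Inv.braidIso E F),
    euler_tensor_of_finset k X F hF hfin.toFinset (fun z hz => hpt z (hfin.mem_toFinset.1 hz))
      (by rw [Set.Finite.coe_toFinset]) n E hE]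
  push_cast
  ring

omit [IsProper (X ↘ Spec (CommRingCat.of k))] in
theorem phi_structureModule (n : ℕ) (E : X.Modules) :
    phi k X n E (Coh.structureModule X) = 0 := by
  obtain ⟨e⟩ := Groth.Agent.Lib.Helper28.AmpleUnit.nonempty_tensor_unit_iso E
  unfold phi Curv2.deg
  rw [grank_structureModule, euler_congr k e]
  push_cast
  ring

open Groth.Agent.Lib.Helper6.DevCore Groth.Agent.Lib.Helper6.DevRed in
/-- **`χ(E ⊗ F) = r(F) deg E + n χ(F)` on a proper integral curve** -/
theorem phi_eq_zero (hdim : topologicalKrullDim X ≤ 1) (n : ℕ) (E : X.Modules)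
    (hE : FlatMod.IsFinLocFreeOfRank n E) (F : X.Modules) (hF : Coh.IsCoh F) :
    phi k X n E F = 0 := by
  haveI : IsLocallyNoetherian X := isLocallyNoetherian k X
  haveI : CompactSpace X := QuasiCompact.compactSpace_of_compactSpace (X ↘ Spec (CommRingCat.of k))
  haveI : IsNoetherian X := { }
  have key := additive_devissage (phi k X n E) (phi_add k X n E hE) ⊥ Set.univ isClosed_univ ?_ F hF
    (Set.subset_univ _)
  · exact AddSubgroup.mem_bot.1 key
  · intro y _ _
    rw [AddSubgroup.mem_bot]
    by_cases hy : y = genericPoint X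
    · subst hy
      set I := Scheme.IdealSheafData.vanishingIdeal
        (⟨closure {genericPoint X}, isClosed_closure⟩ : TopologicalSpace.Closeds X) with hI
      have hses := Groth.Agent.Lib.Helper17.Serre.idealSES_shortExact I
      have hcQ : Coh.IsCoh (ClSub.quotMod I) := isCoh_quotMod I
      have hcO : Coh.IsCoh (Coh.structureModule X) := isCoh_structureModule
      have hcI : Coh.IsCoh (ClSub.idealMod I) := isCoh_kernel _ hcO hcQ
      have hadd := phi_add k X n E hE _ hses hcI hcO hcQ
      have hr := grank_add X _ hses hcI hcO hcQ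
      change grank X (Coh.structureModule X) = grank X (ClSub.idealMod I) + grank X (ClSub.quotMod I) at hr
      rw [grank_structureModule] at hr
      have hpos : 0 < grank X (ClSub.quotMod I) := by
        by_contra h0
        have := notMem_support_of_grank_eq_zero X _ hcQ (by omega)
        rw [support_quotMod_vanishingIdeal] at this
        exact this (subset_closure rfl)
      have h0 : grank X (ClSub.idealMod I) = 0 := by omega
      have h1 := phi_of_notMem k X hdim n E hE _ hcI (notMem_support_of_grank_eq_zero X _ hcI h0)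
      change phi k X n E (Coh.structureModule X) = phi k X n E (ClSub.idealMod I) +
        phi k X n E (ClSub.quotMod I) at hadd
      rw [phi_structureModule, h1, zero_add] at hadd
      exact hadd.symm
    · apply phi_of_notMem k X hdim n E hE _ (isCoh_OZ y)
      rw [support_OZ]
      have := Groth.Agent.Lib.Helper8.CurveDeg.isClosed_singleton_of_ne_genericPoint hdim y hy
      rw [this.closure_eq]
      exact fun h => hy (Set.mem_singleton_iff.1 h).symm

end curve

end Groth.Agent.Lib.Helper8.CurveTensor
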