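import Groth.Agent.Lib.Helper8.PtSupp
import Groth.Agent.S1526
import Mathlib
set_option backward.isDefEq.respectTransparency.types false
/-! # Helper8 — finite closed-point support on a proper k-scheme: support is a finite set of closed points; χ = sum of stalk dimensions -/
set_option autoImplicit false
universe u
open CategoryTheory CategoryTheory.Limits AlgebraicGeometry

namespace Groth.Agent.Lib.Helper8.PtSupp2
open Groth.Agent.Lib.Helper8.PtSupp Groth.Agent.Lib.Helper8.EulerK

variable (k : Type u) [Field k] (X : Scheme.{u}) [X.Over (Spec (CommRingCat.of k))]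
  [IsProper (X ↘ Spec (CommRingCat.of k))]

include k in
/-- the support of a coherent module with support of dimension `≤ 0` is a finite set of closed points -/
theorem exists_finset_support (F : X.Modules) (hF : Coh.IsCoh F)
    (hsupp : topologicalKrullDim (CohB1.support F) ≤ 0) :
    ∃ S : Finset X, (∀ z ∈ S, IsClosed ({z} : Set X)) ∧ CohB1.support F = (S : Set X) := by
  haveI : F.IsQuasicoherent := hF.1
  haveI : SheafOfModules.IsFiniteType.{u} (R := X.ringCatSheaf) F := hF.2
  haveI : IsLocallyNoetherian X := isLocallyNoetherian k X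
  haveI : CompactSpace X := QuasiCompact.compactSpace_of_compactSpace (X ↘ Spec (CommRingCat.of k))
  have hcl : IsClosed (CohB1.support F) := Groth.Agent.S0020.result X F hF.2
  have hpt : ∀ x ∈ CohB1.support F, IsClosed ({x} : Set X) := fun x hx =>
    Groth.Agent.S1526.isClosed_singleton_of_dim_le_zero _ hcl hsupp x hx
  have hfin : (CohB1.support F).Finite := by
    obtain ⟨t, ht⟩ := isCompact_univ.elim_finite_subcover (fun U : X.affineOpens => (U.1 : Set X))
      (fun U => U.1.isOpen) (by
        intro x _
        obtain ⟨_, ⟨U, hU, rfl⟩, hxU, -⟩ :=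
          X.isBasis_affineOpens.exists_subset_of_mem_open (Set.mem_univ x) isOpen_univ
        exact Set.mem_iUnion.2 ⟨⟨U, hU⟩, hxU⟩)
    refine Set.Finite.subset (t.finite_toSet.biUnion (t := fun U => CohB1.support F ∩ (U.1 : Set X))
      (fun U _ => ?_)) ?_
    · haveI : IsNoetherianRing Γ(X, U.1) := IsLocallyNoetherian.component_noetherian U
      exact Groth.Agent.Lib.Helper17.ZeroSupp.finite_support_inter F hpt U.2
    · intro x hx
      obtain ⟨U, hUt, hxU⟩ := Set.mem_iUnion₂.1 (ht (Set.mem_univ x))
      exact Set.mem_biUnion hUt ⟨hx, hxU⟩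
  refine ⟨hfin.toFinset, fun z hz => hpt z (hfin.mem_toFinset.1 hz), ?_⟩
  rw [Set.Finite.coe_toFinset]

attribute [local instance] stalkModule

/-- `χ` of a coherent module with finite support in closed points -/
theorem euler_eq_sum_stalks (F : X.Modules) (hF : Coh.IsCoh F) (S : Finset X)
    (hcl : ∀ z ∈ S, IsClosed ({z} : Set X)) (hS : CohB1.support F ⊆ (S : Set X)) :
    Curv2.euler k X F = ∑ z : S, (Module.finrank k (F.presheaf.stalk z.1) : ℤ) := by
  haveI : F.IsQuasicoherent := hF.1
  haveI : SheafOfModules.IsFiniteType.{u} (R := X.ringCatSheaf) F := hF.2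
  haveI : IsLocallyNoetherian X := isLocallyNoetherian k X
  haveI := finite_HH k X F hF 0
  rw [euler_eq_sum k X F 1 (fun p hp => by
    obtain ⟨q, rfl⟩ : ∃ q, p = q + 1 := ⟨p - 1, by omega⟩
    exact Groth.Agent.Lib.Helper17.ZeroSupp.subsingleton_HH_of_support_closedPoints F
      (fun x hx => hcl x (hS hx)) q)]
  rw [Finset.sum_range_one, pow_zero, one_mul, finrank_HH_zero F k S hcl hS]
  push_cast
  rfl

end Groth.Agent.Lib.Helper8.PtSupp2

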