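import Groth.Agent.Lib.Helper8.K0Add
import Groth.Agent.S1558
import Mathlib
set_option backward.isDefEq.respectTransparency.types false
/-! # Helper8 — ψ_E(F) = χ(E⊗F) − nχ(F): additive, zero in dimension 0 (S1558), ψ_E(V) = m·ψ_E(O_X) for V locally free of rank m on a proper scheme of dimension ≤ 1 -/
set_option autoImplicit false
universe u
open CategoryTheory CategoryTheory.Limits AlgebraicGeometry

namespace Groth.Agent.Lib.Helper8.DegTensor
open Groth.Agent.Lib.Helper8.EulerK Groth.Agent.Lib.Helper8.CurveTensor Groth.Agent.Lib.Helper8.K0Add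
open Groth.Agent.Lib.Helper6.K0Len Groth.Agent.Lib.Helper6.K0Filt

variable (k : Type u) [Field k] (X : Scheme.{u}) [X.Over (Spec (CommRingCat.of k))]
  [IsProper (X ↘ Spec (CommRingCat.of k))]

/-- `ψ_E(F) = χ(E ⊗ F) − n χ(F)` -/
noncomputable def psi (n : ℕ) (E F : X.Modules) : ℤ :=
  Curv2.euler k X (CohB1.tensorMod E F) - n * Curv2.euler k X F

theorem psi_add (n : ℕ) (E : X.Modules) (hE : FlatMod.IsFinLocFreeOfRank n E)
    (S : ShortComplex X.Modules) (hS : S.ShortExact)
    (h₁ : Coh.IsCoh S.X₁) (h₂ : Coh.IsCoh S.X₂) (h₃ : Coh.IsCoh S.X₃) :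
    psi k X n E S.X₂ = psi k X n E S.X₁ + psi k X n E S.X₃ := by
  have hEc := isCoh_of_isFinLocFreeOfRank E hE
  have hT := Groth.Agent.Lib.Helper6.K0Op.shortExact_tensor_of_flat E
    (Groth.Agent.Lib.Helper6.K0Op.isFlat_of_isFinLocFreeOfRank E hE) S hS
  have e1 := euler_add k X _ hT
    (Groth.Agent.Lib.Helper6.K0Op.isCoh_tensorMod E S.X₁ hEc h₁)
    (Groth.Agent.Lib.Helper6.K0Op.isCoh_tensorMod E S.X₂ hEc h₂)
    (Groth.Agent.Lib.Helper6.K0Op.isCoh_tensorMod E S.X₃ hEc h₃)
  have e1' : Curv2.euler k X (CohB1.tensorMod E S.X₂) =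
      Curv2.euler k X (CohB1.tensorMod E S.X₁) + Curv2.euler k X (CohB1.tensorMod E S.X₃) := e1
  have e2 := euler_add k X S hS h₁ h₂ h₃
  unfold psi
  rw [e1', e2]
  ring

theorem psi_zero_of_dim (n : ℕ) (E : X.Modules) (hE : FlatMod.IsFinLocFreeOfRank n E)
    (G : X.Modules) (hG : Coh.IsCoh G) (hd : topologicalKrullDim ↥(CohB1.support G) < 1) :
    psi k X n E G = 0 := by
  have hd' : topologicalKrullDim ↥(CohB1.support G) ≤ 0 := by
    rcases h : topologicalKrullDim ↥(CohB1.support G) with _ | a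
    · exact bot_le
    · rw [h] at hd
      have h1 : a < 1 := WithBot.coe_lt_coe.1 hd
      have h2 : a = 0 := Order.lt_one_iff.1 h1
      rw [h2]
      rfl
  unfold psi
  rw [euler_congr k (Groth.Agent.Lib.Helper6.K0Inv.braidIso E G),
    Groth.Agent.S1558.result k X G hG hd' n E hE]
  ring

omit [X.Over (Spec (CommRingCat.of k))] [IsProper (X ↘ Spec (CommRingCat.of k))] in
theorem len_locFree {m : ℕ} (V : X.Modules) (hV : FlatMod.IsFinLocFreeOfRank m V) (x : X) :
    len V x = m * Module.length (X.presheaf.stalk x) (X.presheaf.stalk x) := by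
  obtain ⟨b⟩ := Groth.Agent.Lib.Helper6.K0Tensor.exists_stalkBasis V hV x
  unfold len
  rw [b.repr.length_eq, Module.length_finsupp]
  simp

open Classical in
theorem psi_locFree (hdim : topologicalKrullDim X ≤ 1) (n : ℕ) (E : X.Modules)
    (hE : FlatMod.IsFinLocFreeOfRank n E) (m : ℕ) (V : X.Modules)
    (hV : FlatMod.IsFinLocFreeOfRank m V) :
    psi k X n E V = m * psi k X n E (Coh.structureModule X) := by
  haveI : IsLocallyNoetherian X := isLocallyNoetherian k X
  haveI : CompactSpace X := QuasiCompact.compactSpace_of_compactSpace (X ↘ Spec (CommRingCat.of k))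
  haveI : IsNoetherian X := { }
  have hO : FlatMod.IsFinLocFreeOfRank 1 (Coh.structureModule X) :=
    Groth.Agent.Lib.Helper6.K0Op.isFinLocFreeOfRank_one_of_isInvertible _
      (Groth.Agent.Lib.Helper28.AmpleUnit.isInvertible_structureModule X)
  obtain ⟨-, hV'⟩ := eq_cycle_sum (psi k X n E) (psi_add k X n E hE) hdim
    (psi_zero_of_dim k X n E hE) V (isCoh_of_isFinLocFreeOfRank V hV)
  obtain ⟨hfO, hO'⟩ := eq_cycle_sum (psi k X n E) (psi_add k X n E hE) hdim
    (psi_zero_of_dim k X n E hE) (Coh.structureModule X) (isCoh_of_isFinLocFreeOfRank _ hO)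
  rw [hV', hO', mul_finsum]
  refine finsum_congr fun x => ?_
  split_ifs with hx
  · have hlO := len_locFree X (Coh.structureModule X) hO x
    rw [Nat.cast_one, one_mul] at hlO
    rw [len_locFree X V hV x, ← hlO, ENat.toNat_mul]
    simp only [ENat.toNat_natCast]
    push_cast
    ring
  · rw [mul_zero]

end Groth.Agent.Lib.Helper8.DegTensor

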