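import Groth.Agent.Lib.Helper8.PullBasis
import Groth.Agent.Lib.Helper28.TensorIso

/-! # Helper8 — projection formula `E ⊗ f_* O_X ≅ f_* f^* E` for `E` finite locally free of rank `n`, any morphism `f` -/
set_option autoImplicit false
universe u
open CategoryTheory CategoryTheory.Limits AlgebraicGeometry Opposite TopologicalSpace
noncomputable section

namespace Groth.Agent.Lib.Helper8.ProjN

open Groth.Agent.Lib.Helper28 Groth.Agent.Lib.Helper28.QCohLoc Groth.Agent.Lib.Helper28.GenLocus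
  Groth.Agent.Lib.Helper28.PullbackInv Groth.Agent.Lib.Helper29.FreeIso Groth.Agent.Lib.Helper8.PullBasis
  Groth.Agent.Lib.Helper28.TensorIso

open TensorProduct in
theorem lift_bijective_of_left_basis {R M N F : Type*} [CommRing R] [AddCommGroup M] [AddCommGroup N]
    [AddCommGroup F] [Module R M] [Module R N] [Module R F]
    (β : M →ₗ[R] N →ₗ[R] F) {n : ℕ} (e : Fin n → M)
    (he : ∀ m : M, ∃ c : Fin n → R, m = ∑ j, c j • e j)
    (hbij : Function.Bijective (fun a : Fin n → N => ∑ j, β (e j) (a j))) :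
    Function.Bijective (TensorProduct.lift β) := by
  have hform : ∀ z : M ⊗[R] N, ∃ a : Fin n → N, z = ∑ j, e j ⊗ₜ[R] a j := by
    intro z
    induction z using TensorProduct.induction_on with
    | zero => exact ⟨0, by simp⟩
    | tmul m x =>
      obtain ⟨c, rfl⟩ := he m
      refine ⟨fun j => c j • x, ?_⟩
      rw [TensorProduct.sum_tmul]
      refine Finset.sum_congr rfl fun j _ => ?_
      rw [TensorProduct.smul_tmul]
    | add z z' hz hz' =>
      obtain ⟨a, rfl⟩ := hz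
      obtain ⟨a', rfl⟩ := hz'
      refine ⟨a + a', ?_⟩
      simp only [Pi.add_apply, TensorProduct.tmul_add, Finset.sum_add_distrib]
  have hlift : ∀ a : Fin n → N, TensorProduct.lift β (∑ j, e j ⊗ₜ[R] a j) = ∑ j, β (e j) (a j) := by
    intro a
    rw [map_sum]
    simp only [TensorProduct.lift.tmul]
  constructor
  · intro z z' h
    obtain ⟨a, rfl⟩ := hform z
    obtain ⟨a', rfl⟩ := hform z'
    rw [hlift, hlift] at h
    rw [hbij.1 h]
  · intro y
    obtain ⟨a, ha⟩ := hbij.2 y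
    exact ⟨∑ j, e j ⊗ₜ[R] a j, (hlift a).trans ha⟩

variable {X Y : Scheme.{u}} (f : X ⟶ Y) (E : Y.Modules)

/-- the pairing `(e, a) ↦ a • f^* e` -/
def β (W : Y.Opens) (e : Γ(E, W)) (a : Γ((Scheme.Modules.pushforward f).obj (Coh.structureModule X), W)) :
    Γ((Scheme.Modules.pushforward f).obj ((Scheme.Modules.pullback f).obj E), W) :=
  ((show Γ(X, f ⁻¹ᵁ W) from a) • pbs f E W e : Γ((Scheme.Modules.pullback f).obj E, f ⁻¹ᵁ W))

theorem β_add₁ (W : Y.Opens) (e e' : Γ(E, W)) (a) : β f E W (e + e') a = β f E W e a + β f E W e' a := by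
  unfold β
  rw [pbs_add]
  exact smul_add (show Γ(X, f ⁻¹ᵁ W) from a) (pbs f E W e) (pbs f E W e')

theorem β_add₂ (W : Y.Opens) (e : Γ(E, W)) (a a') : β f E W e (a + a') = β f E W e a + β f E W e a' := by
  unfold β
  exact add_smul (show Γ(X, f ⁻¹ᵁ W) from a) (show Γ(X, f ⁻¹ᵁ W) from a') (pbs f E W e)

theorem β_smul₁ (W : Y.Opens) (c : Γ(Y, W)) (e : Γ(E, W)) (a) :
    β f E W (c • e) a = c • β f E W e a := by
  unfold β
  rw [pbs_smul]
  exact smul_comm (show Γ(X, f ⁻¹ᵁ W) from a) (f.app W c) (pbs f E W e)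

theorem β_smul₂ (W : Y.Opens) (c : Γ(Y, W)) (e : Γ(E, W)) (a) :
    β f E W e (c • a) = c • β f E W e a := by
  unfold β
  exact mul_smul (f.app W c) (show Γ(X, f ⁻¹ᵁ W) from a) (pbs f E W e)

theorem β_res (W W' : Y.Opens) (h : W' ≤ W) (e : Γ(E, W)) (a) :
    β f E W' (res E h e) (res _ h a) = res _ h (β f E W e a) := by
  unfold β
  rw [pbs_res]
  exact (res_smul ((Scheme.Modules.pullback f).obj E) (f.preimage_mono h) (show Γ(X, f ⁻¹ᵁ W) from a)
    (pbs f E W e)).symm

/-- **projection formula** for a finite locally free module of rank `n` (structure sheaf case):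
`E ⊗ f_* O_X ≅ f_* f^* E` -/
theorem nonempty_tensor_push_iso {n : ℕ} (hE : FlatMod.IsFinLocFreeOfRank n E) :
    Nonempty (CohB1.tensorMod E ((Scheme.Modules.pushforward f).obj (Coh.structureModule X)) ≅
      (Scheme.Modules.pushforward f).obj ((Scheme.Modules.pullback f).obj E)) := by
  refine nonempty_tensorMod_iso E _ _ (β f E) (β_add₁ f E) (β_add₂ f E) (β_smul₁ f E) (β_smul₂ f E)
    (β_res f E) (fun W => ∃ τ : Fin n → Γ(E, W), IsFreeBasisOn E W τ) ?_ ?_
  · intro U x hx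
    obtain ⟨U₀, hxU₀, ⟨e⟩⟩ := hE x
    obtain ⟨τ, hτ⟩ := exists_isFreeBasisOn_of_iso E U₀ n e
    exact ⟨U₀ ⊓ U, ⟨_, hτ.mono inf_le_left⟩, ⟨hxU₀, hx⟩, inf_le_right⟩
  · rintro W ⟨τ, hτ⟩
    refine lift_bijective_of_left_basis (LinearMap.mk₂ _ (β f E W) (β_add₁ f E W) (β_smul₁ f E W)
      (β_add₂ f E W) (β_smul₂ f E W)) τ ?_ ?_
    · intro m
      obtain ⟨c, hc⟩ := (hτ W le_rfl).2 m
      refine ⟨c, hc.symm.trans (Finset.sum_congr rfl fun j _ => ?_)⟩
      rw [res_self]
    · have h := isFreeBasisOn_pbs (f := f) hτ (f ⁻¹ᵁ W) le_rfl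
      have hfun : (fun a : Fin n → Γ((Scheme.Modules.pushforward f).obj (Coh.structureModule X), W) =>
          ∑ j, (LinearMap.mk₂ _ (β f E W) (β_add₁ f E W) (β_smul₁ f E W)
            (β_add₂ f E W) (β_smul₂ f E W)) (τ j) (a j)) =
          (fun c : Fin n → Γ(X, f ⁻¹ᵁ W) => (∑ j, c j • res _ (le_refl (f ⁻¹ᵁ W)) (pbs f E W (τ j)) :
            Γ((Scheme.Modules.pullback f).obj E, f ⁻¹ᵁ W))) := by
        funext a
        refine Finset.sum_congr rfl fun j _ => ?_
        rw [res_self]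
        rfl
      rw [hfun]
      exact h

end Groth.Agent.Lib.Helper8.ProjN
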