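import Groth.Agent.Lib.Helper8.K0Add
import Groth.Agent.Lib.Helper8.DegTensor
import Groth.Agent.Lib.Helper8.ProjN
import Groth.Agent.Lib.Helper8.AffPush
import Groth.Agent.Lib.Helper16.LocFree5
import Groth.Agent.Lib.Helper8.CurveTensor

/-! # Helper8 — `χ(E ⊗ F) - n χ(F)` as a sum over the one-dimensional irreducible components (cycle formula + projection formula for the reduced components) -/
set_option autoImplicit false
universe u
open CategoryTheory CategoryTheory.Limits AlgebraicGeometry Opposite TopologicalSpace
noncomputable section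

namespace Groth.Agent.Lib.Helper8.CompSum

open Groth.Agent.Lib.Helper8.DegTensor Groth.Agent.Lib.Helper8.EulerK Groth.Agent.Lib.Helper8.AffPush
  Groth.Agent.Lib.Helper6.K0Filt Groth.Agent.Lib.Helper6.K0Len

section top

variable {T : Type*} [TopologicalSpace T]

/-- in a space of dimension at most one, a point whose closure has dimension one is the generic point of an
irreducible component -/
theorem closure_mem_irreducibleComponents (hdim : topologicalKrullDim T ≤ 1) (x : T)
    (hx : topologicalKrullDim ↥(closure ({x} : Set T)) = 1) :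
    closure ({x} : Set T) ∈ irreducibleComponents T := by
  let C : IrreducibleCloseds T := ⟨closure {x}, isIrreducible_singleton.closure, isClosed_closure⟩
  rcases (Order.krullDim_le_one_iff.mp hdim) C with hmin | hmax
  · exfalso
    have hind : Topology.IsInducing (Subtype.val : ↥(closure ({x} : Set T)) → T) :=
      Topology.IsInducing.subtypeVal
    have hconst : ∀ S : IrreducibleCloseds ↥(closure ({x} : Set T)),
        IrreducibleCloseds.map Subtype.val hind.continuous S = C := by
      intro S
      have hle : IrreducibleCloseds.map Subtype.val hind.continuous S ≤ C := by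
        change closure (Subtype.val '' (S : Set ↥(closure ({x} : Set T)))) ⊆ closure {x}
        refine closure_minimal ?_ isClosed_closure
        rintro _ ⟨y, -, rfl⟩
        exact y.2
      exact le_antisymm hle (hmin hle)
    haveI : Subsingleton (IrreducibleCloseds ↥(closure ({x} : Set T))) := ⟨fun S S' =>
      IrreducibleCloseds.map_injective_of_isInducing hind ((hconst S).trans (hconst S').symm)⟩
    have h0 : topologicalKrullDim ↥(closure ({x} : Set T)) ≤ 0 := Order.krullDim_nonpos_of_subsingleton
    rw [hx] at h0
    exact absurd h0 (by norm_num)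
  · refine ⟨isIrreducible_singleton.closure, fun S hS hCS => ?_⟩
    let S' : IrreducibleCloseds T := ⟨closure S, hS.closure, isClosed_closure⟩
    have h1 : C ≤ S' := fun y hy => subset_closure (hCS hy)
    have h2 : S' ≤ C := hmax h1
    exact fun y hy => h2 (subset_closure hy)

end top

section psi

variable (k : Type u) [Field k] (X : Scheme.{u}) [X.Over (Spec (CommRingCat.of k))]
  [IsProper (X ↘ Spec (CommRingCat.of k))]

omit [IsProper (X ↘ Spec (CommRingCat.of k))] in
/-- `χ(E ⊗ i_* O_Z) - n χ(i_* O_Z) = deg (E|_Z)` for a closed subscheme `Z` -/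
theorem psi_quotMod (n : ℕ) (E : X.Modules) (hE : FlatMod.IsFinLocFreeOfRank n E) (I : X.IdealSheafData) :
    psi k X n E (ClSub.quotMod I) =
      @Curv2.deg k _ I.subscheme ⟨I.subschemeι ≫ (X ↘ (Spec (CommRingCat.of k)))⟩
        ((Scheme.Modules.pullback I.subschemeι).obj E) n := by
  letI : I.subscheme.Over (Spec (CommRingCat.of k)) := ⟨I.subschemeι ≫ (X ↘ (Spec (CommRingCat.of k)))⟩
  have hf : I.subschemeι ≫ (X ↘ (Spec (CommRingCat.of k))) = I.subscheme ↘ (Spec (CommRingCat.of k)) := rfl
  obtain ⟨e⟩ := Groth.Agent.Lib.Helper8.ProjN.nonempty_tensor_push_iso I.subschemeι E hE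
  have hpb : Coh.IsCoh ((Scheme.Modules.pullback I.subschemeι).obj E) :=
    Groth.Agent.Lib.Helper8.CurveTensor.isCoh_of_isFinLocFreeOfRank _
      (Groth.Agent.Lib.Helper16.LocFree.isFinLocFreeOfRank_pullback I.subschemeι E hE)
  unfold psi Curv2.deg
  rw [euler_congr k e, euler_push k I.subschemeι hf _ hpb.1,
    euler_push k I.subschemeι hf (Coh.structureModule I.subscheme) inferInstance]

/-- the generic point of an irreducible component -/
def gp (Z : irreducibleComponents (X : Type u)) : X := Z.2.1.genericPoint

omit [IsProper (X ↘ Spec (CommRingCat.of k))] [X.Over (Spec (CommRingCat.of k))] in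
theorem closure_gp (Z : irreducibleComponents (X : Type u)) : closure {gp X Z} = Z.1 :=
  (Z.2.1.isGenericPoint_genericPoint (isClosed_of_mem_irreducibleComponents Z.1 Z.2)).def

omit [IsProper (X ↘ Spec (CommRingCat.of k))] [X.Over (Spec (CommRingCat.of k))] in
theorem gp_injective : Function.Injective (gp X) := fun Z Z' h =>
  Subtype.ext ((closure_gp X Z).symm.trans ((congrArg (fun x => closure ({x} : Set X)) h).trans (closure_gp X Z')))

omit [IsProper (X ↘ Spec (CommRingCat.of k))] [X.Over (Spec (CommRingCat.of k))] in
theorem radical_eq [IsNoetherian X] (Z : irreducibleComponents (X : Type u)) :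
    (X.irreducibleComponentIdeal Z.1 Z.2).radical =
      Scheme.IdealSheafData.vanishingIdeal ⟨closure {gp X Z}, isClosed_closure⟩ := by
  rw [← Scheme.IdealSheafData.vanishingIdeal_support]
  congr 1
  apply TopologicalSpace.Closeds.ext
  exact (closure_gp X Z).symm

open Classical in
/-- **`χ(E ⊗ F) - n χ(F)` as a sum over the one-dimensional irreducible components** -/
theorem psi_eq_sum_components [IsNoetherian X] (hdim : topologicalKrullDim X ≤ 1) (n : ℕ) (E : X.Modules)
    (hE : FlatMod.IsFinLocFreeOfRank n E) (F : X.Modules) (hF : Coh.IsCoh F) :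
    psi k X n E F = ∑ᶠ Z : irreducibleComponents (X : Type u),
      (if topologicalKrullDim (Z.1 : Set X) = 1 then
        ((Module.length (X.presheaf.stalk Z.2.1.genericPoint) (F.presheaf.stalk Z.2.1.genericPoint)).toNat : ℤ) *
          @Curv2.deg k _ (X.irreducibleComponentIdeal Z.1 Z.2).radical.subscheme
            ⟨(X.irreducibleComponentIdeal Z.1 Z.2).radical.subschemeι ≫ (X ↘ (Spec (CommRingCat.of k)))⟩
            ((Scheme.Modules.pullback (X.irreducibleComponentIdeal Z.1 Z.2).radical.subschemeι).obj E) n
      else 0) := by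
  obtain ⟨-, hsum⟩ := Groth.Agent.Lib.Helper8.K0Add.eq_cycle_sum (psi k X n E)
    (fun S hS h₁ h₂ h₃ => psi_add k X n E hE S hS h₁ h₂ h₃) hdim
    (fun G hG hd => psi_zero_of_dim k X n E hE G hG hd) F hF
  rw [hsum]
  set h : X → ℤ := fun x => if Dn 1 x then ((len F x).toNat : ℤ) * psi k X n E (OZ x) else 0 with hh
  have hsupp : ∀ x ∈ Function.support h, x ∈ (Set.univ : Set X) ↔ x ∈ Set.range (gp X) := by
    intro x hx
    refine ⟨fun _ => ?_, fun _ => trivial⟩
    have hD : Dn 1 x := by
      by_contra hD
      exact hx (if_neg hD)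
    have hc := closure_mem_irreducibleComponents hdim x hD
    refine ⟨⟨closure {x}, hc⟩, ?_⟩
    have h1 : closure {gp X ⟨closure {x}, hc⟩} = closure {x} := closure_gp X ⟨closure {x}, hc⟩
    exact ((inseparable_iff_closure_eq.2 h1).eq)
  rw [← finsum_mem_univ, finsum_mem_inter_support_eq' h _ _ hsupp, finsum_mem_range (gp_injective X)]
  refine finsum_congr fun Z => ?_
  have hcl := closure_gp X Z
  have hD : Dn 1 (gp X Z) ↔ topologicalKrullDim (Z.1 : Set X) = 1 := by
    unfold Dn
    rw [hcl, Nat.cast_one]
  rw [hh]
  simp only [hD]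
  by_cases hZ : topologicalKrullDim (Z.1 : Set X) = 1
  · rw [if_pos hZ, if_pos hZ]
    congr 1
    unfold OZ
    rw [psi_quotMod k X n E hE, ← radical_eq X Z]
  · rw [if_neg hZ, if_neg hZ]

end psi

end Groth.Agent.Lib.Helper8.CompSum
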