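import Mathlib
import Groth.Agent.Lib.Helper8.EffCart

/-! # Helper8 — complement of a dense open in a Noetherian quasi-sober T0 space of dimension ≤ 1: finite set of closed points -/
set_option autoImplicit false
universe u
open TopologicalSpace

namespace Groth.Agent.Lib.Helper8.DenseOpen

variable {T : Type*} [TopologicalSpace T]

/-- every point is a specialization of a point whose closure is an irreducible component, and a dense open set contains
the latter (Noetherian case) -/
theorem exists_generization_mem_of_dense [NoetherianSpace T] [QuasiSober T] (W : Set T) (hWo : IsOpen W)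
    (hWd : Dense W) (x : T) : ∃ η : T, η ∈ W ∧ η ⤳ x := by
  obtain ⟨Z, hZ, hxZ⟩ : ∃ Z ∈ irreducibleComponents T, x ∈ Z :=
    ⟨irreducibleComponent x, irreducibleComponent_mem_irreducibleComponents x, mem_irreducibleComponent⟩
  have hZcl : IsClosed Z := isClosed_of_mem_irreducibleComponents Z hZ
  set η := hZ.1.genericPoint with hη
  have hηZ : closure {η} = Z := (hZ.1.isGenericPoint_genericPoint hZcl).def
  refine ⟨η, ?_, specializes_iff_mem_closure.2 (hηZ ▸ hxZ)⟩
  -- the open complement of the other components
  have hfin : (irreducibleComponents T \ {Z}).Finite :=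
    (NoetherianSpace.finite_irreducibleComponents (α := T)).subset Set.sdiff_subset
  have hOcl : IsClosed (⋃₀ (irreducibleComponents T \ {Z})) := by
    rw [Set.sUnion_eq_biUnion]
    exact hfin.isClosed_biUnion fun Z' hZ' => isClosed_of_mem_irreducibleComponents Z' hZ'.1
  have hηO : η ∉ ⋃₀ (irreducibleComponents T \ {Z}) := by
    rintro ⟨Z', ⟨hZ', hne⟩, hηZ'⟩
    have hsub : Z ⊆ Z' := by
      rw [← hηZ]
      exact closure_minimal (Set.singleton_subset_iff.2 hηZ') (isClosed_of_mem_irreducibleComponents Z' hZ')
    exact hne (Set.mem_singleton_iff.2 (Set.Subset.antisymm (hZ.2 hZ'.1 hsub) hsub))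
  obtain ⟨w, hwO, hwW⟩ := hWd.inter_open_nonempty _ hOcl.isOpen_compl ⟨η, hηO⟩
  have hwZ : w ∈ Z := by
    by_contra hwZ
    apply hwO
    refine ⟨irreducibleComponent w, ⟨irreducibleComponent_mem_irreducibleComponents w, ?_⟩,
      mem_irreducibleComponent⟩
    intro h
    rw [Set.mem_singleton_iff] at h
    exact hwZ (h ▸ mem_irreducibleComponent)
  have hs : η ⤳ w := specializes_iff_mem_closure.2 (hηZ ▸ hwZ)
  exact hs.mem_open hWo hwW

/-- in a Noetherian quasi-sober T0 space of dimension at most one, the points outside a dense open set are closed -/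
theorem isClosed_singleton_of_notMem [NoetherianSpace T] [QuasiSober T] [T0Space T]
    (hdim : topologicalKrullDim T ≤ 1) (W : Set T) (hWo : IsOpen W) (hWd : Dense W) (x : T) (hx : x ∉ W) :
    IsClosed ({x} : Set T) := by
  obtain ⟨η, hηW, hs⟩ := exists_generization_mem_of_dense W hWo hWd x
  exact Groth.Agent.Lib.Helper8.EffCart.isClosed_singleton_of_specializes hdim hs
    (fun h => hx (h ▸ hηW))

/-- a closed set all of whose points are closed is finite (Noetherian quasi-sober spaces) -/
theorem finite_of_isClosed_of_forall_isClosed [NoetherianSpace T] [QuasiSober T] (C : Set T) (hC : IsClosed C)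
    (hpt : ∀ x ∈ C, IsClosed ({x} : Set T)) : C.Finite := by
  obtain ⟨S, hSf, hSc, hSi, rfl⟩ := NoetherianSpace.exists_finite_set_isClosed_irreducible hC
  refine hSf.sUnion fun t ht => ?_
  obtain ⟨ξ, hξ⟩ := QuasiSober.sober (hSi t ht) (hSc t ht)
  have hξt : ξ ∈ t := hξ.mem
  have hcl : IsClosed ({ξ} : Set T) := hpt ξ ⟨t, ht, hξt⟩
  have : t = {ξ} := by rw [← hξ.def, hcl.closure_eq]
  rw [this]
  exact Set.finite_singleton ξ

/-- the complement of a dense open set in a Noetherian quasi-sober T0 space of dimension at most one is finite and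
consists of closed points -/
theorem finite_compl [NoetherianSpace T] [QuasiSober T] [T0Space T]
    (hdim : topologicalKrullDim T ≤ 1) (W : Set T) (hWo : IsOpen W) (hWd : Dense W) : Wᶜ.Finite :=
  finite_of_isClosed_of_forall_isClosed Wᶜ hWo.isClosed_compl
    (fun x hx => isClosed_singleton_of_notMem hdim W hWo hWd x hx)

theorem isClosed_of_subset_compl [NoetherianSpace T] [QuasiSober T] [T0Space T]
    (hdim : topologicalKrullDim T ≤ 1) (W : Set T) (hWo : IsOpen W) (hWd : Dense W) (A : Set T)
    (hA : A ⊆ Wᶜ) : IsClosed A := by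
  have hAfin : A.Finite := (finite_compl hdim W hWo hWd).subset hA
  have : A = ⋃ a ∈ A, ({a} : Set T) := (Set.biUnion_of_singleton A).symm
  rw [this]
  exact hAfin.isClosed_biUnion fun a ha => isClosed_singleton_of_notMem hdim W hWo hWd a (hA ha)

end Groth.Agent.Lib.Helper8.DenseOpen
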