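import Groth.Agent.Lib.Helper8.CurveVan
import Groth.Agent.Lib.Helper8.DenseOpen
import Groth.Agent.Lib.Helper8.CompSum
import Groth.Agent.Lib.Helper4.GenericNhds

/-! # Helper8 — vanishing of `H^p` (`p ≥ 2`) of quasi-coherent modules on Noetherian separated schemes of dimension ≤ 1 (not necessarily integral); dense affine opens -/
set_option autoImplicit false
universe u
open CategoryTheory CategoryTheory.Limits AlgebraicGeometry Opposite TopologicalSpace

namespace Groth.Agent.Lib.Helper8.CurveVan2

open Groth.Agent.Lib.Helper8.CurveVan Groth.Agent.Lib.Helper8.DenseOpen Groth.Agent.Lib.Helper8.CompSum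

variable {X : Scheme.{u}}

/-- vanishing of `H^{p+2}` of quasi-coherent modules when the complement of an affine open consists of finitely many
closed points (all its subsets are closed) -/
theorem subsingleton_HH_of_compl_closed {S : Scheme.{u}} [IsAffine S]
    (g : X ⟶ S) [IsSeparated g] (U : X.Opens) (hU : IsAffineOpen U)
    (hclosed : ∀ A : Set X, A ⊆ ((U : Set X))ᶜ → IsClosed A) (F : X.Modules)
    [F.IsQuasicoherent] (p : ℕ) : Subsingleton (Coh.HH X F (p + 2)) := by
  haveI : IsAffine (U : Scheme.{u}) := hU
  haveI : IsAffineHom (U.ι ≫ g) := inferInstance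
  haveI : IsAffineHom U.ι := IsAffineHom.of_comp U.ι g
  have hG : ∀ n : ℕ, Subsingleton (Coh.HH X (jj U F) (n + 1)) := by
    intro n
    haveI : Coh.IsQCoh ((Scheme.Modules.restrictFunctor U.ι).obj F) :=
      inferInstanceAs ((F.restrict U.ι).IsQuasicoherent)
    obtain ⟨e⟩ := Groth.Agent.S0012.result U.ι ((Scheme.Modules.restrictFunctor U.ι).obj F) (n + 1)
    haveI := Groth.Agent.S0007.result (U : Scheme.{u}) ((Scheme.Modules.restrictFunctor U.ι).obj F)
      (n + 1) (Nat.succ_pos n)
    exact e.symm.toEquiv.subsingleton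
  have hK : ∀ n : ℕ, Subsingleton (Coh.HH X (kernel (unitMap U F)) (n + 1)) := fun n =>
    subsingleton_HH_of_subsets_closed _
      (fun A hA => hclosed A (hA.trans (support_kernel_unitMap_subset U F))) n
  have hC : ∀ n : ℕ, Subsingleton (Coh.HH X (cokernel (unitMap U F)) (n + 1)) := fun n =>
    subsingleton_HH_of_subsets_closed _
      (fun A hA => hclosed A (hA.trans (support_cokernel_unitMap_subset U F))) n
  have hI : Subsingleton (Coh.HH X (Abelian.image (unitMap U F)) (p + 2)) :=
    subsingleton_HH₁ _ (Groth.Agent.Lib.Helper6.DevStep.sc2_shortExact (unitMap U F)) (p + 1)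
      (hC p) (hG (p + 1))
  exact subsingleton_HH₂ _ (shortExact_kernel_image (unitMap U F)) (p + 2) (hK (p + 1)) hI

/-- a Noetherian scheme has a dense affine open -/
theorem exists_affine_dense [IsNoetherian X] : ∃ U : X.Opens, IsAffineOpen U ∧ Dense (U : Set X) := by
  haveI : Finite (irreducibleComponents (X : Type u)) :=
    (NoetherianSpace.finite_irreducibleComponents (α := X)).to_subtype
  obtain ⟨n, ⟨e⟩⟩ := Finite.exists_equiv_fin (irreducibleComponents (X : Type u))
  let η : Fin n → X := fun i => gp X (e.symm i)
  have hη : ∀ i, closure ({η i} : Set X) ∈ irreducibleComponents (X : Type u) := fun i => by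
    rw [closure_gp X (e.symm i)]
    exact (e.symm i).2
  have hinj : Function.Injective η := (gp_injective X).comp e.symm.injective
  obtain ⟨V, hV, -, haff⟩ := Groth.Agent.Lib.Helper4.GenericNhds.main1 X η hη hinj
  refine ⟨⨆ i, V i, haff, fun x => ?_⟩
  let Z : irreducibleComponents (X : Type u) :=
    ⟨irreducibleComponent x, irreducibleComponent_mem_irreducibleComponents x⟩
  have hx : x ∈ closure ({gp X Z} : Set X) := by
    rw [closure_gp X Z]
    exact mem_irreducibleComponent
  refine closure_mono ?_ hx
  rw [Set.singleton_subset_iff]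
  have : gp X Z = η (e Z) := by simp [η]
  rw [this]
  exact Opens.mem_iSup.2 ⟨e Z, (hV (e Z)).2⟩

/-- **vanishing of cohomology above degree one on Noetherian separated schemes of dimension at most one**, for
quasi-coherent modules -/
theorem subsingleton_HH_of_dim_le_one [IsNoetherian X] {S : Scheme.{u}} [IsAffine S]
    (g : X ⟶ S) [IsSeparated g] (hdim : topologicalKrullDim X ≤ 1) (F : X.Modules)
    [F.IsQuasicoherent] (p : ℕ) : Subsingleton (Coh.HH X F (p + 2)) := by
  obtain ⟨U, hU, hUd⟩ := exists_affine_dense (X := X)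
  exact subsingleton_HH_of_compl_closed g U hU
    (fun A hA => isClosed_of_subset_compl hdim (U : Set X) U.isOpen hUd A hA) F p

end Groth.Agent.Lib.Helper8.CurveVan2
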