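import Groth.Agent.Lib.Helper8.InjEmb
import Mathlib.Algebra.Category.ModuleCat.Sheaf.Abelian
import Mathlib.Algebra.Category.ModuleCat.Sheaf.Colimits
import Mathlib.Algebra.Category.Grp.FilteredColimits
import Mathlib.CategoryTheory.Sites.Abelian

/-!
# Sheaves of modules on a small site form a Grothendieck abelian category
-/

set_option linter.style.haveILetI false
set_option linter.unusedSectionVars false

namespace Groth.Agent.Lib.Helper8.SheafModGroth

open CategoryTheory Limits

universe v u

section Generic

variable {C : Type*} [Category* C] {D : Type*} [Category* D] {F : C ⥤ D} {G : D ⥤ C}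

lemma isSeparator_of_adjunction (adj : F ⊣ G) [G.Faithful] {S : C} (hS : IsSeparator S) :
    IsSeparator (F.obj S) := by
  rw [isSeparator_def] at hS ⊢
  intro X Y f g h
  apply G.map_injective
  apply hS
  intro k
  have := h ((adj.homEquiv _ _).symm k)
  have h2 := congrArg (adj.homEquiv _ _) this
  simpa [Adjunction.homEquiv_naturality_right] using h2

end Generic

variable {C : Type u} [SmallCategory C] (J : GrothendieckTopology C) (R : Sheaf J RingCat.{u})

theorem main : IsGrothendieckAbelian.{u} (SheafOfModules.{u} R) := by
  let adj := PresheafOfModules.sheafificationAdjunction (𝟙 R.obj)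
  exact
    { ab5OfSize := ⟨fun K _ _ => adj.hasExactColimitsOfShape K⟩
      hasSeparator := ⟨_, isSeparator_of_adjunction adj
        (isSeparator_separator (PresheafOfModules.{u} R.obj))⟩ }

theorem enoughInjectives : EnoughInjectives (SheafOfModules.{u} R) := by
  have := main J R
  infer_instance

end Groth.Agent.Lib.Helper8.SheafModGroth
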