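import Groth.Agent.Lib.Helper8.RDer4

/-!
# Helper8: the long exact sequence of right derived functors, and `DerivedLES`
-/

universe v u v' u'

open CategoryTheory CategoryTheory.Limits

namespace Groth.Agent.Lib.Helper8.RDer5

open RDer RDer2

section Transport

variable {E : Type*} [Category E] [Abelian E] {A₁ A₂ A₃ B₁ B₂ B₃ : E}

lemma exact_transport (f : A₁ ⟶ A₂) (g : A₂ ⟶ A₃) (w : f ≫ g = 0) (f' : B₁ ⟶ B₂) (g' : B₂ ⟶ B₃)
    (w' : f' ≫ g' = 0) (e₁ : A₁ ≅ B₁) (e₂ : A₂ ≅ B₂) (e₃ : A₃ ≅ B₃)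
    (c₁ : f ≫ e₂.hom = e₁.hom ≫ f') (c₂ : g ≫ e₃.hom = e₂.hom ≫ g')
    (h : (ShortComplex.mk f' g' w').Exact) : (ShortComplex.mk f g w).Exact :=
  ShortComplex.exact_of_iso
    (ShortComplex.isoMk (S₁ := ShortComplex.mk f g w) (S₂ := ShortComplex.mk f' g' w')
      e₁ e₂ e₃ c₁.symm c₂.symm).symm h

lemma zero_transport (f : A₁ ⟶ A₂) (g : A₂ ⟶ A₃) (f' : B₁ ⟶ B₂) (g' : B₂ ⟶ B₃)
    (w' : f' ≫ g' = 0) (e₁ : A₁ ≅ B₁) (e₂ : A₂ ≅ B₂) (e₃ : A₃ ≅ B₃)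
    (c₁ : f ≫ e₂.hom = e₁.hom ≫ f') (c₂ : g ≫ e₃.hom = e₂.hom ≫ g') : f ≫ g = 0 := by
  rw [← cancel_mono e₃.hom, Category.assoc, c₂, reassoc_of% c₁, w', comp_zero, zero_comp]

end Transport

variable {C : Type u} [Category.{v} C] [Abelian C] [HasInjectiveResolutions C]
  {D : Type u'} [Category.{v'} D] [Abelian D] (F : C ⥤ D) [F.Additive]
  {S : ShortComplex C} (T : SESRes S)

lemma nat_f (n : ℕ) : (F.rightDerived n).map S.f ≫ (T.I₂.isoRightDerivedObj F n).hom =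
    (T.I₁.isoRightDerivedObj F n).hom ≫ HomologicalComplex.homologyMap
      ((F.mapHomologicalComplex (ComplexShape.up ℕ)).map T.f) n :=
  InjectiveResolution.isoRightDerivedObj_hom_naturality S.f T.I₁ T.I₂ T.f (ε_f T) F n

lemma nat_g (n : ℕ) : (F.rightDerived n).map S.g ≫ (T.I₃.isoRightDerivedObj F n).hom =
    (T.I₂.isoRightDerivedObj F n).hom ≫ HomologicalComplex.homologyMap
      ((F.mapHomologicalComplex (ComplexShape.up ℕ)).map T.g) n :=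
  InjectiveResolution.isoRightDerivedObj_hom_naturality S.g T.I₂ T.I₃ T.g (ε_g T) F n

include T in
lemma exact₂ (n : ℕ) :
    (ShortComplex.mk ((F.rightDerived n).map S.f) ((F.rightDerived n).map S.g)
      (by rw [← Functor.map_comp, S.zero, Functor.map_zero])).Exact :=
  exact_transport _ _ _ _ _ _ (T.I₁.isoRightDerivedObj F n) (T.I₂.isoRightDerivedObj F n)
    (T.I₃.isoRightDerivedObj F n) (nat_f F T n) (nat_g F T n)
    ((T.map_shortExact F).homology_exact₂ n)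

lemma comp_δ (n₀ n₁ : ℕ) (h : n₀ + 1 = n₁) :
    (F.rightDerived n₀).map S.g ≫ T.delta F n₀ n₁ h = 0 :=
  zero_transport _ _ _ _ ((T.map_shortExact F).comp_δ n₀ n₁ h) (T.I₂.isoRightDerivedObj F n₀)
    (T.I₃.isoRightDerivedObj F n₀) (T.I₁.isoRightDerivedObj F n₁) (nat_g F T n₀)
    (T.delta_comp_isoRightDerivedObj_hom F n₀ n₁ h)

lemma exact₃ (n₀ n₁ : ℕ) (h : n₀ + 1 = n₁) :
    (ShortComplex.mk _ _ (comp_δ F T n₀ n₁ h)).Exact :=
  exact_transport _ _ _ _ _ _ (T.I₂.isoRightDerivedObj F n₀)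
    (T.I₃.isoRightDerivedObj F n₀) (T.I₁.isoRightDerivedObj F n₁) (nat_g F T n₀)
    (T.delta_comp_isoRightDerivedObj_hom F n₀ n₁ h)
    ((T.map_shortExact F).homology_exact₃ n₀ n₁ h)

lemma δ_comp (n₀ n₁ : ℕ) (h : n₀ + 1 = n₁) :
    T.delta F n₀ n₁ h ≫ (F.rightDerived n₁).map S.f = 0 :=
  zero_transport _ _ _ _ ((T.map_shortExact F).δ_comp n₀ n₁ h) (T.I₃.isoRightDerivedObj F n₀)
    (T.I₁.isoRightDerivedObj F n₁) (T.I₂.isoRightDerivedObj F n₁)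
    (T.delta_comp_isoRightDerivedObj_hom F n₀ n₁ h) (nat_f F T n₁)

lemma exact₁ (n₀ n₁ : ℕ) (h : n₀ + 1 = n₁) :
    (ShortComplex.mk _ _ (δ_comp F T n₀ n₁ h)).Exact :=
  exact_transport _ _ _ _ _ _ (T.I₃.isoRightDerivedObj F n₀)
    (T.I₁.isoRightDerivedObj F n₁) (T.I₂.isoRightDerivedObj F n₁)
    (T.delta_comp_isoRightDerivedObj_hom F n₀ n₁ h) (nat_f F T n₁)
    ((T.map_shortExact F).homology_exact₁ n₀ n₁ h)

end Groth.Agent.Lib.Helper8.RDer5
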