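import Groth.Prelude.Def_DeltaF
import Mathlib.Tactic

/-! Grothendieck's theorem: an effaceable cohomological δ-functor is universal. -/

set_option autoImplicit false
universe v u v' u'

open CategoryTheory CategoryTheory.Limits

namespace Groth.Agent.Lib.Helper8.DeltaFLib

open DeltaF

variable {A : Type u} [Category.{v} A] [Abelian A] {B : Type u'} [Category.{v'} B] [Abelian B]
  (T T' : CohDeltaFunctor A B ℕ) (n : ℕ) (σ : T.F n ⟶ T'.F n)

/-- The short exact sequence attached to a monomorphism. -/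
noncomputable abbrev sesOfMono {X Y : A} (u : X ⟶ Y) : ShortComplex A :=
  ShortComplex.mk u (cokernel.π u) (cokernel.condition u)

lemma sesOfMono_shortExact {X Y : A} (u : X ⟶ Y) [Mono u] : (sesOfMono u).ShortExact :=
  ShortComplex.ShortExact.mk' (ShortComplex.exact_of_g_is_cokernel _ (cokernelIsCokernel u))
    inferInstance inferInstance

lemma epi_δ (S : ShortComplex A) (hS : S.ShortExact) (h0 : (T.F (n + 1)).map S.f = 0) :
    Epi (T.δ S hS n (n + 1) rfl) :=
  (T.exact₁ S hS n (n + 1) rfl).epi_f h0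

lemma exists_e (S : ShortComplex A) (hS : S.ShortExact) (h0 : (T.F (n + 1)).map S.f = 0) :
    ∃ e : (T.F (n + 1)).obj S.X₁ ⟶ (T'.F (n + 1)).obj S.X₁,
      T.δ S hS n (n + 1) rfl ≫ e = σ.app S.X₃ ≫ T'.δ S hS n (n + 1) rfl := by
  have hepi := epi_δ T n S hS h0
  have hex := T.exact₃ S hS n (n + 1) rfl
  haveI : Epi (ShortComplex.mk _ _ (T.comp_δ S hS n (n + 1) rfl)).g := hepi
  have hz : (T.F n).map S.g ≫ (σ.app S.X₃ ≫ T'.δ S hS n (n + 1) rfl) = 0 := by
    rw [← Category.assoc, σ.naturality, Category.assoc, T'.comp_δ, comp_zero]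
  exact ⟨hex.desc _ hz, hex.g_desc _ hz⟩

/-- The map in degree `n+1` defined by an effacing short exact sequence. -/
noncomputable def e (S : ShortComplex A) (hS : S.ShortExact) (h0 : (T.F (n + 1)).map S.f = 0) :
    (T.F (n + 1)).obj S.X₁ ⟶ (T'.F (n + 1)).obj S.X₁ :=
  (exists_e T T' n σ S hS h0).choose

lemma δ_e (S : ShortComplex A) (hS : S.ShortExact) (h0 : (T.F (n + 1)).map S.f = 0) :
    T.δ S hS n (n + 1) rfl ≫ e T T' n σ S hS h0 = σ.app S.X₃ ≫ T'.δ S hS n (n + 1) rfl :=
  (exists_e T T' n σ S hS h0).choose_spec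

/-- Lemma A: compatibility of `e` with morphisms of effacing sequences. -/
lemma e_natural {S S' : ShortComplex A} (hS : S.ShortExact) (hS' : S'.ShortExact)
    (h0 : (T.F (n + 1)).map S.f = 0) (h0' : (T.F (n + 1)).map S'.f = 0) (φ : S ⟶ S') :
    e T T' n σ S hS h0 ≫ (T'.F (n + 1)).map φ.τ₁ =
      (T.F (n + 1)).map φ.τ₁ ≫ e T T' n σ S' hS' h0' := by
  haveI := epi_δ T n S hS h0
  rw [← cancel_epi (T.δ S hS n (n + 1) rfl)]
  rw [reassoc_of% (δ_e T T' n σ S hS h0), ← T'.δ_natural hS hS' φ n (n + 1) rfl,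
    ← Category.assoc, ← σ.naturality, Category.assoc, ← δ_e T T' n σ S' hS' h0',
    ← Category.assoc, T.δ_natural hS hS' φ n (n + 1) rfl, Category.assoc]

/-- Lemma C: compatibility of `e` with arbitrary morphisms between the first terms. -/
lemma e_natural' {S S' : ShortComplex A} (hS : S.ShortExact) (hS' : S'.ShortExact)
    (h0 : (T.F (n + 1)).map S.f = 0) (h0' : (T.F (n + 1)).map S'.f = 0) (f : S.X₁ ⟶ S'.X₁) :
    e T T' n σ S hS h0 ≫ (T'.F (n + 1)).map f =
      (T.F (n + 1)).map f ≫ e T T' n σ S' hS' h0' := by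
  haveI := hS.mono_f
  haveI := hS'.mono_f
  -- the pushout sequence
  let P := pushout S.f (f ≫ S'.f)
  let i₁ : S.X₂ ⟶ P := pushout.inl _ _
  let i₂ : S'.X₂ ⟶ P := pushout.inr _ _
  have hsq : S.f ≫ i₁ = (f ≫ S'.f) ≫ i₂ := pushout.condition
  haveI : Mono i₂ := Abelian.mono_pushout_of_mono_f S.f (f ≫ S'.f)
  let u : S'.X₁ ⟶ P := S'.f ≫ i₂
  haveI : Mono u := mono_comp _ _
  let S'' := sesOfMono u
  have hS'' : S''.ShortExact := sesOfMono_shortExact u
  have h0'' : (T.F (n + 1)).map S''.f = 0 := by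
    change (T.F (n + 1)).map (S'.f ≫ i₂) = 0
    rw [Functor.map_comp, h0', zero_comp]
  haveI := hS.epi_g
  haveI := hS'.epi_g
  -- morphism S ⟶ S'' over f
  let φ : S ⟶ S'' :=
    { τ₁ := f
      τ₂ := i₁
      τ₃ := hS.exact.desc (i₁ ≫ cokernel.π u) (by
        rw [← Category.assoc, hsq]
        change ((f ≫ S'.f) ≫ i₂) ≫ cokernel.π (S'.f ≫ i₂) = 0
        have hc : (S'.f ≫ i₂) ≫ cokernel.π (S'.f ≫ i₂) = 0 := cokernel.condition _
        rw [Category.assoc] at hc
        rw [Category.assoc, Category.assoc, hc, comp_zero])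
      comm₁₂ := by
        change f ≫ S'.f ≫ i₂ = S.f ≫ i₁
        rw [hsq, Category.assoc]
      comm₂₃ := by
        change i₁ ≫ cokernel.π u = S.g ≫ _
        rw [ShortComplex.Exact.g_desc] }
  -- morphism S' ⟶ S'' over the identity
  let ψ : S' ⟶ S'' :=
    { τ₁ := 𝟙 _
      τ₂ := i₂
      τ₃ := hS'.exact.desc (i₂ ≫ cokernel.π u) (by
        rw [← Category.assoc]
        exact cokernel.condition u)
      comm₁₂ := by
        change 𝟙 _ ≫ S'.f ≫ i₂ = S'.f ≫ i₂
        rw [Category.id_comp]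
      comm₂₃ := by
        change i₂ ≫ cokernel.π u = S'.g ≫ _
        rw [ShortComplex.Exact.g_desc] }
  have h1 := e_natural T T' n σ hS hS'' h0 h0'' φ
  have h2 := e_natural T T' n σ hS' hS'' h0' h0'' ψ
  change e T T' n σ S' hS' h0' ≫ (T'.F (n + 1)).map (𝟙 _) =
    (T.F (n + 1)).map (𝟙 _) ≫ e T T' n σ S'' hS'' h0'' at h2
  rw [CategoryTheory.Functor.map_id, CategoryTheory.Functor.map_id, Category.comp_id,
    Category.id_comp] at h2
  rw [h2]
  exact h1

section Step

variable (hT : T.IsEffaceable)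

/-- A chosen effacing monomorphism. -/
noncomputable def effY (X : A) : A := (hT n X).choose

noncomputable def effu (X : A) : X ⟶ effY T n hT X := (hT n X).choose_spec.choose

instance (X : A) : Mono (effu T n hT X) := (hT n X).choose_spec.choose_spec.1

lemma effu_zero (X : A) : (T.F (n + 1)).map (effu T n hT X) = 0 :=
  (hT n X).choose_spec.choose_spec.2

/-- The extension of `σ` to degree `n + 1`. -/
noncomputable def next : T.F (n + 1) ⟶ T'.F (n + 1) where
  app X := e T T' n σ (sesOfMono (effu T n hT X)) (sesOfMono_shortExact _) (effu_zero T n hT X)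
  naturality X X' f :=
    (e_natural' T T' n σ (sesOfMono_shortExact (effu T n hT X))
      (sesOfMono_shortExact (effu T n hT X')) (effu_zero T n hT X) (effu_zero T n hT X') f).symm

lemma next_app_eq (S : ShortComplex A) (hS : S.ShortExact) (h0 : (T.F (n + 1)).map S.f = 0) :
    (next T T' n σ hT).app S.X₁ = e T T' n σ S hS h0 := by
  have h := e_natural' T T' n σ (sesOfMono_shortExact (effu T n hT S.X₁)) hS
    (effu_zero T n hT S.X₁) h0 (𝟙 S.X₁)
  change (next T T' n σ hT).app S.X₁ ≫ (T'.F (n + 1)).map (𝟙 S.X₁) =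
    (T.F (n + 1)).map (𝟙 S.X₁) ≫ e T T' n σ S hS h0 at h
  rw [CategoryTheory.Functor.map_id, CategoryTheory.Functor.map_id] at h
  exact (Category.comp_id _).symm.trans (h.trans (Category.id_comp _))

/-- Lemma D: `next` commutes with the connecting morphisms of all short exact sequences. -/
lemma next_comm (S : ShortComplex A) (hS : S.ShortExact) :
    T.δ S hS n (n + 1) rfl ≫ (next T T' n σ hT).app S.X₁ =
      σ.app S.X₃ ≫ T'.δ S hS n (n + 1) rfl := by
  haveI := hS.mono_f
  haveI := hS.epi_g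
  let v := effu T n hT S.X₂
  let u : S.X₁ ⟶ effY T n hT S.X₂ := S.f ≫ v
  haveI : Mono u := mono_comp _ _
  let Su := sesOfMono u
  have hSu : Su.ShortExact := sesOfMono_shortExact u
  have h0u : (T.F (n + 1)).map Su.f = 0 := by
    change (T.F (n + 1)).map (S.f ≫ v) = 0
    rw [Functor.map_comp, effu_zero, comp_zero]
  let φ : S ⟶ Su :=
    { τ₁ := 𝟙 _
      τ₂ := v
      τ₃ := hS.exact.desc (v ≫ cokernel.π u) (by
        rw [← Category.assoc]
        exact cokernel.condition u)
      comm₁₂ := by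
        change 𝟙 _ ≫ S.f ≫ v = S.f ≫ v
        rw [Category.id_comp]
      comm₂₃ := by
        change v ≫ cokernel.π u = S.g ≫ _
        rw [ShortComplex.Exact.g_desc] }
  have hn : (next T T' n σ hT).app S.X₁ = e T T' n σ Su hSu h0u :=
    next_app_eq T T' n σ hT Su hSu h0u
  have h1 := T.δ_natural hS hSu φ n (n + 1) rfl
  have h2 := T'.δ_natural hS hSu φ n (n + 1) rfl
  change (T.F n).map φ.τ₃ ≫ T.δ Su hSu n (n + 1) rfl =
    T.δ S hS n (n + 1) rfl ≫ (T.F (n + 1)).map (𝟙 _) at h1
  change (T'.F n).map φ.τ₃ ≫ T'.δ Su hSu n (n + 1) rfl =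
    T'.δ S hS n (n + 1) rfl ≫ (T'.F (n + 1)).map (𝟙 _) at h2
  rw [CategoryTheory.Functor.map_id, Category.comp_id] at h1 h2
  rw [hn, ← h1, Category.assoc, δ_e, ← h2, ← Category.assoc, σ.naturality, Category.assoc]

lemma next_unique (σ'' : T.F (n + 1) ⟶ T'.F (n + 1))
    (h : ∀ (S : ShortComplex A) (hS : S.ShortExact),
      T.δ S hS n (n + 1) rfl ≫ σ''.app S.X₁ = σ.app S.X₃ ≫ T'.δ S hS n (n + 1) rfl) :
    σ'' = next T T' n σ hT := by
  ext X
  let S := sesOfMono (effu T n hT X)
  have hS : S.ShortExact := sesOfMono_shortExact _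
  haveI := epi_δ T n S hS (effu_zero T n hT X)
  rw [← cancel_epi (T.δ S hS n (n + 1) rfl)]
  exact (h S hS).trans (next_comm T T' n σ hT S hS).symm

end Step

section Main

variable (hT : T.IsEffaceable) (t : T.F 0 ⟶ T'.F 0)

/-- The sequence of natural transformations extending `t`. -/
noncomputable def seq : ∀ n : ℕ, T.F n ⟶ T'.F n
  | 0 => t
  | (n + 1) => next T T' n (seq n) hT

/-- The morphism of delta-functors extending `t`. -/
noncomputable def ext : T ⟶ T' :=
  CohDeltaFunctor.Hom.mk (seq T T' hT t) (fun S hS n₀ n₁ h => by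
    subst h
    exact next_comm T T' n₀ (seq T T' hT t n₀) hT S hS)

include hT in
theorem isUniversal : T.IsUniversal := by
  intro T' t
  refine ⟨ext T T' hT t, rfl, ?_⟩
  intro τ hτ
  apply CohDeltaFunctor.hom_ext
  intro n
  induction n with
  | zero => exact hτ
  | succ n ih =>
    have := next_unique T T' n (τ.app n) hT (τ.app (n + 1)) (fun S hS => τ.comm S hS n (n + 1) rfl)
    rw [this, ih]
    rfl

end Main

end Groth.Agent.Lib.Helper8.DeltaFLib
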