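import Mathlib
import Groth.Prelude.Def_CurvBase
import Groth.Agent.S0034
import Groth.Agent.Lib.Helper16.RS6
import Groth.Agent.Lib.Helper2.SerreFin1

/-! # Helper8 — Euler characteristic and degree are invariant under base field extension (via S0034 flat base change) -/
set_option autoImplicit false

universe u

open CategoryTheory CategoryTheory.Limits AlgebraicGeometry

namespace Groth.Agent.Lib.Helper8.EulerBC

open Groth.Agent.Lib.Helper2.SerreFin1

/-- iso-invariance of the dimension of cohomology -/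
lemma finrank_congr (k : Type u) [Field k] {X : Scheme.{u}} [X.Over (Spec (CommRingCat.of k))]
    {M M' : X.Modules} (e : M ≅ M') (i : ℕ) :
    Module.finrank k (Coh.HH X M i) = Module.finrank k (Coh.HH X M' i) := by
  refine LinearEquiv.finrank_eq (LinearEquiv.ofLinearMap (Canon.HHlin k e.hom i) (Canon.HHlin k e.inv i) ?_ ?_)
  · ext y
    exact (HHlin_comp_apply k e.inv e.hom i y).trans
      (by rw [e.inv_hom_id]; exact HHlin_id_apply k i y)
  · ext y
    exact (HHlin_comp_apply k e.hom e.inv i y).trans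
      (by rw [e.hom_inv_id]; exact HHlin_id_apply k i y)

lemma euler_congr (k : Type u) [Field k] {X : Scheme.{u}} [X.Over (Spec (CommRingCat.of k))]
    {M M' : X.Modules} (e : M ≅ M') : Curv2.euler k X M = Curv2.euler k X M' := by
  unfold Curv2.euler
  exact finsum_congr fun i => by rw [finrank_congr k e i]

variable (k : Type u) [Field k] (X : Scheme.{u}) [X.Over (Spec (CommRingCat.of k))]
  (k' : Type u) [Field k'] [Algebra k k']

lemma finrank_bc [CompactSpace X] [QuasiSeparatedSpace X] (F : X.Modules) (hF : Coh.IsQCoh F)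
    (i : ℕ) :
    letI : (Curv2.bc k X k').Over (Spec (CommRingCat.of k')) := ⟨Curv2.bcSnd k X k'⟩
    Module.finrank k' (Coh.HH (Curv2.bc k X k')
      ((Scheme.Modules.pullback (Curv2.bcFst k X k')).obj F) i) =
      Module.finrank k (Coh.HH X F i) := by
  letI : (Curv2.bc k X k').Over (Spec (CommRingCat.of k')) := ⟨Curv2.bcSnd k X k'⟩
  haveI : Coh.IsQCoh F := hF
  obtain ⟨e⟩ := Groth.Agent.S0034.result k k' X (Curv2.bc k X k') (Curv2.bcFst k X k')
    (IsPullback.of_hasPullback _ _) F i
  rw [← e.finrank_eq, Module.finrank_baseChange]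

lemma euler_bc [CompactSpace X] [QuasiSeparatedSpace X] (F : X.Modules) (hF : Coh.IsQCoh F) :
    @Curv2.euler k' _ (Curv2.bc k X k') ⟨Curv2.bcSnd k X k'⟩
      ((Scheme.Modules.pullback (Curv2.bcFst k X k')).obj F) = Curv2.euler k X F := by
  unfold Curv2.euler
  exact finsum_congr fun i => by rw [finrank_bc k X k' F hF i]

lemma euler_bc_unit [CompactSpace X] [QuasiSeparatedSpace X] :
    @Curv2.euler k' _ (Curv2.bc k X k') ⟨Curv2.bcSnd k X k'⟩
      (Coh.structureModule (Curv2.bc k X k')) = Curv2.euler k X (Coh.structureModule X) := by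
  letI : (Curv2.bc k X k').Over (Spec (CommRingCat.of k')) := ⟨Curv2.bcSnd k X k'⟩
  rw [← euler_bc k X k' (Coh.structureModule X) inferInstance]
  exact (euler_congr k' (Groth.Agent.Lib.Helper16.RS.pullbackUnitIso (Curv2.bcFst k X k'))).symm

lemma deg_bc [CompactSpace X] [QuasiSeparatedSpace X] (E : X.Modules) (hE : Coh.IsQCoh E) (n : ℕ) :
    @Curv2.deg k' _ (Curv2.bc k X k') ⟨Curv2.bcSnd k X k'⟩
      ((Scheme.Modules.pullback (Curv2.bcFst k X k')).obj E) n = Curv2.deg k X E n := by
  unfold Curv2.deg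
  rw [euler_bc k X k' E hE, euler_bc_unit k X k']

end Groth.Agent.Lib.Helper8.EulerBC
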