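import Mathlib
import Groth.Agent.Lib.Helper17.ZeroSupp
import Groth.Agent.Lib.Helper6.DevStep
import Groth.Agent.Lib.Helper4.DimOneConstructible
import Groth.Agent.Lib.Helper2.HLesLin
import Groth.Agent.S0012
import Groth.Agent.S0007

/-! # Helper8 — vanishing of H^p (p >= 2) of quasi-coherent modules on integral Noetherian separated schemes of dimension <= 1 (via j_* j^* for a dense affine open; flasqueness of modules supported in finitely many closed points) -/
set_option autoImplicit false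

universe u

open CategoryTheory CategoryTheory.Limits AlgebraicGeometry Opposite TopologicalSpace

namespace Groth.Agent.Lib.Helper8.CurveVan

open Groth.Agent.Lib.Helper28.QCohLoc Groth.Agent.Lib.Helper29.QCohStalk
  Groth.Agent.Lib.Helper17.StalkExact Groth.Agent.Lib.Helper17.ZeroSupp

variable {X : Scheme.{u}}

section flasque

/-- a module all of whose subsets of the support are closed is flasque (generalising
`Helper17.ZeroSupp.isFlasque_of_support_closedPoints`, same proof) -/
theorem isFlasque_of_subsets_closed (M : X.Modules)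
    (hcl : ∀ A : Set X, A ⊆ CohB1.support M → IsClosed A) :
    TopCat.Sheaf.IsFlasque (Coh.toAb M) where
  epi {W' U'} i := by
    rw [AddCommGrpCat.epi_iff_surjective]
    intro s
    obtain ⟨W⟩ := W'
    obtain ⟨U⟩ := U'
    have hUW : U ≤ W := leOfHom i.unop
    obtain rfl : i = (homOfLE hUW).op := Subsingleton.elim _ _
    have hcl' : IsClosed (CohB1.support M ∩ (U : Set X)) := hcl _ Set.inter_subset_left
    let V : X.Opens := W ⊓ ⟨(CohB1.support M ∩ (U : Set X))ᶜ, hcl'.isOpen_compl⟩
    let 𝒱 : Bool → X.Opens := fun b => cond b U V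
    have h𝒱 : ∀ b, 𝒱 b ≤ W := fun b => by
      cases b
      · exact inf_le_left
      · exact hUW
    have hcov : W ≤ iSup 𝒱 := by
      intro x hxW
      by_cases hx : x ∈ CohB1.support M ∩ (U : Set X)
      · exact Opens.mem_iSup.2 ⟨true, hx.2⟩
      · exact Opens.mem_iSup.2 ⟨false, ⟨hxW, hx⟩⟩
    let sf : ∀ b, Γ(M, 𝒱 b) := fun b => match b with
      | true => (show Γ(M, U) from s)
      | false => (0 : Γ(M, V))
    have hzero : ∀ (T : X.Opens) (t : Γ(M, T)), T ≤ U → T ≤ V → t = 0 := by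
      intro T t hTU hTV
      refine eq_zero_of_forall_notMem_support M t fun x hxT hxS => ?_
      exact (hTV hxT).2 ⟨hxS, hTU hxT⟩
    obtain ⟨t, ht⟩ := exists_gluing M 𝒱 W h𝒱 hcov sf (by
      intro a b
      cases a <;> cases b
      · rfl
      · exact (hzero _ _ inf_le_right inf_le_left).trans (hzero _ _ inf_le_right inf_le_left).symm
      · exact (hzero _ _ inf_le_left inf_le_right).trans (hzero _ _ inf_le_left inf_le_right).symm
      · rfl)
    exact ⟨t, ht true⟩

open Groth.Agent.Lib.Helper6.SheafCoh in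
/-- such a module is acyclic -/
theorem subsingleton_HH_of_subsets_closed (M : X.Modules)
    (hcl : ∀ A : Set X, A ⊆ CohB1.support M → IsClosed A) (n : ℕ) :
    Subsingleton (Coh.HH X M (n + 1)) := by
  haveI := isFlasque_of_subsets_closed M hcl
  refine ⟨fun a b => ?_⟩
  have h := flasque_H_eq_zero (X := X.toTopCat) (Coh.toAb M) n
  exact (h a).trans (h b).symm

end flasque

section les

open Groth.Agent.Lib.Helper2

/-- the remaining vanishing pattern in the long exact sequence -/
lemma subsingleton_X₁ {T : TopCat.{u}} {S : ShortComplex (CohTop.Ab T)} (hS : S.ShortExact) (p : ℕ)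
    (h₃ : Subsingleton (CohTop.H S.X₃ p)) (h₂ : Subsingleton (CohTop.H S.X₂ (p + 1))) :
    Subsingleton (CohTop.H S.X₁ (p + 1)) := by
  refine ⟨fun a b => ?_⟩
  have key : ∀ x : CohTop.H S.X₁ (p + 1), x = 0 := by
    intro x
    obtain ⟨x₃, rfl⟩ := HLes.exact₁ hS p x (Subsingleton.elim _ _)
    rw [Subsingleton.elim x₃ 0, map_zero]
  rw [key a, key b]

/-- module version: `H^p(X₃) = 0` and `H^{p+1}(X₂) = 0` imply `H^{p+1}(X₁) = 0` -/
lemma subsingleton_HH₁ (S : ShortComplex X.Modules) (hS : S.ShortExact) (p : ℕ)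
    (h₃ : Subsingleton (Coh.HH X S.X₃ p)) (h₂ : Subsingleton (Coh.HH X S.X₂ (p + 1))) :
    Subsingleton (Coh.HH X S.X₁ (p + 1)) :=
  subsingleton_X₁ (HLesLin.shortExact_Sab S hS) p h₃ h₂

/-- module version: `H^p(X₁) = 0` and `H^p(X₃) = 0` imply `H^p(X₂) = 0` -/
lemma subsingleton_HH₂ (S : ShortComplex X.Modules) (hS : S.ShortExact) (p : ℕ)
    (h₁ : Subsingleton (Coh.HH X S.X₁ p)) (h₃ : Subsingleton (Coh.HH X S.X₃ p)) :
    Subsingleton (Coh.HH X S.X₂ p) :=
  HLes.subsingleton_X₂ (HLesLin.shortExact_Sab S hS) p h₁ h₃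

/-- module version: `H^p(X₂) = 0` and `H^{p+1}(X₁) = 0` imply `H^p(X₃) = 0` -/
lemma subsingleton_HH₃ (S : ShortComplex X.Modules) (hS : S.ShortExact) (p : ℕ)
    (h₂ : Subsingleton (Coh.HH X S.X₂ p)) (h₁ : Subsingleton (Coh.HH X S.X₁ (p + 1))) :
    Subsingleton (Coh.HH X S.X₃ p) :=
  HLes.subsingleton_X₃ (HLesLin.shortExact_Sab S hS) p h₂ h₁

end les

section unit

theorem res_bijective_of_eq (F : X.Modules) {W V : X.Opens} (h : W ≤ V) (e : W = V) :
    Function.Bijective (res F h) := by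
  subst e
  have : (res F h : Γ(F, W) → Γ(F, W)) = id := funext (res_self F)
  rw [this]
  exact Function.bijective_id

variable (U : X.Opens) (F : X.Modules)

/-- `j_* j^* F` for the inclusion `j` of the open `U` -/
noncomputable abbrev jj : X.Modules :=
  (Scheme.Modules.pushforward U.ι).obj ((Scheme.Modules.restrictFunctor U.ι).obj F)

/-- the unit `F ⟶ j_* j^* F` -/
noncomputable abbrev unitMap : F ⟶ jj U F := (Scheme.Modules.restrictAdjunction U.ι).unit.app F

theorem image_preimage_of_le (V : X.Opens) (hV : V ≤ U) : U.ι ''ᵁ (U.ι ⁻¹ᵁ V) = V := by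
  rw [Scheme.Hom.image_preimage_eq_opensRange_inf, Scheme.Opens.opensRange_ι]
  exact inf_eq_right.2 hV

theorem unitMap_app_bijective (V : X.Opens) (hV : V ≤ U) :
    Function.Bijective ((unitMap U F).app V) :=
  res_bijective_of_eq F (U.ι.image_preimage_le V) (image_preimage_of_le U V hV)

theorem stalkHom_unitMap_injective (x : X) (hx : x ∈ U) (h : F.presheaf.stalk x)
    (hh : stalkHom (unitMap U F) x h = 0) : h = 0 := by
  obtain ⟨V, hxV, m, rfl⟩ := TopCat.Presheaf.exists_germ_eq F.presheaf h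
  have h1 : F.presheaf.germ V x hxV m = gm F (V ⊓ U) x ⟨hxV, hx⟩ (res F inf_le_left m) :=
    (gm_res F inf_le_left x ⟨hxV, hx⟩ m).symm
  rw [h1] at hh ⊢
  have h2 : stalkHom (unitMap U F) x (gm F (V ⊓ U) x ⟨hxV, hx⟩ (res F inf_le_left m)) =
      gm (jj U F) (V ⊓ U) x ⟨hxV, hx⟩ ((unitMap U F).app (V ⊓ U) (res F inf_le_left m)) :=
    stalkHom_germ (unitMap U F) x (V ⊓ U) ⟨hxV, hx⟩ _
  rw [h2] at hh
  have h0 : gm (jj U F) (V ⊓ U) x ⟨hxV, hx⟩ ((unitMap U F).app (V ⊓ U) (res F inf_le_left m)) =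
      gm (jj U F) (V ⊓ U) x ⟨hxV, hx⟩ 0 := by rw [hh, gm_zero]
  obtain ⟨W, hxW, iU, iV, hres⟩ := TopCat.Presheaf.germ_eq (jj U F).presheaf x _ _ _ _ h0
  have hres' : res (jj U F) iU.le ((unitMap U F).app (V ⊓ U) (res F inf_le_left m)) = 0 := by
    have : (jj U F).presheaf.map iV.op (0 : Γ(jj U F, V ⊓ U)) = 0 := map_zero _
    rw [this] at hres
    exact hres
  rw [← app_res] at hres'
  have h3 := (unitMap_app_bijective U F W (iU.le.trans inf_le_right)).1
    (hres'.trans (map_zero _).symm)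
  rw [← gm_res F iU.le x hxW, h3, gm_zero]

theorem stalkHom_unitMap_surjective (x : X) (hx : x ∈ U) :
    Function.Surjective (stalkHom (unitMap U F) x) := by
  intro g
  obtain ⟨V, hxV, m, rfl⟩ := TopCat.Presheaf.exists_germ_eq (jj U F).presheaf g
  obtain ⟨m', hm'⟩ := (unitMap_app_bijective U F (V ⊓ U) inf_le_right).2
    (res (jj U F) inf_le_left m)
  refine ⟨gm F (V ⊓ U) x ⟨hxV, hx⟩ m', ?_⟩
  have h2 : stalkHom (unitMap U F) x (gm F (V ⊓ U) x ⟨hxV, hx⟩ m') =
      gm (jj U F) (V ⊓ U) x ⟨hxV, hx⟩ ((unitMap U F).app (V ⊓ U) m') :=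
    stalkHom_germ (unitMap U F) x (V ⊓ U) ⟨hxV, hx⟩ _
  rw [h2, hm']
  exact gm_res (jj U F) inf_le_left x ⟨hxV, hx⟩ m

theorem support_kernel_unitMap_subset :
    CohB1.support (kernel (unitMap U F)) ⊆ ((U : Set X))ᶜ := fun x hx hxU =>
  Groth.Agent.Lib.Helper6.DevStep.notMem_support_kernel _ x
    (stalkHom_unitMap_injective U F x hxU) hx

theorem support_cokernel_unitMap_subset :
    CohB1.support (cokernel (unitMap U F)) ⊆ ((U : Set X))ᶜ := fun x hx hxU =>
  Groth.Agent.Lib.Helper6.DevStep.notMem_support_cokernel _ x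
    (stalkHom_unitMap_surjective U F x hxU) hx

end unit

section main

/-- the short exact sequence `ker f ⟶ A ⟶ im f` -/
theorem shortExact_kernel_image {A B : X.Modules} (f : A ⟶ B) :
    (ShortComplex.mk (kernel.ι f) (Abelian.factorThruImage f)
      (by
        apply (cancel_mono (Abelian.image.ι f)).1
        simp)).ShortExact := by
  refine ShortComplex.ShortExact.mk' ?_ equalizer.ι_mono (by dsimp; infer_instance)
  let T' : ShortComplex X.Modules := ShortComplex.mk (kernel.ι f) f (kernel.condition _)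
  have hT' : T'.Exact := ShortComplex.exact_of_f_is_kernel _ (kernelIsKernel f)
  let φ : ShortComplex.mk (kernel.ι f) (Abelian.factorThruImage f)
      (by
        apply (cancel_mono (Abelian.image.ι f)).1
        simp) ⟶ T' :=
    { τ₁ := 𝟙 _
      τ₂ := 𝟙 _
      τ₃ := Abelian.image.ι f
      comm₁₂ := by simp [T']
      comm₂₃ := by simp [T'] }
  haveI : Epi φ.τ₁ := by dsimp [φ]; infer_instance
  haveI : IsIso φ.τ₂ := by dsimp [φ]; infer_instance
  haveI : Mono φ.τ₃ := by dsimp [φ]; infer_instance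
  exact (ShortComplex.exact_iff_of_epi_of_isIso_of_mono φ).2 hT'

/-- **vanishing of cohomology above degree one on integral Noetherian separated schemes of dimension
at most one**, for quasi-coherent modules -/
theorem subsingleton_HH_of_dim_le_one [IsIntegral X] [IsNoetherian X] {S : Scheme.{u}} [IsAffine S]
    (g : X ⟶ S) [IsSeparated g] (hdim : topologicalKrullDim X ≤ 1) (F : X.Modules)
    [F.IsQuasicoherent] (p : ℕ) : Subsingleton (Coh.HH X F (p + 2)) := by
  obtain ⟨U, hU, hxU⟩ : ∃ U : X.Opens, IsAffineOpen U ∧ genericPoint X ∈ U := by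
    obtain ⟨_, ⟨U, hU, rfl⟩, hxU, -⟩ := X.isBasis_affineOpens.exists_subset_of_mem_open
      (Set.mem_univ (genericPoint X)) isOpen_univ
    exact ⟨U, hU, hxU⟩
  have hne : ((U : Set X))ᶜ ≠ Set.univ := by
    intro h
    have : genericPoint X ∈ ((U : Set X))ᶜ := by rw [h]; trivial
    exact this hxU
  obtain ⟨hfin, hpt⟩ := Groth.Agent.Lib.Helper4.DimOneConstructible.closed_proper_finite hdim
    ((U : Set X))ᶜ U.isOpen.isClosed_compl hne
  have hclosed : ∀ A : Set X, A ⊆ ((U : Set X))ᶜ → IsClosed A := by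
    intro A hA
    have hAfin : A.Finite := hfin.subset hA
    have : A = ⋃ a ∈ A, ({a} : Set X) := (Set.biUnion_of_singleton A).symm
    rw [this]
    exact hAfin.isClosed_biUnion fun a ha => hpt a (hA ha)
  haveI : IsAffine (U : Scheme.{u}) := hU
  haveI : IsAffineHom (U.ι ≫ g) := inferInstance
  haveI : IsAffineHom U.ι := IsAffineHom.of_comp U.ι g
  -- cohomology of `j_* j^* F`
  have hG : ∀ n : ℕ, Subsingleton (Coh.HH X (jj U F) (n + 1)) := by
    intro n
    haveI : Coh.IsQCoh ((Scheme.Modules.restrictFunctor U.ι).obj F) :=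
      inferInstanceAs ((F.restrict U.ι).IsQuasicoherent)
    obtain ⟨e⟩ := Groth.Agent.S0012.result U.ι ((Scheme.Modules.restrictFunctor U.ι).obj F) (n + 1)
    haveI := Groth.Agent.S0007.result (U : Scheme.{u}) ((Scheme.Modules.restrictFunctor U.ι).obj F)
      (n + 1) (Nat.succ_pos n)
    exact e.symm.toEquiv.subsingleton
  have hK : ∀ n : ℕ, Subsingleton (Coh.HH X (kernel (unitMap U F)) (n + 1)) := fun n =>
    subsingleton_HH_of_subsets_closed _
      (fun A hA => hclosed A (hA.trans (support_kernel_unitMap_subset U F))) n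
  have hC : ∀ n : ℕ, Subsingleton (Coh.HH X (cokernel (unitMap U F)) (n + 1)) := fun n =>
    subsingleton_HH_of_subsets_closed _
      (fun A hA => hclosed A (hA.trans (support_cokernel_unitMap_subset U F))) n
  have hI : Subsingleton (Coh.HH X (Abelian.image (unitMap U F)) (p + 2)) :=
    subsingleton_HH₁ _ (Groth.Agent.Lib.Helper6.DevStep.sc2_shortExact (unitMap U F)) (p + 1)
      (hC p) (hG (p + 1))
  exact subsingleton_HH₂ _ (shortExact_kernel_image (unitMap U F)) (p + 2) (hK (p + 1)) hI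

end main

end Groth.Agent.Lib.Helper8.CurveVan
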