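import Mathlib
import Groth.Agent.Lib.Helper8.CurveDeg1
import Groth.Agent.Lib.Helper8.CurveVan
import Groth.Agent.Lib.Helper17.Serre2

/-! # Helper8 — Riemann-Roch bookkeeping on proper integral curves: chi = h0 - h1, sections of H0 as morphisms from O_X, genus-zero computation of h0/h1 -/
set_option autoImplicit false

universe u

open CategoryTheory CategoryTheory.Limits AlgebraicGeometry Opposite TopologicalSpace

namespace Groth.Agent.Lib.Helper8.CurveRR

open Groth.Agent.Lib.Helper8.EulerK Groth.Agent.Lib.Helper8.CurveInv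
  Groth.Agent.Lib.Helper8.CurveDeg Groth.Agent.Lib.Helper8.CurveVan
  Groth.Agent.Lib.Helper28.QCohLoc

variable (k : Type u) [Field k] (X : Scheme.{u}) [X.Over (Spec (CommRingCat.of k))]
  [IsIntegral X] [IsProper (X ↘ Spec (CommRingCat.of k))]

omit [IsIntegral X] in
include k in
theorem isNoetherian : IsNoetherian X := by
  haveI := isLocallyNoetherian k X
  haveI : CompactSpace X :=
    QuasiCompact.compactSpace_of_compactSpace (X ↘ Spec (CommRingCat.of k))
  exact {}

include k in
/-- no cohomology above degree one on a proper integral curve -/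
theorem subsingleton_HH_add_two (hdim : topologicalKrullDim X ≤ 1) (F : X.Modules)
    (hF : Coh.IsQCoh F) (p : ℕ) : Subsingleton (Coh.HH X F (p + 2)) := by
  haveI := isNoetherian k X
  haveI : F.IsQuasicoherent := hF
  exact subsingleton_HH_of_dim_le_one (X ↘ Spec (CommRingCat.of k)) hdim F p

/-- `χ = h⁰ - h¹` on a proper integral curve -/
theorem euler_eq_sub (hdim : topologicalKrullDim X ≤ 1) (F : X.Modules) (hF : Coh.IsQCoh F) :
    Curv2.euler k X F =
      (Module.finrank k (Coh.HH X F 0) : ℤ) - (Module.finrank k (Coh.HH X F 1) : ℤ) := by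
  rw [euler_eq_sum k X F 2 (fun p hp => by
    obtain ⟨q, rfl⟩ : ∃ q, p = q + 2 := ⟨p - 2, by omega⟩
    exact subsingleton_HH_add_two k X hdim F hF q)]
  simp [Finset.sum_range_succ]
  ring

/-- a nonzero class in `H⁰` gives a nonzero morphism from the structure sheaf -/
theorem exists_section_ne_zero {X : Scheme.{u}} (L : X.Modules) (h : Nontrivial (Coh.HH X L 0)) :
    ∃ s : Coh.structureModule X ⟶ L, s ≠ 0 := by
  obtain ⟨x, hx⟩ := exists_ne (0 : Coh.HH X L 0)
  let e := Sheaf.H.equiv₀ (Coh.toAb L) Limits.isTerminalTop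
  have hσ : e x ≠ 0 := fun h0 => hx ((AddEquiv.map_eq_zero_iff e).1 h0)
  refine ⟨Groth.Agent.Lib.Helper17.Serre.ofSection L (e x), fun h0 => hσ ?_⟩
  have h1 := Groth.Agent.Lib.Helper17.Serre.ofSection_app_one L (e x) ⊤
  rw [h0, res_self] at h1
  exact h1.symm.trans rfl

/-- a finite-dimensional space of dimension zero is trivial -/
theorem subsingleton_of_finrank_eq_zero {V : Type*} [AddCommGroup V] [Module k V] [Module.Finite k V]
    (h : Module.finrank k V = 0) : Subsingleton V :=
  Module.finrank_zero_iff.1 h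

/-- on a proper integral curve of genus zero with `h⁰(O) = 1`, an invertible module of degree
`d > 0` has `h⁰ = d + 1` and `H¹ = 0` -/
theorem h0_h1_of_genus_zero (hdim : topologicalKrullDim X = 1)
    (h0 : Module.finrank k (Coh.HH X (Coh.structureModule X) 0) = 1) (hg : Curv2.genus k X = 0)
    (L : X.Modules) (hL : PicF.IsInvertible L) (d : ℕ) (hd : 0 < d)
    (hdeg : Curv2.deg k X L 1 = d) :
    Module.finrank k (Coh.HH X L 0) = d + 1 ∧ Subsingleton (Coh.HH X L 1) := by
  haveI : IsLocallyNoetherian X := isLocallyNoetherian k X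
  have hO := isInvertible_structureModule X
  have hcL := Groth.Agent.Lib.Helper6.K0Op.isCoh_of_isInvertible L hL
  have hcO := Groth.Agent.Lib.Helper6.K0Op.isCoh_of_isInvertible (Coh.structureModule X) hO
  have eO := euler_eq_sub k X hdim.le (Coh.structureModule X) hcO.1
  have eL := euler_eq_sub k X hdim.le L hcL.1
  unfold Curv2.genus at hg
  unfold Curv2.deg at hdeg
  rw [eO, eL, h0, hg] at hdeg
  haveI := finite_HH k X L hcL 0
  haveI := finite_HH k X L hcL 1
  haveI := finite_HH k X (Coh.structureModule X) hcO 1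
  have hpos : 0 < Module.finrank k (Coh.HH X L 0) := by
    have : (0 : ℤ) < (Module.finrank k (Coh.HH X L 0) : ℤ) := by
      push_cast at hdeg
      omega
    exact_mod_cast this
  have hnt : Nontrivial (Coh.HH X L 0) := Module.finrank_pos_iff.1 hpos
  obtain ⟨s, hs⟩ := exists_section_ne_zero L hnt
  haveI : Mono s := mono_of_ne_zero hO hL s hs
  have hcQ := Groth.Agent.Lib.Helper6.DevCore.isCoh_cokernel s hcO hcL
  have hsupp := support_cokernel_closedPoints hdim.le hO hL s hs
  have hS : (ShortComplex.mk s (cokernel.π s) (cokernel.condition s)).ShortExact :=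
    { exact := ShortComplex.exact_cokernel s
      mono_f := by dsimp; infer_instance
      epi_g := by dsimp; infer_instance }
  have hO1 : Subsingleton (Coh.HH X (Coh.structureModule X) 1) :=
    subsingleton_of_finrank_eq_zero k hg
  have hQ1 : Subsingleton (Coh.HH X (cokernel s) 1) := subsingleton_HH_succ (cokernel s) hcQ hsupp 0
  have hL1 : Subsingleton (Coh.HH X L 1) := subsingleton_HH₂ _ hS 1 hO1 hQ1
  refine ⟨?_, hL1⟩
  have : Module.finrank k (Coh.HH X L 1) = 0 := Module.finrank_zero_of_subsingleton
  rw [this] at hdeg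
  push_cast at hdeg
  have h2 : (Module.finrank k (Coh.HH X L 0) : ℤ) = (d : ℤ) + 1 := by omega
  exact_mod_cast h2

end Groth.Agent.Lib.Helper8.CurveRR
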