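import Groth.Agent.Lib.Helper8.BiratIso
import Groth.Agent.Lib.Helper17.GV6

/-! # Helper8 — additivity of HHmap, cohomology of finite coproducts, surjectivity for epimorphisms, Grothendieck vanishing on curves for arbitrary modules -/
set_option autoImplicit false
universe u
open CategoryTheory CategoryTheory.Limits AlgebraicGeometry Opposite TopologicalSpace Abelian
noncomputable section

namespace Groth.Agent.Lib.Helper8.GGCoh

open Groth.Agent.Lib.Helper2.HLes Groth.Agent.Lib.Helper2.HLesLin Groth.Agent.Lib.Helper8.KillA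
  Groth.Agent.Lib.Helper8.BiratIso

variable {X : Scheme.{u}}

theorem HHmap_add {M N : X.Modules} (φ ψ : M ⟶ N) (p : ℕ) (x : Coh.HH X M p) :
    HHmap (φ + ψ) p x = HHmap φ p x + HHmap ψ p x := by
  change Sheaf.H.map ((SheafOfModules.toSheaf X.ringCatSheaf).map (φ + ψ)) p x =
    Sheaf.H.map ((SheafOfModules.toSheaf X.ringCatSheaf).map φ) p x +
      Sheaf.H.map ((SheafOfModules.toSheaf X.ringCatSheaf).map ψ) p x
  have h : (SheafOfModules.toSheaf X.ringCatSheaf).map (φ + ψ) =
      (SheafOfModules.toSheaf X.ringCatSheaf).map φ + (SheafOfModules.toSheaf X.ringCatSheaf).map ψ :=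
    (SheafOfModules.toSheaf X.ringCatSheaf).map_add
  rw [h, Sheaf.H.map_apply, Sheaf.H.map_apply, Sheaf.H.map_apply, Ext.mk₀_add, Ext.comp_add]

theorem HHmap_sum {M N : X.Modules} {ι : Type*} (s : Finset ι) (φ : ι → (M ⟶ N)) (p : ℕ)
    (x : Coh.HH X M p) : HHmap (∑ i ∈ s, φ i) p x = ∑ i ∈ s, HHmap (φ i) p x := by
  classical
  induction s using Finset.induction_on with
  | empty => simpa using HHmap_zero (M := M) (N := N) p x
  | insert a s ha ih => rw [Finset.sum_insert ha, Finset.sum_insert ha, HHmap_add, ih]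

theorem subsingleton_HH_of_iso {M N : X.Modules} (e : M ≅ N) (p : ℕ)
    (h : Subsingleton (Coh.HH X N p)) : Subsingleton (Coh.HH X M p) := by
  refine ⟨fun a b => ?_⟩
  have key : ∀ x : Coh.HH X M p, x = HHmap e.inv p (HHmap e.hom p x) := fun x => by
    rw [← HHmap_comp, e.hom_inv_id, HHmap_id]
  rw [key a, key b, Subsingleton.elim (HHmap e.hom p a) (HHmap e.hom p b)]

theorem subsingleton_HH_biproduct {n : ℕ} (f : Fin n → X.Modules) (p : ℕ)
    (h : ∀ j, Subsingleton (Coh.HH X (f j) p)) : Subsingleton (Coh.HH X (⨁ f) p) := by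
  refine ⟨fun a b => ?_⟩
  have key : ∀ x : Coh.HH X (⨁ f) p, x = 0 := fun x => by
    have h1 := HHmap_id (⨁ f) p x
    rw [← biproduct.total, HHmap_sum] at h1
    rw [← h1]
    apply Finset.sum_eq_zero
    intro j _
    rw [HHmap_comp, Subsingleton.elim (HHmap (biproduct.π f j) p x) 0, map_zero]
  rw [key a, key b]

theorem subsingleton_HH_sigma {n : ℕ} (f : Fin n → X.Modules) (p : ℕ)
    (h : ∀ j, Subsingleton (Coh.HH X (f j) p)) : Subsingleton (Coh.HH X (∐ f) p) :=
  subsingleton_HH_of_iso (biproduct.isoCoproduct f).symm p (subsingleton_HH_biproduct f p h)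

/-- an epimorphism whose kernel has no `H^{p+1}` is surjective on `H^p` -/
theorem HHmap_surjective_of_epi {A B : X.Modules} (f : A ⟶ B) (hf : Epi f) (p : ℕ)
    (h1 : Subsingleton (Coh.HH X (kernel f) (p + 1))) : Function.Surjective (HHmap f p) := by
  intro y
  let S : ShortComplex X.Modules := ShortComplex.mk (kernel.ι f) f (kernel.condition f)
  have hS : S.ShortExact :=
    { exact := ShortComplex.exact_of_f_is_kernel _ (kernelIsKernel f)
      mono_f := by dsimp [S]; infer_instance
      epi_g := by dsimp [S]; exact hf }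
  exact exact₃ (shortExact_Sab S hS) p y (@Subsingleton.elim _ h1 _ _)

theorem subsingleton_HH_of_epi {A B : X.Modules} (f : A ⟶ B) (hf : Epi f) (p : ℕ)
    (hA : Subsingleton (Coh.HH X A p)) (h1 : Subsingleton (Coh.HH X (kernel f) (p + 1))) :
    Subsingleton (Coh.HH X B p) := by
  refine ⟨fun a b => ?_⟩
  obtain ⟨a', rfl⟩ := HHmap_surjective_of_epi f hf p h1 a
  obtain ⟨b', rfl⟩ := HHmap_surjective_of_epi f hf p h1 b
  rw [Subsingleton.elim a' b']

/-- **Grothendieck vanishing** on a Noetherian scheme of dimension at most one, for arbitrary modules -/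
theorem subsingleton_HH_add_two [IsNoetherian X] (hdim : topologicalKrullDim X ≤ 1) (F : X.Modules) (p : ℕ) :
    Subsingleton (Coh.HH X F (p + 2)) := by
  haveI : NoetherianSpace X.toTopCat := inferInstanceAs (NoetherianSpace X)
  exact Groth.Agent.Lib.Helper17.GV.grothendieck_vanishing (X := X.toTopCat) 1 hdim (Coh.toAb F) (p + 2)
    (by omega)

end Groth.Agent.Lib.Helper8.GGCoh
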