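import Mathlib
import Groth.Prelude.Def_DCoh4
import Groth.Agent.Lib.Helper16.TA1
import Groth.Agent.Lib.Helper2.HLesLin
import Groth.Agent.Lib.Helper2.PushEdge3
import Groth.Agent.Lib.Helper2.RpushQC1
import Groth.Agent.Lib.Helper17.Serre2
import Groth.Agent.Lib.Helper8.SheafModGroth

/-! # Helper8 — classes in H¹(X, M) as extensions of O_X by M in O_X-modules; naturality of the connecting map; H⁰ classes as morphisms from O_X -/
set_option autoImplicit false
set_option backward.isDefEq.respectTransparency.types false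
universe u
open CategoryTheory CategoryTheory.Limits AlgebraicGeometry MonoidalCategory Abelian Opposite TopologicalSpace

noncomputable section
namespace Groth.Agent.Lib.Helper8.KillA
open Groth.Agent.Lib.Helper16.Stk Groth.Agent.Lib.Helper16.TA Groth.Agent.Lib.Helper2.HLes
  Groth.Agent.Lib.Helper2.HLesLin Groth.Agent.Lib.Helper28.QCohLoc
variable {X : Scheme.{u}}

/-- the map on cohomology induced by a morphism of modules -/
abbrev HHmap {M N : X.Modules} (φ : M ⟶ N) (p : ℕ) : Coh.HH X M p →+ Coh.HH X N p :=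
  Sheaf.H.map ((SheafOfModules.toSheaf X.ringCatSheaf).map φ) p

theorem HHmap_comp {M N K : X.Modules} (φ : M ⟶ N) (ψ : N ⟶ K) (p : ℕ) (x : Coh.HH X M p) :
    HHmap (φ ≫ ψ) p x = HHmap ψ p (HHmap φ p x) := by
  change Sheaf.H.map ((SheafOfModules.toSheaf X.ringCatSheaf).map (φ ≫ ψ)) p x = _
  have h : (SheafOfModules.toSheaf X.ringCatSheaf).map (φ ≫ ψ) =
      (SheafOfModules.toSheaf X.ringCatSheaf).map φ ≫ (SheafOfModules.toSheaf X.ringCatSheaf).map ψ :=
    (SheafOfModules.toSheaf X.ringCatSheaf).map_comp φ ψ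
  rw [h, Sheaf.H.map_comp_apply]

theorem HHmap_id (M : X.Modules) (p : ℕ) (x : Coh.HH X M p) : HHmap (𝟙 M) p x = x := by
  change Sheaf.H.map ((SheafOfModules.toSheaf X.ringCatSheaf).map (𝟙 M)) p x = _
  have h : (SheafOfModules.toSheaf X.ringCatSheaf).map (𝟙 M) = 𝟙 _ :=
    (SheafOfModules.toSheaf X.ringCatSheaf).map_id M
  rw [h, Sheaf.H.map_id_apply]

/-- naturality of the connecting map -/
theorem δ_naturality {S S' : ShortComplex X.Modules} (hS : S.ShortExact) (hS' : S'.ShortExact)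
    (Φ : S ⟶ S') (p : ℕ) (x : Coh.HH X S.X₃ p) :
    δ (shortExact_Sab S' hS') p (HHmap Φ.τ₃ p x) =
      HHmap Φ.τ₁ (p + 1) (δ (shortExact_Sab S hS) p x) := by
  have hnat := ShortComplex.ShortExact.extClass_naturality (shortExact_Sab S hS)
    (shortExact_Sab S' hS') ((SheafOfModules.toSheaf X.ringCatSheaf).mapShortComplex.map Φ)
  change ((x.comp (Ext.mk₀ ((SheafOfModules.toSheaf X.ringCatSheaf).map Φ.τ₃)) (add_zero p)).comp
      (shortExact_Sab S' hS').extClass rfl) =
    ((x.comp (shortExact_Sab S hS).extClass rfl).comp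
      (Ext.mk₀ ((SheafOfModules.toSheaf X.ringCatSheaf).map Φ.τ₁)) (add_zero (p + 1)))
  rw [Ext.comp_assoc_of_second_deg_zero, Ext.comp_assoc_of_third_deg_zero]
  congr 1
  exact hnat.symm

/-- the unit class in `H⁰(X, O_X)` -/
def unitH (X : Scheme.{u}) : Coh.HH X (Coh.structureModule X) 0 :=
  (Sheaf.H.equiv₀ (Coh.toAb (Coh.structureModule X)) Limits.isTerminalTop).symm
    (show Γ(Coh.structureModule X, ⊤) from (1 : Γ(X, ⊤)))

theorem HHmap_unitH {Q : X.Modules} (φ : Coh.structureModule X ⟶ Q) :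
    Sheaf.H.equiv₀ (Coh.toAb Q) Limits.isTerminalTop (HHmap φ 0 (unitH X)) =
      φ.app ⊤ (show Γ(Coh.structureModule X, ⊤) from (1 : Γ(X, ⊤))) := by
  have h := Sheaf.H.equiv₀_naturality (Limits.isTerminalTop (α := Opens X))
    ((SheafOfModules.toSheaf X.ringCatSheaf).map φ) (unitH X)
  refine h.symm.trans ?_
  unfold unitH
  rw [AddEquiv.apply_symm_apply]
  rfl

/-- every class in `H⁰` comes from a morphism out of the structure sheaf -/
theorem exists_hom_of_H0 (Q : X.Modules) (q : Coh.HH X Q 0) :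
    ∃ φ : Coh.structureModule X ⟶ Q, HHmap φ 0 (unitH X) = q := by
  let e := Sheaf.H.equiv₀ (Coh.toAb Q) Limits.isTerminalTop
  refine ⟨Groth.Agent.Lib.Helper17.Serre.ofSection Q (e q), e.injective ?_⟩
  rw [HHmap_unitH]
  have h1 := Groth.Agent.Lib.Helper17.Serre.ofSection_app_one Q (e q) ⊤
  rw [res_self] at h1
  exact h1

theorem HHmap_zero_unitH (Q : X.Modules) :
    HHmap (0 : Coh.structureModule X ⟶ Q) 0 (unitH X) = 0 := by
  apply (Sheaf.H.equiv₀ (Coh.toAb Q) Limits.isTerminalTop).injective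
  rw [HHmap_unitH, map_zero]
  rfl

/-- pulling back a short exact sequence along a morphism into the third term -/
theorem shortExact_pullback {C : Type*} [Category C] [Abelian C] (S : ShortComplex C) (hS : S.ShortExact) {A : C} (φ : A ⟶ S.X₃) :
    ∃ (E : C) (i : S.X₁ ⟶ E) (p : E ⟶ A) (w : i ≫ p = 0) (a : E ⟶ S.X₂),
      (ShortComplex.mk i p w).ShortExact ∧ i ≫ a = S.f ∧ a ≫ S.g = p ≫ φ := by
  haveI := hS.mono_f
  haveI := hS.epi_g
  let i : S.X₁ ⟶ pullback S.g φ := pullback.lift S.f 0 (by rw [S.zero, zero_comp])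
  have hi1 : i ≫ pullback.fst S.g φ = S.f := pullback.lift_fst _ _ _
  have hi2 : i ≫ pullback.snd S.g φ = 0 := pullback.lift_snd _ _ _
  refine ⟨pullback S.g φ, i, pullback.snd S.g φ, hi2, pullback.fst S.g φ, ?_, hi1, pullback.condition⟩
  haveI : Mono i := mono_of_mono_fac hi1
  refine { exact := ?_, mono_f := inferInstanceAs (Mono i), epi_g := inferInstanceAs (Epi (pullback.snd S.g φ)) }
  apply ShortComplex.exact_of_f_is_kernel
  refine KernelFork.IsLimit.ofι' i hi2 (fun {T} g hg => ?_)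
  have h1 : (g ≫ pullback.fst S.g φ) ≫ S.g = 0 := by
    rw [Category.assoc, pullback.condition, ← Category.assoc, hg, zero_comp]
  let h := hS.exact.lift (g ≫ pullback.fst S.g φ) h1
  have hh : h ≫ S.f = g ≫ pullback.fst S.g φ := hS.exact.lift_f _ _
  refine ⟨h, ?_⟩
  apply pullback.hom_ext
  · rw [Category.assoc, hi1, hh]
  · rw [Category.assoc, hi2, comp_zero, hg]


/-- every class in `H¹(X, M)` is the image of the unit class under the connecting map of an
extension of `O_X` by `M` (in the category of `O_X`-modules) -/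
theorem exists_ext (M : X.Modules) (ξ : Coh.HH X M 1) :
    ∃ (E : X.Modules) (i : M ⟶ E) (p : E ⟶ Coh.structureModule X) (w : i ≫ p = 0)
      (hS : (ShortComplex.mk i p w).ShortExact),
      δ (shortExact_Sab _ hS) 0 (unitH X) = ξ := by
  haveI : EnoughInjectives X.Modules :=
    Groth.Agent.Lib.Helper8.SheafModGroth.enoughInjectives _ X.ringCatSheaf
  let S₀ : ShortComplex X.Modules := Groth.Agent.Lib.Helper2.RpushQC1.stdSC M
  have hS₀ : S₀.ShortExact := Groth.Agent.Lib.Helper2.RpushQC1.stdSC_shortExact M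
  haveI : Injective S₀.X₂ := inferInstanceAs (Injective (Injective.under M))
  haveI hfl : TopCat.Sheaf.IsFlasque (Coh.toAb S₀.X₂) :=
    Groth.Agent.Lib.Helper2.PushEdge3.isFlasque_of_injective S₀.X₂
  have hz : Sheaf.H.map (Sab S₀).f (0 + 1) (show Coh.HH X S₀.X₁ (0 + 1) from ξ) = 0 :=
    @Groth.Agent.Lib.Helper6.SheafCoh.flasque_H_eq_zero _ _ hfl 0 _
  obtain ⟨q, hq⟩ := exact₁ (shortExact_Sab S₀ hS₀) 0 (show Coh.HH X S₀.X₁ (0 + 1) from ξ) hz
  obtain ⟨φ, hφ⟩ := exists_hom_of_H0 S₀.X₃ q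
  obtain ⟨E, i, p, w, a, hS, h1, h2⟩ := shortExact_pullback S₀ hS₀ φ
  refine ⟨E, (show M ⟶ E from i), p, w, hS, ?_⟩
  let Φ : ShortComplex.mk (show M ⟶ E from i) p w ⟶ S₀ :=
    { τ₁ := 𝟙 _
      τ₂ := a
      τ₃ := φ
      comm₁₂ := (Category.id_comp S₀.f).trans h1.symm
      comm₂₃ := h2 }
  have hn := δ_naturality hS hS₀ Φ 0 (unitH X)
  have h3 : HHmap Φ.τ₃ 0 (unitH X) = q := hφ
  rw [h3, hq] at hn
  rw [hn]
  exact (HHmap_id _ _ _).symm

end Groth.Agent.Lib.Helper8.KillA
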