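import Mathlib
import Groth.Agent.Lib.Helper8.KillA
import Groth.Agent.Lib.Helper6.K0Op

/-! # Helper8 — natural unitors for the tensor product of O_X-modules, multiplication by a section as a natural transformation, and killing a class of H¹ by a section (dimension count) -/
set_option autoImplicit false
universe u
open CategoryTheory CategoryTheory.Limits AlgebraicGeometry MonoidalCategory Abelian Opposite TopologicalSpace

noncomputable section
namespace Groth.Agent.Lib.Helper8.KillB
open Groth.Agent.Lib.Helper16.Stk Groth.Agent.Lib.Helper16.TA Groth.Agent.Lib.Helper2.HLes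
  Groth.Agent.Lib.Helper2.HLesLin Groth.Agent.Lib.Helper28.QCohLoc Groth.Agent.Lib.Helper8.KillA
variable {X : Scheme.{u}}

/-- the left unitor `O ⊗ N ≅ N`, natural in `N` -/
def lam : (DCoh.tensorBi (X := X)).obj (Coh.structureModule X) ≅ 𝟭 X.Modules :=
  (Functor.isoWhiskerLeft DCoh.toP (Functor.isoWhiskerRight (leftUnitorNatIso (CohB1.PMod X)) DCoh.shP)) ≪≫
    Functor.isoWhiskerLeft DCoh.toP (Functor.leftUnitor _) ≪≫ asIso (adjSh (X := X)).counit

/-- the right unitor `N ⊗ O ≅ N`, natural in `N` -/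
def rho : (DCoh.tensorBi (X := X)).flip.obj (Coh.structureModule X) ≅ 𝟭 X.Modules :=
  NatIso.ofComponents
    (fun N => DCoh.shP.mapIso (ρ_ (DCoh.toP.obj N)) ≪≫ (asIso (adjSh (X := X)).counit).app N)
    (fun {N N'} f => by
      have h1 : DCoh.toP.map f ▷ DCoh.toP.obj (Coh.structureModule X) ≫ (ρ_ (DCoh.toP.obj N')).hom =
          (ρ_ (DCoh.toP.obj N)).hom ≫ DCoh.toP.map f := rightUnitor_naturality _
      have h2 : DCoh.shP.map (DCoh.toP.map f) ≫ (adjSh (X := X)).counit.app N' =
          (adjSh (X := X)).counit.app N ≫ f := (adjSh (X := X)).counit.naturality f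
      have h3 : DCoh.shP.map (DCoh.toP.map f ▷ DCoh.toP.obj (Coh.structureModule X)) ≫
          DCoh.shP.map (ρ_ (DCoh.toP.obj N')).hom =
          DCoh.shP.map (ρ_ (DCoh.toP.obj N)).hom ≫ DCoh.shP.map (DCoh.toP.map f) := by
        refine (DCoh.shP.map_comp _ _).symm.trans ?_
        refine Eq.trans ?_ (DCoh.shP.map_comp _ _)
        exact congrArg DCoh.shP.map h1
      change (DCoh.shP.map (DCoh.toP.map f ▷ DCoh.toP.obj (Coh.structureModule X)) ≫
        DCoh.shP.map (ρ_ (DCoh.toP.obj N')).hom) ≫ (adjSh (X := X)).counit.app N' =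
        (DCoh.shP.map (ρ_ (DCoh.toP.obj N)).hom ≫ (adjSh (X := X)).counit.app N) ≫ f
      refine (congrArg (· ≫ (adjSh (X := X)).counit.app N') h3).trans ?_
      refine (Category.assoc _ _ _).trans ?_
      refine (congrArg (DCoh.shP.map (ρ_ (DCoh.toP.obj N)).hom ≫ ·) h2).trans ?_
      exact (Category.assoc _ _ _).symm)

/-- multiplication by a section `s : O ⟶ P`, as a natural transformation `N ⟶ P ⊗ N` -/
def mulBy {P : X.Modules} (s : Coh.structureModule X ⟶ P) :
    𝟭 X.Modules ⟶ (DCoh.tensorBi (X := X)).obj P :=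
  lam.inv ≫ DCoh.tensorBi.map s

theorem mulBy_zero (P : X.Modules) : mulBy (0 : Coh.structureModule X ⟶ P) = 0 := by
  unfold mulBy
  rw [Functor.map_zero, comp_zero]

theorem mulBy_app {P : X.Modules} (s : Coh.structureModule X ⟶ P) (N : X.Modules) :
    (mulBy s).app N = lam.inv.app N ≫ (DCoh.tensorBi.map s).app N := rfl

/-- every morphism `O ⟶ P ⊗ O` is multiplication by a section of `P` -/
theorem exists_mulBy_app_eq {P : X.Modules}
    (τ : Coh.structureModule X ⟶ (DCoh.tensorBi.obj P).obj (Coh.structureModule X)) :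
    ∃ s : Coh.structureModule X ⟶ P, (mulBy s).app (Coh.structureModule X) = τ := by
  refine ⟨rho.inv.app (Coh.structureModule X) ≫ lam.hom.app (Coh.structureModule X) ≫ τ ≫
    rho.hom.app P, ?_⟩
  set s := rho.inv.app (Coh.structureModule X) ≫ lam.hom.app (Coh.structureModule X) ≫ τ ≫
    rho.hom.app P with hs
  have hnat : (DCoh.tensorBi.map s).app (Coh.structureModule X) ≫ rho.hom.app P =
      rho.hom.app (Coh.structureModule X) ≫ s := rho.hom.naturality s
  have h2 : (DCoh.tensorBi.map s).app (Coh.structureModule X) =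
      rho.hom.app (Coh.structureModule X) ≫ s ≫ rho.inv.app P := by
    rw [← Category.assoc, ← hnat, Category.assoc, Iso.hom_inv_id_app]
    exact (Category.comp_id _).symm
  rw [mulBy_app, h2, hs]
  simp

/-- the morphism of short complexes `S ⟶ P ⊗ S` given by multiplication by a section of `P` -/
def mulByHom {P : X.Modules} (s : Coh.structureModule X ⟶ P) (S : ShortComplex X.Modules) :
    S ⟶ (S.map ((DCoh.tensorBi (X := X)).obj P) : ShortComplex X.Modules) where
  τ₁ := (mulBy s).app S.X₁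
  τ₂ := (mulBy s).app S.X₂
  τ₃ := (mulBy s).app S.X₃
  comm₁₂ := ((mulBy s).naturality S.f).symm
  comm₂₃ := ((mulBy s).naturality S.g).symm

/-- **killing a class in `H¹` by a section**: if `h⁰(P ⊗ O) > h¹(P ⊗ N)` for a flat module `P`,
then any class `ξ ∈ H¹(X, N)` is killed by multiplication by some nonzero section of `P` -/
theorem exists_kill (k : Type u) [Field k] [X.Over (Spec (CommRingCat.of k))] (N P : X.Modules)
    (hP : FlatMod.IsFlat P) (ξ : Coh.HH X N 1)
    (hf0 : Module.Finite k (Coh.HH X ((DCoh.tensorBi.obj P).obj (Coh.structureModule X)) 0))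
    (hf1 : Module.Finite k (Coh.HH X ((DCoh.tensorBi.obj P).obj N) 1))
    (hlt : Module.finrank k (Coh.HH X ((DCoh.tensorBi.obj P).obj N) 1) <
      Module.finrank k (Coh.HH X ((DCoh.tensorBi.obj P).obj (Coh.structureModule X)) 0)) :
    ∃ s : Coh.structureModule X ⟶ P, s ≠ 0 ∧ HHmap ((mulBy s).app N) 1 ξ = 0 := by
  obtain ⟨E, i, p, w, hS, hδ⟩ := exists_ext N ξ
  set S : ShortComplex X.Modules := ShortComplex.mk i p w with hSdef
  let SP : ShortComplex X.Modules := S.map (DCoh.tensorBi.obj P)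
  have hSP : SP.ShortExact :=
    Groth.Agent.Lib.Helper6.K0Op.shortExact_tensor_of_flat P hP S hS
  let D := δLin SP hSP k 0
  haveI : FiniteDimensional k (Coh.HH X SP.X₃ 0) := hf0
  haveI : FiniteDimensional k (Coh.HH X SP.X₁ (0 + 1)) := hf1
  have hker : LinearMap.ker D ≠ ⊥ := LinearMap.ker_ne_bot_of_finrank_lt hlt
  obtain ⟨σ, hσ, hσ0⟩ := (Submodule.ne_bot_iff _).1 hker
  obtain ⟨τ, hτ⟩ := exists_hom_of_H0 _ σ
  obtain ⟨s, hs⟩ := exists_mulBy_app_eq τ
  refine ⟨s, ?_, ?_⟩
  · rintro rfl
    apply hσ0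
    rw [← hτ, ← hs, mulBy_zero]
    exact HHmap_zero_unitH _
  · have hn := δ_naturality hS hSP (mulByHom s S) 0 (unitH X)
    have h1 : HHmap (mulByHom s S).τ₃ 0 (unitH X) = σ := by
      change HHmap ((mulBy s).app (Coh.structureModule X)) 0 (unitH X) = σ
      rw [hs]; exact hτ
    rw [h1, hδ] at hn
    exact hn.symm.trans hσ

end Groth.Agent.Lib.Helper8.KillB
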