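import Mathlib
import Groth.Agent.Lib.Helper8.KillB
import Groth.Agent.Lib.Helper8.CurveRR

/-! # Helper8 — surjectivity on H¹ of multiplication by a nonzero section on an integral proper curve; support of the cokernel of a tensored morphism via stalks -/
set_option autoImplicit false
universe u
open CategoryTheory CategoryTheory.Limits AlgebraicGeometry MonoidalCategory Abelian Opposite TopologicalSpace

noncomputable section
namespace Groth.Agent.Lib.Helper8.KillC
open Groth.Agent.Lib.Helper16.Stk Groth.Agent.Lib.Helper16.TA Groth.Agent.Lib.Helper2.HLes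
  Groth.Agent.Lib.Helper2.HLesLin Groth.Agent.Lib.Helper28.QCohLoc Groth.Agent.Lib.Helper8.KillA
  Groth.Agent.Lib.Helper8.KillB
variable {X : Scheme.{u}}

/-- a morphism whose kernel has no `H^{p+2}` and whose cokernel has no `H^{p+1}` is surjective on
`H^{p+1}` -/
theorem HHmap_surjective_of_cokernel {A B : X.Modules} (f : A ⟶ B) (p : ℕ)
    (h2 : Subsingleton (Coh.HH X (kernel f) (p + 1 + 1)))
    (h1 : Subsingleton (Coh.HH X (cokernel f) (p + 1))) :
    Function.Surjective (HHmap f (p + 1)) := by
  intro z
  -- the image-cokernel sequence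
  let S2 : ShortComplex X.Modules :=
    ShortComplex.mk (Abelian.image.ι f) (cokernel.π f) (kernel.condition _)
  have hS2 : S2.ShortExact :=
    { exact := ShortComplex.exact_of_f_is_kernel _ (kernelIsKernel _)
      mono_f := by dsimp [S2]; infer_instance
      epi_g := by dsimp [S2]; infer_instance }
  obtain ⟨y, hy⟩ := exact₂ (shortExact_Sab S2 hS2) (p + 1) z (@Subsingleton.elim _ h1 _ _)
  -- the kernel-image sequence
  have hS1 := Groth.Agent.Lib.Helper8.CurveVan.shortExact_kernel_image f
  obtain ⟨x, hx⟩ := exact₃ (shortExact_Sab _ hS1) (p + 1) y (@Subsingleton.elim _ h2 _ _)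
  refine ⟨x, ?_⟩
  have hfac : Abelian.factorThruImage f ≫ Abelian.image.ι f = f := Abelian.image.fac f
  rw [← hfac, HHmap_comp]
  exact (congrArg _ hx).trans hy

theorem notMem_support_iff (M : X.Modules) (x : X) :
    x ∉ CohB1.support M ↔ IsZero ((stk x).obj M) := by
  change ¬ ¬ Subsingleton (M.presheaf.stalk x) ↔ _
  rw [not_not]
  constructor
  · intro h
    haveI : Subsingleton ((stk x).obj M) := h
    exact ModuleCat.isZero_of_subsingleton _
  · intro h
    exact ModuleCat.subsingleton_of_isZero h

theorem epi_stk_iff {A B : X.Modules} (f : A ⟶ B) (x : X) :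
    Epi ((stk x).map f) ↔ x ∉ CohB1.support (cokernel f) := by
  rw [notMem_support_iff]
  have e : (stk x).obj (cokernel f) ≅ cokernel ((stk x).map f) := PreservesCokernel.iso (stk x) f
  constructor
  · intro h
    exact IsZero.of_iso (isZero_cokernel_of_epi _) e
  · intro h
    exact Preadditive.epi_of_isZero_cokernel _ (IsZero.of_iso h e.symm)

/-- tensoring a morphism with a module does not enlarge the support of the cokernel -/
theorem support_cokernel_tensor_subset {P P' : X.Modules} (s : P ⟶ P') (N : X.Modules) :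
    CohB1.support (cokernel ((DCoh.tensorBi.map s).app N)) ⊆ CohB1.support (cokernel s) := by
  intro x hx
  by_contra hx'
  rw [← epi_stk_iff] at hx'
  revert hx
  change x ∉ CohB1.support (cokernel ((DCoh.tensorBi.map s).app N))
  rw [← epi_stk_iff]
  have hnat := stalkTensorIso_natL x s N
  haveI : Epi ((stk x).map s ▷ (stk x).obj N) := by
    rw [ModuleCat.epi_iff_surjective] at hx' ⊢
    exact LinearMap.rTensor_surjective _ hx'
  have h1 : Epi (((stk x).map s ▷ (stk x).obj N) ≫ (stalkTensorIso x P' N).hom) := inferInstance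
  rw [hnat] at h1
  exact (epi_comp_iff_of_epi _ _).1 h1

theorem HHmap_surjective_of_iso {A B : X.Modules} (e : A ≅ B) (p : ℕ) :
    Function.Surjective (HHmap e.hom p) := by
  intro y
  refine ⟨HHmap e.inv p y, ?_⟩
  rw [← HHmap_comp, e.inv_hom_id, HHmap_id]

section curve

open Groth.Agent.Lib.Helper8.EulerK Groth.Agent.Lib.Helper8.CurveInv
  Groth.Agent.Lib.Helper8.CurveDeg Groth.Agent.Lib.Helper8.CurveVan Groth.Agent.Lib.Helper8.CurveRR

variable (k : Type u) [Field k] (X : Scheme.{u}) [X.Over (Spec (CommRingCat.of k))]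
  [IsIntegral X] [IsProper (X ↘ Spec (CommRingCat.of k))]

include k in
/-- on an integral proper curve, multiplication by a nonzero section of an invertible module is
surjective on `H¹` of any coherent module -/
theorem HHmap_mulBy_surjective (hdim : topologicalKrullDim X ≤ 1) {P : X.Modules}
    (hP : PicF.IsInvertible P) (s : Coh.structureModule X ⟶ P) (hs : s ≠ 0) (N : X.Modules)
    (hN : Coh.IsCoh N) : Function.Surjective (HHmap ((mulBy s).app N) 1) := by
  haveI : IsLocallyNoetherian X := isLocallyNoetherian k X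
  have hO := isInvertible_structureModule X
  have hcO := Groth.Agent.Lib.Helper6.K0Op.isCoh_of_isInvertible _ hO
  have hcP := Groth.Agent.Lib.Helper6.K0Op.isCoh_of_isInvertible _ hP
  have hA : Coh.IsCoh ((DCoh.tensorBi.obj (Coh.structureModule X)).obj N) :=
    Groth.Agent.Lib.Helper6.K0Op.isCoh_tensorMod _ _ hcO hN
  have hB : Coh.IsCoh ((DCoh.tensorBi.obj P).obj N) :=
    Groth.Agent.Lib.Helper6.K0Op.isCoh_tensorMod _ _ hcP hN
  set f := (DCoh.tensorBi.map s).app N with hf
  have hK := Groth.Agent.Lib.Helper6.DevCore.isCoh_kernel f hA hB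
  have hQ := Groth.Agent.Lib.Helper6.DevCore.isCoh_cokernel f hA hB
  have hsupp : ∀ x ∈ CohB1.support (cokernel f), IsClosed ({x} : Set X) := fun x hx =>
    support_cokernel_closedPoints hdim hO hP s hs x (support_cokernel_tensor_subset s N hx)
  have h2 : Subsingleton (Coh.HH X (kernel f) (0 + 1 + 1)) :=
    subsingleton_HH_add_two k X hdim (kernel f) hK.1 0
  have h1 : Subsingleton (Coh.HH X (cokernel f) (0 + 1)) := subsingleton_HH_succ (cokernel f) hQ hsupp 0
  have hsf := HHmap_surjective_of_cokernel f 0 h2 h1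
  have hsl := HHmap_surjective_of_iso (lam.symm.app N) 1
  intro y
  obtain ⟨x, hx⟩ := hsf y
  obtain ⟨w, hw⟩ := hsl x
  refine ⟨w, ?_⟩
  rw [mulBy_app, HHmap_comp]
  exact (congrArg _ hw).trans hx

end curve

end Groth.Agent.Lib.Helper8.KillC
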