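import Mathlib
import Groth.Agent.Lib.Helper8.KillC

/-! # Helper8 — on an integral proper curve, twisting by an invertible module with many sections strictly drops h¹ -/
set_option autoImplicit false
universe u
open CategoryTheory CategoryTheory.Limits AlgebraicGeometry MonoidalCategory Abelian Opposite TopologicalSpace

noncomputable section
namespace Groth.Agent.Lib.Helper8.KillD
open Groth.Agent.Lib.Helper16.Stk Groth.Agent.Lib.Helper16.TA Groth.Agent.Lib.Helper2.HLes
  Groth.Agent.Lib.Helper2.HLesLin Groth.Agent.Lib.Helper28.QCohLoc Groth.Agent.Lib.Helper8.KillA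
  Groth.Agent.Lib.Helper8.KillB Groth.Agent.Lib.Helper8.KillC
  Groth.Agent.Lib.Helper8.EulerK Groth.Agent.Lib.Helper8.CurveInv
  Groth.Agent.Lib.Helper8.CurveDeg Groth.Agent.Lib.Helper8.CurveVan Groth.Agent.Lib.Helper8.CurveRR

variable (k : Type u) [Field k] (X : Scheme.{u}) [X.Over (Spec (CommRingCat.of k))]
  [IsIntegral X] [IsProper (X ↘ Spec (CommRingCat.of k))]

/-- **dropping `h¹` by a twist**: on an integral proper curve, if `P` is invertible with
`h⁰(P ⊗ O) > h¹(N) > 0`, then `h¹(P ⊗ N) < h¹(N)` -/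
theorem h1_tensor_lt (hdim : topologicalKrullDim X ≤ 1) {P : X.Modules} (hP : PicF.IsInvertible P)
    (N : X.Modules) (hN : Coh.IsCoh N) (hpos : 0 < hh k N 1)
    (hbig : hh k N 1 < hh k ((DCoh.tensorBi.obj P).obj (Coh.structureModule X)) 0) :
    hh k ((DCoh.tensorBi.obj P).obj N) 1 < hh k N 1 := by
  haveI : IsLocallyNoetherian X := isLocallyNoetherian k X
  have hO := isInvertible_structureModule X
  have hcO := Groth.Agent.Lib.Helper6.K0Op.isCoh_of_isInvertible _ hO
  have hcP := Groth.Agent.Lib.Helper6.K0Op.isCoh_of_isInvertible _ hP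
  have hPO : Coh.IsCoh ((DCoh.tensorBi.obj P).obj (Coh.structureModule X)) :=
    Groth.Agent.Lib.Helper6.K0Op.isCoh_tensorMod _ _ hcP hcO
  have hPN : Coh.IsCoh ((DCoh.tensorBi.obj P).obj N) :=
    Groth.Agent.Lib.Helper6.K0Op.isCoh_tensorMod _ _ hcP hN
  haveI := finite_HH k X _ hPO 0
  haveI := finite_HH k X _ hPN 1
  haveI := finite_HH k X _ hN 1
  haveI := finite_HH k X _ hcP 0
  -- a nonzero section of `P`
  have e0 : hh k ((DCoh.tensorBi.obj P).obj (Coh.structureModule X)) 0 = hh k P 0 :=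
    hh_congr k (rho.app P) 0
  have hP0 : 0 < Module.finrank k (Coh.HH X P 0) := by
    have : 0 < hh k P 0 := by omega
    exact this
  have hnt : Nontrivial (Coh.HH X P 0) := Module.finrank_pos_iff.1 hP0
  obtain ⟨s₀, hs₀⟩ := exists_section_ne_zero P hnt
  have hsurj₀ : Function.Surjective (show Coh.HH X N 1 →ₗ[k] Coh.HH X ((DCoh.tensorBi.obj P).obj N) 1 from
      Canon.HHlin k ((mulBy s₀).app N) 1) :=
    HHmap_mulBy_surjective k X hdim hP s₀ hs₀ N hN
  have hle : hh k ((DCoh.tensorBi.obj P).obj N) 1 ≤ hh k N 1 :=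
    LinearMap.finrank_le_finrank_of_surjective hsurj₀
  -- a nonzero class
  have hnt1 : Nontrivial (Coh.HH X N 1) := Module.finrank_pos_iff.1 hpos
  obtain ⟨ξ, hξ⟩ := exists_ne (0 : Coh.HH X N 1)
  obtain ⟨s, hs, hkill⟩ := exists_kill k N P
    (Groth.Agent.Lib.Helper6.K0Op.isFlat_of_isInvertible P hP) ξ inferInstance inferInstance
    (lt_of_le_of_lt hle hbig)
  let Lm : Coh.HH X N 1 →ₗ[k] Coh.HH X ((DCoh.tensorBi.obj P).obj N) 1 :=
    Canon.HHlin k ((mulBy s).app N) 1
  have hsurj : Function.Surjective Lm := HHmap_mulBy_surjective k X hdim hP s hs N hN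
  have hker : 0 < Module.finrank k (LinearMap.ker Lm) := by
    rw [Module.finrank_pos_iff]
    exact ⟨⟨⟨ξ, hkill⟩, 0, fun h => hξ (congrArg Subtype.val h)⟩⟩
  have hrk := LinearMap.finrank_range_add_finrank_ker Lm
  rw [LinearMap.range_eq_top.2 hsurj, finrank_top] at hrk
  unfold hh
  omega

end Groth.Agent.Lib.Helper8.KillD
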