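import Mathlib
import Groth.Agent.Lib.Helper8.KillD
import Groth.Agent.S7637
import Groth.Agent.Lib.Helper28.TensorPowGen

/-! # Helper8 — degree of tensor powers, Riemann–Roch lower bound for sections, and vanishing of H¹ of a coherent module after a suitable twist by an invertible module of positive degree on an integral proper curve -/
set_option autoImplicit false
universe u
open CategoryTheory CategoryTheory.Limits AlgebraicGeometry MonoidalCategory Abelian Opposite TopologicalSpace

noncomputable section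
namespace Groth.Agent.Lib.Helper8.KillE
open Groth.Agent.Lib.Helper16.Stk Groth.Agent.Lib.Helper16.TA Groth.Agent.Lib.Helper2.HLes
  Groth.Agent.Lib.Helper2.HLesLin Groth.Agent.Lib.Helper28.QCohLoc Groth.Agent.Lib.Helper8.KillA
  Groth.Agent.Lib.Helper8.KillB Groth.Agent.Lib.Helper8.KillC Groth.Agent.Lib.Helper8.KillD
  Groth.Agent.Lib.Helper8.EulerK Groth.Agent.Lib.Helper8.CurveInv
  Groth.Agent.Lib.Helper8.CurveDeg Groth.Agent.Lib.Helper8.CurveVan Groth.Agent.Lib.Helper8.CurveRR
  Groth.Agent.Lib.Helper28 Groth.Agent.Lib.Helper28.GenLocus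

variable (k : Type u) [Field k] (X : Scheme.{u}) [X.Over (Spec (CommRingCat.of k))]
  [IsProper (X ↘ Spec (CommRingCat.of k))]

/-- the degree of a tensor power of an invertible module -/
theorem deg_tensorPow (hdim : topologicalKrullDim X ≤ 1) {L : X.Modules} (hL : PicF.IsInvertible L)
    (m : ℕ) : Curv2.deg k X (CohB1.tensorPow L m) 1 = m * Curv2.deg k X L 1 := by
  induction m with
  | zero =>
    rw [Nat.cast_zero, zero_mul]
    exact deg_structureModule k X
  | succ m ih =>
    have h := Groth.Agent.S7637.result k X hdim 1 1 (CohB1.tensorPow L m) L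
      (Groth.Agent.Lib.Helper6.K0Op.isFinLocFreeOfRank_one_of_isInvertible _
        (isInvertible_tensorPow hL m))
      (Groth.Agent.Lib.Helper6.K0Op.isFinLocFreeOfRank_one_of_isInvertible _ hL)
    have h' : Curv2.deg k X (CohB1.tensorPow L (m + 1)) 1 =
        Curv2.deg k X L 1 + Curv2.deg k X (CohB1.tensorPow L m) 1 := by
      have h2 : Curv2.deg k X (CohB1.tensorMod (CohB1.tensorPow L m) L) 1 =
          Curv2.deg k X L 1 + Curv2.deg k X (CohB1.tensorPow L m) 1 := by simpa using h
      exact h2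
    rw [h', ih]
    push_cast
    ring

variable [IsIntegral X]

/-- Riemann–Roch lower bound for the sections of `L^m ⊗ O` -/
theorem h0_tensorPow_ge (hdim : topologicalKrullDim X ≤ 1) {L : X.Modules} (hL : PicF.IsInvertible L)
    (m : ℕ) : (m : ℤ) * Curv2.deg k X L 1 + Curv2.euler k X (Coh.structureModule X) ≤
      (hh k ((DCoh.tensorBi.obj (CohB1.tensorPow L m)).obj (Coh.structureModule X)) 0 : ℤ) := by
  have hLm := isInvertible_tensorPow hL m
  have hc := Groth.Agent.Lib.Helper6.K0Op.isCoh_of_isInvertible _ hLm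
  have e0 : hh k ((DCoh.tensorBi.obj (CohB1.tensorPow L m)).obj (Coh.structureModule X)) 0 =
      hh k (CohB1.tensorPow L m) 0 := hh_congr k (rho.app _) 0
  rw [e0]
  have h1 := euler_eq_sub k X hdim (CohB1.tensorPow L m) hc.1
  have h2 := deg_tensorPow k X hdim hL m
  unfold Curv2.deg at h2
  unfold hh
  have : (0 : ℤ) ≤ (Module.finrank k (Coh.HH X (CohB1.tensorPow L m) 1) : ℤ) := Int.natCast_nonneg _
  unfold Curv2.deg
  push_cast at h2 ⊢
  linarith

/-- **vanishing of `H¹` after a suitable twist**: on an integral proper curve, if `deg L > 0` then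
every coherent module `N` has a twist `L^m ⊗ N` with vanishing `H¹` -/
theorem exists_twist_h1_zero (hdim : topologicalKrullDim X ≤ 1) {L : X.Modules}
    (hL : PicF.IsInvertible L) (hdeg : 0 < Curv2.deg k X L 1) :
    ∀ (d : ℕ) (N : X.Modules), Coh.IsCoh N → hh k N 1 ≤ d →
      ∃ m : ℕ, hh k ((DCoh.tensorBi.obj (CohB1.tensorPow L m)).obj N) 1 = 0 := by
  intro d
  induction d with
  | zero =>
    intro N hN h
    refine ⟨0, ?_⟩
    have e : (DCoh.tensorBi.obj (CohB1.tensorPow L 0)).obj N ≅ N := lam.app N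
    rw [hh_congr k e 1]
    omega
  | succ d ih =>
    intro N hN h
    by_cases hle : hh k N 1 ≤ d
    · exact ih N hN hle
    have hd1 : hh k N 1 = d + 1 := by omega
    set m₁ : ℕ := ((d : ℤ) + 2 - Curv2.euler k X (Coh.structureModule X)).toNat with hm₁
    have hm₁' : (d : ℤ) + 2 - Curv2.euler k X (Coh.structureModule X) ≤ (m₁ : ℤ) := Int.self_le_toNat _
    have hLm := isInvertible_tensorPow hL m₁
    have hge := h0_tensorPow_ge k X hdim hL m₁
    have hmul : (m₁ : ℤ) ≤ (m₁ : ℤ) * Curv2.deg k X L 1 := by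
      have : (0 : ℤ) ≤ (m₁ : ℤ) := Int.natCast_nonneg _
      nlinarith
    have hbig : hh k N 1 <
        hh k ((DCoh.tensorBi.obj (CohB1.tensorPow L m₁)).obj (Coh.structureModule X)) 0 := by
      have : ((hh k N 1 : ℕ) : ℤ) <
          (hh k ((DCoh.tensorBi.obj (CohB1.tensorPow L m₁)).obj (Coh.structureModule X)) 0 : ℤ) := by
        rw [hd1]
        push_cast
        linarith
      exact_mod_cast this
    have hlt := h1_tensor_lt k X hdim hLm N hN (by omega) hbig
    have hcL := Groth.Agent.Lib.Helper6.K0Op.isCoh_of_isInvertible _ hLm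
    have hN' : Coh.IsCoh ((DCoh.tensorBi.obj (CohB1.tensorPow L m₁)).obj N) :=
      Groth.Agent.Lib.Helper6.K0Op.isCoh_tensorMod _ _ hcL hN
    obtain ⟨m₂, hm₂⟩ := ih _ hN' (by omega)
    obtain ⟨e, -⟩ := exists_tensorPow_add_iso (L := L) hL m₂ m₁ (m₂ + m₁) rfl
    refine ⟨m₂ + m₁, ?_⟩
    have ι : (DCoh.tensorBi.obj (CohB1.tensorPow L m₂)).obj
        ((DCoh.tensorBi.obj (CohB1.tensorPow L m₁)).obj N) ≅
        (DCoh.tensorBi.obj (CohB1.tensorPow L (m₂ + m₁))).obj N :=
      (assocIso _ _ _).symm ≪≫ (DCoh.tensorBi.mapIso e).app N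
    rw [← hh_congr k ι 1]
    exact hm₂

end Groth.Agent.Lib.Helper8.KillE
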