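import Mathlib
import Groth.Agent.Lib.Helper8.KillE
import Groth.Agent.S0050
import Groth.Agent.S0046
import Groth.Agent.Lib.Helper3.IntegralDim
import Groth.Agent.Lib.Helper28.ModIsoApp

/-! # Helper8 — on an integral proper curve over a field: an invertible module is ample iff its degree is positive (positive degree ⇒ ample via killing H¹ classes by sections and Serre's criterion; ample ⇒ positive degree via non-affineness) -/
set_option autoImplicit false
universe u
open CategoryTheory CategoryTheory.Limits AlgebraicGeometry MonoidalCategory Abelian Opposite TopologicalSpace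

noncomputable section
namespace Groth.Agent.Lib.Helper8.KillF
open Groth.Agent.Lib.Helper16.Stk Groth.Agent.Lib.Helper16.TA Groth.Agent.Lib.Helper2.HLes
  Groth.Agent.Lib.Helper2.HLesLin Groth.Agent.Lib.Helper28.QCohLoc Groth.Agent.Lib.Helper8.KillA
  Groth.Agent.Lib.Helper8.KillB Groth.Agent.Lib.Helper8.KillC Groth.Agent.Lib.Helper8.KillD
  Groth.Agent.Lib.Helper8.KillE
  Groth.Agent.Lib.Helper8.EulerK Groth.Agent.Lib.Helper8.CurveInv
  Groth.Agent.Lib.Helper8.CurveDeg Groth.Agent.Lib.Helper8.CurveVan Groth.Agent.Lib.Helper8.CurveRR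
  Groth.Agent.Lib.Helper28 Groth.Agent.Lib.Helper28.GenLocus

variable (k : Type u) [Field k] (X : Scheme.{u}) [X.Over (Spec (CommRingCat.of k))]
  [IsProper (X ↘ Spec (CommRingCat.of k))] [IsIntegral X]

/-- **an invertible module of positive degree on an integral proper curve is ample** -/
theorem isAmple_of_deg_pos (hdim : topologicalKrullDim X ≤ 1) {L : X.Modules}
    (hL : PicF.IsInvertible L) (hdeg : 0 < Curv2.deg k X L 1) : CohB1.IsAmple L := by
  haveI : IsLocallyNoetherian X := isLocallyNoetherian k X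
  haveI : CompactSpace X :=
    QuasiCompact.compactSpace_of_compactSpace (X ↘ Spec (CommRingCat.of k))
  have hO := isInvertible_structureModule X
  have hcO := Groth.Agent.Lib.Helper6.K0Op.isCoh_of_isInvertible _ hO
  have hcL := Groth.Agent.Lib.Helper6.K0Op.isCoh_of_isInvertible _ hL
  refine Groth.Agent.S0050.result X L hL (fun I i hi hI => ?_)
  haveI := hi
  have hcI : Coh.IsCoh I := Groth.Agent.S0046.result X (Coh.structureModule X) I i hcO hI
  have hN : Coh.IsCoh ((DCoh.tensorBi.obj L).obj I) :=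
    Groth.Agent.Lib.Helper6.K0Op.isCoh_tensorMod _ _ hcL hcI
  obtain ⟨m, hm⟩ := exists_twist_h1_zero k X hdim hL hdeg _ _ hN le_rfl
  refine ⟨m, ?_⟩
  have ι : (DCoh.tensorBi.obj (CohB1.tensorPow L m)).obj ((DCoh.tensorBi.obj L).obj I) ≅
      CohB1.tensorMod I (CohB1.tensorPow L (m + 1)) :=
    (assocIso _ _ _).symm ≪≫ Groth.Agent.Lib.Helper6.K0Inv.braidIso (CohB1.tensorPow L (m + 1)) I
  rw [hh_congr k ι 1] at hm
  have hc : Coh.IsCoh (CohB1.tensorMod I (CohB1.tensorPow L (m + 1))) :=
    Groth.Agent.Lib.Helper6.K0Op.isCoh_tensorMod _ _ hcI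
      (Groth.Agent.Lib.Helper6.K0Op.isCoh_of_isInvertible _ (isInvertible_tensorPow hL (m + 1)))
  haveI := finite_HH k X _ hc 1
  exact subsingleton_of_finrank_eq_zero k hm

omit [IsIntegral X] in
include k in
/-- a scheme proper over a field of dimension one is not affine -/
theorem not_isAffine_of_dim_one (hdim : topologicalKrullDim X = 1) : ¬ IsAffine X := by
  intro hX
  haveI : IsAffineHom (X ↘ Spec (CommRingCat.of k)) := inferInstance
  haveI : IsFinite (X ↘ Spec (CommRingCat.of k)) :=
    IsFinite.iff_isProper_and_isAffineHom.2 ⟨inferInstance, inferInstance⟩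
  have h1 := Groth.Agent.Lib.Helper3.topologicalKrullDim_le_of_isIntegralHom_of_isAffine
    (X ↘ Spec (CommRingCat.of k))
  have h2 : topologicalKrullDim (Spec (CommRingCat.of k)) = 0 := by
    rw [Groth.Agent.Lib.Helper3.topologicalKrullDim_eq_ringKrullDim_of_isAffine]
    have e : ringKrullDim Γ(Spec (CommRingCat.of k), ⊤) = ringKrullDim k :=
      ringKrullDim_eq_of_ringEquiv (Scheme.ΓSpecIso (CommRingCat.of k)).commRingCatIsoToRingEquiv
    rw [e]
    exact ringKrullDim_eq_zero_of_field k
  rw [hdim, h2] at h1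
  exact absurd h1 (by decide)

/-- **an ample invertible module on an integral proper curve has positive degree** -/
theorem deg_pos_of_isAmple (hdim : topologicalKrullDim X = 1) {L : X.Modules}
    (hA : CohB1.IsAmple L) : 0 < Curv2.deg k X L 1 := by
  obtain ⟨hL, -, hA⟩ := hA
  obtain ⟨n, s, hxs, haff⟩ := hA (genericPoint X)
  have hO := isInvertible_structureModule X
  have hLn := isInvertible_tensorPow hL (n + 1)
  have hs : s ≠ 0 := by
    rintro rfl
    obtain ⟨U, hxU, hU⟩ := (mem_genLocus_iff _ _).1 hxs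
    haveI : Nonempty U := ⟨⟨_, hxU⟩⟩
    haveI : Nontrivial Γ(X, U) := X.component_nontrivial U
    have h1 := (hU U le_rfl).1
    have : (1 : Γ(X, U)) = 0 := h1 (by
      change (0 : Coh.structureModule X ⟶ CohB1.tensorPow L (n + 1)).app U _ =
        (0 : Coh.structureModule X ⟶ CohB1.tensorPow L (n + 1)).app U _
      rfl)
    exact one_ne_zero this
  obtain ⟨h1, h2⟩ := deg_le k X hdim.le _ _ hO hLn s hs
  rw [deg_structureModule, deg_tensorPow k X hdim.le hL] at h1 h2
  by_contra hneg
  rw [not_lt] at hneg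
  have hz : ((n + 1 : ℕ) : ℤ) * Curv2.deg k X L 1 = 0 := by
    have : (0 : ℤ) < ((n + 1 : ℕ) : ℤ) := by positivity
    nlinarith
  haveI : IsIso s := h2 hz.symm
  have htop : CohB1.genLocus _ s = ⊤ :=
    top_le_iff.1 (le_genLocus s ⊤ (fun W _ => Groth.Agent.Lib.Helper28.QCohLoc.app_bijective_of_isIso s W))
  rw [htop] at haff
  have hX : IsAffine X := by
    haveI : IsAffine ((⊤ : X.Opens) : Scheme.{u}) := haff
    exact IsAffine.of_isIso (X.topIso).inv
  exact not_isAffine_of_dim_one k X hdim hX

end Groth.Agent.Lib.Helper8.KillF
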