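import Mathlib
import Groth.Agent.Lib.Helper8.KillF
import Groth.Agent.Lib.Helper8.PtSupp
import Groth.Agent.Lib.Helper8.CurveTensor

/-! # Helper8 — a section generating an invertible module along the zero locus of another section (integral proper curve, H⁰(L) → H⁰(coker s) surjective); stalk-level description of morphisms O ⟶ L -/
set_option autoImplicit false
universe u
open CategoryTheory CategoryTheory.Limits AlgebraicGeometry Opposite TopologicalSpace

noncomputable section
namespace Groth.Agent.Lib.Helper8.GenSec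
open Groth.Agent.Lib.Helper8.KillA Groth.Agent.Lib.Helper8.EulerK Groth.Agent.Lib.Helper8.CurveInv
  Groth.Agent.Lib.Helper8.CurveDeg Groth.Agent.Lib.Helper8.CurveRR
  Groth.Agent.Lib.Helper28.QCohLoc Groth.Agent.Lib.Helper29.QCohStalk
  Groth.Agent.Lib.Helper17.StalkExact Groth.Agent.Lib.Helper8.PtSupp

variable {X : Scheme.{u}}

/-- local algebra: in a free module of rank one over a local ring, if `ℓ_t ≡ b` modulo `R ℓ_s`
where `b` is the basis vector and `ℓ_s` does not generate, then `ℓ_t` generates -/
theorem mem_span_of_sub_mem {R M : Type*} [CommRing R] [IsLocalRing R] [AddCommGroup M] [Module R M]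
    (b : Module.Basis (Fin 1) R M) (ℓs ℓt : M) (hns : b 0 ∉ Submodule.span R {ℓs})
    (hsub : ℓt - b 0 ∈ Submodule.span R {ℓs}) : b 0 ∈ Submodule.span R {ℓt} := by
  obtain ⟨α, hα⟩ : ∃ α : R, ℓs = α • b 0 := by
    refine ⟨b.repr ℓs 0, ?_⟩
    conv_lhs => rw [← b.sum_repr ℓs]
    simp
  have hαnu : ¬ IsUnit α := by
    intro hu
    apply hns
    rw [Submodule.mem_span_singleton]
    refine ⟨hu.unit⁻¹.1, ?_⟩
    rw [hα, smul_smul]
    simp
  obtain ⟨r, hr⟩ := Submodule.mem_span_singleton.1 hsub
  have hℓt : ℓt = (1 + r * α) • b 0 := by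
    have : ℓt = b 0 + r • ℓs := by rw [hr]; abel
    rw [this, hα, smul_smul, add_smul, one_smul]
  have hu : IsUnit (1 + r * α) := by
    have hm : r * α ∈ IsLocalRing.maximalIdeal R :=
      Ideal.mul_mem_left _ _ ((IsLocalRing.mem_maximalIdeal α).2 hαnu)
    by_contra hnu
    have h1 : (1 + r * α) ∈ IsLocalRing.maximalIdeal R := (IsLocalRing.mem_maximalIdeal _).2 hnu
    have h2 : (1 : R) ∈ IsLocalRing.maximalIdeal R := by
      have := Ideal.sub_mem _ h1 hm
      simpa using this
    exact (IsLocalRing.maximalIdeal.isMaximal R).ne_top ((Ideal.eq_top_iff_one _).2 h2)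
  rw [Submodule.mem_span_singleton]
  refine ⟨hu.unit⁻¹.1, ?_⟩
  rw [hℓt, smul_smul]
  simp

/-- the germ at `x` of the global section `φ(1)` of a morphism `φ : O ⟶ L` -/
def gsec {L : X.Modules} (φ : Coh.structureModule X ⟶ L) (x : X) : L.presheaf.stalk x :=
  gm L ⊤ x trivial (φ.app ⊤ (show Γ(Coh.structureModule X, ⊤) from (1 : Γ(X, ⊤))))

/-- the stalk map of `φ : O ⟶ L` has image in the span of the germ of `φ(1)` -/
theorem stalkHom_mem_span {L : X.Modules} (φ : Coh.structureModule X ⟶ L) (x : X)
    (m : (Coh.structureModule X).presheaf.stalk x) :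
    stalkHom φ x m ∈ Submodule.span (X.presheaf.stalk x) {gsec φ x} := by
  obtain ⟨U, hxU, c, rfl⟩ := TopCat.Presheaf.exists_germ_eq (Coh.structureModule X).presheaf m
  rw [stalkHom_germ]
  have h1 : (show Γ(Coh.structureModule X, U) from c) =
      ((show Γ(X, U) from c) • (show Γ(Coh.structureModule X, U) from (1 : Γ(X, U))) :
        Γ(Coh.structureModule X, U)) := (mul_one (show Γ(X, U) from c)).symm
  have h2 : φ.app U (show Γ(Coh.structureModule X, U) from (1 : Γ(X, U))) =
      res L (le_top : U ≤ ⊤) (φ.app ⊤ (show Γ(Coh.structureModule X, ⊤) from (1 : Γ(X, ⊤)))) := by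
    rw [← app_res]
    congr 1
    exact (map_one (X.presheaf.map (homOfLE (le_top : U ≤ ⊤)).op).hom).symm
  have h3 : L.presheaf.germ U x hxU (φ.app U c) =
      X.presheaf.germ U x hxU (show Γ(X, U) from c) • gsec φ x := by
    have e1 : gm L U x hxU (φ.app U (show Γ(Coh.structureModule X, U) from c)) =
        gm L U x hxU (φ.app U ((show Γ(X, U) from c) •
          (show Γ(Coh.structureModule X, U) from (1 : Γ(X, U))) : Γ(Coh.structureModule X, U))) :=
      congrArg (fun y => gm L U x hxU (φ.app U y)) h1
    refine e1.trans ?_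
    rw [Scheme.Modules.Hom.app_smul, gm_smul, h2, gm_res]
    rfl
  rw [h3]
  exact Submodule.smul_mem _ _ (Submodule.mem_span_singleton_self _)

/-- the germ of `φ(1)` is in the image of the stalk map -/
theorem stalkHom_gsec {L : X.Modules} (φ : Coh.structureModule X ⟶ L) (x : X) :
    stalkHom φ x ((Coh.structureModule X).presheaf.germ ⊤ x trivial
      (show Γ(Coh.structureModule X, ⊤) from (1 : Γ(X, ⊤)))) = gsec φ x :=
  stalkHom_germ φ x ⊤ trivial _

/-- if the germ of `φ(1)` generates the stalk, the stalk map is surjective -/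
theorem stalkHom_surjective_of_span {L : X.Modules} (φ : Coh.structureModule X ⟶ L) (x : X)
    (h : Submodule.span (X.presheaf.stalk x) {gsec φ x} = ⊤) :
    Function.Surjective (stalkHom φ x) := by
  intro y
  have hy : y ∈ Submodule.span (X.presheaf.stalk x) {gsec φ x} := by rw [h]; trivial
  obtain ⟨r, rfl⟩ := Submodule.mem_span_singleton.1 hy
  refine ⟨r • (Coh.structureModule X).presheaf.germ ⊤ x trivial
      (show Γ(Coh.structureModule X, ⊤) from (1 : Γ(X, ⊤))), ?_⟩
  rw [stalkHom_smul, stalkHom_gsec]

theorem span_basis_eq_top {R M : Type*} [CommRing R] [AddCommGroup M] [Module R M]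
    (b : Module.Basis (Fin 1) R M) : Submodule.span R {b 0} = ⊤ := by
  rw [eq_top_iff, ← b.span_eq]
  apply Submodule.span_mono
  rintro _ ⟨i, rfl⟩
  have : i = 0 := Subsingleton.elim _ _
  rw [this]
  rfl

section curve

variable (k : Type u) [Field k] (X : Scheme.{u}) [X.Over (Spec (CommRingCat.of k))]
  [IsIntegral X] [IsProper (X ↘ Spec (CommRingCat.of k))]

include k in
/-- **a section generating along the zero locus of another one**: on an integral proper curve, if
`s : O ⟶ L` is nonzero and `H⁰(L) ⟶ H⁰(coker s)` is surjective, there is a section `t` of `L`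
generating `L` at every point of the support of `coker s` -/
theorem exists_gen_section (hdim : topologicalKrullDim X ≤ 1) {L : X.Modules}
    (hL : PicF.IsInvertible L) (s : Coh.structureModule X ⟶ L) (hs : s ≠ 0)
    (hsurj : Function.Surjective (HHmap (cokernel.π s) 0)) :
    ∃ t : Coh.structureModule X ⟶ L,
      ∀ x ∈ CohB1.support (cokernel s), x ∉ CohB1.support (cokernel t) := by
  classical
  haveI : IsLocallyNoetherian X := isLocallyNoetherian k X
  haveI : CompactSpace X := QuasiCompact.compactSpace_of_compactSpace (X ↘ Spec (CommRingCat.of k))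
  haveI : IsNoetherian X := { }
  have hO := isInvertible_structureModule X
  have hcO := Groth.Agent.Lib.Helper6.K0Op.isCoh_of_isInvertible _ hO
  have hcL := Groth.Agent.Lib.Helper6.K0Op.isCoh_of_isInvertible _ hL
  have hL1 := Groth.Agent.Lib.Helper6.K0Op.isFinLocFreeOfRank_one_of_isInvertible L hL
  have hcQ := Groth.Agent.Lib.Helper6.DevCore.isCoh_cokernel s hcO hcL
  have hcl : IsClosed (CohB1.support (cokernel s)) := Groth.Agent.S0020.result X _ hcQ.2
  have hgen := genericPoint_notMem_support_cokernel hO hL s hs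
  have hne : CohB1.support (cokernel s) ≠ Set.univ := fun e => hgen (e ▸ Set.mem_univ _)
  obtain ⟨hfin, hpt⟩ := Groth.Agent.Lib.Helper4.DimOneConstructible.closed_proper_finite hdim _ hcl hne
  let b : ∀ z : X, Module.Basis (Fin 1) (X.presheaf.stalk z) (L.presheaf.stalk z) := fun z =>
    (Groth.Agent.Lib.Helper6.K0Tensor.exists_stalkBasis L hL1 z).some
  obtain ⟨q, hq⟩ := exists_section (cokernel s) (CohB1.support (cokernel s)) hfin hpt subset_rfl
    (fun z => stalkHom (cokernel.π s) z (b z 0))
  let eQ := Sheaf.H.equiv₀ (Coh.toAb (cokernel s)) Limits.isTerminalTop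
  let eL := Sheaf.H.equiv₀ (Coh.toAb L) Limits.isTerminalTop
  obtain ⟨x', hx'⟩ := hsurj (eQ.symm q)
  refine ⟨Groth.Agent.Lib.Helper17.Serre.ofSection L (eL x'), fun x hx => ?_⟩
  set t := Groth.Agent.Lib.Helper17.Serre.ofSection L (eL x') with ht
  -- the section `t(1)` maps to `q`
  have ht1 : t.app ⊤ (show Γ(Coh.structureModule X, ⊤) from (1 : Γ(X, ⊤))) = eL x' := by
    have h1 := Groth.Agent.Lib.Helper17.Serre.ofSection_app_one L (eL x') ⊤
    rw [res_self] at h1
    exact h1
  have hπt : (cokernel.π s).app ⊤ (eL x') = q := by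
    have h := Sheaf.H.equiv₀_naturality (Limits.isTerminalTop (α := Opens X))
      ((SheafOfModules.toSheaf X.ringCatSheaf).map (cokernel.π s)) x'
    refine h.trans ?_
    have : HHmap (cokernel.π s) 0 x' = eQ.symm q := hx'
    change eQ (HHmap (cokernel.π s) 0 x') = q
    rw [this, AddEquiv.apply_symm_apply]
  -- stalk computation at `x`
  have h1 : stalkHom (cokernel.π s) x (gsec t x) = stalkHom (cokernel.π s) x (b x 0) := by
    unfold gsec
    change stalkHom (cokernel.π s) x (L.presheaf.germ ⊤ x trivial _) = _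
    rw [stalkHom_germ, ht1, hπt]
    exact hq x hx
  have hex := stalkHom_exact_of_exact (ShortComplex.mk s (cokernel.π s) (cokernel.condition s))
    (ShortComplex.exact_cokernel s) x
  have hsub : gsec t x - b x 0 ∈ Submodule.span (X.presheaf.stalk x) {gsec s x} := by
    have hz : stalkHom (cokernel.π s) x (gsec t x - b x 0) = 0 := by
      rw [map_sub, h1, sub_self]
    obtain ⟨m₀, hm₀⟩ := (hex _).1 hz
    rw [← hm₀]
    exact stalkHom_mem_span s x m₀
  have hns : b x 0 ∉ Submodule.span (X.presheaf.stalk x) {gsec s x} := by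
    intro hmem
    refine absurd hx ?_
    refine Groth.Agent.Lib.Helper6.DevStep.notMem_support_cokernel s x
      (stalkHom_surjective_of_span s x ?_)
    rw [eq_top_iff, ← span_basis_eq_top (b x)]
    exact Submodule.span_le.2 (Set.singleton_subset_iff.2 hmem)
  have hmem := mem_span_of_sub_mem (b x) (gsec s x) (gsec t x) hns hsub
  refine Groth.Agent.Lib.Helper6.DevStep.notMem_support_cokernel t x
    (stalkHom_surjective_of_span t x ?_)
  rw [eq_top_iff, ← span_basis_eq_top (b x)]
  exact Submodule.span_le.2 (Set.singleton_subset_iff.2 hmem)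

end curve

end Groth.Agent.Lib.Helper8.GenSec
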