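import Mathlib
import Groth.Agent.Lib.Helper8.GenSec
import Groth.Agent.Lib.Helper4.AmpleSerre

/-! # Helper8 — equality in h⁰(L) ≤ deg L + 1 on an integral proper curve forces genus zero: comparison h¹(L^n) ≤ h¹(L^{n+1}) through a section generating along the zeros of another, then Serre vanishing for the ample L -/
set_option autoImplicit false
universe u
open CategoryTheory CategoryTheory.Limits AlgebraicGeometry MonoidalCategory Opposite TopologicalSpace

noncomputable section
namespace Groth.Agent.Lib.Helper8.GrdEq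
open Groth.Agent.Lib.Helper16.Stk Groth.Agent.Lib.Helper16.TA Groth.Agent.Lib.Helper2.HLes
  Groth.Agent.Lib.Helper2.HLesLin Groth.Agent.Lib.Helper28.QCohLoc Groth.Agent.Lib.Helper8.KillA
  Groth.Agent.Lib.Helper8.KillB Groth.Agent.Lib.Helper8.KillC Groth.Agent.Lib.Helper8.KillD
  Groth.Agent.Lib.Helper8.KillE Groth.Agent.Lib.Helper8.KillF Groth.Agent.Lib.Helper8.GenSec
  Groth.Agent.Lib.Helper8.EulerK Groth.Agent.Lib.Helper8.CurveInv
  Groth.Agent.Lib.Helper8.CurveDeg Groth.Agent.Lib.Helper8.CurveVan Groth.Agent.Lib.Helper8.CurveRR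
  Groth.Agent.Lib.Helper28 Groth.Agent.Lib.Helper28.GenLocus

variable {X : Scheme.{u}}

/-- an epimorphism whose kernel has no `H¹` is surjective on `H⁰` -/
theorem HHmap_zero_surjective_of_epi {A B : X.Modules} (f : A ⟶ B) [Epi f]
    (h1 : Subsingleton (Coh.HH X (kernel f) 1)) : Function.Surjective (HHmap f 0) := by
  intro y
  let S : ShortComplex X.Modules := ShortComplex.mk (kernel.ι f) f (kernel.condition f)
  have hS : S.ShortExact :=
    { exact := ShortComplex.exact_of_f_is_kernel _ (kernelIsKernel f)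
      mono_f := by dsimp [S]; infer_instance
      epi_g := by dsimp [S]; infer_instance }
  exact exact₃ (shortExact_Sab S hS) 0 y (@Subsingleton.elim _ h1 _ _)

/-- surjectivity on `H⁰` of the last map of a short exact sequence gives injectivity on `H¹` of the
first one -/
theorem HHmap_one_injective_of_surjective (S : ShortComplex X.Modules) (hS : S.ShortExact)
    (hsurj : Function.Surjective (HHmap S.g 0)) : Function.Injective (HHmap S.f 1) := by
  rw [injective_iff_map_eq_zero]
  intro x hx
  obtain ⟨x₃, rfl⟩ := exact₁ (shortExact_Sab S hS) 0 x hx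
  obtain ⟨x₂, rfl⟩ := hsurj x₃
  exact δ_map_g (shortExact_Sab S hS) 0 x₂

/-- stalkwise epimorphisms are preserved by tensoring on the right -/
theorem epi_stk_tensor {P P' : X.Modules} (τ : P ⟶ P') (N : X.Modules) (x : X)
    (h : Epi ((stk x).map τ)) : Epi ((stk x).map ((DCoh.tensorBi.map τ).app N)) := by
  rw [epi_stk_iff] at h ⊢
  exact fun hx => h (support_cokernel_tensor_subset τ N hx)

/-- `τ` generates its target at all points of the support of `Q` -/
def Gen {P : X.Modules} (Q : X.Modules) (τ : Coh.structureModule X ⟶ P) : Prop :=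
  ∀ x ∈ CohB1.support Q, Epi ((stk x).map τ)

theorem epi_tensor_of_gen {P : X.Modules} (hcP : Coh.IsCoh P) (Q : X.Modules) (hQ : Coh.IsCoh Q)
    (τ : Coh.structureModule X ⟶ P) (hG : Gen Q τ) : Epi ((DCoh.tensorBi.map τ).app Q) := by
  apply epi_of_forall_stalk
  intro x
  by_cases hx : x ∈ CohB1.support Q
  · exact epi_stk_tensor τ Q x (hG x hx)
  · have hx' : x ∉ CohB1.support ((DCoh.tensorBi.obj P).obj Q) := fun h =>
      hx (Groth.Agent.Lib.Helper6.K0Op.support_tensorMod_subset P Q hcP hQ h)
    have hz : IsZero ((stk x).obj ((DCoh.tensorBi.obj P).obj Q)) := (notMem_support_iff _ x).1 hx'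
    exact ⟨fun g h _ => hz.eq_of_src g h⟩

section curve

variable (k : Type u) [Field k] (X : Scheme.{u}) [X.Over (Spec (CommRingCat.of k))]
  [IsIntegral X] [IsProper (X ↘ Spec (CommRingCat.of k))]

include k in
theorem H0_surjective_mulBy {P : X.Modules} (hP : PicF.IsInvertible P) (Q : X.Modules)
    (hQ : Coh.IsCoh Q) (hpt : ∀ x ∈ CohB1.support Q, IsClosed ({x} : Set X))
    (τ : Coh.structureModule X ⟶ P) (hG : Gen Q τ) :
    Function.Surjective (HHmap ((mulBy τ).app Q) 0) := by
  haveI : IsLocallyNoetherian X := isLocallyNoetherian k X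
  have hcP := Groth.Agent.Lib.Helper6.K0Op.isCoh_of_isInvertible _ hP
  have hPQ : Coh.IsCoh ((DCoh.tensorBi.obj P).obj Q) :=
    Groth.Agent.Lib.Helper6.K0Op.isCoh_tensorMod _ _ hcP hQ
  haveI := epi_tensor_of_gen hcP Q hQ τ hG
  let f : Q ⟶ (DCoh.tensorBi.obj P).obj Q := (mulBy τ).app Q
  haveI : Epi f := by
    change Epi (lam.inv.app Q ≫ (DCoh.tensorBi.map τ).app Q)
    exact epi_comp _ _
  have hK := Groth.Agent.Lib.Helper6.DevCore.isCoh_kernel f hQ hPQ
  have hsK : ∀ x ∈ CohB1.support (kernel f), IsClosed ({x} : Set X) := fun x hx =>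
    hpt x (Groth.Agent.Lib.Helper6.DevCore.support_subset_of_mono (kernel.ι f) hx)
  exact HHmap_zero_surjective_of_epi f (subsingleton_HH_succ (kernel f) hK hsK 0)

/-- the key comparison: if `τ` generates `P` along the zeros of `s` and `H⁰(L) → H⁰(coker s)` is
surjective, then `h¹(P ⊗ O) ≤ h¹(P ⊗ L)` -/
theorem h1_le_of_gen (hdim : topologicalKrullDim X ≤ 1) {L : X.Modules} (hL : PicF.IsInvertible L)
    (s : Coh.structureModule X ⟶ L) (hs : s ≠ 0)
    (hsurj : Function.Surjective (HHmap (cokernel.π s) 0))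
    {P : X.Modules} (hP : PicF.IsInvertible P) (τ : Coh.structureModule X ⟶ P)
    (hG : Gen (cokernel s) τ) :
    hh k ((DCoh.tensorBi.obj P).obj (Coh.structureModule X)) 1 ≤
      hh k ((DCoh.tensorBi.obj P).obj L) 1 := by
  haveI : IsLocallyNoetherian X := isLocallyNoetherian k X
  have hO := isInvertible_structureModule X
  have hcO := Groth.Agent.Lib.Helper6.K0Op.isCoh_of_isInvertible _ hO
  have hcL := Groth.Agent.Lib.Helper6.K0Op.isCoh_of_isInvertible _ hL
  have hcP := Groth.Agent.Lib.Helper6.K0Op.isCoh_of_isInvertible _ hP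
  have hcQ := Groth.Agent.Lib.Helper6.DevCore.isCoh_cokernel s hcO hcL
  have hpt := support_cokernel_closedPoints hdim hO hL s hs
  haveI : Mono s := mono_of_ne_zero hO hL s hs
  let S : ShortComplex X.Modules := ShortComplex.mk s (cokernel.π s) (cokernel.condition s)
  have hS : S.ShortExact :=
    { exact := ShortComplex.exact_cokernel s
      mono_f := by dsimp [S]; infer_instance
      epi_g := by dsimp [S]; infer_instance }
  let SP : ShortComplex X.Modules := S.map (DCoh.tensorBi.obj P)
  have hSP : SP.ShortExact := Groth.Agent.Lib.Helper6.K0Op.shortExact_tensor_of_flat P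
    (Groth.Agent.Lib.Helper6.K0Op.isFlat_of_isInvertible P hP) S hS
  have hQsurj := H0_surjective_mulBy k X hP (cokernel s) hcQ hpt τ hG
  have hsurjP : Function.Surjective (HHmap SP.g 0) := by
    intro y'
    obtain ⟨y, rfl⟩ := hQsurj y'
    obtain ⟨b, rfl⟩ := hsurj y
    refine ⟨HHmap ((mulBy τ).app L) 0 b, ?_⟩
    have hcomm : (mulBy τ).app L ≫ SP.g = cokernel.π s ≫ (mulBy τ).app (cokernel s) :=
      ((mulBy τ).naturality (cokernel.π s)).symm
    exact (HHmap_comp ((mulBy τ).app L) SP.g 0 b).symm.trans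
      ((congrArg (fun φ => HHmap φ 0 b) hcomm).trans
        (HHmap_comp (cokernel.π s) ((mulBy τ).app (cokernel s)) 0 b))
  have hinj := HHmap_one_injective_of_surjective SP hSP hsurjP
  have hc2 : Coh.IsCoh ((DCoh.tensorBi.obj P).obj L) :=
    Groth.Agent.Lib.Helper6.K0Op.isCoh_tensorMod _ _ hcP hcL
  haveI : Module.Finite k (Coh.HH X ((DCoh.tensorBi.obj P).obj L) 1) := finite_HH k X _ hc2 1
  exact LinearMap.finrank_le_finrank_of_injective
    (f := (show Coh.HH X ((DCoh.tensorBi.obj P).obj (Coh.structureModule X)) 1 →ₗ[k]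
      Coh.HH X ((DCoh.tensorBi.obj P).obj L) 1 from Canon.HHlin k SP.f 1)) hinj

omit [X.Over (Spec (CommRingCat.of k))] [IsIntegral X] [IsProper (X ↘ Spec (CommRingCat.of k))] in
/-- sections generating all tensor powers along the support of `Q` -/
theorem exists_gen_pow {L : X.Modules} (Q : X.Modules) (t : Coh.structureModule X ⟶ L)
    (ht : Gen Q t) : ∀ n : ℕ, ∃ τ : Coh.structureModule X ⟶ CohB1.tensorPow L n, Gen Q τ := by
  intro n
  induction n with
  | zero =>
    refine ⟨(𝟙 (Coh.structureModule X) : Coh.structureModule X ⟶ Coh.structureModule X), fun x _ => ?_⟩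
    have : (stk x).map (𝟙 (Coh.structureModule X)) = 𝟙 _ := (stk x).map_id _
    change Epi ((stk x).map (𝟙 (Coh.structureModule X)))
    rw [this]
    infer_instance
  | succ n ih =>
    obtain ⟨τ, hτ⟩ := ih
    let τ' : Coh.structureModule X ⟶ CohB1.tensorPow L (n + 1) :=
      t ≫ lam.inv.app L ≫ (DCoh.tensorBi.map τ).app L
    refine ⟨τ', fun x hx => ?_⟩
    have i1 : Epi ((stk x).map t) := ht x hx
    have i3 : Epi ((stk x).map ((DCoh.tensorBi.map τ).app L)) := epi_stk_tensor τ L x (hτ x hx)
    have e : (stk x).map τ' = (stk x).map t ≫ (stk x).map (lam.inv.app L) ≫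
        (stk x).map ((DCoh.tensorBi.map τ).app L) :=
      ((stk x).map_comp t _).trans (congrArg ((stk x).map t ≫ ·) ((stk x).map_comp _ _))
    rw [e]
    have i2 : Epi ((stk x).map (lam.inv.app L)) := by
      haveI : IsIso ((stk x).map (lam.inv.app L)) := Functor.map_isIso _ _
      infer_instance
    have i23 : Epi ((stk x).map (lam.inv.app L) ≫ (stk x).map ((DCoh.tensorBi.map τ).app L)) :=
      @epi_comp _ _ _ _ _ _ i2 _ i3
    exact @epi_comp _ _ _ _ _ _ i1 _ i23

/-- in the situation of `h1_le_of_gen`, the genus is bounded by `h¹` of every tensor power -/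
theorem genus_le_h1_pow (hdim : topologicalKrullDim X ≤ 1) {L : X.Modules} (hL : PicF.IsInvertible L)
    (s : Coh.structureModule X ⟶ L) (hs : s ≠ 0)
    (hsurj : Function.Surjective (HHmap (cokernel.π s) 0)) (n : ℕ) :
    hh k (Coh.structureModule X) 1 ≤ hh k (CohB1.tensorPow L n) 1 := by
  obtain ⟨t, ht⟩ := exists_gen_section k X hdim hL s hs hsurj
  have htG : Gen (cokernel s) t := fun x hx => (epi_stk_iff t x).2 (ht x hx)
  induction n with
  | zero => exact le_rfl
  | succ n ih =>
    obtain ⟨τ, hτ⟩ := exists_gen_pow X (cokernel s) t htG n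
    have h1 := h1_le_of_gen k X hdim hL s hs hsurj (isInvertible_tensorPow hL n) τ hτ
    have e0 : hh k ((DCoh.tensorBi.obj (CohB1.tensorPow L n)).obj (Coh.structureModule X)) 1 =
        hh k (CohB1.tensorPow L n) 1 := hh_congr k (rho.app _) 1
    rw [e0] at h1
    exact ih.trans h1

/-- **equality in `h⁰ ≤ deg + 1` forces genus zero** (in the form: `H⁰(L) → H⁰(coker s)`
surjective for a nonzero section `s` of an invertible module of positive degree) -/
theorem genus_eq_zero_of_surjective (hdim : topologicalKrullDim X = 1) {L : X.Modules}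
    (hL : PicF.IsInvertible L) (hdeg : 0 < Curv2.deg k X L 1)
    (s : Coh.structureModule X ⟶ L) (hs : s ≠ 0)
    (hsurj : Function.Surjective (HHmap (cokernel.π s) 0)) : Curv2.genus k X = 0 := by
  have hA := isAmple_of_deg_pos k X hdim.le hL hdeg
  have hO := isInvertible_structureModule X
  have hcO := Groth.Agent.Lib.Helper6.K0Op.isCoh_of_isInvertible _ hO
  obtain ⟨n₀, hn₀⟩ := Groth.Agent.Lib.Helper4.AmpleSerre.vanishing_of_isAmple k X
    (X ↘ Spec (CommRingCat.of k)) L hA (Coh.structureModule X) hcO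
  have hsub := hn₀ n₀ le_rfl 1 one_pos
  have e : CohB1.tensorMod (Coh.structureModule X) (CohB1.tensorPow L n₀) ≅ CohB1.tensorPow L n₀ :=
    lam.app _
  have h0 : hh k (CohB1.tensorPow L n₀) 1 = 0 := by
    rw [← hh_congr k e 1]
    unfold hh
    exact Module.finrank_zero_of_subsingleton
  have hle := genus_le_h1_pow k X hdim.le hL s hs hsurj n₀
  unfold Curv2.genus
  unfold hh at hle h0
  omega

end curve

end Groth.Agent.Lib.Helper8.GrdEq
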