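import Groth.Agent.Lib.Helper8.GGFin
import Groth.Agent.Lib.Helper8.GGCoh
import Groth.Agent.Lib.Helper8.GrdEq
import Groth.Agent.Lib.Helper16.RS7
import Groth.Agent.Lib.Helper16.TA3

/-! # Helper8 — global generation via morphisms killing global sections; H¹-vanishing for globally generated modules on genus-zero curves; deformation ampleness is stable under extensions, torsion-cokernel maps and tensor powers -/
set_option autoImplicit false
universe u
open CategoryTheory CategoryTheory.Limits AlgebraicGeometry Opposite TopologicalSpace Abelian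
noncomputable section

namespace Groth.Agent.Lib.Helper8.GGKill

variable {X : Scheme.{u}}

/-- `π` kills all global sections of its source -/
def Kills {M C : X.Modules} (π : M ⟶ C) : Prop := ∀ s : Coh.structureModule X ⟶ M, s ≫ π = 0

/-- a morphism killing all global sections of `M` kills every globally generated module mapping to `M` -/
theorem comp_eq_zero_of_gg {G M C : X.Modules} (hG : Curv2.IsGloballyGenerated G) (h : G ⟶ M) (π : M ⟶ C)
    (hπ : Kills π) : h ≫ π = 0 := by
  obtain ⟨ι, p, hp⟩ := hG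
  haveI := hp
  have h1 : p ≫ (h ≫ π) = 0 := by
    apply Cofan.IsColimit.hom_ext (SheafOfModules.isColimitFreeCofan (R := X.ringCatSheaf) ι)
    intro i
    let ιi : Coh.structureModule X ⟶ (SheafOfModules.free ι : X.Modules) :=
      (SheafOfModules.freeCofan (R := X.ringCatSheaf) ι).inj i
    show ιi ≫ p ≫ h ≫ π = ιi ≫ 0
    have := hπ (ιi ≫ p ≫ h)
    rw [comp_zero]
    simpa only [Category.assoc] using this
  exact (cancel_epi p).1 (h1.trans comp_zero.symm)

/-- a module is globally generated as soon as every morphism killing its global sections vanishes -/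
theorem isGloballyGenerated_of_kills (M : X.Modules)
    (H : ∀ (C : X.Modules) (π : M ⟶ C), Kills π → π = 0) : Curv2.IsGloballyGenerated M := by
  let p : (SheafOfModules.free (Coh.structureModule X ⟶ M) : X.Modules) ⟶ M :=
    Cofan.IsColimit.desc (SheafOfModules.isColimitFreeCofan (R := X.ringCatSheaf) _) (fun s => s)
  refine ⟨_, p, ?_⟩
  apply Abelian.epi_of_cokernel_π_eq_zero
  apply H
  intro s
  let ιs : Coh.structureModule X ⟶ (SheafOfModules.free (Coh.structureModule X ⟶ M) : X.Modules) :=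
    (SheafOfModules.freeCofan (R := X.ringCatSheaf) (Coh.structureModule X ⟶ M)).inj s
  have h1 : ιs ≫ p = s := Cofan.IsColimit.fac _ _ _
  calc s ≫ cokernel.π p = (ιs ≫ p) ≫ cokernel.π p := by rw [h1]
    _ = ιs ≫ (p ≫ cokernel.π p) := Category.assoc _ _ _
    _ = 0 := (congrArg (ιs ≫ ·) (cokernel.condition p)).trans comp_zero

theorem kills_eq_zero_of_gg {M C : X.Modules} (hM : Curv2.IsGloballyGenerated M) (π : M ⟶ C)
    (hπ : Kills π) : π = 0 := by
  have := comp_eq_zero_of_gg hM (𝟙 M) π hπ
  rwa [Category.id_comp] at this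

theorem isGloballyGenerated_of_epi {M N : X.Modules} (hM : Curv2.IsGloballyGenerated M) (f : M ⟶ N)
    (hf : Epi f) : Curv2.IsGloballyGenerated N := by
  obtain ⟨ι, p, hp⟩ := hM
  exact ⟨ι, p ≫ f, @epi_comp _ _ _ _ _ p hp f hf⟩

theorem isGloballyGenerated_of_iso {M N : X.Modules} (e : M ≅ N) (hM : Curv2.IsGloballyGenerated M) :
    Curv2.IsGloballyGenerated N := isGloballyGenerated_of_epi hM e.hom inferInstance


open Groth.Agent.Lib.Helper2.HLes Groth.Agent.Lib.Helper2.HLesLin Groth.Agent.Lib.Helper8.KillA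
  Groth.Agent.Lib.Helper8.KillB Groth.Agent.Lib.Helper8.KillC Groth.Agent.Lib.Helper8.BiratIso
  Groth.Agent.Lib.Helper8.GGCoh Groth.Agent.Lib.Helper8.GGFin Groth.Agent.Lib.Helper16.Stk
  Groth.Agent.Lib.Helper28.GenLocus Groth.Agent.Lib.Helper8.CurveVan

section lift

/-- a morphism from the structure sheaf is determined by its class in `H⁰` -/
theorem hom_eq_of_HHmap_unitH_eq {Q : X.Modules} (φ ψ : Coh.structureModule X ⟶ Q)
    (h : HHmap φ 0 (unitH X) = HHmap ψ 0 (unitH X)) : φ = ψ := by
  have h1 := congrArg (Sheaf.H.equiv₀ (Coh.toAb Q) Limits.isTerminalTop) h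
  rw [HHmap_unitH, HHmap_unitH] at h1
  have h2 : secOf φ = secOf ψ := h1
  rw [← ofSection_secOf φ, ← ofSection_secOf ψ, h2]

/-- global sections of the third term of a short exact sequence lift when the first term has no `H¹` -/
theorem exists_lift_section (S : ShortComplex X.Modules) (hS : S.ShortExact)
    (h1 : Subsingleton (Coh.HH X S.X₁ 1)) (s : Coh.structureModule X ⟶ S.X₃) :
    ∃ t : Coh.structureModule X ⟶ S.X₂, t ≫ S.g = s := by
  obtain ⟨x₂, hx₂⟩ := exact₃ (shortExact_Sab S hS) 0 (HHmap s 0 (unitH X)) (@Subsingleton.elim _ h1 _ _)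
  obtain ⟨t, rfl⟩ := exists_hom_of_H0 S.X₂ x₂
  refine ⟨t, hom_eq_of_HHmap_unitH_eq _ _ ?_⟩
  rw [HHmap_comp]
  exact hx₂

end lift

section curve

variable [IsNoetherian X] (hdim : topologicalKrullDim X ≤ 1)
  (hO : Subsingleton (Coh.HH X (Coh.structureModule X) 1))

include hdim hO in
/-- on a Noetherian scheme of dimension at most one with `H¹(O) = 0`, globally generated coherent modules have
no `H¹` -/
theorem subsingleton_H1_of_gg {E : X.Modules} (hE : Coh.IsCoh E) (hgg : Curv2.IsGloballyGenerated E) :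
    Subsingleton (Coh.HH X E 1) := by
  obtain ⟨n, q, hq⟩ := exists_fin_epi hE hgg
  exact subsingleton_HH_of_epi q hq 1 (subsingleton_HH_sigma _ 1 (fun _ => hO))
    (subsingleton_HH_add_two hdim _ 0)

include hdim hO in
/-- the middle term of a short exact sequence with globally generated outer terms is globally generated -/
theorem gg_of_shortExact (S : ShortComplex X.Modules) (hS : S.ShortExact) (hc₁ : Coh.IsCoh S.X₁)
    (h₁ : Curv2.IsGloballyGenerated S.X₁) (h₃ : Curv2.IsGloballyGenerated S.X₃) :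
    Curv2.IsGloballyGenerated S.X₂ := by
  apply isGloballyGenerated_of_kills
  intro C π hπ
  have hH1 := subsingleton_H1_of_gg hdim hO hc₁ h₁
  have hf : S.f ≫ π = 0 := comp_eq_zero_of_gg h₁ S.f π hπ
  haveI := hS.epi_g
  obtain ⟨π', hπ'⟩ : ∃ π' : S.X₃ ⟶ C, S.g ≫ π' = π :=
    ⟨hS.gIsCokernel.desc (CokernelCofork.ofπ π hf), hS.gIsCokernel.fac _ WalkingParallelPair.one⟩
  have hk : Kills π' := by
    intro s
    obtain ⟨t, rfl⟩ := exists_lift_section S hS hH1 s
    rw [Category.assoc, hπ']
    exact hπ t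
  rw [← hπ', kills_eq_zero_of_gg h₃ π' hk, comp_zero]

end curve

section tensor

theorem epi_tensor {P P' : X.Modules} (τ : P ⟶ P') (hτ : Epi τ) (N : X.Modules) :
    Epi ((DCoh.tensorBi.map τ).app N) := by
  apply epi_of_forall_stalk
  intro x
  haveI : (stk x).PreservesEpimorphisms := (stk x).preservesEpimorphisms_of_adjunction (stkSkyAdj x)
  exact Groth.Agent.Lib.Helper8.GrdEq.epi_stk_tensor τ N x (@Functor.map_epi _ _ _ _ (stk x) _ _ _ τ hτ)

/-- tensoring with `N` turns the coproduct `O^n` into a coproduct of copies of `O ⊗ N` -/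
def tensorFreeIso (n : ℕ) (N : X.Modules) :
    (DCoh.tensorBi.obj (FlatMod.freeMod X n)).obj N ≅
      ∐ fun _ : Fin n => (DCoh.tensorBi.obj (Coh.structureModule X)).obj N :=
  PreservesCoproduct.iso (DCoh.tensorBi.flip.obj N) (fun _ : Fin n => Coh.structureModule X)

/-- Lemma T: tensoring a module without `H¹` with a globally generated coherent module on a curve gives a module
without `H¹` -/
theorem subsingleton_H1_tensor_of_gg [IsNoetherian X] (hdim : topologicalKrullDim X ≤ 1) {E : X.Modules}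
    (hE : Coh.IsCoh E) (hgg : Curv2.IsGloballyGenerated E) (N : X.Modules)
    (hN : Subsingleton (Coh.HH X N 1)) : Subsingleton (Coh.HH X (CohB1.tensorMod E N) 1) := by
  obtain ⟨n, q, hq⟩ := exists_fin_epi hE hgg
  have h1 : Subsingleton (Coh.HH X ((DCoh.tensorBi.obj (FlatMod.freeMod X n)).obj N) 1) :=
    subsingleton_HH_of_iso (tensorFreeIso n N) 1
      (subsingleton_HH_sigma _ 1 (fun _ => subsingleton_HH_of_iso (lam.app N) 1 hN))
  exact subsingleton_HH_of_epi ((DCoh.tensorBi.map q).app N) (epi_tensor q hq N) 1 h1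
    (subsingleton_HH_add_two hdim _ 0)

/-- Lemma G: the tensor product of a globally generated coherent module with a globally generated module is
globally generated -/
theorem gg_tensor [IsLocallyNoetherian X] [CompactSpace X] {E : X.Modules} (hE : Coh.IsCoh E)
    (hgg : Curv2.IsGloballyGenerated E) {F : X.Modules} (hF : Curv2.IsGloballyGenerated F) :
    Curv2.IsGloballyGenerated (CohB1.tensorMod E F) := by
  obtain ⟨n, q, hq⟩ := exists_fin_epi hE hgg
  apply isGloballyGenerated_of_kills
  intro C π hπ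
  haveI := epi_tensor q hq F
  have h1 : (DCoh.tensorBi.map q).app F ≫ π = 0 := by
    have hc := isColimitOfPreserves (DCoh.tensorBi.flip.obj F)
      (coproductIsCoproduct (fun _ : Fin n => Coh.structureModule X))
    apply hc.hom_ext
    rintro ⟨j⟩
    rw [comp_zero, ← Category.assoc]
    exact comp_eq_zero_of_gg (isGloballyGenerated_of_iso (lam.app F).symm hF) _ π hπ
  exact (cancel_epi ((DCoh.tensorBi.map q).app F)).1 (h1.trans comp_zero.symm)

end tensor

section flasque

/-- a flasque module is globally generated -/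
theorem gg_of_isFlasque (Q : X.Modules) [TopCat.Sheaf.IsFlasque (Coh.toAb Q)] :
    Curv2.IsGloballyGenerated Q := by
  apply Groth.Agent.Lib.Helper28.GenLocus.isGloballyGenerated_of_ggAt
  intro x U y hx
  have hepi : Epi ((Coh.toAb Q).obj.map (homOfLE (le_top : U ≤ ⊤)).op) :=
    TopCat.Presheaf.IsFlasque.epi _
  rw [AddCommGrpCat.epi_iff_surjective] at hepi
  obtain ⟨T, hT⟩ := hepi y
  refine ⟨U, le_rfl, hx, ?_⟩
  rw [Groth.Agent.Lib.Helper28.QCohLoc.res_self]
  exact Submodule.subset_span ⟨T, hT⟩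

end flasque

section defAmple

variable [IsNoetherian X] (hdim : topologicalKrullDim X ≤ 1)
  (hO : Subsingleton (Coh.HH X (Coh.structureModule X) 1))

open Groth.Agent.Lib.Helper6.K0Inv in
/-- `H¹(- ⊗ ω) = 0` passes to the middle term of a short exact sequence with flat third term -/
theorem subsingleton_H1_tensor_of_shortExact (S : ShortComplex X.Modules) (hS : S.ShortExact)
    (h3 : FlatMod.IsFlat S.X₃) (ω : X.Modules)
    (h₁ : Subsingleton (Coh.HH X (CohB1.tensorMod S.X₁ ω) 1))
    (h₃ : Subsingleton (Coh.HH X (CohB1.tensorMod S.X₃ ω) 1)) :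
    Subsingleton (Coh.HH X (CohB1.tensorMod S.X₂ ω) 1) := by
  have hT := shortExact_tensorBi_obj_of_flat₃ S hS h3 ω
  have a₁ : Subsingleton (Coh.HH X (CohB1.tensorMod ω S.X₁) 1) :=
    subsingleton_HH_of_iso (braidIso ω S.X₁) 1 h₁
  have a₃ : Subsingleton (Coh.HH X (CohB1.tensorMod ω S.X₃) 1) :=
    subsingleton_HH_of_iso (braidIso ω S.X₃) 1 h₃
  have a₂ : Subsingleton (Coh.HH X (CohB1.tensorMod ω S.X₂) 1) :=
    subsingleton_HH₂ (S.map (DCoh.tensorBi.obj ω)) hT 1 a₁ a₃
  exact subsingleton_HH_of_iso (braidIso S.X₂ ω) 1 a₂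

include hdim hO in
/-- deformation ampleness (global generation and `H¹(- ⊗ ω) = 0`) is stable under extensions -/
theorem defAmple_shortExact (S : ShortComplex X.Modules) (hS : S.ShortExact) (hc₁ : Coh.IsCoh S.X₁)
    (h3 : FlatMod.IsFlat S.X₃) (ω : X.Modules)
    (h₁ : Curv2.IsGloballyGenerated S.X₁ ∧ Subsingleton (Coh.HH X (CohB1.tensorMod S.X₁ ω) 1))
    (h₃ : Curv2.IsGloballyGenerated S.X₃ ∧ Subsingleton (Coh.HH X (CohB1.tensorMod S.X₃ ω) 1)) :
    Curv2.IsGloballyGenerated S.X₂ ∧ Subsingleton (Coh.HH X (CohB1.tensorMod S.X₂ ω) 1) :=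
  ⟨gg_of_shortExact hdim hO S hS hc₁ h₁.1 h₃.1,
    subsingleton_H1_tensor_of_shortExact S hS h3 ω h₁.2 h₃.2⟩

include hdim hO in
/-- deformation ampleness passes along morphisms with torsion cokernel -/
theorem defAmple_of_cokernel_torsion {E₁ E₂ : X.Modules} (hc₁ : Coh.IsCoh E₁) (hc₂ : Coh.IsCoh E₂)
    (φ : E₁ ⟶ E₂) (htors : ∀ x ∈ CohB1.support (cokernel φ), IsClosed ({x} : Set X)) (ω : X.Modules)
    (h₁ : Curv2.IsGloballyGenerated E₁ ∧ Subsingleton (Coh.HH X (CohB1.tensorMod E₁ ω) 1)) :
    Curv2.IsGloballyGenerated E₂ ∧ Subsingleton (Coh.HH X (CohB1.tensorMod E₂ ω) 1) := by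
  have hcQ := Groth.Agent.Lib.Helper6.DevCore.isCoh_cokernel φ hc₁ hc₂
  have hclQ : ∀ A : Set X, A ⊆ CohB1.support (cokernel φ) → IsClosed A := fun A hA =>
    @Groth.Agent.Lib.Helper17.ZeroSupp.isClosed_of_subset_support _ (cokernel φ) _ hcQ.1 hcQ.2 htors A hA
  constructor
  · apply isGloballyGenerated_of_kills
    intro C π hπ
    have hH1 := subsingleton_H1_of_gg hdim hO hc₁ h₁.1
    have hf : φ ≫ π = 0 := comp_eq_zero_of_gg h₁.1 φ π hπ
    -- the image-cokernel sequence
    let S2 : ShortComplex X.Modules :=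
      ShortComplex.mk (Abelian.image.ι φ) (cokernel.π φ) (kernel.condition _)
    have hS2 : S2.ShortExact :=
      { exact := ShortComplex.exact_of_f_is_kernel _ (kernelIsKernel _)
        mono_f := by dsimp [S2]; infer_instance
        epi_g := by dsimp [S2]; infer_instance }
    have hI : Subsingleton (Coh.HH X (Abelian.image φ) 1) :=
      subsingleton_HH_of_epi (Abelian.factorThruImage φ) inferInstance 1 hH1
        (subsingleton_HH_add_two hdim _ 0)
    have hk : Kills (cokernel.desc φ π hf) := by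
      intro s
      obtain ⟨t, ht⟩ := exists_lift_section S2 hS2 hI s
      have ht' : t ≫ cokernel.π φ = s := ht
      rw [← ht', Category.assoc, cokernel.π_desc]
      exact hπ t
    haveI := isFlasque_of_subsets_closed (cokernel φ) hclQ
    have h0 := kills_eq_zero_of_gg (gg_of_isFlasque (cokernel φ)) _ hk
    rw [← cokernel.π_desc φ π hf, h0, comp_zero]
  · have hsurj := HHmap_surjective_of_cokernel ((DCoh.tensorBi.map φ).app ω) 0
      (subsingleton_HH_add_two hdim _ 0)
      (subsingleton_HH_of_subsets_closed _ (fun A hA =>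
        hclQ A (hA.trans (support_cokernel_tensor_subset φ ω))) 0)
    refine ⟨fun a b => ?_⟩
    obtain ⟨a', rfl⟩ := hsurj a
    obtain ⟨b', rfl⟩ := hsurj b
    rw [@Subsingleton.elim _ h₁.2 a' b']

theorem isCoh_tensorPow {E : X.Modules} (hc : Coh.IsCoh E) : ∀ n : ℕ, Coh.IsCoh (CohB1.tensorPow E n)
  | 0 => Groth.Agent.Lib.Helper6.DevRed.isCoh_structureModule
  | n + 1 => Groth.Agent.Lib.Helper6.K0Op.isCoh_tensorMod _ _ (isCoh_tensorPow hc n) hc

include hdim in
/-- deformation ampleness passes to tensor powers -/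
theorem defAmple_tensorPow {E : X.Modules} (hc : Coh.IsCoh E) (ω : X.Modules)
    (h₁ : Curv2.IsGloballyGenerated E ∧ Subsingleton (Coh.HH X (CohB1.tensorMod E ω) 1)) :
    ∀ n : ℕ, 1 ≤ n → Curv2.IsGloballyGenerated (CohB1.tensorPow E n) ∧
      Subsingleton (Coh.HH X (CohB1.tensorMod (CohB1.tensorPow E n) ω) 1) := by
  intro n hn
  induction n, hn using Nat.le_induction with
  | base =>
    constructor
    · exact isGloballyGenerated_of_iso (lam.app E).symm h₁.1
    · exact subsingleton_HH_of_iso ((DCoh.tensorBi.mapIso (lam.app E)).app ω) 1 h₁.2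
  | succ n hn ih =>
    constructor
    · exact gg_tensor (isCoh_tensorPow hc n) ih.1 h₁.1
    · exact subsingleton_HH_of_iso (Groth.Agent.Lib.Helper16.TA.assocIso (CohB1.tensorPow E n) E ω) 1
        (subsingleton_H1_tensor_of_gg hdim (isCoh_tensorPow hc n) ih.1 _ h₁.2)

end defAmple

end Groth.Agent.Lib.Helper8.GGKill
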