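import Groth.Agent.Lib.Helper8.ConstSect
import Mathlib.Algebra.Homology.DerivedCategory.Ext.ExactSequences
import Mathlib.Algebra.Category.Grp.ForgetCorepresentable

/-!
# Helper8: `H¹` of constant sheaves is left exact in the coefficient group (S13791)
-/

universe u

open CategoryTheory CategoryTheory.Limits Opposite

namespace Groth.Agent.Lib.Helper8.ConstH1

open CohSite

variable {C : Type u} [SmallCategory C] (J : GrothendieckTopology C)

/-- the constant sheaf functor -/
noncomputable abbrev cs : AddCommGrpCat.{u} ⥤ Sheaf J AddCommGrpCat.{u} :=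
  constantSheaf J AddCommGrpCat.{u}

instance : PreservesFiniteColimits (cs J) := by
  unfold cs constantSheaf
  infer_instance

instance : (cs J).PreservesZeroMorphisms := by
  unfold cs constantSheaf
  infer_instance

/-- the forgetful functor -/
abbrev U' : AddCommGrpCat.{u} ⥤ Type u := forget AddCommGrpCat.{u}

/-- the comparison isomorphism -/
noncomputable def ccc : cs J ⋙ sheafCompose J U' ≅ U' ⋙ constantSheaf J (Type u) :=
  constantCommuteCompose J U'

/-- a set-theoretic section of `g` induces a section of the map of underlying sheaves of sets -/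
noncomputable def sec {X Y : AddCommGrpCat.{u}} (g : X ⟶ Y) (σ : Y → X) :
    (sheafCompose J U').obj ((cs J).obj Y) ⟶ (sheafCompose J U').obj ((cs J).obj X) :=
  (ccc J).hom.app Y ≫ (constantSheaf J (Type u)).map (↾σ) ≫ (ccc J).inv.app X

lemma sec_comp {X Y : AddCommGrpCat.{u}} (g : X ⟶ Y) (σ : Y → X)
    (hσ : Function.RightInverse σ g) :
    sec J g σ ≫ (sheafCompose J U').map ((cs J).map g) = 𝟙 _ := by
  have h0 : (↾σ : U'.obj Y ⟶ U'.obj X) ≫ U'.map g = 𝟙 _ := by
    ext y
    exact hσ y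
  have nat := (ccc J).inv.naturality g
  dsimp only [Functor.comp_map] at nat
  unfold sec
  rw [Category.assoc, Category.assoc, ← nat, ← Category.assoc ((constantSheaf J (Type u)).map _),
    ← CategoryTheory.Functor.map_comp, h0, CategoryTheory.Functor.map_id, Category.id_comp,
    Iso.hom_inv_id_app]
  rfl

section Lift

variable {X Y : AddCommGrpCat.{u}} (g : X ⟶ Y) (σ : Y → X)

/-- the constant presheaf on `ℤ` -/
noncomputable abbrev cZ : Cᵒᵖ ⥤ AddCommGrpCat.{u} :=
  (Functor.const Cᵒᵖ).obj (AddCommGrpCat.of (ULift.{u} ℤ))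

variable (γ : cZ (C := C) ⟶ ((cs J).obj Y).obj)

/-- the lifted sections -/
noncomputable def bV (V : Cᵒᵖ) : ((cs J).obj X).obj.obj V :=
  (sec J g σ).hom.app V (γ.app V ⟨1⟩)

lemma bV_naturality {V V' : Cᵒᵖ} (h : V ⟶ V') :
    ((cs J).obj X).obj.map h (bV J g σ γ V) = bV J g σ γ V' := by
  have n1 := ConcreteCategory.congr_hom ((sec J g σ).hom.naturality h) (γ.app V ⟨1⟩)
  have n2 := ConcreteCategory.congr_hom (γ.naturality h) ⟨1⟩
  unfold bV
  refine Eq.trans n1.symm ?_
  change (sec J g σ).hom.app V' (((cs J).obj Y).obj.map h (γ.app V ⟨1⟩)) = _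
  congr 1
  exact n2.symm

/-- the lifted morphism of presheaves -/
noncomputable def β : cZ (C := C) ⟶ ((cs J).obj X).obj where
  app V := (AddCommGrpCat.uliftZMultiplesAddEquiv _).symm (bV J g σ γ V)
  naturality V V' h := by
    apply (AddCommGrpCat.uliftZMultiplesAddEquiv _).injective
    simp only [AddCommGrpCat.uliftZMultiplesAddEquiv_apply]
    change (AddCommGrpCat.uliftZMultiplesAddEquiv _)
        ((AddCommGrpCat.uliftZMultiplesAddEquiv _).symm (bV J g σ γ V')) =
      ((cs J).obj X).obj.map h ((AddCommGrpCat.uliftZMultiplesAddEquiv _)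
        ((AddCommGrpCat.uliftZMultiplesAddEquiv _).symm (bV J g σ γ V)))
    rw [AddEquiv.apply_symm_apply, AddEquiv.apply_symm_apply, bV_naturality]

lemma β_comp (hσ : Function.RightInverse σ g) :
    β J g σ γ ≫ ((cs J).map g).hom = γ := by
  ext V : 2
  apply (AddCommGrpCat.uliftZMultiplesAddEquiv _).injective
  change ((cs J).map g).hom.app V ((AddCommGrpCat.uliftZMultiplesAddEquiv _)
    ((AddCommGrpCat.uliftZMultiplesAddEquiv _).symm (bV J g σ γ V))) = γ.app V ⟨1⟩
  rw [AddEquiv.apply_symm_apply]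
  have h1 := congr_arg (fun f => f.hom.app V) (sec_comp J g σ hσ)
  exact ConcreteCategory.congr_hom h1 (γ.app V ⟨1⟩)

/-- the constant sheaf on `ℤ`, cleanly typed -/
noncomputable abbrev Zs : Sheaf J AddCommGrpCat.{u} :=
  (presheafToSheaf J AddCommGrpCat.{u}).obj (cZ (C := C))

lemma lift_exists' (hσ : Function.RightInverse σ g) (c : Zs J ⟶ (cs J).obj Y) :
    ∃ b : Zs J ⟶ (cs J).obj X, b ≫ (cs J).map g = c := by
  let adj := sheafificationAdjunction J AddCommGrpCat.{u}
  let γ : cZ (C := C) ⟶ ((cs J).obj Y).obj := adj.homEquiv _ _ c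
  refine ⟨(adj.homEquiv _ _).symm (β J g σ γ), ?_⟩
  apply (adj.homEquiv _ _).injective
  rw [Adjunction.homEquiv_naturality_right, Equiv.apply_symm_apply]
  exact β_comp J g σ γ hσ

lemma lift_exists (hσ : Function.RightInverse σ g)
    (c : (cs J).obj (AddCommGrpCat.of (ULift.{u} ℤ)) ⟶ (cs J).obj Y) :
    ∃ b : (cs J).obj (AddCommGrpCat.of (ULift.{u} ℤ)) ⟶ (cs J).obj X, b ≫ (cs J).map g = c :=
  lift_exists' J g σ hσ c

end Lift

open Abelian in
lemma ext_one_eq_zero_of_lift {𝒜 : Type*} [Category 𝒜] [Abelian 𝒜] [HasExt 𝒜]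
    {S : ShortComplex 𝒜} (hS : S.ShortExact) (Z : 𝒜)
    (hlift : ∀ c : Z ⟶ S.X₃, ∃ b : Z ⟶ S.X₂, b ≫ S.g = c) (x : Ext Z S.X₁ 1)
    (hx : x.comp (Ext.mk₀ S.f) (add_zero 1) = 0) : x = 0 := by
  obtain ⟨x₃, hx₃⟩ := Ext.covariant_sequence_exact₁ _ hS x hx (zero_add 1)
  obtain ⟨c, rfl⟩ := (Ext.mk₀_bijective _ _).surjective x₃
  obtain ⟨b, rfl⟩ := hlift c
  rw [← hx₃, ← Ext.mk₀_comp_mk₀_assoc, hS.comp_extClass, Ext.comp_zero]

open Abelian in
theorem main {A B : Type u} [AddCommGroup A] [AddCommGroup B] (f : A →+ B)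
    (hf : Function.Injective f) :
    Function.Injective
      (Sheaf.H.map ((constantSheaf J AddCommGrpCat.{u}).map (AddCommGrpCat.ofHom f)) 1) := by
  let f' : AddCommGrpCat.of A ⟶ AddCommGrpCat.of B := AddCommGrpCat.ofHom f
  haveI : Mono f' := (AddCommGrpCat.mono_iff_injective f').2 hf
  let S₀ : ShortComplex AddCommGrpCat.{u} :=
    ShortComplex.mk f' (cokernel.π f') (cokernel.condition f')
  have hS₀ : S₀.ShortExact :=
    { exact := ShortComplex.exact_cokernel f'
      mono_f := inferInstanceAs (Mono f')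
      epi_g := inferInstanceAs (Epi (cokernel.π f')) }
  have hS : (S₀.map (cs J)).ShortExact := hS₀.map_of_exact (cs J)
  have hsurj : Function.Surjective (cokernel.π f') :=
    (AddCommGrpCat.epi_iff_surjective _).1 inferInstance
  obtain ⟨σ, hσ⟩ := hsurj.hasRightInverse
  rw [injective_iff_map_eq_zero]
  intro x hx
  exact ext_one_eq_zero_of_lift hS _ (fun c => lift_exists J (cokernel.π f') σ hσ c) x hx

end Groth.Agent.Lib.Helper8.ConstH1
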