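import Groth.Agent.Lib.Helper8.KillHtpy
import Mathlib.Algebra.Homology.Double
import Mathlib.Algebra.Homology.HomotopyCategory.KInjective

/-!
# Helper8: K-injective with injective terms iff lifting property (S11125)
-/

universe v u

open CategoryTheory CategoryTheory.Limits ZeroObject HomologicalComplex

namespace Groth.Agent.Lib.Helper8.KInjLift

open CochainComplex CochainComplex.HomComplex

variable {A : Type u} [Category.{v} A] [Abelian A]

section Forward

variable (I : CochainComplex A ℤ) [I.IsKInjective] [∀ n : ℤ, Injective (I.X n)]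

theorem lifting (S : ShortComplex (CochainComplex A ℤ)) (hS : S.ShortExact)
    (hC : S.X₃.Acyclic) (φ : S.X₁ ⟶ I) : ∃ ψ : S.X₂ ⟶ I, S.f ≫ ψ = φ := by
  have hSn : ∀ n : ℤ, (S.map (HomologicalComplex.eval A (ComplexShape.up ℤ) n)).ShortExact :=
    fun n => (HomologicalComplex.shortExact_iff_degreewise_shortExact S).1 hS n
  have hmono : ∀ n : ℤ, Mono (S.f.f n) := fun n => (hSn n).mono_f
  have hepi : ∀ n : ℤ, Epi (S.g.f n) := fun n => (hSn n).epi_g
  let ψ₀ : Cochain S.X₂ I 0 :=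
    Cochain.ofHoms (fun n => Injective.factorThru (φ.f n) (S.f.f n))
  have hψ₀ : (Cochain.ofHom S.f).comp ψ₀ (zero_add 0) = Cochain.ofHom φ := by
    ext p
    simp [ψ₀, Injective.comp_factorThru]
  let z : Cochain S.X₂ I 1 := δ 0 1 ψ₀
  have hz : (Cochain.ofHom S.f).comp z (zero_add 1) = 0 := by
    rw [← δ_ofHom_comp, hψ₀, δ_ofHom]
  have hz' : ∀ (p q : ℤ) (hpq : p + 1 = q), S.f.f p ≫ z.v p q hpq = 0 := by
    intro p q hpq
    have := Cochain.congr_v hz p q hpq
    simpa using this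
  let γ : Cochain S.X₃ I 1 := Cochain.mk (fun p q hpq =>
    haveI := (hSn p).epi_g
    (hSn p).exact.desc (z.v p q hpq) (hz' p q hpq))
  have hγ : (Cochain.ofHom S.g).comp γ (zero_add 1) = z := by
    ext p q hpq
    haveI := (hSn p).epi_g
    simp only [Cochain.zero_cochain_comp_v, Cochain.ofHom_v, γ, Cochain.mk_v]
    exact (hSn p).exact.g_desc (z.v p q hpq) (hz' p q hpq)
  have hδγ : δ 1 2 γ = 0 := by
    have h1 : (Cochain.ofHom S.g).comp (δ 1 2 γ) (zero_add 2) = 0 := by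
      rw [← δ_ofHom_comp, hγ, δ_δ]
    ext p q hpq
    have h2 := Cochain.congr_v h1 p q hpq
    simp only [Cochain.zero_cochain_comp_v, Cochain.ofHom_v, Cochain.zero_v] at h2
    haveI := hepi p
    rw [← cancel_epi (S.g.f p), h2, Cochain.zero_v, comp_zero]
  obtain ⟨α, hα⟩ := IsKInjective.eq_δ_of_cocycle (Cocycle.mk γ 2 (by simp) hδγ) hC 0 (zero_add 1)
  have hα' : δ 0 1 α = γ := hα
  let c : Cocycle S.X₂ I 0 :=
    Cocycle.mk (ψ₀ - (Cochain.ofHom S.g).comp α (zero_add 0)) 1 (zero_add 1)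
      (by rw [δ_sub, δ_ofHom_comp, hα', hγ, sub_self])
  refine ⟨Cocycle.homOf c, ?_⟩
  apply Cochain.ofHom_injective
  rw [Cochain.ofHom_comp, Cocycle.cochain_ofHom_homOf_eq_coe]
  change (Cochain.ofHom S.f).comp (ψ₀ - (Cochain.ofHom S.g).comp α (zero_add 0)) (zero_add 0) = _
  rw [Cochain.comp_sub, hψ₀, ← Cochain.comp_assoc_of_first_is_zero_cochain, ← Cochain.ofHom_comp,
    S.zero, Cochain.ofHom_zero, Cochain.zero_comp, sub_zero]

end Forward

section Disk

variable (n : ℤ)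

/-- the disk complex on `X` in degrees `n`, `n+1` -/
noncomputable abbrev D (X : A) : CochainComplex A ℤ :=
  HomologicalComplex.double (𝟙 X) (show (ComplexShape.up ℤ).Rel n (n + 1) from rfl)

lemma hne : n ≠ n + 1 := by omega

noncomputable abbrev i₀ (X : A) : (D n X).X n ≅ X :=
  HomologicalComplex.doubleXIso₀ (𝟙 X) (show (ComplexShape.up ℤ).Rel n (n + 1) from rfl)

noncomputable abbrev i₁ (X : A) : (D n X).X (n + 1) ≅ X :=
  HomologicalComplex.doubleXIso₁ (𝟙 X) (show (ComplexShape.up ℤ).Rel n (n + 1) from rfl) (hne n)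

lemma D_d (X : A) : (D n X).d n (n + 1) = (i₀ n X).hom ≫ (i₁ n X).inv := by
  rw [HomologicalComplex.double_d _ _ (hne n), Category.id_comp]

/-- maps out of a disk -/
noncomputable def fromD {X : A} {K : CochainComplex A ℤ} (a : X ⟶ K.X n) : D n X ⟶ K :=
  HomologicalComplex.mkHomFromDouble _ (hne n) a (a ≫ K.d n (n + 1)) (by simp) (by simp)

@[simp]
lemma fromD_f₀ {X : A} {K : CochainComplex A ℤ} (a : X ⟶ K.X n) :
    (fromD n a).f n = (i₀ n X).hom ≫ a :=
  HomologicalComplex.mkHomFromDouble_f₀ ..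

@[simp]
lemma fromD_f₁ {X : A} {K : CochainComplex A ℤ} (a : X ⟶ K.X n) :
    (fromD n a).f (n + 1) = (i₁ n X).hom ≫ a ≫ K.d n (n + 1) :=
  HomologicalComplex.mkHomFromDouble_f₁ ..

/-- functoriality of disks -/
noncomputable def dmap {X Y : A} (g : X ⟶ Y) : D n X ⟶ D n Y :=
  fromD n (g ≫ (i₀ n Y).inv)

@[simp]
lemma dmap_f₀ {X Y : A} (g : X ⟶ Y) :
    (dmap n g).f n = (i₀ n X).hom ≫ g ≫ (i₀ n Y).inv := by
  simp [dmap]

@[simp]
lemma dmap_f₁ {X Y : A} (g : X ⟶ Y) :
    (dmap n g).f (n + 1) = (i₁ n X).hom ≫ g ≫ (i₁ n Y).inv := by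
  simp [dmap, D_d]

lemma dmap_comp {X Y Z : A} (g : X ⟶ Y) (g' : Y ⟶ Z) :
    dmap n g ≫ dmap n g' = dmap n (g ≫ g') := by
  apply HomologicalComplex.from_double_hom_ext
  · simp
  · simp

lemma dmap_zero {X Y : A} : dmap n (0 : X ⟶ Y) = 0 := by
  apply HomologicalComplex.from_double_hom_ext
  · simp
  · simp

lemma acyclic_D (X : A) : (D n X).Acyclic := by
  intro p
  by_cases h0 : p = n
  · subst h0
    rw [HomologicalComplex.exactAt_iff' _ (p - 1) p (p + 1) (by simp) (by simp)]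
    have hf : ((D p X).sc' (p - 1) p (p + 1)).f = 0 :=
      HomologicalComplex.double_d_eq_zero₁ (𝟙 X)
        (show (ComplexShape.up ℤ).Rel p (p + 1) from rfl) (p - 1) p (hne p)
    rw [ShortComplex.exact_iff_mono _ hf]
    change Mono ((D p X).d p (p + 1))
    rw [D_d]
    infer_instance
  · by_cases h1 : p = n + 1
    · subst h1
      rw [HomologicalComplex.exactAt_iff' _ n (n + 1) (n + 1 + 1) (by simp) (by simp)]
      have hg : ((D n X).sc' n (n + 1) (n + 1 + 1)).g = 0 :=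
        HomologicalComplex.double_d_eq_zero₀ (𝟙 X)
        (show (ComplexShape.up ℤ).Rel n (n + 1) from rfl) (n + 1) (n + 1 + 1) (hne n).symm
      rw [ShortComplex.exact_iff_epi _ hg]
      change Epi ((D n X).d n (n + 1))
      rw [D_d]
      infer_instance
    · exact ShortComplex.exact_of_isZero_X₂ _
        (HomologicalComplex.isZero_double_X (𝟙 X)
          (show (ComplexShape.up ℤ).Rel n (n + 1) from rfl) p h0 h1)

/-- the short complex of disks associated to a short complex -/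
noncomputable def DS (T : ShortComplex A) : ShortComplex (CochainComplex A ℤ) :=
  ShortComplex.mk (dmap n T.f) (dmap n T.g) (by rw [dmap_comp, T.zero, dmap_zero])

lemma DS_shortExact (T : ShortComplex A) (hT : T.ShortExact) : (DS n T).ShortExact := by
  rw [HomologicalComplex.shortExact_iff_degreewise_shortExact]
  intro p
  by_cases h0 : p = n
  · subst h0
    refine ShortComplex.shortExact_of_iso (ShortComplex.isoMk (i₀ p T.X₁) (i₀ p T.X₂)
      (i₀ p T.X₃) ?_ ?_).symm hT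
    · change (i₀ p T.X₁).hom ≫ T.f = (dmap p T.f).f p ≫ (i₀ p T.X₂).hom
      simp
    · change (i₀ p T.X₂).hom ≫ T.g = (dmap p T.g).f p ≫ (i₀ p T.X₃).hom
      simp
  · by_cases h1 : p = n + 1
    · subst h1
      refine ShortComplex.shortExact_of_iso (ShortComplex.isoMk (i₁ n T.X₁) (i₁ n T.X₂)
        (i₁ n T.X₃) ?_ ?_).symm hT
      · change (i₁ n T.X₁).hom ≫ T.f = (dmap n T.f).f (n + 1) ≫ (i₁ n T.X₂).hom
        simp
      · change (i₁ n T.X₂).hom ≫ T.g = (dmap n T.g).f (n + 1) ≫ (i₁ n T.X₃).hom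
        simp
    · have hz : ∀ X : A, IsZero ((D n X).X p) := fun X =>
        HomologicalComplex.isZero_double_X (𝟙 X)
          (show (ComplexShape.up ℤ).Rel n (n + 1) from rfl) p h0 h1
      exact
        { exact := ShortComplex.exact_of_isZero_X₂ _ (hz _)
          mono_f := ⟨fun _ _ _ => (hz _).eq_of_tgt _ _⟩
          epi_g := ⟨fun _ _ _ => (hz _).eq_of_src _ _⟩ }

end Disk

section Backward

variable (I : CochainComplex A ℤ)
  (hL : ∀ (S : ShortComplex (CochainComplex A ℤ)), S.ShortExact → S.X₃.Acyclic →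
        ∀ φ : S.X₁ ⟶ I, ∃ ψ : S.X₂ ⟶ I, S.f ≫ ψ = φ)

include hL

lemma lift_cone {K : CochainComplex A ℤ} (f : K ⟶ I) (hK : K.Acyclic) :
    ∃ ψ : mappingCone (𝟙 K) ⟶ I, mappingCone.inr (𝟙 K) ≫ ψ = f :=
  hL (KillHtpy.coneSC (𝟙 K)) (KillHtpy.coneSC_shortExact _)
    (KillHtpy.acyclic_shift_one hK) f

theorem isKInjective : I.IsKInjective := by
  refine ⟨fun {K} f hK => ?_⟩
  obtain ⟨ψ, hψ⟩ := lift_cone I hL f hK
  let α : Cochain K I (-1) := (mappingCone.inl (𝟙 K)).comp (Cochain.ofHom ψ) (add_zero (-1))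
  have hα : δ (-1) 0 α = Cochain.ofHom f := by
    change δ (-1) 0 ((mappingCone.inl (𝟙 K)).comp (Cochain.ofHom ψ) (add_zero (-1))) = _
    rw [δ_comp_ofHom, mappingCone.δ_inl, ← Cochain.ofHom_comp, Category.id_comp, hψ]
  exact ⟨(Cochain.equivHomotopy f 0).symm ⟨α, by simp [hα]⟩⟩


lemma lift_disk (n : ℤ) {X Y : A} (a : X ⟶ I.X n) (i : X ⟶ Y) [Mono i] :
    ∃ ψ : D n Y ⟶ I, dmap n i ≫ ψ = fromD n a := by
  let T : ShortComplex A := ShortComplex.mk i (cokernel.π i) (cokernel.condition i)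
  have hT : T.ShortExact :=
    { exact := ShortComplex.exact_cokernel i
      mono_f := inferInstanceAs (Mono i)
      epi_g := inferInstanceAs (Epi (cokernel.π i)) }
  exact hL (DS n T) (DS_shortExact n T hT) (acyclic_D n _) (fromD n a)

theorem injective_X (n : ℤ) : Injective (I.X n) := by
  refine ⟨fun {X Y} a i _ => ?_⟩
  obtain ⟨ψ, hψ'⟩ := lift_disk I hL n a i
  refine ⟨(i₀ n Y).inv ≫ ψ.f n, ?_⟩
  have := HomologicalComplex.congr_hom hψ' n
  rw [HomologicalComplex.comp_f, dmap_f₀, fromD_f₀, Category.assoc, Category.assoc] at this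
  exact (cancel_epi (i₀ n X).hom).1 this

end Backward

end Groth.Agent.Lib.Helper8.KInjLift
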