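import Mathlib
import Groth.Prelude.Def_DRing2
import Groth.Agent.Lib.Helper8.Perf2
import Groth.Agent.Lib.Helper8.Stupid1
import Groth.Agent.Lib.Helper8.Stupid2

/-!
# Helper8 — Perf3: perfectness of bounded complexes with perfect terms / perfect cohomology
(S7029, S7030); two-out-of-three for pseudo-coherent objects (S7017).
-/

open CategoryTheory CategoryTheory.Limits DerivedCategory CategoryTheory.Pretriangulated

namespace Groth.Agent.Lib.Helper8.Perf

open Groth.Agent.Lib.Helper8.DRing2 Groth.Agent.Lib.Helper8.PAmp Groth.Agent.Lib.Helper8.Stupid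
  Groth.Agent.Lib.Helper8.DTrunc

open ZeroObject

universe w v u

section General

variable {A : Type u} [Category.{v} A] [Abelian A] [HasDerivedCategory.{w} A]

/-- `K` is isomorphic to a bounded above complex with terms in the class `Pc`. -/
def HasBddAboveRep (Pc : A → Prop) (K : DerivedCategory A) : Prop :=
  ∃ (P : CochainComplex A ℤ) (b : ℤ), (∀ i : ℤ, b < i → IsZero (P.X i)) ∧
    (∀ i : ℤ, Pc (P.X i)) ∧ Nonempty (Q.obj P ≅ K)

variable {Pc : A → Prop}

lemma HasBddAboveRep.shift {K : DerivedCategory A} (h : HasBddAboveRep Pc K) (m : ℤ) :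
    HasBddAboveRep Pc (K⟦m⟧) := by
  obtain ⟨P, b, h1, h2, ⟨e⟩⟩ := h
  refine ⟨P⟦m⟧, b - m, ?_, ?_, ⟨(Q.commShiftIso m).app P ≪≫ (shiftFunctor _ m).mapIso e⟩⟩
  · intro i hi
    change IsZero (P.X (i + m))
    exact h1 _ (by omega)
  · intro i
    change Pc (P.X (i + m))
    exact h2 _

/-- (Glue) -/
theorem HasBddAboveRep.of_triangle (hPc_proj : ∀ X, Pc X → Projective X)
    (hPc_biprod : ∀ X Y, Pc X → Pc Y → Pc (X ⊞ Y)) (hPc_iso : ∀ X Y, (X ≅ Y) → Pc X → Pc Y)
    (T : Triangle (DerivedCategory A))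
    (hT : T ∈ distTriang _) (hX : HasBddAboveRep Pc T.obj₁) (hC : HasBddAboveRep Pc T.obj₃) :
    HasBddAboveRep Pc T.obj₂ := by
  obtain ⟨P₁, b₁, h11, h12, ⟨e₁⟩⟩ := hX
  obtain ⟨P₂, b₂, h21, h22, ⟨e₂⟩⟩ := hC
  have : P₂.IsKProjective := isKProjective_of_hasProjAmp_data P₂ b₂ h21
    (fun i => hPc_proj _ (h22 i))
  let ε : Q.obj (P₁⟦(1 : ℤ)⟧) ≅ T.obj₁⟦(1 : ℤ)⟧ :=
    (Q.commShiftIso (1 : ℤ)).app P₁ ≪≫ (shiftFunctor _ (1 : ℤ)).mapIso e₁
  obtain ⟨f, hf⟩ := exists_Q_map_of_isKProjective P₂ (P₁⟦(1 : ℤ)⟧) (e₂.hom ≫ T.mor₃ ≫ ε.inv)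
  have hT2 := rot_of_distTriang _ (rot_of_distTriang _ hT)
  have hT3 := DerivedCategory.mappingCone_triangle_distinguished f
  have eT := isoTriangleOfIso₁₂ _ _ hT3 hT2 e₂ ε (by
    change Q.map f ≫ ε.hom = e₂.hom ≫ T.mor₃
    rw [← hf, Category.assoc, Category.assoc, Iso.inv_hom_id, Category.comp_id])
  have e3 : Q.obj (CochainComplex.mappingCone f) ≅ T.obj₂⟦(1 : ℤ)⟧ := Triangle.π₃.mapIso eT
  let E : CochainComplex A ℤ := (CochainComplex.mappingCone f)⟦(-1 : ℤ)⟧
  have e4 : Q.obj E ≅ T.obj₂ :=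
    (Q.commShiftIso (-1 : ℤ)).app _ ≪≫ (shiftFunctor _ (-1 : ℤ)).mapIso e3 ≪≫
      (shiftFunctorCompIsoId (DerivedCategory A) (1 : ℤ) (-1) (by norm_num)).app T.obj₂
  refine ⟨E, max b₁ b₂, ?_, ?_, ⟨e4⟩⟩
  · intro i hi
    change IsZero ((CochainComplex.mappingCone f).X (i + (-1)))
    have hi' : b₁ < i ∧ b₂ < i := max_lt_iff.1 hi
    refine isZero_mappingCone_X f _ (h21 _ (by omega)) ?_
    change IsZero (P₁.X (i + (-1) + 1))
    exact h11 _ (by omega)
  · intro i
    change Pc ((CochainComplex.mappingCone f).X (i + (-1)))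
    refine hPc_iso _ _ (HomologicalComplex.homotopyCofiber.XIsoBiprod f (i + (-1)) (i + (-1) + 1)
      (by simp)).symm (hPc_biprod _ _ (h22 _) ?_)
    change Pc (P₁.X (i + (-1) + 1))
    exact h12 _

/-- two out of three. -/
theorem HasBddAboveRep.two_of_three (hPc_proj : ∀ X, Pc X → Projective X)
    (hPc_biprod : ∀ X Y, Pc X → Pc Y → Pc (X ⊞ Y)) (hPc_iso : ∀ X Y, (X ≅ Y) → Pc X → Pc Y)
    (T : Triangle (DerivedCategory A)) (hT : T ∈ distTriang _) :
    (HasBddAboveRep Pc T.obj₁ → HasBddAboveRep Pc T.obj₂ → HasBddAboveRep Pc T.obj₃) ∧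
      (HasBddAboveRep Pc T.obj₁ → HasBddAboveRep Pc T.obj₃ → HasBddAboveRep Pc T.obj₂) ∧
      (HasBddAboveRep Pc T.obj₂ → HasBddAboveRep Pc T.obj₃ → HasBddAboveRep Pc T.obj₁) := by
  refine ⟨fun h1 h2 => ?_, fun h1 h3 => HasBddAboveRep.of_triangle hPc_proj hPc_biprod hPc_iso T hT h1 h3,
    fun h2 h3 => ?_⟩
  · exact HasBddAboveRep.of_triangle hPc_proj hPc_biprod hPc_iso _ (rot_of_distTriang _ hT) h2
      (h1.shift 1)
  · exact HasBddAboveRep.of_triangle hPc_proj hPc_biprod hPc_iso _ (inv_rot_of_distTriang _ hT)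
      (h3.shift (-1)) h2

/-- `HasBddRep` as an object property. -/
def bddRep (Pc : A → Prop) : ObjectProperty (DerivedCategory A) := fun K => HasBddRep Pc K

instance : (bddRep (A := A) Pc).IsClosedUnderIsomorphisms where
  of_iso e h := HasBddRep.of_iso h e

lemma bddRep_of_isZero (hPc0 : ∀ X : A, IsZero X → Pc X) (Z : DerivedCategory A) (hZ : IsZero Z) :
    bddRep Pc Z :=
  ⟨0, 0, 0, fun i _ => (HomologicalComplex.eval A (ComplexShape.up ℤ) i).map_isZero (isZero_zero _),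
    fun i => hPc0 _ ((HomologicalComplex.eval A (ComplexShape.up ℤ) i).map_isZero (isZero_zero _)),
    ⟨(Functor.map_isZero Q (isZero_zero _)).iso hZ⟩⟩

lemma bddRep_single (M : A) (h : bddRep Pc ((singleFunctor A 0).obj M)) (i : ℤ) :
    bddRep Pc ((singleFunctor A i).obj M) :=
  (bddRep Pc).prop_of_iso (((singleFunctors A).shiftIso (-i) i 0 (by omega)).app M)
    (HasBddRep.shift h (-i))

theorem bddRep_of_homology (hPc_proj : ∀ X, Pc X → Projective X)
    (hPc_biprod : ∀ X Y, Pc X → Pc Y → Pc (X ⊞ Y)) (hPc_iso : ∀ X Y, (X ≅ Y) → Pc X → Pc Y)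
    (hPc0 : ∀ X : A, IsZero X → Pc X)
    (K : DerivedCategory A) (a b : ℤ)
    (hK : ∀ i : ℤ, i < a ∨ b < i → IsZero ((homologyFunctor A i).obj K))
    (h : ∀ i : ℤ, bddRep Pc ((singleFunctor A 0).obj ((homologyFunctor A i).obj K))) :
    bddRep Pc K := by
  have hLE : K.IsLE b := (isLE_iff K b).2 (fun i hi => hK i (Or.inr hi))
  have hGE : K.IsGE a := (isGE_iff K a).2 (fun i hi => hK i (Or.inl hi))
  have hext : ∀ T : Triangle (DerivedCategory A), T ∈ distTriang _ → bddRep Pc T.obj₁ →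
      bddRep Pc T.obj₃ → bddRep Pc T.obj₂ :=
    fun T hT h1 h3 => HasBddRep.of_triangle hPc_proj hPc_biprod hPc_iso T hT h1 h3
  by_cases hab : a ≤ b + 1
  · obtain ⟨n, hn⟩ : ∃ n : ℕ, (n : ℤ) = b + 1 - a := ⟨(b + 1 - a).toNat, Int.toNat_of_nonneg (by omega)⟩
    have hGE' : K.IsGE (b + 1 - n) := by
      have : b + 1 - (n : ℤ) = a := by omega
      rw [this]; exact hGE
    exact induction_cohomology (bddRep Pc) hext (bddRep_of_isZero hPc0) n K b hLE hGE'
      (fun i => bddRep_single _ (h i) i)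
  · exact bddRep_of_isZero hPc0 _ (tt.isZero K b a (by omega))

theorem bddRep_of_terms (hPc_proj : ∀ X, Pc X → Projective X)
    (hPc_biprod : ∀ X Y, Pc X → Pc Y → Pc (X ⊞ Y)) (hPc_iso : ∀ X Y, (X ≅ Y) → Pc X → Pc Y)
    (hPc0 : ∀ X : A, IsZero X → Pc X)
    (K : CochainComplex A ℤ) (a b : ℤ)
    (hK : ∀ i : ℤ, i < a ∨ b < i → IsZero (K.X i))
    (h : ∀ i : ℤ, bddRep Pc ((singleFunctor A 0).obj (K.X i))) : bddRep Pc (Q.obj K) := by
  have hext : ∀ T : Triangle (DerivedCategory A), T ∈ distTriang _ → bddRep Pc T.obj₁ →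
      bddRep Pc T.obj₃ → bddRep Pc T.obj₂ :=
    fun T hT h1 h3 => HasBddRep.of_triangle hPc_proj hPc_biprod hPc_iso T hT h1 h3
  refine induction_bounded (bddRep Pc) hext (bddRep_of_isZero hPc0) (b + 1 - a).toNat K a ?_
    (fun i => bddRep_single _ (h i) i)
  intro i hi
  refine hK i ?_
  rcases hi with hi | hi
  · exact Or.inl hi
  · by_cases hab : a ≤ b + 1
    · rw [Int.toNat_of_nonneg (by omega)] at hi
      exact Or.inr (by omega)
    · rw [Int.toNat_of_nonpos (by omega)] at hi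
      exact Or.inr (by omega)

end General

section Ring

attribute [local instance] HasDerivedCategory.standard

variable {R : Type u} [CommRing R]

lemma finProj_of_isZero (X : ModuleCat.{u} R) (hX : IsZero X) : FinProj X := by
  have : Subsingleton X := ModuleCat.subsingleton_of_isZero hX
  exact ⟨inferInstance, inferInstance⟩

/-- S7029 -/
theorem isPerfect_of_bounded_termwise_perfectModule (K : DRing.Cx R)
    (a b : ℤ) (hab : DRing.VanishesOutside K a b) (hK : ∀ i : ℤ, DRing.IsPerfectModule R (K.X i)) :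
    DRing.IsPerfect R (DRing.toD K) := by
  rw [isPerfect_iff]
  exact bddRep_of_terms (fun X h => (IsProjective.iff_projective _).1 h.2) finProj_biprod finProj_iso
    finProj_of_isZero K a b hab (fun i => (isPerfect_iff _).1 (hK i))

/-- S7030 -/
theorem isPerfect_of_bounded_perfect_homology (K : Dual.D R)
    (hb : ∃ a b : ℤ, ∀ i : ℤ, (i < a ∨ b < i) → Subsingleton (Dual.HD R K i))
    (hK : ∀ i : ℤ, DRing.IsPerfectModule R (Dual.HD R K i)) : DRing.IsPerfect R K := by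
  obtain ⟨a, b, hb⟩ := hb
  rw [isPerfect_iff]
  refine bddRep_of_homology (fun X h => (IsProjective.iff_projective _).1 h.2) finProj_biprod
    finProj_iso finProj_of_isZero K a b (fun i hi => ?_) (fun i => (isPerfect_iff _).1 (hK i))
  have := hb i hi
  exact ModuleCat.isZero_of_subsingleton _

/-- finite free modules -/
def FinFree (M : ModuleCat.{u} R) : Prop := Module.Finite R M ∧ Module.Free R M

lemma isPseudoCoherent'_iff (K : Dual.D R) :
    DRing.IsPseudoCoherent' R K ↔ HasBddAboveRep (FinFree (R := R)) K := by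
  constructor
  · rintro ⟨E, b, h1, h2, h3⟩
    exact ⟨E, b, h1, h2, h3⟩
  · rintro ⟨E, b, h1, h2, h3⟩
    exact ⟨E, b, h1, h2, h3⟩

lemma finFree_iso (X Y : ModuleCat.{u} R) (e : X ≅ Y) (h : FinFree X) : FinFree Y := by
  obtain ⟨h1, h2⟩ := h
  exact ⟨Module.Finite.equiv e.toLinearEquiv, Module.Free.of_equiv e.toLinearEquiv⟩

lemma finFree_biprod (X Y : ModuleCat.{u} R) (hX : FinFree X) (hY : FinFree Y) :
    FinFree (X ⊞ Y) := by
  obtain ⟨h1, h2⟩ := hX
  obtain ⟨h3, h4⟩ := hY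
  refine finFree_iso _ _ (ModuleCat.biprodIsoProd X Y).symm ?_
  exact ⟨(inferInstance : Module.Finite R (X × Y)), (inferInstance : Module.Free R (X × Y))⟩

/-- S7017 -/
theorem isPseudoCoherent'_two_of_three (T : Triangle (Dual.D R)) (hT : T ∈ distinguishedTriangles) :
    (DRing.IsPseudoCoherent' R T.obj₁ → DRing.IsPseudoCoherent' R T.obj₂ →
        DRing.IsPseudoCoherent' R T.obj₃) ∧
      (DRing.IsPseudoCoherent' R T.obj₁ → DRing.IsPseudoCoherent' R T.obj₃ →
        DRing.IsPseudoCoherent' R T.obj₂) ∧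
      (DRing.IsPseudoCoherent' R T.obj₂ → DRing.IsPseudoCoherent' R T.obj₃ →
        DRing.IsPseudoCoherent' R T.obj₁) := by
  simp only [isPseudoCoherent'_iff]
  exact HasBddAboveRep.two_of_three
    (fun X h => (IsProjective.iff_projective _).1 (by
      have := h.2
      exact Module.Projective.of_free))
    finFree_biprod finFree_iso T hT

end Ring

end Groth.Agent.Lib.Helper8.Perf
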