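import Mathlib
import Groth.Agent.Lib.Helper8.EFB13

/-! # Helper8 — EFB14: descent of dualizing complexes along a finite jointly faithfully flat family of flat algebras; the faithfully flat case -/

set_option autoImplicit false

universe u

open CategoryTheory CategoryTheory.Limits DerivedCategory TensorProduct CategoryTheory.Pretriangulated

attribute [local instance] HasDerivedCategory.standard

namespace Groth.Agent.Lib.Helper8.EFB

open Groth.Agent.Lib.Helper16.FlatBC Groth.Agent.Lib.Helper8.EBC

/-- a family of `A`-algebras is "jointly faithfully flat" in the sense needed for descent of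
dualizing complexes: vanishing, bijectivity and finiteness can be tested after tensoring with all
members of the family -/
structure JointlyFF (A : Type u) [CommRing A] {ι : Type} (B : ι → Type u)
    [∀ i, CommRing (B i)] [∀ i, Algebra A (B i)] : Prop where
  sub1 : ∀ (H : Type (u + 1)) [AddCommGroup H] [Module A H],
    (∀ i, Subsingleton (B i ⊗[A] H)) → Subsingleton H
  bij1 : ∀ (H : Type (u + 1)) [AddCommGroup H] [Module A H] (v : A →ₗ[A] H),
    (∀ i, Function.Bijective (v.lTensor (B i))) → Function.Bijective v
  sub0 : ∀ (N : Type u) [AddCommGroup N] [Module A N],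
    (∀ i, Subsingleton (B i ⊗[A] N)) → Subsingleton N
  fin0 : ∀ (N : Type u) [AddCommGroup N] [Module A N],
    (∀ i, Module.Finite (B i) (B i ⊗[A] N)) → Module.Finite A N

variable {A : Type u} [CommRing A]

/-- descent of dualizing complexes along a finite jointly faithfully flat family -/
theorem isDualizing_of_jointlyFF [IsNoetherianRing A] {ι : Type} [Finite ι] (B : ι → Type u)
    [∀ i, CommRing (B i)] [∀ i, Algebra A (B i)] [∀ i, Module.Flat A (B i)]
    (hB : JointlyFF A B) (K : Dual.D A)
    (h : ∀ i, Dual.IsDualizing (B i) ((ε (algebraMap A (B i))).obj K)) :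
    Dual.IsDualizing A K := by
  choose a b hab using fun i => (h i).finite_injective_dimension
  obtain ⟨a0, ha0⟩ := Set.finite_range a |>.bddBelow
  obtain ⟨b0, hb0⟩ := Set.finite_range b |>.bddAbove
  have ha : ∀ i, a0 ≤ a i := fun i => ha0 (Set.mem_range_self i)
  have hb' : ∀ i, b i ≤ b0 := fun i => hb0 (Set.mem_range_self i)
  -- cohomology
  have hbdd : ∀ j : ℤ, (j < a0 ∨ b0 < j) → Subsingleton (Dual.HD A K j) := by
    intro j hj
    apply hB.sub0
    intro i
    obtain ⟨e⟩ := nonempty_HD_ε_equiv (B := B i) K j
    haveI := hbdd_of_hinj _ (a i) (b i) (hab i) j (by have := ha i; have := hb' i; omega)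
    exact e.symm.toEquiv.subsingleton
  have hfin : ∀ j : ℤ, Module.Finite A (Dual.HD A K j) := by
    intro j
    apply hB.fin0
    intro i
    obtain ⟨e⟩ := nonempty_HD_ε_equiv (B := B i) K j
    haveI := (h i).finite_cohomology j
    exact Module.Finite.equiv e
  have hb : ∃ b : ℤ, ∀ i : ℤ, b < i → Subsingleton (Dual.HD A K i) :=
    ⟨b0, fun i hi => hbdd i (Or.inr hi)⟩
  have hGE : K.IsGE a0 := isGE_of_subsingleton K a0 (fun i hi => hbdd i (Or.inl hi))
  refine ⟨inferInstance, ⟨a0, b0, ?_⟩, hfin, ?_, ?_⟩
  · apply ((IAmp.injectiveAmplitude_tfae K a0 b0).out 2 1).1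
    intro I j hj
    apply hB.sub1
    intro i
    obtain ⟨Θ⟩ := nonempty_bcEquiv_module (B := B i) (A ⧸ I) K ⟨a0, hGE⟩ j
    haveI := hab i (B i ⊗[A] (A ⧸ I)) j (by have := ha i; have := hb' i; omega)
    exact Θ.subsingleton
  · let v : A →ₗ[A] (K ⟶ K) := LinearMap.toSpanSingleton A (K ⟶ K) (𝟙 K)
    change Function.Bijective v
    apply hB.bij1
    intro i
    obtain ⟨Θ, hΘ⟩ := exists_bcEquiv (B := B i) K K a0 hGE
      (isPseudoCoherent_of_noeth K hb hfin _)
    have key : ∀ x : B i,
        Θ (v.lTensor (B i) ((TensorProduct.rid A (B i)).symm x)) =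
        x • 𝟙 ((ε (algebraMap A (B i))).obj K) := by
      intro x
      rw [TensorProduct.rid_symm_apply, LinearMap.lTensor_tmul]
      have : v 1 = 𝟙 K := by
        change (1 : A) • 𝟙 K = 𝟙 K
        rw [one_smul]
      rw [this, hΘ, CategoryTheory.Functor.map_id]
    have h1 : Function.Bijective (Θ ∘ (v.lTensor (B i)) ∘
        (TensorProduct.rid A (B i)).symm) := by
      convert (h i).toEnd_bijective using 1
      funext x
      exact key x
    have h2 := (Function.Bijective.of_comp_iff' Θ.bijective _).1 h1
    exact (Function.Bijective.of_comp_iff _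
      (TensorProduct.rid A (B i)).symm.bijective).1 h2
  · intro j hj
    apply hB.sub1
    intro i
    obtain ⟨Θ, -⟩ := exists_bcEquiv_shift (B := B i) K K hb hfin ⟨a0, hGE⟩ j
    haveI := (h i).ext_self_subsingleton j hj
    exact Θ.toEquiv.subsingleton

/-- a faithfully flat algebra is a jointly faithfully flat family (indexed by `Unit`) -/
theorem jointlyFF_of_faithfullyFlat (B : Type u) [CommRing B] [Algebra A B]
    [Module.FaithfullyFlat A B] : JointlyFF A (fun _ : Unit => B) where
  sub1 H _ _ hH := (Module.FaithfullyFlat.subsingleton_tensorProduct_iff_right A B).1 (hH ())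
  bij1 H _ _ v hv := (Module.FaithfullyFlat.lTensor_bijective_iff_bijective A B v).1 (hv ())
  sub0 N _ _ hN := (Module.FaithfullyFlat.subsingleton_tensorProduct_iff_right A B).1 (hN ())
  fin0 N _ _ hN := by
    haveI := hN ()
    exact Module.Finite.of_finite_tensorProduct_of_faithfullyFlat B

end Groth.Agent.Lib.Helper8.EFB
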