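import Mathlib
import Groth.Agent.Lib.Helper8.EFB14

/-! # Helper8 — EFB15: a finite cover by principal localizations is a jointly faithfully flat family (for Zariski descent of dualizing complexes) -/

set_option autoImplicit false

universe u

open CategoryTheory CategoryTheory.Limits DerivedCategory TensorProduct CategoryTheory.Pretriangulated

attribute [local instance] HasDerivedCategory.standard

namespace Groth.Agent.Lib.Helper8.EFB

open Groth.Agent.Lib.Helper16.FlatBC Groth.Agent.Lib.Helper8.EBC

variable {A : Type u} [CommRing A]

lemma subsingleton_of_tensor_away {n : ℕ} (f : Fin n → A)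
    (hf : Ideal.span (Set.range f) = ⊤) (H : Type*) [AddCommGroup H] [Module A H]
    (h : ∀ i, Subsingleton (Localization.Away (f i) ⊗[A] H)) : Subsingleton H := by
  rw [subsingleton_iff_forall_eq 0]
  intro x
  apply Module.eq_zero_of_isLocalized_span (Set.range f) hf
    (fun r => Localization.Away r.1 ⊗[A] H)
    (fun r => TensorProduct.mk A (Localization.Away r.1) H 1)
  rintro ⟨_, i, rfl⟩
  haveI := h i
  exact Subsingleton.elim _ _

lemma bijective_of_lTensor_away {n : ℕ} (f : Fin n → A)
    (hf : Ideal.span (Set.range f) = ⊤) {M N : Type*} [AddCommGroup M] [Module A M]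
    [AddCommGroup N] [Module A N] (v : M →ₗ[A] N)
    (h : ∀ i, Function.Bijective (v.lTensor (Localization.Away (f i)))) :
    Function.Bijective v := by
  refine bijective_of_isLocalized_span (Set.range f) hf
    (fun r => Localization.Away r.1 ⊗[A] M)
    (fun r => TensorProduct.mk A (Localization.Away r.1) M 1)
    (fun r => Localization.Away r.1 ⊗[A] N)
    (fun r => TensorProduct.mk A (Localization.Away r.1) N 1) v ?_
  rintro ⟨_, i, rfl⟩
  have : IsLocalizedModule.map (Submonoid.powers (f i))
      (TensorProduct.mk A (Localization.Away (f i)) M 1)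
      (TensorProduct.mk A (Localization.Away (f i)) N 1) v =
      v.lTensor (Localization.Away (f i)) := by
    apply IsLocalizedModule.linearMap_ext (Submonoid.powers (f i))
      (TensorProduct.mk A (Localization.Away (f i)) M 1)
      (TensorProduct.mk A (Localization.Away (f i)) N 1)
    rw [IsLocalizedModule.map_comp]
    ext x
    simp
  rw [this]
  exact h i

lemma finite_of_tensor_away {n : ℕ} (f : Fin n → A)
    (hf : Ideal.span (Set.range f) = ⊤) (N : Type*) [AddCommGroup N] [Module A N]
    (h : ∀ i, Module.Finite (Localization.Away (f i)) (Localization.Away (f i) ⊗[A] N)) :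
    Module.Finite A N := by
  refine Module.Finite.of_localizationSpan' (Set.range f) hf
    (Mₚ := fun r => Localization.Away r.1 ⊗[A] N)
    (Rₚ := fun r => Localization.Away r.1)
    (fun r => TensorProduct.mk A (Localization.Away r.1) N 1) ?_
  rintro ⟨_, i, rfl⟩
  exact h i

/-- a finite Zariski cover by principal opens is a jointly faithfully flat family -/
theorem jointlyFF_of_span {n : ℕ} (f : Fin n → A) (hf : Ideal.span (Set.range f) = ⊤) :
    JointlyFF A (fun i : Fin n => Localization.Away (f i)) where
  sub1 H _ _ hH := subsingleton_of_tensor_away f hf H hH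
  bij1 H _ _ v hv := bijective_of_lTensor_away f hf v hv
  sub0 N _ _ hN := subsingleton_of_tensor_away f hf N hN
  fin0 N _ _ hN := finite_of_tensor_away f hf N hN

end Groth.Agent.Lib.Helper8.EFB
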