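import Groth.Prelude.Def_KZero
import Groth.Prelude.Def_DCoh2
import Groth.Agent.Lib.Helper16.K0Db2
import Groth.Agent.Lib.Helper17.CohKer

/-!
# Helper8: `K₀(Coh X) ≃ K₀(D^b_Coh X)` (S1052), via helper16's general theorem `K0Db.main`
-/

set_option autoImplicit false
universe u
open CategoryTheory CategoryTheory.Limits AlgebraicGeometry
attribute [local instance] HasDerivedCategory.standard
open KZero

namespace Groth.Agent.Lib.Helper8.K0Coh

variable (X : Scheme.{u})

/-- coherent modules -/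
def P : ObjectProperty X.Modules := fun M => Coh.IsCoh M

open Groth.Agent.Lib.Helper17.CohKer Groth.Agent.Lib.Helper17.FinTypeConv

instance : (P X).IsClosedUnderIsomorphisms where
  of_iso := by
    rintro F G e ⟨hq, hf⟩
    haveI : SheafOfModules.IsFiniteType.{u} (R := X.ringCatSheaf) F := hf
    exact ⟨(SheafOfModules.isQuasicoherent X.ringCatSheaf).prop_of_iso e hq,
      isFiniteType_of_epi e.hom⟩

/-- a quasi-coherent module -/
noncomputable abbrev F₁ : X.Modules :=
  SheafOfModules.free (R := X.ringCatSheaf) (ULift.{u} (Fin 1))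

lemma subsingleton_sections (Z : X.Modules) (hZ : IsZero Z) (U : X.Opens) :
    Subsingleton Γ(Z, U) := by
  refine ⟨fun a b => ?_⟩
  have h : (𝟙 Z : Z ⟶ Z) = 0 := hZ.eq_of_src _ _
  have h' : ∀ s : Γ(Z, U), s = 0 := fun s => by
    have h1 : (𝟙 Z : Z ⟶ Z).app U s = s := by simp
    rw [h] at h1
    rw [← h1]
    simp
  rw [h' a, h' b]

lemma P_of_isZero (Z : X.Modules) (hZ : IsZero Z) : P X Z := by
  have hq : Z.IsQuasicoherent := by
    have h1 : (kernel (𝟙 (F₁ X))).IsQuasicoherent := isQuasicoherent_kernel (𝟙 (F₁ X))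
    have hz : IsZero (kernel (𝟙 (F₁ X))) :=
      IsZero.of_iso (isZero_zero _) (kernel.ofMono (𝟙 (F₁ X)))
    exact (SheafOfModules.isQuasicoherent X.ringCatSheaf).prop_of_iso (hz.iso hZ) h1
  refine ⟨hq, ?_⟩
  haveI := hq
  refine isFiniteType_of_forall_finite_sections Z (fun U => ?_)
  haveI := subsingleton_sections X Z hZ U.1
  infer_instance

instance : (P X).ContainsZero where
  exists_zero := ⟨kernel (𝟙 (F₁ X)),
    IsZero.of_iso (isZero_zero _) (kernel.ofMono (𝟙 (F₁ X))),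
    P_of_isZero X _ (IsZero.of_iso (isZero_zero _) (kernel.ofMono (𝟙 (F₁ X))))⟩

lemma P_kernel [IsLocallyNoetherian X] {F G : X.Modules} (φ : F ⟶ G) (hF : P X F) (hG : P X G) :
    P X (kernel φ) := by
  obtain ⟨hFq, hFt⟩ := hF
  obtain ⟨hGq, hGt⟩ := hG
  haveI : F.IsQuasicoherent := hFq
  haveI : G.IsQuasicoherent := hGq
  haveI : SheafOfModules.IsFiniteType.{u} (R := X.ringCatSheaf) F := hFt
  exact ⟨isQuasicoherent_kernel φ, isFiniteType_kernel φ⟩

instance [IsLocallyNoetherian X] : (P X).IsClosedUnderKernels where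
  kernels_le := by
    rintro _ ⟨f, k, hk, ⟨hF, hG⟩⟩
    exact (P X).prop_of_iso (IsLimit.conePointUniqueUpToIso (kernelIsKernel f) hk)
      (P_kernel X f hF hG)

theorem main [IsLocallyNoetherian X] :
    ∃ φ : KZero.K0sub (fun M : X.Modules => Coh.IsCoh M) ≃+
        KZero.K0tr (fun K : DCoh.D X => DCoh.IsCohD K ∧ ∃ a b : ℤ, K.IsGE a ∧ K.IsLE b),
      ∀ F : X.Modules, Coh.IsCoh F →
        φ (KZero.clSub (fun M : X.Modules => Coh.IsCoh M) F) =
          KZero.clTr (fun K : DCoh.D X => DCoh.IsCohD K ∧ ∃ a b : ℤ, K.IsGE a ∧ K.IsLE b)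
            (DCoh.inD X F) :=
  Groth.Agent.Lib.Helper16.K0Db.main (P X)

end Groth.Agent.Lib.Helper8.K0Coh
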