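import Mathlib
import Groth.Prelude.Def_KZero
import Groth.Prelude.Def_DRing2
import Groth.Agent.Lib.Helper8.Perf2
import Groth.Agent.Lib.Helper16.K0Db1

/-!
# Helper8 — KPerf1: Euler characteristic of bounded complexes of finite projective modules (S7142)
-/

open CategoryTheory CategoryTheory.Limits KZero ZeroObject

namespace Groth.Agent.Lib.Helper8.KPerf

open Groth.Agent.Lib.Helper16.K0Db Groth.Agent.Lib.Helper8.Perf

universe u

variable (R : Type u) [CommRing R]

/-- finite projective modules, as an object property -/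
abbrev FP : ObjectProperty (ModuleCat.{u} R) :=
  fun M : ModuleCat.{u} R => Module.Finite R M ∧ Module.Projective R M

instance : (FP R).IsClosedUnderIsomorphisms where
  of_iso e h := finProj_iso _ _ e h

lemma FP_of_isZero (X : ModuleCat.{u} R) (hX : IsZero X) : FP R X := by
  have : Subsingleton X := ModuleCat.subsingleton_of_isZero hX
  exact ⟨inferInstance, inferInstance⟩

instance : (FP R).ContainsZero where
  exists_zero := ⟨0, isZero_zero _, FP_of_isZero R _ (isZero_zero _)⟩

variable {R}

lemma projective_of_FP {X : ModuleCat.{u} R} (h : FP R X) : Projective X :=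
  (IsProjective.iff_projective _).1 h.2

/-- in a short exact sequence with finite projective middle and right terms, the left term is
finite projective -/
lemma FP_X₁ (S : ShortComplex (ModuleCat.{u} R)) (hS : S.ShortExact) (h₂ : FP R S.X₂)
    (h₃ : FP R S.X₃) : FP R S.X₁ := by
  have := projective_of_FP h₃
  have := hS.epi_g
  have := hS.mono_f
  let σ := ShortComplex.Splitting.ofExactOfSection S hS.exact (Projective.factorThru (𝟙 _) S.g)
    (Projective.factorThru_comp _ _) inferInstance
  have hr : Function.Surjective σ.r.hom := by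
    intro x
    refine ⟨S.f.hom x, ?_⟩
    have := congrArg (fun φ => φ.hom x) σ.f_r
    exact this
  obtain ⟨h21, h22⟩ := h₂
  refine ⟨Module.Finite.of_surjective σ.r.hom hr, ?_⟩
  refine Module.Projective.of_split S.f.hom σ.r.hom ?_
  ext x
  have := congrArg (fun φ => φ.hom x) σ.f_r
  exact this

/-- in a short exact sequence with finite projective outer terms, the middle term is
finite projective -/
lemma FP_X₂ (S : ShortComplex (ModuleCat.{u} R)) (hS : S.ShortExact) (h₁ : FP R S.X₁)
    (h₃ : FP R S.X₃) : FP R S.X₂ := by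
  have := projective_of_FP h₃
  have := hS.epi_g
  have := hS.mono_f
  let σ := ShortComplex.Splitting.ofExactOfSection S hS.exact (Projective.factorThru (𝟙 _) S.g)
    (Projective.factorThru_comp _ _) inferInstance
  exact finProj_iso _ _ σ.isoBinaryBiproduct.symm (finProj_biprod _ _ h₁ h₃)

lemma finite_support_of_bounded {G : Type*} [AddCommGroup G] (f : ℤ → G) (a b : ℤ)
    (h : ∀ i, (i < a ∨ b < i) → f i = 0) : (Function.support f).Finite := by
  refine (Finset.Icc a b).finite_toSet.subset ?_
  intro i hi
  simp only [Function.mem_support, ne_eq] at hi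
  simp only [Finset.coe_Icc, Set.mem_Icc]
  by_contra hc
  exact hi (h i (by omega))

/-- the Euler characteristic `Σ (-1)^i [E^i]` -/
noncomputable def chi (E : DRing.Cx R) : K0sub (FP R) :=
  alt (fun i : ℤ => clSub (FP R) (E.X i))

lemma chi_support (E : DRing.Cx R) (a b : ℤ) (h : DRing.VanishesOutside E a b) :
    (Function.support (fun i : ℤ => clSub (FP R) (E.X i))).Finite :=
  finite_support_of_bounded _ a b (fun i hi => clSub_isZero _ _ (h i hi))

lemma chi_eq_sum (E : DRing.Cx R) (a b : ℤ) (h : DRing.VanishesOutside E a b) :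
    chi E = (Finset.Icc a b).sum (fun i => (i.negOnePow : ℤ) • clSub (FP R) (E.X i)) := by
  unfold chi alt
  apply finsum_eq_sum_of_support_subset
  intro i hi
  simp only [Function.mem_support, ne_eq] at hi
  simp only [Finset.coe_Icc, Set.mem_Icc]
  by_contra hc
  exact hi (by rw [clSub_isZero _ _ (h i (by omega)), smul_zero])

/-- additivity for termwise short exact sequences -/
lemma chi_add (E₁ E₂ E₃ : DRing.Cx R) (f : ∀ i, E₁.X i ⟶ E₂.X i) (g : ∀ i, E₂.X i ⟶ E₃.X i)
    (w : ∀ i, f i ≫ g i = 0) (hS : ∀ i, (ShortComplex.mk (f i) (g i) (w i)).ShortExact)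
    {a₁ b₁ a₃ b₃ : ℤ} (h₁ : DRing.VanishesOutside E₁ a₁ b₁) (h₁' : DRing.TermwiseFiniteProjective E₁)
    (h₃ : DRing.VanishesOutside E₃ a₃ b₃) (h₃' : DRing.TermwiseFiniteProjective E₃) :
    chi E₂ = chi E₁ + chi E₃ := by
  unfold chi
  rw [← alt_add _ _ (chi_support E₁ a₁ b₁ h₁) (chi_support E₃ a₃ b₃ h₃)]
  congr 1
  funext i
  exact clSub_shortExact (FP R) _ (hS i) (h₁' i) (FP_X₂ _ (hS i) (h₁' i) (h₃' i)) (h₃' i)

lemma chi_single (M : ModuleCat.{u} R) (b : ℤ) :
    chi ((CochainComplex.singleFunctor (ModuleCat.{u} R) b).obj M) =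
      (b.negOnePow : ℤ) • clSub (FP R) M := by
  unfold chi
  refine (alt_single _ b (fun i hi => clSub_isZero _ _
    (HomologicalComplex.isZero_single_obj_X (ComplexShape.up ℤ) b M i hi))).trans ?_
  congr 1
  exact clSub_iso (FP R) (HomologicalComplex.singleObjXSelf (ComplexShape.up ℤ) b M)

lemma vanishesOutside_single (M : ModuleCat.{u} R) (b : ℤ) :
    DRing.VanishesOutside ((CochainComplex.singleFunctor (ModuleCat.{u} R) b).obj M) b b := by
  intro i hi
  exact HomologicalComplex.isZero_single_obj_X (ComplexShape.up ℤ) b M i (by omega)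

lemma tfp_single (M : ModuleCat.{u} R) (hM : FP R M) (b : ℤ) :
    DRing.TermwiseFiniteProjective ((CochainComplex.singleFunctor (ModuleCat.{u} R) b).obj M) := by
  intro i
  by_cases hi : i = b
  · subst hi
    exact finProj_iso _ _ (HomologicalComplex.singleObjXSelf (ComplexShape.up ℤ) i M).symm hM
  · exact FP_of_isZero R _ (HomologicalComplex.isZero_single_obj_X (ComplexShape.up ℤ) b M i hi)

lemma clSub_biprod (X Y : ModuleCat.{u} R) (hX : FP R X) (hY : FP R Y) :
    clSub (FP R) (X ⊞ Y) = clSub (FP R) X + clSub (FP R) Y :=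
  clSub_shortExact (FP R) _ (ShortComplex.Splitting.ofHasBinaryBiproduct X Y).shortExact hX
    (finProj_biprod _ _ hX hY) hY

section Cone

variable {E E' : DRing.Cx R} (f : E ⟶ E')

lemma vanishesOutside_mappingCone {a b a' b' : ℤ} (h : DRing.VanishesOutside E a b)
    (h' : DRing.VanishesOutside E' a' b') :
    DRing.VanishesOutside (CochainComplex.mappingCone f) (min a a' - 1) (max b b') := by
  intro i hi
  have h1 : IsZero (E.X (i + 1)) := h _ (by
    rcases hi with hi | hi
    · left; have := min_le_left a a'; omega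
    · right; have := le_max_left b b'; omega)
  have h2 : IsZero (E'.X i) := h' _ (by
    rcases hi with hi | hi
    · left; have := min_le_right a a'; omega
    · right; have := le_max_right b b'; omega)
  exact DRing2.isZero_mappingCone_X f i h1 h2

lemma tfp_mappingCone (h : DRing.TermwiseFiniteProjective E)
    (h' : DRing.TermwiseFiniteProjective E') :
    DRing.TermwiseFiniteProjective (CochainComplex.mappingCone f) := by
  intro i
  exact finProj_iso _ _ (HomologicalComplex.homotopyCofiber.XIsoBiprod f i (i + 1) (by simp)).symm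
    (finProj_biprod _ _ (h (i + 1)) (h' i))

lemma chi_mappingCone {a b a' b' : ℤ} (h : DRing.VanishesOutside E a b)
    (h' : DRing.VanishesOutside E' a' b') (hE : DRing.TermwiseFiniteProjective E)
    (hE' : DRing.TermwiseFiniteProjective E') :
    chi (CochainComplex.mappingCone f) = chi E' - chi E := by
  have h1 : ∀ i : ℤ, clSub (FP R) ((CochainComplex.mappingCone f).X i) =
      clSub (FP R) (E.X (i + 1)) + clSub (FP R) (E'.X i) := by
    intro i
    refine (clSub_iso (FP R)
      (HomologicalComplex.homotopyCofiber.XIsoBiprod f i (i + 1) (by simp))).trans ?_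
    exact clSub_biprod _ _ (hE (i + 1)) (hE' i)
  unfold chi
  have hs : (Function.support (fun i : ℤ => clSub (FP R) (E.X (i + 1)))).Finite := by
    refine finite_support_of_bounded _ (a - 1) (b - 1) (fun i hi => ?_)
    exact clSub_isZero _ _ (h _ (by omega))
  have : (fun i : ℤ => clSub (FP R) ((CochainComplex.mappingCone f).X i)) =
      fun i => clSub (FP R) (E.X (i + 1)) + clSub (FP R) (E'.X i) := funext h1
  rw [this, alt_add _ _ hs (chi_support E' a' b' h'),
    alt_shift (fun i : ℤ => clSub (FP R) (E.X i))]
  abel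

end Cone

end Groth.Agent.Lib.Helper8.KPerf
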