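import Mathlib
import Groth.Agent.Lib.Helper8.KPerf1

/-!
# Helper8 — KPerf2: the Euler characteristic of a bounded acyclic complex of finite projective
modules vanishes (S7142)
-/

open CategoryTheory CategoryTheory.Limits KZero ZeroObject

namespace Groth.Agent.Lib.Helper8.KPerf

open Groth.Agent.Lib.Helper16.K0Db Groth.Agent.Lib.Helper8.Perf

universe u

variable {R : Type u} [CommRing R] (E : DRing.Cx R)

/-- the short complex `Z^i → E^i → Z^{i+1}` -/
noncomputable def cycSC (i : ℤ) : ShortComplex (ModuleCat.{u} R) :=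
  ShortComplex.mk (E.iCycles i) (E.toCycles i (i + 1)) (by
    rw [← cancel_mono (E.iCycles (i + 1)), Category.assoc, E.toCycles_i, E.iCycles_d, zero_comp])

lemma cycSC_shortExact (i : ℤ) (h : E.ExactAt (i + 1)) : (cycSC E i).ShortExact := by
  have hepi : Epi (E.toCycles i (i + 1)) :=
    Preadditive.epi_of_isZero_cokernel' _ (E.homologyIsCokernel i (i + 1) (by simp))
      h.isZero_homology
  refine ShortComplex.ShortExact.mk' ?_ (inferInstanceAs (Mono (E.iCycles i))) hepi
  apply ShortComplex.exact_of_f_is_kernel
  exact isKernelOfComp (E.iCycles (i + 1)) (E.d i (i + 1)) (E.cyclesIsKernel i (i + 1) (by simp)) _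
    (E.toCycles_i i (i + 1))

lemma FP_cycles (hE : DRing.TermwiseFiniteProjective E) (hac : ∀ i, E.ExactAt i) (b : ℤ)
    (hb : ∀ i, b < i → IsZero (E.X i)) : ∀ i, FP R (E.cycles i) := by
  have key : ∀ (n : ℕ) (i : ℤ), b + 1 ≤ i + n → FP R (E.cycles i) := by
    intro n
    induction n with
    | zero =>
      intro i hi
      exact FP_of_isZero R _ (IsZero.of_mono (E.iCycles i) (hb i (by omega)))
    | succ n ih =>
      intro i hi
      exact FP_X₁ _ (cycSC_shortExact E i (hac _)) (hE i) (ih (i + 1) (by push_cast at hi; omega))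
  intro i
  exact key (b + 1 - i).toNat i (by omega)

theorem chi_acyclic (a b : ℤ) (h : DRing.VanishesOutside E a b)
    (hE : DRing.TermwiseFiniteProjective E) (hac : ∀ i, E.ExactAt i) : chi E = 0 := by
  have hZ := FP_cycles E hE hac b (fun i hi => h i (Or.inr hi))
  let z : ℤ → K0sub (FP R) := fun i => clSub (FP R) (E.cycles i)
  have h1 : ∀ i, clSub (FP R) (E.X i) = z i + z (i + 1) := fun i =>
    clSub_shortExact (FP R) _ (cycSC_shortExact E i (hac _)) (hZ i) (hE i) (hZ (i + 1))
  have hz : (Function.support z).Finite :=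
    finite_support_of_bounded _ a b (fun i hi =>
      clSub_isZero _ _ (IsZero.of_mono (E.iCycles i) (h i hi)))
  have hz' : (Function.support fun i => z (i + 1)).Finite :=
    finite_support_of_bounded _ (a - 1) (b - 1) (fun i hi =>
      clSub_isZero _ _ (IsZero.of_mono (E.iCycles (i + 1)) (h _ (by omega))))
  unfold chi
  rw [show (fun i => clSub (FP R) (E.X i)) = fun i => z i + z (i + 1) from funext h1,
    alt_add _ _ hz hz', alt_shift, add_neg_cancel]

/-- a quasi-isomorphism between bounded complexes of finite projectives preserves `chi` -/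
theorem chi_eq_of_quasiIso {E E' : DRing.Cx R} (f : E ⟶ E') [QuasiIso f] {a b a' b' : ℤ}
    (h : DRing.VanishesOutside E a b) (h' : DRing.VanishesOutside E' a' b')
    (hE : DRing.TermwiseFiniteProjective E) (hE' : DRing.TermwiseFiniteProjective E') :
    chi E = chi E' := by
  have h0 := chi_acyclic (CochainComplex.mappingCone f) _ _ (vanishesOutside_mappingCone f h h')
    (tfp_mappingCone f hE hE') (DRing2.exactAt_mappingCone_of_quasiIso f)
  rw [chi_mappingCone f h h' hE hE', sub_eq_zero] at h0
  exact h0.symm

end Groth.Agent.Lib.Helper8.KPerf
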