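import Mathlib
import Groth.Agent.Lib.Helper8.KPerf2

/-!
# Helper8 — KPerf3: `K₀(R) ≃ K₀(D_perf(R))`, the two homomorphisms (S7142)
-/

open CategoryTheory CategoryTheory.Limits KZero ZeroObject DerivedCategory
  CategoryTheory.Pretriangulated

namespace Groth.Agent.Lib.Helper8.KPerf

open Groth.Agent.Lib.Helper16.K0Db Groth.Agent.Lib.Helper8.Perf Groth.Agent.Lib.Helper8.PAmp

universe u

attribute [local instance] HasDerivedCategory.standard

variable (R : Type u) [CommRing R]

/-- perfect objects of `D(R)` -/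
abbrev Pf : ObjectProperty (Dual.D R) := fun K : Dual.D R => DRing.IsPerfect R K

instance : (Pf R).IsClosedUnderIsomorphisms where
  of_iso := by
    rintro X Y e ⟨E, a, b, h1, h2, ⟨e'⟩⟩
    exact ⟨E, a, b, h1, h2, ⟨e' ≪≫ e⟩⟩

variable {R}

lemma isKProjective_of_bdd (E : DRing.Cx R) (a b : ℤ) (h : DRing.VanishesOutside E a b)
    (hE : DRing.TermwiseFiniteProjective E) : E.IsKProjective :=
  isKProjective_of_hasProjAmp_data E b (fun i hi => h i (Or.inr hi))
    (fun i => projective_of_FP (hE i))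

lemma Pf_toD (E : DRing.Cx R) (a b : ℤ) (h : DRing.VanishesOutside E a b)
    (hE : DRing.TermwiseFiniteProjective E) : Pf R (DRing.toD E) :=
  ⟨E, a, b, h, hE, ⟨Iso.refl _⟩⟩

lemma Pf_of_isZero (X : Dual.D R) (hX : IsZero X) : Pf R X := by
  refine ⟨0, 0, 0, fun i _ => ?_, fun i => FP_of_isZero R _ ?_, ⟨?_⟩⟩
  · exact (HomologicalComplex.eval _ _ i).map_isZero (isZero_zero _)
  · exact (HomologicalComplex.eval _ _ i).map_isZero (isZero_zero _)
  · exact (Q.map_isZero (isZero_zero _)).iso hX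

instance : (Pf R).ContainsZero where
  exists_zero := ⟨0, isZero_zero _, Pf_of_isZero _ (isZero_zero _)⟩

/-- two bounded finite projective representatives of the same object have the same `chi` -/
lemma chi_eq_of_iso {E E' : DRing.Cx R} {a b a' b' : ℤ}
    (h : DRing.VanishesOutside E a b) (h' : DRing.VanishesOutside E' a' b')
    (hE : DRing.TermwiseFiniteProjective E) (hE' : DRing.TermwiseFiniteProjective E')
    (e : DRing.toD E ≅ DRing.toD E') : chi E = chi E' := by
  have := isKProjective_of_bdd E a b h hE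
  obtain ⟨f, hf⟩ := exists_Q_map_of_isKProjective E E' e.hom
  have : QuasiIso f := by
    rw [← DerivedCategory.isIso_Q_map_iff_quasiIso, ← hf]
    infer_instance
  exact chi_eq_of_quasiIso f h h' hE hE'

open Classical in
/-- the Euler characteristic of a perfect object -/
noncomputable def chiD (K : Dual.D R) : K0sub (FP R) :=
  if h : DRing.IsPerfect R K then chi h.choose else 0

lemma chiD_eq (K : Dual.D R) (E : DRing.Cx R) (a b : ℤ) (h : DRing.VanishesOutside E a b)
    (hE : DRing.TermwiseFiniteProjective E) (e : DRing.toD E ≅ K) : chiD K = chi E := by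
  have hK : DRing.IsPerfect R K := ⟨E, a, b, h, hE, ⟨e⟩⟩
  unfold chiD
  rw [dif_pos hK]
  obtain ⟨a', b', h1, h2, ⟨e'⟩⟩ := hK.choose_spec
  exact chi_eq_of_iso h1 h h2 hE (e' ≪≫ e.symm)

lemma chiD_dist (T : Triangle (Dual.D R)) (hT : T ∈ distTriang (Dual.D R))
    (h₁ : Pf R T.obj₁) (h₂ : Pf R T.obj₂) :
    chiD T.obj₂ = chiD T.obj₁ + chiD T.obj₃ := by
  obtain ⟨E₁, a₁, b₁, v₁, p₁, ⟨e₁⟩⟩ := h₁
  obtain ⟨E₂, a₂, b₂, v₂, p₂, ⟨e₂⟩⟩ := h₂
  have := isKProjective_of_bdd E₁ a₁ b₁ v₁ p₁
  obtain ⟨f, hf⟩ := exists_Q_map_of_isKProjective E₁ E₂ (e₁.hom ≫ T.mor₁ ≫ e₂.inv)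
  have hT3 := DerivedCategory.mappingCone_triangle_distinguished f
  have eT := isoTriangleOfIso₁₂ _ _ hT3 hT e₁ e₂ (by
    change Q.map f ≫ e₂.hom = e₁.hom ≫ T.mor₁
    rw [← hf, Category.assoc, Category.assoc, Iso.inv_hom_id, Category.comp_id])
  have e3 : Q.obj (CochainComplex.mappingCone f) ≅ T.obj₃ := Triangle.π₃.mapIso eT
  rw [chiD_eq _ E₁ a₁ b₁ v₁ p₁ e₁, chiD_eq _ E₂ a₂ b₂ v₂ p₂ e₂,
    chiD_eq _ (CochainComplex.mappingCone f) _ _ (vanishesOutside_mappingCone f v₁ v₂)
      (tfp_mappingCone f p₁ p₂) e3, chi_mappingCone f v₁ v₂ p₁ p₂]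
  abel

variable (R)

/-- the Euler characteristic homomorphism `K₀(D_perf(R)) → K₀(R)` -/
noncomputable def ψ : K0tr (Pf R) →+ K0sub (FP R) :=
  QuotientAddGroup.lift (relTr (Pf R))
    (FreeAbelianGroup.lift fun X : Subtype (Pf R) => chiD X.1)
    (by
      rw [relTr, AddSubgroup.closure_le]
      rintro x ⟨T, h₁, h₂, h₃, hT, rfl⟩
      simp only [SetLike.mem_coe, AddMonoidHom.mem_ker, map_sub, FreeAbelianGroup.lift_apply_of]
      rw [chiD_dist T hT h₁ h₂]; abel)

variable {R}

lemma ψ_clTr (K : Dual.D R) (hK : Pf R K) : ψ R (clTr (Pf R) K) = chiD K := by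
  rw [clTr_of (Pf R) K hK]
  simp [ψ]

/-- the single complex represents the single object of the derived category -/
noncomputable def singleIso (M : ModuleCat.{u} R) (j : ℤ) :
    DRing.toD ((CochainComplex.singleFunctor (ModuleCat.{u} R) j).obj M) ≅
      (DerivedCategory.singleFunctor (ModuleCat.{u} R) j).obj M :=
  ((DerivedCategory.singleFunctorIsoCompQ (ModuleCat.{u} R) j).app M).symm

lemma Pf_single (M : ModuleCat.{u} R) (hM : FP R M) (j : ℤ) :
    Pf R ((DerivedCategory.singleFunctor (ModuleCat.{u} R) j).obj M) :=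
  ⟨_, j, j, vanishesOutside_single M j, tfp_single M hM j, ⟨singleIso M j⟩⟩

variable (R)

/-- the homomorphism `K₀(R) → K₀(D_perf(R))` induced by `M ↦ M[0]` -/
noncomputable def φ : K0sub (FP R) →+ K0tr (Pf R) :=
  QuotientAddGroup.lift (relSub (FP R))
    (FreeAbelianGroup.lift fun X : Subtype (FP R) =>
      clTr (Pf R) ((DerivedCategory.singleFunctor (ModuleCat.{u} R) 0).obj X.1))
    (by
      rw [relSub, AddSubgroup.closure_le]
      rintro x ⟨S, h₁, h₂, h₃, hS, rfl⟩
      simp only [SetLike.mem_coe, AddMonoidHom.mem_ker, map_sub, FreeAbelianGroup.lift_apply_of]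
      have := clTr_dist (Pf R) _ hS.singleTriangle_distinguished (Pf_single _ h₁ 0)
        (Pf_single _ h₂ 0) (Pf_single _ h₃ 0)
      change clTr (Pf R) ((DerivedCategory.singleFunctor _ 0).obj S.X₂) =
        clTr (Pf R) ((DerivedCategory.singleFunctor _ 0).obj S.X₁)
        + clTr (Pf R) ((DerivedCategory.singleFunctor _ 0).obj S.X₃) at this
      rw [this]; abel)

variable {R}

lemma φ_clSub (X : ModuleCat.{u} R) (hX : FP R X) :
    φ R (clSub (FP R) X) = clTr (Pf R) ((DerivedCategory.singleFunctor _ 0).obj X) := by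
  rw [clSub_of (FP R) X hX]
  simp [φ]

lemma clTr_single_succ (M : ModuleCat.{u} R) (hM : FP R M) (j j' : ℤ) (h : j' = j + 1) :
    clTr (Pf R) ((DerivedCategory.singleFunctor _ j').obj M) =
      - clTr (Pf R) ((DerivedCategory.singleFunctor _ j).obj M) := by
  have e : ((DerivedCategory.singleFunctor (ModuleCat.{u} R) j').obj M)⟦(1 : ℤ)⟧ ≅
      (DerivedCategory.singleFunctor _ j).obj M :=
    ((DerivedCategory.singleFunctors (ModuleCat.{u} R)).shiftIso 1 j j' (by omega)).app M
  have h' : Pf R (((DerivedCategory.singleFunctor (ModuleCat.{u} R) j').obj M)⟦(1 : ℤ)⟧) :=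
    (Pf R).prop_of_iso e.symm (Pf_single M hM j)
  have := clTr_shift (Pf R) _ (Pf_single M hM j') h'
  rw [clTr_iso (Pf R) e] at this
  rw [this, neg_neg]

lemma clTr_single (M : ModuleCat.{u} R) (hM : FP R M) (j : ℤ) :
    clTr (Pf R) ((DerivedCategory.singleFunctor _ j).obj M) =
      (j.negOnePow : ℤ) • clTr (Pf R) ((DerivedCategory.singleFunctor _ 0).obj M) := by
  induction j using Int.induction_on with
  | zero => simp
  | succ i ih =>
    rw [clTr_single_succ M hM i (i + 1) rfl, ih, Int.negOnePow_succ, Units.val_neg, neg_smul]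
  | pred i ih =>
    have := clTr_single_succ M hM (-(i : ℤ) - 1) (-(i : ℤ)) (by omega)
    rw [ih] at this
    rw [Int.negOnePow_sub, Int.negOnePow_one, mul_neg, mul_one, Units.val_neg, neg_smul, this,
      neg_neg]

/-- `[single_b M] = φ (chi (single_b M))` -/
lemma clTr_toD_single (M : ModuleCat.{u} R) (hM : FP R M) (b : ℤ) :
    clTr (Pf R) (DRing.toD ((CochainComplex.singleFunctor (ModuleCat.{u} R) b).obj M)) =
      φ R (chi ((CochainComplex.singleFunctor (ModuleCat.{u} R) b).obj M)) := by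
  rw [clTr_iso (Pf R) (singleIso M b), clTr_single M hM b, chi_single, map_zsmul, φ_clSub M hM]

end Groth.Agent.Lib.Helper8.KPerf
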