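import Mathlib
import Groth.Agent.Lib.Helper8.KPerf3

/-!
# Helper8 — KPerf4: `K₀(R) ≃ K₀(D_perf(R))` (S7142)
-/

open CategoryTheory CategoryTheory.Limits KZero ZeroObject DerivedCategory
  CategoryTheory.Pretriangulated

namespace Groth.Agent.Lib.Helper8.KPerf

open Groth.Agent.Lib.Helper16.K0Db Groth.Agent.Lib.Helper8.Perf Groth.Agent.Lib.Helper8.PAmp

universe u

attribute [local instance] HasDerivedCategory.standard

variable {R : Type u} [CommRing R]

section Top

variable (E : DRing.Cx R) (b : ℤ) (hb : IsZero (E.X (b + 1)))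

/-- the inclusion of the top term -/
noncomputable def topι : (CochainComplex.singleFunctor (ModuleCat.{u} R) b).obj (E.X b) ⟶ E :=
  HomologicalComplex.mkHomFromSingle (𝟙 (E.X b)) (fun k hk => by
    have : b + 1 = k := hk
    subst this
    exact hb.eq_of_tgt _ _)

lemma topι_f_b : (topι E b hb).f b =
    (HomologicalComplex.singleObjXSelf (ComplexShape.up ℤ) b (E.X b)).hom := by
  rw [topι, HomologicalComplex.mkHomFromSingle_f, Category.comp_id]

instance : Mono (topι E b hb) := by
  apply HomologicalComplex.mono_of_mono_f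
  intro i
  by_cases hi : i = b
  · subst hi
    rw [topι_f_b]
    infer_instance
  · exact (HomologicalComplex.isZero_single_obj_X (ComplexShape.up ℤ) b _ i hi).mono _

/-- `0 → E^b[-b] → E → σ_{<b} E → 0` -/
noncomputable abbrev topSC : ShortComplex (DRing.Cx R) :=
  ShortComplex.cokernelSequence (topι E b hb)

lemma topSC_shortExact : (topSC E b hb).ShortExact :=
  ShortComplex.ShortExact.mk' (ShortComplex.cokernelSequence_exact _)
    (inferInstanceAs (Mono (topι E b hb))) inferInstance

/-- the truncation `σ_{<b} E` -/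
noncomputable abbrev trunc : DRing.Cx R := cokernel (topι E b hb)

lemma termwise (i : ℤ) : (ShortComplex.mk ((topι E b hb).f i) ((cokernel.π (topι E b hb)).f i)
    (by rw [← HomologicalComplex.comp_f, cokernel.condition]; rfl)).ShortExact :=
  (topSC_shortExact E b hb).map_of_exact (HomologicalComplex.eval _ _ i)

lemma isZero_trunc_b : IsZero ((trunc E b hb).X b) := by
  refine ((termwise E b hb b).isIso_f_iff).1 ?_
  change IsIso ((topι E b hb).f b)
  rw [topι_f_b]
  infer_instance

lemma isIso_π_f (i : ℤ) (hi : i ≠ b) : IsIso ((cokernel.π (topι E b hb)).f i) :=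
  ((termwise E b hb i).isIso_g_iff).2
    (HomologicalComplex.isZero_single_obj_X (ComplexShape.up ℤ) b _ i hi)

lemma vanishesOutside_trunc (a : ℤ) (h : DRing.VanishesOutside E a b) :
    DRing.VanishesOutside (trunc E b hb) a (b - 1) := by
  intro i hi
  by_cases hib : i = b
  · subst hib
    exact isZero_trunc_b E i hb
  · have := isIso_π_f E b hb i hib
    exact IsZero.of_iso (h i (by omega)) (asIso ((cokernel.π (topι E b hb)).f i)).symm

lemma tfp_trunc (hE : DRing.TermwiseFiniteProjective E) :
    DRing.TermwiseFiniteProjective (trunc E b hb) := by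
  intro i
  by_cases hib : i = b
  · subst hib
    exact FP_of_isZero R _ (isZero_trunc_b E i hb)
  · have := isIso_π_f E b hb i hib
    exact finProj_iso _ _ (asIso ((cokernel.π (topι E b hb)).f i)) (hE i)

end Top

lemma isZero_of_forall_isZero (E : DRing.Cx R) (h : ∀ i, IsZero (E.X i)) : IsZero E := by
  rw [IsZero.iff_id_eq_zero]
  apply HomologicalComplex.hom_ext
  intro i
  exact (h i).eq_of_src _ _

/-- `[E] = φ (chi E)` in `K₀(D_perf(R))` -/
theorem clTr_toD_eq : ∀ (n : ℕ) (E : DRing.Cx R) (a b : ℤ), b < a + n →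
    DRing.VanishesOutside E a b → DRing.TermwiseFiniteProjective E →
    clTr (Pf R) (DRing.toD E) = φ R (chi E) := by
  intro n
  induction n with
  | zero =>
    intro E a b hab h hE
    have hz : ∀ i, IsZero (E.X i) := fun i => h i (by
      simp only [Nat.cast_zero, add_zero] at hab
      omega)
    have : chi E = 0 := alt_zero _ (fun i => clSub_isZero _ _ (hz i))
    rw [this, map_zero]
    exact clTr_isZero (Pf R) _ (Q.map_isZero (isZero_of_forall_isZero E hz))
  | succ n ih =>
    intro E a b hab h hE
    by_cases hba : b < a + n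
    · exact ih E a b hba h hE
    · have hb : IsZero (E.X (b + 1)) := h _ (Or.inr (by omega))
      have hS := topSC_shortExact E b hb
      have h1 := clTr_dist (Pf R) _ (DerivedCategory.triangleOfSES_distinguished hS)
        (Pf_toD _ b b (vanishesOutside_single _ b) (tfp_single _ (hE b) b))
        (Pf_toD E a b h hE)
        (Pf_toD _ a (b - 1) (vanishesOutside_trunc E b hb a h) (tfp_trunc E b hb hE))
      change clTr (Pf R) (DRing.toD E) =
        clTr (Pf R) (DRing.toD ((CochainComplex.singleFunctor (ModuleCat.{u} R) b).obj (E.X b))) +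
          clTr (Pf R) (DRing.toD (trunc E b hb)) at h1
      have h2 := chi_add _ E (trunc E b hb) (fun i => (topι E b hb).f i)
        (fun i => (cokernel.π (topι E b hb)).f i) _ (termwise E b hb)
        (vanishesOutside_single _ b) (tfp_single _ (hE b) b)
        (vanishesOutside_trunc E b hb a h) (tfp_trunc E b hb hE)
      rw [h1, h2, map_add, clTr_toD_single _ (hE b) b,
        ih (trunc E b hb) a (b - 1) (by push_cast at hab; omega)
          (vanishesOutside_trunc E b hb a h) (tfp_trunc E b hb hE)]

theorem main : ∃ Φ : K0sub (FP R) ≃+ K0tr (Pf R),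
    (∀ (M : ModuleCat.{u} R), FP R M →
      Φ (clSub (FP R) M) = clTr (Pf R) ((DerivedCategory.singleFunctor _ 0).obj M)) ∧
    ∀ (E : DRing.Cx R) (a b : ℤ), DRing.VanishesOutside E a b →
      DRing.TermwiseFiniteProjective E → Φ.symm (clTr (Pf R) (DRing.toD E)) = chi E := by
  have hψφ : (ψ R).comp (φ R) = AddMonoidHom.id _ := by
    apply QuotientAddGroup.addMonoidHom_ext
    apply FreeAbelianGroup.lift_ext
    rintro ⟨X, hX⟩
    have h1 : φ R (clSub (FP R) X) = clTr (Pf R) ((DerivedCategory.singleFunctor _ 0).obj X) :=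
      φ_clSub X hX
    have h2 := ψ_clTr _ (Pf_single X hX 0)
    rw [chiD_eq _ _ 0 0 (vanishesOutside_single X 0) (tfp_single X hX 0) (singleIso X 0),
      chi_single] at h2
    simp only [Int.negOnePow_zero, Units.val_one, one_smul] at h2
    rw [clSub_of (FP R) X hX] at h1 h2
    simp only [AddMonoidHom.coe_comp, Function.comp_apply, QuotientAddGroup.coe_mk',
      AddMonoidHom.id_apply]
    rw [h1]
    exact h2
  have hφψ : (φ R).comp (ψ R) = AddMonoidHom.id _ := by
    apply QuotientAddGroup.addMonoidHom_ext
    apply FreeAbelianGroup.lift_ext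
    rintro ⟨K, hK⟩
    have h1 := ψ_clTr K hK
    obtain ⟨E, a, b, v, p, ⟨e⟩⟩ := hK
    have hK' : Pf R K := ⟨E, a, b, v, p, ⟨e⟩⟩
    have h2 : clTr (Pf R) K = φ R (chiD K) := by
      rw [chiD_eq K E a b v p e, ← clTr_iso (Pf R) e]
      exact clTr_toD_eq (b + 1 - a).toNat E a b (by omega) v p
    rw [clTr_of (Pf R) K hK'] at h1 h2
    simp only [AddMonoidHom.coe_comp, Function.comp_apply, QuotientAddGroup.coe_mk',
      AddMonoidHom.id_apply]
    rw [h1]
    exact h2.symm
  refine ⟨{ toFun := φ R
            invFun := ψ R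
            left_inv := fun x => DFunLike.congr_fun hψφ x
            right_inv := fun x => DFunLike.congr_fun hφψ x
            map_add' := map_add _ }, fun X hX => φ_clSub X hX, fun E a b v p => ?_⟩
  change ψ R (clTr (Pf R) (DRing.toD E)) = chi E
  rw [ψ_clTr _ (Pf_toD E a b v p), chiD_eq _ E a b v p (Iso.refl _)]

end Groth.Agent.Lib.Helper8.KPerf
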