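import Mathlib
import Groth.Agent.Lib.Helper8.PtSupp
import Groth.Agent.Lib.Helper6.DevRed

/-! # Helper8 — on an integral proper k-scheme the field of global functions acts on cohomology: a one-dimensional cohomology group forces h^0(O_X) = 1 -/
set_option autoImplicit false
set_option backward.isDefEq.respectTransparency.types false
universe u
open CategoryTheory CategoryTheory.Limits Opposite TopologicalSpace AlgebraicGeometry
open Groth.Agent.Lib.Helper28.QCohLoc

noncomputable section
namespace Groth.Agent.Lib.Helper8.H0Field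

open Groth.Agent.Lib.Helper8.PtSupp Groth.Agent.Lib.Helper8.EulerK

variable {X : Scheme.{u}}

/-- `H⁰(X, M) ≃ Γ(X, M)` is compatible with multiplication by global functions -/
theorem e0_smulΓ (M : X.Modules) (r : Coh.Γtop X) (x : Coh.HH X M 0) :
    e0 M (r • x) = ((show Γ(X, ⊤) from r) • e0 M x : Γ(M, ⊤)) := by
  have h := Sheaf.H.equiv₀_naturality (Limits.isTerminalTop (α := Opens X))
    (Coh.smulAb M r) x
  refine h.symm.trans ?_
  rw [Coh.smulAb_app]
  have : Coh.resTop X (op ⊤) r = r := by
    change (X.ringCatSheaf.obj.map (𝟙 _)).hom _ = _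
    rw [CategoryTheory.Functor.map_id]
    rfl
  rw [this]
  rfl

variable (k : Type u) [Field k] (X) [X.Over (Spec (CommRingCat.of k))]
  [IsIntegral X] [IsProper (X ↘ Spec (CommRingCat.of k))]

/-- on an integral proper `k`-scheme, if some cohomology group is one-dimensional over `k` then
`H⁰(X, O_X)` is one-dimensional: the field `Γ(X, O_X)` acts on every cohomology group -/
theorem finrank_H0_eq_one (Q : X.Modules) (n : ℕ) (hV : Module.finrank k (Coh.HH X Q n) = 1) :
    Module.finrank k (Coh.HH X (Coh.structureModule X) 0) = 1 := by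
  -- `K = Γ(X, O_X)` is a field, finite over `k`
  letI alg : Algebra k Γ(X, ⊤) := (toΓ k X).toAlgebra
  haveI : Nonempty (⊤ : X.Opens) := ⟨⟨Classical.arbitrary X, trivial⟩⟩
  haveI : IsDomain Γ(X, ⊤) := inferInstance
  let O := Coh.structureModule X
  have hcO : Coh.IsCoh O := Groth.Agent.Lib.Helper6.DevRed.isCoh_structureModule
  haveI := finite_HH k X O hcO 0
  let E : Coh.HH X O 0 ≃ₗ[k] Γ(X, ⊤) :=
    { e0 O with
      map_smul' := fun c x => by
        have h := e0_smulΓ O (Coh.toGlobal (X ↘ Spec (CommRingCat.of k)) c) x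
        exact h }
  haveI : Module.Finite k Γ(X, ⊤) := Module.Finite.equiv E
  haveI : Algebra.IsIntegral k Γ(X, ⊤) := Algebra.IsIntegral.of_finite k _
  have hK : IsField Γ(X, ⊤) := isField_of_isIntegral_of_isField' (Field.toIsField k)
  -- every global function is a scalar
  have hinv : ∀ a : Coh.Γtop X, a ≠ 0 → ∃ b : Coh.Γtop X, b * a = 1 := by
    intro a ha
    obtain ⟨b, hb⟩ := hK.mul_inv_cancel (a := (show Γ(X, ⊤) from a)) ha
    exact ⟨b, (mul_comm (show Γ(X, ⊤) from b) (show Γ(X, ⊤) from a)).trans hb⟩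
  obtain ⟨v₀, hv₀, hspan⟩ := finrank_eq_one_iff'.1 hV
  have hscal : ∀ a : Coh.Γtop X, ∃ c : k, a = Coh.toGlobal (X ↘ Spec (CommRingCat.of k)) c := by
    intro a
    obtain ⟨c, hc⟩ := hspan (a • v₀)
    refine ⟨c, ?_⟩
    by_contra hne
    set a' : Coh.Γtop X := a - Coh.toGlobal (X ↘ Spec (CommRingCat.of k)) c with ha'
    have hne' : a' ≠ 0 := sub_ne_zero.2 hne
    obtain ⟨b, hb⟩ := hinv a' hne'
    have hc' : Coh.toGlobal (X ↘ Spec (CommRingCat.of k)) c • v₀ = a • v₀ := hc
    have h0 : a' • v₀ = 0 := by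
      rw [ha', sub_smul, hc', sub_self]
    apply hv₀
    have h1 : (b * a') • v₀ = 0 := by
      rw [mul_smul, h0, smul_zero]
    rw [hb, one_smul] at h1
    exact h1
  -- hence `H⁰(O)` is spanned by one element
  refine finrank_eq_one_iff'.2 ⟨E.symm 1, ?_, ?_⟩
  · intro h
    have := congrArg E h
    rw [LinearEquiv.apply_symm_apply, map_zero] at this
    exact one_ne_zero this
  · intro w
    obtain ⟨c, hc⟩ := hscal (show Coh.Γtop X from E w)
    refine ⟨c, ?_⟩
    apply E.injective
    rw [map_smul, LinearEquiv.apply_symm_apply, Algebra.smul_def, mul_one]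
    exact hc.symm

end Groth.Agent.Lib.Helper8.H0Field
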