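import Mathlib
import Groth.Agent.Lib.Helper8.CurveDeg1
import Groth.Agent.Lib.Helper4.DimOneConstructible
import Groth.Agent.Lib.Helper8.CurveRR

/-! # Helper8 — nonconstant morphisms of proper integral curves are finite; generic fibre is the generic point -/
set_option autoImplicit false
universe u
open CategoryTheory CategoryTheory.Limits AlgebraicGeometry Opposite TopologicalSpace
noncomputable section

namespace Groth.Agent.Lib.Helper8.CurveMap

open Groth.Agent.Lib.Helper8.CurveDeg

section top

variable {X Y : Scheme.{u}} [IsIntegral X] [IsIntegral Y]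

/-- the generic point of an integral scheme of dimension one is not closed -/
theorem not_isClosed_genericPoint (hY : topologicalKrullDim Y = 1) :
    ¬ IsClosed ({genericPoint Y} : Set Y) := by
  intro hcl
  have huniv : ({genericPoint Y} : Set Y) = Set.univ := by
    rw [← hcl.closure_eq, (genericPoint_spec Y).def]
  haveI : Subsingleton Y := ⟨fun a b => by
    have ha : a ∈ ({genericPoint Y} : Set Y) := by rw [huniv]; trivial
    have hb : b ∈ ({genericPoint Y} : Set Y) := by rw [huniv]; trivial
    rw [Set.mem_singleton_iff.1 ha, Set.mem_singleton_iff.1 hb]⟩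
  haveI : Subsingleton (IrreducibleCloseds Y) := ⟨fun T₁ T₂ => by
    apply IrreducibleCloseds.ext
    ext y
    constructor
    · intro _
      obtain ⟨z, hz⟩ := T₂.isIrreducible.nonempty
      rwa [Subsingleton.elim y z]
    · intro _
      obtain ⟨z, hz⟩ := T₁.isIrreducible.nonempty
      rwa [Subsingleton.elim y z]⟩
  have h0 : topologicalKrullDim Y ≤ 0 := Order.krullDim_nonpos_of_subsingleton
  rw [hY] at h0
  exact absurd h0 (by norm_num)

/-- a closed map between integral schemes of dimension one sending the generic point to the generic
point has no other point over the generic point -/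
theorem eq_genericPoint_of_map_eq (hX : topologicalKrullDim X ≤ 1) (hY : topologicalKrullDim Y = 1)
    (f : X ⟶ Y) (hcl : IsClosedMap f.base) (x : X) (hx : f.base x = genericPoint Y) :
    x = genericPoint X := by
  by_contra hne
  have h1 : IsClosed ({x} : Set X) := isClosed_singleton_of_ne_genericPoint hX x hne
  have h2 := hcl _ h1
  rw [Set.image_singleton, hx] at h2
  exact not_isClosed_genericPoint hY h2

/-- fibres of such a map are finite -/
theorem finite_preimage_singleton [IsNoetherian X] (hX : topologicalKrullDim X ≤ 1)
    (hY : topologicalKrullDim Y = 1)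
    (f : X ⟶ Y) (hcl : IsClosedMap f.base) (hξ : f.base (genericPoint X) = genericPoint Y) (y : Y) :
    (f.base ⁻¹' {y}).Finite := by
  by_cases hy : y = genericPoint Y
  · subst hy
    refine (Set.finite_singleton (genericPoint X)).subset fun x hx => ?_
    exact eq_genericPoint_of_map_eq hX hY f hcl x hx
  · have hycl : IsClosed ({y} : Set Y) := isClosed_singleton_of_ne_genericPoint hY.le y hy
    have hcl' : IsClosed (f.base ⁻¹' {y}) := hycl.preimage f.base.hom.continuous
    refine (Groth.Agent.Lib.Helper4.DimOneConstructible.closed_proper_finite hX _ hcl' ?_).1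
    intro h
    have : genericPoint X ∈ f.base ⁻¹' {y} := by rw [h]; trivial
    exact hy (this.symm.trans hξ)

end top

section finite

variable (k : Type u) [Field k] {X Y : Scheme.{u}} [X.Over (Spec (CommRingCat.of k))]
  [Y.Over (Spec (CommRingCat.of k))] [IsIntegral X] [IsIntegral Y]
  [IsProper (X ↘ (Spec (CommRingCat.of k)))] [IsProper (Y ↘ (Spec (CommRingCat.of k)))]

include k in
theorem isProper_of_over (f : X ⟶ Y)
    (hf : f ≫ (Y ↘ (Spec (CommRingCat.of k))) = X ↘ (Spec (CommRingCat.of k))) : IsProper f := by
  haveI : IsProper (f ≫ (Y ↘ (Spec (CommRingCat.of k)))) := by rw [hf]; infer_instance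
  exact IsProper.of_comp f (Y ↘ (Spec (CommRingCat.of k)))

include k in
/-- a nonconstant morphism of proper integral curves is finite -/
theorem isFinite_of_curves (hX : topologicalKrullDim X = 1) (hY : topologicalKrullDim Y = 1) (f : X ⟶ Y)
    (hf : f ≫ (Y ↘ (Spec (CommRingCat.of k))) = X ↘ (Spec (CommRingCat.of k)))
    (hξ : f.base (genericPoint X) = genericPoint Y) : IsFinite f := by
  haveI : IsProper f := isProper_of_over k f hf
  haveI : IsNoetherian X := Groth.Agent.Lib.Helper8.CurveRR.isNoetherian k X
  have hcl : IsClosedMap f.base := f.isClosedMap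
  haveI : LocallyQuasiFinite f :=
    LocallyQuasiFinite.of_finite_preimage_singleton f
      (finite_preimage_singleton hX.le hY f hcl hξ)
  exact IsFinite.of_isProper_of_locallyQuasiFinite f

end finite

end Groth.Agent.Lib.Helper8.CurveMap
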