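import Mathlib
import Groth.Agent.S3557
import Groth.Agent.S10829
import Groth.Agent.Lib.Helper17.PnUFD
import Groth.Agent.Lib.Helper28.ProjSpaceBasic
import Groth.Agent.Lib.Helper28.VeryAmpleImm

/-! # Helper8 — projective space over a field: integral, integrally closed local rings, standard charts -/
set_option autoImplicit false
universe u
open CategoryTheory CategoryTheory.Limits AlgebraicGeometry Opposite TopologicalSpace

noncomputable section
namespace Groth.Agent.Lib.Helper8.P1Facts

variable (n : ℕ) (k : Type u) [Field k]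

theorem X_mem_irrelevant (i : Fin (n + 1)) :
    (MvPolynomial.X i : MvPolynomial (Fin (n + 1)) k) ∈
      (HomogeneousIdeal.irrelevant (CohB1.polyGrading n k)).toIdeal := by
  have h : (MvPolynomial.X i : MvPolynomial (Fin (n + 1)) k) ∈ CohB1.polyGrading n k 1 :=
    MvPolynomial.isHomogeneous_X k i
  change (MvPolynomial.X i : MvPolynomial (Fin (n + 1)) k) ∈ HomogeneousIdeal.irrelevant (CohB1.polyGrading n k)
  rw [HomogeneousIdeal.mem_irrelevant_iff]
  rw [GradedRing.proj_apply, DirectSum.decompose_of_mem_ne (CohB1.polyGrading n k) h (by norm_num)]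

/-- projective space over a field is integral -/
instance isIntegral_projSpace : IsIntegral (CohB1.ProjSpace n k) := by
  unfold CohB1.ProjSpace
  rw [Groth.Agent.S3557.main (CohB1.polyGrading n k) (fun f _ hf => hf.eq_zero)]
  refine ⟨⟨MvPolynomial.X 0, X_mem_irrelevant n k 0, MvPolynomial.X_ne_zero 0⟩, ?_⟩
  intro f _ g _ hfg
  exact mul_eq_zero.mp hfg

/-- every point of projective space lies in a standard chart -/
theorem exists_mem_chart (x : CohB1.ProjSpace n k) :
    ∃ i : Fin (n + 1), x ∈ Proj.basicOpen (CohB1.polyGrading n k) (MvPolynomial.X i) :=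
  Groth.Agent.Lib.Helper28.Segre5.cover_of_adjoin (CohB1.polyGrading n k)
    (fun j : Fin (n + 1) => (MvPolynomial.X j : MvPolynomial (Fin (n + 1)) k))
    (fun j => MvPolynomial.isHomogeneous_X k j) (MvPolynomial.adjoin_range_X) x

/-- the local rings of projective space over a field are integrally closed -/
theorem isIntegrallyClosed_stalk (x : CohB1.ProjSpace n k) :
    IsIntegrallyClosed ((CohB1.ProjSpace n k).presheaf.stalk x) := by
  obtain ⟨i, hx⟩ := exists_mem_chart n k x
  have hX1 : (MvPolynomial.X i : MvPolynomial (Fin (n + 1)) k) ∈ CohB1.polyGrading n k 1 :=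
    MvPolynomial.isHomogeneous_X k i
  have hU : IsAffineOpen (Proj.basicOpen (CohB1.polyGrading n k) (MvPolynomial.X i)) :=
    Proj.isAffineOpen_basicOpen (CohB1.polyGrading n k) _ hX1 one_pos
  let e := Proj.basicOpenIsoAway (CohB1.polyGrading n k) (MvPolynomial.X i) hX1 one_pos
  haveI : IsDomain (HomogeneousLocalization.Away (CohB1.polyGrading n k)
      (MvPolynomial.X i : MvPolynomial (Fin (n + 1)) k)) :=
    Groth.Agent.Lib.Helper17.PnUFD.isDomain_away n k i
  haveI : UniqueFactorizationMonoid (HomogeneousLocalization.Away (CohB1.polyGrading n k)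
      (MvPolynomial.X i : MvPolynomial (Fin (n + 1)) k)) :=
    Groth.Agent.Lib.Helper17.PnUFD.ufm_away n k i
  haveI : IsIntegrallyClosed (HomogeneousLocalization.Away (CohB1.polyGrading n k)
      (MvPolynomial.X i : MvPolynomial (Fin (n + 1)) k)) := inferInstance
  haveI : IsDomain Γ(Proj (CohB1.polyGrading n k),
      Proj.basicOpen (CohB1.polyGrading n k) (MvPolynomial.X i)) :=
    e.commRingCatIsoToRingEquiv.symm.toMulEquiv.isDomain _
  haveI : IsIntegrallyClosed Γ(Proj (CohB1.polyGrading n k),
      Proj.basicOpen (CohB1.polyGrading n k) (MvPolynomial.X i)) :=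
    IsIntegrallyClosed.of_equiv e.commRingCatIsoToRingEquiv
  have hloc := hU.isLocalization_stalk ⟨x, hx⟩
  letI := (Proj (CohB1.polyGrading n k)).presheaf.algebra_section_stalk ⟨x, hx⟩
  exact isIntegrallyClosed_of_isLocalization ((Proj (CohB1.polyGrading n k)).presheaf.stalk x)
    (hU.primeIdealOf ⟨x, hx⟩).asIdeal.primeCompl
    (Ideal.primeCompl_le_nonZeroDivisors _)

end Groth.Agent.Lib.Helper8.P1Facts
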