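import Mathlib
import Groth.Agent.Lib.Helper8.CurveDeg1
import Groth.Agent.Lib.Helper8.KillA
import Groth.Agent.Lib.Helper17.GGStalk2
import Groth.Agent.Lib.Helper6.DevCore

/-! # Helper8 — two sections of a degree-one invertible module on an integral proper curve generate it (Euler characteristic count), cover by generation loci -/
set_option autoImplicit false
universe u
open CategoryTheory CategoryTheory.Limits AlgebraicGeometry Opposite TopologicalSpace

noncomputable section
namespace Groth.Agent.Lib.Helper8.P1Gen

open Groth.Agent.Lib.Helper8.EulerK Groth.Agent.Lib.Helper8.CurveInv Groth.Agent.Lib.Helper8.CurveDeg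

section eulerH0

variable (k : Type u) [Field k] (X : Scheme.{u}) [X.Over (Spec (CommRingCat.of k))]

/-- for a coherent module supported in closed points, the Euler characteristic is `h⁰` -/
theorem euler_eq_h0 [IsLocallyNoetherian X] (M : X.Modules) (hcM : Coh.IsCoh M)
    (h0 : ∀ x ∈ CohB1.support M, IsClosed ({x} : Set X)) :
    Curv2.euler k X M = (Module.finrank k (Coh.HH X M 0) : ℤ) := by
  rw [euler_eq_sum k X M 1 (fun p hp => by
    obtain ⟨n, rfl⟩ := Nat.exists_eq_succ_of_ne_zero (by omega : p ≠ 0)
    exact subsingleton_HH_succ M hcM h0 n)]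
  simp

end eulerH0

section main

variable (k : Type u) [Field k] (X : Scheme.{u}) [X.Over (Spec (CommRingCat.of k))]
  [IsIntegral X] [IsProper (X ↘ Spec (CommRingCat.of k))]

/-- **generation by two sections**: on an integral proper curve, if `L` is invertible of degree one,
`s` is a nonzero section and `t` is a section not of the form `u ≫ s`, then `t` generates the cokernel
of `s` -/
theorem epi_comp_cokernel (hdim : topologicalKrullDim X ≤ 1) {L : X.Modules} (hL : PicF.IsInvertible L)
    (hdeg : Curv2.deg k X L 1 = 1) (s t : Coh.structureModule X ⟶ L) (hs : s ≠ 0)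
    (ht : ∀ u : Coh.structureModule X ⟶ Coh.structureModule X, t ≠ u ≫ s) :
    Epi (t ≫ cokernel.π s) := by
  haveI : IsLocallyNoetherian X := isLocallyNoetherian k X
  have hO := isInvertible_structureModule (X := X)
  haveI : Mono s := mono_of_ne_zero hO hL s hs
  have hcO := Groth.Agent.Lib.Helper6.K0Op.isCoh_of_isInvertible _ hO
  have hcL := Groth.Agent.Lib.Helper6.K0Op.isCoh_of_isInvertible L hL
  have hcQs := Groth.Agent.Lib.Helper6.DevCore.isCoh_cokernel s hcO hcL
  have hclQs := support_cokernel_closedPoints hdim hO hL s hs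
  -- `h⁰(Q_s) = 1`
  have h1 : Module.finrank k (Coh.HH X (cokernel s) 0) = 1 := by
    have := (euler_eq_add k X hdim _ L hO hL s hs).1
    unfold Curv2.deg at hdeg
    omega
  set q := t ≫ cokernel.π s with hq
  -- `q ≠ 0`
  have hq0 : q ≠ 0 := by
    intro h0
    have hex : (ShortComplex.mk s (cokernel.π s) (cokernel.condition s)).Exact :=
      ShortComplex.exact_cokernel s
    haveI : Mono (ShortComplex.mk s (cokernel.π s) (cokernel.condition s)).f := by
      dsimp; infer_instance
    exact ht (hex.lift t h0) (hex.lift_f t h0).symm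
  -- the image and the cokernel of `q`
  have hcK := Groth.Agent.Lib.Helper6.DevCore.isCoh_kernel (cokernel.π q) hcQs
    (Groth.Agent.Lib.Helper6.DevCore.isCoh_cokernel q hcO hcQs)
  have hcQ := Groth.Agent.Lib.Helper6.DevCore.isCoh_cokernel q hcO hcQs
  have hclK : ∀ x ∈ CohB1.support (kernel (cokernel.π q)), IsClosed ({x} : Set X) := fun x hx =>
    hclQs x (Groth.Agent.Lib.Helper6.DevCore.support_subset_of_mono (kernel.ι (cokernel.π q)) hx)
  have hclQ : ∀ x ∈ CohB1.support (cokernel q), IsClosed ({x} : Set X) := fun x hx =>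
    hclQs x (Groth.Agent.Lib.Helper6.DevCore.support_subset_of_epi (cokernel.π q) hx)
  have hS : (ShortComplex.mk (kernel.ι (cokernel.π q)) (cokernel.π q) (kernel.condition _)).ShortExact :=
    { exact := ShortComplex.exact_kernel _
      mono_f := by dsimp; infer_instance
      epi_g := by dsimp; infer_instance }
  have hadd := euler_add k X _ hS hcK hcQs hcQ
  dsimp at hadd
  rw [euler_eq_h0 k X _ hcK hclK, euler_eq_h0 k X _ hcQs hclQs, euler_eq_h0 k X _ hcQ hclQ, h1] at hadd
  -- the image is nonzero
  have hK : ¬ IsZero (kernel (cokernel.π q)) := by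
    intro hZ
    apply hq0
    have : q = Abelian.factorThruImage q ≫ Abelian.image.ι q := (Abelian.image.fac q).symm
    rw [this]
    have h0 : Abelian.image.ι q = 0 := hZ.eq_of_src _ _
    rw [h0, comp_zero]
  haveI := nontrivial_HH_zero _ hcK hclK hK
  haveI := finite_HH k X _ hcK 0
  have hpos := Module.finrank_pos (R := k) (M := Coh.HH X (kernel (cokernel.π q)) 0)
  have hZ : IsZero (cokernel q) := by
    by_contra hnz
    haveI := nontrivial_HH_zero _ hcQ hclQ hnz
    haveI := finite_HH k X _ hcQ 0
    have := Module.finrank_pos (R := k) (M := Coh.HH X (cokernel q) 0)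
    omega
  exact Preadditive.epi_of_isZero_cokernel q hZ

omit [IsIntegral X] [IsProper (X ↘ Spec (CommRingCat.of k))] [X.Over (Spec (CommRingCat.of k))] in
/-- if `t` generates the cokernel of `s`, then at every point one of `s`, `t` generates the
invertible module `L` -/
theorem cover_of_epi {L : X.Modules} (hL : PicF.IsInvertible L)
    (s t : Coh.structureModule X ⟶ L) (h : Epi (t ≫ cokernel.π s)) (x : X) :
    ∃ j : Fin 2, x ∈ CohB1.genLocus L ((![s, t] : Fin 2 → (Coh.structureModule X ⟶ L)) j) := by
  let T : Fin 2 → (Coh.structureModule X ⟶ L) := ![s, t]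
  let f : Fin 2 → X.Modules := fun _ => Coh.structureModule X
  let c : Cofan f := Cofan.mk (∐ f) (Sigma.ι f)
  have hc : IsColimit c := coproductIsCoproduct f
  let p : c.pt ⟶ L := Sigma.desc T
  have hp : Epi p := by
    apply Preadditive.epi_of_cancel_zero
    intro Z g hg
    have hs0 : s ≫ g = 0 := by
      have : Sigma.ι f 0 ≫ p ≫ g = 0 := by rw [hg, comp_zero]
      rw [← Category.assoc] at this
      have h2 : Sigma.ι f 0 ≫ p = T 0 := Sigma.ι_desc T 0
      rw [h2] at this
      exact this
    have ht0 : t ≫ g = 0 := by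
      have : Sigma.ι f 1 ≫ p ≫ g = 0 := by rw [hg, comp_zero]
      rw [← Category.assoc] at this
      have h2 : Sigma.ι f 1 ≫ p = T 1 := Sigma.ι_desc T 1
      rw [h2] at this
      exact this
    have hg' : g = cokernel.π s ≫ cokernel.desc s g hs0 := (cokernel.π_desc s g hs0).symm
    have h3 : (t ≫ cokernel.π s) ≫ cokernel.desc s g hs0 = 0 := by
      rw [Category.assoc, ← hg', ht0]
    have h4 : cokernel.desc s g hs0 = 0 := by
      rw [← cancel_epi (t ≫ cokernel.π s), h3, comp_zero]
    rw [hg', h4, comp_zero]
  have hspan := Groth.Agent.Lib.Helper17.GGStalk.span_germs_eq_top_of_isColimit c hc p hp x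
  have hT : ∀ j : Fin 2, c.inj j ≫ p = T j := fun j => Sigma.ι_desc T j
  simp only [hT] at hspan
  exact Groth.Agent.Lib.Helper17.GGStalk.exists_mem_genLocus_of_span_germs L hL T x hspan

end main

end Groth.Agent.Lib.Helper8.P1Gen
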