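import Groth.Agent.Lib.Helper8.StalkPush
import Groth.Agent.Lib.Helper8.CurveMap
import Groth.Agent.Lib.Helper6.K0Tensor
import Groth.Agent.Lib.Helper6.K0Op
import Groth.Agent.Lib.Helper28.AmpleUnit

/-! # Helper8 — generic rank of `f_* O_X` for a closed map: `(f_* O_X)_{f x}` vs `O_{X,x}` and the residue degree -/
set_option autoImplicit false
universe u
open CategoryTheory CategoryTheory.Limits AlgebraicGeometry Opposite TopologicalSpace
noncomputable section

namespace Groth.Agent.Lib.Helper8.GenRank

open Groth.Agent.Lib.Helper28.QCohLoc Groth.Agent.Lib.Helper29.QCohStalk Groth.Agent.Lib.Helper8.StalkPush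

variable {X Y : Scheme.{u}} (f : X ⟶ Y) (N : X.Modules)

/-- the comparison map `(f_* N)_{f x} → N_x` -/
def stalkPush (x : X) :
    ((Scheme.Modules.pushforward f).obj N).presheaf.stalk (f.base x) →+ N.presheaf.stalk x :=
  (TopCat.Presheaf.stalkPushforward Ab f.base N.presheaf x).hom

theorem stalkPush_gm (x : X) (V : Y.Opens) (hx : f.base x ∈ V)
    (s : Γ((Scheme.Modules.pushforward f).obj N, V)) :
    stalkPush f N x (gm ((Scheme.Modules.pushforward f).obj N) V (f.base x) hx s) =
      gm N (f ⁻¹ᵁ V) x hx (show Γ(N, f ⁻¹ᵁ V) from s) := by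
  have h := TopCat.Presheaf.stalkPushforward_germ Ab f.base N.presheaf V x hx
  exact congrArg (fun θ => θ s) h

theorem stalkPush_smul (x : X) (a : Y.presheaf.stalk (f.base x))
    (t : ((Scheme.Modules.pushforward f).obj N).presheaf.stalk (f.base x)) :
    stalkPush f N x (a • t) = (f.stalkMap x).hom a • stalkPush f N x t := by
  obtain ⟨V, hV, a₀, rfl⟩ := TopCat.Presheaf.exists_germ_eq Y.presheaf a
  obtain ⟨V', hle, hV', s, rfl⟩ := TopCat.Presheaf.exists_le_germ_eq
    ((Scheme.Modules.pushforward f).obj N).presheaf t hV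
  have ha : Y.presheaf.germ V (f.base x) hV a₀ = Y.presheaf.germ V' (f.base x) hV' (resO hle a₀) :=
    (germ_resO hle (f.base x) hV' a₀).symm
  rw [ha]
  have h1 := gm_smul ((Scheme.Modules.pushforward f).obj N) V' (f.base x) hV' (resO hle a₀) s
  rw [← h1, stalkPush_gm, stalkPush_gm]
  have h2 : (f.stalkMap x).hom (Y.presheaf.germ V' (f.base x) hV' (resO hle a₀)) =
      X.presheaf.germ (f ⁻¹ᵁ V') x hV' (f.app V' (resO hle a₀)) :=
    Scheme.Hom.germ_stalkMap_apply f V' x hV' _
  rw [h2]
  exact gm_smul N (f ⁻¹ᵁ V') x hV' (f.app V' (resO hle a₀)) (show Γ(N, f ⁻¹ᵁ V') from s)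

theorem stalkPush_bijective (hcl : IsClosedMap f.base) (x : X) (hfib : f.base ⁻¹' {f.base x} = {x}) :
    Function.Bijective (stalkPush f N x) :=
  stalkPushforward_bijective f.base N.presheaf hcl x hfib

/-- for a closed map `f` and a point `x` alone in its fibre, the rank of `(f_* O_X)_{f x}` over `O_{Y, f x}` is the
rank of `O_{X,x}` over `O_{Y, f x}` -/
theorem finrank_stalk_push (hcl : IsClosedMap f.base) (x : X) (hfib : f.base ⁻¹' {f.base x} = {x}) :
    letI := (f.stalkMap x).hom.toAlgebra
    Module.finrank (Y.presheaf.stalk (f.base x))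
      (((Scheme.Modules.pushforward f).obj (Coh.structureModule X)).presheaf.stalk (f.base x)) =
    Module.finrank (Y.presheaf.stalk (f.base x)) (X.presheaf.stalk x) := by
  letI alg : Algebra (Y.presheaf.stalk (f.base x)) (X.presheaf.stalk x) := (f.stalkMap x).hom.toAlgebra
  obtain ⟨b⟩ := Groth.Agent.Lib.Helper6.K0Tensor.exists_stalkBasis (Coh.structureModule X)
    (Groth.Agent.Lib.Helper6.K0Op.isFinLocFreeOfRank_one_of_isInvertible _
      (Groth.Agent.Lib.Helper28.AmpleUnit.isInvertible_structureModule X)) x
  letI modN : Module (Y.presheaf.stalk (f.base x)) ((Coh.structureModule X).presheaf.stalk x) :=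
    Module.compHom _ (f.stalkMap x).hom
  haveI : IsScalarTower (Y.presheaf.stalk (f.base x)) (X.presheaf.stalk x)
      ((Coh.structureModule X).presheaf.stalk x) := ⟨fun a r m => by
    change ((f.stalkMap x).hom a * r) • m = (f.stalkMap x).hom a • (r • m)
    rw [mul_smul]⟩
  let e1 : ((Scheme.Modules.pushforward f).obj (Coh.structureModule X)).presheaf.stalk (f.base x)
      ≃ₗ[Y.presheaf.stalk (f.base x)] (Coh.structureModule X).presheaf.stalk x :=
    LinearEquiv.ofBijective
      ({ toFun := stalkPush f (Coh.structureModule X) x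
         map_add' := map_add _
         map_smul' := fun a t => stalkPush_smul f (Coh.structureModule X) x a t } :
        ((Scheme.Modules.pushforward f).obj (Coh.structureModule X)).presheaf.stalk (f.base x)
          →ₗ[Y.presheaf.stalk (f.base x)] (Coh.structureModule X).presheaf.stalk x)
      (stalkPush_bijective f (Coh.structureModule X) hcl x hfib)
  let e2 : (Coh.structureModule X).presheaf.stalk x ≃ₗ[X.presheaf.stalk x] X.presheaf.stalk x :=
    b.repr ≪≫ₗ Finsupp.uniqueLinearEquiv (X.presheaf.stalk x) (X.presheaf.stalk x) (0 : Fin 1)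
  exact (e1.trans (e2.restrictScalars (Y.presheaf.stalk (f.base x)))).finrank_eq

/-- a local ring which is a field maps isomorphically to its residue field -/
theorem residue_bijective {R : Type*} [CommRing R] [IsLocalRing R] (hR : IsField R) :
    Function.Bijective (IsLocalRing.residue R) := by
  refine ⟨?_, IsLocalRing.residue_surjective⟩
  rw [RingHom.injective_iff_ker_eq_bot, IsLocalRing.ker_residue]
  exact IsLocalRing.isField_iff_maximalIdeal_eq.1 hR

/-- at a point where both local rings are fields, the rank of `O_{X,x}` over `O_{Y, f x}` is the residue degree -/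
theorem finrank_stalk_eq_residueDegree (x : X) (hX : IsField (X.presheaf.stalk x))
    (hY : IsField (Y.presheaf.stalk (f.base x))) :
    letI := (f.stalkMap x).hom.toAlgebra
    Module.finrank (Y.presheaf.stalk (f.base x)) (X.presheaf.stalk x) = f.residueDegree x := by
  letI alg : Algebra (Y.presheaf.stalk (f.base x)) (X.presheaf.stalk x) := (f.stalkMap x).hom.toAlgebra
  letI alg' : Algebra (Y.residueField (f.base x)) (X.residueField x) :=
    (f.residueFieldMap x).hom.toAlgebra
  unfold Scheme.Hom.residueDegree
  refine Algebra.finrank_eq_of_equiv_equiv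
    (RingEquiv.ofBijective (IsLocalRing.residue (Y.presheaf.stalk (f.base x))) (residue_bijective hY))
    (RingEquiv.ofBijective (IsLocalRing.residue (X.presheaf.stalk x)) (residue_bijective hX)) ?_
  ext a
  have h := Scheme.residue_residueFieldMap f x
  exact congrArg (fun θ => θ.hom a) h

end Groth.Agent.Lib.Helper8.GenRank
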