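import Mathlib
import Groth.Agent.Lib.Helper8.P1Facts
import Groth.Agent.Lib.Helper8.P1Gen
import Groth.Agent.Lib.Helper8.CurveMap
import Groth.Agent.Lib.Helper13.IntBirational
import Groth.Agent.Lib.Helper28.TwistCov
import Groth.Agent.Lib.Helper28.TensorIso
import Groth.Agent.Lib.Helper28.AmpleSep
import Groth.Agent.S7640
import Groth.Agent.S3572

/-! # Helper8 — the core criterion for the projective line: an integral proper curve with an invertible module of degree one and two independent sections is P^1 (via S3572, the degree formula S7640 and normality of P^1) -/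
set_option autoImplicit false
universe u
open CategoryTheory CategoryTheory.Limits AlgebraicGeometry Opposite TopologicalSpace

noncomputable section
namespace Groth.Agent.Lib.Helper8.P1Core

open Groth.Agent.Lib.Helper8.EulerK Groth.Agent.Lib.Helper8.CurveInv Groth.Agent.Lib.Helper8.CurveDeg
  Groth.Agent.Lib.Helper8.P1Gen Groth.Agent.Lib.Helper8.P1Facts
  Groth.Agent.Lib.Helper28 Groth.Agent.Lib.Helper28.QCohLoc Groth.Agent.Lib.Helper28.GenLocus

section stalk

variable {X Y : Scheme.{u}} [IsIntegral X]

/-- at the generic point of an integral scheme, a morphism of residue degree one is surjective on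
stalks -/
theorem stalkMap_surjective_of_residueDegree_eq_one (f : X ⟶ Y)
    (h : f.residueDegree (genericPoint X) = 1) :
    Function.Surjective (f.stalkMap (genericPoint X)).hom := by
  set ξ := genericPoint X with hξ
  letI := (f.residueFieldMap ξ).hom.toAlgebra
  have h1 : Module.finrank (Y.residueField (f ξ)) (X.residueField ξ) = 1 := h
  have hsurj : Function.Surjective (f.residueFieldMap ξ).hom := by
    have hbt := Subalgebra.bot_eq_top_of_finrank_eq_one h1
    have := (Algebra.surjective_algebraMap_iff (R := Y.residueField (f ξ)) (A := X.residueField ξ)).2 hbt.symm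
    exact this
  have hfield : IsField (X.presheaf.stalk ξ) := Field.toIsField (X.functionField)
  have hinj : Function.Injective (X.residue ξ).hom := by
    letI : Field (X.presheaf.stalk ξ) := hfield.toField
    exact RingHom.injective _
  intro y
  obtain ⟨zb, hzb⟩ := hsurj ((X.residue ξ).hom y)
  obtain ⟨z, rfl⟩ := IsLocalRing.residue_surjective (R := Y.presheaf.stalk (f ξ)) zb
  refine ⟨z, hinj ?_⟩
  have hnat := Scheme.residue_residueFieldMap f ξ
  have := congrArg (fun φ => φ.hom z) hnat
  exact this.symm.trans hzb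

end stalk

section core

variable (k : Type u) [Field k] (X : Scheme.{u}) [X.Over (Spec (CommRingCat.of k))]
  [IsIntegral X] [IsProper (X ↘ Spec (CommRingCat.of k))]

omit [X.Over (Spec (CommRingCat.of k))] [IsIntegral X] [IsProper (X ↘ Spec (CommRingCat.of k))] in
theorem isIso_of_genLocus_eq_top {L : X.Modules} (s : Coh.structureModule X ⟶ L)
    (h : CohB1.genLocus L s = ⊤) : IsIso s :=
  TensorIso.isIso_of_bijective_on_basis s (fun _ => True) (fun U x hx => ⟨U, trivial, hx, le_rfl⟩)
    (fun W _ => bijective_app_of_le_genLocus s W (by rw [h]; exact le_top))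

/-- **the core criterion**: an integral proper curve with an invertible module of degree one having
a nonzero section `s` and a section `t` which is not a multiple of `s` is the projective line -/
theorem exists_iso_P1 (hdim : topologicalKrullDim X = 1) {L : X.Modules} (hL : PicF.IsInvertible L)
    (hdeg : Curv2.deg k X L 1 = 1) (s t : Coh.structureModule X ⟶ L) (hs : s ≠ 0)
    (ht : ∀ u : Coh.structureModule X ⟶ Coh.structureModule X, t ≠ u ≫ s) :
    ∃ e : X ≅ CohB1.ProjSpace 1 k,
      e.hom ≫ CohB1.ProjSpace.toSpec 1 k = X ↘ Spec (CommRingCat.of k) := by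
  let T : Fin 2 → (Coh.structureModule X ⟶ L) := ![s, t]
  have hcov : ∀ x : X, ∃ j, x ∈ CohB1.genLocus L (T j) := fun x =>
    cover_of_epi X hL s t (epi_comp_cokernel k X hdim.le hL hdeg s t hs ht) x
  obtain ⟨r, hr, τ, hτ⟩ := Groth.Agent.S3572.result (R := k) 1 (X ↘ Spec (CommRingCat.of k)) L hL
    (fun j => (secOf (T j) : ProjUP.Γm L)) (VeryAmpleImm.generatedBy_of_cover T hcov)
  haveI : IsProper ((CohB1.ProjSpace 1 k) ↘ Spec (CommRingCat.of k)) :=
    ProjSpaceBasic.isProper_toSpec 1 k
  have hP : topologicalKrullDim (CohB1.ProjSpace 1 k) = 1 := by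
    have := Groth.Agent.S10829.result k 1
    simpa using this
  have hpre : ∀ j : Fin 2, r ⁻¹ᵁ Proj.basicOpen (CohB1.polyGrading 1 k) (MvPolynomial.X j) =
      CohB1.genLocus L (T j) := by
    intro j
    have h1 := VeryAmpleImm.preimage_basicOpen_eq_genLocus (CohB1.polyGrading 1 k) r τ
      (VeryAmpleImm.projSpace_cover 1 k) (MvPolynomial.isHomogeneous_X k j)
    refine h1.trans ?_
    have h2 : VeryAmpleImm.sec (CohB1.polyGrading 1 k) r τ (MvPolynomial.isHomogeneous_X k j) =
        secOf (T j) := hτ j
    rw [h2, ofSection_secOf]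
  -- `r` is dominant
  have hξ : r.base (genericPoint X) = genericPoint (CohB1.ProjSpace 1 k) := by
    by_contra hne
    have hcl : IsClosed ({r.base (genericPoint X)} : Set (CohB1.ProjSpace 1 k)) :=
      isClosed_singleton_of_ne_genericPoint hP.le _ hne
    obtain ⟨j, hj⟩ := exists_mem_chart 1 k (r.base (genericPoint X))
    have htop : CohB1.genLocus L (T j) = ⊤ := by
      rw [← hpre j, eq_top_iff]
      intro x _
      have hsp : genericPoint X ⤳ x := (genericPoint_spec X).specializes trivial
      have hsp' : r.base (genericPoint X) ⤳ r.base x := hsp.map r.continuous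
      have hx : r.base x ∈ closure ({r.base (genericPoint X)} : Set (CohB1.ProjSpace 1 k)) :=
        hsp'.mem_closure
      rw [hcl.closure_eq, Set.mem_singleton_iff] at hx
      change r.base x ∈ Proj.basicOpen (CohB1.polyGrading 1 k) (MvPolynomial.X j)
      rw [hx]
      exact hj
    haveI := isIso_of_genLocus_eq_top X (T j) htop
    have hd0 : Curv2.deg k X L 1 = 0 := by
      unfold Curv2.deg
      rw [← euler_congr k (asIso (T j))]
      simp
    omega
  -- the degree formula
  have hO1 : PicF.IsInvertible (Twist.twistProjSpace 1 k 1) :=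
    TwistCov.isInvertible_twist _ (VeryAmpleImm.projSpace_cover 1 k) 1
  have hdegf := Groth.Agent.S7640.result k X (CohB1.ProjSpace 1 k) hdim hP r hr hξ 1 _
    (Groth.Agent.Lib.Helper6.K0Op.isFinLocFreeOfRank_one_of_isInvertible _ hO1)
  have hdegL : Curv2.deg k X ((Scheme.Modules.pullback r).obj (Twist.twistProjSpace 1 k 1)) 1 = 1 := by
    unfold Curv2.deg
    rw [euler_congr k τ]
    exact hdeg
  rw [hdegL] at hdegf
  have hres : r.residueDegree (genericPoint X) = 1 := by
    have h1 : ((r.residueDegree (genericPoint X) : ℤ)) ∣ 1 := ⟨_, hdegf⟩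
    have h2 := Int.natAbs_dvd_natAbs.2 h1
    simpa using h2
  haveI : IsFinite r := Groth.Agent.Lib.Helper8.CurveMap.isFinite_of_curves k hdim hP r hr hξ
  haveI : IsIso r := Groth.Agent.Lib.Helper13.IntBirational.isIso_of_isIntegralHom_of_birational r
    (isIntegrallyClosed_stalk 1 k) hξ (stalkMap_surjective_of_residueDegree_eq_one r hres)
  exact ⟨asIso r, hr⟩

open Groth.Agent.Lib.Helper8.KillA in
/-- the criterion in terms of dimensions: `h⁰(O) < h⁰(L)` and `deg L = 1` -/
theorem exists_iso_P1_of_lt (hdim : topologicalKrullDim X = 1) {L : X.Modules} (hL : PicF.IsInvertible L)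
    (hdeg : Curv2.deg k X L 1 = 1)
    (hlt : Module.finrank k (Coh.HH X (Coh.structureModule X) 0) < Module.finrank k (Coh.HH X L 0)) :
    ∃ e : X ≅ CohB1.ProjSpace 1 k,
      e.hom ≫ CohB1.ProjSpace.toSpec 1 k = X ↘ Spec (CommRingCat.of k) := by
  have hcL := Groth.Agent.Lib.Helper6.K0Op.isCoh_of_isInvertible L hL
  haveI := finite_HH k X L hcL 0
  haveI := finite_HH k X _ (Groth.Agent.Lib.Helper6.K0Op.isCoh_of_isInvertible _
    (isInvertible_structureModule (X := X))) 0
  have hpos : 0 < Module.finrank k (Coh.HH X L 0) := by omega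
  haveI : Nontrivial (Coh.HH X L 0) := Module.nontrivial_of_finrank_pos (R := k) hpos
  obtain ⟨q₀, hq₀⟩ := exists_ne (0 : Coh.HH X L 0)
  obtain ⟨s, hs⟩ := exists_hom_of_H0 L q₀
  have hs0 : s ≠ 0 := by
    rintro rfl
    exact hq₀ (hs.symm.trans (HHmap_zero_unitH L))
  have hrange : LinearMap.range (Canon.HHlin k s 0) ≠ ⊤ := by
    intro htop
    have h1 := LinearMap.finrank_range_le (Canon.HHlin k s 0)
    rw [htop, finrank_top] at h1
    omega
  obtain ⟨q, hq⟩ : ∃ q : Coh.HH X L 0, q ∉ LinearMap.range (Canon.HHlin k s 0) := by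
    by_contra hcon
    apply hrange
    rw [eq_top_iff]
    intro q _
    by_contra hq
    exact hcon ⟨q, hq⟩
  obtain ⟨t, ht⟩ := exists_hom_of_H0 L q
  refine exists_iso_P1 k X hdim hL hdeg s t hs0 ?_
  intro u hu
  apply hq
  refine ⟨HHmap u 0 (unitH X), ?_⟩
  change HHmap s 0 (HHmap u 0 (unitH X)) = q
  rw [← HHmap_comp, ← hu, ht]

end core

end Groth.Agent.Lib.Helper8.P1Core
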