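import Groth.Agent.Lib.Helper8.Vanish
import Groth.Agent.Lib.Helper8.P1Core
import Groth.Agent.Lib.Helper8.H0Field

/-! # Helper8 — invertible modules of every degree `0 ≤ r ≤ g` with `h⁰ = 1` on a regular integral proper curve over an algebraically closed field -/
set_option autoImplicit false
universe u
open CategoryTheory CategoryTheory.Limits AlgebraicGeometry Opposite TopologicalSpace
noncomputable section

namespace Groth.Agent.Lib.Helper8.LowDeg

open Groth.Agent.Lib.Helper8.EulerK Groth.Agent.Lib.Helper28 Groth.Agent.Lib.Helper8.KillA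
  Groth.Agent.Lib.Helper8.PointDeg Groth.Agent.Lib.Helper8.Descend Groth.Agent.Lib.Helper8.Vanish

/-- a point of an integral scheme of dimension `≤ 1`, other than the generic point, with regular
local ring has a principal nonzero maximal ideal -/
theorem maximalIdeal_isPrincipal_of_regular {X : Scheme.{u}} [IsIntegral X]
    (hdim : topologicalKrullDim X ≤ 1) (x : X) (hne : x ≠ genericPoint X)
    (hr : IsRegularLocalRing (X.presheaf.stalk x)) :
    (IsLocalRing.maximalIdeal (X.presheaf.stalk x)).IsPrincipal ∧
      IsLocalRing.maximalIdeal (X.presheaf.stalk x) ≠ ⊥ := by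
  have hnf := Groth.Agent.Lib.Helper8.NormalPt.not_isField_stalk x hne
  have hm : IsLocalRing.maximalIdeal (X.presheaf.stalk x) ≠ ⊥ := fun h =>
    hnf (IsLocalRing.isField_iff_maximalIdeal_eq.2 h)
  have hd : ringKrullDim (X.presheaf.stalk x) ≤ 1 := by
    rw [ringKrullDim_stalk_eq_coheight]
    exact (Groth.Agent.Lib.lead.StalkDimIneq.coheight_le_topologicalKrullDim X x).trans hdim
  have hsp := hr.spanFinrank_maximalIdeal
  have hfg : (IsLocalRing.maximalIdeal (X.presheaf.stalk x)).FG := IsNoetherian.noetherian _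
  have h0 : (IsLocalRing.maximalIdeal (X.presheaf.stalk x)).spanFinrank ≠ 0 := fun h =>
    hm ((Submodule.spanFinrank_eq_zero_iff_eq_bot hfg).1 h)
  have h1 : (IsLocalRing.maximalIdeal (X.presheaf.stalk x)).spanFinrank ≤ 1 := by
    rw [← hsp] at hd
    exact_mod_cast hd
  exact (Submodule.spanFinrank_eq_one_iff _).1 (by omega)


variable (k : Type u) [Field k] (X : Scheme.{u}) [X.Over (Spec (CommRingCat.of k))]
  [IsIntegral X] [IsProper (X ↘ Spec (CommRingCat.of k))]

/-- **invertible modules of degree `g - j` with exactly one section** (`0 ≤ j ≤ g`) on a regular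
integral proper curve over an algebraically closed field -/
theorem exists_deg_h0_one [IsAlgClosed k] (hdim : topologicalKrullDim X = 1)
    (hreg : ∀ x : X, IsRegularLocalRing (X.presheaf.stalk x)) :
    ∀ j : ℕ, j ≤ Curv2.genus k X → ∃ L : X.Modules, PicF.IsInvertible L ∧
      Curv2.deg k X L 1 = (Curv2.genus k X : ℤ) - j ∧ hh k L 0 = 1 := by
  haveI : IsLocallyNoetherian X := isLocallyNoetherian k X
  have hcO := Groth.Agent.Lib.Helper6.K0Op.isCoh_of_isInvertible _
    (AmpleUnit.isInvertible_structureModule X)
  intro j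
  induction j with
  | zero =>
    intro _
    obtain ⟨⟨L, hL, a0, a1⟩, -⟩ := exists_h0_h1 k X hdim
    refine ⟨L, hL, ?_, a0⟩
    have hLc := Groth.Agent.Lib.Helper6.K0Op.isCoh_of_isInvertible L hL
    have hO0 := Groth.Agent.Lib.Helper8.H0Field.finrank_H0_eq_one (X := X) (k := k) L 0 a0
    have eL := Groth.Agent.Lib.Helper8.CurveRR.euler_eq_sub k X hdim.le L hLc.1
    have eO := Groth.Agent.Lib.Helper8.CurveRR.euler_eq_sub k X hdim.le _ hcO.1
    unfold hh at a0 a1
    unfold Curv2.deg Curv2.genus
    rw [eL, eO, a0, a1, hO0]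
    push_cast
    ring
  | succ j ih =>
    intro hj
    obtain ⟨L, hL, hdeg, h0⟩ := ih (by omega)
    have hLc := Groth.Agent.Lib.Helper6.K0Op.isCoh_of_isInvertible L hL
    haveI := finite_HH k X _ hLc 0
    have hnt : Nontrivial (Coh.HH X L 0) := by
      apply Module.nontrivial_of_finrank_pos (R := k)
      unfold hh at h0
      omega
    obtain ⟨s, hs⟩ := Groth.Agent.Lib.Helper8.CurveRR.exists_section_ne_zero L hnt
    -- the section vanishes somewhere
    have hne : (CohB1.genLocus L s : Set X)ᶜ.Nonempty := by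
      by_contra hcon
      have htop : CohB1.genLocus L s = ⊤ := by
        ext z
        simp only [Opens.coe_top, Set.mem_univ, iff_true]
        by_contra hz
        exact hcon ⟨z, hz⟩
      haveI := Groth.Agent.Lib.Helper8.P1Core.isIso_of_genLocus_eq_top X s htop
      have hd0 : Curv2.deg k X L 1 = 0 := by
        unfold Curv2.deg
        rw [← euler_congr k (asIso s)]
        simp
      rw [hd0] at hdeg
      omega
    haveI : JacobsonSpace X := LocallyOfFiniteType.jacobsonSpace (X ↘ Spec (CommRingCat.of k))
    obtain ⟨x, hxs, hx⟩ := nonempty_inter_closedPoints hne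
      (CohB1.genLocus L s).isOpen.isClosed_compl.isLocallyClosed
    have hx' : IsClosed ({x} : Set X) := hx
    obtain ⟨p1, p2⟩ := maximalIdeal_isPrincipal_of_regular hdim.le x
      (Groth.Agent.Lib.Helper8.NormalPt.ne_genericPoint_of_isClosed hdim x hx') (hreg x)
    have hE := Groth.Agent.Lib.Helper8.PointCartier.isEffCartierIdeal_vanishingIdeal_singleton x hx'
      p1 p2
    have hQ := finrank_quotMod_of_isAlgClosed x hx' k
    obtain ⟨b1, b2, b3⟩ := twist_zero k X L hL s hs x hx' hxs hQ
    have hM := GenLocus.isInvertible_tensorMod hL (IdealDual.isInvertible_idealMod _ hE)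
    refine ⟨CohB1.tensorMod L (ClSub.idealMod (ptI x hx')), hM, ?_, by omega⟩
    unfold Curv2.deg at hdeg ⊢
    push_cast
    omega

end Groth.Agent.Lib.Helper8.LowDeg
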