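import Groth.Prelude.Def_PicGrp
import Groth.Agent.Lib.Helper16.TA1
import Groth.Agent.Lib.Helper6.K0Inv
import Groth.Agent.Lib.Helper28.AmpleUnit

/-! # Helper8 — the commutative monoid of isomorphism classes of `O_X`-modules under tensor product -/
set_option autoImplicit false
universe u
open CategoryTheory CategoryTheory.Limits AlgebraicGeometry Opposite TopologicalSpace
noncomputable section

namespace Groth.Agent.Lib.Helper8.PicCl

variable {X : Scheme.{u}}

theorem mulCl_assoc (a b c : PicF.Cl X) :
    PicGrp.mulCl (PicGrp.mulCl a b) c = PicGrp.mulCl a (PicGrp.mulCl b c) := by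
  induction a using Quot.ind with
  | mk L =>
  induction b using Quot.ind with
  | mk M =>
  induction c using Quot.ind with
  | mk N =>
  exact Quot.sound ⟨Groth.Agent.Lib.Helper16.TA.assocIso L M N⟩

theorem mulCl_comm (a b : PicF.Cl X) : PicGrp.mulCl a b = PicGrp.mulCl b a := by
  induction a using Quot.ind with
  | mk L =>
  induction b using Quot.ind with
  | mk M =>
  exact Quot.sound ⟨Groth.Agent.Lib.Helper6.K0Inv.braidIso L M⟩

theorem mulCl_one (a : PicF.Cl X) : PicGrp.mulCl a (PicF.cl (Coh.structureModule X)) = a := by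
  induction a using Quot.ind with
  | mk L =>
  exact Quot.sound (Groth.Agent.Lib.Helper28.AmpleUnit.nonempty_tensor_unit_iso L)

/-- isomorphism classes of modules form a commutative monoid under tensor product -/
@[reducible] def commMonoid (X : Scheme.{u}) : CommMonoid (PicF.Cl X) where
  mul := PicGrp.mulCl
  one := PicF.cl (Coh.structureModule X)
  mul_assoc := mulCl_assoc
  mul_comm := mulCl_comm
  one_mul a := by
    show PicGrp.mulCl _ a = a
    rw [mulCl_comm]; exact mulCl_one a
  mul_one := mulCl_one

attribute [local instance] commMonoid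

theorem cl_mul_cl (L M : X.Modules) : PicF.cl L * PicF.cl M = PicF.cl (CohB1.tensorMod L M) := rfl

theorem one_def : (1 : PicF.Cl X) = PicF.cl (Coh.structureModule X) := rfl

theorem cl_eq_iff (L M : X.Modules) : PicF.cl L = PicF.cl M ↔ Nonempty (L ≅ M) :=
  PicGrp.cl_eq_cl_iff L M

theorem isInverseOf_iff (L M : X.Modules) : ClSub.IsInverseOf L M ↔ PicF.cl L * PicF.cl M = 1 := by
  rw [cl_mul_cl, one_def, cl_eq_iff]
  rfl

end Groth.Agent.Lib.Helper8.PicCl
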