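import Groth.Agent.Lib.Helper8.TwistPt
import Groth.Agent.Lib.Helper8.PicCl
import Groth.Agent.Lib.Helper8.P1Core
import Groth.Agent.Lib.Helper8.LowDeg
import Groth.Agent.S1564

/-! # Helper8 — sections of invertible modules with a one-dimensional space of sections; the point of a degree-one module on a curve of positive genus -/
set_option autoImplicit false
universe u
open CategoryTheory CategoryTheory.Limits AlgebraicGeometry Opposite TopologicalSpace
noncomputable section

namespace Groth.Agent.Lib.Helper8.AbelG1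

open Groth.Agent.Lib.Helper8.EulerK Groth.Agent.Lib.Helper28 Groth.Agent.Lib.Helper8.KillA
  Groth.Agent.Lib.Helper8.PointDeg Groth.Agent.Lib.Helper28.GenLocus Groth.Agent.Lib.Helper28.HomMod

section general
variable {X : Scheme.{u}}

/-- precomposing a section with an automorphism of `O_X` does not change its generating locus -/
theorem genLocus_isIso_comp {L : X.Modules} (u : Coh.structureModule X ⟶ Coh.structureModule X)
    [IsIso u] (s : Coh.structureModule X ⟶ L) :
    CohB1.genLocus L (u ≫ s) = CohB1.genLocus L s := by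
  ext x
  show x ∈ CohB1.genLocus L (u ≫ s) ↔ x ∈ CohB1.genLocus L s
  rw [mem_genLocus_iff, mem_genLocus_iff]
  refine exists_congr fun U => and_congr_right fun _ => forall_congr' fun W => forall_congr' fun _ => ?_
  have hfun : ((u ≫ s).app W : Γ(Coh.structureModule X, W) → Γ(L, W)) = s.app W ∘ u.app W := rfl
  have hu : Function.Bijective (u.app W) := by
    refine ⟨fun a b hab => ?_, fun b => ⟨(inv u).app W b, ?_⟩⟩
    · have h1 := congrArg ((inv u).app W) hab
      have h2 : ∀ c, (inv u).app W (u.app W c) = c := fun c => by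
        have := congrArg (fun φ => (Scheme.Modules.Hom.app φ W) c) (IsIso.hom_inv_id u)
        exact this
      rwa [h2, h2] at h1
    · have := congrArg (fun φ => (Scheme.Modules.Hom.app φ W) b) (IsIso.inv_hom_id u)
      exact this
  rw [hfun]
  constructor
  · intro h
    have : (s.app W : Γ(Coh.structureModule X, W) → Γ(L, W)) =
        (s.app W ∘ u.app W) ∘ (Equiv.ofBijective _ hu).symm := by
      funext c
      show _ = s.app W (u.app W ((Equiv.ofBijective _ hu).symm c))
      rw [Equiv.ofBijective_apply_symm_apply (f := (u.app W : Γ(Coh.structureModule X, W) → _)) hu c]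
    rw [this]
    exact h.comp (Equiv.bijective _)
  · intro h
    exact h.comp hu

/-- an isomorphism generates everywhere -/
theorem genLocus_eq_top_of_isIso {L : X.Modules} (s : Coh.structureModule X ⟶ L) [IsIso s] :
    CohB1.genLocus L s = ⊤ := by
  ext x
  simp only [Opens.coe_top, Set.mem_univ, iff_true]
  show x ∈ CohB1.genLocus L s
  rw [mem_genLocus_iff]
  refine ⟨⊤, trivial, fun W _ => ⟨fun a b hab => ?_, fun b => ⟨(inv s).app W b, ?_⟩⟩⟩
  · have h1 := congrArg ((inv s).app W) hab
    have h2 : ∀ c, (inv s).app W (s.app W c) = c := fun c => by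
      have := congrArg (fun φ => (Scheme.Modules.Hom.app φ W) c) (IsIso.hom_inv_id s)
      exact this
    rwa [h2, h2] at h1
  · have := congrArg (fun φ => (Scheme.Modules.Hom.app φ W) b) (IsIso.inv_hom_id s)
    exact this

/-- the zero section of a module on an integral scheme generates nowhere -/
theorem genLocus_zero [IsIntegral X] (L : X.Modules) :
    CohB1.genLocus L (0 : Coh.structureModule X ⟶ L) = ⊥ := by
  ext x
  simp only [Opens.coe_bot, Set.mem_empty_iff_false, iff_false]
  show x ∉ CohB1.genLocus L 0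
  rw [mem_genLocus_iff]
  rintro ⟨U, hxU, hU⟩
  have hb := (hU U le_rfl).1
  haveI : Nonempty U := ⟨⟨x, hxU⟩⟩
  haveI : Nontrivial Γ(X, U) := inferInstance
  have h01 : (0 : Γ(Coh.structureModule X, U)) = (show Γ(Coh.structureModule X, U) from (1 : Γ(X, U))) :=
    hb rfl
  exact zero_ne_one (α := Γ(X, U)) h01

end general

section curve
variable (k : Type u) [Field k] (X : Scheme.{u}) [X.Over (Spec (CommRingCat.of k))]
  [IsIntegral X] [IsProper (X ↘ Spec (CommRingCat.of k))]

/-- if `h⁰(M) = 1`, two nonzero sections of the invertible module `M` differ by an automorphism of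
`O_X` -/
theorem exists_isIso_comp_eq (hdim : topologicalKrullDim X ≤ 1) {M : X.Modules}
    (hM : PicF.IsInvertible M) (h1 : Module.finrank k (Coh.HH X M 0) = 1)
    (s s' : Coh.structureModule X ⟶ M) (hs : s ≠ 0) (hs' : s' ≠ 0) :
    ∃ u : Coh.structureModule X ⟶ Coh.structureModule X, IsIso u ∧ u ≫ s = s' := by
  have hO := AmpleUnit.isInvertible_structureModule X
  have hv : HHmap s 0 (unitH X) ≠ 0 := by
    intro h
    apply hs
    apply Groth.Agent.Lib.Helper8.GGKill.hom_eq_of_HHmap_unitH_eq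
    rw [h, HHmap_zero_unitH]
  obtain ⟨c, hc⟩ := (finrank_eq_one_iff_of_nonzero' _ hv).1 h1 (HHmap s' 0 (unitH X))
  obtain ⟨u, hu⟩ := exists_hom_of_H0 (Coh.structureModule X) (c • unitH X)
  have hus : u ≫ s = s' := by
    apply Groth.Agent.Lib.Helper8.GGKill.hom_eq_of_HHmap_unitH_eq
    rw [HHmap_comp, hu, ← hc]
    exact (Canon.HHlin k s 0).map_smul c (unitH X)
  have hu0 : u ≠ 0 := by
    rintro rfl
    apply hs'
    rw [← hus, zero_comp]
  refine ⟨u, ?_, hus⟩
  obtain ⟨he, hiso⟩ := Groth.Agent.Lib.Helper8.CurveDeg.euler_eq_add k X hdim _ _ hO hO u hu0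
  apply hiso
  have : (Module.finrank k (Coh.HH X (cokernel u) 0) : ℤ) = 0 := by linarith
  exact_mod_cast this

/-- two closed Cartier points whose line bundles are both isomorphic to a module with a
one-dimensional space of sections coincide -/
theorem eq_of_iso_dual (hdim : topologicalKrullDim X = 1) {M : X.Modules}
    (hM : PicF.IsInvertible M) (h1 : Module.finrank k (Coh.HH X M 0) = 1)
    (P P' : X) (hP : IsClosed ({P} : Set X)) (hP' : IsClosed ({P'} : Set X))
    (hE : BlowUp.IsEffCartierIdeal (ptI P hP)) (hE' : BlowUp.IsEffCartierIdeal (ptI P' hP'))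
    (φ : dual (ClSub.idealMod (ptI P hP)) ≅ M) (φ' : dual (ClSub.idealMod (ptI P' hP')) ≅ M) :
    P = P' := by
  have hgen : ∀ (Q : X) (hQ : IsClosed ({Q} : Set X)) (hEQ : BlowUp.IsEffCartierIdeal (ptI Q hQ))
      (ψ : dual (ClSub.idealMod (ptI Q hQ)) ≅ M),
      (CohB1.genLocus M (IdealDual.tI (ptI Q hQ) ≫ ψ.hom) : Set X) = {Q}ᶜ ∧
        IdealDual.tI (ptI Q hQ) ≫ ψ.hom ≠ 0 := by
    intro Q hQ hEQ ψ
    have hg : (CohB1.genLocus M (IdealDual.tI (ptI Q hQ) ≫ ψ.hom) : Set X) = {Q}ᶜ := by
      rw [AmpleUnit.genLocus_comp_iso, IdealDual.genLocus_tI _ hEQ]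
      show ((ptI Q hQ).support : Set X)ᶜ = _
      rw [Scheme.IdealSheafData.coe_support_vanishingIdeal]
      rfl
    refine ⟨hg, fun h0 => ?_⟩
    rw [h0, genLocus_zero] at hg
    have hgp : genericPoint X ∈ ({Q}ᶜ : Set X) :=
      fun h => Groth.Agent.Lib.Helper8.NormalPt.ne_genericPoint_of_isClosed hdim Q hQ
        (Set.mem_singleton_iff.1 h).symm
    rw [← hg] at hgp
    exact hgp
  obtain ⟨g1, n1⟩ := hgen P hP hE φ
  obtain ⟨g2, n2⟩ := hgen P' hP' hE' φ'
  obtain ⟨u, hu, hus⟩ := exists_isIso_comp_eq k X hdim.le hM h1 _ _ n1 n2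
  haveI := hu
  have h3 := genLocus_isIso_comp u (IdealDual.tI (ptI P hP) ≫ φ.hom)
  rw [hus] at h3
  have h4 : ({P'}ᶜ : Set X) = {P}ᶜ := by rw [← g1, ← g2, h3]
  have h5 : ({P'} : Set X) = {P} := compl_injective h4
  exact (Set.singleton_eq_singleton_iff.1 h5).symm

attribute [local instance] Groth.Agent.Lib.Helper8.PtSupp.gammaModule
  Groth.Agent.Lib.Helper8.PointDeg.ptOver in
omit [IsIntegral X] in
/-- the degree of a closed point of a proper `k`-scheme is positive -/
theorem finrank_quotMod_pos [IsLocallyNoetherian X] (x : X) (hx : IsClosed ({x} : Set X)) :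
    0 < Module.finrank k (Coh.HH X (ClSub.quotMod (ptI x hx)) 0) := by
  haveI := finite_HH k X _ (Groth.Agent.Lib.Helper6.DevRed.isCoh_quotMod (ptI x hx)) 0
  have hqc : (Coh.structureModule (ptI x hx).subscheme).IsQuasicoherent :=
    (Groth.Agent.Lib.Helper6.DevRed.isCoh_structureModule (X := (ptI x hx).subscheme)).1
  obtain ⟨e, -⟩ := Groth.Agent.Lib.Helper2.Bridge3.exists_natural_linearEquiv k (ptI x hx).subschemeι
    (rfl : (ptI x hx).subschemeι ≫ (X ↘ Spec (CommRingCat.of k)) = _) 0
  let E := (e (Coh.structureModule (ptI x hx).subscheme) hqc).trans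
    (Groth.Agent.Lib.Helper8.PtSupp.e0L (Coh.structureModule (ptI x hx).subscheme) k)
  haveI : Module.Finite k Γ(Coh.structureModule (ptI x hx).subscheme, ⊤) := Module.Finite.equiv E
  rw [finrank_quotMod_eq]
  haveI : Nonempty (⊤ : (ptI x hx).subscheme.Opens) :=
    ⟨⟨(exists_point x hx).choose, trivial⟩⟩
  haveI : Nontrivial Γ((ptI x hx).subscheme, ⊤) := inferInstance
  haveI : Nontrivial Γ(Coh.structureModule (ptI x hx).subscheme, ⊤) :=
    ‹Nontrivial Γ((ptI x hx).subscheme, ⊤)›
  exact Module.finrank_pos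

attribute [local instance] Groth.Agent.Lib.Helper8.PicCl.commMonoid Curv2.resAlgebra in
open Groth.Agent.Lib.Helper8.PicCl in
/-- **the Abel map of a regular genus-one curve with a rational point is bijective**: every invertible
module of degree zero is `O(P - O)` for exactly one rational point `P` -/
theorem existsUnique_point (hdim : topologicalKrullDim X = 1)
    (hreg : ∀ x : X, IsRegularLocalRing (X.presheaf.stalk x)) (hg : Curv2.genus k X = 1)
    (O : X) (hOc : IsClosed ({O} : Set X)) (hO : Function.Bijective (Curv2.resMap k X O))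
    (L : X.Modules) (hL : PicF.IsInvertible L) (hdeg : Curv2.deg k X L 1 = 0) :
    ∃! P : {x : X // IsClosed ({x} : Set X) ∧ Function.Bijective (Curv2.resMap k X x)},
      Nonempty (CohB1.tensorMod L (ClSub.idealMod (ptI P.1 P.2.1)) ≅
        ClSub.idealMod (ptI O hOc)) := by
  haveI : IsLocallyNoetherian X := isLocallyNoetherian k X
  have hOinv := AmpleUnit.isInvertible_structureModule X
  have hcO := Groth.Agent.Lib.Helper6.K0Op.isCoh_of_isInvertible _ hOinv
  -- closed points are Cartier
  have hcart : ∀ (Q : X) (hQ : IsClosed ({Q} : Set X)), BlowUp.IsEffCartierIdeal (ptI Q hQ) := by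
    intro Q hQ
    obtain ⟨h1, h2⟩ := Groth.Agent.Lib.Helper8.LowDeg.maximalIdeal_isPrincipal_of_regular hdim.le Q
      (Groth.Agent.Lib.Helper8.NormalPt.ne_genericPoint_of_isClosed hdim Q hQ) (hreg Q)
    exact Groth.Agent.Lib.Helper8.PointCartier.isEffCartierIdeal_vanishingIdeal_singleton Q hQ h1 h2
  have hpt : ∀ (Q : X) (hQ : IsClosed ({Q} : Set X)), ∀ z ∈ (ptI Q hQ).support,
      IsClosed ({z} : Set X) := by
    intro Q hQ z hz
    have hz' : z ∈ ((Scheme.IdealSheafData.vanishingIdeal ⟨{Q}, hQ⟩).support : Set X) := hz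
    rw [Scheme.IdealSheafData.coe_support_vanishingIdeal] at hz'
    have : z = Q := hz'
    rw [this]; exact hQ
  -- the degree of a rational point is one, and conversely
  have hrat : ∀ (Q : X) (hQ : IsClosed ({Q} : Set X)),
      Module.finrank k (Coh.HH X (ClSub.quotMod (ptI Q hQ)) 0) = 1 ↔
        Function.Bijective (Curv2.resMap k X Q) := by
    intro Q hQ
    rw [finrank_quotMod_eq_finrank_residueField]
    constructor
    · intro h
      refine ⟨RingHom.injective _, fun w => ?_⟩
      obtain ⟨c, hc⟩ := (finrank_eq_one_iff_of_nonzero' (1 : X.residueField Q) one_ne_zero).1 h w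
      refine ⟨c, ?_⟩
      rw [← hc, Algebra.smul_def, mul_one]
      rfl
    · intro h
      have hbij : Function.Bijective (algebraMap k (X.residueField Q)) := h
      rw [← (LinearEquiv.ofBijective (Algebra.linearMap k (X.residueField Q)) hbij).finrank_eq,
        Module.finrank_self]
  have hO1 := (hrat O hOc).2 hO
  have h0 := Groth.Agent.Lib.Helper8.H0Field.finrank_H0_eq_one (X := X) (k := k) _ 0 hO1
  -- `O(O)`
  obtain ⟨hAO, hAOinv⟩ := Groth.Agent.Lib.Helper8.PointBundle.exists_inverse X _ (hcart O hOc)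
  have hdegAO : Curv2.deg k X (dual (ClSub.idealMod (ptI O hOc))) 1 = 1 := by
    have := Groth.Agent.Lib.Helper8.PointBundle.deg_inverse k X _ (hpt O hOc) _ hAO hAOinv
    rw [hO1] at this
    exact_mod_cast this
  -- `M = L(O)` has degree one and a one-dimensional space of sections
  set M := CohB1.tensorMod L (dual (ClSub.idealMod (ptI O hOc))) with hMdef
  have hM : PicF.IsInvertible M := GenLocus.isInvertible_tensorMod hL hAO
  have hMc := Groth.Agent.Lib.Helper6.K0Op.isCoh_of_isInvertible _ hM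
  have hdegM : Curv2.deg k X M 1 = 1 := by
    rw [Groth.Agent.Lib.Helper8.DegGroup.deg_tensorMod k X hdim.le hL hAO, hdeg, hdegAO]
    norm_num
  have eO := Groth.Agent.Lib.Helper8.CurveRR.euler_eq_sub k X hdim.le _ hcO.1
  have eM := Groth.Agent.Lib.Helper8.CurveRR.euler_eq_sub k X hdim.le M hMc.1
  have hg' : Module.finrank k (Coh.HH X (Coh.structureModule X) 1) = 1 := hg
  rw [h0, hg'] at eO
  have hχM : Curv2.euler k X M = 1 := by
    unfold Curv2.deg at hdegM
    rw [eO] at hdegM
    linarith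
  haveI := finite_HH k X _ hMc 0
  have hpos : 0 < Module.finrank k (Coh.HH X M 0) := by
    have : (0 : ℤ) < (Module.finrank k (Coh.HH X M 0) : ℤ) := by linarith
    exact_mod_cast this
  have hnt : Nontrivial (Coh.HH X M 0) := Module.nontrivial_of_finrank_pos (R := k) hpos
  obtain ⟨b1, b2⟩ := Groth.Agent.S1564.result k X hdim h0 M hM hnt
  have hM1 : Module.finrank k (Coh.HH X M 0) = 1 := by
    rw [hdegM] at b1 b2
    by_contra hne
    have h2 : (Module.finrank k (Coh.HH X M 0) : ℤ) = 1 + 1 := by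
      have : (1 : ℤ) ≤ (Module.finrank k (Coh.HH X M 0) : ℤ) := by exact_mod_cast hpos
      have hne' : (Module.finrank k (Coh.HH X M 0) : ℤ) ≠ 1 := by exact_mod_cast hne
      omega
    have := b2 h2 (by norm_num)
    omega
  -- a nonzero section and a zero of it
  obtain ⟨s, hs⟩ := Groth.Agent.Lib.Helper8.CurveRR.exists_section_ne_zero M hnt
  have hex : ∃ P : X, P ∉ CohB1.genLocus M s := by
    by_contra hcon
    push Not at hcon
    have htop : CohB1.genLocus M s = ⊤ := by
      ext x
      simp only [Opens.coe_top, Set.mem_univ, iff_true]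
      exact hcon x
    haveI := Groth.Agent.Lib.Helper8.P1Core.isIso_of_genLocus_eq_top X s htop
    have h1 := euler_congr k (asIso s)
    rw [hχM, eO] at h1
    omega
  obtain ⟨P, hPs⟩ := hex
  have hPne : P ≠ genericPoint X := by
    rintro rfl
    apply hs
    apply Groth.Agent.Lib.Helper8.CompSec.eq_zero_of_genLocus_eq_bot hM s
    by_contra hne
    obtain ⟨z, hz⟩ : ((CohB1.genLocus M s : X.Opens) : Set X).Nonempty := by
      rw [Set.nonempty_iff_ne_empty]
      intro h
      apply hne
      ext w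
      simp [h]
    exact hPs (((genericPoint_spec X).mem_open_set_iff (CohB1.genLocus M s).2).2 ⟨z, trivial, hz⟩)
  have hPc : IsClosed ({P} : Set X) :=
    Groth.Agent.Lib.Helper8.CurveDeg.isClosed_singleton_of_ne_genericPoint hdim.le P hPne
  obtain ⟨⟨t, ht⟩, hχ⟩ := Groth.Agent.Lib.Helper8.TwistPt.twist_zero k X M hM s hs P hPc hPs
  have hIP : PicF.IsInvertible (ClSub.idealMod (ptI P hPc)) :=
    IdealDual.isInvertible_idealMod _ (hcart P hPc)
  have hM' : PicF.IsInvertible (CohB1.tensorMod M (ClSub.idealMod (ptI P hPc))) :=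
    GenLocus.isInvertible_tensorMod hM hIP
  obtain ⟨he, hiso⟩ := Groth.Agent.Lib.Helper8.CurveDeg.euler_eq_add k X hdim.le _ _ hOinv hM' t ht
  have hepos := finrank_quotMod_pos k X P hPc
  rw [hχM, he, eO] at hχ
  have he1 : Module.finrank k (Coh.HH X (ClSub.quotMod (ptI P hPc)) 0) = 1 := by omega
  haveI : IsIso t := hiso (by omega)
  have hPrat : Function.Bijective (Curv2.resMap k X P) := (hrat P hPc).1 he1
  -- classes
  have hMcl : PicF.cl M = PicF.cl L * PicF.cl (dual (ClSub.idealMod (ptI O hOc))) := rfl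
  have c1 : PicF.cl M * PicF.cl (ClSub.idealMod (ptI P hPc)) = 1 := by
    rw [cl_mul_cl, PicCl.one_def, cl_eq_iff]
    exact ⟨(asIso t).symm⟩
  have c2 : PicF.cl (dual (ClSub.idealMod (ptI O hOc))) * PicF.cl (ClSub.idealMod (ptI O hOc)) = 1 :=
    (isInverseOf_iff _ _).1 hAOinv
  have hfin : PicF.cl L * PicF.cl (ClSub.idealMod (ptI P hPc)) =
      PicF.cl (ClSub.idealMod (ptI O hOc)) := by
    calc PicF.cl L * PicF.cl (ClSub.idealMod (ptI P hPc))
        = PicF.cl L * PicF.cl (ClSub.idealMod (ptI P hPc)) *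
            (PicF.cl (dual (ClSub.idealMod (ptI O hOc))) * PicF.cl (ClSub.idealMod (ptI O hOc))) := by
          rw [c2, mul_one]
      _ = (PicF.cl L * PicF.cl (dual (ClSub.idealMod (ptI O hOc))) *
            PicF.cl (ClSub.idealMod (ptI P hPc))) * PicF.cl (ClSub.idealMod (ptI O hOc)) := by
          ac_rfl
      _ = PicF.cl (ClSub.idealMod (ptI O hOc)) := by rw [← hMcl, c1, one_mul]
  refine ⟨⟨P, hPc, hPrat⟩, (cl_eq_iff _ _).1 hfin, ?_⟩
  -- uniqueness
  rintro ⟨P', hP'c, hP'rat⟩ ⟨e'⟩
  have c3 : PicF.cl L * PicF.cl (ClSub.idealMod (ptI P' hP'c)) =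
      PicF.cl (ClSub.idealMod (ptI O hOc)) := (cl_eq_iff _ _).2 ⟨e'⟩
  have c4 : PicF.cl M * PicF.cl (ClSub.idealMod (ptI P' hP'c)) = 1 := by
    calc PicF.cl M * PicF.cl (ClSub.idealMod (ptI P' hP'c))
        = (PicF.cl L * PicF.cl (ClSub.idealMod (ptI P' hP'c))) *
            PicF.cl (dual (ClSub.idealMod (ptI O hOc))) := by rw [hMcl]; ac_rfl
      _ = 1 := by rw [c3, mul_comm, c2]
  have hdual : ∀ (Q : X) (hQ : IsClosed ({Q} : Set X)),
      PicF.cl M * PicF.cl (ClSub.idealMod (ptI Q hQ)) = 1 →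
        Nonempty (dual (ClSub.idealMod (ptI Q hQ)) ≅ M) := by
    intro Q hQ hc
    obtain ⟨-, hinv⟩ := Groth.Agent.Lib.Helper8.PointBundle.exists_inverse X _ (hcart Q hQ)
    have c5 := (isInverseOf_iff _ _).1 hinv
    rw [← cl_eq_iff]
    calc PicF.cl (dual (ClSub.idealMod (ptI Q hQ)))
        = PicF.cl (dual (ClSub.idealMod (ptI Q hQ))) *
            (PicF.cl M * PicF.cl (ClSub.idealMod (ptI Q hQ))) := by rw [hc, mul_one]
      _ = PicF.cl M * (PicF.cl (dual (ClSub.idealMod (ptI Q hQ))) *
            PicF.cl (ClSub.idealMod (ptI Q hQ))) := by ac_rfl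
      _ = PicF.cl M := by rw [c5, mul_one]
  obtain ⟨φ⟩ := hdual P hPc c1
  obtain ⟨φ'⟩ := hdual P' hP'c c4
  have hPP := eq_of_iso_dual k X hdim hM hM1 P P' hPc hP'c (hcart P hPc) (hcart P' hP'c) φ φ'
  exact Subtype.ext hPP.symm

end curve

end Groth.Agent.Lib.Helper8.AbelG1
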