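import Groth.Agent.Lib.Helper8.Gaps

/-! # Helper8 — global generation of invertible modules versus sections generating at points -/
set_option autoImplicit false
universe u
open CategoryTheory CategoryTheory.Limits AlgebraicGeometry Opposite TopologicalSpace
noncomputable section

namespace Groth.Agent.Lib.Helper8.GGPoint

open Groth.Agent.Lib.Helper8.EulerK Groth.Agent.Lib.Helper28 Groth.Agent.Lib.Helper8.KillA
  Groth.Agent.Lib.Helper8.PointDeg Groth.Agent.Lib.Helper8.Descend Groth.Agent.Lib.Helper8.Vanish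
  Groth.Agent.Lib.Helper8.GGKill Groth.Agent.Lib.Helper28.QCohLoc

section general
variable {X : Scheme.{u}}

/-- a module is globally generated if every point lies in the locus where some global section
generates -/
theorem isGloballyGenerated_of_forall_mem_genLocus {L : X.Modules}
    (h : ∀ x : X, ∃ s : Coh.structureModule X ⟶ L, x ∈ CohB1.genLocus L s) :
    Curv2.IsGloballyGenerated L := by
  apply isGloballyGenerated_of_kills
  intro C π hπ
  apply Groth.Agent.Lib.Helper8.CurveInv.hom_eq_zero_of_app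
  intro U t
  choose s hs using h
  have hloc : ∀ x : X, ∃ W : X.Opens, x ∈ W ∧ ∀ V : X.Opens, V ≤ W → Function.Bijective ((s x).app V) :=
    fun x => (GenLocus.mem_genLocus_iff (s x) x).1 (hs x)
  choose W hxW hW using hloc
  refine eq_of_locally_eq (M := C) (fun pt : U => U ⊓ W pt.1) U (fun pt => inf_le_left) ?_ _ _ ?_
  · intro q hq
    exact Opens.mem_iSup.mpr ⟨⟨q, hq⟩, ⟨hq, hxW q⟩⟩
  · intro pt
    rw [res_zero, ← app_res]
    obtain ⟨a, ha⟩ := (hW pt.1 (U ⊓ W pt.1) inf_le_right).2 (res L inf_le_left t)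
    rw [← ha]
    have h1 : π.app (U ⊓ W pt.1) ((s pt.1).app (U ⊓ W pt.1) a) = ((s pt.1) ≫ π).app (U ⊓ W pt.1) a := rfl
    rw [h1, hπ (s pt.1)]
    rfl

end general


section curve
variable (k : Type u) [Field k] (X : Scheme.{u}) [X.Over (Spec (CommRingCat.of k))]
  [IsIntegral X] [IsProper (X ↘ Spec (CommRingCat.of k))]

/-- a globally generated invertible module has a section generating at any given closed point of
degree one -/
theorem exists_section_of_gg (L : X.Modules) (hL : PicF.IsInvertible L)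
    (hgg : Curv2.IsGloballyGenerated L) (x : X) (hx : IsClosed ({x} : Set X))
    (hQ : Module.finrank k (Coh.HH X (ClSub.quotMod (ptI x hx)) 0) = 1) :
    ∃ s : Coh.structureModule X ⟶ L, x ∈ CohB1.genLocus L s := by
  haveI : IsLocallyNoetherian X := isLocallyNoetherian k X
  by_contra hcon
  simp only [not_exists] at hcon
  obtain ⟨hS, -, -, c3, -⟩ := twist_data k X L hL x hx hQ
  have h3 := Groth.Agent.Lib.Helper8.Gaps.hh_twist_quot k X L hL x hx hQ
  set S := (Groth.Agent.Lib.Helper17.Serre.idealSES (ptI x hx)).map (DCoh.tensorBi.obj L) with hSdef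
  obtain ⟨u⟩ := AmpleUnit.nonempty_tensor_unit_iso L
  have u' : S.X₂ ≅ L := u
  have hk : Kills (u'.inv ≫ S.g) := by
    intro s
    have hxs' : x ∉ CohB1.genLocus S.X₂ (s ≫ u'.inv) := by
      have := AmpleUnit.genLocus_comp_iso s u'.symm
      change x ∉ CohB1.genLocus S.X₂ (s ≫ u'.symm.hom)
      rw [this]; exact hcon s
    have := comp_eq_zero hL x hx (s ≫ u'.inv) hxs'
    rw [← Category.assoc]
    exact this
  have h0 := kills_eq_zero_of_gg hgg _ hk
  have hg0 : S.g = 0 := by
    have : u'.hom ≫ u'.inv ≫ S.g = 0 := by rw [h0, comp_zero]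
    rwa [← Category.assoc, u'.hom_inv_id, Category.id_comp] at this
  haveI : Epi S.g := hS.epi_g
  have hid : 𝟙 S.X₃ = 0 := by
    apply (cancel_epi S.g).1
    rw [hg0, zero_comp, zero_comp]
  have hsub : Subsingleton (Coh.HH X S.X₃ 0) := by
    refine ⟨fun a b => ?_⟩
    have key : ∀ q : Coh.HH X S.X₃ 0, q = 0 := by
      intro q
      obtain ⟨φ, rfl⟩ := exists_hom_of_H0 S.X₃ q
      have : φ = 0 := by rw [← Category.comp_id φ, hid, comp_zero]
      rw [this, HHmap_zero_unitH]
    rw [key a, key b]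
  have h3' : hh k S.X₃ 0 = 1 := h3
  unfold hh at h3'
  rw [Module.finrank_zero_of_subsingleton] at h3'
  exact zero_ne_one h3'

/-- if twisting by the ideal of a closed point of degree one lowers `h⁰`, some section generates at
the point -/
theorem exists_section_of_hh_lt (L : X.Modules) (hL : PicF.IsInvertible L) (x : X)
    (hx : IsClosed ({x} : Set X))
    (hQ : Module.finrank k (Coh.HH X (ClSub.quotMod (ptI x hx)) 0) = 1)
    (hlt : hh k (CohB1.tensorMod L (ClSub.idealMod (ptI x hx))) 0 < hh k L 0) :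
    ∃ s : Coh.structureModule X ⟶ L, x ∈ CohB1.genLocus L s := by
  haveI : IsLocallyNoetherian X := isLocallyNoetherian k X
  by_contra hcon
  simp only [not_exists] at hcon
  obtain ⟨hS, c1, c2, c3, -⟩ := twist_data k X L hL x hx hQ
  set S := (Groth.Agent.Lib.Helper17.Serre.idealSES (ptI x hx)).map (DCoh.tensorBi.obj L) with hSdef
  have c1' : Coh.IsCoh S.X₁ := c1
  have c2' : Coh.IsCoh S.X₂ := c2
  obtain ⟨u⟩ := AmpleUnit.nonempty_tensor_unit_iso L
  have u' : S.X₂ ≅ L := u
  haveI : Mono S.f := hS.mono_f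
  have hsurj : Function.Surjective (Canon.HHlin k S.f 0) := by
    intro q
    obtain ⟨φ, rfl⟩ := exists_hom_of_H0 S.X₂ q
    have hxs' : x ∉ CohB1.genLocus S.X₂ φ := by
      have h1 := AmpleUnit.genLocus_comp_iso (φ ≫ u'.hom) u'.symm
      have h2 : (φ ≫ u'.hom) ≫ u'.symm.hom = φ := by
        rw [Category.assoc]
        change φ ≫ u'.hom ≫ u'.inv = φ
        rw [u'.hom_inv_id, Category.comp_id]
      rw [h2] at h1
      rw [h1]
      exact hcon _
    have hz := comp_eq_zero hL x hx φ hxs'
    have hts : hS.exact.lift φ hz ≫ S.f = φ := hS.exact.lift_f φ hz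
    refine ⟨HHmap (hS.exact.lift φ hz) 0 (unitH X), ?_⟩
    have := HHmap_comp (hS.exact.lift φ hz) S.f 0 (unitH X)
    rw [hts] at this
    exact this.symm
  haveI := finite_HH k X _ c1' 0
  have hle : hh k S.X₂ 0 ≤ hh k S.X₁ 0 := LinearMap.finrank_le_finrank_of_surjective hsurj
  rw [hh_congr k u' 0] at hle
  have : hh k S.X₁ 0 = hh k (CohB1.tensorMod L (ClSub.idealMod (ptI x hx))) 0 := rfl
  omega

end curve

end Groth.Agent.Lib.Helper8.GGPoint
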