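import Groth.Agent.Lib.Helper8.Vanish

/-! # Helper8 — twisting an invertible module down by a closed point of arbitrary degree at which a section vanishes -/
set_option autoImplicit false
universe u
open CategoryTheory CategoryTheory.Limits AlgebraicGeometry Opposite TopologicalSpace MonoidalCategory
noncomputable section

namespace Groth.Agent.Lib.Helper8.TwistPt

open Groth.Agent.Lib.Helper8.EulerK Groth.Agent.Lib.Helper28 Groth.Agent.Lib.Helper8.KillA
  Groth.Agent.Lib.Helper17.StalkExact Groth.Agent.Lib.Helper8.PointDeg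
  Groth.Agent.Lib.Helper28.TensorGen Groth.Agent.Lib.Helper28.QCohLoc
  Groth.Agent.Lib.Helper8.Vanish
open Groth.Agent.Lib.Helper6.DevCore Groth.Agent.Lib.Helper6.DevRed
  Groth.Agent.Lib.Helper2.HLesLin Groth.Agent.Lib.Helper4.HLesFin1

variable (k : Type u) [Field k] (X : Scheme.{u}) [X.Over (Spec (CommRingCat.of k))]
  [IsIntegral X] [IsProper (X ↘ Spec (CommRingCat.of k))]

/-- the twisted ideal sequence `0 → L ⊗ I_x → L ⊗ O → L ⊗ O_x → 0` of a closed point:
exactness, coherence, and `χ(L ⊗ O_x) = deg x` -/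
theorem twist_data (L : X.Modules) (hL : PicF.IsInvertible L) (x : X) (hx : IsClosed ({x} : Set X)) :
    ((Groth.Agent.Lib.Helper17.Serre.idealSES (ptI x hx)).map (DCoh.tensorBi.obj L)).ShortExact ∧
      Coh.IsCoh (CohB1.tensorMod L (ClSub.idealMod (ptI x hx))) ∧
      Coh.IsCoh (CohB1.tensorMod L (Coh.structureModule X)) ∧
      Coh.IsCoh (CohB1.tensorMod L (ClSub.quotMod (ptI x hx))) ∧
      Curv2.euler k X (CohB1.tensorMod L (ClSub.quotMod (ptI x hx))) =
        (Module.finrank k (Coh.HH X (ClSub.quotMod (ptI x hx)) 0) : ℤ) := by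
  haveI : IsLocallyNoetherian X := isLocallyNoetherian k X
  set D := ptI x hx with hD
  have hL1 := Groth.Agent.Lib.Helper6.K0Op.isFinLocFreeOfRank_one_of_isInvertible L hL
  have hLc := Groth.Agent.Lib.Helper6.K0Op.isCoh_of_isInvertible L hL
  have hcQ : Coh.IsCoh (ClSub.quotMod D) := isCoh_quotMod D
  have hcO : Coh.IsCoh (Coh.structureModule X) := isCoh_structureModule
  have hcI : Coh.IsCoh (ClSub.idealMod D) := isCoh_kernel _ hcO hcQ
  have hses := Groth.Agent.Lib.Helper17.Serre.idealSES_shortExact D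
  have hS := Groth.Agent.Lib.Helper6.K0Op.shortExact_tensor_of_flat L
    (Groth.Agent.Lib.Helper6.K0Op.isFlat_of_isFinLocFreeOfRank L hL1) _ hses
  refine ⟨hS, Groth.Agent.Lib.Helper6.K0Op.isCoh_tensorMod L _ hLc hcI,
    Groth.Agent.Lib.Helper6.K0Op.isCoh_tensorMod L _ hLc hcO,
    Groth.Agent.Lib.Helper6.K0Op.isCoh_tensorMod L _ hLc hcQ, ?_⟩
  have hsuppQ : CohB1.support (ClSub.quotMod D) = {x} := by
    rw [hD]; exact support_quotMod_vanishingIdeal (Z := ⟨{x}, hx⟩)
  have hScl : ∀ z ∈ ({x} : Finset X), IsClosed ({z} : Set X) := fun z hz => by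
    rw [Finset.mem_singleton] at hz
    rw [hz]; exact hx
  haveI : (ClSub.quotMod D).IsQuasicoherent := hcQ.1
  haveI : SheafOfModules.IsFiniteType.{u} (R := X.ringCatSheaf) (ClSub.quotMod D) := hcQ.2
  have hχQ : Curv2.euler k X (ClSub.quotMod D) =
      (Module.finrank k (Coh.HH X (ClSub.quotMod D) 0) : ℤ) := by
    rw [euler_eq_sum k X _ 1 (fun p hp => by
      obtain ⟨q, rfl⟩ : ∃ q, p = q + 1 := ⟨p - 1, by omega⟩
      exact Groth.Agent.Lib.Helper17.ZeroSupp.subsingleton_HH_of_support_closedPoints _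
        (fun z hz => by
          rw [hsuppQ] at hz
          have : z = x := hz
          rw [this]; exact hx) q)]
    simp
  have t2 := Groth.Agent.Lib.Helper8.CurveTensor.euler_tensor_of_finset k X _ hcQ {x} hScl
    (by rw [hsuppQ]; simp) 1 L hL1
  have b2 := euler_congr k (Groth.Agent.Lib.Helper6.K0Inv.braidIso L (ClSub.quotMod D))
  rw [b2, t2, hχQ]
  norm_num

/-- **twisting down by a zero of a section**: if the nonzero section `s` of the invertible module
`L` does not generate at the closed point `x`, then `s` comes from a nonzero section of `L ⊗ I_x`,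
and `χ(L ⊗ I_x) = χ(L) - deg x` -/
theorem twist_zero (L : X.Modules) (hL : PicF.IsInvertible L)
    (s : Coh.structureModule X ⟶ L) (hs : s ≠ 0) (x : X) (hx : IsClosed ({x} : Set X))
    (hxs : x ∉ CohB1.genLocus L s) :
    (∃ t : Coh.structureModule X ⟶ CohB1.tensorMod L (ClSub.idealMod (ptI x hx)), t ≠ 0) ∧
      Curv2.euler k X (CohB1.tensorMod L (ClSub.idealMod (ptI x hx))) +
        (Module.finrank k (Coh.HH X (ClSub.quotMod (ptI x hx)) 0) : ℤ) = Curv2.euler k X L := by
  haveI : IsLocallyNoetherian X := isLocallyNoetherian k X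
  obtain ⟨hS, c1, c2, c3, hχ3⟩ := twist_data k X L hL x hx
  set S := (Groth.Agent.Lib.Helper17.Serre.idealSES (ptI x hx)).map (DCoh.tensorBi.obj L) with hSdef
  obtain ⟨u⟩ := Groth.Agent.Lib.Helper28.AmpleUnit.nonempty_tensor_unit_iso L
  have u' : S.X₂ ≅ L := u
  set s' : Coh.structureModule X ⟶ S.X₂ := s ≫ u'.inv with hs'
  have hxs' : x ∉ CohB1.genLocus S.X₂ s' := by
    have := Groth.Agent.Lib.Helper28.AmpleUnit.genLocus_comp_iso s u'.symm
    rw [hs']
    change x ∉ CohB1.genLocus S.X₂ (s ≫ u'.symm.hom)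
    rw [this]; exact hxs
  have hzero : s' ≫ S.g = 0 := comp_eq_zero hL x hx s' hxs'
  haveI : Mono S.f := hS.mono_f
  have hts : hS.exact.lift s' hzero ≫ S.f = s' := hS.exact.lift_f s' hzero
  set t := hS.exact.lift s' hzero with ht
  have ht0 : t ≠ 0 := by
    intro h0
    apply hs
    have h1 : s' = 0 := by rw [← hts, h0, zero_comp]
    have h2 : s = s' ≫ u'.hom := by rw [hs', Category.assoc, u'.inv_hom_id, Category.comp_id]
    rw [h2, h1, zero_comp]
  have c1' : Coh.IsCoh S.X₁ := c1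
  have c2' : Coh.IsCoh S.X₂ := c2
  have c3' : Coh.IsCoh S.X₃ := c3
  have hχ3' : Curv2.euler k X S.X₃ =
      (Module.finrank k (Coh.HH X (ClSub.quotMod (ptI x hx)) 0) : ℤ) := hχ3
  have he := euler_add k X S hS c1' c2' c3'
  refine ⟨⟨t, ht0⟩, ?_⟩
  rw [← euler_congr k u', he, hχ3']
  rfl

end Groth.Agent.Lib.Helper8.TwistPt
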