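import Groth.Agent.Lib.Helper8.G1Gen
import Groth.Agent.Lib.Helper8.TwistPt
import Groth.Agent.Lib.Helper4.Snapper10

/-! # Helper8 — the subspace of sections of an invertible module vanishing at a closed point -/
set_option autoImplicit false
universe u
open CategoryTheory CategoryTheory.Limits AlgebraicGeometry Opposite TopologicalSpace
noncomputable section

namespace Groth.Agent.Lib.Helper8.MinPtsA

open Groth.Agent.Lib.Helper8.EulerK Groth.Agent.Lib.Helper28 Groth.Agent.Lib.Helper8.KillA
  Groth.Agent.Lib.Helper8.PointDeg Groth.Agent.Lib.Helper8.Vanish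
  Groth.Agent.Lib.Helper8.GGKill

variable (k : Type u) [Field k] (X : Scheme.{u}) [X.Over (Spec (CommRingCat.of k))]
  [IsIntegral X] [IsProper (X ↘ Spec (CommRingCat.of k))]

/-- evaluation at the closed point `y`: `L → L ⊗ O_y` -/
def gy (L : X.Modules) (y : X) (hy : IsClosed ({y} : Set X)) :
    L ⟶ (DCoh.tensorBi.obj L).obj (ClSub.quotMod (ptI y hy)) :=
  (Classical.choice (AmpleUnit.nonempty_tensor_unit_iso L)).inv ≫
    (DCoh.tensorBi.obj L).map (ClSub.toSubscheme (ptI y hy))

include k in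
/-- **a section vanishes at `y` iff it dies in `L ⊗ O_y`** -/
theorem comp_gy_eq_zero_iff (L : X.Modules) (hL : PicF.IsInvertible L) (y : X)
    (hy : IsClosed ({y} : Set X)) (s : Coh.structureModule X ⟶ L) :
    s ≫ gy X L y hy = 0 ↔ y ∉ CohB1.genLocus L s := by
  haveI : IsLocallyNoetherian X := isLocallyNoetherian k X
  obtain ⟨hS, c1, c2, c3, -⟩ := Groth.Agent.Lib.Helper8.TwistPt.twist_data k X L hL y hy
  set S := (Groth.Agent.Lib.Helper17.Serre.idealSES (ptI y hy)).map (DCoh.tensorBi.obj L) with hSdef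
  set u : S.X₂ ≅ L := Classical.choice (AmpleUnit.nonempty_tensor_unit_iso L) with hu
  have hgl : CohB1.genLocus S.X₂ (s ≫ u.inv) = CohB1.genLocus L s :=
    AmpleUnit.genLocus_comp_iso s u.symm
  have hgy : s ≫ gy X L y hy = (s ≫ u.inv) ≫ S.g := by
    unfold gy
    rw [Category.assoc]
    rfl
  rw [hgy, ← hgl]
  constructor
  · intro hz hmem
    haveI : Mono S.f := hS.mono_f
    haveI : Epi S.g := hS.epi_g
    have hts : hS.exact.lift (s ≫ u.inv) hz ≫ S.f = s ≫ u.inv := hS.exact.lift_f _ hz
    have hsub := Groth.Agent.Lib.Helper8.Descend.subsingleton_stalk_of_factor S.f S.g S.zero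
      (s ≫ u.inv) _ hts y hmem
    have hsupp : y ∈ CohB1.support S.X₃ := by
      have h1 : CohB1.support S.X₃ = CohB1.support (ClSub.quotMod (ptI y hy)) :=
        Groth.Agent.Lib.Helper4.Snapper.support_tensorMod_eq L _ hL
      rw [h1]
      have h2 : CohB1.support (ClSub.quotMod (ptI y hy)) = {y} :=
        Groth.Agent.Lib.Helper6.DevRed.support_quotMod_vanishingIdeal (Z := ⟨{y}, hy⟩)
      rw [h2]
      rfl
    exact hsupp hsub
  · intro hnot
    exact comp_eq_zero hL y hy (s ≫ u.inv) hnot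

end Groth.Agent.Lib.Helper8.MinPtsA
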