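import Mathlib
import Groth.Prelude.Def_KLin
import Groth.Agent.Lib.Helper8.CurveDeg1
import Groth.Agent.Lib.Helper8.GGKill
import Groth.Agent.Lib.Helper8.CurveRR
import Groth.Agent.Lib.Helper8.GGCoh

/-! # Helper8 — special divisors without duality: for a nonzero section `s` of a rank-one torsion-free
module `M` on an integral proper curve, `H¹(O) → H¹(M)` is surjective; hence `h⁰(M) ≤ g` whenever
`H¹(M) ≠ 0` -/
set_option autoImplicit false
universe u
open CategoryTheory CategoryTheory.Limits AlgebraicGeometry Opposite TopologicalSpace MonoidalCategory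
noncomputable section

namespace Groth.Agent.Lib.Helper8.SpecialA

open Groth.Agent.Lib.Helper8.EulerK Groth.Agent.Lib.Helper8.KillA Groth.Agent.Lib.Helper8.GGKill
  Groth.Agent.Lib.Helper17.StalkExact Groth.Agent.Lib.Helper8.CurveInv Groth.Agent.Lib.Helper8.CurveDeg
  Groth.Agent.Lib.Helper2.HLesLin Groth.Agent.Lib.Helper4.HLesFin1

variable (k : Type u) [Field k] (X : Scheme.{u}) [X.Over (Spec (CommRingCat.of k))]

section lin
variable {X}

/-- `f ↦ Hⁿ(f)` as a `k`-linear map on `Hom` -/
def Φ (M N : X.Modules) (n : ℕ) : (M ⟶ N) →ₗ[k] (Coh.HH X M n →ₗ[k] Coh.HH X N n) where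
  toFun f := Canon.HHlin k f n
  map_add' f g := by
    ext x
    exact Groth.Agent.Lib.Helper8.GGCoh.HHmap_add f g n x
  map_smul' a f := by
    ext x
    change HHmap (Formal.smulMod k M a ≫ f) n x = _
    rw [HHmap_comp]
    change Canon.HHlin k f n (a • x) = _
    rw [map_smul]
    rfl

theorem Φ_apply (M N : X.Modules) (n : ℕ) (f : M ⟶ N) (x : Coh.HH X M n) :
    Φ k M N n f x = HHmap f n x := rfl

/-- morphisms out of the structure sheaf are the same as classes in `H⁰`, `k`-linearly -/
def evL (M : X.Modules) : (Coh.structureModule X ⟶ M) ≃ₗ[k] Coh.HH X M 0 :=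
  LinearEquiv.ofBijective
    ((LinearMap.applyₗ (unitH X)).comp (Φ k (Coh.structureModule X) M 0))
    ⟨fun f g h => hom_eq_of_HHmap_unitH_eq f g h, fun q => exists_hom_of_H0 M q⟩

theorem evL_apply (M : X.Modules) (f : Coh.structureModule X ⟶ M) :
    evL k M f = HHmap f 0 (unitH X) := rfl

end lin

section main
variable [IsIntegral X] [IsProper (X ↘ Spec (CommRingCat.of k))]

/-- on an integral proper curve, a monomorphism of coherent modules which is generically surjective
induces a surjection on `H¹` -/
theorem HHlin_one_surjective (hdim : topologicalKrullDim X ≤ 1) (E F : X.Modules)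
    (hcE : Coh.IsCoh E) (hcF : Coh.IsCoh F) (f : E ⟶ F) [Mono f]
    (hgen : genericPoint X ∉ CohB1.support (cokernel f)) :
    Function.Surjective (Canon.HHlin k f 1) := by
  haveI : IsLocallyNoetherian X := isLocallyNoetherian k X
  have hcQ := Groth.Agent.Lib.Helper6.DevCore.isCoh_cokernel f hcE hcF
  have h0 : ∀ x ∈ CohB1.support (cokernel f), IsClosed ({x} : Set X) := by
    intro x hx
    apply isClosed_singleton_of_ne_genericPoint hdim
    rintro rfl
    exact hgen hx
  haveI := subsingleton_HH_succ (cokernel f) hcQ h0 0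
  have hS : (ShortComplex.mk f (cokernel.π f) (cokernel.condition f)).ShortExact :=
    { exact := ShortComplex.exact_cokernel f
      mono_f := by dsimp; infer_instance
      epi_g := by dsimp; infer_instance }
  have h := range_eq_ker₂ _ hS k 1
  rw [← LinearMap.range_eq_top, h]
  ext x
  simp only [LinearMap.mem_ker, Submodule.mem_top, iff_true]
  exact Subsingleton.elim _ _

/-- a nonzero morphism from `O_X` into a submodule of an invertible module is a monomorphism which is
generically surjective -/
theorem mono_and_generic (M L : X.Modules) (hL : PicF.IsInvertible L) (ι : M ⟶ L) [Mono ι]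
    (f : Coh.structureModule X ⟶ M) (hf : f ≠ 0) :
    Mono f ∧ genericPoint X ∉ CohB1.support (cokernel f) := by
  have hO := Groth.Agent.Lib.Helper28.AmpleUnit.isInvertible_structureModule X
  have hfι : f ≫ ι ≠ 0 := by
    intro h
    apply hf
    rw [← cancel_mono ι, h, zero_comp]
  haveI : Mono (f ≫ ι) := mono_of_ne_zero hO hL (f ≫ ι) hfι
  haveI : Mono f := mono_of_mono f ι
  refine ⟨inferInstance, ?_⟩
  have hsurj := stalkHom_genericPoint_surjective hO hL (f ≫ ι) hfι
  have hinj := stalkHom_injective_of_mono ι (genericPoint X)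
  have hcomp : ∀ a, stalkHom (f ≫ ι) (genericPoint X) a =
      stalkHom ι (genericPoint X) (stalkHom f (genericPoint X) a) := by
    intro a
    unfold stalkHom
    rw [Functor.map_comp]
    rfl
  have hfs : Function.Surjective (stalkHom f (genericPoint X)) := by
    intro m
    obtain ⟨a, ha⟩ := hsurj (stalkHom ι (genericPoint X) m)
    refine ⟨a, hinj ?_⟩
    rw [← hcomp, ha]
  intro hmem
  apply hmem
  refine ⟨fun q q' => ?_⟩
  have key : ∀ q : (cokernel f).presheaf.stalk (genericPoint X), q = 0 := by
    intro q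
    obtain ⟨m, rfl⟩ := stalkHom_surjective_of_epi (cokernel.π f) (genericPoint X) q
    obtain ⟨n, rfl⟩ := hfs m
    have hS : (ShortComplex.mk f (cokernel.π f) (cokernel.condition f)).Exact :=
      ShortComplex.exact_cokernel f
    have := (stalkHom_exact_of_exact _ hS (genericPoint X)).apply_apply_eq_zero n
    exact this
  rw [key q, key q']

/-- **special modules have few sections**: if `M` is a coherent submodule of an invertible module on an
integral proper curve and `H¹(M) ≠ 0`, then `h⁰(M) ≤ h¹(O_X)` -/
theorem h0_le_genus (hdim : topologicalKrullDim X ≤ 1) (M L : X.Modules) (hcM : Coh.IsCoh M)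
    (hL : PicF.IsInvertible L) (ι : M ⟶ L) [Mono ι] (h1 : Nontrivial (Coh.HH X M 1)) :
    Module.finrank k (Coh.HH X M 0) ≤ Module.finrank k (Coh.HH X (Coh.structureModule X) 1) := by
  have hO := Groth.Agent.Lib.Helper28.AmpleUnit.isInvertible_structureModule X
  have hcO := Groth.Agent.Lib.Helper6.K0Op.isCoh_of_isInvertible _ hO
  haveI := finite_HH k X _ hcO 1
  haveI := finite_HH k X _ hcM 1
  obtain ⟨y, hy⟩ := exists_ne (0 : Coh.HH X M 1)
  obtain ⟨φ, hφ⟩ : ∃ φ : Module.Dual k (Coh.HH X M 1), φ y ≠ 0 := by
    by_contra hcon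
    simp only [not_exists, not_not] at hcon
    exact hy ((Module.forall_dual_apply_eq_zero_iff k y).1 hcon)
  let Θ : (Coh.structureModule X ⟶ M) →ₗ[k] Module.Dual k (Coh.HH X (Coh.structureModule X) 1) :=
    (LinearMap.llcomp k _ _ _ φ).comp (Φ k (Coh.structureModule X) M 1)
  have hΘ : Function.Injective Θ := by
    rw [← LinearMap.ker_eq_bot, LinearMap.ker_eq_bot']
    intro f hf
    by_contra hne
    obtain ⟨hm, hg⟩ := mono_and_generic X M L hL ι f hne
    haveI := hm
    obtain ⟨z, hz⟩ := HHlin_one_surjective k X hdim _ _ hcO hcM f hg y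
    apply hφ
    rw [← hz]
    exact LinearMap.congr_fun hf z
  have h2 := LinearMap.finrank_le_finrank_of_injective hΘ
  rw [Subspace.dual_finrank_eq] at h2
  rw [← (evL k M).finrank_eq]
  exact h2

end main

end Groth.Agent.Lib.Helper8.SpecialA
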