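import Mathlib
import Groth.Agent.Lib.Helper8.SpecialA
import Groth.Agent.Lib.Helper8.TwistPt
import Groth.Agent.Lib.Helper4.Snapper10

/-! # Helper8 — `χ(I ⊗ L) = χ(L) - deg Z` for a zero-dimensional subscheme of an integral proper curve, and
the bound `deg L ≤ 2g - 2 + deg Z` when `H¹(I ⊗ L) ≠ 0` (no duality needed) -/
set_option autoImplicit false
universe u
open CategoryTheory CategoryTheory.Limits AlgebraicGeometry Opposite TopologicalSpace MonoidalCategory
noncomputable section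

namespace Groth.Agent.Lib.Helper8.SpecialB

open Groth.Agent.Lib.Helper8.EulerK Groth.Agent.Lib.Helper8.KillA Groth.Agent.Lib.Helper8.GGKill
  Groth.Agent.Lib.Helper8.CurveInv Groth.Agent.Lib.Helper8.CurveDeg
  Groth.Agent.Lib.Helper6.DevCore Groth.Agent.Lib.Helper6.DevRed
  Groth.Agent.Lib.Helper8.SpecialA

variable (k : Type u) [Field k] (X : Scheme.{u}) [X.Over (Spec (CommRingCat.of k))]
  [IsIntegral X] [IsProper (X ↘ Spec (CommRingCat.of k))]

omit [X.Over (Spec (CommRingCat.of k))] [IsProper (X ↘ Spec (CommRingCat.of k))] in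
/-- points of a closed zero-dimensional subset of an integral curve are closed -/
theorem isClosed_singleton_of_mem (hdim : topologicalKrullDim X = 1) (T : Set X) (hT : IsClosed T)
    (hT0 : topologicalKrullDim T ≤ 0) (x : X) (hx : x ∈ T) : IsClosed ({x} : Set X) := by
  apply isClosed_singleton_of_ne_genericPoint hdim.le
  rintro rfl
  have hU : T = Set.univ := by
    apply Set.eq_univ_of_forall
    intro y
    have h1 : y ∈ closure ({genericPoint X} : Set X) := by
      rw [genericPoint_spec X]; trivial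
    exact (hT.closure_subset_iff.2 (Set.singleton_subset_iff.2 hx)) h1
  subst hU
  have h2 : topologicalKrullDim (Set.univ : Set X) = topologicalKrullDim X :=
    IsHomeomorph.topologicalKrullDim_eq _ (Homeomorph.Set.univ X).isHomeomorph
  rw [h2, hdim] at hT0
  exact absurd hT0 (by norm_num)

/-- data attached to `I ⊗ L` for a zero-dimensional closed subscheme `Z` of an integral proper curve:
coherence, an embedding into an invertible module, and `χ(I ⊗ L) + deg Z = χ(L)` -/
theorem ideal_tensor_data (hdim : topologicalKrullDim X = 1) (L : X.Modules) (hL : PicF.IsInvertible L)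
    (Z : X.IdealSheafData) (hZ : topologicalKrullDim (Z.support : Set X) ≤ 0) :
    Coh.IsCoh (CohB1.tensorMod (ClSub.idealMod Z) L) ∧
    (∃ (L' : X.Modules) (_ : PicF.IsInvertible L') (ι : CohB1.tensorMod (ClSub.idealMod Z) L ⟶ L'), Mono ι) ∧
    Curv2.euler k X (CohB1.tensorMod (ClSub.idealMod Z) L) +
      (Module.finrank k (Coh.HH X (ClSub.quotMod Z) 0) : ℤ) = Curv2.euler k X L := by
  haveI : IsLocallyNoetherian X := isLocallyNoetherian k X
  haveI : IsNoetherian X := Groth.Agent.Lib.Helper8.CurveRR.isNoetherian k X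
  have hLc := Groth.Agent.Lib.Helper6.K0Op.isCoh_of_isInvertible L hL
  have hO := Groth.Agent.Lib.Helper28.AmpleUnit.isInvertible_structureModule X
  have hcQ : Coh.IsCoh (ClSub.quotMod Z) := isCoh_quotMod Z
  have hcO : Coh.IsCoh (Coh.structureModule X) := isCoh_structureModule
  have hcI : Coh.IsCoh (ClSub.idealMod Z) := isCoh_kernel _ hcO hcQ
  have hses := Groth.Agent.Lib.Helper17.Serre.idealSES_shortExact Z
  have hS := Groth.Agent.Lib.Helper6.K0Op.shortExact_tensor_of_flat L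
    (Groth.Agent.Lib.Helper6.K0Op.isFlat_of_isInvertible L hL) _ hses
  set S := (Groth.Agent.Lib.Helper17.Serre.idealSES Z).map (DCoh.tensorBi.obj L) with hSdef
  have c1 : Coh.IsCoh S.X₁ := Groth.Agent.Lib.Helper6.K0Op.isCoh_tensorMod L _ hLc hcI
  have c2 : Coh.IsCoh S.X₂ := Groth.Agent.Lib.Helper6.K0Op.isCoh_tensorMod L _ hLc hcO
  have c3 : Coh.IsCoh S.X₃ := Groth.Agent.Lib.Helper6.K0Op.isCoh_tensorMod L _ hLc hcQ
  have hcM : Coh.IsCoh (CohB1.tensorMod (ClSub.idealMod Z) L) :=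
    Groth.Agent.Lib.Helper6.K0Op.isCoh_tensorMod _ L hcI hLc
  let b : CohB1.tensorMod (ClSub.idealMod Z) L ≅ S.X₁ :=
    Groth.Agent.Lib.Helper6.K0Inv.braidIso (ClSub.idealMod Z) L
  refine ⟨hcM, ⟨S.X₂, ?_, b.hom ≫ S.f, ?_⟩, ?_⟩
  · exact Groth.Agent.Lib.Helper28.GenLocus.isInvertible_tensorMod hL hO
  · haveI : Mono S.f := hS.mono_f
    exact mono_comp _ _
  · have hadd := euler_add k X S hS c1 c2 c3
    obtain ⟨u⟩ := Groth.Agent.Lib.Helper28.AmpleUnit.nonempty_tensor_unit_iso L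
    have e2 : Curv2.euler k X S.X₂ = Curv2.euler k X L := euler_congr k (show S.X₂ ≅ L from u)
    have e1 : Curv2.euler k X (CohB1.tensorMod (ClSub.idealMod Z) L) = Curv2.euler k X S.X₁ :=
      euler_congr k b
    have hsuppQ : CohB1.support (ClSub.quotMod Z) = (Z.support : Set X) := support_quotMod (I := Z)
    have hcl : ∀ z ∈ CohB1.support (ClSub.quotMod Z), IsClosed ({z} : Set X) := by
      intro z hz
      rw [hsuppQ] at hz
      exact isClosed_singleton_of_mem X hdim _ Z.support.isClosed hZ z hz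
    haveI : (ClSub.quotMod Z).IsQuasicoherent := hcQ.1
    haveI : SheafOfModules.IsFiniteType.{u} (R := X.ringCatSheaf) (ClSub.quotMod Z) := hcQ.2
    have hχQ : Curv2.euler k X (ClSub.quotMod Z) =
        (Module.finrank k (Coh.HH X (ClSub.quotMod Z) 0) : ℤ) := by
      rw [euler_eq_sum k X _ 1 (fun p hp => by
        obtain ⟨q, rfl⟩ : ∃ q, p = q + 1 := ⟨p - 1, by omega⟩
        exact subsingleton_HH_succ _ hcQ hcl q)]
      simp
    have e3 : Curv2.euler k X S.X₃ = Curv2.euler k X (ClSub.quotMod Z) := by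
      have hmem : Groth.Agent.Lib.Helper6.K0Len.cls (ClSub.quotMod Z) ∈ Groth.Agent.Lib.Helper6.K0Len.Hlt X (0 + 1) :=
        Groth.Agent.Lib.Helper4.Snapper.cls_mem_Hlt _ hcQ 0 (by rw [hsuppQ]; exact_mod_cast hZ)
      have h1 := Groth.Agent.Lib.Helper4.Snapper.Top_sub_one_mem_Hlt L hL 0 _ hmem
      rw [Groth.Agent.Lib.Helper4.Snapper.Hlt_zero, AddSubgroup.mem_bot] at h1
      have h2 : Groth.Agent.Lib.Helper6.K0Op.Top L (Groth.Agent.Lib.Helper6.K0Len.cls (ClSub.quotMod Z)) =
          Groth.Agent.Lib.Helper6.K0Len.cls (ClSub.quotMod Z) := by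
        have : (Groth.Agent.Lib.Helper6.K0Op.Top L - 1) (Groth.Agent.Lib.Helper6.K0Len.cls (ClSub.quotMod Z)) =
          Groth.Agent.Lib.Helper6.K0Op.Top L (Groth.Agent.Lib.Helper6.K0Len.cls (ClSub.quotMod Z)) -
            Groth.Agent.Lib.Helper6.K0Len.cls (ClSub.quotMod Z) := rfl
        rw [this, sub_eq_zero] at h1
        exact h1
      rw [Groth.Agent.Lib.Helper6.K0Op.Top_cls L hL _ hcQ] at h2
      have h3 := congrArg (Groth.Agent.Lib.Helper4.Snapper.eulerHom k X) h2
      have c3' : Coh.IsCoh (CohB1.tensorMod L (ClSub.quotMod Z)) := c3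
      rw [Groth.Agent.Lib.Helper4.Snapper.eulerHom_cls k X _ c3',
        Groth.Agent.Lib.Helper4.Snapper.eulerHom_cls k X _ hcQ] at h3
      exact h3
    rw [e1, ← e2, hadd, e3, hχQ]

/-- Euler characteristic bound for special submodules of invertible modules: if `H¹(M) ≠ 0` then
`χ(M) ≤ g - 1` -/
theorem euler_le_of_h1 (hdim : topologicalKrullDim X = 1) (M L' : X.Modules) (hcM : Coh.IsCoh M)
    (hL' : PicF.IsInvertible L') (ι : M ⟶ L') [Mono ι] (h1 : Nontrivial (Coh.HH X M 1)) :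
    Curv2.euler k X M ≤ (Curv2.genus k X : ℤ) - 1 := by
  have hle := h0_le_genus k X hdim.le M L' hcM hL' ι h1
  haveI := finite_HH k X _ hcM 1
  have hpos : 0 < Module.finrank k (Coh.HH X M 1) := Module.finrank_pos
  rw [Groth.Agent.Lib.Helper8.CurveRR.euler_eq_sub k X hdim.le M hcM.1]
  unfold Curv2.genus
  omega

/-- **no duality needed**: if `H¹(I_Z ⊗ L) ≠ 0` then `deg L ≤ 2g - 2 + deg Z` -/
theorem deg_le_of_h1 (hdim : topologicalKrullDim X = 1)
    (h0 : Module.finrank k (Coh.HH X (Coh.structureModule X) 0) = 1)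
    (L : X.Modules) (hL : PicF.IsInvertible L) (Z : X.IdealSheafData)
    (hZ : topologicalKrullDim (Z.support : Set X) ≤ 0)
    (h1 : Nontrivial (Coh.HH X (CohB1.tensorMod (ClSub.idealMod Z) L) 1)) :
    Curv2.deg k X L 1 ≤ 2 * (Curv2.genus k X : ℤ) - 2 +
      Module.finrank k (Coh.HH X (ClSub.quotMod Z) 0) := by
  obtain ⟨hcM, ⟨L', hL', ι, hι⟩, hχ⟩ := ideal_tensor_data k X hdim L hL Z hZ
  haveI := hι
  have h2 := euler_le_of_h1 k X hdim _ L' hcM hL' ι h1
  have hO := Groth.Agent.Lib.Helper28.AmpleUnit.isInvertible_structureModule X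
  have hcO := Groth.Agent.Lib.Helper6.K0Op.isCoh_of_isInvertible _ hO
  have h3 := Groth.Agent.Lib.Helper8.CurveRR.euler_eq_sub k X hdim.le _ hcO.1
  unfold Curv2.deg
  unfold Curv2.genus at h2 ⊢
  rw [h0] at h3
  push_cast at h3 ⊢
  omega

/-- if `deg L > 2g - 2 + deg Z` then `H¹(I_Z ⊗ L) = 0`; if moreover `H⁰(I_Z ⊗ L) = 0` then `g = 0`
and `deg L = deg Z - 1` -/
theorem vanish_of_deg_gt (hdim : topologicalKrullDim X = 1)
    (h0 : Module.finrank k (Coh.HH X (Coh.structureModule X) 0) = 1)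
    (L : X.Modules) (hL : PicF.IsInvertible L) (Z : X.IdealSheafData)
    (hZ : topologicalKrullDim (Z.support : Set X) ≤ 0)
    (hdeg : 2 * (Curv2.genus k X : ℤ) - 2 + Module.finrank k (Coh.HH X (ClSub.quotMod Z) 0) <
      Curv2.deg k X L 1) :
    Subsingleton (Coh.HH X (CohB1.tensorMod (ClSub.idealMod Z) L) 1) ∧
      (Subsingleton (Coh.HH X (CohB1.tensorMod (ClSub.idealMod Z) L) 0) →
        Curv2.genus k X = 0 ∧
          Curv2.deg k X L 1 = Module.finrank k (Coh.HH X (ClSub.quotMod Z) 0) - 1) := by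
  have hsub : Subsingleton (Coh.HH X (CohB1.tensorMod (ClSub.idealMod Z) L) 1) := by
    by_contra hcon
    rw [not_subsingleton_iff_nontrivial] at hcon
    have := deg_le_of_h1 k X hdim h0 L hL Z hZ hcon
    omega
  refine ⟨hsub, fun hsub0 => ?_⟩
  obtain ⟨hcM, -, hχ⟩ := ideal_tensor_data k X hdim L hL Z hZ
  have hO := Groth.Agent.Lib.Helper28.AmpleUnit.isInvertible_structureModule X
  have hcO := Groth.Agent.Lib.Helper6.K0Op.isCoh_of_isInvertible _ hO
  have h3 := Groth.Agent.Lib.Helper8.CurveRR.euler_eq_sub k X hdim.le _ hcO.1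
  have h4 := Groth.Agent.Lib.Helper8.CurveRR.euler_eq_sub k X hdim.le _ hcM.1
  rw [Module.finrank_zero_of_subsingleton, Module.finrank_zero_of_subsingleton] at h4
  unfold Curv2.deg at hdeg ⊢
  unfold Curv2.genus at hdeg ⊢
  rw [h0] at h3
  push_cast at h3 h4 hdeg ⊢
  constructor
  · omega
  · omega

end Groth.Agent.Lib.Helper8.SpecialB
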