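import Mathlib
import Groth.Agent.Lib.Helper8.SpecialB
import Groth.Agent.Lib.Helper8.MinPtsA
import Groth.Agent.Lib.Helper8.AbelG1
import Groth.Agent.Lib.Helper8.GGPoint

/-! # Helper8 — invertible modules of degree `≥ 2g` on an integral proper curve with `H⁰(O) = k` are
globally generated (no duality, no regularity) -/
set_option autoImplicit false
universe u
open CategoryTheory CategoryTheory.Limits AlgebraicGeometry Opposite TopologicalSpace MonoidalCategory
noncomputable section

namespace Groth.Agent.Lib.Helper8.SpecialC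

open Groth.Agent.Lib.Helper8.EulerK Groth.Agent.Lib.Helper8.KillA Groth.Agent.Lib.Helper8.GGKill
  Groth.Agent.Lib.Helper8.CurveInv Groth.Agent.Lib.Helper8.CurveDeg
  Groth.Agent.Lib.Helper6.DevCore Groth.Agent.Lib.Helper6.DevRed
  Groth.Agent.Lib.Helper8.SpecialA Groth.Agent.Lib.Helper8.SpecialB Groth.Agent.Lib.Helper8.PointDeg
  Groth.Agent.Lib.Helper8.MinPtsA Groth.Agent.Lib.Helper28

variable (k : Type u) [Field k] (X : Scheme.{u}) [X.Over (Spec (CommRingCat.of k))]
  [IsIntegral X] [IsProper (X ↘ Spec (CommRingCat.of k))]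

/-- `H¹(L) = 0` and `h⁰(L) = χ(L)` once `χ(L) ≥ g` -/
theorem h1_subsingleton_of_euler (hdim : topologicalKrullDim X = 1) (L : X.Modules)
    (hL : PicF.IsInvertible L) (hχ : (Curv2.genus k X : ℤ) ≤ Curv2.euler k X L) :
    Subsingleton (Coh.HH X L 1) := by
  by_contra hcon
  rw [not_subsingleton_iff_nontrivial] at hcon
  have hLc := Groth.Agent.Lib.Helper6.K0Op.isCoh_of_isInvertible L hL
  have := euler_le_of_h1 k X hdim L L hLc hL (𝟙 L) hcon
  omega

/-- if `χ(L) ≥ g + 1`, every closed point has a section of `L` generating there -/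
theorem exists_section_mem_genLocus (hdim : topologicalKrullDim X = 1) (L : X.Modules)
    (hL : PicF.IsInvertible L) (hχ : (Curv2.genus k X : ℤ) + 1 ≤ Curv2.euler k X L)
    (y : X) (hy : IsClosed ({y} : Set X)) :
    ∃ s : Coh.structureModule X ⟶ L, y ∈ CohB1.genLocus L s := by
  haveI : IsLocallyNoetherian X := isLocallyNoetherian k X
  by_contra hcon
  simp only [not_exists] at hcon
  have hk : ∀ s : Coh.structureModule X ⟶ L, s ≫ gy X L y hy = 0 :=
    fun s => (comp_gy_eq_zero_iff k X L hL y hy s).2 (hcon s)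
  obtain ⟨hS, c1, c2, c3, hχ3⟩ := Groth.Agent.Lib.Helper8.TwistPt.twist_data k X L hL y hy
  set S := (Groth.Agent.Lib.Helper17.Serre.idealSES (ptI y hy)).map (DCoh.tensorBi.obj L) with hSdef
  set u : S.X₂ ≅ L := Classical.choice (AmpleUnit.nonempty_tensor_unit_iso L) with hu
  have hO := AmpleUnit.isInvertible_structureModule X
  have hL2 : PicF.IsInvertible S.X₂ := GenLocus.isInvertible_tensorMod hL hO
  haveI : Mono S.f := hS.mono_f
  -- all sections of `L ⊗ O` come from `L ⊗ I`
  have hsurj : Function.Surjective (Linear.rightComp k (Coh.structureModule X) S.f) := by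
    intro t
    have hz : t ≫ S.g = 0 := by
      have h1 := hk (t ≫ u.hom)
      have hgy : (t ≫ u.hom) ≫ gy X L y hy = ((t ≫ u.hom) ≫ u.inv) ≫ S.g := by
        unfold gy
        rw [Category.assoc]
        rfl
      rw [hgy] at h1
      have h2 : ((t ≫ u.hom) ≫ u.inv) ≫ S.g = t ≫ S.g := by
        rw [Category.assoc t, u.hom_inv_id, Category.comp_id]
      rw [← h2]
      exact h1
    exact ⟨hS.exact.lift t hz, hS.exact.lift_f t hz⟩
  have hinj : Function.Injective (Linear.rightComp k (Coh.structureModule X) S.f) := by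
    intro a b hab
    exact (cancel_mono S.f).1 hab
  have heq : Module.finrank k (Coh.HH X S.X₁ 0) = Module.finrank k (Coh.HH X S.X₂ 0) := by
    rw [← (evL k S.X₁).finrank_eq, ← (evL k S.X₂).finrank_eq]
    exact (LinearEquiv.ofBijective _ ⟨hinj, hsurj⟩).finrank_eq
  have hadd := euler_add k X S hS c1 c2 c3
  have e2 : Curv2.euler k X S.X₂ = Curv2.euler k X L := euler_congr k u
  have hpos := Groth.Agent.Lib.Helper8.AbelG1.finrank_quotMod_pos k X y hy
  have hsub2 : Subsingleton (Coh.HH X S.X₂ 1) :=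
    h1_subsingleton_of_euler k X hdim S.X₂ hL2 (by omega)
  have r1 : Curv2.euler k X S.X₁ = (Module.finrank k (Coh.HH X S.X₁ 0) : ℤ) -
      (Module.finrank k (Coh.HH X S.X₁ 1) : ℤ) :=
    Groth.Agent.Lib.Helper8.CurveRR.euler_eq_sub k X hdim.le _ c1.1
  have r2 : Curv2.euler k X S.X₂ = (Module.finrank k (Coh.HH X S.X₂ 0) : ℤ) -
      (Module.finrank k (Coh.HH X S.X₂ 1) : ℤ) :=
    Groth.Agent.Lib.Helper8.CurveRR.euler_eq_sub k X hdim.le _ c2.1
  rw [Module.finrank_zero_of_subsingleton (M := Coh.HH X S.X₂ 1)] at r2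
  by_cases h1 : Nontrivial (Coh.HH X S.X₁ 1)
  · have hle := h0_le_genus k X hdim.le S.X₁ S.X₂ c1 hL2 S.f h1
    unfold Curv2.genus at hχ
    push_cast at r2
    omega
  · rw [not_nontrivial_iff_subsingleton] at h1
    rw [Module.finrank_zero_of_subsingleton (M := Coh.HH X S.X₁ 1)] at r1
    have hχ3' : Curv2.euler k X S.X₃ =
      (Module.finrank k (Coh.HH X (ClSub.quotMod (ptI y hy)) 0) : ℤ) := hχ3
    push_cast at r1 r2
    omega

/-- **global generation**: `χ(L) ≥ g + 1` (e.g. `deg L ≥ 2g` when `h⁰(O) = 1`) implies `L` globally generated -/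
theorem isGloballyGenerated_of_euler (hdim : topologicalKrullDim X = 1) (L : X.Modules)
    (hL : PicF.IsInvertible L) (hχ : (Curv2.genus k X : ℤ) + 1 ≤ Curv2.euler k X L) :
    Curv2.IsGloballyGenerated L := by
  apply Groth.Agent.Lib.Helper8.GGPoint.isGloballyGenerated_of_forall_mem_genLocus
  intro x
  haveI : JacobsonSpace X := LocallyOfFiniteType.jacobsonSpace (X ↘ Spec (CommRingCat.of k))
  obtain ⟨P, hPx, hP⟩ := nonempty_inter_closedPoints
    (show (closure ({x} : Set X)).Nonempty from ⟨x, subset_closure rfl⟩)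
    isClosed_closure.isLocallyClosed
  have hP' : IsClosed ({P} : Set X) := hP
  obtain ⟨s, hs⟩ := exists_section_mem_genLocus k X hdim L hL hχ P hP'
  refine ⟨s, ?_⟩
  have hsp : x ⤳ P := specializes_iff_mem_closure.2 hPx
  exact hsp.mem_open (CohB1.genLocus L s).isOpen hs

end Groth.Agent.Lib.Helper8.SpecialC
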