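import Mathlib
import Groth.Agent.Lib.Helper8.SpecialC
import Groth.Agent.Lib.Helper8.TwistPt
import Groth.Agent.Lib.Helper17.TensorSupp

/-! # Helper8 — ClifA: base points of twists at a closed point and the `h⁰`/`h¹` bookkeeping of the
twisted ideal sequence `0 → L ⊗ I_x → L ⊗ O → L ⊗ O_x → 0` over an algebraically closed field -/
set_option autoImplicit false
universe u
open CategoryTheory CategoryTheory.Limits AlgebraicGeometry Opposite TopologicalSpace MonoidalCategory
noncomputable section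

namespace Groth.Agent.Lib.Helper8.ClifA

open Groth.Agent.Lib.Helper8.EulerK Groth.Agent.Lib.Helper8.KillA
  Groth.Agent.Lib.Helper8.PointDeg Groth.Agent.Lib.Helper2.HLesLin
  Groth.Agent.Lib.Helper2.SerreFin1 Groth.Agent.Lib.Helper4.HLesFin1

section defs

variable (k : Type u) [Field k] (X : Scheme.{u}) [X.Over (Spec (CommRingCat.of k))]

/-- the restriction map `H⁰(L ⊗ O) → H⁰(L ⊗ O_x)` -/
def rmap (L : X.Modules) (x : X) (hx : IsClosed ({x} : Set X)) :
    Coh.HH X ((DCoh.tensorBi.obj L).obj (Coh.structureModule X)) 0 →ₗ[k]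
      Coh.HH X ((DCoh.tensorBi.obj L).obj (ClSub.quotMod (ptI x hx))) 0 :=
  Canon.HHlin k ((DCoh.tensorBi.obj L).map (ClSub.toSubscheme (ptI x hx))) 0

/-- `x` is a base point of `L`: every global section of `L` dies in `L ⊗ O_x` -/
def BP (L : X.Modules) (x : X) (hx : IsClosed ({x} : Set X)) : Prop := rmap k X L x hx = 0

variable {X}

/-- transfer of base points along a morphism inducing an injection on `H⁰(- ⊗ O_x)` -/
theorem BP_of_hom {A B : X.Modules} (f : A ⟶ B) (x : X) (hx : IsClosed ({x} : Set X))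
    (hinj : Function.Injective
      (Canon.HHlin k ((DCoh.tensorBi.map f).app (ClSub.quotMod (ptI x hx))) 0))
    (h : BP k X B x hx) : BP k X A x hx := by
  unfold BP rmap at h ⊢
  have hnat : (DCoh.tensorBi.obj A).map (ClSub.toSubscheme (ptI x hx)) ≫
      (DCoh.tensorBi.map f).app (ClSub.quotMod (ptI x hx)) =
      (DCoh.tensorBi.map f).app (Coh.structureModule X) ≫
        (DCoh.tensorBi.obj B).map (ClSub.toSubscheme (ptI x hx)) :=
    (DCoh.tensorBi.map f).naturality (ClSub.toSubscheme (ptI x hx))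
  ext y
  apply hinj
  rw [HHlin_comp_apply, hnat, ← HHlin_comp_apply, h]
  simp

/-- base points are invariant under isomorphism -/
theorem BP_of_iso {L L' : X.Modules} (e : L ≅ L') (x : X) (hx : IsClosed ({x} : Set X))
    (h : BP k X L' x hx) : BP k X L x hx := by
  refine BP_of_hom k e.hom x hx ?_ h
  intro a b hab
  have := congrArg (Canon.HHlin k ((DCoh.tensorBi.map e.inv).app (ClSub.quotMod (ptI x hx))) 0) hab
  rw [HHlin_comp_apply, HHlin_comp_apply, ← NatTrans.comp_app, ← Functor.map_comp,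
    e.hom_inv_id, CategoryTheory.Functor.map_id, NatTrans.id_app, HHlin_id_apply, HHlin_id_apply] at this
  exact this

theorem BP_iff_of_iso {L L' : X.Modules} (e : L ≅ L') (x : X) (hx : IsClosed ({x} : Set X)) :
    BP k X L x hx ↔ BP k X L' x hx :=
  ⟨BP_of_iso k e.symm x hx, BP_of_iso k e x hx⟩

end defs

section LinAlg

variable {K : Type*} [Field K] {V₁ V₂ V₃ W₁ W₂ : Type*}
  [AddCommGroup V₁] [Module K V₁] [AddCommGroup V₂] [Module K V₂] [AddCommGroup V₃] [Module K V₃]
  [AddCommGroup W₁] [Module K W₁] [AddCommGroup W₂] [Module K W₂]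
  [Module.Finite K V₁] [Module.Finite K V₂] [Module.Finite K V₃]
  [Module.Finite K W₁] [Module.Finite K W₂]

/-- dimension count in a five term exact sequence `0 → V₁ → V₂ → V₃ → W₁ → W₂ → 0` -/
theorem five_count (f₀ : V₁ →ₗ[K] V₂) (g₀ : V₂ →ₗ[K] V₃) (δ : V₃ →ₗ[K] W₁) (f₁ : W₁ →ₗ[K] W₂)
    (hf₀ : Function.Injective f₀) (h₁ : LinearMap.range f₀ = LinearMap.ker g₀)
    (h₂ : LinearMap.range g₀ = LinearMap.ker δ) (h₃ : LinearMap.range δ = LinearMap.ker f₁)
    (hf₁ : Function.Surjective f₁) :
    Module.finrank K V₁ + Module.finrank K (LinearMap.range g₀) = Module.finrank K V₂ ∧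
      Module.finrank K W₁ + Module.finrank K (LinearMap.range g₀) =
        Module.finrank K W₂ + Module.finrank K V₃ := by
  have e1 := LinearMap.finrank_range_add_finrank_ker g₀
  have e2 := LinearMap.finrank_range_add_finrank_ker δ
  have e3 := LinearMap.finrank_range_add_finrank_ker f₁
  have e4 : Module.finrank K (LinearMap.range f₀) = Module.finrank K V₁ :=
    LinearMap.finrank_range_of_inj hf₀
  have e5 : Module.finrank K (LinearMap.range f₁) = Module.finrank K W₂ := by
    rw [LinearMap.range_eq_top.2 hf₁, finrank_top]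
  rw [← h₁, e4] at e1
  rw [← h₂] at e2
  rw [← h₃, e5] at e3
  constructor <;> omega

end LinAlg

section main

variable (k : Type u) [Field k] (X : Scheme.{u}) [X.Over (Spec (CommRingCat.of k))]
  [IsIntegral X] [IsProper (X ↘ Spec (CommRingCat.of k))] [IsAlgClosed k]

/-- `h⁰`/`h¹` of the twist `L ⊗ I_x` according to whether `x` is a base point of `L` -/
theorem twist_numbers (L : X.Modules) (hL : PicF.IsInvertible L) (x : X)
    (hx : IsClosed ({x} : Set X)) (hdim : topologicalKrullDim X = 1) :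
    (BP k X L x hx →
      hh k (CohB1.tensorMod L (ClSub.idealMod (ptI x hx))) 0 = hh k L 0 ∧
      hh k (CohB1.tensorMod L (ClSub.idealMod (ptI x hx))) 1 = hh k L 1 + 1) ∧
    (¬ BP k X L x hx →
      hh k (CohB1.tensorMod L (ClSub.idealMod (ptI x hx))) 0 + 1 = hh k L 0 ∧
      hh k (CohB1.tensorMod L (ClSub.idealMod (ptI x hx))) 1 = hh k L 1) := by
  haveI : IsLocallyNoetherian X := isLocallyNoetherian k X
  obtain ⟨hS, c1, c2, c3, hχ3⟩ := Groth.Agent.Lib.Helper8.TwistPt.twist_data k X L hL x hx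
  set S := (Groth.Agent.Lib.Helper17.Serre.idealSES (ptI x hx)).map (DCoh.tensorBi.obj L) with hSdef
  obtain ⟨u⟩ := Groth.Agent.Lib.Helper28.AmpleUnit.nonempty_tensor_unit_iso L
  have hu0 := hh_congr k u 0
  have hu1 := hh_congr k u 1
  have c1' : Coh.IsCoh S.X₁ := c1
  have c2' : Coh.IsCoh S.X₂ := c2
  have c3' : Coh.IsCoh S.X₃ := c3
  haveI := finite_HH k X _ c1' 0
  haveI := finite_HH k X _ c2' 0
  haveI := finite_HH k X _ c3' 0
  haveI := finite_HH k X _ c1' 1
  haveI := finite_HH k X _ c2' 1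
  -- H¹ of the skyscraper vanishes
  have hsupp : ∀ z ∈ CohB1.support S.X₃, IsClosed ({z} : Set X) := by
    intro z hz
    have hLc := Groth.Agent.Lib.Helper6.K0Op.isCoh_of_isInvertible L hL
    have hcQ := Groth.Agent.Lib.Helper6.DevRed.isCoh_quotMod (ptI x hx)
    haveI : L.IsQuasicoherent := hLc.1
    haveI : (ClSub.quotMod (ptI x hx)).IsQuasicoherent := hcQ.1
    haveI : SheafOfModules.IsFiniteType.{u} (R := X.ringCatSheaf) L := hLc.2
    haveI : SheafOfModules.IsFiniteType.{u} (R := X.ringCatSheaf) (ClSub.quotMod (ptI x hx)) := hcQ.2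
    have hz' : z ∈ CohB1.support (CohB1.tensorMod L (ClSub.quotMod (ptI x hx))) := hz
    rw [Groth.Agent.Lib.Helper17.TensorSupp.support_tensorMod,
      Groth.Agent.Lib.Helper6.DevRed.support_quotMod_vanishingIdeal (Z := ⟨{x}, hx⟩)] at hz'
    have : z = x := hz'.2
    rw [this]; exact hx
  have hH1 : Subsingleton (Coh.HH X S.X₃ 1) :=
    Groth.Agent.Lib.Helper8.CurveDeg.subsingleton_HH_succ S.X₃ c3' hsupp 0
  -- h⁰ of the skyscraper is one
  have h3 : Module.finrank k (Coh.HH X S.X₃ 0) = 1 := by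
    have e := Groth.Agent.Lib.Helper8.CurveRR.euler_eq_sub k X hdim.le S.X₃ c3'.1
    have hχ3' : Curv2.euler k X S.X₃ =
        (Module.finrank k (Coh.HH X (ClSub.quotMod (ptI x hx)) 0) : ℤ) := hχ3
    rw [hχ3', finrank_quotMod_of_isAlgClosed x hx k,
      Module.finrank_zero_of_subsingleton (M := Coh.HH X S.X₃ 1)] at e
    push_cast at e
    omega
  -- the long exact sequence
  have hsurj : Function.Surjective (Canon.HHlin k S.f 1) := by
    intro y
    have hy : y ∈ LinearMap.ker (Canon.HHlin k S.g 1) := by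
      rw [LinearMap.mem_ker]; exact Subsingleton.elim _ _
    rw [← range_eq_ker₂ S hS k 1] at hy
    exact hy
  obtain ⟨n1, n2⟩ := five_count (Canon.HHlin k S.f 0) (Canon.HHlin k S.g 0) (δLin S hS k 0)
    (Canon.HHlin k S.f 1) (injective_zero S hS k) (range_eq_ker₂ S hS k 0)
    (range_eq_ker₃ S hS k 0) (range_eq_ker₁ S hS k 0) hsurj
  rw [h3] at n2
  have n2' : Module.finrank k (Coh.HH X S.X₁ 1) +
      Module.finrank k (LinearMap.range (Canon.HHlin k S.g 0)) =
      Module.finrank k (Coh.HH X S.X₂ 1) + 1 := n2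
  have hu0' : Module.finrank k (Coh.HH X S.X₂ 0) = Module.finrank k (Coh.HH X L 0) := hu0
  have hu1' : Module.finrank k (Coh.HH X S.X₂ 1) = Module.finrank k (Coh.HH X L 1) := hu1
  have hg : Canon.HHlin k S.g 0 = rmap k X L x hx := rfl
  change (BP k X L x hx →
      Module.finrank k (Coh.HH X S.X₁ 0) = Module.finrank k (Coh.HH X L 0) ∧
      Module.finrank k (Coh.HH X S.X₁ 1) = Module.finrank k (Coh.HH X L 1) + 1) ∧
    (¬ BP k X L x hx →
      Module.finrank k (Coh.HH X S.X₁ 0) + 1 = Module.finrank k (Coh.HH X L 0) ∧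
      Module.finrank k (Coh.HH X S.X₁ 1) = Module.finrank k (Coh.HH X L 1))
  constructor
  · intro hbp
    have h0 : Module.finrank k (LinearMap.range (Canon.HHlin k S.g 0)) = 0 := by
      have hr : LinearMap.range (Canon.HHlin k S.g 0) = ⊥ := by
        rw [LinearMap.range_eq_bot]
        exact hbp
      rw [hr, finrank_bot]
    omega
  · intro hbp
    have hle : Module.finrank k (LinearMap.range (Canon.HHlin k S.g 0)) ≤ 1 := by
      rw [← h3]; exact Submodule.finrank_le _
    have hpos : 0 < Module.finrank k (LinearMap.range (Canon.HHlin k S.g 0)) := by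
      rw [Module.finrank_pos_iff_exists_ne_zero]
      by_contra hcon
      push Not at hcon
      apply hbp
      unfold BP
      rw [← hg]
      ext y
      have := hcon ⟨_, LinearMap.mem_range_self _ y⟩
      rw [Subtype.ext_iff] at this
      exact this
    omega

end main

end Groth.Agent.Lib.Helper8.ClifA
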