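import Mathlib
import Groth.Agent.Lib.Helper8.ClifA
import Groth.Agent.Lib.Helper16.Stk7

/-! # Helper8 — ClifB: tensoring with the skyscraper `O_x` only sees the stalk at `x`; transfer of
base points along `B ⊗ I_q → B ⊗ O` for `q ≠ x` -/
set_option autoImplicit false
universe u
open CategoryTheory CategoryTheory.Limits AlgebraicGeometry Opposite TopologicalSpace MonoidalCategory
noncomputable section

namespace Groth.Agent.Lib.Helper8.ClifB

open Groth.Agent.Lib.Helper8.EulerK Groth.Agent.Lib.Helper8.KillA
  Groth.Agent.Lib.Helper8.PointDeg Groth.Agent.Lib.Helper2.HLesLin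
  Groth.Agent.Lib.Helper2.SerreFin1 Groth.Agent.Lib.Helper4.HLesFin1
  Groth.Agent.Lib.Helper16.Stk Groth.Agent.Lib.Helper8.ClifA

variable {X : Scheme.{u}}

/-- tensoring a morphism which is an isomorphism on the stalk at `x` with a module supported at `x`
gives a monomorphism -/
theorem mono_tensor_of_isIso_stalk {A B : X.Modules} (f : A ⟶ B) (x : X)
    (hf : IsIso ((stk x).map f)) (N : X.Modules)
    (hN : ∀ z : X, z ≠ x → IsZero ((stk z).obj N)) :
    Mono ((DCoh.tensorBi.map f).app N) := by
  apply mono_of_forall_stalk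
  intro z
  have hnat := stalkTensorIso_natL z f N
  have hform : (stk z).map ((DCoh.tensorBi.map f).app N) =
      (stalkTensorIso z A N).inv ≫ ((stk z).map f ▷ (stk z).obj N) ≫ (stalkTensorIso z B N).hom := by
    rw [hnat, Iso.inv_hom_id_assoc]
  by_cases hz : z = x
  · subst hz
    rw [hform]
    infer_instance
  · have h0 : IsZero ((stk z).obj A ⊗ (stk z).obj N) :=
      (tensorLeft ((stk z).obj A)).map_isZero (hN z hz)
    have h1 : IsZero ((stk z).obj ((DCoh.tensorBi.obj A).obj N)) :=
      h0.of_iso (stalkTensorIso z A N).symm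
    exact ⟨fun g h _ => h1.eq_of_tgt _ _⟩

/-- the stalk of `O_x` away from `x` vanishes -/
theorem isZero_stk_quotMod (x : X) (hx : IsClosed ({x} : Set X)) (z : X) (hz : z ≠ x) :
    IsZero ((stk z).obj (ClSub.quotMod (ptI x hx))) := by
  have hsupp := Groth.Agent.Lib.Helper6.DevRed.support_quotMod_vanishingIdeal (Z := ⟨{x}, hx⟩)
  have hnot : z ∉ CohB1.support (ClSub.quotMod (ptI x hx)) := by
    rw [hsupp]
    exact hz
  have hsub : Subsingleton ((ClSub.quotMod (ptI x hx)).presheaf.stalk z) := by
    by_contra h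
    exact hnot h
  exact @ModuleCat.isZero_of_subsingleton _ _ ((stk z).obj (ClSub.quotMod (ptI x hx))) hsub

/-- the inclusion `I_q → O` is an isomorphism on stalks away from `q` -/
theorem isIso_stk_idealModι (q : X) (hq : IsClosed ({q} : Set X)) (p : X) (hp : p ≠ q) :
    IsIso ((stk p).map (ClSub.idealModι (ptI q hq))) := by
  have hS := Groth.Agent.Lib.Helper17.Serre.idealSES_shortExact (ptI q hq)
  have hS' := hS.map_of_exact (stk p)
  exact hS'.isIso_f_iff.2 (isZero_stk_quotMod q hq p hp)

/-- `B ⊗ I_q → B ⊗ O` is an isomorphism on stalks away from `q` -/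
theorem isIso_stk_tensor_idealModι (B : X.Modules) (q : X) (hq : IsClosed ({q} : Set X)) (p : X)
    (hp : p ≠ q) :
    IsIso ((stk p).map ((DCoh.tensorBi.obj B).map (ClSub.idealModι (ptI q hq)))) := by
  haveI := isIso_stk_idealModι q hq p hp
  have hnat := stalkTensorIso_natR p B (ClSub.idealModι (ptI q hq))
  have hform : (stk p).map ((DCoh.tensorBi.obj B).map (ClSub.idealModι (ptI q hq))) =
      (stalkTensorIso p B _).inv ≫ ((stk p).obj B ◁ (stk p).map (ClSub.idealModι (ptI q hq))) ≫
        (stalkTensorIso p B _).hom := by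
    rw [hnat, Iso.inv_hom_id_assoc]
  rw [hform]
  infer_instance

section transfer

variable (k : Type u) [Field k] [X.Over (Spec (CommRingCat.of k))]

theorem HHlin_zero_injective_of_mono {A B : X.Modules} (g : A ⟶ B) [Mono g] :
    Function.Injective (Canon.HHlin k g 0) := by
  let S : ShortComplex X.Modules := ShortComplex.mk g (cokernel.π g) (cokernel.condition g)
  have hS : S.ShortExact :=
    { exact := ShortComplex.exact_cokernel g
      mono_f := inferInstanceAs (Mono g)
      epi_g := inferInstanceAs (Epi (cokernel.π g)) }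
  exact injective_zero S hS k

/-- **transfer of base points**: if `p ≠ q` is a base point of `B ⊗ O`, it is a base point of
`B ⊗ I_q` -/
theorem BP_tensor_ideal (B : X.Modules) (q : X) (hq : IsClosed ({q} : Set X)) (p : X)
    (hp : IsClosed ({p} : Set X)) (hpq : p ≠ q)
    (h : BP k X ((DCoh.tensorBi.obj B).obj (Coh.structureModule X)) p hp) :
    BP k X ((DCoh.tensorBi.obj B).obj (ClSub.idealMod (ptI q hq))) p hp := by
  haveI := mono_tensor_of_isIso_stalk ((DCoh.tensorBi.obj B).map (ClSub.idealModι (ptI q hq))) p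
    (isIso_stk_tensor_idealModι B q hq p hpq) (ClSub.quotMod (ptI p hp))
    (fun z hz => isZero_stk_quotMod p hp z hz)
  exact BP_of_hom k ((DCoh.tensorBi.obj B).map (ClSub.idealModι (ptI q hq))) p hp
    (HHlin_zero_injective_of_mono k _) h

end transfer

end Groth.Agent.Lib.Helper8.ClifB
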