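import Mathlib
import Groth.Agent.Lib.Helper8.AffPush
import Groth.Agent.Lib.Helper8.EulerK
import Groth.Agent.Lib.Helper16.RS6

/-! # Helper8 — transport of module categories and cohomology dimensions along an isomorphism of k-schemes (pullback along an iso is pushforward along the inverse) -/
set_option autoImplicit false
universe u
open CategoryTheory CategoryTheory.Limits AlgebraicGeometry Opposite TopologicalSpace

noncomputable section
namespace Groth.Agent.Lib.Helper8.IsoTransport

variable {X Y : Scheme.{u}} (e : X ≅ Y)

/-- pushforward along an isomorphism of schemes is an equivalence of module categories -/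
def pushEquiv : Y.Modules ≌ X.Modules :=
  CategoryTheory.Equivalence.mk (Scheme.Modules.pushforward e.inv) (Scheme.Modules.pushforward e.hom)
    ((Scheme.Modules.pushforwardId Y).symm ≪≫ Scheme.Modules.pushforwardCongr (e.inv_hom_id).symm ≪≫
      (Scheme.Modules.pushforwardComp e.inv e.hom).symm)
    (Scheme.Modules.pushforwardComp e.hom e.inv ≪≫ Scheme.Modules.pushforwardCongr e.hom_inv_id ≪≫
      Scheme.Modules.pushforwardId X)

/-- pullback along an isomorphism is pushforward along its inverse -/
def pullbackIsoPush : Scheme.Modules.pullback e.hom ≅ Scheme.Modules.pushforward e.inv :=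
  Adjunction.leftAdjointUniq (Scheme.Modules.pullbackPushforwardAdjunction e.hom)
    (pushEquiv e).toAdjunction

variable (k : Type u) [Field k] [X.Over (Spec (CommRingCat.of k))] [Y.Over (Spec (CommRingCat.of k))]

open Groth.Agent.Lib.Helper8.EulerK in
/-- cohomology dimensions are invariant under pullback along an isomorphism over `k` -/
theorem finrank_HH_pullback
    (he : e.hom ≫ (Y ↘ (Spec (CommRingCat.of k))) = X ↘ (Spec (CommRingCat.of k)))
    (F : Y.Modules) (hF : F.IsQuasicoherent) (i : ℕ) :
    Module.finrank k (Coh.HH X ((Scheme.Modules.pullback e.hom).obj F) i) =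
      Module.finrank k (Coh.HH Y F i) := by
  have he' : e.inv ≫ (X ↘ (Spec (CommRingCat.of k))) = Y ↘ (Spec (CommRingCat.of k)) := by
    rw [← he, Iso.inv_hom_id_assoc]
  have h1 := hh_congr k ((pullbackIsoPush e).app F) i
  unfold hh at h1
  rw [h1]
  exact Groth.Agent.Lib.Helper8.AffPush.finrank_push k e.inv he' F hF i

open Groth.Agent.Lib.Helper8.EulerK in
theorem euler_pullback
    (he : e.hom ≫ (Y ↘ (Spec (CommRingCat.of k))) = X ↘ (Spec (CommRingCat.of k)))
    (F : Y.Modules) (hF : F.IsQuasicoherent) :
    Curv2.euler k X ((Scheme.Modules.pullback e.hom).obj F) = Curv2.euler k Y F := by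
  unfold Curv2.euler
  exact finsum_congr fun i => by rw [finrank_HH_pullback e k he F hF i]

end Groth.Agent.Lib.Helper8.IsoTransport
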