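import Mathlib
import Groth.Agent.Lib.Helper8.P1Facts
import Groth.Agent.Lib.Helper8.EulerK
import Groth.Agent.Lib.Helper24.Poly.BinaryForms
import Groth.Agent.Lib.Helper28.TwistCov
import Groth.Agent.S0843
import Groth.Agent.S0844

/-! # Helper8 — numerics of the projective line over a field: h^0(O(d)) = d+1, vanishing of higher cohomology of O(d) (d ≥ 0), χ(O) = 1, genus 0, deg O(1) = 1 -/
set_option autoImplicit false
universe u
open CategoryTheory CategoryTheory.Limits AlgebraicGeometry Opposite TopologicalSpace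

noncomputable section
namespace Groth.Agent.Lib.Helper8.P1Num

open Groth.Agent.Lib.Helper8.EulerK Groth.Agent.Lib.Helper28

variable (k : Type u) [Field k]

theorem finrank_H0_twist (d : ℕ) :
    Module.finrank k (Coh.HH (CohB1.ProjSpace 1 k) (Twist.twistProjSpace 1 k (d : ℤ)) 0) = d + 1 := by
  obtain ⟨e⟩ := Groth.Agent.S0843.result k 1 d
  rw [e.finrank_eq]
  exact Groth.Agent.Lib.Helper24.Poly.finrank_forms k d

theorem subsingleton_HH_twist (d : ℕ) (q : ℕ) (hq : 1 ≤ q) :
    Subsingleton (Coh.HH (CohB1.ProjSpace 1 k) (Twist.twistProjSpace 1 k (d : ℤ)) q) := by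
  refine Groth.Agent.S0844.result k 1 (d : ℤ) q (by omega) ?_
  rintro ⟨-, h⟩
  have : (0 : ℤ) ≤ (d : ℤ) := Int.natCast_nonneg d
  norm_num at h
  omega

theorem euler_twist (d : ℕ) :
    Curv2.euler k (CohB1.ProjSpace 1 k) (Twist.twistProjSpace 1 k (d : ℤ)) = (d : ℤ) + 1 := by
  rw [euler_eq_sum k _ _ 1 (fun p hp => subsingleton_HH_twist k d p hp)]
  simp [finrank_H0_twist]

theorem nonempty_twist_zero_iso :
    Nonempty (Twist.twistProjSpace 1 k ((0 : ℕ) : ℤ) ≅ Coh.structureModule (CohB1.ProjSpace 1 k)) :=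
  TwistCov.nonempty_twist_zero_iso (CohB1.polyGrading 1 k) (VeryAmpleImm.projSpace_cover 1 k)

theorem euler_structure :
    Curv2.euler k (CohB1.ProjSpace 1 k) (Coh.structureModule (CohB1.ProjSpace 1 k)) = 1 := by
  obtain ⟨e⟩ := nonempty_twist_zero_iso k
  rw [← euler_congr k e, euler_twist]
  simp

theorem finrank_H0_structure :
    Module.finrank k (Coh.HH (CohB1.ProjSpace 1 k) (Coh.structureModule (CohB1.ProjSpace 1 k)) 0) = 1 := by
  obtain ⟨e⟩ := nonempty_twist_zero_iso k
  have := hh_congr k e 0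
  unfold hh at this
  rw [← this, finrank_H0_twist]

theorem genus_eq_zero : Curv2.genus k (CohB1.ProjSpace 1 k) = 0 := by
  obtain ⟨e⟩ := nonempty_twist_zero_iso k
  unfold Curv2.genus
  have := hh_congr k e 1
  unfold hh at this
  rw [← this]
  haveI := subsingleton_HH_twist k 0 1 le_rfl
  exact Module.finrank_zero_of_subsingleton

theorem deg_twist_one : Curv2.deg k (CohB1.ProjSpace 1 k) (Twist.twistProjSpace 1 k 1) 1 = 1 := by
  unfold Curv2.deg
  have h := euler_twist k 1
  simp only [Nat.cast_one] at h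
  rw [h, euler_structure]
  norm_num

end Groth.Agent.Lib.Helper8.P1Num
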