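import Groth.Agent.Lib.Helper8.CurveTensor
import Groth.Agent.Lib.Helper6.K0Len
import Mathlib
set_option backward.isDefEq.respectTransparency.types false
/-! # Helper8 — additive integer invariants of coherent modules as homomorphisms on K'_0; cycle formula on a Noetherian scheme of dimension ≤ 1 for invariants vanishing in dimension 0 (from helper6's cycle_formula_dim) -/
set_option autoImplicit false
universe u
open CategoryTheory CategoryTheory.Limits AlgebraicGeometry

namespace Groth.Agent.Lib.Helper8.K0Add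
open Groth.Agent.Lib.Helper6.K0Len Groth.Agent.Lib.Helper6.K0Filt

variable {X : Scheme.{u}} (φ : X.Modules → ℤ)
  (hadd : ∀ S : ShortComplex X.Modules, S.ShortExact → Coh.IsCoh S.X₁ → Coh.IsCoh S.X₂ → Coh.IsCoh S.X₃ →
    φ S.X₂ = φ S.X₁ + φ S.X₃)

/-- an integer invariant on generators -/
noncomputable def ψ : FreeAbelianGroup (Subtype (fun M : X.Modules => Coh.IsCoh M)) →+ ℤ :=
  FreeAbelianGroup.lift (fun M => φ M.1)

include hadd in
lemma hψ : KZero.relSub (fun M : X.Modules => Coh.IsCoh M) ≤ (ψ φ).ker := by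
  rw [KZero.relSub, AddSubgroup.closure_le]
  rintro x ⟨S, h₁, h₂, h₃, hS, rfl⟩
  rw [SetLike.mem_coe, AddMonoidHom.mem_ker, map_sub, map_sub]
  simp only [ψ, FreeAbelianGroup.lift_apply_of]
  rw [hadd S hS h₁ h₂ h₃]
  ring

/-- the homomorphism on `K'_0` induced by an additive invariant -/
noncomputable def Φ : KZero.K0sub (fun M : X.Modules => Coh.IsCoh M) →+ ℤ :=
  QuotientAddGroup.lift (KZero.relSub (fun M : X.Modules => Coh.IsCoh M)) (ψ φ) (hψ φ hadd)

lemma Φ_cls (M : X.Modules) (hM : Coh.IsCoh M) : Φ φ hadd (cls M) = φ M := by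
  classical
  unfold cls KZero.clSub
  rw [dif_pos hM]
  show (ψ φ) (FreeAbelianGroup.of ⟨M, hM⟩) = _
  simp only [ψ, FreeAbelianGroup.lift_apply_of]

open Classical in
include hadd in
/-- **cycle formula for an additive invariant vanishing in dimension zero**, on a Noetherian scheme of
dimension `≤ 1` -/
theorem eq_cycle_sum [IsNoetherian X] (hdim : topologicalKrullDim X ≤ 1)
    (hzero : ∀ G : X.Modules, Coh.IsCoh G → topologicalKrullDim ↥(CohB1.support G) < 1 → φ G = 0)
    (M : X.Modules) (hM : Coh.IsCoh M) :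
    Fin (Dn 1) M ∧
      φ M = ∑ᶠ x : X, if Dn 1 x then ((len M x).toNat : ℤ) * φ (OZ x) else 0 := by
  have hdim' : topologicalKrullDim ↥(Set.univ : Set X) ≤ (1 : ℕ) := by
    rw [(Homeomorph.Set.univ X).isHomeomorph.topologicalKrullDim_eq]
    exact hdim
  obtain ⟨hfin, hmem⟩ := cycle_formula_dim 1 Set.univ isClosed_univ hdim' M hM (Set.subset_univ _)
  refine ⟨hfin, ?_⟩
  have hker : ∀ c ∈ Hlt X 1, Φ φ hadd c = 0 := by
    intro c hc
    unfold Hlt at hc
    induction hc using AddSubgroup.closure_induction with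
    | mem c hc =>
      obtain ⟨G, hG, hGd, rfl⟩ := hc
      rw [show KZero.clSub (fun M : X.Modules => Coh.IsCoh M) G = cls G from rfl, Φ_cls φ hadd G hG]
      exact hzero G hG (by exact_mod_cast hGd)
    | zero => exact map_zero _
    | add a b _ _ ha hb => rw [map_add, ha, hb, add_zero]
    | neg a _ ha => rw [map_neg, ha, neg_zero]
  have h0 := hker _ hmem
  rw [map_sub, Φ_cls φ hadd M hM, sub_eq_zero] at h0
  rw [h0, AddMonoidHom.map_finsum _ (hfin.1.subset (support_term_subset (Dn 1) M))]
  refine finsum_congr fun x => ?_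
  unfold term
  split_ifs with hx
  · rw [map_nsmul, Φ_cls φ hadd _ (isCoh_OZ x)]
    simp
  · exact map_zero _

end Groth.Agent.Lib.Helper8.K0Add
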