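import Mathlib
import Groth.Agent.Lib.Helper8.AffPush
import Groth.Agent.Lib.Helper8.PtSupp
import Groth.Agent.Lib.Helper8.EulerK
import Groth.Agent.Lib.Helper6.DevRed
import Groth.Prelude.Def_ClSub2

/-! # Helper8 — the degree `h⁰(O_X/I_x)` of a closed point: it is `dim_k Γ(Z, O_Z)` for the reduced point `Z`, equal to `1` over an algebraically closed field and to `[κ(x) : k]` in general -/
set_option autoImplicit false
universe u
open CategoryTheory CategoryTheory.Limits AlgebraicGeometry Opposite TopologicalSpace
noncomputable section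

namespace Groth.Agent.Lib.Helper8.PointDeg

open Groth.Agent.Lib.Helper8.PtSupp Groth.Agent.Lib.Helper8.EulerK

variable {X : Scheme.{u}} (x : X) (hx : IsClosed ({x} : Set X))

/-- the reduced point as a closed subscheme -/
abbrev ptI : X.IdealSheafData := Scheme.IdealSheafData.vanishingIdeal ⟨{x}, hx⟩

theorem range_ι : Set.range (ptI x hx).subschemeι = {x} :=
  Groth.Agent.Lib.Helper6.DevRed.range_subschemeι_vanishingIdeal ⟨{x}, hx⟩

instance subsingleton_subscheme : Subsingleton (ptI x hx).subscheme := ⟨fun a b => by
  apply (ptI x hx).subschemeι.isEmbedding.injective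
  have ha : (ptI x hx).subschemeι a ∈ Set.range (ptI x hx).subschemeι := ⟨a, rfl⟩
  have hb : (ptI x hx).subschemeι b ∈ Set.range (ptI x hx).subschemeι := ⟨b, rfl⟩
  rw [range_ι, Set.mem_singleton_iff] at ha hb
  rw [ha, hb]⟩

theorem exists_point : ∃ z : (ptI x hx).subscheme, (ptI x hx).subschemeι z = x := by
  have : x ∈ Set.range (ptI x hx).subschemeι := by rw [range_ι]; rfl
  exact this

instance isIntegral_subscheme : IsIntegral (ptI x hx).subscheme :=
  Groth.Agent.Lib.Helper6.DevRed.isIntegral_subscheme_vanishingIdeal ⟨{x}, hx⟩ isIrreducible_singleton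

variable (k : Type u) [Field k] [X.Over (Spec (CommRingCat.of k))]

/-- the reduced point as a `k`-scheme -/
abbrev ptOver : (ptI x hx).subscheme.Over (Spec (CommRingCat.of k)) :=
  ⟨(ptI x hx).subschemeι ≫ (X ↘ Spec (CommRingCat.of k))⟩

attribute [local instance] gammaModule ptOver

/-- `h⁰(O_X/I_x) = dim_k Γ(Z, O_Z)` -/
theorem finrank_quotMod_eq :
    Module.finrank k (Coh.HH X (ClSub.quotMod (ptI x hx)) 0) =
      Module.finrank k Γ(Coh.structureModule (ptI x hx).subscheme, ⊤) := by
  have hqc : (Coh.structureModule (ptI x hx).subscheme).IsQuasicoherent :=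
    (Groth.Agent.Lib.Helper6.DevRed.isCoh_structureModule (X := (ptI x hx).subscheme)).1
  have h1 := Groth.Agent.Lib.Helper8.AffPush.finrank_push k (ptI x hx).subschemeι rfl
    (Coh.structureModule (ptI x hx).subscheme) hqc 0
  rw [h1, (e0L (Coh.structureModule (ptI x hx).subscheme) k).finrank_eq]

variable [IsProper (X ↘ Spec (CommRingCat.of k))]

/-- **over an algebraically closed field every closed point has degree one** -/
theorem finrank_quotMod_of_isAlgClosed [IsAlgClosed k] :
    Module.finrank k (Coh.HH X (ClSub.quotMod (ptI x hx)) 0) = 1 := by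
  haveI := finite_HH k X _ (Groth.Agent.Lib.Helper6.DevRed.isCoh_quotMod (ptI x hx)) 0
  have hqc : (Coh.structureModule (ptI x hx).subscheme).IsQuasicoherent :=
    (Groth.Agent.Lib.Helper6.DevRed.isCoh_structureModule (X := (ptI x hx).subscheme)).1
  obtain ⟨e, -⟩ := Groth.Agent.Lib.Helper2.Bridge3.exists_natural_linearEquiv k (ptI x hx).subschemeι
    (rfl : (ptI x hx).subschemeι ≫ (X ↘ Spec (CommRingCat.of k)) = _) 0
  let E := (e (Coh.structureModule (ptI x hx).subscheme) hqc).trans
    (e0L (Coh.structureModule (ptI x hx).subscheme) k)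
  haveI : Module.Finite k Γ(Coh.structureModule (ptI x hx).subscheme, ⊤) := Module.Finite.equiv E
  rw [finrank_quotMod_eq]
  letI : Algebra k Γ((ptI x hx).subscheme, ⊤) := (toΓ k (ptI x hx).subscheme).toAlgebra
  haveI : Module.Finite k Γ((ptI x hx).subscheme, ⊤) :=
    ‹Module.Finite k Γ(Coh.structureModule (ptI x hx).subscheme, ⊤)›
  haveI : Algebra.IsIntegral k Γ((ptI x hx).subscheme, ⊤) := Algebra.IsIntegral.of_finite k _
  have hbij : Function.Bijective (algebraMap k Γ((ptI x hx).subscheme, ⊤)) :=
    IsAlgClosed.algebraMap_bijective_of_isIntegral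
  have h1 : Module.finrank k Γ((ptI x hx).subscheme, ⊤) = 1 := by
    rw [← (LinearEquiv.ofBijective (Algebra.linearMap k Γ((ptI x hx).subscheme, ⊤)) hbij).finrank_eq,
      Module.finrank_self]
  exact h1

attribute [local instance] Curv2.resAlgebra in
omit [IsProper (X ↘ Spec (CommRingCat.of k))] in
/-- the sections of the reduced point are the residue field, `k`-linearly -/
def key (z : (ptI x hx).subscheme) :
    Γ(Coh.structureModule (ptI x hx).subscheme, ⊤) ≃ₗ[k]
      X.residueField ((ptI x hx).subschemeι z) := by
  let Z := (ptI x hx).subscheme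
  let ι : Z ⟶ X := (ptI x hx).subschemeι
  let α : Γ(Z, ⊤) →+* Z.residueField z := (Z.Γevaluation z).hom
  let β : X.residueField (ι z) →+* Z.residueField z := (ι.residueFieldMap z).hom
  have hfield : IsField Γ(Z, ⊤) := isField_of_isIntegral_of_subsingleton Z
  letI := hfield.toField
  have hαinj : Function.Injective α := RingHom.injective α
  have hgerm : Function.Surjective (Z.presheaf.germ ⊤ z trivial).hom := by
    intro t
    obtain ⟨U, hzU, s, hs⟩ := TopCat.Presheaf.exists_germ_eq Z.presheaf t
    have hU : U = ⊤ := by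
      rw [eq_top_iff]
      intro w _
      rw [Subsingleton.elim w z]
      exact hzU
    subst hU
    exact ⟨s, hs⟩
  have hαsurj : Function.Surjective α := by
    intro t
    obtain ⟨t', rfl⟩ := IsLocalRing.residue_surjective (R := Z.presheaf.stalk z) t
    obtain ⟨s, rfl⟩ := hgerm t'
    exact ⟨s, rfl⟩
  have hβinj : Function.Injective β := RingHom.injective β
  have hβsurj : Function.Surjective β := by
    intro t
    obtain ⟨t', rfl⟩ := IsLocalRing.residue_surjective (R := Z.presheaf.stalk z) t
    obtain ⟨u, rfl⟩ := ι.stalkMap_surjective z t'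
    refine ⟨(X.residue (ι z)).hom u, ?_⟩
    have := congrArg (fun φ => φ.hom u) (Scheme.residue_residueFieldMap ι z)
    exact this
  have hcompat : ∀ c : k, β (Curv2.resMap k X (ι z) c) = α (toΓ k Z c) := by
    intro c
    have h := Scheme.Γevaluation_naturality_apply ι z (Coh.toGlobal (X ↘ Spec (CommRingCat.of k)) c)
    refine h.trans ?_
    rfl
  let eα : Γ(Z, ⊤) ≃+* Z.residueField z := RingEquiv.ofBijective α ⟨hαinj, hαsurj⟩
  let eβ : X.residueField (ι z) ≃+* Z.residueField z := RingEquiv.ofBijective β ⟨hβinj, hβsurj⟩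
  exact
    { toFun := fun s => eβ.symm (eα (show Γ(Z, ⊤) from s))
      invFun := fun t => (show Γ(Coh.structureModule Z, ⊤) from eα.symm (eβ t))
      left_inv := fun s => by
        show eα.symm (eβ (eβ.symm (eα (show Γ(Z, ⊤) from s)))) = s
        rw [RingEquiv.apply_symm_apply, RingEquiv.symm_apply_apply]
      right_inv := fun t => by
        show eβ.symm (eα (eα.symm (eβ t))) = t
        rw [RingEquiv.apply_symm_apply, RingEquiv.symm_apply_apply]
      map_add' := fun s t => by
        show eβ.symm (eα ((show Γ(Z, ⊤) from s) + (show Γ(Z, ⊤) from t))) = _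
        rw [map_add, map_add]
      map_smul' := fun c s => by
        show eβ.symm (eα (toΓ k Z c * (show Γ(Z, ⊤) from s))) =
          Curv2.resMap k X (ι z) c * eβ.symm (eα (show Γ(Z, ⊤) from s))
        rw [map_mul, map_mul]
        congr 1
        apply eβ.injective
        rw [RingEquiv.apply_symm_apply]
        exact (hcompat c).symm }

attribute [local instance] Curv2.resAlgebra in
omit [IsProper (X ↘ Spec (CommRingCat.of k))] in
/-- **the degree of a closed point is the degree of its residue field** -/
theorem finrank_quotMod_eq_finrank_residueField :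
    Module.finrank k (Coh.HH X (ClSub.quotMod (ptI x hx)) 0) =
      Module.finrank k (X.residueField x) := by
  rw [finrank_quotMod_eq]
  obtain ⟨z, hz⟩ := exists_point x hx
  rw [congrArg (fun y => Module.finrank k (X.residueField y)) hz.symm]
  exact (key x hx k z).finrank_eq

end Groth.Agent.Lib.Helper8.PointDeg
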