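import Groth.Agent.Lib.Helper8.Descend
import Groth.Agent.Lib.Helper16.TA2

/-! # Helper8 — on an integral proper curve over an algebraically closed field, `deg L ≥ 2g - 1 ⇒ H¹(L) = 0` -/
set_option autoImplicit false
universe u
open CategoryTheory CategoryTheory.Limits AlgebraicGeometry Opposite TopologicalSpace
noncomputable section

namespace Groth.Agent.Lib.Helper8.DegVan

open Groth.Agent.Lib.Helper8.EulerK Groth.Agent.Lib.Helper28 Groth.Agent.Lib.Helper8.KillA
  Groth.Agent.Lib.Helper8.KillB Groth.Agent.Lib.Helper8.Descend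

variable (k : Type u) [Field k] (X : Scheme.{u}) [X.Over (Spec (CommRingCat.of k))]
  [IsIntegral X] [IsProper (X ↘ Spec (CommRingCat.of k))]

/-- **vanishing of `H¹` in degree at least `2g - 1`** -/
theorem hh_one_eq_zero [IsAlgClosed k] (hdim : topologicalKrullDim X = 1) (L : X.Modules)
    (hL : PicF.IsInvertible L) (hdeg : 2 * (Curv2.genus k X : ℤ) - 1 ≤ Curv2.deg k X L 1) :
    hh k L 1 = 0 := by
  haveI : IsLocallyNoetherian X := isLocallyNoetherian k X
  obtain ⟨-, ⟨N, hN, b0, b1⟩⟩ := exists_h0_h1 k X hdim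
  obtain ⟨Ni, hNi, hinv⟩ := Groth.Agent.Lib.Helper8.InvInverse.exists_isInverseOf hN
  have hNc := Groth.Agent.Lib.Helper6.K0Op.isCoh_of_isInvertible N hN
  have hP : PicF.IsInvertible (CohB1.tensorMod L Ni) := GenLocus.isInvertible_tensorMod hL hNi
  have hPc := Groth.Agent.Lib.Helper6.K0Op.isCoh_of_isInvertible _ hP
  have hcO := Groth.Agent.Lib.Helper6.K0Op.isCoh_of_isInvertible _
    (AmpleUnit.isInvertible_structureModule X)
  haveI := finite_HH k X _ hcO 0
  have hO0 := one_le_h0_structureModule k X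
  -- degrees
  have d1 := Groth.Agent.Lib.Helper8.DegGroup.deg_tensorMod k X hdim.le hL hNi
  have d2 := Groth.Agent.Lib.Helper8.DegGroup.deg_inverse_eq_neg k X hdim.le hN hNi hinv
  have eN := Groth.Agent.Lib.Helper8.CurveRR.euler_eq_sub k X hdim.le N hNc.1
  have eO := Groth.Agent.Lib.Helper8.CurveRR.euler_eq_sub k X hdim.le _ hcO.1
  have eP := Groth.Agent.Lib.Helper8.CurveRR.euler_eq_sub k X hdim.le _ hPc.1
  have hg' : Module.finrank k (Coh.HH X (Coh.structureModule X) 1) = Curv2.genus k X := rfl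
  unfold hh at b0 b1 hO0
  rw [b0, b1] at eN
  rw [hg'] at eO
  rw [d2] at d1
  unfold Curv2.deg at d1 hdeg
  -- a nonzero section of `P`
  have hpos : 0 < Module.finrank k (Coh.HH X (CohB1.tensorMod L Ni) 0) := by
    have : (0 : ℤ) < (Module.finrank k (Coh.HH X (CohB1.tensorMod L Ni) 0) : ℤ) := by
      push_cast at *
      omega
    exact_mod_cast this
  have hnt : Nontrivial (Coh.HH X (CohB1.tensorMod L Ni) 0) :=
    Module.nontrivial_of_finrank_pos (R := k) hpos
  obtain ⟨s, hs⟩ := Groth.Agent.Lib.Helper8.CurveRR.exists_section_ne_zero _ hnt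
  have hsurj := Groth.Agent.Lib.Helper8.KillC.HHmap_mulBy_surjective k X hdim.le hP s hs N hNc
  haveI := finite_HH k X _ hNc 1
  haveI : Subsingleton (Coh.HH X N 1) :=
    Groth.Agent.Lib.Helper8.CurveRR.subsingleton_of_finrank_eq_zero k b1
  haveI : Subsingleton (Coh.HH X ((𝟭 X.Modules).obj N) 1) := ‹Subsingleton (Coh.HH X N 1)›
  have hsub : Subsingleton (Coh.HH X ((DCoh.tensorBi.obj (CohB1.tensorMod L Ni)).obj N) 1) :=
    hsurj.subsingleton
  -- `P ⊗ N ≅ L`
  obtain ⟨i⟩ := hinv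
  obtain ⟨uL⟩ := AmpleUnit.nonempty_tensor_unit_iso L
  have e : (DCoh.tensorBi.obj (CohB1.tensorMod L Ni)).obj N ≅ L :=
    Groth.Agent.Lib.Helper16.TA.assocIso L Ni N ≪≫ (DCoh.tensorBi.obj L).mapIso i ≪≫ uL
  rw [← hh_congr k e 1]
  unfold hh
  exact Module.finrank_zero_of_subsingleton
end Groth.Agent.Lib.Helper8.DegVan
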