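import Mathlib
import Groth.Agent.Lib.Helper8.KillF
import Groth.Agent.Lib.Helper8.CompSum
import Groth.Agent.Lib.Helper4.AmpleComp
import Groth.Agent.Lib.Helper4.AmpleSerre
import Groth.Agent.Lib.Helper4.DimZeroT2
import Groth.Agent.Lib.Helper6.DevRed

/-! # Helper8 — ampleness on proper schemes of dimension ≤ 1 over a field is detected by positivity of the degrees on the one-dimensional irreducible components -/
set_option autoImplicit false
universe u
open CategoryTheory CategoryTheory.Limits AlgebraicGeometry Opposite TopologicalSpace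

noncomputable section
namespace Groth.Agent.Lib.Helper8.AmpleCurveComp
open Groth.Agent.Lib.Helper8.KillF Groth.Agent.Lib.Helper8.EulerK Groth.Agent.Lib.Helper8.CurveDeg
  Groth.Agent.Lib.Helper28 Groth.Agent.Lib.Helper28.GenLocus Scheme.IdealSheafData

variable (k : Type u) [Field k] (X : Scheme.{u}) [X.Over (Spec (CommRingCat.of k))]
  [IsProper (X ↘ Spec (CommRingCat.of k))]

/-- on the reduced closed subscheme of an irreducible closed subset of dimension one of a proper
`k`-scheme, an invertible module is ample iff its degree is positive -/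
theorem isAmple_iff_deg_pos_of_eq (Z : Closeds X) (hirr : IsIrreducible (Z : Set X))
    (hdimZ : topologicalKrullDim (Z : Set X) = 1) (J : X.IdealSheafData)
    (hJ : J = vanishingIdeal Z) (M : J.subscheme.Modules) (hM : PicF.IsInvertible M) :
    CohB1.IsAmple M ↔ 0 < @Curv2.deg k _ J.subscheme
      ⟨J.subschemeι ≫ (X ↘ (Spec (CommRingCat.of k)))⟩ M 1 := by
  subst hJ
  set I : X.IdealSheafData := vanishingIdeal Z with hI
  letI : I.subscheme.Over (Spec (CommRingCat.of k)) := ⟨I.subschemeι ≫ (X ↘ (Spec (CommRingCat.of k)))⟩
  haveI : IsProper (I.subscheme ↘ (Spec (CommRingCat.of k))) :=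
    inferInstanceAs (IsProper (I.subschemeι ≫ (X ↘ (Spec (CommRingCat.of k)))))
  haveI : IsIntegral I.subscheme :=
    Groth.Agent.Lib.Helper6.DevRed.isIntegral_subscheme_vanishingIdeal _ hirr
  have hdim : topologicalKrullDim I.subscheme = 1 := by
    have h1 := I.subschemeι.isClosedEmbedding.isEmbedding.toHomeomorph.isHomeomorph.topologicalKrullDim_eq
    rw [h1, I.range_subschemeι, hI, Scheme.IdealSheafData.coe_support_vanishingIdeal]
    exact hdimZ
  exact ⟨fun hA => deg_pos_of_isAmple k I.subscheme hdim hA,
    fun h => isAmple_of_deg_pos k I.subscheme hdim.le hM h⟩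

include k in
/-- on a proper `k`-scheme of dimension at most zero every invertible module is ample -/
theorem isAmple_of_dim_le_zero (hdim : topologicalKrullDim X ≤ 0) (M : X.Modules)
    (hM : PicF.IsInvertible M) : CohB1.IsAmple M := by
  haveI : IsLocallyNoetherian X := isLocallyNoetherian k X
  haveI : CompactSpace X :=
    QuasiCompact.compactSpace_of_compactSpace (X ↘ Spec (CommRingCat.of k))
  haveI : IsNoetherian X := {}
  haveI : T2Space X := Groth.Agent.Lib.Helper4.DimZeroT2.t2Space X hdim
  refine Groth.Agent.Lib.Helper4.AmpleSerre.isAmple_of_vanishing k X (X ↘ Spec (CommRingCat.of k)) M hM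
    (fun N hN => ⟨0, fun n _ p hp => ?_⟩)
  obtain ⟨q, rfl⟩ := Nat.exists_eq_succ_of_ne_zero hp.ne'
  have hc : Coh.IsCoh (CohB1.tensorMod N (CohB1.tensorPow M n)) :=
    Groth.Agent.Lib.Helper6.K0Op.isCoh_tensorMod _ _ hN
      (Groth.Agent.Lib.Helper6.K0Op.isCoh_of_isInvertible _ (isInvertible_tensorPow hM n))
  exact subsingleton_HH_succ _ hc (fun x _ => isClosed_singleton) q

omit [IsProper (X ↘ Spec (CommRingCat.of k))] [X.Over (Spec (CommRingCat.of k))] in
theorem radical_eq_vanishingIdeal [IsNoetherian X] (C : Set X) (hC : C ∈ irreducibleComponents (X : Type u)) :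
    (X.irreducibleComponentIdeal C hC).radical =
      vanishingIdeal ⟨C, isClosed_of_mem_irreducibleComponents C hC⟩ := by
  rw [Groth.Agent.Lib.Helper8.CompSum.radical_eq X ⟨C, hC⟩]
  congr 1
  apply TopologicalSpace.Closeds.ext
  exact Groth.Agent.Lib.Helper8.CompSum.closure_gp X ⟨C, hC⟩

/-- **ampleness on a proper scheme of dimension at most one over a field is detected by the degrees
on the one-dimensional irreducible components** -/
theorem isAmple_iff_deg_pos_on_components [IsNoetherian X] (hdim : topologicalKrullDim X ≤ 1)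
    (L : X.Modules) (hL : PicF.IsInvertible L) :
    CohB1.IsAmple L ↔ ∀ (C : Set X) (hC : C ∈ irreducibleComponents (X : Type u)),
      topologicalKrullDim C = 1 → 0 < @Curv2.deg k _ (X.irreducibleComponentIdeal C hC).radical.subscheme
        ⟨(X.irreducibleComponentIdeal C hC).radical.subschemeι ≫ (X ↘ (Spec (CommRingCat.of k)))⟩
        ((Scheme.Modules.pullback (X.irreducibleComponentIdeal C hC).radical.subschemeι).obj L) 1 := by
  constructor
  · intro hA C hC hdC
    have hJ := radical_eq_vanishingIdeal X C hC
    refine (isAmple_iff_deg_pos_of_eq k X ⟨C, isClosed_of_mem_irreducibleComponents C hC⟩ hC.1 hdC _ hJ _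
      (Groth.Agent.Lib.Helper28.PullbackInv.isInvertible_pullback _ hL)).1 ?_
    exact Groth.Agent.Lib.Helper4.AmpleComp.isAmple_pullback_of_isClosedImmersion _ hA
  · intro h
    refine Groth.Agent.Lib.Helper4.AmpleComp.isAmple_of_components k (X ↘ Spec (CommRingCat.of k)) hL
      (fun Z hZ => ?_)
    have hinv : PicF.IsInvertible ((Scheme.Modules.pullback (vanishingIdeal Z).subschemeι).obj L) :=
      Groth.Agent.Lib.Helper28.PullbackInv.isInvertible_pullback _ hL
    by_cases hdZ : topologicalKrullDim (Z : Set X) = 1
    · have hJ := radical_eq_vanishingIdeal X (Z : Set X) hZ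
      have hpos := h (Z : Set X) hZ hdZ
      have hZeq : (⟨(Z : Set X), isClosed_of_mem_irreducibleComponents (Z : Set X) hZ⟩ : Closeds X) = Z :=
        TopologicalSpace.Closeds.ext rfl
      rw [hZeq] at hJ
      -- transport along the equality of ideal sheaves
      have key : ∀ (J : X.IdealSheafData), J = vanishingIdeal Z →
          0 < @Curv2.deg k _ J.subscheme ⟨J.subschemeι ≫ (X ↘ (Spec (CommRingCat.of k)))⟩
            ((Scheme.Modules.pullback J.subschemeι).obj L) 1 →
          CohB1.IsAmple ((Scheme.Modules.pullback (vanishingIdeal Z).subschemeι).obj L) := by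
        intro J hJ' hp
        subst hJ'
        exact (isAmple_iff_deg_pos_of_eq k X Z hZ.1 hdZ _ rfl _ hinv).2 hp
      exact key _ hJ hpos
    · -- zero-dimensional component
      set I : X.IdealSheafData := vanishingIdeal Z with hI
      letI : I.subscheme.Over (Spec (CommRingCat.of k)) :=
        ⟨I.subschemeι ≫ (X ↘ (Spec (CommRingCat.of k)))⟩
      haveI : IsProper (I.subscheme ↘ (Spec (CommRingCat.of k))) :=
        inferInstanceAs (IsProper (I.subschemeι ≫ (X ↘ (Spec (CommRingCat.of k)))))
      have hd0 : topologicalKrullDim I.subscheme ≤ 0 := by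
        have h1 := I.subschemeι.isClosedEmbedding.isEmbedding.toHomeomorph.isHomeomorph.topologicalKrullDim_eq
        rw [h1, I.range_subschemeι, hI, Scheme.IdealSheafData.coe_support_vanishingIdeal]
        have h2 : topologicalKrullDim (Z : Set X) ≤ 1 :=
          (topologicalKrullDim_subspace_le X (Z : Set X)).trans hdim
        have h3 : topologicalKrullDim (Z : Set X) < 1 := lt_of_le_of_ne h2 hdZ
        revert h3
        generalize topologicalKrullDim (Z : Set X) = d
        intro h3
        induction d using WithBot.recBotCoe with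
        | bot => exact bot_le
        | coe d =>
          have h4 : d < 1 := by exact_mod_cast h3
          have h5 : d = 0 := Order.lt_one_iff.1 h4
          rw [h5]
          rfl
      exact isAmple_of_dim_le_zero k I.subscheme hd0 _ hinv

end Groth.Agent.Lib.Helper8.AmpleCurveComp
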