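import Mathlib
import Groth.Agent.Lib.Helper8.AmpleCurveComp
import Groth.Agent.Lib.Helper8.P1Core
import Groth.Agent.Lib.Helper28.SecAdd
import Groth.Agent.Lib.Helper28.PullbackInv2
import Groth.Agent.Lib.Helper8.PtSupp

/-! # Helper8 — sections of invertible modules versus irreducible components: zero on reduced schemes if generating nowhere; on a component of degree ≤ 0 the generation locus contains or misses the component -/
set_option autoImplicit false
universe u
open CategoryTheory CategoryTheory.Limits AlgebraicGeometry Opposite TopologicalSpace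

noncomputable section
namespace Groth.Agent.Lib.Helper8.CompSec

open Groth.Agent.Lib.Helper8.EulerK Groth.Agent.Lib.Helper8.CurveInv Groth.Agent.Lib.Helper8.CurveDeg
  Groth.Agent.Lib.Helper28 Groth.Agent.Lib.Helper28.QCohLoc Groth.Agent.Lib.Helper28.GenLocus
  Groth.Agent.Lib.Helper28.PullbackInv Groth.Agent.Lib.Helper29.QCohStalk

section reduced

variable {X : Scheme.{u}}

/-- on a reduced scheme, a section of an invertible module which generates nowhere is zero -/
theorem eq_zero_of_genLocus_eq_bot [IsReduced X] {L : X.Modules} (hL : PicF.IsInvertible L)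
    (s : Coh.structureModule X ⟶ L) (h : CohB1.genLocus L s = ⊥) : s = 0 := by
  have hsec : secOf s = 0 := by
    refine TopCat.Presheaf.section_ext (⟨L.presheaf, L.isSheaf⟩ : TopCat.Sheaf Ab X) ⊤ (secOf s) 0 ?_
    intro x hx
    obtain ⟨W, γ, hxW, hγ⟩ := exists_isGen L hL x
    have h1 := genLocus_inf_eq_coef s W γ hγ
    rw [h, bot_inf_eq] at h1
    have h2 : hγ.coef le_rfl (res L (le_top : W ≤ ⊤) (secOf s)) = 0 :=
      (AlgebraicGeometry.basicOpen_eq_bot_iff _).1 h1.symm
    have h3 : res L (le_top : W ≤ ⊤) (secOf s) = 0 := by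
      have := hγ.coef_smul le_rfl (res L (le_top : W ≤ ⊤) (secOf s))
      rw [res_self, h2, zero_smul] at this
      exact this.symm
    have h4 := gm_res L (le_top : W ≤ ⊤) x hxW (secOf s)
    rw [h3, gm_zero] at h4
    rw [map_zero]
    exact h4.symm
  rw [← ofSection_secOf s, hsec, ← secOf_zero (M := L), ofSection_secOf]

end reduced

section comp

variable (k : Type u) [Field k] (X : Scheme.{u}) [X.Over (Spec (CommRingCat.of k))]
  [IsProper (X ↘ Spec (CommRingCat.of k))]

/-- on a proper `k`-scheme, if an invertible module has degree at most zero on an irreducible closed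
subset of dimension one (reduced structure), then the locus where a given section generates either
contains that subset or is disjoint from it -/
theorem subset_or_disjoint_genLocus (Z : Closeds X) (hirr : IsIrreducible (Z : Set X))
    (hdimZ : topologicalKrullDim (Z : Set X) = 1) (J : X.IdealSheafData)
    (hJ : J = Scheme.IdealSheafData.vanishingIdeal Z) (L : X.Modules) (hL : PicF.IsInvertible L)
    (hdeg : @Curv2.deg k _ J.subscheme ⟨J.subschemeι ≫ (X ↘ (Spec (CommRingCat.of k)))⟩
      ((Scheme.Modules.pullback J.subschemeι).obj L) 1 ≤ 0)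
    (s : Coh.structureModule X ⟶ L) :
    (Z : Set X) ⊆ (CohB1.genLocus L s : Set X) ∨ Disjoint (Z : Set X) (CohB1.genLocus L s : Set X) := by
  subst hJ
  set I : X.IdealSheafData := Scheme.IdealSheafData.vanishingIdeal Z with hI
  letI : I.subscheme.Over (Spec (CommRingCat.of k)) := ⟨I.subschemeι ≫ (X ↘ (Spec (CommRingCat.of k)))⟩
  haveI : IsProper (I.subscheme ↘ (Spec (CommRingCat.of k))) :=
    inferInstanceAs (IsProper (I.subschemeι ≫ (X ↘ (Spec (CommRingCat.of k)))))
  haveI : IsIntegral I.subscheme :=
    Groth.Agent.Lib.Helper6.DevRed.isIntegral_subscheme_vanishingIdeal _ hirr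
  have hrange : Set.range I.subschemeι = (Z : Set X) := by
    rw [I.range_subschemeι, hI, Scheme.IdealSheafData.coe_support_vanishingIdeal]
  have hdim : topologicalKrullDim I.subscheme = 1 := by
    have h1 := I.subschemeι.isClosedEmbedding.isEmbedding.toHomeomorph.isHomeomorph.topologicalKrullDim_eq
    rw [h1, hrange]
    exact hdimZ
  have hM := isInvertible_pullback I.subschemeι hL
  have hpre := genLocus_pbSec I.subschemeι hL s
  by_cases h0 : pbSec I.subschemeι s = 0
  · right
    have hbot : CohB1.genLocus _ (pbSec I.subschemeι s) = ⊥ := by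
      rw [h0]
      exact genLocus_zero hM
    rw [hbot] at hpre
    rw [Set.disjoint_left]
    intro z hzZ hzA
    rw [← hrange] at hzZ
    obtain ⟨y, rfl⟩ := hzZ
    have hy : y ∈ I.subschemeι ⁻¹ᵁ CohB1.genLocus L s := hzA
    rw [← hpre] at hy
    exact hy
  · left
    obtain ⟨h1, h2⟩ := deg_le k I.subscheme hdim.le _ _ (isInvertible_structureModule (X := I.subscheme))
      hM (pbSec I.subschemeι s) h0
    rw [deg_structureModule] at h1 h2
    haveI : IsIso (pbSec I.subschemeι s) := h2 (le_antisymm h1 hdeg)
    have htop : CohB1.genLocus _ (pbSec I.subschemeι s) = ⊤ :=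
      top_le_iff.1 (le_genLocus _ ⊤ (fun W _ => app_bijective_of_isIso _ W))
    rw [htop] at hpre
    intro z hzZ
    rw [← hrange] at hzZ
    obtain ⟨y, rfl⟩ := hzZ
    have hy : y ∈ I.subschemeι ⁻¹ᵁ CohB1.genLocus L s := by
      rw [← hpre]
      trivial
    exact hy

end comp

end Groth.Agent.Lib.Helper8.CompSec
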