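import Mathlib
import Groth.Agent.Lib.lead.StalkDimIneq
import Groth.Agent.Lib.Helper22.NormalSections
import Groth.Prelude.Def_Pi1

/-! # Helper8 — closed points of normal curves are DVR points; connected normal locally Noetherian schemes are integral -/
set_option autoImplicit false
universe u
open CategoryTheory CategoryTheory.Limits AlgebraicGeometry Opposite TopologicalSpace

namespace Groth.Agent.Lib.Helper8.NormalPt

variable {X : Scheme.{u}}

/-- on an integral scheme, the local ring at a point other than the generic point is not a field -/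
theorem not_isField_stalk [IsIntegral X] (x : X) (hne : x ≠ genericPoint X) :
    ¬ IsField (X.presheaf.stalk x) := by
  intro hf
  have h0 : ringKrullDim (X.presheaf.stalk x) = 0 := ringKrullDim_eq_zero_of_isField hf
  rw [ringKrullDim_stalk_eq_coheight] at h0
  have h1 : Order.coheight x = 0 := by exact_mod_cast h0
  rw [Order.coheight_eq_zero] at h1
  have hsp : genericPoint X ⤳ x := (genericPoint_spec X).specializes trivial
  have h2 : x ≤ genericPoint X := hsp
  have h3 : genericPoint X ≤ x := h1 h2
  have h4 : x ⤳ genericPoint X := h3
  exact hne (h4.antisymm hsp).eq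

/-- **a point of an integral locally Noetherian scheme of dimension `≤ 1`, other than the generic
point, with integrally closed local ring has a principal nonzero maximal ideal** -/
theorem maximalIdeal_isPrincipal [IsIntegral X] [IsLocallyNoetherian X]
    (hdim : topologicalKrullDim X ≤ 1) (x : X) (hne : x ≠ genericPoint X)
    (hn : IsIntegrallyClosed (X.presheaf.stalk x)) :
    (IsLocalRing.maximalIdeal (X.presheaf.stalk x)).IsPrincipal ∧
      IsLocalRing.maximalIdeal (X.presheaf.stalk x) ≠ ⊥ := by
  have hnf := not_isField_stalk x hne
  have hm : IsLocalRing.maximalIdeal (X.presheaf.stalk x) ≠ ⊥ := fun h =>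
    hnf (IsLocalRing.isField_iff_maximalIdeal_eq.2 h)
  refine ⟨?_, hm⟩
  have hd : ringKrullDim (X.presheaf.stalk x) ≤ 1 := by
    rw [ringKrullDim_stalk_eq_coheight]
    exact (Groth.Agent.Lib.lead.StalkDimIneq.coheight_le_topologicalKrullDim X x).trans hdim
  haveI : Ring.KrullDimLE 1 (X.presheaf.stalk x) := (Ring.krullDimLE_iff).2 hd
  have tfae := IsDiscreteValuationRing.TFAE (X.presheaf.stalk x) hnf
  have h34 : (IsIntegrallyClosed (X.presheaf.stalk x) ∧
      ∃! P : Ideal (X.presheaf.stalk x), P ≠ ⊥ ∧ P.IsPrime) →
      (IsLocalRing.maximalIdeal (X.presheaf.stalk x)).IsPrincipal := (tfae.out 3 4).1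
  apply h34
  refine ⟨hn, IsLocalRing.maximalIdeal _, ⟨hm, inferInstance⟩, ?_⟩
  rintro P ⟨hP0, hP⟩
  haveI := hP
  have hPmax : P.IsMaximal := hP.isMaximal_of_ne_bot hP0
  exact IsLocalRing.eq_maximalIdeal hPmax

/-- on an integral scheme of dimension one a closed point is not the generic point -/
theorem ne_genericPoint_of_isClosed [IsIntegral X] (hdim : topologicalKrullDim X = 1)
    (a : X) (ha : IsClosed ({a} : Set X)) : a ≠ genericPoint X := by
  rintro rfl
  have huniv : ∀ z : X, z = genericPoint X := by
    intro z
    have hz : z ∈ closure ({genericPoint X} : Set X) := by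
      rw [(genericPoint_spec X).def]; trivial
    rw [ha.closure_eq] at hz
    exact hz
  haveI : Subsingleton X := ⟨fun z w => (huniv z).trans (huniv w).symm⟩
  haveI : Subsingleton (IrreducibleCloseds X) := ⟨fun Z W => by
    apply IrreducibleCloseds.ext
    ext z
    obtain ⟨z₁, hz₁⟩ := Z.isIrreducible.nonempty
    obtain ⟨w₁, hw₁⟩ := W.isIrreducible.nonempty
    constructor
    · intro _
      rw [Subsingleton.elim z w₁]; exact hw₁
    · intro _
      rw [Subsingleton.elim z z₁]; exact hz₁⟩
  have h0 : topologicalKrullDim X ≤ 0 := Order.krullDim_nonpos_of_subsingleton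
  rw [hdim] at h0
  exact absurd h0 (by decide)

/-- a connected scheme with Noetherian underlying space all of whose local rings are domains is
integral -/
theorem isIntegral_of_connected (hdom : ∀ x : X, IsDomain (X.presheaf.stalk x)) [ConnectedSpace X]
    [NoetherianSpace X] : IsIntegral X := by
  haveI : ∀ x : X, _root_.IsReduced (X.presheaf.stalk x) := fun x => by
    haveI := hdom x
    infer_instance
  haveI : IsReduced X := isReduced_of_isReduced_stalk X
  haveI : Finite ↥(irreducibleComponents X) :=
    (TopologicalSpace.NoetherianSpace.finite_irreducibleComponents (α := X)).to_subtype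
  have hfin : LocallyFinite (fun Z : ↥(irreducibleComponents ↥X) => (Z : Set ↥X)) :=
    locallyFinite_of_finite _
  obtain ⟨x⟩ := (inferInstance : Nonempty X)
  have hZ := irreducibleComponent_mem_irreducibleComponents x
  have hop := Groth.Agent.Lib.Helper22.NormalSections.isOpen_component hdom hfin _ hZ
  have hclopen : IsClopen (irreducibleComponent x) := ⟨isClosed_irreducibleComponent, hop⟩
  have huniv : irreducibleComponent x = Set.univ := hclopen.eq_univ ⟨x, mem_irreducibleComponent⟩
  have hirr : IsIrreducible (Set.univ : Set X) := huniv ▸ isIrreducible_irreducibleComponent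
  haveI : IrreducibleSpace X := (irreducibleSpace_def X).2 hirr
  exact isIntegral_of_irreducibleSpace_of_isReduced X

/-- a connected normal scheme with Noetherian underlying space is integral -/
theorem isIntegral_of_isNormalScheme (hN : Pi1.IsNormalScheme X) [ConnectedSpace X]
    [NoetherianSpace X] : IsIntegral X :=
  isIntegral_of_connected (fun x => (hN x).1)

end Groth.Agent.Lib.Helper8.NormalPt
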