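import Mathlib
import Groth.Agent.S1585
import Groth.Agent.Lib.Helper8.EulerK

/-! # Helper8 — regular closed points are dense on an integral curve of finite type over a field -/
set_option autoImplicit false
universe u
open CategoryTheory CategoryTheory.Limits AlgebraicGeometry Opposite TopologicalSpace

namespace Groth.Agent.Lib.Helper8.RegPts

/-- the normal locus contains a nonempty open -/
theorem exists_open_isIntegrallyClosed (k : Type u) [Field k] (X : Scheme.{u})
    [X.Over (Spec (CommRingCat.of k))] [IsIntegral X]
    [LocallyOfFiniteType (X ↘ Spec (CommRingCat.of k))] [QuasiSeparatedSpace X] :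
    ∃ V : X.Opens, (V : Set X).Nonempty ∧ ∀ y ∈ V, IsIntegrallyClosed (X.presheaf.stalk y) := by
  haveI : QuasiCompact (X.fromSpecStalk (genericPoint X)) := inferInstance
  haveI : QuasiSeparated (X.fromSpecStalk (genericPoint X)) := inferInstance
  obtain ⟨-, -, ⟨V, hV, hiso⟩, hint, hnorm⟩ := Groth.Agent.S1585.result k X
  refine ⟨V, hV, fun y hy => ?_⟩
  set ν := Curv2.normalizationι X with hν
  haveI := hiso
  obtain ⟨x, hx⟩ := (ConcreteCategory.bijective_of_isIso (ν ∣_ V).base).2 ⟨y, hy⟩
  have hxy : ν x.1 = y := by
    have := congrArg Subtype.val hx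
    exact (morphismRestrict_base_coe ν V x).symm.trans this
  have h1 : IsIso ((ν ∣_ V).stalkMap x) := inferInstance
  have h2 : IsIso (ν.stalkMap x.1) :=
    ((MorphismProperty.isomorphisms CommRingCat).arrow_mk_iso_iff
      (morphismRestrictStalkMap ν V x)).1 h1
  subst hxy
  let e : X.presheaf.stalk (ν x.1) ≃+* (Curv2.normalization X).presheaf.stalk x.1 :=
    (asIso (ν.stalkMap x.1)).commRingCatIsoToRingEquiv
  haveI := (hnorm x.1).2
  exact IsIntegrallyClosed.of_equiv e.symm

/-- **regular closed points are dense**: every nonempty open of an integral scheme locally of finite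
type over a field contains a closed point with integrally closed local ring -/
theorem exists_closed_point (k : Type u) [Field k] (X : Scheme.{u})
    [X.Over (Spec (CommRingCat.of k))] [IsIntegral X]
    [LocallyOfFiniteType (X ↘ Spec (CommRingCat.of k))] [QuasiSeparatedSpace X]
    (W : X.Opens) (hW : (W : Set X).Nonempty) :
    ∃ x ∈ W, IsClosed ({x} : Set X) ∧ IsIntegrallyClosed (X.presheaf.stalk x) := by
  obtain ⟨V, hV, hVn⟩ := exists_open_isIntegrallyClosed k X
  haveI : JacobsonSpace X := LocallyOfFiniteType.jacobsonSpace (X ↘ Spec (CommRingCat.of k))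
  have hne : ((V : Set X) ∩ (W : Set X)).Nonempty :=
    nonempty_preirreducible_inter V.isOpen W.isOpen hV hW
  obtain ⟨x, ⟨hxV, hxW⟩, hx⟩ := nonempty_inter_closedPoints hne (V.isOpen.inter W.isOpen).isLocallyClosed
  exact ⟨x, hxW, hx, hVn x hxV⟩

end Groth.Agent.Lib.Helper8.RegPts
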