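import Groth.Agent.Lib.Helper8.PointBundle
import Groth.Agent.Lib.Helper8.PointDeg
import Groth.Agent.Lib.Helper8.NormalPt
import Groth.Agent.Lib.Helper8.RegPts
import Groth.Agent.Lib.Helper8.KillE
import Groth.Agent.Lib.Helper8.GGKill
import Groth.Agent.Lib.Helper8.CompSec
import Groth.Agent.Lib.Helper8.DegGroup

/-! # Helper8 — twisting down by a regular closed point outside the zeros of a section: h⁰ drops by one, h¹ is unchanged -/
set_option autoImplicit false
universe u
open CategoryTheory CategoryTheory.Limits AlgebraicGeometry Opposite TopologicalSpace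
noncomputable section

namespace Groth.Agent.Lib.Helper8.Descend

open Groth.Agent.Lib.Helper8.EulerK Groth.Agent.Lib.Helper28 Groth.Agent.Lib.Helper8.KillA
  Groth.Agent.Lib.Helper17.StalkExact Groth.Agent.Lib.Helper8.PointDeg

section stalk
variable {X : Scheme.{u}}

/-- if a section `s` of `B` factors through `f : A ⟶ B` and `f ≫ g = 0` with `g` epi, then the stalk of the
target of `g` vanishes wherever `s` generates -/
theorem subsingleton_stalk_of_factor {A B C : X.Modules} (f : A ⟶ B) (g : B ⟶ C) [Epi g]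
    (w : f ≫ g = 0) (s : Coh.structureModule X ⟶ B) (t : Coh.structureModule X ⟶ A)
    (hst : t ≫ f = s) (x : X) (hx : x ∈ CohB1.genLocus B s) :
    Subsingleton (C.presheaf.stalk x) := by
  obtain ⟨U, hxU, hU⟩ := (GenLocus.mem_genLocus_iff s x).1 hx
  refine ⟨fun c c' => ?_⟩
  have key : ∀ c : C.presheaf.stalk x, c = 0 := by
    intro c
    obtain ⟨b, rfl⟩ := stalkHom_surjective_of_epi g x c
    obtain ⟨W, hxW, m, rfl⟩ := TopCat.Presheaf.exists_germ_eq B.presheaf b
    have hV : x ∈ W ⊓ U := ⟨hxW, hxU⟩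
    have h2 : B.presheaf.germ W x hxW m =
        B.presheaf.germ (W ⊓ U) x hV (B.presheaf.map (homOfLE inf_le_left).op m) :=
      (TopCat.Presheaf.germ_res_apply B.presheaf (homOfLE inf_le_left) x hV m).symm
    rw [h2, stalkHom_germ]
    obtain ⟨a, ha⟩ := (hU (W ⊓ U) inf_le_right).2 (B.presheaf.map (homOfLE inf_le_left).op m)
    rw [← ha]
    have h3 : g.app (W ⊓ U) (s.app (W ⊓ U) a) = (s ≫ g).app (W ⊓ U) a := rfl
    rw [h3, ← hst, Category.assoc, w, comp_zero]
    exact map_zero _
  rw [key c, key c']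

end stalk


section step
open Groth.Agent.Lib.Helper6.DevCore Groth.Agent.Lib.Helper6.DevRed
  Groth.Agent.Lib.Helper2.HLesLin Groth.Agent.Lib.Helper4.HLesFin1
variable (k : Type u) [Field k] (X : Scheme.{u}) [X.Over (Spec (CommRingCat.of k))]
  [IsIntegral X] [IsProper (X ↘ Spec (CommRingCat.of k))]

/-- **twisting down by a point outside the zeros of a section**: if `x` is a closed point of degree
one and the section `s` of the invertible module `L` generates `L` at `x`, then `h⁰(L ⊗ I_x) = h⁰(L) - 1`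
and `h¹(L ⊗ I_x) = h¹(L)` -/
theorem step (hdim : topologicalKrullDim X ≤ 1) (L : X.Modules) (hL : PicF.IsInvertible L)
    (s : Coh.structureModule X ⟶ L) (x : X) (hx : IsClosed ({x} : Set X))
    (hxs : x ∈ CohB1.genLocus L s)
    (hQ : Module.finrank k (Coh.HH X (ClSub.quotMod (ptI x hx)) 0) = 1) :
    hh k (CohB1.tensorMod L (ClSub.idealMod (ptI x hx))) 0 + 1 = hh k L 0 ∧
      hh k (CohB1.tensorMod L (ClSub.idealMod (ptI x hx))) 1 = hh k L 1 ∧
      Curv2.euler k X (CohB1.tensorMod L (ClSub.idealMod (ptI x hx))) + 1 = Curv2.euler k X L := by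
  haveI : IsLocallyNoetherian X := isLocallyNoetherian k X
  set D := ptI x hx with hD
  have hL1 := Groth.Agent.Lib.Helper6.K0Op.isFinLocFreeOfRank_one_of_isInvertible L hL
  have hLc := Groth.Agent.Lib.Helper6.K0Op.isCoh_of_isInvertible L hL
  have hcQ : Coh.IsCoh (ClSub.quotMod D) := isCoh_quotMod D
  have hcO : Coh.IsCoh (Coh.structureModule X) := isCoh_structureModule
  have hcI : Coh.IsCoh (ClSub.idealMod D) := isCoh_kernel _ hcO hcQ
  have hses := Groth.Agent.Lib.Helper17.Serre.idealSES_shortExact D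
  have hS := Groth.Agent.Lib.Helper6.K0Op.shortExact_tensor_of_flat L
    (Groth.Agent.Lib.Helper6.K0Op.isFlat_of_isFinLocFreeOfRank L hL1) _ hses
  set S := (Groth.Agent.Lib.Helper17.Serre.idealSES D).map (DCoh.tensorBi.obj L) with hSdef
  have c1 : Coh.IsCoh S.X₁ := Groth.Agent.Lib.Helper6.K0Op.isCoh_tensorMod L _ hLc hcI
  have c2 : Coh.IsCoh S.X₂ := Groth.Agent.Lib.Helper6.K0Op.isCoh_tensorMod L _ hLc hcO
  have c3 : Coh.IsCoh S.X₃ := Groth.Agent.Lib.Helper6.K0Op.isCoh_tensorMod L _ hLc hcQ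
  -- the skyscraper term
  have hsuppQ : CohB1.support (ClSub.quotMod D) = {x} := by
    rw [hD]; exact support_quotMod_vanishingIdeal (Z := ⟨{x}, hx⟩)
  have hsupp3 : CohB1.support S.X₃ ⊆ {x} := by
    rw [← hsuppQ]
    exact Groth.Agent.Lib.Helper6.K0Op.support_tensorMod_subset L _ hLc hcQ
  have hcl3 : ∀ z ∈ CohB1.support S.X₃, IsClosed ({z} : Set X) := fun z hz => by
    have : z = x := hsupp3 hz
    rw [this]; exact hx
  have hT1 : ∀ p : ℕ, Subsingleton (Coh.HH X S.X₃ (p + 1)) := fun p =>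
    Groth.Agent.Lib.Helper8.CurveDeg.subsingleton_HH_succ S.X₃ c3 hcl3 p
  have hScl : ∀ z ∈ ({x} : Finset X), IsClosed ({z} : Set X) := fun z hz => by
    rw [Finset.mem_singleton] at hz
    rw [hz]; exact hx
  haveI : (ClSub.quotMod D).IsQuasicoherent := hcQ.1
  haveI : SheafOfModules.IsFiniteType.{u} (R := X.ringCatSheaf) (ClSub.quotMod D) := hcQ.2
  have hχQ : Curv2.euler k X (ClSub.quotMod D) = 1 := by
    rw [euler_eq_sum k X _ 1 (fun p hp => by
      obtain ⟨q, rfl⟩ : ∃ q, p = q + 1 := ⟨p - 1, by omega⟩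
      exact Groth.Agent.Lib.Helper17.ZeroSupp.subsingleton_HH_of_support_closedPoints _
        (fun z hz => by
          rw [hsuppQ] at hz
          have : z = x := hz
          rw [this]; exact hx) q)]
    simp [hQ]
  have hχ3 : Curv2.euler k X S.X₃ = 1 := by
    have t2 := Groth.Agent.Lib.Helper8.CurveTensor.euler_tensor_of_finset k X _ hcQ {x} hScl
      (by rw [hsuppQ]; simp) 1 L hL1
    have b2 := euler_congr k (Groth.Agent.Lib.Helper6.K0Inv.braidIso L (ClSub.quotMod D))
    have : Curv2.euler k X S.X₃ = Curv2.euler k X (CohB1.tensorMod L (ClSub.quotMod D)) := rfl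
    rw [this, b2, t2, hχQ]
    norm_num
  have h30 : hh k S.X₃ 0 = 1 := by
    have h := euler_eq_sum k X S.X₃ 1 (fun p hp => by
      obtain ⟨q, rfl⟩ : ∃ q, p = q + 1 := ⟨p - 1, by omega⟩
      exact hT1 q)
    rw [hχ3] at h
    simp at h
    unfold hh
    exact_mod_cast h.symm
  -- the section, moved into the middle term
  obtain ⟨u⟩ := Groth.Agent.Lib.Helper28.AmpleUnit.nonempty_tensor_unit_iso L
  have u' : S.X₂ ≅ L := u
  set s' : Coh.structureModule X ⟶ S.X₂ := s ≫ u'.inv with hs'
  have hxs' : x ∈ CohB1.genLocus S.X₂ s' := by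
    have := Groth.Agent.Lib.Helper28.AmpleUnit.genLocus_comp_iso s u'.symm
    rw [hs']
    change x ∈ CohB1.genLocus S.X₂ (s ≫ u'.symm.hom)
    rw [this]; exact hxs
  haveI := finite_HH k X _ c1 0
  haveI := finite_HH k X _ c2 0
  haveI := finite_HH k X _ c3 0
  haveI : Epi S.g := hS.epi_g
  -- surjectivity on H⁰
  have hsurj : LinearMap.range (Canon.HHlin k S.g 0) = ⊤ := by
    by_contra hne
    have hlt : Module.finrank k (LinearMap.range (Canon.HHlin k S.g 0)) < 1 := by
      have := Submodule.finrank_lt hne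
      unfold hh at h30
      rwa [h30] at this
    have hbot : LinearMap.range (Canon.HHlin k S.g 0) = ⊥ := by
      apply Submodule.finrank_eq_zero.1
      omega
    have hz : Canon.HHlin k S.g 0 (HHmap s' 0 (unitH X)) = 0 := by
      have : Canon.HHlin k S.g 0 (HHmap s' 0 (unitH X)) ∈ LinearMap.range (Canon.HHlin k S.g 0) :=
        ⟨_, rfl⟩
      rw [hbot] at this
      exact this
    have hmem : HHmap s' 0 (unitH X) ∈ LinearMap.ker (Canon.HHlin k S.g 0) := hz
    rw [← range_eq_ker₂ S hS k 0] at hmem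
    obtain ⟨y, hy⟩ := hmem
    obtain ⟨t, rfl⟩ := exists_hom_of_H0 S.X₁ y
    have hts : t ≫ S.f = s' := by
      apply Groth.Agent.Lib.Helper8.GGKill.hom_eq_of_HHmap_unitH_eq
      rw [HHmap_comp]
      exact hy
    haveI := subsingleton_stalk_of_factor S.f S.g S.zero s' t hts x hxs'
    have hempty : CohB1.support S.X₃ ⊆ ((∅ : Finset X) : Set X) := by
      intro z hz
      have hzx : z = x := hsupp3 hz
      subst hzx
      exact absurd ‹Subsingleton (S.X₃.presheaf.stalk z)› hz
    have h0 := Groth.Agent.Lib.Helper8.PtSupp.finrank_HH_zero S.X₃ k ∅ (by simp) hempty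
    unfold hh at h30
    rw [h30] at h0
    simp at h0
  -- rank–nullity on H⁰
  have hrn := LinearMap.finrank_range_add_finrank_ker (Canon.HHlin k S.g 0)
  have hker : Module.finrank k (LinearMap.ker (Canon.HHlin k S.g 0)) = hh k S.X₁ 0 := by
    rw [← range_eq_ker₂ S hS k 0]
    exact (LinearEquiv.ofInjective _ (injective_zero S hS k)).finrank_eq.symm
  have hrange : Module.finrank k (LinearMap.range (Canon.HHlin k S.g 0)) = 1 := by
    rw [hsurj, finrank_top]
    exact h30
  have h0 : hh k S.X₁ 0 + 1 = hh k S.X₂ 0 := by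
    rw [hker, hrange] at hrn
    unfold hh at hrn ⊢
    omega
  -- Euler characteristics
  have he := euler_add k X S hS c1 c2 c3
  have he' : Curv2.euler k X S.X₁ + 1 = Curv2.euler k X L := by
    rw [← euler_congr k u', he, hχ3]
  rw [hχ3, Groth.Agent.Lib.Helper8.CurveRR.euler_eq_sub k X hdim S.X₁ c1.1,
    Groth.Agent.Lib.Helper8.CurveRR.euler_eq_sub k X hdim S.X₂ c2.1] at he
  have h1 : hh k S.X₁ 1 = hh k S.X₂ 1 := by
    unfold hh at h0 ⊢
    omega
  have e0 := hh_congr k u' 0
  have e1 := hh_congr k u' 1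
  exact ⟨h0.trans e0, h1.trans e1, he'⟩

/-- regular closed points of degree one are dense on an integral proper curve over an algebraically
closed field -/
theorem exists_good_point [IsAlgClosed k] (hdim : topologicalKrullDim X = 1) (W : X.Opens)
    (hW : (W : Set X).Nonempty) :
    ∃ x ∈ W, ∃ hx : IsClosed ({x} : Set X), BlowUp.IsEffCartierIdeal (ptI x hx) ∧
      Module.finrank k (Coh.HH X (ClSub.quotMod (ptI x hx)) 0) = 1 := by
  haveI : IsLocallyNoetherian X := isLocallyNoetherian k X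
  obtain ⟨x, hxW, hx, hn⟩ := Groth.Agent.Lib.Helper8.RegPts.exists_closed_point k X W hW
  obtain ⟨h1, h2⟩ := Groth.Agent.Lib.Helper8.NormalPt.maximalIdeal_isPrincipal hdim.le x
    (Groth.Agent.Lib.Helper8.NormalPt.ne_genericPoint_of_isClosed hdim x hx) hn
  exact ⟨x, hxW, hx,
    Groth.Agent.Lib.Helper8.PointCartier.isEffCartierIdeal_vanishingIdeal_singleton x hx h1 h2,
    finrank_quotMod_of_isAlgClosed x hx k⟩

/-- **descending `h⁰`**: from an invertible module with `h⁰ = m + j` one obtains one with `h⁰ = m`,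
the same `h¹`, and Euler characteristic lowered by `j` -/
theorem descend [IsAlgClosed k] (hdim : topologicalKrullDim X = 1) (m : ℕ) :
    ∀ (j : ℕ) (L : X.Modules), PicF.IsInvertible L → hh k L 0 = m + j →
      ∃ M : X.Modules, PicF.IsInvertible M ∧ hh k M 0 = m ∧ hh k M 1 = hh k L 1 ∧
        Curv2.euler k X M + j = Curv2.euler k X L := by
  intro j
  induction j with
  | zero =>
    intro L hL h0
    exact ⟨L, hL, by simpa using h0, rfl, by simp⟩
  | succ j ih =>
    intro L hL h0
    haveI : IsLocallyNoetherian X := isLocallyNoetherian k X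
    have hLc := Groth.Agent.Lib.Helper6.K0Op.isCoh_of_isInvertible L hL
    haveI := finite_HH k X _ hLc 0
    have hnt : Nontrivial (Coh.HH X L 0) := by
      apply Module.nontrivial_of_finrank_pos (R := k)
      unfold hh at h0
      omega
    obtain ⟨s, hs⟩ := Groth.Agent.Lib.Helper8.CurveRR.exists_section_ne_zero L hnt
    have hne : (CohB1.genLocus L s : Set X).Nonempty := by
      by_contra hcon
      apply hs
      apply Groth.Agent.Lib.Helper8.CompSec.eq_zero_of_genLocus_eq_bot hL s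
      ext z
      simp only [Opens.coe_bot, Set.mem_empty_iff_false, iff_false]
      exact fun hz => hcon ⟨z, hz⟩
    obtain ⟨x, hxs, hx, hE, hQ⟩ := exists_good_point k X hdim _ hne
    obtain ⟨a0, a1, a2⟩ := step k X hdim.le L hL s x hx hxs hQ
    have hM := Groth.Agent.Lib.Helper28.GenLocus.isInvertible_tensorMod hL
      (Groth.Agent.Lib.Helper28.IdealDual.isInvertible_idealMod _ hE)
    obtain ⟨M, hMi, b0, b1, b2⟩ := ih _ hM (by omega)
    refine ⟨M, hMi, b0, b1.trans a1, ?_⟩
    push_cast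
    rw [← a2, ← b2]
    ring

omit [IsProper (X ↘ Spec (CommRingCat.of k))] in
/-- `h⁰(O_X) ≥ 1` on an integral scheme -/
theorem one_le_h0_structureModule [Module.Finite k (Coh.HH X (Coh.structureModule X) 0)] :
    1 ≤ hh k (Coh.structureModule X) 0 := by
  have hne : unitH X ≠ 0 := by
    intro h
    have h1 := congrArg (Sheaf.H.equiv₀ (Coh.toAb (Coh.structureModule X)) Limits.isTerminalTop) h
    unfold unitH at h1
    rw [AddEquiv.apply_symm_apply, map_zero] at h1
    have h2 : (1 : Γ(X, ⊤)) = 0 := h1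
    exact one_ne_zero h2
  have : Nontrivial (Coh.HH X (Coh.structureModule X) 0) := ⟨⟨_, _, hne⟩⟩
  exact Module.finrank_pos (R := k)

/-- an invertible module with `h¹ = 0` and `h⁰ ≥ 1` -/
theorem exists_start [IsAlgClosed k] (hdim : topologicalKrullDim X = 1) :
    ∃ P : X.Modules, PicF.IsInvertible P ∧ hh k P 1 = 0 ∧ 1 ≤ hh k P 0 := by
  haveI : IsLocallyNoetherian X := isLocallyNoetherian k X
  obtain ⟨x, -, hx, hE, hQ⟩ := exists_good_point k X hdim ⊤ ⟨(inferInstance : Nonempty X).some, trivial⟩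
  obtain ⟨hA, hAD⟩ := Groth.Agent.Lib.Helper8.PointBundle.exists_inverse X _ hE
  have hdegA := Groth.Agent.Lib.Helper8.PointBundle.deg_inverse k X _ (fun z hz => by
      have hz' : z ∈ ((Scheme.IdealSheafData.vanishingIdeal ⟨{x}, hx⟩).support : Set X) := hz
      rw [Scheme.IdealSheafData.coe_support_vanishingIdeal] at hz'
      have : z = x := hz'
      rw [this]; exact hx) _ hA hAD
  rw [hQ] at hdegA
  set A := HomMod.dual (ClSub.idealMod (ptI x hx)) with hAdef
  set g := Curv2.genus k X with hg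
  have hNi := Groth.Agent.Lib.Helper28.GenLocus.isInvertible_tensorPow hA g
  have hNc := Groth.Agent.Lib.Helper6.K0Op.isCoh_of_isInvertible _ hNi
  obtain ⟨m, hm⟩ := Groth.Agent.Lib.Helper8.KillE.exists_twist_h1_zero k X hdim.le hA
    (by rw [hdegA]; norm_num) _ (CohB1.tensorPow A g) hNc le_rfl
  have hPi : PicF.IsInvertible (CohB1.tensorMod (CohB1.tensorPow A m) (CohB1.tensorPow A g)) :=
    Groth.Agent.Lib.Helper28.GenLocus.isInvertible_tensorMod
      (Groth.Agent.Lib.Helper28.GenLocus.isInvertible_tensorPow hA m) hNi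
  refine ⟨_, hPi, hm, ?_⟩
  have hPc := Groth.Agent.Lib.Helper6.K0Op.isCoh_of_isInvertible _ hPi
  have hd := Groth.Agent.Lib.Helper8.DegGroup.deg_tensorMod k X hdim.le
    (Groth.Agent.Lib.Helper28.GenLocus.isInvertible_tensorPow hA m) hNi
  rw [Groth.Agent.Lib.Helper8.KillE.deg_tensorPow k X hdim.le hA,
    Groth.Agent.Lib.Helper8.KillE.deg_tensorPow k X hdim.le hA, hdegA] at hd
  unfold Curv2.deg at hd
  have hcO := Groth.Agent.Lib.Helper6.K0Op.isCoh_of_isInvertible _
    (Groth.Agent.Lib.Helper28.AmpleUnit.isInvertible_structureModule X)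
  haveI := finite_HH k X _ hcO 0
  have hO0 := one_le_h0_structureModule k X
  rw [Groth.Agent.Lib.Helper8.CurveRR.euler_eq_sub k X hdim.le _ hPc.1,
    Groth.Agent.Lib.Helper8.CurveRR.euler_eq_sub k X hdim.le _ hcO.1] at hd
  have hm' : Module.finrank k (Coh.HH X
      (CohB1.tensorMod (CohB1.tensorPow A m) (CohB1.tensorPow A g)) 1) = 0 := hm
  have hg' : Module.finrank k (Coh.HH X (Coh.structureModule X) 1) = g := rfl
  unfold hh at hO0 ⊢
  rw [hm', hg'] at hd
  push_cast at hd
  omega

/-- **invertible modules with `(h⁰, h¹) = (1, 0)` and `(0, 0)`** on an integral proper curve over an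
algebraically closed field -/
theorem exists_h0_h1 [IsAlgClosed k] (hdim : topologicalKrullDim X = 1) :
    (∃ L : X.Modules, PicF.IsInvertible L ∧ hh k L 0 = 1 ∧ hh k L 1 = 0) ∧
      (∃ N : X.Modules, PicF.IsInvertible N ∧ hh k N 0 = 0 ∧ hh k N 1 = 0) := by
  obtain ⟨P, hP, h1, h0⟩ := exists_start k X hdim
  obtain ⟨L, hL, a0, a1, -⟩ := descend k X hdim 1 (hh k P 0 - 1) P hP (by omega)
  obtain ⟨N, hN, b0, b1, -⟩ := descend k X hdim 0 (hh k P 0) P hP (by omega)
  exact ⟨⟨L, hL, a0, a1.trans h1⟩, ⟨N, hN, b0, b1.trans h1⟩⟩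
end step

end Groth.Agent.Lib.Helper8.Descend
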