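import Groth.Agent.Lib.Helper8.Descend

/-! # Helper8 — a section of an invertible module not generating at a closed point factors through the twist by the ideal of the point -/
set_option autoImplicit false
universe u
open CategoryTheory CategoryTheory.Limits AlgebraicGeometry Opposite TopologicalSpace MonoidalCategory
noncomputable section

namespace Groth.Agent.Lib.Helper8.Vanish

open Groth.Agent.Lib.Helper8.EulerK Groth.Agent.Lib.Helper28 Groth.Agent.Lib.Helper8.KillA
  Groth.Agent.Lib.Helper17.StalkExact Groth.Agent.Lib.Helper8.PointDeg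
  Groth.Agent.Lib.Helper28.TensorGen Groth.Agent.Lib.Helper28.QCohLoc

variable {X : Scheme.{u}}

/-- naturality of `m ⊗ n` in the second variable -/
theorem map_tmulSec_right (M : X.Modules) {N N' : X.Modules} (ψ : N ⟶ N') {W : X.Opens}
    (m : Γ(M, W)) (n : Γ(N, W)) :
    ((DCoh.tensorBi.obj M).map ψ).app W (tmulSec M N m n) = tmulSec M N' m (ψ.app W n) := by
  have hnat := (PresheafOfModules.sheafificationAdjunction (𝟙 X.ringCatSheaf.obj)).unit.naturality
    (show (CohB1.tensorPre M N : X.PresheafOfModules) ⟶ (CohB1.tensorPre M N' : X.PresheafOfModules) from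
      (CohB1.toPMod M ◁ (show CohB1.toPMod N ⟶ CohB1.toPMod N' from ψ.val)))
  have h2 := congrArg (fun φ => (φ.app (op W)) (ptmul M N m n)) hnat
  exact h2.symm


/-- the ideal of a closed point over an affine open containing it is the prime ideal of the point -/
theorem ideal_ptI (x : X) (hx : IsClosed ({x} : Set X)) (U : X.affineOpens) (hxU : x ∈ U.1) :
    (ptI x hx).ideal U = (U.2.primeIdealOf ⟨x, hxU⟩).asIdeal := by
  obtain ⟨U, hU⟩ := U
  rw [Scheme.IdealSheafData.vanishingIdeal_ideal]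
  have : hU.fromSpec ⁻¹' ((⟨{x}, hx⟩ : Closeds X) : Set X) = {hU.primeIdealOf ⟨x, hxU⟩} := by
    ext p
    simp only [Set.mem_preimage, Set.mem_singleton_iff]
    constructor
    · intro hp
      apply hU.fromSpec.isOpenEmbedding.injective
      rw [hU.fromSpec_primeIdealOf]
      exact hp
    · rintro rfl
      exact hU.fromSpec_primeIdealOf ⟨x, hxU⟩
  erw [this]
  exact PrimeSpectrum.vanishingIdeal_singleton _

/-- a function on an affine open not invertible at a closed point lies in the ideal of the point -/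
theorem mem_ideal_ptI_of_notMem_basicOpen (x : X) (hx : IsClosed ({x} : Set X)) (U : X.affineOpens)
    (hxU : x ∈ U.1) (r : Γ(X, U.1)) (hr : x ∉ X.basicOpen r) : r ∈ (ptI x hx).ideal U := by
  rw [ideal_ptI x hx U hxU]
  obtain ⟨U, hU⟩ := U
  let y' : U := ⟨x, hxU⟩
  letI : Algebra Γ(X, U) (X.presheaf.stalk (y' : X)) :=
    TopCat.Presheaf.algebra_section_stalk X.presheaf y'
  haveI : IsLocalization.AtPrime (X.presheaf.stalk (y' : X)) (hU.primeIdealOf y').asIdeal :=
    hU.isLocalization_stalk y'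
  by_contra hnot
  apply hr
  rw [Scheme.mem_basicOpen X r x hxU]
  exact (IsLocalization.AtPrime.isUnit_to_map_iff (X.presheaf.stalk (y' : X))
    (hU.primeIdealOf y').asIdeal r).2 hnot


open Groth.Agent.Lib.Helper6.DevCore Groth.Agent.Lib.Helper6.DevRed
  Groth.Agent.Lib.Helper28.GenLocus
  Groth.Agent.Lib.Helper29.QCohStalk in
/-- **the vanishing lemma**: a section of `L ⊗ O` that does not generate at the closed point `x`
dies in `L ⊗ O_x` -/
theorem comp_eq_zero [IsLocallyNoetherian X] {L : X.Modules} (hL : PicF.IsInvertible L)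
    (x : X) (hx : IsClosed ({x} : Set X))
    (s' : Coh.structureModule X ⟶ (DCoh.tensorBi.obj L).obj (Coh.structureModule X))
    (hxs : x ∉ CohB1.genLocus _ s') :
    s' ≫ (DCoh.tensorBi.obj L).map (ClSub.toSubscheme (ptI x hx)) = 0 := by
  set D := ptI x hx with hD
  set g := (DCoh.tensorBi.obj L).map (ClSub.toSubscheme D) with hg
  set f := (DCoh.tensorBi.obj L).map (ClSub.idealModι D) with hf
  have hfg : f ≫ g = 0 := by
    rw [hf, hg, ← Functor.map_comp]
    have : ClSub.idealModι D ≫ ClSub.toSubscheme D = 0 := kernel.condition _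
    rw [this, Functor.map_zero]
  have hLc := Groth.Agent.Lib.Helper6.K0Op.isCoh_of_isInvertible L hL
  have hcQ : Coh.IsCoh (ClSub.quotMod D) := isCoh_quotMod D
  have hsupp : CohB1.support ((DCoh.tensorBi.obj L).obj (ClSub.quotMod D)) ⊆ {x} := by
    have h1 : CohB1.support (ClSub.quotMod D) = {x} := by
      rw [hD]; exact support_quotMod_vanishingIdeal (Z := ⟨{x}, hx⟩)
    rw [← h1]
    exact Groth.Agent.Lib.Helper6.K0Op.support_tensorMod_subset L _ hLc hcQ
  -- a local generator over an affine open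
  obtain ⟨W, γ, hxW, hγ⟩ := exists_isGen L hL x
  obtain ⟨_, ⟨U, hU, rfl⟩, hxU, hUW⟩ :=
    X.isBasis_affineOpens.exists_subset_of_mem_open hxW W.isOpen
  have hUW' : U ≤ W := hUW
  have hγU := hγ.res hUW'
  set γ' := res L hUW' γ with hγ'
  have hgen : IsGen (CohB1.tensorMod L (Coh.structureModule X)) U
      (tmulSec L (Coh.structureModule X) γ' (oneSec X U)) :=
    InvTensor.isGen_tmulSec _ _ hγU (isGen_oneSec U)
  set σ := res (CohB1.tensorMod L (Coh.structureModule X)) (le_top : U ≤ ⊤) (secOf s') with hσ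
  set r := hgen.coef le_rfl σ with hr
  have hloc := genLocus_inf_eq_coef s' U _ hgen
  have hxr : x ∉ X.basicOpen r := by
    intro h
    have h2 : x ∈ CohB1.genLocus _ s' ⊓ U := by
      rw [hloc]; exact h
    exact hxs h2.1
  have hrI := mem_ideal_ptI_of_notMem_basicOpen x hx ⟨U, hU⟩ hxU r hxr
  obtain ⟨κ, hκ⟩ := IdealDual.exists_iota_eq_of_mem D ⟨U, hU⟩ r hrI
  -- the local lift
  have hlift : f.app U (tmulSec L (ClSub.idealMod D) γ' κ) = σ := by
    rw [hf, map_tmulSec_right]
    have h1 : (ClSub.idealModι D).app U κ = (r • oneSec X U : Γ(Coh.structureModule X, U)) := by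
      rw [smul_oneSec]
      exact hκ
    rw [h1, tmulSec_smul_right]
    have h2 := hgen.coef_smul le_rfl σ
    rw [res_self] at h2
    exact h2
  -- conclusion
  have hsec : secOf (s' ≫ g) = 0 := by
    refine Groth.Agent.Lib.Helper8.PtSupp.eq_zero_of_gm_eq_zero _ {x} hsupp _ ?_
    intro z hz
    have hzx : z = x := hz
    subst hzx
    have h1 := gm_res ((DCoh.tensorBi.obj L).obj (ClSub.quotMod D)) (le_top : U ≤ ⊤) z hxU
      (secOf (s' ≫ g))
    rw [← h1]
    have h2 : res ((DCoh.tensorBi.obj L).obj (ClSub.quotMod D)) (le_top : U ≤ ⊤) (secOf (s' ≫ g)) =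
        g.app U σ := by
      have : secOf (s' ≫ g) = g.app ⊤ (secOf s') := rfl
      rw [this, ← app_res]
      rfl
    rw [h2, ← hlift]
    have h3 : g.app U (f.app U (tmulSec L (ClSub.idealMod D) γ' κ)) =
        (f ≫ g).app U (tmulSec L (ClSub.idealMod D) γ' κ) := rfl
    rw [h3, hfg]
    exact gm_zero _ U z hxU
  rw [← ofSection_secOf (s' ≫ g), hsec, ← secOf_zero (M := (DCoh.tensorBi.obj L).obj (ClSub.quotMod D)),
    ofSection_secOf]


section curve
open Groth.Agent.Lib.Helper6.DevCore Groth.Agent.Lib.Helper6.DevRed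
  Groth.Agent.Lib.Helper2.HLesLin Groth.Agent.Lib.Helper4.HLesFin1
variable (k : Type u) [Field k] (X : Scheme.{u}) [X.Over (Spec (CommRingCat.of k))]
  [IsIntegral X] [IsProper (X ↘ Spec (CommRingCat.of k))]

/-- the twisted ideal sequence `0 → L ⊗ I_x → L ⊗ O → L ⊗ O_x → 0` of a closed point of degree one:
exactness, coherence, and `χ(L ⊗ O_x) = 1` -/
theorem twist_data (L : X.Modules) (hL : PicF.IsInvertible L) (x : X) (hx : IsClosed ({x} : Set X))
    (hQ : Module.finrank k (Coh.HH X (ClSub.quotMod (ptI x hx)) 0) = 1) :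
    ((Groth.Agent.Lib.Helper17.Serre.idealSES (ptI x hx)).map (DCoh.tensorBi.obj L)).ShortExact ∧
      Coh.IsCoh (CohB1.tensorMod L (ClSub.idealMod (ptI x hx))) ∧
      Coh.IsCoh (CohB1.tensorMod L (Coh.structureModule X)) ∧
      Coh.IsCoh (CohB1.tensorMod L (ClSub.quotMod (ptI x hx))) ∧
      Curv2.euler k X (CohB1.tensorMod L (ClSub.quotMod (ptI x hx))) = 1 := by
  haveI : IsLocallyNoetherian X := isLocallyNoetherian k X
  set D := ptI x hx with hD
  have hL1 := Groth.Agent.Lib.Helper6.K0Op.isFinLocFreeOfRank_one_of_isInvertible L hL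
  have hLc := Groth.Agent.Lib.Helper6.K0Op.isCoh_of_isInvertible L hL
  have hcQ : Coh.IsCoh (ClSub.quotMod D) := isCoh_quotMod D
  have hcO : Coh.IsCoh (Coh.structureModule X) := isCoh_structureModule
  have hcI : Coh.IsCoh (ClSub.idealMod D) := isCoh_kernel _ hcO hcQ
  have hses := Groth.Agent.Lib.Helper17.Serre.idealSES_shortExact D
  have hS := Groth.Agent.Lib.Helper6.K0Op.shortExact_tensor_of_flat L
    (Groth.Agent.Lib.Helper6.K0Op.isFlat_of_isFinLocFreeOfRank L hL1) _ hses
  refine ⟨hS, Groth.Agent.Lib.Helper6.K0Op.isCoh_tensorMod L _ hLc hcI,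
    Groth.Agent.Lib.Helper6.K0Op.isCoh_tensorMod L _ hLc hcO,
    Groth.Agent.Lib.Helper6.K0Op.isCoh_tensorMod L _ hLc hcQ, ?_⟩
  have hsuppQ : CohB1.support (ClSub.quotMod D) = {x} := by
    rw [hD]; exact support_quotMod_vanishingIdeal (Z := ⟨{x}, hx⟩)
  have hScl : ∀ z ∈ ({x} : Finset X), IsClosed ({z} : Set X) := fun z hz => by
    rw [Finset.mem_singleton] at hz
    rw [hz]; exact hx
  haveI : (ClSub.quotMod D).IsQuasicoherent := hcQ.1
  haveI : SheafOfModules.IsFiniteType.{u} (R := X.ringCatSheaf) (ClSub.quotMod D) := hcQ.2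
  have hχQ : Curv2.euler k X (ClSub.quotMod D) = 1 := by
    rw [euler_eq_sum k X _ 1 (fun p hp => by
      obtain ⟨q, rfl⟩ : ∃ q, p = q + 1 := ⟨p - 1, by omega⟩
      exact Groth.Agent.Lib.Helper17.ZeroSupp.subsingleton_HH_of_support_closedPoints _
        (fun z hz => by
          rw [hsuppQ] at hz
          have : z = x := hz
          rw [this]; exact hx) q)]
    simp [hQ]
  have t2 := Groth.Agent.Lib.Helper8.CurveTensor.euler_tensor_of_finset k X _ hcQ {x} hScl
    (by rw [hsuppQ]; simp) 1 L hL1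
  have b2 := euler_congr k (Groth.Agent.Lib.Helper6.K0Inv.braidIso L (ClSub.quotMod D))
  rw [b2, t2, hχQ]
  norm_num

/-- **twisting down by a zero of a section**: if the nonzero section `s` of the invertible module
`L` does not generate at the closed point `x` of degree one, then `L ⊗ I_x` has a nonzero section,
`h⁰(L ⊗ I_x) ≤ h⁰(L)` and `χ(L ⊗ I_x) = χ(L) - 1` -/
theorem twist_zero (L : X.Modules) (hL : PicF.IsInvertible L)
    (s : Coh.structureModule X ⟶ L) (hs : s ≠ 0) (x : X) (hx : IsClosed ({x} : Set X))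
    (hxs : x ∉ CohB1.genLocus L s)
    (hQ : Module.finrank k (Coh.HH X (ClSub.quotMod (ptI x hx)) 0) = 1) :
    1 ≤ hh k (CohB1.tensorMod L (ClSub.idealMod (ptI x hx))) 0 ∧
      hh k (CohB1.tensorMod L (ClSub.idealMod (ptI x hx))) 0 ≤ hh k L 0 ∧
      Curv2.euler k X (CohB1.tensorMod L (ClSub.idealMod (ptI x hx))) + 1 = Curv2.euler k X L := by
  haveI : IsLocallyNoetherian X := isLocallyNoetherian k X
  obtain ⟨hS, c1, c2, c3, hχ3⟩ := twist_data k X L hL x hx hQ
  set S := (Groth.Agent.Lib.Helper17.Serre.idealSES (ptI x hx)).map (DCoh.tensorBi.obj L) with hSdef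
  obtain ⟨u⟩ := Groth.Agent.Lib.Helper28.AmpleUnit.nonempty_tensor_unit_iso L
  have u' : S.X₂ ≅ L := u
  set s' : Coh.structureModule X ⟶ S.X₂ := s ≫ u'.inv with hs'
  have hxs' : x ∉ CohB1.genLocus S.X₂ s' := by
    have := Groth.Agent.Lib.Helper28.AmpleUnit.genLocus_comp_iso s u'.symm
    rw [hs']
    change x ∉ CohB1.genLocus S.X₂ (s ≫ u'.symm.hom)
    rw [this]; exact hxs
  have hzero : s' ≫ S.g = 0 := comp_eq_zero hL x hx s' hxs'
  haveI : Mono S.f := hS.mono_f
  have hts : hS.exact.lift s' hzero ≫ S.f = s' := hS.exact.lift_f s' hzero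
  set t := hS.exact.lift s' hzero with ht
  have ht0 : t ≠ 0 := by
    intro h0
    apply hs
    have h1 : s' = 0 := by rw [← hts, h0, zero_comp]
    have h2 : s = s' ≫ u'.hom := by rw [hs', Category.assoc, u'.inv_hom_id, Category.comp_id]
    rw [h2, h1, zero_comp]
  have c1' : Coh.IsCoh S.X₁ := c1
  have c2' : Coh.IsCoh S.X₂ := c2
  have c3' : Coh.IsCoh S.X₃ := c3
  have hχ3' : Curv2.euler k X S.X₃ = 1 := hχ3
  haveI := finite_HH k X _ c1' 0
  have hnt : Nontrivial (Coh.HH X S.X₁ 0) := by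
    refine ⟨⟨HHmap t 0 (unitH X), 0, fun h => ht0 ?_⟩⟩
    apply Groth.Agent.Lib.Helper8.GGKill.hom_eq_of_HHmap_unitH_eq
    rw [h, HHmap_zero_unitH]
  have h1 : 1 ≤ hh k S.X₁ 0 := Module.finrank_pos (R := k)
  have h2 : hh k S.X₁ 0 ≤ hh k S.X₂ 0 := hh₁_zero_le k S hS c2'
  have he := euler_add k X S hS c1' c2' c3'
  have he' : Curv2.euler k X S.X₁ + 1 = Curv2.euler k X L := by
    rw [← euler_congr k u', he, hχ3']
  exact ⟨h1, h2.trans (hh_congr k u' 0).le, he'⟩

end curve

end Groth.Agent.Lib.Helper8.Vanish
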