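import Groth.Agent.Lib.Helper28.IdealDual

/-! # Helper8 — sections of the dual `M^∨` from morphisms `M ⟶ O_X`, and where they generate -/
set_option autoImplicit false
universe u
open CategoryTheory CategoryTheory.Limits AlgebraicGeometry Opposite TopologicalSpace
noncomputable section

namespace Groth.Agent.Lib.Helper8.DualSec

open Groth.Agent.Lib.Helper28 Groth.Agent.Lib.Helper28.QCohLoc Groth.Agent.Lib.Helper28.GenLocus
  Groth.Agent.Lib.Helper28.HomMod Groth.Agent.Lib.Helper28.IdealDual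

variable {X : Scheme.{u}}

theorem iso_hom_inv_app {M N : X.Modules} (i : M ≅ N) (U : X.Opens) (t : Γ(N, U)) :
    i.hom.app U (i.inv.app U t) = t := by
  change (i.inv ≫ i.hom).app U t = t
  rw [Iso.inv_hom_id]
  rfl

theorem iso_inv_hom_app {M N : X.Modules} (i : M ≅ N) (U : X.Opens) (t : Γ(M, U)) :
    i.inv.app U (i.hom.app U t) = t := by
  change (i.hom ≫ i.inv).app U t = t
  rw [Iso.hom_inv_id]
  rfl

/-- an isomorphism transports generators -/
theorem isGen_map_iso {M N : X.Modules} (i : M ≅ N) {U : X.Opens} {τ : Γ(M, U)}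
    (h : IsGen M U τ) : IsGen N U (i.hom.app U τ) := by
  intro W hW
  have h1 : (fun c : Γ(X, W) => (c • res N hW (i.hom.app U τ) : Γ(N, W))) =
      (i.hom.app W) ∘ (fun c : Γ(X, W) => (c • res M hW τ : Γ(M, W))) := by
    funext c
    show _ = i.hom.app W (c • res M hW τ : Γ(M, W))
    rw [Scheme.Modules.Hom.app_smul, app_res]
  rw [h1]
  refine Function.Bijective.comp ⟨?_, ?_⟩ (h W hW)
  · intro a b hab
    have := congrArg (i.inv.app W) hab
    rwa [iso_inv_hom_app, iso_inv_hom_app] at this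
  · intro t
    exact ⟨i.inv.app W t, iso_hom_inv_app i W t⟩

variable {M : X.Modules} (φ : M ⟶ Coh.structureModule X)

/-- the global section of `M^∨` given by a morphism `M ⟶ O_X` -/
def homSec : Γ(dual M, ⊤) :=
  mkSec (N := Coh.structureModule X)
    (fun W _ k => φ.app W k)
    (fun _ _ k k' => map_add _ k k')
    (fun _ _ a k => Scheme.Modules.Hom.app_smul φ a k)
    (fun _ _ _ h' k => app_res φ h' k)

theorem evO_homSec {W : X.Opens} (h : W ≤ ⊤) (k : Γ(M, W)) : evO (homSec φ) h k = φ.app W k := rfl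

/-- the corresponding morphism `O_X ⟶ M^∨` -/
def secOfHom : Coh.structureModule X ⟶ dual M := TwistGen.ofSection _ (homSec φ)

theorem genLocus_secOfHom_inf {U : X.Opens} {g : Γ(M, U)} (hg : IsGen M U g) :
    CohB1.genLocus _ (secOfHom φ) ⊓ U = X.basicOpen (show Γ(X, U) from φ.app U g) := by
  refine genLocus_inf_eq (secOfHom φ) U (gdual hg) (isGen_gdual hg) (show Γ(X, U) from φ.app U g) ?_
  rw [secOfHom, secOf_ofSection]
  apply ext_evO
  intro W hW k
  rw [res_evO, evO_homSec, smul_evO, evO_gdual]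
  conv_lhs => rw [← hg.coef_smul hW k]
  rw [Scheme.Modules.Hom.app_smul, app_res, mul_comm]
  rfl

/-- **for `M ≅ I_D` with `D` effective Cartier, the section of `M^∨` given by `M ≅ I_D ⊆ O_X` generates
exactly off the support of `D`** -/
theorem genLocus_secOfHom_iso (J : X.IdealSheafData) (hJ : BlowUp.IsEffCartierIdeal J)
    (e : M ≅ ClSub.idealMod J) :
    CohB1.genLocus _ (secOfHom (e.hom ≫ ClSub.idealModι J)) = J.support.compl := by
  ext x
  obtain ⟨U, hxU, f, hf, hJU⟩ := hJ x
  obtain ⟨g', hg', hgf⟩ := exists_isGen_idealMod J U.2 f hf hJU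
  have hg : IsGen M U.1 (e.inv.app U.1 g') := isGen_map_iso e.symm hg'
  have h1 := genLocus_secOfHom_inf (e.hom ≫ ClSub.idealModι J) hg
  have h1' : (show Γ(X, U.1) from (e.hom ≫ ClSub.idealModι J).app U.1 (e.inv.app U.1 g')) = f := by
    show (ClSub.idealModι J).app U.1 (e.hom.app U.1 (e.inv.app U.1 g')) = f
    rw [iso_hom_inv_app]
    exact hgf
  rw [h1'] at h1
  have h2 : x ∈ CohB1.genLocus _ (secOfHom (e.hom ≫ ClSub.idealModι J)) ↔ x ∈ X.basicOpen f := by
    rw [← h1]
    exact ⟨fun h => ⟨h, hxU⟩, fun h => h.1⟩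
  have h3 : x ∈ J.support ↔ x ∉ X.basicOpen f := by
    rw [Scheme.IdealSheafData.mem_support_iff_of_mem (U := U) hxU, hJU, Scheme.zeroLocus_span,
      Scheme.zeroLocus_singleton]
    rfl
  show x ∈ CohB1.genLocus _ (secOfHom (e.hom ≫ ClSub.idealModι J)) ↔ x ∈ J.support.compl
  rw [h2]
  show _ ↔ x ∉ J.support
  rw [h3, not_not]

end Groth.Agent.Lib.Helper8.DualSec
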