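import Mathlib
import Groth.Prelude.Def_BlowUp2

/-! # Helper8 — the ideal sheaf of a closed point with DVR local ring on an integral locally Noetherian scheme is effective Cartier -/
set_option autoImplicit false
universe u
open CategoryTheory AlgebraicGeometry Opposite TopologicalSpace

namespace Groth.Agent.Lib.Helper8.PointCartier

/-- spreading out a generator of the maximal ideal of a localization at a prime -/
theorem exists_away_principal {A : Type*} [CommRing A] [IsDomain A] (𝔭 : Ideal A) [𝔭.IsPrime]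
    (hfg : 𝔭.FG) (S : Type*) [CommRing S] [Algebra A S] [IsLocalization.AtPrime S 𝔭]
    [IsLocalRing S]
    (hprin : (IsLocalRing.maximalIdeal S).IsPrincipal) (hne : IsLocalRing.maximalIdeal S ≠ ⊥) :
    ∃ g : A, g ∉ 𝔭 ∧ ∃ a : A, a ∈ 𝔭 ∧ a ≠ 0 ∧
      ∀ (B : Type*) [CommRing B] (φ : A →+* B), IsUnit (φ g) → 𝔭.map φ = Ideal.span {φ a} := by
  obtain ⟨ϖ, hϖ⟩ := hprin.principal
  obtain ⟨a₀, s₀, hϖ'⟩ := IsLocalization.exists_mk'_eq 𝔭.primeCompl ϖ
  have hs₀ : IsUnit (algebraMap A S s₀) := IsLocalization.map_units S s₀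
  have ha₀ : algebraMap A S a₀ = ϖ * algebraMap A S s₀ := by
    rw [← hϖ', IsLocalization.mk'_spec]
  have hgen : IsLocalRing.maximalIdeal S = Ideal.span {algebraMap A S a₀} := by
    rw [hϖ, ha₀]
    exact (Ideal.span_singleton_mul_right_unit hs₀ ϖ).symm
  have hinj : Function.Injective (algebraMap A S) :=
    IsLocalization.injective S 𝔭.primeCompl_le_nonZeroDivisors
  have ha₀mem : a₀ ∈ 𝔭 := by
    rw [← IsLocalization.AtPrime.to_map_mem_maximal_iff S 𝔭, hgen]
    exact Ideal.mem_span_singleton_self _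
  have ha₀ne : a₀ ≠ 0 := by
    rintro rfl
    apply hne
    rw [hgen, map_zero]
    simp
  have key : ∀ p ∈ 𝔭, ∃ s : A, s ∉ 𝔭 ∧ ∃ b : A, s * p = b * a₀ := by
    intro p hp
    have h1 : algebraMap A S p ∈ IsLocalRing.maximalIdeal S :=
      (IsLocalization.AtPrime.to_map_mem_maximal_iff S 𝔭 p).2 hp
    rw [hgen, Ideal.mem_span_singleton'] at h1
    obtain ⟨c, hc⟩ := h1
    obtain ⟨b, s, hbs⟩ := IsLocalization.exists_mk'_eq 𝔭.primeCompl c
    refine ⟨s, s.2, b, ?_⟩
    apply hinj
    rw [map_mul, map_mul, ← hc, ← hbs]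
    rw [← mul_assoc, mul_comm (algebraMap A S s), IsLocalization.mk'_spec]
  obtain ⟨T, hT⟩ := hfg
  have hTmem : ∀ p ∈ T, p ∈ 𝔭 := fun p hp => hT ▸ Ideal.subset_span hp
  choose! s hs b hb using key
  refine ⟨∏ p ∈ T, s p, ?_, a₀, ha₀mem, ha₀ne, ?_⟩
  · intro h
    obtain ⟨p, hpT, hp⟩ := (Ideal.IsPrime.prod_mem_iff).1 h
    exact hs p (hTmem p hpT) hp
  · intro B _ φ hu
    apply le_antisymm
    · rw [← hT, Ideal.map_span, Ideal.span_le]
      rintro _ ⟨p, hpT, rfl⟩
      have hsp : IsUnit (φ (s p)) := by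
        rw [map_prod] at hu
        exact isUnit_of_dvd_unit (Finset.dvd_prod_of_mem (fun q => φ (s q)) hpT) hu
      obtain ⟨v, hv⟩ := hsp
      have h2 : φ (s p) * φ p = φ (b p) * φ a₀ := by
        rw [← map_mul, ← map_mul, hb p (hTmem p hpT)]
      rw [SetLike.mem_coe, Ideal.mem_span_singleton']
      refine ⟨↑v⁻¹ * φ (b p), ?_⟩
      rw [mul_assoc, ← h2, ← hv, ← mul_assoc, Units.inv_mul, one_mul]
    · rw [Ideal.span_le]
      rintro _ rfl
      exact Ideal.mem_map_of_mem φ ha₀mem

variable {X : Scheme.{u}}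

/-- **the ideal of a closed point whose local ring has a nonzero principal maximal ideal (a DVR
point) on an integral locally Noetherian scheme is effective Cartier** -/
theorem isEffCartierIdeal_vanishingIdeal_singleton [IsIntegral X] [IsLocallyNoetherian X]
    (x : X) (hx : IsClosed ({x} : Set X))
    (hprin : (IsLocalRing.maximalIdeal (X.presheaf.stalk x)).IsPrincipal)
    (hne : IsLocalRing.maximalIdeal (X.presheaf.stalk x) ≠ ⊥) :
    BlowUp.IsEffCartierIdeal (Scheme.IdealSheafData.vanishingIdeal ⟨{x}, hx⟩) := by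
  intro y
  by_cases hyx : y = x
  · subst hyx
    obtain ⟨_, ⟨U, hU, rfl⟩, hyU, -⟩ :=
      X.isBasis_affineOpens.exists_subset_of_mem_open (Set.mem_univ y) isOpen_univ
    haveI : Nonempty U := ⟨⟨y, hyU⟩⟩
    haveI : IsNoetherianRing Γ(X, U) := IsLocallyNoetherian.component_noetherian ⟨U, hU⟩
    let y' : U := ⟨y, hyU⟩
    let 𝔭 := (hU.primeIdealOf y').asIdeal
    letI : Algebra Γ(X, U) (X.presheaf.stalk (y' : X)) :=
      TopCat.Presheaf.algebra_section_stalk X.presheaf y'
    haveI : IsLocalization.AtPrime (X.presheaf.stalk (y' : X)) 𝔭 := hU.isLocalization_stalk y'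
    obtain ⟨g, hg, a, ha, ha0, hmap⟩ := exists_away_principal 𝔭 (IsNoetherian.noetherian 𝔭)
      (X.presheaf.stalk (y' : X)) hprin hne
    have hyV : y ∈ X.basicOpen g := by
      rw [Scheme.mem_basicOpen X g y hyU]
      exact (IsLocalization.AtPrime.isUnit_to_map_iff (X.presheaf.stalk (y' : X)) 𝔭 g).2 hg
    haveI : Nonempty (X.basicOpen g) := ⟨⟨y, hyV⟩⟩
    let φ : Γ(X, U) →+* Γ(X, X.basicOpen g) := (X.presheaf.map (homOfLE (X.basicOpen_le g)).op).hom
    have hφg : IsUnit (φ g) := X.toRingedSpace.isUnit_res_basicOpen g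
    have hφinj : Function.Injective φ := map_injective_of_isIntegral X (homOfLE (X.basicOpen_le g))
    refine ⟨X.affineBasicOpen (U := ⟨U, hU⟩) g, hyV, φ a, ?_, ?_⟩
    · show φ a ∈ nonZeroDivisors Γ(X, X.basicOpen g)
      apply mem_nonZeroDivisors_of_ne_zero
      intro h0
      exact ha0 (hφinj (h0.trans (map_zero φ).symm))
    · rw [← Scheme.IdealSheafData.map_ideal_basicOpen _ ⟨U, hU⟩ g]
      refine Eq.trans ?_ (hmap _ φ hφg)
      show Ideal.map φ _ = Ideal.map φ 𝔭
      congr 1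
      rw [Scheme.IdealSheafData.vanishingIdeal_ideal]
      have : hU.fromSpec ⁻¹' ((⟨{y}, hx⟩ : Closeds X) : Set X) = {hU.primeIdealOf y'} := by
        ext p
        simp only [Set.mem_preimage, Set.mem_singleton_iff]
        constructor
        · intro hp
          apply hU.fromSpec.isOpenEmbedding.injective
          rw [hU.fromSpec_primeIdealOf]
          exact hp
        · rintro rfl
          exact hU.fromSpec_primeIdealOf y'
      erw [this]
      exact PrimeSpectrum.vanishingIdeal_singleton _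
  · have hop : IsOpen (({x} : Set X)ᶜ) := hx.isOpen_compl
    obtain ⟨_, ⟨U, hU, rfl⟩, hyU, hUx⟩ :=
      X.isBasis_affineOpens.exists_subset_of_mem_open (show y ∈ ({x} : Set X)ᶜ from hyx) hop
    refine ⟨⟨U, hU⟩, hyU, 1, one_mem _, ?_⟩
    rw [Scheme.IdealSheafData.vanishingIdeal_ideal, Ideal.span_singleton_one]
    convert PrimeSpectrum.vanishingIdeal_empty using 2
    ext p
    simp only [Set.mem_preimage, Set.mem_empty_iff_false, iff_false]
    intro hp
    have h1 : hU.fromSpec p ∈ (U : Set X) := by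
      rw [← hU.range_fromSpec]
      exact ⟨p, rfl⟩
    exact hUx h1 hp

/-- the DVR form -/
theorem isEffCartierIdeal_of_dvr [IsIntegral X] [IsLocallyNoetherian X]
    (x : X) (hx : IsClosed ({x} : Set X)) [IsDomain (X.presheaf.stalk x)]
    [IsDiscreteValuationRing (X.presheaf.stalk x)] :
    BlowUp.IsEffCartierIdeal (Scheme.IdealSheafData.vanishingIdeal ⟨{x}, hx⟩) :=
  isEffCartierIdeal_vanishingIdeal_singleton x hx
    (IsPrincipalIdealRing.principal _) (IsDiscreteValuationRing.not_a_field _)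

end Groth.Agent.Lib.Helper8.PointCartier
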