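import Groth.Agent.Lib.Helper8.EffCart
import Groth.Agent.Lib.Helper8.InvInverse
import Groth.Agent.Lib.Helper8.PointCartier
import Groth.Agent.Lib.Helper8.DualSec

/-! # Helper8 — `O_X(D)` for an effective Cartier divisor supported in closed points of a proper curve: existence, degree -/
set_option autoImplicit false
universe u
open CategoryTheory CategoryTheory.Limits AlgebraicGeometry Opposite TopologicalSpace
noncomputable section

namespace Groth.Agent.Lib.Helper8.PointBundle

open Groth.Agent.Lib.Helper8.EulerK Groth.Agent.Lib.Helper28 Groth.Agent.Lib.Helper28.HomMod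

variable (k : Type u) [Field k] (X : Scheme.{u}) [X.Over (Spec (CommRingCat.of k))]
  [IsProper (X ↘ Spec (CommRingCat.of k))]

/-- **`deg O_X(D) = h⁰(O_D)`** for an inverse `L` of the ideal of a divisor supported in closed points -/
theorem deg_inverse (D : X.IdealSheafData) (hpt : ∀ x ∈ D.support, IsClosed ({x} : Set X))
    (L : X.Modules) (hL : PicF.IsInvertible L) (hLD : ClSub.IsInverseOf L (ClSub.idealMod D)) :
    Curv2.deg k X L 1 = Module.finrank k (Coh.HH X (ClSub.quotMod D) 0) := by
  have hO := Groth.Agent.Lib.Helper28.AmpleUnit.isInvertible_structureModule X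
  have h := Groth.Agent.Lib.Helper8.EffCart.euler_tensor_inverse k X D hpt L hL hLD 1
    (Coh.structureModule X) (Groth.Agent.Lib.Helper6.K0Op.isFinLocFreeOfRank_one_of_isInvertible _ hO)
  obtain ⟨uL⟩ := Groth.Agent.Lib.Helper28.AmpleUnit.nonempty_tensor_unit_iso L
  have e : CohB1.tensorMod (Coh.structureModule X) L ≅ L :=
    Groth.Agent.Lib.Helper6.K0Inv.braidIso _ _ ≪≫ uL
  rw [euler_congr k e] at h
  unfold Curv2.deg
  rw [h]
  push_cast
  ring

/-- the line bundle `O_X(D)` of an effective Cartier divisor -/
theorem exists_inverse (D : X.IdealSheafData) (hD : BlowUp.IsEffCartierIdeal D) :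
    PicF.IsInvertible (dual (ClSub.idealMod D)) ∧
      ClSub.IsInverseOf (dual (ClSub.idealMod D)) (ClSub.idealMod D) :=
  ⟨isInvertible_dual (IdealDual.isInvertible_idealMod D hD),
    Groth.Agent.Lib.Helper8.InvInverse.isInverseOf_dual (IdealDual.isInvertible_idealMod D hD)⟩

end Groth.Agent.Lib.Helper8.PointBundle
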