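import Groth.Agent.Lib.Helper8.MinPtsB
import Groth.Agent.Lib.Helper8.GenSec
import Groth.Agent.Lib.Helper8.CurveVan

/-! # Helper8 — on a curve with `H¹(O) = 0`, an invertible module with a nonzero section is globally generated; sections avoiding finitely many points over an infinite field -/
set_option autoImplicit false
universe u
open CategoryTheory CategoryTheory.Limits AlgebraicGeometry Opposite TopologicalSpace
noncomputable section

namespace Groth.Agent.Lib.Helper8.MinPtsC

open Groth.Agent.Lib.Helper8.EulerK Groth.Agent.Lib.Helper28 Groth.Agent.Lib.Helper8.KillA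
  Groth.Agent.Lib.Helper8.PointDeg Groth.Agent.Lib.Helper8.Vanish
  Groth.Agent.Lib.Helper8.GGKill Groth.Agent.Lib.Helper8.MinPtsA Groth.Agent.Lib.Helper8.MinPtsB
  Groth.Agent.Lib.Helper8.CurveInv Groth.Agent.Lib.Helper8.CurveDeg

variable (k : Type u) [Field k] (X : Scheme.{u}) [X.Over (Spec (CommRingCat.of k))]
  [IsIntegral X] [IsProper (X ↘ Spec (CommRingCat.of k))]

omit [X.Over (Spec (CommRingCat.of k))] [IsIntegral X] [IsProper (X ↘ Spec (CommRingCat.of k))] in
/-- the structure sheaf is globally generated -/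
theorem gg_structureModule : Curv2.IsGloballyGenerated (Coh.structureModule X) := by
  apply Groth.Agent.Lib.Helper8.GGPoint.isGloballyGenerated_of_forall_mem_genLocus
  intro x
  refine ⟨𝟙 _, ?_⟩
  rw [Groth.Agent.Lib.Helper8.AbelG1.genLocus_eq_top_of_isIso]
  trivial

include k in
/-- **an invertible module with a nonzero section on a curve with `H¹(O) = 0` is globally generated** -/
theorem gg_of_section (hdim : topologicalKrullDim X ≤ 1)
    (hO1 : Subsingleton (Coh.HH X (Coh.structureModule X) 1)) {L : X.Modules}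
    (hL : PicF.IsInvertible L) (s : Coh.structureModule X ⟶ L) (hs : s ≠ 0) :
    Curv2.IsGloballyGenerated L := by
  haveI : IsLocallyNoetherian X := isLocallyNoetherian k X
  haveI : CompactSpace X := QuasiCompact.compactSpace_of_compactSpace (X ↘ Spec (CommRingCat.of k))
  haveI : IsNoetherian X := { }
  have hO := isInvertible_structureModule X
  have hcO := Groth.Agent.Lib.Helper6.K0Op.isCoh_of_isInvertible _ hO
  have hcL := Groth.Agent.Lib.Helper6.K0Op.isCoh_of_isInvertible _ hL
  have hcQ := Groth.Agent.Lib.Helper6.DevCore.isCoh_cokernel s hcO hcL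
  have hcl : IsClosed (CohB1.support (cokernel s)) := Groth.Agent.S0020.result X _ hcQ.2
  have hgen := genericPoint_notMem_support_cokernel hO hL s hs
  have hne : CohB1.support (cokernel s) ≠ Set.univ := fun e => hgen (e ▸ Set.mem_univ _)
  obtain ⟨hfin, hpt⟩ := Groth.Agent.Lib.Helper4.DimOneConstructible.closed_proper_finite hdim _ hcl hne
  haveI : TopCat.Sheaf.IsFlasque (Coh.toAb (cokernel s)) := by
    apply Groth.Agent.Lib.Helper8.CurveVan.isFlasque_of_subsets_closed
    intro A hA
    have hA' : A = ⋃ a ∈ A, ({a} : Set X) := by simp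
    rw [hA']
    exact (hfin.subset hA).isClosed_biUnion (fun a ha => hpt a (hA ha))
  have hggQ := gg_of_isFlasque (cokernel s)
  haveI : Mono s := mono_of_ne_zero hO hL s hs
  have hS : (ShortComplex.mk s (cokernel.π s) (cokernel.condition s)).ShortExact :=
    { exact := ShortComplex.exact_cokernel s
      mono_f := by dsimp; infer_instance
      epi_g := by dsimp; infer_instance }
  exact gg_of_shortExact hdim hO1 _ hS hcO (gg_structureModule X) hggQ

include k in
/-- a globally generated invertible module has, for every closed point, a section generating there -/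
theorem exists_section_of_gg {L : X.Modules} (hL : PicF.IsInvertible L)
    (hgg : Curv2.IsGloballyGenerated L) (y : X) (hy : IsClosed ({y} : Set X)) :
    ∃ s : Coh.structureModule X ⟶ L, y ∈ CohB1.genLocus L s := by
  haveI : IsLocallyNoetherian X := isLocallyNoetherian k X
  by_contra hcon
  simp only [not_exists] at hcon
  have hk : Kills (gy X L y hy) := fun s => (comp_gy_eq_zero_iff k X L hL y hy s).2 (hcon s)
  have hz : gy X L y hy = 0 := kills_eq_zero_of_gg hgg _ hk
  obtain ⟨hS, -, -, -, -⟩ := Groth.Agent.Lib.Helper8.TwistPt.twist_data k X L hL y hy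
  have hepi : Epi ((DCoh.tensorBi.obj L).map (ClSub.toSubscheme (ptI y hy))) := hS.epi_g
  haveI : Epi (gy X L y hy) := by
    unfold gy
    exact @epi_comp _ _ _ _ _ _ inferInstance _ hepi
  have hzero : IsZero ((DCoh.tensorBi.obj L).obj (ClSub.quotMod (ptI y hy))) :=
    IsZero.of_epi_eq_zero _ hz
  have hsupp : y ∈ CohB1.support ((DCoh.tensorBi.obj L).obj (ClSub.quotMod (ptI y hy))) := by
    have h1 : CohB1.support ((DCoh.tensorBi.obj L).obj (ClSub.quotMod (ptI y hy))) =
        CohB1.support (ClSub.quotMod (ptI y hy)) :=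
      Groth.Agent.Lib.Helper4.Snapper.support_tensorMod_eq L _ hL
    rw [h1]
    have h2 : CohB1.support (ClSub.quotMod (ptI y hy)) = {y} :=
      Groth.Agent.Lib.Helper6.DevRed.support_quotMod_vanishingIdeal (Z := ⟨{y}, hy⟩)
    rw [h2]
    rfl
  apply hsupp
  have := (Groth.Agent.Lib.Helper8.KillC.notMem_support_iff _ y).2
    (Functor.map_isZero (Groth.Agent.Lib.Helper16.Stk.stk y) hzero)
  exact not_not.1 this

/-- **over an infinite field, a section generating at finitely many given closed points**, provided each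
of them has some section generating there -/
theorem exists_section_avoiding [Infinite k] {L : X.Modules} (hL : PicF.IsInvertible L)
    (hnt : Nontrivial (Coh.HH X L 0)) (F : Finset X) (hFc : ∀ z ∈ F, IsClosed ({z} : Set X))
    (hgen : ∀ y ∈ F, ∃ s : Coh.structureModule X ⟶ L, y ∈ CohB1.genLocus L s) :
    ∃ s : Coh.structureModule X ⟶ L, s ≠ 0 ∧ ∀ y ∈ F, y ∈ CohB1.genLocus L s := by
  classical
  let p : Option {y // y ∈ F} → Submodule k (Coh.HH X L 0) := fun o =>
    match o with
    | none => ⊥
    | some y => V k X L y.1 (hFc y.1 y.2)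
  have hnc : ¬ (⋃ o, ((p o : Submodule k (Coh.HH X L 0)) : Set (Coh.HH X L 0)) = Set.univ) := by
    intro hcov
    obtain ⟨o, ho⟩ := Subspace.exists_eq_top_of_iUnion_eq_univ hcov
    cases o with
    | none =>
      have : (⊥ : Submodule k (Coh.HH X L 0)) = ⊤ := ho
      exact bot_ne_top this
    | some y =>
      have hy : V k X L y.1 (hFc y.1 y.2) = ⊤ := ho
      obtain ⟨s, hs⟩ := hgen y.1 y.2
      have hmem : HHmap s 0 (unitH X) ∈ V k X L y.1 (hFc y.1 y.2) := by rw [hy]; trivial
      rw [mem_V_iff k X L hL] at hmem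
      exact hmem hs
  rw [Set.eq_univ_iff_forall] at hnc
  push Not at hnc
  obtain ⟨a, ha⟩ := hnc
  rw [Set.mem_iUnion] at ha
  push Not at ha
  obtain ⟨s, rfl⟩ := exists_hom_of_H0 L a
  refine ⟨s, ?_, fun y hy => ?_⟩
  · rintro rfl
    apply ha none
    show HHmap (0 : Coh.structureModule X ⟶ L) 0 (unitH X) ∈ (⊥ : Submodule k (Coh.HH X L 0))
    rw [HHmap_zero_unitH]
    exact Submodule.zero_mem _
  · by_contra hn
    apply ha (some ⟨y, hy⟩)
    show HHmap s 0 (unitH X) ∈ V k X L y (hFc y hy)
    rw [mem_V_iff k X L hL]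
    exact hn

end Groth.Agent.Lib.Helper8.MinPtsC
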