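import Groth.Agent.Lib.Helper8.AbelG1
import Groth.Agent.Lib.Helper8.GGPoint

/-! # Helper8 — on a genus-one curve, an invertible module of degree at least two has a section generating at any given regular point -/
set_option autoImplicit false
universe u
open CategoryTheory CategoryTheory.Limits AlgebraicGeometry Opposite TopologicalSpace
noncomputable section

namespace Groth.Agent.Lib.Helper8.G1Gen

open Groth.Agent.Lib.Helper8.EulerK Groth.Agent.Lib.Helper28 Groth.Agent.Lib.Helper8.KillA
  Groth.Agent.Lib.Helper8.PointDeg Groth.Agent.Lib.Helper8.Vanish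
  Groth.Agent.Lib.Helper8.GGKill Groth.Agent.Lib.Helper28.QCohLoc Groth.Agent.Lib.Helper28.HomMod

variable (k : Type u) [Field k] (X : Scheme.{u}) [X.Over (Spec (CommRingCat.of k))]
  [IsIntegral X] [IsProper (X ↘ Spec (CommRingCat.of k))]

/-- if twisting by the ideal of the closed point `x` (of any degree) drops `h⁰`, some section generates
at `x` -/
theorem exists_section_of_hh_lt (L : X.Modules) (hL : PicF.IsInvertible L) (x : X)
    (hx : IsClosed ({x} : Set X))
    (hlt : hh k (CohB1.tensorMod L (ClSub.idealMod (ptI x hx))) 0 < hh k L 0) :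
    ∃ s : Coh.structureModule X ⟶ L, x ∈ CohB1.genLocus L s := by
  haveI : IsLocallyNoetherian X := isLocallyNoetherian k X
  by_contra hcon
  simp only [not_exists] at hcon
  obtain ⟨hS, c1, c2, c3, -⟩ := Groth.Agent.Lib.Helper8.TwistPt.twist_data k X L hL x hx
  set S := (Groth.Agent.Lib.Helper17.Serre.idealSES (ptI x hx)).map (DCoh.tensorBi.obj L) with hSdef
  have c1' : Coh.IsCoh S.X₁ := c1
  have c2' : Coh.IsCoh S.X₂ := c2
  obtain ⟨u⟩ := AmpleUnit.nonempty_tensor_unit_iso L
  have u' : S.X₂ ≅ L := u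
  haveI : Mono S.f := hS.mono_f
  have hsurj : Function.Surjective (Canon.HHlin k S.f 0) := by
    intro q
    obtain ⟨φ, rfl⟩ := exists_hom_of_H0 S.X₂ q
    have hxs' : x ∉ CohB1.genLocus S.X₂ φ := by
      have h1 := AmpleUnit.genLocus_comp_iso (φ ≫ u'.hom) u'.symm
      have h2 : (φ ≫ u'.hom) ≫ u'.symm.hom = φ := by
        rw [Category.assoc]
        change φ ≫ u'.hom ≫ u'.inv = φ
        rw [u'.hom_inv_id, Category.comp_id]
      rw [h2] at h1
      rw [h1]
      exact hcon _
    have hz := comp_eq_zero hL x hx φ hxs'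
    have hts : hS.exact.lift φ hz ≫ S.f = φ := hS.exact.lift_f φ hz
    refine ⟨HHmap (hS.exact.lift φ hz) 0 (unitH X), ?_⟩
    have := HHmap_comp (hS.exact.lift φ hz) S.f 0 (unitH X)
    rw [hts] at this
    exact this.symm
  haveI := finite_HH k X _ c1' 0
  have hle : hh k S.X₂ 0 ≤ hh k S.X₁ 0 := LinearMap.finrank_le_finrank_of_surjective hsurj
  rw [hh_congr k u' 0] at hle
  have : hh k S.X₁ 0 = hh k (CohB1.tensorMod L (ClSub.idealMod (ptI x hx))) 0 := rfl
  omega

/-- **on a genus-one curve an invertible module of degree at least two has, for every regular point,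
a section generating there** -/
theorem exists_section_mem_genLocus (hdim : topologicalKrullDim X = 1)
    (hg : Curv2.genus k X = 1) (L : X.Modules) (hL : PicF.IsInvertible L)
    (hdeg : 2 ≤ Curv2.deg k X L 1) (x : X) (hx : IsRegularLocalRing (X.presheaf.stalk x)) :
    ∃ s : Coh.structureModule X ⟶ L, x ∈ CohB1.genLocus L s := by
  haveI : IsLocallyNoetherian X := isLocallyNoetherian k X
  have hOinv := AmpleUnit.isInvertible_structureModule X
  have hcO := Groth.Agent.Lib.Helper6.K0Op.isCoh_of_isInvertible _ hOinv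
  have hLc := Groth.Agent.Lib.Helper6.K0Op.isCoh_of_isInvertible _ hL
  have h0 := Groth.Agent.Lib.Helper8.H0Field.finrank_H0_eq_one (X := X) (k := k) _ 1 hg
  have eO := Groth.Agent.Lib.Helper8.CurveRR.euler_eq_sub k X hdim.le _ hcO.1
  have hg' : Module.finrank k (Coh.HH X (Coh.structureModule X) 1) = 1 := hg
  rw [h0, hg'] at eO
  have eL := Groth.Agent.Lib.Helper8.CurveRR.euler_eq_sub k X hdim.le L hLc.1
  have hdegL : Curv2.deg k X L 1 = Curv2.euler k X L := by
    unfold Curv2.deg
    rw [eO]; ring
  -- `h⁰(L) = deg L`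
  haveI := finite_HH k X _ hLc 0
  have hposL : 0 < Module.finrank k (Coh.HH X L 0) := by
    have : (0 : ℤ) < (Module.finrank k (Coh.HH X L 0) : ℤ) := by linarith
    exact_mod_cast this
  have hntL : Nontrivial (Coh.HH X L 0) := Module.nontrivial_of_finrank_pos (R := k) hposL
  obtain ⟨bL1, bL2⟩ := Groth.Agent.S1564.result k X hdim h0 L hL hntL
  have hh0L : (Module.finrank k (Coh.HH X L 0) : ℤ) = Curv2.deg k X L 1 := by
    by_contra hne
    have h2 : (Module.finrank k (Coh.HH X L 0) : ℤ) = Curv2.deg k X L 1 + 1 := by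
      have : Curv2.deg k X L 1 ≤ (Module.finrank k (Coh.HH X L 0) : ℤ) := by linarith
      omega
    have := bL2 h2 (by linarith)
    omega
  -- a nonzero section
  obtain ⟨s₀, hs₀⟩ := Groth.Agent.Lib.Helper8.CurveRR.exists_section_ne_zero L hntL
  by_cases hxg : x = genericPoint X
  · refine ⟨s₀, ?_⟩
    rw [hxg]
    by_contra hcon
    apply hs₀
    apply Groth.Agent.Lib.Helper8.CompSec.eq_zero_of_genLocus_eq_bot hL s₀
    by_contra hne
    obtain ⟨z, hz⟩ : ((CohB1.genLocus L s₀ : X.Opens) : Set X).Nonempty := by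
      rw [Set.nonempty_iff_ne_empty]
      intro h
      apply hne
      ext w
      simp [h]
    exact hcon (((genericPoint_spec X).mem_open_set_iff (CohB1.genLocus L s₀).2).2 ⟨z, trivial, hz⟩)
  · have hxc : IsClosed ({x} : Set X) :=
      Groth.Agent.Lib.Helper8.CurveDeg.isClosed_singleton_of_ne_genericPoint hdim.le x hxg
    obtain ⟨p1, p2⟩ := Groth.Agent.Lib.Helper8.LowDeg.maximalIdeal_isPrincipal_of_regular hdim.le x
      hxg hx
    have hE := Groth.Agent.Lib.Helper8.PointCartier.isEffCartierIdeal_vanishingIdeal_singleton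
      x hxc p1 p2
    have hI : PicF.IsInvertible (ClSub.idealMod (ptI x hxc)) := IdealDual.isInvertible_idealMod _ hE
    obtain ⟨hA, hAinv⟩ := Groth.Agent.Lib.Helper8.PointBundle.exists_inverse X _ hE
    have hdA := Groth.Agent.Lib.Helper8.PointBundle.deg_inverse k X _ (fun z hz => by
      have hz' : z ∈ ((Scheme.IdealSheafData.vanishingIdeal ⟨{x}, hxc⟩).support : Set X) := hz
      rw [Scheme.IdealSheafData.coe_support_vanishingIdeal] at hz'
      have : z = x := hz'
      rw [this]; exact hxc) _ hA hAinv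
    have hdI := Groth.Agent.Lib.Helper8.DegGroup.deg_inverse_eq_neg k X hdim.le hA hI
      (by
        obtain ⟨e⟩ := hAinv
        exact ⟨Groth.Agent.Lib.Helper6.K0Inv.braidIso _ _ ≪≫ e⟩)
    have hepos := Groth.Agent.Lib.Helper8.AbelG1.finrank_quotMod_pos k X x hxc
    set N := CohB1.tensorMod L (ClSub.idealMod (ptI x hxc)) with hNdef
    have hN : PicF.IsInvertible N := GenLocus.isInvertible_tensorMod hL hI
    have hNc := Groth.Agent.Lib.Helper6.K0Op.isCoh_of_isInvertible _ hN
    have hdN : Curv2.deg k X N 1 = Curv2.deg k X L 1 -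
        (Module.finrank k (Coh.HH X (ClSub.quotMod (ptI x hxc)) 0) : ℤ) := by
      rw [Groth.Agent.Lib.Helper8.DegGroup.deg_tensorMod k X hdim.le hL hI, hdI, hdA]
      ring
    apply exists_section_of_hh_lt k X L hL x hxc
    show Module.finrank k (Coh.HH X N 0) < Module.finrank k (Coh.HH X L 0)
    haveI := finite_HH k X _ hNc 0
    by_cases hz : Module.finrank k (Coh.HH X N 0) = 0
    · omega
    · have hntN : Nontrivial (Coh.HH X N 0) :=
        Module.nontrivial_of_finrank_pos (R := k) (Nat.pos_of_ne_zero hz)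
      obtain ⟨bN1, bN2⟩ := Groth.Agent.S1564.result k X hdim h0 N hN hntN
      have hlt : (Module.finrank k (Coh.HH X N 0) : ℤ) < (Module.finrank k (Coh.HH X L 0) : ℤ) := by
        by_contra hge
        push Not at hge
        have heq : (Module.finrank k (Coh.HH X N 0) : ℤ) = Curv2.deg k X N 1 + 1 := by
          have : (1 : ℤ) ≤ (Module.finrank k (Coh.HH X (ClSub.quotMod (ptI x hxc)) 0) : ℤ) := by
            exact_mod_cast hepos
          omega
        have hdNpos : 0 < Curv2.deg k X N 1 := by
          have : (1 : ℤ) ≤ (Module.finrank k (Coh.HH X (ClSub.quotMod (ptI x hxc)) 0) : ℤ) := by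
            exact_mod_cast hepos
          omega
        have := bN2 heq hdNpos
        omega
      exact_mod_cast hlt

end Groth.Agent.Lib.Helper8.G1Gen
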