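import Groth.Agent.Lib.Helper8.PC12
import Mathlib.Algebra.Homology.Single
import Mathlib.Algebra.Homology.DerivedCategory.SingleTriangle

/-!
# Helper8: the canonical map from a complex to its `i`-th opcycles placed in degree `i`
(S6988)
-/

universe w v u

open CategoryTheory CategoryTheory.Limits CochainComplex

namespace Groth.Agent.Lib.Helper8.OpcMap

open PC1 PC8

variable {A : Type u} [Category.{v} A] [Abelian A]

/-- the canonical map `E ⟶ (E.opcycles i)[-i]` -/
noncomputable def toOpc (E : CochainComplex A ℤ) (i : ℤ) :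
    E ⟶ (HomologicalComplex.single A (ComplexShape.up ℤ) i).obj (E.opcycles i) :=
  HomologicalComplex.mkHomToSingle (E.pOpcycles i) (fun j _ => E.d_pOpcycles j i)

lemma isIso_opcyclesMap_toOpc (E : CochainComplex A ℤ) (i : ℤ) :
    IsIso (HomologicalComplex.opcyclesMap (toOpc E i) i) := by
  have h0 : ((HomologicalComplex.single A (ComplexShape.up ℤ) i).obj (E.opcycles i)).d
      ((ComplexShape.up ℤ).prev i) i = 0 := by simp
  have h1 := HomologicalComplex.isIso_pOpcycles
    ((HomologicalComplex.single A (ComplexShape.up ℤ) i).obj (E.opcycles i)) _ i rfl h0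
  have h2 : HomologicalComplex.opcyclesMap (toOpc E i) i =
      (HomologicalComplex.singleObjXSelf (ComplexShape.up ℤ) i (E.opcycles i)).inv ≫
        ((HomologicalComplex.single A (ComplexShape.up ℤ) i).obj (E.opcycles i)).pOpcycles i := by
    rw [← cancel_epi (E.pOpcycles i), HomologicalComplex.p_opcyclesMap, toOpc,
      HomologicalComplex.mkHomToSingle_f, Category.assoc]
  rw [h2]
  infer_instance

lemma mono_homologyMap_toOpc (E : CochainComplex A ℤ) (i : ℤ) :
    Mono (HomologicalComplex.homologyMap (toOpc E i) i) := by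
  have := isIso_opcyclesMap_toOpc E i
  have h := HomologicalComplex.homologyι_naturality (toOpc E i) i
  have : Mono (HomologicalComplex.homologyMap (toOpc E i) i ≫
      ((HomologicalComplex.single A (ComplexShape.up ℤ) i).obj (E.opcycles i)).homologyι i) := by
    rw [h]; infer_instance
  exact mono_of_mono _
    (((HomologicalComplex.single A (ComplexShape.up ℤ) i).obj (E.opcycles i)).homologyι i)

variable [HasDerivedCategory.{w} A]

/-- derived version: a morphism `X ⟶ (Y[0])⟦-i⟧` injective on `H^i`, where `Y` is the `i`-th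
opcycles of a representative of `X` -/
theorem exists_mono_homology (E : CochainComplex A ℤ) {X : DerivedCategory A}
    (e : DerivedCategory.Q.obj E ≅ X) (i : ℤ) {Y : A} (eY : E.opcycles i ≅ Y) :
    ∃ f : X ⟶ ((DerivedCategory.singleFunctor A 0).obj Y)⟦-i⟧,
      Mono ((DerivedCategory.homologyFunctor A i).map f) := by
  let e1 : ((DerivedCategory.singleFunctor A 0).obj Y)⟦-i⟧ ≅
      (DerivedCategory.singleFunctor A i).obj Y :=
    ((DerivedCategory.singleFunctors A).shiftIso (-i) i 0 (by omega)).app Y
  let e2 : (DerivedCategory.singleFunctor A i).obj Y ≅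
      DerivedCategory.Q.obj ((HomologicalComplex.single A (ComplexShape.up ℤ) i).obj Y) :=
    (DerivedCategory.singleFunctorIsoCompQ A i).app Y
  let e3 : DerivedCategory.Q.obj ((HomologicalComplex.single A (ComplexShape.up ℤ) i).obj
      (E.opcycles i)) ≅
      DerivedCategory.Q.obj ((HomologicalComplex.single A (ComplexShape.up ℤ) i).obj Y) :=
    DerivedCategory.Q.mapIso ((HomologicalComplex.single A (ComplexShape.up ℤ) i).mapIso eY)
  refine ⟨e.inv ≫ DerivedCategory.Q.map (toOpc E i) ≫ e3.hom ≫ e2.inv ≫ e1.inv, ?_⟩
  have hm : Mono ((DerivedCategory.homologyFunctor A i).map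
      (DerivedCategory.Q.map (toOpc E i))) := by
    rw [derived_eq_homologyMap]
    have := mono_homologyMap_toOpc E i
    infer_instance
  simp only [Functor.map_comp]
  infer_instance

end Groth.Agent.Lib.Helper8.OpcMap
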