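import Mathlib
import Groth.Prelude.Def_DRing2
import Groth.Agent.Lib.Helper8.OpcMap

/-!
# Helper8 — OpcMap2: a pseudo-coherent complex maps to a finitely presented module placed in
degree `i`, injectively on `H^i` (S6988)
-/

set_option autoImplicit false

open CategoryTheory CategoryTheory.Limits DerivedCategory

namespace Groth.Agent.Lib.Helper8.OpcMap2

open OpcMap

universe u

attribute [local instance] HasDerivedCategory.standard

variable {R : Type u} [CommRing R]

lemma finitePresentation_opcycles (E : CochainComplex (ModuleCat.{u} R) ℤ) (i : ℤ)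
    (h0 : Module.Finite R (E.X (i - 1))) (h1 : Module.Finite R (E.X i))
    (h2 : Module.Free R (E.X i)) : Module.FinitePresentation R (E.opcycles i) := by
  let S : ShortComplex (ModuleCat.{u} R) :=
    ShortComplex.mk (E.d (i - 1) i) (E.pOpcycles i) (E.d_pOpcycles (i - 1) i)
  have hS : S.Exact := ShortComplex.exact_of_g_is_cokernel _
    (E.opcyclesIsCokernel (i - 1) i (by simp))
  have hsurj : Function.Surjective (E.pOpcycles i).hom :=
    (ModuleCat.epi_iff_surjective _).1 inferInstance
  have hker : LinearMap.ker (E.pOpcycles i).hom = LinearMap.range (E.d (i - 1) i).hom :=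
    ((ShortComplex.moduleCat_exact_iff_range_eq_ker S).1 hS).symm
  refine Module.finitePresentation_of_free_of_surjective (E.pOpcycles i).hom hsurj ?_
  rw [hker, LinearMap.range_eq_map]
  exact Submodule.FG.map _ Module.Finite.fg_top

/-- S6988 -/
theorem exists_hom_to_shift_fp (K : Dual.D R) (hK : DRing.IsPseudoCoherent' R K) (i : ℤ) :
    ∃ (M : Type u) (_ : AddCommGroup M) (_ : Module R M) (_ : Module.FinitePresentation R M)
      (f : K ⟶ (shiftFunctor (Dual.D R) (-i)).obj (Dual.inD R M)),
      Mono ((DerivedCategory.homologyFunctor (ModuleCat.{u} R) i).map f) := by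
  obtain ⟨E, b, -, hff, ⟨e⟩⟩ := hK
  have hfp := finitePresentation_opcycles E i (hff (i - 1)).1 (hff i).1 (hff i).2
  obtain ⟨f, hf⟩ := exists_mono_homology E e i
    (Iso.refl _ : E.opcycles i ≅ ModuleCat.of R (E.opcycles i))
  exact ⟨E.opcycles i, inferInstance, inferInstance, hfp, f, hf⟩

end Groth.Agent.Lib.Helper8.OpcMap2
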