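import Mathlib
import Groth.Prelude.Def_DRing2
import Groth.Agent.Lib.Helper8.PCMod2
import Groth.Agent.Lib.Helper8.PC14
import Groth.Agent.Lib.Helper8.OpcMap2

/-!
# Helper8 — PCNoeth: over a noetherian ring, bounded above complexes with finite cohomology are
pseudo-coherent; maps to torsion modules detecting cohomology (S6989)
-/

set_option autoImplicit false

open CategoryTheory CategoryTheory.Limits DerivedCategory

namespace Groth.Agent.Lib.Helper8.PCNoeth

open PC3 PC7 PC13 PC14 PC18 PCMod1 PCMod2 OpcMap OpcMap2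

universe u

attribute [local instance] HasDerivedCategory.standard

section Algebra

variable {A : Type u} [CommRing A] [IsNoetherianRing A]

/-- a consequence of the Artin-Rees lemma -/
lemma exists_pow_not_le (m : Ideal A) {Y : Type u} [AddCommGroup Y] [Module A Y]
    [Module.Finite A Y] (H : Submodule A Y) (hH : m • H ≠ H) :
    ∃ n : ℕ, ¬ (H ≤ m ^ n • (⊤ : Submodule A Y)) := by
  obtain ⟨k, hk⟩ := Ideal.exists_pow_inf_eq_pow_smul m H
  refine ⟨k + 1, fun hle => hH (le_antisymm Submodule.smul_le_right ?_)⟩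
  have h1 := hk (k + 1) (by omega)
  rw [inf_eq_right.2 hle, show k + 1 - k = 1 by omega, pow_one] at h1
  exact h1.le.trans (Submodule.smul_mono le_rfl inf_le_right)

end Algebra

section PC

variable {A : Type u} [CommRing A] [IsNoetherianRing A]

lemma finiteType_of_finite (X : ModuleCat.{u} A) [Module.Finite A X] :
    PCoh.IsOfFiniteType (ffProp A) X := (finiteType_iff X).2 inferInstance

lemma preCoh_any (X : ModuleCat.{u} A) : PreCoh (ffProp A) X := by
  intro E u hE
  rw [finiteType_iff]
  haveI : Module.Finite A E := hE.1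
  exact Module.Finite.equiv (ModuleCat.kernelIsoKer u).symm.toLinearEquiv

/-- over a noetherian ring, a bounded above object with finite cohomology is pseudo-coherent -/
theorem isPC_of_finite_homology (K : Dual.D A)
    (hb : ∃ b : ℤ, ∀ j : ℤ, b < j → Subsingleton (Dual.HD A K j))
    (hfin : ∀ j : ℤ, Module.Finite A (Dual.HD A K j)) : PCoh.IsPC (ffProp A) K := by
  obtain ⟨b, hb⟩ := hb
  intro n
  have hb' : ∀ i : ℤ, b < i →
      IsZero ((DerivedCategory.homologyFunctor (ModuleCat.{u} A) i).obj K) := fun i hi => by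
    have := hb i hi
    exact ModuleCat.isZero_of_subsingleton _
  refine (coherent_criterion (ffProp A) ffProp_hql ffProp_sum (fun X _ => preCoh_any X) n K b
    hb').2 ⟨?_, fun i _ => ⟨?_, preCoh_any _⟩⟩
  · rw [finiteType_iff]; exact hfin n
  · rw [finiteType_iff]; exact hfin i

theorem isPseudoCoherent'_of_finite_homology (K : Dual.D A)
    (hb : ∃ b : ℤ, ∀ j : ℤ, b < j → Subsingleton (Dual.HD A K j))
    (hfin : ∀ j : ℤ, Module.Finite A (Dual.HD A K j)) : DRing.IsPseudoCoherent' A K := by
  obtain ⟨E, hE, ⟨e⟩⟩ := exists_strictPCAll (ffProp A) ffProp_sum ffProp_hqs ffProp_hql K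
    (isPC_of_finite_homology K hb hfin)
  obtain ⟨b, hb⟩ := hE.1
  exact ⟨E, b, hb, hE.2, ⟨e⟩⟩

end PC

section Theta

variable {C : Type*} [Category C] [Abelian C] [HasDerivedCategory C]

/-- `H^i((X[0])⟦-i⟧) ≅ X`, naturally in `X` -/
noncomputable def theta (i : ℤ) :
    DerivedCategory.singleFunctor C 0 ⋙ shiftFunctor (DerivedCategory C) (-i) ⋙
      DerivedCategory.homologyFunctor C i ≅ 𝟭 C :=
  (Functor.associator _ _ _).symm ≪≫
    Functor.isoWhiskerRight ((DerivedCategory.singleFunctors C).shiftIso (-i) i 0 (by omega))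
      (DerivedCategory.homologyFunctor C i) ≪≫
    Functor.isoWhiskerRight (DerivedCategory.singleFunctorIsoCompQ C i) _ ≪≫
    Functor.associator _ _ _ ≪≫
    Functor.isoWhiskerLeft _ (DerivedCategory.homologyFunctorFactors C i) ≪≫
    HomologicalComplex.homologyFunctorSingleIso C (ComplexShape.up ℤ) i

lemma theta_naturality (i : ℤ) {X Y : C} (q : X ⟶ Y) :
    (DerivedCategory.homologyFunctor C i).map
      (((DerivedCategory.singleFunctor C 0).map q)⟦-i⟧') ≫ (theta i).hom.app Y =
      (theta i).hom.app X ≫ q :=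
  (theta i).hom.naturality q

end Theta

section Main

variable {A : Type u} [CommRing A] [IsNoetherianRing A]

/-- S6989 -/
theorem exists_hom_to_shift_torsion (K : Dual.D A)
    (hb : ∃ b : ℤ, ∀ j : ℤ, b < j → Subsingleton (Dual.HD A K j))
    (hfin : ∀ j : ℤ, Module.Finite A (Dual.HD A K j)) (m : Ideal A) (i : ℤ)
    (hi : m • (⊤ : Submodule A (Dual.HD A K i)) ≠ ⊤) :
    ∃ (E : Type u) (_ : AddCommGroup E) (_ : Module A E) (_ : Module.Finite A E) (n : ℕ)
      (_ : m ^ n • (⊤ : Submodule A E) = ⊥)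
      (f : K ⟶ (shiftFunctor (Dual.D A) (-i)).obj (Dual.inD A E)),
      (DerivedCategory.homologyFunctor (ModuleCat.{u} A) i).map f ≠ 0 := by
  obtain ⟨E₀, b, -, hff, ⟨e⟩⟩ := isPseudoCoherent'_of_finite_homology K hb hfin
  have hfp := finitePresentation_opcycles E₀ i (hff (i - 1)).1 (hff i).1 (hff i).2
  obtain ⟨f₀, hf₀⟩ := exists_mono_homology E₀ e i
    (Iso.refl _ : E₀.opcycles i ≅ ModuleCat.of A (E₀.opcycles i))
  -- the injection `H^i(K) ⟶ Y`
  let Y : ModuleCat.{u} A := ModuleCat.of A (E₀.opcycles i)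
  let j : (DerivedCategory.homologyFunctor (ModuleCat.{u} A) i).obj K ⟶ Y :=
    (DerivedCategory.homologyFunctor (ModuleCat.{u} A) i).map f₀ ≫ (theta i).hom.app Y
  have hj : Mono j := by
    have h1 : IsIso ((theta (C := ModuleCat.{u} A) i).hom.app Y) :=
      Iso.isIso_hom ((theta (C := ModuleCat.{u} A) i).app Y)
    have h2 : Mono ((theta (C := ModuleCat.{u} A) i).hom.app Y) := @IsIso.mono_of_iso _ _ _ _ _ h1
    exact @mono_comp _ _ _ _ _ _ hf₀ _ h2
  have hjinj : Function.Injective j.hom := (ModuleCat.mono_iff_injective j).1 hj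
  have hH : m • LinearMap.range j.hom ≠ LinearMap.range j.hom := by
    intro h
    apply hi
    rw [LinearMap.range_eq_map, ← Submodule.map_smul''] at h
    exact Submodule.map_injective_of_injective hjinj h
  haveI : Module.Finite A Y := inferInstanceAs (Module.Finite A (E₀.opcycles i))
  obtain ⟨n, hn⟩ := exists_pow_not_le m (LinearMap.range j.hom) hH
  let N : Submodule A Y := m ^ n • ⊤
  let q : Y ⟶ ModuleCat.of A (Y ⧸ N) := ModuleCat.ofHom N.mkQ
  refine ⟨Y ⧸ N, inferInstance, inferInstance, inferInstance, n, ?_,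
    f₀ ≫ ((DerivedCategory.singleFunctor (ModuleCat.{u} A) 0).map q)⟦-i⟧', ?_⟩
  · have h1 : (⊤ : Submodule A (Y ⧸ N)) = Submodule.map N.mkQ ⊤ := by
      rw [Submodule.map_top, Submodule.range_mkQ]
    rw [h1, ← Submodule.map_smul'']
    exact Submodule.mkQ_map_self N
  · intro h0
    apply hn
    rw [Functor.map_comp] at h0
    have h1 : j ≫ q = 0 := by
      dsimp only [j]
      rw [Category.assoc, ← theta_naturality, ← Category.assoc, h0, zero_comp]
    rintro _ ⟨x, rfl⟩
    have h2 : q.hom (j.hom x) = 0 := by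
      have := congrArg (fun φ => φ.hom x) h1
      simpa using this
    have h3 : N.mkQ (j.hom x) = 0 := h2
    rwa [Submodule.mkQ_apply, Submodule.Quotient.mk_eq_zero] at h3

end Main

end Groth.Agent.Lib.Helper8.PCNoeth
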