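import Mathlib
import Groth.Agent.Lib.Helper8.PCNoeth

/-!
# Helper8 — ChainRes: finite free resolutions of chain complexes with finite homology over a
noetherian ring (S2373)
-/

set_option autoImplicit false

open CategoryTheory CategoryTheory.Limits

namespace Groth.Agent.Lib.Helper8.ChainRes

universe u

section Restriction

variable {ι ι' : Type*} {c : ComplexShape ι} {c' : ComplexShape ι'}
  {C : Type*} [Category C] [Abelian C]

lemma quasiIsoAt_restriction_map {K L : HomologicalComplex C c'} (f : K ⟶ L)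
    (e : c.Embedding c') [e.IsRelIff] (i j k : ι) (hi : c.prev j = i) (hk : c.next j = k)
    (hi'' : c'.prev (e.f j) = e.f i) (hk'' : c'.next (e.f j) = e.f k)
    (h : QuasiIsoAt f (e.f j)) : QuasiIsoAt ((e.restrictionFunctor C).map f) j := by
  rw [quasiIsoAt_iff' _ i j k hi hk]
  have h1 := (quasiIsoAt_iff' f (e.f i) (e.f j) (e.f k) hi'' hk'').1 h
  refine (ShortComplex.quasiIso_iff_of_arrow_mk_iso _ _ ?_).2 h1
  refine Arrow.isoMk
    (HomologicalComplex.restriction.sc'Iso K e i j k rfl rfl rfl hi'' hk'')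
    (HomologicalComplex.restriction.sc'Iso L e i j k rfl rfl rfl hi'' hk'') ?_
  ext <;> simp [HomologicalComplex.restrictionXIso] <;>
    exact (Category.id_comp _).trans (Category.comp_id _).symm

end Restriction

section Main

attribute [local instance] HasDerivedCategory.standard

open PC7 PC8 PC18 PCMod2 PCNoeth

variable {A : Type u} [CommRing A] [IsNoetherianRing A]

/-- S2373 -/
theorem exists_quasiIso_from_finite_free
    (P : ChainComplex (ModuleCat.{u} A) ℤ) (hP : ∀ i, Module.Finite A (P.homology i)) (d : ℤ)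
    (hd : ∀ i < d, IsZero (P.homology i)) :
    ∃ (Q : ChainComplex (ModuleCat.{u} A) ℤ) (u : Q ⟶ P),
      (∀ i, Module.Finite A (Q.X i) ∧ Module.Free A (Q.X i)) ∧ (∀ i < d, IsZero (Q.X i)) ∧
        QuasiIso u := by
  let eq := ChainComplex.cochainComplexEquivalence (ModuleCat.{u} A)
  let P' : CochainComplex (ModuleCat.{u} A) ℤ := eq.functor.obj P
  have hiso : ∀ n : ℤ, Nonempty (P'.homology n ≅ P.homology (-n)) := fun n =>
    ⟨HomologicalComplex.restrictionHomologyIso P ComplexShape.embeddingUpIntDownInt (n - 1) n (n + 1)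
      (by simp) (by simp) (i' := -n + 1) (j' := -n) (k' := -n - 1)
      (by simp; omega) (by simp) (by simp; omega) (by simp) (by simp)⟩
  let K : Dual.D A := DerivedCategory.Q.obj P'
  have hK : ∀ n : ℤ, Nonempty ((DerivedCategory.homologyFunctor (ModuleCat.{u} A) n).obj K ≅
      P.homology (-n)) := fun n => by
    obtain ⟨e⟩ := hiso n
    exact ⟨(hIsoD P' n) ≪≫ e⟩
  have hb : ∃ b : ℤ, ∀ j : ℤ, b < j → Subsingleton (Dual.HD A K j) := by
    refine ⟨-d, fun j hj => ?_⟩
    obtain ⟨e⟩ := hK j
    exact ModuleCat.subsingleton_of_isZero ((hd (-j) (by omega)).of_iso e)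
  have hfin : ∀ j : ℤ, Module.Finite A (Dual.HD A K j) := fun j => by
    obtain ⟨e⟩ := hK j
    have := hP (-j)
    exact Module.Finite.equiv e.symm.toLinearEquiv
  have hM : ∀ n : ℤ, IsNPC (ffProp A) n (DerivedCategory.Q.obj P') :=
    isPC_of_finite_homology K hb hfin
  have hac : ∀ i : ℤ, -d + 1 ≤ i → IsZero (P'.homology i) := fun i hi => by
    obtain ⟨e⟩ := hiso i
    exact (hd (-i) (by omega)).of_iso e
  obtain ⟨G, w, hG, hw, hz⟩ := resolution_zero (ffProp A) ffProp_sum ffProp_hqs ffProp_hql hM
    (-d + 1) hac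
  refine ⟨eq.inverse.obj G, eq.inverse.map w ≫ eq.unitIso.inv.app P, fun i => hG.2 (-i),
    fun i hi => hz (-i) (by omega), ?_⟩
  have h1 : QuasiIso (eq.inverse.map w) := by
    rw [quasiIso_iff]
    intro i
    exact quasiIsoAt_restriction_map w ComplexShape.embeddingDownIntUpInt (i + 1) i (i - 1)
      (by simp) (by simp) (by simp; omega) (by simp; omega) inferInstance
  infer_instance

end Main

end Groth.Agent.Lib.Helper8.ChainRes
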