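import Groth.Agent.Lib.Helper8.HColim2

/-!
# Helper8: `M ↦ Tor_p(M, N)` commutes with filtered colimits
-/

universe u

open CategoryTheory CategoryTheory.Limits MonoidalCategory

namespace Groth.Agent.Lib.Helper8.TorColim

variable {A : Type u} [CommRing A] {N : ModuleCat.{u} A} (P : ProjectiveResolution N)

/-- `M ↦ M ⊗ P` -/
noncomputable def T : ModuleCat.{u} A ⥤ ChainComplex (ModuleCat.{u} A) ℕ where
  obj M := (((tensoringLeft (ModuleCat.{u} A)).obj M).mapHomologicalComplex _).obj P.complex
  map f := (NatTrans.mapHomologicalComplex ((tensoringLeft (ModuleCat.{u} A)).map f) _).app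
    P.complex
  map_id M := by
    rw [CategoryTheory.Functor.map_id, NatTrans.mapHomologicalComplex_id]
    rfl
  map_comp f g := by
    rw [CategoryTheory.Functor.map_comp, NatTrans.mapHomologicalComplex_comp]
    rfl

/-- the comparison with Tor -/
noncomputable def torIso (p : ℕ) :
    (Tor (ModuleCat.{u} A) p).flip.obj N ≅
      T P ⋙ HomologicalComplex.homologyFunctor (ModuleCat.{u} A) _ p :=
  NatIso.ofComponents
    (fun M => P.isoLeftDerivedObj ((tensoringLeft (ModuleCat.{u} A)).obj M) p) (by
      intro M M' f
      have := ProjectiveResolution.leftDerived_app_eq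
        ((tensoringLeft (ModuleCat.{u} A)).map f) P p
      have h2 : (NatTrans.leftDerived ((tensoringLeft (ModuleCat.{u} A)).map f) p).app N ≫
          (P.isoLeftDerivedObj ((tensoringLeft (ModuleCat.{u} A)).obj M') p).hom =
          (P.isoLeftDerivedObj ((tensoringLeft (ModuleCat.{u} A)).obj M) p).hom ≫
            (HomologicalComplex.homologyFunctor (ModuleCat.{u} A) _ p).map
              ((NatTrans.mapHomologicalComplex ((tensoringLeft (ModuleCat.{u} A)).map f) _).app
                P.complex) := by
        rw [this, Category.assoc, Category.assoc, Iso.inv_hom_id, Category.comp_id]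
      exact h2)

instance (X : ModuleCat.{u} A) : PreservesColimitsOfSize.{u, u} (tensorRight X) :=
  preservesColimits_of_natIso (BraidedCategory.tensorLeftIsoTensorRight X)

lemma preservesColimitsOfShape_T (J : Type u) [SmallCategory J] :
    PreservesColimitsOfShape J (T P) := by
  apply HomologicalComplex.preservesColimitsOfShape_of_eval
  intro i
  have e : tensorRight (P.complex.X i) ≅ T P ⋙ HomologicalComplex.eval _ _ i :=
    NatIso.ofComponents (fun M => Iso.refl _) (by
      intro M M' f
      exact (Category.comp_id _).trans (Category.id_comp _).symm)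
  exact preservesColimitsOfShape_of_natIso e

theorem preservesFilteredColimits (N : ModuleCat.{u} A) (p : ℕ) (J : Type u) [SmallCategory J] [IsFiltered J] :
    PreservesColimitsOfShape J ((Tor (ModuleCat.{u} A) p).flip.obj N) := by
  let P : ProjectiveResolution N := (HasProjectiveResolution.out (Z := N)).some
  have := preservesColimitsOfShape_T P J
  exact preservesColimitsOfShape_of_natIso (torIso P p).symm

end Groth.Agent.Lib.Helper8.TorColim
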