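import Mathlib

/-!
# Helper8: noetherian objects in abelian categories (quotients, extensions, sums)
-/

universe v u

open CategoryTheory CategoryTheory.Limits

namespace Groth.Agent.Lib.Helper8.GrTrans1

variable {C : Type u} [Category.{v} C] [Abelian C]

/-- for an epi `p`, `S ≤ S'` can be tested after pulling back along `p` -/
lemma le_of_pullback_le_of_epi {X Y : C} (p : X ⟶ Y) [Epi p] (S S' : Subobject Y)
    (h : (Subobject.pullback p).obj S ≤ (Subobject.pullback p).obj S') : S ≤ S' := by
  have sq := Subobject.isPullback p S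
  have sq' := Subobject.isPullback p S'
  have hepi : Epi (Subobject.pullbackπ p S) := by
    have := Abelian.epi_pullback_of_epi_g S.arrow p
    have h1 : Subobject.pullbackπ p S = sq.isoPullback.hom ≫ pullback.fst S.arrow p :=
      (sq.isoPullback_hom_fst).symm
    rw [h1]
    infer_instance
  have : StrongEpi (Subobject.pullbackπ p S) := strongEpi_of_epi _
  -- the square with a strong epi on the left and a mono on the right has a lift
  have comm : Subobject.pullbackπ p S ≫ S.arrow =
      (Subobject.ofLE _ _ h ≫ Subobject.pullbackπ p S') ≫ S'.arrow := by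
    rw [sq.w, Category.assoc, sq'.w, ← Category.assoc, Subobject.ofLE_arrow]
  have hsq : CommSq (Subobject.ofLE _ _ h ≫ Subobject.pullbackπ p S')
      (Subobject.pullbackπ p S) S'.arrow S.arrow := ⟨comm.symm⟩
  exact Subobject.le_of_comm hsq.lift hsq.fac_right

lemma pullback_obj_injective_of_epi {X Y : C} (p : X ⟶ Y) [Epi p] :
    Function.Injective (Subobject.pullback p).obj := fun S S' h =>
  le_antisymm (le_of_pullback_le_of_epi p S S' h.le) (le_of_pullback_le_of_epi p S' S h.ge)

lemma isNoetherianObject_of_epi {X Y : C} (p : X ⟶ Y) [Epi p] [IsNoetherianObject X] :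
    IsNoetherianObject Y := by
  rw [isNoetherianObject_iff_monotone_chain_condition]
  intro f
  obtain ⟨n, hn⟩ := monotone_chain_condition_of_isNoetherianObject
    ⟨_, (Subobject.pullback p).monotone.comp f.2⟩
  exact ⟨n, fun m hm ↦ pullback_obj_injective_of_epi p (hn m hm)⟩

lemma eq_of_le_of_pullback_eq_of_image_eq (S : ShortComplex C) (hS : S.ShortExact)
    (T T' : Subobject S.X₂) (hle : T ≤ T')
    (h₁ : (Subobject.pullback S.f).obj T = (Subobject.pullback S.f).obj T')
    (h₃ : imageSubobject (T.arrow ≫ S.g) = imageSubobject (T'.arrow ≫ S.g)) : T = T' := by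
  have := hS.mono_f
  let j := Subobject.ofLE T T' hle
  have hj : j ≫ T'.arrow = T.arrow := Subobject.ofLE_arrow hle
  suffices hepi : Epi j by
    have : IsIso j := isIso_of_mono_of_epi j
    refine le_antisymm hle (Subobject.le_of_comm (inv j) ?_)
    rw [IsIso.inv_comp_eq, hj]
  rw [epi_iff_surjective_up_to_refinements]
  intro A y
  -- step 1
  let I := imageSubobject (T.arrow ≫ S.g)
  let I' := imageSubobject (T'.arrow ≫ S.g)
  have hII' : I' ≤ I := h₃.ge
  let y' : A ⟶ (I : C) := y ≫ factorThruImageSubobject (T'.arrow ≫ S.g) ≫ Subobject.ofLE I' I hII'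
  obtain ⟨A₁, π₁, hπ₁, x₁, hx₁⟩ :=
    surjective_up_to_refinements_of_epi (factorThruImageSubobject (T.arrow ≫ S.g)) y'
  have e1 : π₁ ≫ y ≫ T'.arrow ≫ S.g = x₁ ≫ T.arrow ≫ S.g := by
    have := congrArg (fun φ => φ ≫ I.arrow) hx₁
    simpa [y', I, I'] using this
  -- step 2
  let d : A₁ ⟶ S.X₂ := π₁ ≫ y ≫ T'.arrow - x₁ ≫ T.arrow
  have hd : d ≫ S.g = 0 := by
    dsimp only [d]
    rw [Preadditive.sub_comp, Category.assoc, Category.assoc, Category.assoc, e1, sub_self]
  let z : A₁ ⟶ S.X₁ := hS.exact.lift d hd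
  have hz : z ≫ S.f = d := hS.exact.lift_f d hd
  -- step 3
  have sq := Subobject.isPullback S.f T
  have sq' := Subobject.isPullback S.f T'
  have comm : (π₁ ≫ y - x₁ ≫ j) ≫ T'.arrow = z ≫ S.f := by
    rw [hz, Preadditive.sub_comp, Category.assoc, Category.assoc, hj]
  let ℓ := sq'.lift (π₁ ≫ y - x₁ ≫ j) z comm
  have hℓ : ℓ ≫ ((Subobject.pullback S.f).obj T').arrow = z := sq'.lift_snd _ _ _
  let κ := Subobject.ofLE _ _ h₁.ge
  have hκ : κ ≫ ((Subobject.pullback S.f).obj T).arrow =
      ((Subobject.pullback S.f).obj T').arrow := Subobject.ofLE_arrow h₁.ge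
  let w : A₁ ⟶ (T : C) := ℓ ≫ κ ≫ Subobject.pullbackπ S.f T
  have hw : w ≫ T.arrow = d := by
    dsimp only [w]
    rw [Category.assoc, Category.assoc, sq.w, ← Category.assoc κ, hκ, ← Category.assoc, hℓ, hz]
  -- step 4
  refine ⟨A₁, π₁, hπ₁, w + x₁, ?_⟩
  rw [← cancel_mono T'.arrow, Category.assoc, Category.assoc, hj, Preadditive.add_comp, hw]
  dsimp only [d]
  abel

lemma isNoetherianObject_of_shortExact (S : ShortComplex C) (hS : S.ShortExact)
    [IsNoetherianObject S.X₁] [IsNoetherianObject S.X₃] : IsNoetherianObject S.X₂ := by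
  rw [isNoetherianObject_iff_monotone_chain_condition]
  intro f
  obtain ⟨n₁, hn₁⟩ := monotone_chain_condition_of_isNoetherianObject
    ⟨_, (Subobject.pullback S.f).monotone.comp f.2⟩
  let h : ℕ → Subobject S.X₃ := fun n => imageSubobject ((f n).arrow ≫ S.g)
  have hmono : Monotone h := by
    intro n m hnm
    have hle : f n ≤ f m := f.monotone hnm
    have h1 : (f n).arrow ≫ S.g = Subobject.ofLE _ _ hle ≫ (f m).arrow ≫ S.g :=
      (congrArg (fun φ => φ ≫ S.g) (Subobject.ofLE_arrow hle).symm).trans (Category.assoc _ _ _)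
    dsimp only [h]
    rw [h1]
    exact imageSubobject_comp_le _ _
  obtain ⟨n₃, hn₃⟩ := monotone_chain_condition_of_isNoetherianObject ⟨h, hmono⟩
  refine ⟨max n₁ n₃, fun m hm => ?_⟩
  refine eq_of_le_of_pullback_eq_of_image_eq S hS _ _ (f.monotone hm) ?_ ?_
  · exact (hn₁ _ (le_max_left _ _)).symm.trans (hn₁ m ((le_max_left _ _).trans hm))
  · exact (hn₃ _ (le_max_right _ _)).symm.trans (hn₃ m ((le_max_right _ _).trans hm))

instance isNoetherianObject_biprod (X Y : C) [IsNoetherianObject X] [IsNoetherianObject Y] :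
    IsNoetherianObject (X ⊞ Y) := by
  let S : ShortComplex C := ShortComplex.mk (biprod.inl : X ⟶ X ⊞ Y) biprod.snd (by simp)
  have hS : S.ShortExact := (ShortComplex.Splitting.ofHasBinaryBiproduct X Y).shortExact
  have : IsNoetherianObject S.X₁ := inferInstanceAs (IsNoetherianObject X)
  have : IsNoetherianObject S.X₃ := inferInstanceAs (IsNoetherianObject Y)
  exact isNoetherianObject_of_shortExact S hS

/-- the join of two subobjects is a quotient of their direct sum -/
lemma exists_epi_biprod_sup {Y : C} (S S' : Subobject Y) :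
    ∃ φ : (S : C) ⊞ (S' : C) ⟶ ((S ⊔ S' : Subobject Y) : C), Epi φ := by
  let U : Subobject Y := S ⊔ S'
  let i := Subobject.ofLE S U le_sup_left
  let i' := Subobject.ofLE S' U le_sup_right
  have hi : i ≫ U.arrow = S.arrow := Subobject.ofLE_arrow _
  have hi' : i' ≫ U.arrow = S'.arrow := Subobject.ofLE_arrow _
  let φ : (S : C) ⊞ (S' : C) ⟶ (U : C) := biprod.desc i i'
  let I := imageSubobject (φ ≫ U.arrow)
  let e := factorThruImageSubobject (φ ≫ U.arrow)
  have he : e ≫ I.arrow = φ ≫ U.arrow := imageSubobject_arrow_comp _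
  have h1 : S ≤ I := Subobject.le_of_comm (biprod.inl ≫ e) (by
    rw [Category.assoc, he, ← Category.assoc, biprod.inl_desc, hi])
  have h2 : S' ≤ I := Subobject.le_of_comm (biprod.inr ≫ e) (by
    rw [Category.assoc, he, ← Category.assoc, biprod.inr_desc, hi'])
  have hUI : U ≤ I := sup_le h1 h2
  have hIU : I ≤ U := imageSubobject_le _ φ rfl
  have hφ : φ = e ≫ Subobject.ofLE I U hIU := by
    rw [← cancel_mono U.arrow, Category.assoc, Subobject.ofLE_arrow, he]
  have hsplit : Subobject.ofLE U I hUI ≫ Subobject.ofLE I U hIU = 𝟙 _ := by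
    rw [← cancel_mono U.arrow, Category.assoc, Subobject.ofLE_arrow, Subobject.ofLE_arrow,
      Category.id_comp]
  have : Epi (Subobject.ofLE I U hIU) := (IsSplitEpi.mk' ⟨_, hsplit⟩).epi
  refine ⟨φ, ?_⟩
  rw [hφ]
  infer_instance

lemma isNoetherianObject_sup {Y : C} (S S' : Subobject Y) [IsNoetherianObject (S : C)]
    [IsNoetherianObject (S' : C)] : IsNoetherianObject ((S ⊔ S' : Subobject Y) : C) := by
  obtain ⟨φ, hφ⟩ := exists_epi_biprod_sup S S'
  exact isNoetherianObject_of_epi φ

end Groth.Agent.Lib.Helper8.GrTrans1
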