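import Mathlib

/-!
# Contractibility of the Čech complex when one member of the family is the whole union
-/

open CategoryTheory Limits Category Simplicial Opposite

namespace Groth.Agent.Lib.Helper8.CechContr

universe v u

section General

variable {A : Type u} [Category.{v} A] [Preadditive A]

/-- extra codegeneracy datum on a coaugmented cosimplicial object -/
structure ExtraCodeg (Y : CosimplicialObject A) (M : A) where
  η : M ⟶ Y.obj ⦋0⦌
  s' : Y.obj ⦋0⦌ ⟶ M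
  s : ∀ n : ℕ, Y.obj ⦋n + 1⦌ ⟶ Y.obj ⦋n⦌
  η_s' : η ≫ s' = 𝟙 M
  η_δ : η ≫ Y.δ 0 = η ≫ Y.δ 1
  δ₁_s₀ : Y.δ 1 ≫ s 0 = s' ≫ η
  δ₀_s : ∀ n : ℕ, Y.δ 0 ≫ s n = 𝟙 _
  δ_s : ∀ (n : ℕ) (i : Fin (n + 2)), Y.δ i.succ ≫ s (n + 1) = s n ≫ Y.δ i

open AlgebraicTopology

/-- the alternating coface map complex -/
abbrev K (Y : CosimplicialObject A) : CochainComplex A ℕ := AlternatingCofaceMapComplex.obj Y

lemma obj_d (Y : CosimplicialObject A) (n : ℕ) :
    (K Y).d n (n + 1) = ∑ i : Fin (n + 2), (-1 : ℤ) ^ (i : ℕ) • Y.δ i := by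
  exact CochainComplex.of_d (fun n => Y.obj ⦋n⦌) (AlternatingCofaceMapComplex.objD Y) n

variable {Y : CosimplicialObject A} {M : A} (e : ExtraCodeg Y M)

lemma η_d : e.η ≫ ∑ i : Fin (0 + 2), (-1 : ℤ) ^ (i : ℕ) • Y.δ i = 0 := by
  rw [Fin.sum_univ_two]
  have h : e.η ≫ (Y.δ 0 + -Y.δ 1) = 0 := by
    rw [Preadditive.comp_add, Preadditive.comp_neg, e.η_δ, add_neg_cancel]
  simpa using h

/-- typed versions -/
def ηK : M ⟶ (K Y).X 0 := e.η
/-- typed versions -/
def sK' : (K Y).X 0 ⟶ M := e.s'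
/-- typed versions -/
def sK (n : ℕ) : (K Y).X (n + 1) ⟶ (K Y).X n := e.s n

lemma ηK_sK' : ηK e ≫ sK' e = 𝟙 M := e.η_s'

lemma ηK_d : ηK e ≫ (K Y).d 0 1 = 0 := by
  rw [obj_d Y 0]
  exact η_d e

lemma d_sK_zero : (K Y).d 0 1 ≫ sK e 0 = 𝟙 _ - sK' e ≫ ηK e := by
  rw [obj_d Y 0]
  have : (∑ i : Fin (0 + 2), (-1 : ℤ) ^ (i : ℕ) • Y.δ i) ≫ e.s 0 = 𝟙 _ - e.s' ≫ e.η := by
    rw [Fin.sum_univ_two]
    have h : (Y.δ 0 + -Y.δ 1) ≫ e.s 0 = 𝟙 _ - e.s' ≫ e.η := by
      rw [Preadditive.add_comp, Preadditive.neg_comp, e.δ₀_s, e.δ₁_s₀, sub_eq_add_neg]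
    simpa using h
  exact this

lemma d_sK_succ (n : ℕ) :
    (K Y).d (n + 1) (n + 2) ≫ sK e (n + 1) + sK e n ≫ (K Y).d n (n + 1) = 𝟙 _ := by
  rw [obj_d Y (n + 1), obj_d Y n]
  have : (∑ i : Fin (n + 1 + 2), (-1 : ℤ) ^ (i : ℕ) • Y.δ i) ≫ e.s (n + 1) +
      e.s n ≫ ∑ i : Fin (n + 2), (-1 : ℤ) ^ (i : ℕ) • Y.δ i = 𝟙 _ := by
    simp [Fin.sum_univ_succ (n := n + 2), e.δ₀_s, Preadditive.sum_comp,
      Preadditive.comp_sum, e.δ_s, pow_succ]
  exact this

lemma comm_zero : sK' e ≫ ηK e = (K Y).d 0 1 ≫ (-sK e 0) + 𝟙 _ := by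
  rw [Preadditive.comp_neg, d_sK_zero]
  abel

lemma comm_succ (n : ℕ) :
    (0 : (K Y).X (n + 1) ⟶ (K Y).X (n + 1)) =
      (K Y).d (n + 1) (n + 2) ≫ (-sK e (n + 1)) + (-sK e n) ≫ (K Y).d n (n + 1) + 𝟙 _ := by
  rw [Preadditive.comp_neg, Preadditive.neg_comp, ← neg_add, d_sK_succ]
  abel

variable [HasZeroObject A]

/-- the augmentation as a morphism of complexes -/
noncomputable def homK : (CochainComplex.single₀ A).obj M ⟶ K Y :=
  (CochainComplex.fromSingle₀Equiv _ _).symm ⟨ηK e, ηK_d e⟩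

/-- the retraction as a morphism of complexes -/
noncomputable def invK : K Y ⟶ (CochainComplex.single₀ A).obj M :=
  (CochainComplex.toSingle₀Equiv _ _).symm (sK' e)

lemma homK_f_zero : (homK e).f 0 = ηK e :=
  CochainComplex.fromSingle₀Equiv_symm_apply_f_zero _ _

lemma invK_f_zero : (invK e).f 0 = sK' e :=
  CochainComplex.toSingle₀Equiv_symm_apply_f_zero _

lemma invK_f_succ (n : ℕ) : (invK e).f (n + 1) = 0 :=
  CochainComplex.toSingle₀Equiv_symm_apply_f_succ _ n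

/-- the homotopy -/
def hK (i j : ℕ) : (K Y).X i ⟶ (K Y).X j :=
  (Pi.single (j + 1) (-sK e j) : ∀ i, (K Y).X i ⟶ (K Y).X j) i

omit [HasZeroObject A] in
lemma hK_succ (j : ℕ) : hK e (j + 1) j = -sK e j := Pi.single_eq_same _ _

/-- the homotopy equivalence -/
noncomputable def homotopyEquiv :
    HomotopyEquiv ((CochainComplex.single₀ A).obj M) (K Y) where
  hom := homK e
  inv := invK e
  homotopyHomInvId := Homotopy.ofEq (by
    ext
    rw [HomologicalComplex.comp_f, homK_f_zero, invK_f_zero]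
    exact ηK_sK' e)
  homotopyInvHomId :=
    { hom := hK e
      zero := fun i j hij => Pi.single_eq_of_ne (Ne.symm hij) _
      comm := fun i => by
        cases i with
        | zero =>
          rw [Homotopy.prevD_zero_cochainComplex, Homotopy.dNext_cochainComplex,
            HomologicalComplex.comp_f, homK_f_zero, invK_f_zero, HomologicalComplex.id_f,
            add_zero, hK_succ]
          exact comm_zero e
        | succ n =>
          rw [Homotopy.prevD_succ_cochainComplex, Homotopy.dNext_cochainComplex,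
            HomologicalComplex.comp_f, invK_f_succ, zero_comp, HomologicalComplex.id_f,
            hK_succ, hK_succ]
          exact comm_succ e n }

end General

section Cech

open TopologicalSpace

variable {X : TopCat.{u}} {ι : Type u} (U : ι → Opens X) (i₀ : ι) (hi : U i₀ = iSup U)

/-- the formal coproduct of the family -/
abbrev UU : FormalCoproduct.{u} (Opens X) := FormalCoproduct.mk ι U

/-- the Čech simplicial object -/
noncomputable abbrev E : SimplicialObject (FormalCoproduct.{u} (Opens X)) := (UU U).cech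

/-- the target of the augmentation -/
abbrev pt : FormalCoproduct.{u} (Opens X) := (FormalCoproduct.incl (Opens X)).obj (iSup U)

lemma fc_hom_ext {P Q : FormalCoproduct.{u} (Opens X)} {f g : P ⟶ Q} (h : f.f = g.f) : f = g :=
  FormalCoproduct.hom_ext h (fun _ => Subsingleton.elim _ _)

include hi in
lemma le_t (n : ℕ) (x : Fin (n + 1) → ι) (a : Fin (n + 2)) :
    (∏ᶜ (U ∘ x) : Opens X) ≤ U ((Fin.cons i₀ x : Fin (n + 2) → ι) a) := by
  have h0 : (∏ᶜ (U ∘ x) : Opens X) ≤ U (x 0) := (Pi.π (U ∘ x) 0).le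
  refine Fin.cases ?_ (fun b => ?_) a
  · rw [Fin.cons_zero, hi]
    exact h0.trans (le_iSup U (x 0))
  · rw [Fin.cons_succ]
    exact (Pi.π (U ∘ x) b).le

/-- the extra degeneracy of the Čech simplicial object -/
noncomputable def t (n : ℕ) : (E U).obj (op ⦋n⦌) ⟶ (E U).obj (op ⦋n + 1⦌) where
  f := fun x => (Fin.cons i₀ x : Fin (n + 2) → ι)
  φ := fun x => Pi.lift (fun a => homOfLE (le_t U i₀ hi n x a))

/-- the augmentation -/
noncomputable def ε : (E U).obj (op ⦋0⦌) ⟶ pt U where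
  f := fun _ => PUnit.unit
  φ := fun x => homOfLE ((Pi.π (U ∘ x) 0).le.trans (le_iSup U (x 0)))

/-- the section of the augmentation -/
noncomputable def t' : pt U ⟶ (E U).obj (op ⦋0⦌) where
  f := fun _ => (fun _ => i₀)
  φ := fun _ => Pi.lift (fun _ => homOfLE (le_of_eq hi.symm))

lemma t'_ε : t' U i₀ hi ≫ ε U = 𝟙 _ := fc_hom_ext rfl

lemma δ_ε : (E U).δ 0 ≫ ε U = (E U).δ 1 ≫ ε U := fc_hom_ext rfl

lemma t_δ₁ : t U i₀ hi 0 ≫ (E U).δ 1 = ε U ≫ t' U i₀ hi := by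
  refine fc_hom_ext ?_
  funext x
  funext a
  fin_cases a
  rfl

lemma t_δ₀ (n : ℕ) : t U i₀ hi n ≫ (E U).δ 0 = 𝟙 _ := by
  refine fc_hom_ext ?_
  funext x
  funext a
  rfl

omit hi in
lemma cons_comp_succAbove_succ (n : ℕ) (i : Fin (n + 2)) (x : Fin (n + 2) → ι) (a : Fin (n + 2)) :
    (Fin.cons i₀ x : Fin (n + 3) → ι) (Fin.succAbove i.succ a) =
      (Fin.cons i₀ (x ∘ Fin.succAbove i) : Fin (n + 2) → ι) a := by
  refine Fin.cases ?_ (fun b => ?_) a
  · rw [Fin.succ_succAbove_zero, Fin.cons_zero, Fin.cons_zero]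
  · rw [Fin.succ_succAbove_succ, Fin.cons_succ, Fin.cons_succ]
    rfl

lemma t_δ (n : ℕ) (i : Fin (n + 2)) :
    t U i₀ hi (n + 1) ≫ (E U).δ i.succ = (E U).δ i ≫ t U i₀ hi n := by
  refine fc_hom_ext ?_
  funext x
  funext a
  exact cons_comp_succAbove_succ i₀ n i x a

variable (F : (Opens X)ᵒᵖ ⥤ AddCommGrpCat.{u})

/-- extension of `F` to formal coproducts -/
noncomputable abbrev G : (FormalCoproduct.{u} (Opens X))ᵒᵖ ⥤ AddCommGrpCat.{u} :=
  (FormalCoproduct.evalOp (Opens X) AddCommGrpCat.{u}).obj F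

/-- the Čech cosimplicial object -/
noncomputable abbrev Yc : CosimplicialObject AddCommGrpCat.{u} :=
  (FormalCoproduct.cosimplicialObjectFunctor (E U)).obj F

lemma Yc_δ (n : ℕ) (i : Fin (n + 2)) : (Yc U F).δ i = (G F).map ((E U).δ i).op := rfl

lemma G_η_s' : (G F).map (ε U).op ≫ (G F).map (t' U i₀ hi).op = 𝟙 _ := by
  rw [← CategoryTheory.Functor.map_comp, ← op_comp, t'_ε, op_id, CategoryTheory.Functor.map_id]

lemma G_η_δ : (G F).map (ε U).op ≫ (G F).map ((E U).δ 0).op =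
    (G F).map (ε U).op ≫ (G F).map ((E U).δ 1).op := by
  rw [← CategoryTheory.Functor.map_comp, ← CategoryTheory.Functor.map_comp, ← op_comp, ← op_comp, δ_ε]

lemma G_δ₁_s₀ : (G F).map ((E U).δ 1).op ≫ (G F).map (t U i₀ hi 0).op =
    (G F).map (t' U i₀ hi).op ≫ (G F).map (ε U).op := by
  rw [← CategoryTheory.Functor.map_comp, ← CategoryTheory.Functor.map_comp, ← op_comp, ← op_comp, t_δ₁]

lemma G_δ₀_s (n : ℕ) : (G F).map ((E U).δ 0).op ≫ (G F).map (t U i₀ hi n).op = 𝟙 _ := by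
  rw [← CategoryTheory.Functor.map_comp, ← op_comp, t_δ₀, op_id, CategoryTheory.Functor.map_id]

lemma G_δ_s (n : ℕ) (i : Fin (n + 2)) :
    (G F).map ((E U).δ i.succ).op ≫ (G F).map (t U i₀ hi (n + 1)).op =
      (G F).map (t U i₀ hi n).op ≫ (G F).map ((E U).δ i).op := by
  rw [← CategoryTheory.Functor.map_comp, ← CategoryTheory.Functor.map_comp, ← op_comp, ← op_comp, t_δ]

/-- the extra codegeneracy -/
noncomputable def extraCodeg : ExtraCodeg (Yc U F) ((G F).obj (op (pt U))) where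
  η := (G F).map (ε U).op
  s' := (G F).map (t' U i₀ hi).op
  s := fun n => (G F).map (t U i₀ hi n).op
  η_s' := G_η_s' U i₀ hi F
  η_δ := G_η_δ U F
  δ₁_s₀ := G_δ₁_s₀ U i₀ hi F
  δ₀_s := fun n => G_δ₀_s U i₀ hi F n
  δ_s := fun n i => G_δ_s U i₀ hi F n i

include hi in
theorem main :
    Nonempty (HomotopyEquiv ((CochainComplex.single₀ AddCommGrpCat.{u}).obj (F.obj (op (iSup U))))
      ((cechComplexFunctor U).obj F)) := by
  have iso : F.obj (op (iSup U)) ≅ (G F).obj (op (pt U)) :=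
    (((FormalCoproduct.evalOpCompInlIsoId (Opens X) AddCommGrpCat.{u}).app F).app
      (op (iSup U))).symm
  exact ⟨(HomotopyEquiv.ofIso ((CochainComplex.single₀ AddCommGrpCat.{u}).mapIso iso)).trans
    (homotopyEquiv (extraCodeg U i₀ hi F))⟩

end Cech

end Groth.Agent.Lib.Helper8.CechContr
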