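import Mathlib
import Groth.Agent.Lib.Helper8.DRing4

/-!
# Helper8 — DRing8: maps of two-term objects of `D(A)` (S7080, S7081, S7083).
-/

open CategoryTheory CategoryTheory.Limits DerivedCategory CategoryTheory.Pretriangulated

namespace Groth.Agent.Lib.Helper8.DRing8

open Groth.Agent.Lib.Helper8.DRing4 Groth.Agent.Lib.Helper8.DTrunc

universe w v u

variable {A : Type u} [Category.{v} A] [Abelian A] [HasDerivedCategory.{w} A]

/-- If `α : K ⟶ K'` (two-term objects) is an iso on `H^0` and epi on `H^{-1}`, any map out of `K'` to an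
object of `D^{≥ -1}` killed by `α` is zero. -/
theorem eq_zero_of_comp_eq_zero {K K' : DerivedCategory A} (α : K ⟶ K') [K.IsLE 0] [K'.IsLE 0]
    (h0 : IsIso ((homologyFunctor A 0).map α)) (h1 : Epi ((homologyFunctor A (-1)).map α))
    {Y : DerivedCategory A} [Y.IsGE (-1)] (t : K' ⟶ Y) (ht : α ≫ t = 0) : t = 0 := by
  obtain ⟨C, c, d, hT⟩ := distinguished_cocone_triangle α
  have h0m : Mono ((homologyFunctor A 0).map α) := inferInstance
  have h0e : Epi ((homologyFunctor A 0).map α) := inferInstance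
  have hCz : ∀ i : ℤ, -2 < i → IsZero ((homologyFunctor A i).obj C) := by
    intro i hi
    by_cases hm1 : i = -1
    · subst hm1
      exact isZero_homology_obj₃ _ hT (-1) 0 (by norm_num) h1 h0m
    by_cases hz : i = 0
    · subst hz
      exact isZero_homology_obj₃ _ hT 0 1 rfl h0e
        ⟨fun _ _ _ => (isZero_of_isLE K 0 1 (by decide)).eq_of_tgt _ _⟩
    · exact isZero_homology_obj₃ _ hT i (i + 1) rfl
        ⟨fun _ _ _ => (isZero_of_isLE K' 0 i (by omega)).eq_of_src _ _⟩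
        ⟨fun _ _ _ => (isZero_of_isLE K 0 (i + 1) (by omega)).eq_of_tgt _ _⟩
  have hC : C.IsLE (-2) := (isLE_iff C (-2)).2 (fun i hi => hCz i hi)
  obtain ⟨s, hs⟩ : ∃ s : C ⟶ Y, t = c ≫ s := Triangle.yoneda_exact₂ _ hT t ht
  rw [hs, tt.zero s (-2) (-1), comp_zero]


lemma comp_truncGEπ_eq_zero {X Y : DerivedCategory A} (b : ℤ) [X.IsLE b] [Y.IsLE b] (f : X ⟶ Y)
    (hf : (homologyFunctor A b).map f = 0) : f ≫ (tt.truncGEπ b).app Y = 0 := by
  have nat := (tt.truncGEπ b).naturality f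
  simp only [Functor.id_obj, Functor.id_map] at nat
  rw [nat]
  have : tt.IsLE ((tt.truncGE b).obj X) b := inferInstance
  have : tt.IsGE ((tt.truncGE b).obj X) b := inferInstance
  have : tt.IsLE ((tt.truncGE b).obj Y) b := inferInstance
  have : tt.IsGE ((tt.truncGE b).obj Y) b := inferInstance
  have h0 : (tt.truncGE b).map f = 0 := by
    apply eq_zero_of_homologyMap_eq_zero b
    have := epi_homologyMap_truncGEπ X b
    rw [← cancel_epi ((homologyFunctor A b).map ((tt.truncGEπ b).app X)), comp_zero,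
      ← Functor.map_comp, ← nat, Functor.map_comp, hf, zero_comp]
  rw [h0, comp_zero]

lemma truncLTι_comp_eq_zero {Y Z : DerivedCategory A} (a a' : ℤ) (ha : a + 1 = a') [Y.IsGE a]
    [Z.IsGE a] (ψ : Y ⟶ Z) (hψ : (homologyFunctor A a).map ψ = 0) :
    (tt.truncLTι a').app Y ≫ ψ = 0 := by
  subst ha
  have nat := (tt.truncLTι (a + 1)).naturality ψ
  simp only [Functor.id_obj, Functor.id_map] at nat
  rw [← nat]
  have h1 : tt.IsLE ((tt.truncLT (a + 1)).obj Y) (a + 1 - 1) := inferInstance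
  have h2 : tt.IsLE ((tt.truncLT (a + 1)).obj Z) (a + 1 - 1) := inferInstance
  rw [add_sub_cancel_right] at h1 h2
  have : tt.IsGE ((tt.truncLT (a + 1)).obj Y) a := inferInstance
  have : tt.IsGE ((tt.truncLT (a + 1)).obj Z) a := inferInstance
  have h0 : (tt.truncLT (a + 1)).map ψ = 0 := by
    apply eq_zero_of_homologyMap_eq_zero a
    have := mono_homologyMap_truncLTι Z (a + 1) a (by omega)
    rw [← cancel_mono ((homologyFunctor A a).map ((tt.truncLTι (a + 1)).app Z)), zero_comp,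
      ← Functor.map_comp, nat, Functor.map_comp, hψ, comp_zero]
  rw [h0, zero_comp]

/-- S7081 general form -/
theorem comp_eq_zero_of_homology {K₁ K₂ K₃ : DerivedCategory A} [K₁.IsLE 0] [K₂.IsLE 0]
    [K₂.IsGE (-1)] [K₃.IsGE (-1)] (φ : K₁ ⟶ K₂) (ψ : K₂ ⟶ K₃)
    (hφ : (homologyFunctor A 0).map φ = 0) (hψ : (homologyFunctor A (-1)).map ψ = 0) :
    φ ≫ ψ = 0 := by
  have h1 := comp_truncGEπ_eq_zero 0 φ hφ
  obtain ⟨φ', hφ'⟩ : ∃ φ' : K₁ ⟶ (tt.truncLT 0).obj K₂, φ = φ' ≫ (tt.truncLTι 0).app K₂ :=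
    Triangle.coyoneda_exact₂ _ (tt.triangleLTGE_distinguished 0 K₂) φ h1
  rw [hφ', Category.assoc, truncLTι_comp_eq_zero (-1) 0 (by norm_num) ψ hψ, comp_zero]

end Groth.Agent.Lib.Helper8.DRing8
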