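import Mathlib
import Groth.Prelude.Def_Wider
import Groth.Prelude.Def_DerCA
import Groth.Agent.Lib.Helper2.LCCech1
import Groth.Agent.Lib.Helper2.LCCech4

/-! # Helper8 — EBC3: the cohomology modules of the iterated Čech complex `cechCx K fs` of any complex are power torsion for the ideal generated by `fs` (no Noetherian hypothesis; towards S1731) -/

set_option autoImplicit false

universe u

open CategoryTheory CategoryTheory.Limits DerivedCategory CochainComplex

attribute [local instance] HasDerivedCategory.standard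

namespace Groth.Agent.Lib.Helper8.EBC

open Groth.Agent.Lib.Helper2.LCCech1 Groth.Agent.Lib.Helper2.LCCech3
  Groth.Agent.Lib.Helper2.LCCech4 DerCA

variable {A : Type u} [CommRing A]

/-- all cohomology modules are `g`-power torsion -/
def TorD (g : A) (X : Dual.D A) : Prop :=
  ∀ (i : ℤ) (x : Dual.HD A X i), ∃ m : ℕ, g ^ m • x = 0

lemma TorD.of_iso {g : A} {X Y : Dual.D A} (e : X ≅ Y) (h : TorD g X) : TorD g Y := by
  intro i y
  let φ := ((DerivedCategory.homologyFunctor (ModuleCat.{u} A) i).mapIso e).toLinearEquiv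
  obtain ⟨x, rfl⟩ := φ.surjective y
  obtain ⟨m, hm⟩ := h i x
  exact ⟨m, by rw [← map_smul, hm, map_zero]⟩

lemma torD_obj₁ {g : A} (T : Pretriangulated.Triangle (Dual.D A)) (hT : T ∈ distTriang _)
    (h2 : TorD g T.obj₂) (h3 : TorD g T.obj₃) : TorD g T.obj₁ := by
  intro i x
  have hex := DerivedCategory.HomologySequence.exact₁ T hT (i - 1) i (by omega)
  have hex' := (ShortComplex.ShortExact.moduleCat_exact_iff_function_exact _).1 hex
  obtain ⟨m, hm⟩ := h2 i (((DerivedCategory.homologyFunctor (ModuleCat.{u} A) i).map T.mor₁).hom x)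
  rw [← map_smul] at hm
  obtain ⟨y, hy⟩ := (hex' _).1 hm
  obtain ⟨m', hm'⟩ := h3 (i - 1) y
  refine ⟨m' + m, ?_⟩
  rw [pow_add, mul_smul]
  have hy' : g ^ m • x = (DerivedCategory.HomologySequence.δ T (i - 1) i (by omega)).hom y :=
    hy.symm
  rw [hy', ← map_smul, hm', map_zero]

lemma isLocalizedModule_homologyMap (S : Submonoid A) (C : DRing.Cx A) (n : ℤ) :
    IsLocalizedModule S (HomologicalComplex.homologyMap (locCxUnit S C) n).hom := by
  have h1 := NatTrans.app_homology (locUnit S) (C.sc n)
  have h2 : HomologicalComplex.homologyMap (locCxUnit S C) n =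
      ((C.sc n).mapHomologyIso (𝟭 _)).hom ≫ (locUnit S).app (C.sc n).homology ≫
        ((C.sc n).mapHomologyIso (locFunctor S)).inv := by
    change ShortComplex.homologyMap ((C.sc n).mapNatTrans (locUnit S)) = _
    rw [h1]
    simp
  rw [h2]
  let e1 := ((C.sc n).mapHomologyIso (𝟭 (ModuleCat.{u} A))).toLinearEquiv
  let e2 := ((C.sc n).mapHomologyIso (locFunctor S)).symm.toLinearEquiv
  have h3 : IsLocalizedModule S (LocalizedModule.mkLinearMap S (C.sc n).homology) := inferInstance
  have h3' : IsLocalizedModule S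
      ((LocalizedModule.mkLinearMap S (C.sc n).homology) ∘ₗ e1.toLinearMap) :=
    IsLocalizedModule.of_linearEquiv_right S _ e1 (hf := h3)
  have h4 : IsLocalizedModule S (e2.toLinearMap ∘ₗ
      (LocalizedModule.mkLinearMap S (C.sc n).homology) ∘ₗ e1.toLinearMap) :=
    IsLocalizedModule.of_linearEquiv S _ e2 (hf := h3')
  exact h4

lemma isLocalizedModule_HD_map (S : Submonoid A) (C : DRing.Cx A) (n : ℤ) :
    IsLocalizedModule S ((DerivedCategory.homologyFunctor (ModuleCat.{u} A) n).map
      (Q.map (locCxUnit S C))).hom := by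
  have nat := (DerivedCategory.homologyFunctorFactors (ModuleCat.{u} A) n).hom.naturality
    (locCxUnit S C)
  have h2 : (DerivedCategory.homologyFunctor (ModuleCat.{u} A) n).map (Q.map (locCxUnit S C)) =
      (DerivedCategory.homologyFunctorFactors (ModuleCat.{u} A) n).hom.app C ≫
        HomologicalComplex.homologyMap (locCxUnit S C) n ≫
        (DerivedCategory.homologyFunctorFactors (ModuleCat.{u} A) n).inv.app _ := by
    have nat' : (DerivedCategory.homologyFunctor (ModuleCat.{u} A) n).map (Q.map (locCxUnit S C)) ≫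
        (DerivedCategory.homologyFunctorFactors (ModuleCat.{u} A) n).hom.app ((locCx S).obj C) =
        (DerivedCategory.homologyFunctorFactors (ModuleCat.{u} A) n).hom.app C ≫
        HomologicalComplex.homologyMap (locCxUnit S C) n := nat
    have h5 := congrArg (fun t => t ≫ (DerivedCategory.homologyFunctorFactors (ModuleCat.{u} A) n).inv.app
      ((locCx S).obj C)) nat'
    simp only [Category.assoc, Iso.hom_inv_id_app] at h5
    exact h5
  rw [h2]
  let e1 := ((DerivedCategory.homologyFunctorFactors (ModuleCat.{u} A) n).app C).toLinearEquiv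
  let e2 := ((DerivedCategory.homologyFunctorFactors (ModuleCat.{u} A) n).app
    ((locCx S).obj C)).symm.toLinearEquiv
  have h3 := isLocalizedModule_homologyMap S C n
  have h3' : IsLocalizedModule S
      ((HomologicalComplex.homologyMap (locCxUnit S C) n).hom ∘ₗ e1.toLinearMap) :=
    IsLocalizedModule.of_linearEquiv_right S _ e1 (hf := h3)
  have h4 : IsLocalizedModule S (e2.toLinearMap ∘ₗ
      (HomologicalComplex.homologyMap (locCxUnit S C) n).hom ∘ₗ e1.toLinearMap) :=
    IsLocalizedModule.of_linearEquiv S _ e2 (hf := h3')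
  exact h4


lemma smul_injective_of_isLocalizedModule {S : Submonoid A} {M M' : Type*} [AddCommGroup M]
    [Module A M] [AddCommGroup M'] [Module A M'] (φ : M →ₗ[A] M') [IsLocalizedModule S φ]
    (s : A) (hs : s ∈ S) (y : M') (h : s • y = 0) : y = 0 := by
  have hu := IsLocalizedModule.map_units φ ⟨s, hs⟩
  rw [Module.End.isUnit_iff] at hu
  apply hu.1
  change s • y = s • (0 : M')
  rw [h, smul_zero]

lemma torD_loc (g f : A) (C : DRing.Cx A) (h : TorD g (Q.obj C : Dual.D A)) :
    TorD g (Q.obj ((locCx (Submonoid.powers f)).obj C) : Dual.D A) := by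
  intro i y
  haveI := isLocalizedModule_HD_map (Submonoid.powers f) C i
  obtain ⟨⟨z, ⟨_, k, rfl⟩⟩, hz⟩ := IsLocalizedModule.surj (Submonoid.powers f)
    ((DerivedCategory.homologyFunctor (ModuleCat.{u} A) i).map
      (Q.map (locCxUnit (Submonoid.powers f) C))).hom y
  have hz' : f ^ k • y = ((DerivedCategory.homologyFunctor (ModuleCat.{u} A) i).map
      (Q.map (locCxUnit (Submonoid.powers f) C))).hom z := hz
  obtain ⟨m, hm⟩ := h i z
  refine ⟨m, ?_⟩
  apply smul_injective_of_isLocalizedModule (S := Submonoid.powers f)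
    ((DerivedCategory.homologyFunctor (ModuleCat.{u} A) i).map
      (Q.map (locCxUnit (Submonoid.powers f) C))).hom (f ^ k) ⟨k, rfl⟩
  rw [smul_comm, hz', ← map_smul, hm, map_zero]

lemma torD_cechStep (g f : A) (C : DRing.Cx A) (h : TorD g (Q.obj C : Dual.D A)) :
    TorD g (Q.obj (cechStep f C) : Dual.D A) := by
  let T := Q.mapTriangle.obj (mappingCocone.triangle (locCxUnit (Submonoid.powers f) C))
  have hT : T ∈ distTriang (Dual.D A) :=
    mappingCocone_triangle_distinguished (locCxUnit (Submonoid.powers f) C)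
  exact torD_obj₁ T hT h (torD_loc g f C h)

lemma torD_obj₁_of_isLocalizedModule (f : A) (T : Pretriangulated.Triangle (Dual.D A))
    (hT : T ∈ distTriang _)
    (h : ∀ i : ℤ, IsLocalizedModule (Submonoid.powers f)
      ((DerivedCategory.homologyFunctor (ModuleCat.{u} A) i).map T.mor₂).hom) :
    TorD f T.obj₁ := by
  intro i x
  have hex2 := (ShortComplex.ShortExact.moduleCat_exact_iff_function_exact _).1
    (DerivedCategory.HomologySequence.exact₂ T hT i)
  have hex1 := (ShortComplex.ShortExact.moduleCat_exact_iff_function_exact _).1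
    (DerivedCategory.HomologySequence.exact₁ T hT (i - 1) i (by omega))
  haveI h1 := h i
  haveI h2 := h (i - 1)
  have h0 : ((DerivedCategory.homologyFunctor (ModuleCat.{u} A) i).map T.mor₂).hom
      (((DerivedCategory.homologyFunctor (ModuleCat.{u} A) i).map T.mor₁).hom x) = 0 :=
    hex2.apply_apply_eq_zero x
  obtain ⟨⟨_, m, rfl⟩, hs⟩ := (IsLocalizedModule.eq_zero_iff (Submonoid.powers f)
    ((DerivedCategory.homologyFunctor (ModuleCat.{u} A) i).map T.mor₂).hom).1 h0
  have hs' : f ^ m • ((DerivedCategory.homologyFunctor (ModuleCat.{u} A) i).map T.mor₁).hom x = 0 :=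
    hs
  rw [← LinearMap.map_smul] at hs'
  obtain ⟨y, hy⟩ := (hex1 _).1 hs'
  obtain ⟨⟨z, ⟨_, k, rfl⟩⟩, hz⟩ := IsLocalizedModule.surj (Submonoid.powers f)
    ((DerivedCategory.homologyFunctor (ModuleCat.{u} A) (i - 1)).map T.mor₂).hom y
  have hz' : f ^ k • y = ((DerivedCategory.homologyFunctor (ModuleCat.{u} A) (i - 1)).map
      T.mor₂).hom z := hz
  have hy' : f ^ m • x = (DerivedCategory.HomologySequence.δ T (i - 1) i (by omega)).hom y :=
    hy.symm
  refine ⟨k + m, ?_⟩
  rw [pow_add, mul_smul, hy', ← LinearMap.map_smul, hz']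
  have hc := DerivedCategory.HomologySequence.comp_δ T hT (i - 1) i (by omega)
  exact congrArg (fun t => t.hom z) hc

lemma torD_cechStep_self (f : A) (C : DRing.Cx A) :
    TorD f (Q.obj (cechStep f C) : Dual.D A) := by
  let T := Q.mapTriangle.obj (mappingCocone.triangle (locCxUnit (Submonoid.powers f) C))
  have hT : T ∈ distTriang (Dual.D A) :=
    mappingCocone_triangle_distinguished (locCxUnit (Submonoid.powers f) C)
  exact torD_obj₁_of_isLocalizedModule f T hT
    (fun i => isLocalizedModule_HD_map (Submonoid.powers f) C i)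

lemma torD_cechCx (K : DRing.Cx A) : ∀ (fs : List A) (g : A), g ∈ fs →
    TorD g (Q.obj (cechCx K fs) : Dual.D A)
  | [], g, hg => by simp at hg
  | f :: l, g, hg => by
    change TorD g (Q.obj (cechStep f (cechCx K l)) : Dual.D A)
    by_cases hgf : g = f
    · subst hgf
      exact torD_cechStep_self g (cechCx K l)
    · have hg' : g ∈ l := by
        rcases List.mem_cons.1 hg with h | h
        · exact absurd h hgf
        · exact h
      exact torD_cechStep g f _ (torD_cechCx K l g hg')

/-- the cohomology modules of the Čech complex are power torsion for the ideal generated by the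
list -/
theorem isPowerTorsion_homology_cechCx (K : DRing.Cx A) (fs : List A) (i : ℤ) :
    LocCoh.IsPowerTorsion (Ideal.span {y | y ∈ fs}) ((cechCx K fs).homology i) := by
  intro x
  let e := ((DerivedCategory.homologyFunctorFactors (ModuleCat.{u} A) i).app
    (cechCx K fs)).toLinearEquiv
  have hx : x ∈ torSub fs ((cechCx K fs).homology i) := by
    intro g hg
    obtain ⟨m, hm⟩ := torD_cechCx K fs g hg i (e.symm x)
    refine ⟨m, ?_⟩
    apply e.symm.injective
    exact (e.symm.map_smul _ _).trans (hm.trans (e.symm.map_zero).symm)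
  obtain ⟨k, hk⟩ := exists_kills_of_mem_torSub fs hx
  exact ⟨k, hk⟩

end Groth.Agent.Lib.Helper8.EBC
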