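import Mathlib
import Groth.Agent.Lib.Helper8.EBC2
import Groth.Agent.Lib.Helper8.EBC3

/-! # Helper8 — EBC4: a module `M` which is `f`-power torsion has no maps in `D(A)` to localisations `K_f`; hence maps from `M[0]` to `K` and to the Čech complex of `K` agree (towards S1731) -/

set_option autoImplicit false

universe u

open CategoryTheory CategoryTheory.Limits DerivedCategory CochainComplex TensorProduct

attribute [local instance] HasDerivedCategory.standard

namespace Groth.Agent.Lib.Helper8.EBC

open Groth.Agent.Lib.Helper2.LCCech1 DerCA Groth.Agent.Lib.Helper16.FlatBC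

variable {A : Type u} [CommRing A]

section Away

variable (f : A)

lemma subsingleton_away_tensor (M : Type u) [AddCommGroup M] [Module A M]
    (hM : ∀ m : M, ∃ n : ℕ, f ^ n • m = 0) : Subsingleton (Localization.Away f ⊗[A] M) := by
  have h0 : ∀ z : Localization.Away f ⊗[A] M, z = 0 := by
    intro z
    induction z using TensorProduct.induction_on with
    | zero => rfl
    | tmul a m =>
      obtain ⟨n, hn⟩ := hM m
      have hu : IsUnit (algebraMap A (Localization.Away f) (f ^ n)) := by
        rw [map_pow]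
        exact (IsLocalization.Away.algebraMap_isUnit f).pow n
      obtain ⟨b, hb⟩ := hu.exists_left_inv
      have ha : a = f ^ n • (a * b) := by
        rw [Algebra.smul_def, mul_comm a b, ← mul_assoc, mul_comm _ b, hb, one_mul]
      rw [ha, TensorProduct.smul_tmul, hn, TensorProduct.tmul_zero]
    | add x y hx hy => rw [hx, hy, add_zero]
  exact ⟨fun x y => (h0 x).trans (h0 y).symm⟩

lemma isZero_ε_inD (M : Type u) [AddCommGroup M] [Module A M]
    (hM : ∀ m : M, ∃ n : ℕ, f ^ n • m = 0) :
    IsZero ((ε (algebraMap A (Localization.Away f))).obj (Dual.inD A M)) := by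
  haveI := subsingleton_away_tensor f M hM
  have h1 : IsZero (ModuleCat.of (Localization.Away f) (Localization.Away f ⊗[A] M)) :=
    ModuleCat.isZero_of_subsingleton _
  have h2 : IsZero (Dual.inD (Localization.Away f) (Localization.Away f ⊗[A] M)) :=
    (DerivedCategory.singleFunctor (ModuleCat.{u} (Localization.Away f)) 0).map_isZero h1
  exact h2.of_iso (inDExtIso (B := Localization.Away f) M).symm

/-- no nonzero maps to objects restricted from `D(A_f)` -/
def NoMapsToLoc (L : Dual.D A) : Prop :=
  ∀ (W : Dual.D (Localization.Away f))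
    (φ : L ⟶ (DRing.restrictD (algebraMap A (Localization.Away f))).obj W), φ = 0

lemma noMapsToLoc_inD (M : Type u) [AddCommGroup M] [Module A M]
    (hM : ∀ m : M, ∃ n : ℕ, f ^ n • m = 0) : NoMapsToLoc f (Dual.inD A M) := by
  intro W φ
  have hz := isZero_ε_inD f M hM
  have h1 : (flatAdjEquiv (algebraMap A (Localization.Away f)) _ W).symm φ = 0 := hz.eq_of_src _ _
  have h2 := congrArg (flatAdjEquiv (algebraMap A (Localization.Away f)) _ W) h1
  rw [AddEquiv.apply_symm_apply, map_zero] at h2
  exact h2

lemma ηB_bijective_of_bijective_smul (P : Type u) [AddCommGroup P] [Module A P]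
    (h : Function.Bijective (fun x : P => f • x)) :
    Function.Bijective (ηB A (Localization.Away f) P) := by
  haveI h1 : IsLocalizedModule (Submonoid.powers f) (ηB A (Localization.Away f) P) :=
    inferInstance
  haveI h2 : IsLocalizedModule (Submonoid.powers f) (LinearMap.id : P →ₗ[A] P) := by
    refine ⟨?_, fun m => ⟨(m, 1), one_smul _ _⟩, fun h => ⟨1, congrArg _ h⟩⟩
    rintro ⟨_, k, rfl⟩
    change IsUnit (algebraMap A (Module.End A P) (f ^ k))
    rw [map_pow]
    apply IsUnit.pow
    rw [Module.End.isUnit_iff]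
    exact h
  let e := IsLocalizedModule.linearEquiv (Submonoid.powers f) (LinearMap.id : P →ₗ[A] P)
    (ηB A (Localization.Away f) P)
  have he : ⇑(ηB A (Localization.Away f) P) = ⇑e := by
    funext x
    exact (IsLocalizedModule.linearEquiv_apply (Submonoid.powers f) (LinearMap.id : P →ₗ[A] P)
      (ηB A (Localization.Away f) P) x).symm
  rw [he]
  exact e.bijective

lemma bijective_smul_homology_locCx (C : DRing.Cx A) (i : ℤ) :
    Function.Bijective
      (fun x : ((locCx (Submonoid.powers f)).obj C).homology i => f • x) := by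
  haveI := isLocalizedModule_homologyMap (Submonoid.powers f) C i
  have h := IsLocalizedModule.map_units (S := Submonoid.powers f)
    (HomologicalComplex.homologyMap (locCxUnit (Submonoid.powers f) C) i).hom
    ⟨f, Submonoid.mem_powers f⟩
  rw [Module.End.isUnit_iff] at h
  exact h

/-- the localisation of a complex at `f` comes from `D(A_f)` -/
lemma exists_iso_restrictD_locCx (C : DRing.Cx A) :
    ∃ W : Dual.D (Localization.Away f),
      Nonempty ((Q.obj ((locCx (Submonoid.powers f)).obj C) : Dual.D A) ≅
        (DRing.restrictD (algebraMap A (Localization.Away f))).obj W) := by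
  have hq : QuasiIso ((DTen.unitCx (algebraMap A (Localization.Away f))).app
      ((locCx (Submonoid.powers f)).obj C)) :=
    quasiIso_unitCx _ _ (fun i => isIso_ηRE _
      (ηB_bijective_of_bijective_smul f _ (bijective_smul_homology_locCx f C i)))
  haveI : IsIso (Q.map ((DTen.unitCx (algebraMap A (Localization.Away f))).app
      ((locCx (Submonoid.powers f)).obj C)) : (Q.obj _ : Dual.D A) ⟶ _) := by
    rw [isIso_Q_map_iff_quasiIso]
    exact hq
  exact ⟨Q.obj ((DTen.extCx (algebraMap A (Localization.Away f))).obj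
      ((locCx (Submonoid.powers f)).obj C)),
    ⟨asIso (Q.map ((DTen.unitCx (algebraMap A (Localization.Away f))).app
      ((locCx (Submonoid.powers f)).obj C))) ≪≫
      ((DTen.resFactors (algebraMap A (Localization.Away f))).app
        ((DTen.extCx (algebraMap A (Localization.Away f))).obj
          ((locCx (Submonoid.powers f)).obj C))).symm⟩⟩

end Away

/-- post-composition with the first map of a distinguished triangle is bijective on maps from `L`
when `L` has no maps to the third vertex and its desuspension -/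
lemma bijective_comp_of_triangle' (T : Pretriangulated.Triangle (Dual.D A))
    (hT : T ∈ distTriang _) (L : Dual.D A)
    (h3 : ∀ φ : L ⟶ T.obj₃, φ = 0) (h3' : ∀ φ : L ⟶ T.obj₃⟦(-1 : ℤ)⟧, φ = 0) :
    Function.Bijective (fun ψ : L ⟶ T.obj₁ => ψ ≫ T.mor₁) := by
  constructor
  · intro ψ ψ' h
    rw [← sub_eq_zero]
    have h0 : (ψ - ψ') ≫ T.mor₁ = 0 := by
      rw [Preadditive.sub_comp]
      exact sub_eq_zero.2 h
    obtain ⟨χ, hχ⟩ := Pretriangulated.Triangle.coyoneda_exact₂ _
      (Pretriangulated.inv_rot_of_distTriang _ hT) (ψ - ψ') h0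
    rw [hχ, h3' χ]
    exact zero_comp
  · intro ψ
    obtain ⟨χ, hχ⟩ := Pretriangulated.Triangle.coyoneda_exact₂ _ hT ψ (h3 _)
    exact ⟨χ, hχ.symm⟩

lemma bijective_comp_fst (f : A) (C : DRing.Cx A) (L : Dual.D A) (hL : NoMapsToLoc f L) :
    Function.Bijective (fun χ : L ⟶ (Q.obj (cechStep f C) : Dual.D A) =>
      χ ≫ Q.map (mappingCocone.fst (locCxUnit (Submonoid.powers f) C))) := by
  let T := Q.mapTriangle.obj (mappingCocone.triangle (locCxUnit (Submonoid.powers f) C))
  have hT : T ∈ distTriang (Dual.D A) :=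
    mappingCocone_triangle_distinguished (locCxUnit (Submonoid.powers f) C)
  obtain ⟨W, ⟨e⟩⟩ := exists_iso_restrictD_locCx f C
  refine bijective_comp_of_triangle' T hT L (fun φ => ?_) (fun φ => ?_)
  · have h := hL W (φ ≫ e.hom)
    exact (cancel_mono e.hom).1 (h.trans zero_comp.symm)
  · let e' : (T.obj₃)⟦(-1 : ℤ)⟧ ≅
        (DRing.restrictD (algebraMap A (Localization.Away f))).obj (W⟦(-1 : ℤ)⟧) :=
      (CategoryTheory.shiftFunctor (Dual.D A) (-1 : ℤ)).mapIso e ≪≫
        (((DRing.restrictD (algebraMap A (Localization.Away f))).commShiftIso (-1 : ℤ)).app W).symm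
    have h := hL _ (φ ≫ e'.hom)
    exact (cancel_mono e'.hom).1 (h.trans zero_comp.symm)

lemma exists_bijective_comp_cechCx (K : DRing.Cx A) (L : Dual.D A) :
    ∀ fs : List A, (∀ f ∈ fs, NoMapsToLoc f L) →
      ∃ π : (Q.obj (cechCx K fs) : Dual.D A) ⟶ Q.obj K,
        Function.Bijective (fun χ : L ⟶ (Q.obj (cechCx K fs) : Dual.D A) => χ ≫ π)
  | [], _ => ⟨𝟙 _, ⟨fun χ χ' h => (Category.comp_id χ).symm.trans (h.trans (Category.comp_id χ')),
      fun χ => ⟨χ, Category.comp_id χ⟩⟩⟩
  | f :: l, h => by
    obtain ⟨π, hπ⟩ := exists_bijective_comp_cechCx K L l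
      (fun g hg => h g (List.mem_cons_of_mem _ hg))
    have h1 := bijective_comp_fst f (cechCx K l) L (h f List.mem_cons_self)
    refine ⟨Q.map (mappingCocone.fst (locCxUnit (Submonoid.powers f) (cechCx K l))) ≫ π, ?_⟩
    have hc : (fun χ : L ⟶ (Q.obj (cechCx K (f :: l)) : Dual.D A) =>
        χ ≫ Q.map (mappingCocone.fst (locCxUnit (Submonoid.powers f) (cechCx K l))) ≫ π) =
        (fun χ : L ⟶ (Q.obj (cechCx K l) : Dual.D A) => χ ≫ π) ∘
        (fun χ : L ⟶ (Q.obj (cechStep f (cechCx K l)) : Dual.D A) =>
          χ ≫ Q.map (mappingCocone.fst (locCxUnit (Submonoid.powers f) (cechCx K l)))) := by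
      funext χ
      exact (Category.assoc _ _ _).symm
    rw [hc]
    exact hπ.comp h1

end Groth.Agent.Lib.Helper8.EBC
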