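import Groth.Agent.Lib.Helper8.MinPtsC
import Groth.Prelude.Def_PicGrp

/-! # Helper8 — the Picard group of a genus-zero curve over an infinite field is generated by the ideal of a regular closed point of minimal degree -/
set_option autoImplicit false
universe u
open CategoryTheory CategoryTheory.Limits AlgebraicGeometry Opposite TopologicalSpace
noncomputable section

namespace Groth.Agent.Lib.Helper8.MinPtsD

open Groth.Agent.Lib.Helper8.EulerK Groth.Agent.Lib.Helper28 Groth.Agent.Lib.Helper8.KillA
  Groth.Agent.Lib.Helper8.PointDeg Groth.Agent.Lib.Helper8.Vanish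
  Groth.Agent.Lib.Helper8.GGKill Groth.Agent.Lib.Helper8.MinPtsA Groth.Agent.Lib.Helper8.MinPtsB
  Groth.Agent.Lib.Helper8.MinPtsC Groth.Agent.Lib.Helper8.CurveInv Groth.Agent.Lib.Helper8.CurveDeg
  Groth.Agent.Lib.Helper28.HomMod

variable (k : Type u) [Field k] (X : Scheme.{u}) [X.Over (Spec (CommRingCat.of k))]
  [IsIntegral X] [IsProper (X ↘ Spec (CommRingCat.of k))]

omit [IsIntegral X] [IsProper (X ↘ Spec (CommRingCat.of k))] in
theorem deg_structureModule : Curv2.deg k X (Coh.structureModule X) 1 = 0 := by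
  unfold Curv2.deg
  simp

/-- on a curve with `H¹(O) = 0`, an invertible module of nonnegative degree has a nonzero section -/
theorem exists_section_of_deg_nonneg (hdim : topologicalKrullDim X = 1)
    (hO1 : Subsingleton (Coh.HH X (Coh.structureModule X) 1)) {M : X.Modules}
    (hM : PicF.IsInvertible M) (hdeg : 0 ≤ Curv2.deg k X M 1) :
    Nontrivial (Coh.HH X M 0) := by
  haveI : IsLocallyNoetherian X := isLocallyNoetherian k X
  have hOinv := AmpleUnit.isInvertible_structureModule X
  have hcO := Groth.Agent.Lib.Helper6.K0Op.isCoh_of_isInvertible _ hOinv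
  have hMc := Groth.Agent.Lib.Helper6.K0Op.isCoh_of_isInvertible _ hM
  have eO := Groth.Agent.Lib.Helper8.CurveRR.euler_eq_sub k X hdim.le _ hcO.1
  have h1z : Module.finrank k (Coh.HH X (Coh.structureModule X) 1) = 0 :=
    Module.finrank_zero_of_subsingleton
  rw [h1z] at eO
  simp only [Nat.cast_zero, sub_zero] at eO
  have eM := Groth.Agent.Lib.Helper8.CurveRR.euler_eq_sub k X hdim.le M hMc.1
  haveI := finite_HH k X _ hcO 0
  have h0 := Groth.Agent.Lib.Helper8.Descend.one_le_h0_structureModule k X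
  unfold hh at h0
  unfold Curv2.deg at hdeg
  simp only [Nat.cast_one, one_mul] at hdeg
  have hpos : 0 < Module.finrank k (Coh.HH X M 0) := by
    have h1nn : (0 : ℤ) ≤ Module.finrank k (Coh.HH X M 1) := Int.natCast_nonneg _
    have h0' : (1 : ℤ) ≤ Module.finrank k (Coh.HH X (Coh.structureModule X) 0) := by
      exact_mod_cast h0
    have : (0 : ℤ) < (Module.finrank k (Coh.HH X M 0) : ℤ) := by linarith
    exact_mod_cast this
  exact Module.nontrivial_of_finrank_pos (R := k) hpos

/-- on a curve with `H¹(O) = 0`, an invertible module of degree zero is trivial -/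
theorem trivial_of_deg_zero (hdim : topologicalKrullDim X = 1)
    (hO1 : Subsingleton (Coh.HH X (Coh.structureModule X) 1)) {M : X.Modules}
    (hM : PicF.IsInvertible M) (hdeg : Curv2.deg k X M 1 = 0) :
    Nonempty (M ≅ Coh.structureModule X) := by
  have hOinv := AmpleUnit.isInvertible_structureModule X
  have hnt := exists_section_of_deg_nonneg k X hdim hO1 hM hdeg.ge
  obtain ⟨s, hs⟩ := Groth.Agent.Lib.Helper8.CurveRR.exists_section_ne_zero M hnt
  obtain ⟨-, hiso⟩ := deg_le k X hdim.le _ _ hOinv hM s hs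
  haveI := hiso (by rw [hdeg, deg_structureModule])
  exact ⟨(asIso s).symm⟩

/-- **no invertible module has degree strictly between `0` and the minimal degree of a regular point**
(infinite field, `H¹(O) = 0`) -/
theorem le_deg_of_pos [Infinite k] (hdim : topologicalKrullDim X = 1)
    (hO1 : Subsingleton (Coh.HH X (Coh.structureModule X) 1))
    (P : X) (hPc : IsClosed ({P} : Set X))
    (hmin : ∀ (Q : X) (hQc : IsClosed ({Q} : Set X)), IsRegularLocalRing (X.presheaf.stalk Q) →
      Module.finrank k (Coh.HH X (ClSub.quotMod (ptI P hPc)) 0) ≤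
        Module.finrank k (Coh.HH X (ClSub.quotMod (ptI Q hQc)) 0))
    {M : X.Modules} (hM : PicF.IsInvertible M) (hpos : 0 < Curv2.deg k X M 1) :
    (Module.finrank k (Coh.HH X (ClSub.quotMod (ptI P hPc)) 0) : ℤ) ≤ Curv2.deg k X M 1 := by
  haveI : IsLocallyNoetherian X := isLocallyNoetherian k X
  haveI : JacobsonSpace X := LocallyOfFiniteType.jacobsonSpace (X ↘ Spec (CommRingCat.of k))
  have hOinv := AmpleUnit.isInvertible_structureModule X
  have hnt := exists_section_of_deg_nonneg k X hdim hO1 hM hpos.le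
  obtain ⟨s₀, hs₀⟩ := Groth.Agent.Lib.Helper8.CurveRR.exists_section_ne_zero M hnt
  have hgg := gg_of_section k X hdim.le hO1 hM s₀ hs₀
  obtain ⟨F, hFc, hF⟩ := sing_finite k X hdim
  obtain ⟨s, hs, hsF⟩ := exists_section_avoiding k X hM hnt F hFc
    (fun y hy => exists_section_of_gg k X hM hgg y (hFc y hy))
  -- `s` vanishes somewhere
  have hex : ∃ z : X, z ∉ CohB1.genLocus M s := by
    by_contra hcon
    push Not at hcon
    have htop : CohB1.genLocus M s = ⊤ := by
      ext x
      simp only [Opens.coe_top, Set.mem_univ, iff_true]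
      exact hcon x
    haveI := Groth.Agent.Lib.Helper8.P1Core.isIso_of_genLocus_eq_top X s htop
    have h1' := euler_congr k (asIso s)
    unfold Curv2.deg at hpos
    simp only [Nat.cast_one, one_mul] at hpos
    omega
  obtain ⟨z, hz⟩ := hex
  have hne : (((CohB1.genLocus M s : X.Opens) : Set X)ᶜ).Nonempty := ⟨z, hz⟩
  obtain ⟨y, hys, hyc⟩ := nonempty_inter_closedPoints hne
    (CohB1.genLocus M s).isOpen.isClosed_compl.isLocallyClosed
  have hyc' : IsClosed ({y} : Set X) := hyc
  have hr : IsRegularLocalRing (X.presheaf.stalk y) := by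
    by_contra hnr
    exact hys (hsF y (hF y hyc' hnr))
  obtain ⟨h1', h2'⟩ := Groth.Agent.Lib.Helper8.LowDeg.maximalIdeal_isPrincipal_of_regular hdim.le y
    (Groth.Agent.Lib.Helper8.NormalPt.ne_genericPoint_of_isClosed hdim y hyc') hr
  have hcart := Groth.Agent.Lib.Helper8.PointCartier.isEffCartierIdeal_vanishingIdeal_singleton y hyc' h1' h2'
  obtain ⟨⟨t, ht⟩, hχ⟩ := Groth.Agent.Lib.Helper8.TwistPt.twist_zero k X M hM s hs y hyc' hys
  have hIy : PicF.IsInvertible (ClSub.idealMod (ptI y hyc')) :=
    IdealDual.isInvertible_idealMod _ hcart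
  have hM' : PicF.IsInvertible (CohB1.tensorMod M (ClSub.idealMod (ptI y hyc'))) :=
    GenLocus.isInvertible_tensorMod hM hIy
  obtain ⟨he, -⟩ := euler_eq_add k X hdim.le _ _ hOinv hM' t ht
  have hle := hmin y hyc' hr
  unfold Curv2.deg
  simp only [Nat.cast_one, one_mul]
  have hle' : (Module.finrank k (Coh.HH X (ClSub.quotMod (ptI P hPc)) 0) : ℤ) ≤
      Module.finrank k (Coh.HH X (ClSub.quotMod (ptI y hyc')) 0) := by exact_mod_cast hle
  linarith

section pic
variable [Infinite k] [PicGrp.Law X] (hdim : topologicalKrullDim X = 1)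
  (hO1 : Subsingleton (Coh.HH X (Coh.structureModule X) 1))
  (P : X) (hPc : IsClosed ({P} : Set X)) (hPreg : IsRegularLocalRing (X.presheaf.stalk P))
  (hmin : ∀ (Q : X) (hQc : IsClosed ({Q} : Set X)), IsRegularLocalRing (X.presheaf.stalk Q) →
    Module.finrank k (Coh.HH X (ClSub.quotMod (ptI P hPc)) 0) ≤
      Module.finrank k (Coh.HH X (ClSub.quotMod (ptI Q hQc)) 0))
  (hI : PicF.IsInvertible (ClSub.idealMod (ptI P hPc)))

include hdim hO1 hPreg hmin in
theorem mem_zpowers_nat : ∀ (n : ℕ) (M : X.Modules) (hM : PicF.IsInvertible M),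
    Curv2.deg k X M 1 = n →
      PicGrp.cls M hM ∈ Subgroup.zpowers (PicGrp.cls (ClSub.idealMod (ptI P hPc)) hI) := by
  haveI : IsLocallyNoetherian X := isLocallyNoetherian k X
  -- the degree of the ideal of `P`
  obtain ⟨h1', h2'⟩ := Groth.Agent.Lib.Helper8.LowDeg.maximalIdeal_isPrincipal_of_regular hdim.le P
    (Groth.Agent.Lib.Helper8.NormalPt.ne_genericPoint_of_isClosed hdim P hPc) hPreg
  have hcart := Groth.Agent.Lib.Helper8.PointCartier.isEffCartierIdeal_vanishingIdeal_singleton P hPc h1' h2'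
  obtain ⟨hL, hLinv⟩ := Groth.Agent.Lib.Helper8.PointBundle.exists_inverse X _ hcart
  have hpt : ∀ z ∈ (ptI P hPc).support, IsClosed ({z} : Set X) := by
    intro z hz
    have hz' : z ∈ ((Scheme.IdealSheafData.vanishingIdeal ⟨{P}, hPc⟩).support : Set X) := hz
    rw [Scheme.IdealSheafData.coe_support_vanishingIdeal] at hz'
    have : z = P := hz'
    rw [this]; exact hPc
  have hdegL := Groth.Agent.Lib.Helper8.PointBundle.deg_inverse k X _ hpt _ hL hLinv
  have hdegI : Curv2.deg k X (ClSub.idealMod (ptI P hPc)) 1 =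
      -(Module.finrank k (Coh.HH X (ClSub.quotMod (ptI P hPc)) 0) : ℤ) := by
    have := Groth.Agent.Lib.Helper8.DegGroup.deg_inverse_eq_neg k X hdim.le hI hL hLinv
    rw [hdegL] at this
    linarith
  have hdpos : 0 < Module.finrank k (Coh.HH X (ClSub.quotMod (ptI P hPc)) 0) :=
    Groth.Agent.Lib.Helper8.AbelG1.finrank_quotMod_pos k X P hPc
  intro n
  induction n using Nat.strong_induction_on with
  | _ n ih =>
    intro M hM hdeg
    rcases Nat.eq_zero_or_pos n with hn | hn
    · subst hn
      have h0 : Curv2.deg k X M 1 = 0 := by rw [hdeg]; rfl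
      have htriv := trivial_of_deg_zero k X hdim hO1 hM h0
      rw [(PicGrp.cls_eq_one_iff hM).2 htriv]
      exact Subgroup.one_mem _
    · have hpos : 0 < Curv2.deg k X M 1 := by rw [hdeg]; exact_mod_cast hn
      have hle := le_deg_of_pos k X hdim hO1 P hPc hmin hM hpos
      set N := CohB1.tensorMod M (ClSub.idealMod (ptI P hPc)) with hN
      have hNinv : PicF.IsInvertible N := GenLocus.isInvertible_tensorMod hM hI
      have hdegN : Curv2.deg k X N 1 =
          ((n - Module.finrank k (Coh.HH X (ClSub.quotMod (ptI P hPc)) 0) : ℕ) : ℤ) := by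
        rw [hN, Groth.Agent.Lib.Helper8.DegGroup.deg_tensorMod k X hdim.le hM hI, hdegI, hdeg]
        rw [hdeg] at hle
        have hle' : Module.finrank k (Coh.HH X (ClSub.quotMod (ptI P hPc)) 0) ≤ n := by
          exact_mod_cast hle
        rw [Nat.cast_sub hle']
        ring
      have hNmem := ih _ (by omega) N hNinv hdegN
      have hmul : PicGrp.cls N hNinv =
          PicGrp.cls M hM * PicGrp.cls (ClSub.idealMod (ptI P hPc)) hI := by
        apply Subtype.ext
        rw [PicGrp.cls_mul_cls_val hM hI]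
        rfl
      have : PicGrp.cls M hM =
          PicGrp.cls N hNinv * (PicGrp.cls (ClSub.idealMod (ptI P hPc)) hI)⁻¹ := by
        rw [hmul, mul_inv_cancel_right]
      rw [this]
      exact Subgroup.mul_mem _ hNmem (Subgroup.inv_mem _ (Subgroup.mem_zpowers _))

include hdim hO1 hPreg hmin in
/-- **the Picard group is generated by the ideal of a minimal regular point** -/
theorem mem_zpowers (c : PicLoc.PicSet X) :
    c ∈ Subgroup.zpowers (PicGrp.cls (ClSub.idealMod (ptI P hPc)) hI) := by
  obtain ⟨M, hM, rfl⟩ := PicGrp.exists_eq_cls c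
  by_cases hnn : 0 ≤ Curv2.deg k X M 1
  · exact mem_zpowers_nat k X hdim hO1 P hPc hPreg hmin hI (Curv2.deg k X M 1).toNat M hM
      (Int.toNat_of_nonneg hnn).symm
  · push Not at hnn
    have hD : PicF.IsInvertible (dual M) := isInvertible_dual hM
    have hinv : ClSub.IsInverseOf (dual M) M :=
      Groth.Agent.Lib.Helper8.InvInverse.isInverseOf_dual hM
    have hdegD : Curv2.deg k X (dual M) 1 = - Curv2.deg k X M 1 :=
      Groth.Agent.Lib.Helper8.DegGroup.deg_inverse_eq_neg k X hdim.le hM hD hinv
    have hmem := mem_zpowers_nat k X hdim hO1 P hPc hPreg hmin hI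
      (Curv2.deg k X (dual M) 1).toNat (dual M) hD
      (Int.toNat_of_nonneg (by rw [hdegD]; omega)).symm
    have hcls : (PicGrp.cls (dual M) hD)⁻¹ = PicGrp.cls M hM := PicGrp.cls_inv_eq_cls hD hM hinv
    rw [← hcls]
    exact Subgroup.inv_mem _ hmem

end pic

end Groth.Agent.Lib.Helper8.MinPtsD
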