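import Mathlib
import Groth.Agent.Lib.Helper8.ClifB
import Groth.Agent.Lib.Helper8.PicCl
import Groth.Agent.Lib.Helper8.MinPtsD
import Groth.Agent.Lib.Helper28.TensorPowGen

/-! # Helper8 — ClifC: on a regular integral proper curve over an algebraically closed field, a special
invertible module `P` (`H¹(P) ≠ 0`) admits a closed point `p` (outside any given finite set) and an
invertible `P'` with `P' ⊗ I_p ≅ P` such that `p` is a base point of `P'`, i.e. `h¹(P') = h¹(P) - 1`
(no duality: chain of twists + transfer of base points along stalk isomorphisms) -/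
set_option autoImplicit false
universe u
open CategoryTheory CategoryTheory.Limits AlgebraicGeometry Opposite TopologicalSpace MonoidalCategory
noncomputable section

namespace Groth.Agent.Lib.Helper8.ClifC

open Groth.Agent.Lib.Helper8.EulerK Groth.Agent.Lib.Helper8.KillA
  Groth.Agent.Lib.Helper8.PointDeg Groth.Agent.Lib.Helper8.ClifA Groth.Agent.Lib.Helper8.ClifB
  Groth.Agent.Lib.Helper8.PicCl Groth.Agent.Lib.Helper28

attribute [local instance] Groth.Agent.Lib.Helper8.PicCl.commMonoid

variable (k : Type u) [Field k] (X : Scheme.{u}) [X.Over (Spec (CommRingCat.of k))]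
  [IsIntegral X] [IsProper (X ↘ Spec (CommRingCat.of k))]

omit [IsProper (X ↘ Spec (CommRingCat.of k))] [X.Over (Spec (CommRingCat.of k))] in
/-- the ideal of a regular closed point is invertible and has an invertible inverse -/
theorem point_data (hdim : topologicalKrullDim X = 1) (q : X) (hq : IsClosed ({q} : Set X))
    (hreg : IsRegularLocalRing (X.presheaf.stalk q)) [IsLocallyNoetherian X] :
    PicF.IsInvertible (ClSub.idealMod (ptI q hq)) ∧
      ∃ D : X.Modules, PicF.IsInvertible D ∧ ClSub.IsInverseOf D (ClSub.idealMod (ptI q hq)) := by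
  obtain ⟨h1', h2'⟩ := Groth.Agent.Lib.Helper8.LowDeg.maximalIdeal_isPrincipal_of_regular hdim.le q
    (Groth.Agent.Lib.Helper8.NormalPt.ne_genericPoint_of_isClosed hdim q hq) hreg
  have hcart := Groth.Agent.Lib.Helper8.PointCartier.isEffCartierIdeal_vanishingIdeal_singleton q hq h1' h2'
  obtain ⟨a, b⟩ := Groth.Agent.Lib.Helper8.PointBundle.exists_inverse X (ptI q hq) hcart
  exact ⟨IdealDual.isInvertible_idealMod _ hcart, _, a, b⟩

omit [IsProper (X ↘ Spec (CommRingCat.of k))] in
include k in
/-- there is a closed point outside any finite set -/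
theorem exists_closed_notMem [LocallyOfFiniteType (X ↘ Spec (CommRingCat.of k))]
    [QuasiSeparatedSpace X] (hdim : topologicalKrullDim X = 1) (S : Finset X) :
    ∃ q : X, IsClosed ({q} : Set X) ∧ q ∉ S := by
  classical
  let T : Set X := ⋃ z ∈ S.filter (fun z => IsClosed ({z} : Set X)), {z}
  have hT : IsClosed T := by
    apply Set.Finite.isClosed_biUnion (Finset.finite_toSet _)
    intro z hz
    exact (Finset.mem_filter.1 hz).2
  let W : X.Opens := ⟨Tᶜ, hT.isOpen_compl⟩
  have hgen : genericPoint X ∈ W := by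
    intro hmem
    simp only [T, Set.mem_iUnion, Set.mem_singleton_iff] at hmem
    obtain ⟨z, hz, rfl⟩ := hmem
    exact Groth.Agent.Lib.Helper8.NormalPt.ne_genericPoint_of_isClosed hdim _
      (Finset.mem_filter.1 hz).2 rfl
  obtain ⟨x, hxW, hxc, -⟩ := Groth.Agent.Lib.Helper8.RegPts.exists_closed_point k X W ⟨_, hgen⟩
  refine ⟨x, hxc, fun hxS => hxW ?_⟩
  simp only [T, Set.mem_iUnion, Set.mem_singleton_iff]
  exact ⟨x, Finset.mem_filter.2 ⟨hxS, hxc⟩, rfl⟩

include k in
/-- the inverse twist `P(q)` at a regular closed point -/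
theorem exists_up (hdim : topologicalKrullDim X = 1) (P : X.Modules) (hP : PicF.IsInvertible P)
    (q : X) (hq : IsClosed ({q} : Set X)) (hreg : IsRegularLocalRing (X.presheaf.stalk q)) :
    ∃ Q : X.Modules, PicF.IsInvertible Q ∧
      PicF.cl Q * PicF.cl (ClSub.idealMod (ptI q hq)) = PicF.cl P := by
  haveI : IsLocallyNoetherian X := isLocallyNoetherian k X
  obtain ⟨-, D, hD, hDI⟩ := point_data X hdim q hq hreg
  refine ⟨CohB1.tensorMod P D, GenLocus.isInvertible_tensorMod hP hD, ?_⟩
  rw [← cl_mul_cl, mul_assoc, (isInverseOf_iff D _).1 hDI, mul_one]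

variable [IsAlgClosed k]

/-- **special invertible modules drop `h¹` at a suitable point**: if `H¹(P) ≠ 0` there are a closed
point `p` outside the finite set `S` and an invertible `P'` with `P' ⊗ I_p ≅ P` such that `p` is a base
point of `P'` (equivalently `h¹(P') = h¹(P) - 1`) -/
theorem exists_bp (hdim : topologicalKrullDim X = 1)
    (hreg : ∀ x : X, IsRegularLocalRing (X.presheaf.stalk x)) :
    ∀ (m : ℕ) (P : X.Modules) (_ : PicF.IsInvertible P) (S : Finset X),
      (Curv2.genus k X : ℤ) - 1 - m ≤ Curv2.euler k X P → 1 ≤ hh k P 1 →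
      ∃ (p : X) (hp : IsClosed ({p} : Set X)) (P' : X.Modules), p ∉ S ∧ PicF.IsInvertible P' ∧
        PicF.cl P' * PicF.cl (ClSub.idealMod (ptI p hp)) = PicF.cl P ∧ BP k X P' p hp := by
  classical
  haveI : IsLocallyNoetherian X := isLocallyNoetherian k X
  intro m
  induction m with
  | zero =>
    intro P hP S hχ h1
    obtain ⟨q, hq, hqS⟩ := exists_closed_notMem k X hdim S
    obtain ⟨Q, hQ, hcl⟩ := exists_up k X hdim P hP q hq (hreg q)
    by_cases hbp : BP k X Q q hq
    · exact ⟨q, hq, Q, hqS, hQ, hcl, hbp⟩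
    · exfalso
      rw [cl_mul_cl, cl_eq_iff] at hcl
      obtain ⟨e⟩ := hcl
      obtain ⟨n0, n1⟩ := (twist_numbers k X Q hQ q hq hdim).2 hbp
      have e0 := hh_congr k e 0
      have e1 := hh_congr k e 1
      have hPc := Groth.Agent.Lib.Helper6.K0Op.isCoh_of_isInvertible P hP
      have hQc := Groth.Agent.Lib.Helper6.K0Op.isCoh_of_isInvertible Q hQ
      have χP := Groth.Agent.Lib.Helper8.CurveRR.euler_eq_sub k X hdim.le P hPc.1
      have χQ := Groth.Agent.Lib.Helper8.CurveRR.euler_eq_sub k X hdim.le Q hQc.1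
      have h1Q : Nontrivial (Coh.HH X Q 1) := by
        haveI := finite_HH k X Q hQc 1
        apply Module.nontrivial_of_finrank_pos (R := k)
        unfold hh at n1 e1 h1
        omega
      have hle := Groth.Agent.Lib.Helper8.SpecialB.euler_le_of_h1 k X hdim Q Q hQc hQ (𝟙 Q) h1Q
      unfold hh at n0 n1 e0 e1 h1
      push_cast at hχ
      omega
  | succ m ih =>
    intro P hP S hχ h1
    obtain ⟨q, hq, hqS⟩ := exists_closed_notMem k X hdim S
    obtain ⟨Q, hQ, hcl⟩ := exists_up k X hdim P hP q hq (hreg q)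
    by_cases hbp : BP k X Q q hq
    · exact ⟨q, hq, Q, hqS, hQ, hcl, hbp⟩
    · have hcl' := hcl
      rw [cl_mul_cl, cl_eq_iff] at hcl'
      obtain ⟨e⟩ := hcl'
      obtain ⟨n0, n1⟩ := (twist_numbers k X Q hQ q hq hdim).2 hbp
      have e0 := hh_congr k e 0
      have e1 := hh_congr k e 1
      have hPc := Groth.Agent.Lib.Helper6.K0Op.isCoh_of_isInvertible P hP
      have hQc := Groth.Agent.Lib.Helper6.K0Op.isCoh_of_isInvertible Q hQ
      have χP := Groth.Agent.Lib.Helper8.CurveRR.euler_eq_sub k X hdim.le P hPc.1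
      have χQ := Groth.Agent.Lib.Helper8.CurveRR.euler_eq_sub k X hdim.le Q hQc.1
      have h1Q : 1 ≤ hh k Q 1 := by omega
      have hχQ : (Curv2.genus k X : ℤ) - 1 - m ≤ Curv2.euler k X Q := by
        unfold hh at n0 n1 e0 e1 h1
        push_cast at hχ
        omega
      obtain ⟨p, hp, Q', hpS', hQ', hclQ, hbp'⟩ := ih Q hQ (insert q S) hχQ h1Q
      have hpq : p ≠ q := fun h => hpS' (h ▸ Finset.mem_insert_self _ _)
      have hpS : p ∉ S := fun h => hpS' (Finset.mem_insert_of_mem h)
      obtain ⟨hIq, -⟩ := point_data X hdim q hq (hreg q)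
      refine ⟨p, hp, CohB1.tensorMod Q' (ClSub.idealMod (ptI q hq)), hpS,
        GenLocus.isInvertible_tensorMod hQ' hIq, ?_, ?_⟩
      · rw [← cl_mul_cl, mul_right_comm, hclQ, hcl]
      · obtain ⟨u⟩ := AmpleUnit.nonempty_tensor_unit_iso Q'
        exact BP_tensor_ideal k Q' q hq p hp hpq (BP_of_iso k u p hp hbp')

end Groth.Agent.Lib.Helper8.ClifC
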