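import Mathlib
import Groth.Agent.Lib.Helper8.ClifC
import Groth.Agent.Lib.Helper4.Snapper10

/-! # Helper8 — ClifD: Clifford's inequality without duality. On a regular integral proper curve over an
algebraically closed field: if `P ⊗ J ≅ O`, `h⁰(M ⊗ J) ≥ 1` and `h¹(M) ≥ 1` then
`h⁰(M ⊗ J) + h¹(M) ≤ h¹(P) + 1`; for `P = O`: `h⁰(M) + h¹(M) ≤ g + 1`, i.e. `2 h⁰(M) ≤ deg M + 2`
for special `M` with a section -/
set_option autoImplicit false
universe u
open CategoryTheory CategoryTheory.Limits AlgebraicGeometry Opposite TopologicalSpace MonoidalCategory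
noncomputable section

namespace Groth.Agent.Lib.Helper8.ClifD

open Groth.Agent.Lib.Helper8.EulerK Groth.Agent.Lib.Helper8.KillA
  Groth.Agent.Lib.Helper8.PointDeg Groth.Agent.Lib.Helper8.ClifA Groth.Agent.Lib.Helper8.ClifB
  Groth.Agent.Lib.Helper8.ClifC
  Groth.Agent.Lib.Helper8.PicCl Groth.Agent.Lib.Helper28

attribute [local instance] Groth.Agent.Lib.Helper8.PicCl.commMonoid

section nz
variable {X : Scheme.{u}}

/-- an invertible module on a nonempty scheme is not zero -/
theorem not_isZero_of_isInvertible [Nonempty X] (P : X.Modules) (hP : PicF.IsInvertible P) :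
    ¬ IsZero P := by
  intro hz
  have hs := Groth.Agent.Lib.Helper16.K0Supp.support_of_isZero hz
  obtain ⟨x⟩ := ‹Nonempty X›
  have hx : x ∈ CohB1.support P := by
    intro hsub
    obtain ⟨b⟩ := Groth.Agent.Lib.Helper6.K0Tensor.exists_stalkBasis P
      (Groth.Agent.Lib.Helper6.K0Op.isFinLocFreeOfRank_one_of_isInvertible P hP) x
    exact b.ne_zero 0 (Subsingleton.elim _ _)
  rw [hs] at hx
  exact hx

end nz

variable (k : Type u) [Field k] (X : Scheme.{u}) [X.Over (Spec (CommRingCat.of k))]
  [IsIntegral X] [IsProper (X ↘ Spec (CommRingCat.of k))]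

/-- if `P ⊗ J ≅ O` and `M ⊗ J` has a nonzero section then there is a nonzero map `P → M`, so
`H¹(P) ↠ H¹(M)` -/
theorem h1_le_of_section (hdim : topologicalKrullDim X = 1) (P J M : X.Modules)
    (hP : PicF.IsInvertible P) (hJ : PicF.IsInvertible J) (hM : PicF.IsInvertible M)
    (hPJ : PicF.cl P * PicF.cl J = 1) (s : Coh.structureModule X ⟶ CohB1.tensorMod M J)
    (hs : s ≠ 0) : hh k M 1 ≤ hh k P 1 := by
  have hO := AmpleUnit.isInvertible_structureModule X
  have hD := GenLocus.isInvertible_tensorMod hM hJ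
  haveI : Mono s := Groth.Agent.Lib.Helper8.CurveInv.mono_of_ne_zero hO hD s hs
  let S : ShortComplex X.Modules := ShortComplex.mk s (cokernel.π s) (cokernel.condition s)
  have hS : S.ShortExact :=
    { exact := ShortComplex.exact_cokernel s
      mono_f := inferInstanceAs (Mono s)
      epi_g := inferInstanceAs (Epi (cokernel.π s)) }
  have hT := Groth.Agent.Lib.Helper6.K0Op.shortExact_tensor_of_flat P
    (Groth.Agent.Lib.Helper6.K0Op.isFlat_of_isInvertible P hP) S hS
  haveI : Mono ((DCoh.tensorBi.obj P).map s) := hT.mono_f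
  have hb : PicF.cl (CohB1.tensorMod P (CohB1.tensorMod M J)) = PicF.cl M := by
    rw [← cl_mul_cl, ← cl_mul_cl, mul_left_comm, hPJ, mul_one]
  rw [cl_eq_iff] at hb
  obtain ⟨b₀⟩ := hb
  have b : (DCoh.tensorBi.obj P).obj (CohB1.tensorMod M J) ≅ M := b₀
  obtain ⟨a₀⟩ := AmpleUnit.nonempty_tensor_unit_iso P
  have a : (DCoh.tensorBi.obj P).obj (Coh.structureModule X) ≅ P := a₀
  let φ : P ⟶ M := a.inv ≫ (DCoh.tensorBi.obj P).map s ≫ b.hom
  haveI : Mono ((DCoh.tensorBi.obj P).map s ≫ b.hom) := mono_comp _ _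
  haveI : Mono φ := mono_comp _ _
  have hφ : φ ≠ 0 := by
    intro h0
    haveI : Nonempty X := inferInstance
    apply not_isZero_of_isInvertible P hP
    have hm : Mono (0 : P ⟶ M) := h0 ▸ (inferInstance : Mono φ)
    exact IsZero.of_mono_zero P M
  have hgen := Groth.Agent.Lib.Helper8.CurveInv.genericPoint_notMem_support_cokernel hP hM φ hφ
  have hcP := Groth.Agent.Lib.Helper6.K0Op.isCoh_of_isInvertible P hP
  have hcM := Groth.Agent.Lib.Helper6.K0Op.isCoh_of_isInvertible M hM
  have hsurj := Groth.Agent.Lib.Helper8.SpecialA.HHlin_one_surjective k X hdim.le P M hcP hcM φ hgen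
  haveI := finite_HH k X P hcP 1
  haveI := finite_HH k X M hcM 1
  unfold hh
  have h1 := LinearMap.finrank_range_le (Canon.HHlin k φ 1)
  rw [LinearMap.range_eq_top.2 hsurj, finrank_top] at h1
  exact h1

variable [IsAlgClosed k]

/-- **the general Clifford-type inequality** `h⁰(M ⊗ J) + h¹(M) ≤ h¹(P) + 1` for `P ⊗ J ≅ O`,
`h⁰(M ⊗ J) ≥ 1`, `h¹(M) ≥ 1` -/
theorem clifford_general (hdim : topologicalKrullDim X = 1)
    (hreg : ∀ x : X, IsRegularLocalRing (X.presheaf.stalk x)) :
    ∀ (n : ℕ) (M J P : X.Modules), PicF.IsInvertible M → PicF.IsInvertible J → PicF.IsInvertible P →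
      PicF.cl P * PicF.cl J = 1 → hh k P 1 = n → 1 ≤ hh k (CohB1.tensorMod M J) 0 → 1 ≤ hh k M 1 →
      hh k (CohB1.tensorMod M J) 0 + hh k M 1 ≤ n + 1 := by
  haveI : IsLocallyNoetherian X := isLocallyNoetherian k X
  intro n
  induction n with
  | zero =>
    intro M J P hM hJ hP hPJ hn h0 h1
    exfalso
    have hD := GenLocus.isInvertible_tensorMod hM hJ
    have hcD := Groth.Agent.Lib.Helper6.K0Op.isCoh_of_isInvertible _ hD
    have hnt : Nontrivial (Coh.HH X (CohB1.tensorMod M J) 0) := by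
      haveI := finite_HH k X _ hcD 0
      exact Module.nontrivial_of_finrank_pos (R := k) (by unfold hh at h0; omega)
    obtain ⟨s, hs⟩ := Groth.Agent.Lib.Helper8.CurveRR.exists_section_ne_zero _ hnt
    have hle := h1_le_of_section k X hdim P J M hP hJ hM hPJ s hs
    omega
  | succ n ih =>
    intro M J P hM hJ hP hPJ hn h0 h1
    have hD := GenLocus.isInvertible_tensorMod hM hJ
    have hcD := Groth.Agent.Lib.Helper6.K0Op.isCoh_of_isInvertible _ hD
    have hnt : Nontrivial (Coh.HH X (CohB1.tensorMod M J) 0) := by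
      haveI := finite_HH k X _ hcD 0
      exact Module.nontrivial_of_finrank_pos (R := k) (by unfold hh at h0; omega)
    obtain ⟨s, hs⟩ := Groth.Agent.Lib.Helper8.CurveRR.exists_section_ne_zero _ hnt
    have hle := h1_le_of_section k X hdim P J M hP hJ hM hPJ s hs
    by_cases hD1 : hh k (CohB1.tensorMod M J) 0 = 1
    · omega
    · -- twist `P` up at a point where `h¹` drops
      have hχ : (Curv2.genus k X : ℤ) - 1 -
          (((Curv2.genus k X : ℤ) - 1 - Curv2.euler k X P).toNat : ℕ) ≤ Curv2.euler k X P := by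
        have := Int.self_le_toNat ((Curv2.genus k X : ℤ) - 1 - Curv2.euler k X P)
        omega
      obtain ⟨p, hp, P', -, hP', hcl, hbp⟩ := exists_bp k X hdim hreg _ P hP ∅ hχ (by omega)
      obtain ⟨t0, t1⟩ := (twist_numbers k X P' hP' p hp hdim).1 hbp
      have hcl' := hcl
      rw [cl_mul_cl, cl_eq_iff] at hcl'
      obtain ⟨e⟩ := hcl'
      have e1 := hh_congr k e 1
      obtain ⟨hIp, -⟩ := point_data X hdim p hp (hreg p)
      have hJ' := GenLocus.isInvertible_tensorMod hJ hIp
      have hPJ' : PicF.cl P' * PicF.cl (CohB1.tensorMod J (ClSub.idealMod (ptI p hp))) = 1 := by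
        rw [← cl_mul_cl, ← mul_assoc, mul_right_comm, hcl, hPJ]
      have hDD : PicF.cl (CohB1.tensorMod M (CohB1.tensorMod J (ClSub.idealMod (ptI p hp)))) =
          PicF.cl (CohB1.tensorMod (CohB1.tensorMod M J) (ClSub.idealMod (ptI p hp))) := by
        rw [← cl_mul_cl, ← cl_mul_cl, ← cl_mul_cl, ← cl_mul_cl, mul_assoc]
      rw [cl_eq_iff] at hDD
      obtain ⟨eD⟩ := hDD
      have eD0 := hh_congr k eD 0
      have tD := twist_numbers k X _ hD p hp hdim
      have hD' : hh k (CohB1.tensorMod (CohB1.tensorMod M J) (ClSub.idealMod (ptI p hp))) 0 + 1 ≥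
          hh k (CohB1.tensorMod M J) 0 := by
        by_cases hb : BP k X (CohB1.tensorMod M J) p hp
        · have := (tD.1 hb).1; omega
        · have := (tD.2 hb).1; omega
      have key := ih M (CohB1.tensorMod J (ClSub.idealMod (ptI p hp))) P' hM hJ' hP' hPJ'
        (by omega) (by omega) h1
      omega

/-- **Clifford's inequality without duality**: `h⁰(M) + h¹(M) ≤ g + 1` whenever both are positive -/
theorem clifford (hdim : topologicalKrullDim X = 1)
    (hreg : ∀ x : X, IsRegularLocalRing (X.presheaf.stalk x))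
    (M : X.Modules) (hM : PicF.IsInvertible M) (h0 : 1 ≤ hh k M 0) (h1 : 1 ≤ hh k M 1) :
    hh k M 0 + hh k M 1 ≤ hh k (Coh.structureModule X) 1 + 1 := by
  have hO := AmpleUnit.isInvertible_structureModule X
  obtain ⟨u⟩ := AmpleUnit.nonempty_tensor_unit_iso M
  have u0 := hh_congr k u 0
  have hOO : PicF.cl (Coh.structureModule X) * PicF.cl (Coh.structureModule X) = 1 := by
    rw [← one_def, one_mul]
  have := clifford_general k X hdim hreg _ M (Coh.structureModule X) (Coh.structureModule X)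
    hM hO hO hOO rfl (by omega) h1
  omega

end Groth.Agent.Lib.Helper8.ClifD
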