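import Groth.Agent.Lib.Helper8.G0Sep
import Groth.Agent.Lib.Helper4.IntegralDim
import Groth.Agent.S0223
import Groth.Agent.Lib.Helper16.RS6
import Groth.Agent.Lib.Helper8.H0Field

/-! # Helper8 — a geometrically integral proper curve of arithmetic genus ≤ 0 is smooth -/
set_option autoImplicit false
universe u
open CategoryTheory CategoryTheory.Limits AlgebraicGeometry Opposite TopologicalSpace
noncomputable section

namespace Groth.Agent.Lib.Helper8.PaSmooth

open Groth.Agent.Lib.Helper8.EulerK Groth.Agent.Lib.Helper28 Groth.Agent.Lib.Helper8.PointDeg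
  Groth.Agent.Lib.Helper8.Descend

/-- flat base change of the cohomology of the structure sheaf along a field extension -/
theorem finrank_HH_baseChange (k : Type u) [Field k] (X : Scheme.{u}) [X.Over (Spec (CommRingCat.of k))]
    [CompactSpace X] [QuasiSeparatedSpace X]
    (k' : Type u) [Field k'] [Algebra k k'] (X' : Scheme.{u}) [X'.Over (Spec (CommRingCat.of k'))]
    (g : X' ⟶ X)
    (hpb : IsPullback g (X' ↘ Spec (CommRingCat.of k')) (X ↘ Spec (CommRingCat.of k))
      (Spec.map (CommRingCat.ofHom (algebraMap k k')))) (i : ℕ) :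
    Module.finrank k' (Coh.HH X' (Coh.structureModule X') i) =
      Module.finrank k (Coh.HH X (Coh.structureModule X) i) := by
  obtain ⟨e⟩ := Groth.Agent.S0034.result k k' X X' g hpb (Coh.structureModule X) i
  have e2 := Groth.Agent.S0223.hhCongr k' X' (Groth.Agent.Lib.Helper16.RS.pullbackUnitIso g) i
  rw [← (e ≪≫ₗ e2).finrank_eq, Module.finrank_baseChange]

variable (k : Type u) [Field k] (X : Scheme.{u}) [X.Over (Spec (CommRingCat.of k))]

/-- on an integral proper curve over an algebraically closed field `h⁰(O_X) = 1` -/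
theorem finrank_H0_of_isAlgClosed [IsAlgClosed k] [IsIntegral X]
    [IsProper (X ↘ Spec (CommRingCat.of k))] (hdim : topologicalKrullDim X = 1) :
    Module.finrank k (Coh.HH X (Coh.structureModule X) 0) = 1 := by
  obtain ⟨x, -, hx, -, hQ⟩ := exists_good_point k X hdim ⊤
    ⟨(inferInstance : Nonempty X).some, trivial⟩
  exact Groth.Agent.Lib.Helper8.H0Field.finrank_H0_eq_one (X := X) (k := k) _ 0 hQ

/-- **a geometrically integral proper curve of arithmetic genus at most zero is smooth** -/
theorem smooth_of_pa_le_zero [IsProper (X ↘ Spec (CommRingCat.of k))]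
    [GeometricallyIntegral (X ↘ Spec (CommRingCat.of k))]
    (hdim : topologicalKrullDim X = 1)
    (hpa : 1 - Curv2.euler k X (Coh.structureModule X) ≤ 0) :
    Smooth (X ↘ Spec (CommRingCat.of k)) := by
  let K := AlgebraicClosure k
  let j : Spec (CommRingCat.of K) ⟶ Spec (CommRingCat.of k) :=
    Spec.map (CommRingCat.ofHom (algebraMap k K))
  let f := X ↘ Spec (CommRingCat.of k)
  let X' := pullback f j
  letI : X'.Over (Spec (CommRingCat.of K)) := ⟨pullback.snd f j⟩
  let g : X' ⟶ X := pullback.fst f j
  have hpb : IsPullback g (X' ↘ Spec (CommRingCat.of K)) f j := IsPullback.of_hasPullback f j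
  haveI : IsIntegral X' :=
    GeometricallyIntegral.geometrically_isIntegral (f := f) j g (pullback.snd f j) hpb
  haveI : IsProper (X' ↘ Spec (CommRingCat.of K)) := by
    show IsProper (pullback.snd f j)
    infer_instance
  -- `j` is integral and surjective
  haveI : IsIntegralHom j := by
    rw [IsIntegralHom.SpecMap_iff]
    exact algebraMap_isIntegral_iff.2 (inferInstance : Algebra.IsIntegral k K)
  haveI : Surjective j := by
    constructor
    intro s
    obtain ⟨t⟩ := (inferInstance : Nonempty (PrimeSpectrum K))
    refine ⟨t, ?_⟩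
    haveI : Subsingleton (PrimeSpectrum k) := inferInstance
    exact Subsingleton.elim (α := PrimeSpectrum k) _ _
  haveI : Flat j := by
    rw [Flat.SpecMap_iff]
    exact RingHom.flat_algebraMap_iff.2 (inferInstance : Module.Flat k K)
  have hdim' : topologicalKrullDim X' = 1 := by
    rw [← hdim]
    exact (Groth.Agent.Lib.Helper4.IntegralDim.main g).2 inferInstance
  haveI : CompactSpace X := QuasiCompact.compactSpace_of_compactSpace f
  haveI : QuasiSeparatedSpace X := quasiSeparatedSpace_of_quasiSeparated f
  have key := finrank_HH_baseChange k X K X' g hpb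
  have heul : Curv2.euler K X' (Coh.structureModule X') = Curv2.euler k X (Coh.structureModule X) := by
    unfold Curv2.euler
    congr 1
    funext i
    rw [key i]
  have h0 := finrank_H0_of_isAlgClosed K X' hdim'
  haveI : IsLocallyNoetherian X' := isLocallyNoetherian K X'
  have hcO : Coh.IsCoh (Coh.structureModule X') := Groth.Agent.Lib.Helper6.DevRed.isCoh_structureModule
  have hes := Groth.Agent.Lib.Helper8.CurveRR.euler_eq_sub K X' hdim'.le (Coh.structureModule X') hcO.1
  have hg : Curv2.genus K X' = 0 := by
    unfold Curv2.genus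
    rw [heul] at hes
    omega
  have hsm : Smooth (pullback.snd f j) :=
    Groth.Agent.Lib.Helper8.G0Smooth.smooth_of_genus_zero K X' hdim' hg
  exact MorphismProperty.of_pullback_snd_of_descendsAlong (P := @Smooth)
    (Q := @Surjective ⊓ @Flat ⊓ @QuasiCompact) (f := f) (g := j)
    ⟨⟨inferInstance, inferInstance⟩, inferInstance⟩ hsm

/-- **an integral proper curve of arithmetic genus at most zero with a rational point at which the
local ring is regular is the projective line** -/
theorem exists_iso_P1_of_section [IsIntegral X] [IsProper (X ↘ Spec (CommRingCat.of k))]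
    (hdim : topologicalKrullDim X = 1)
    (hpa : 1 - Curv2.euler k X (Coh.structureModule X) ≤ 0)
    (y : Spec (CommRingCat.of k) ⟶ X) (hy : y ≫ (X ↘ Spec (CommRingCat.of k)) = 𝟙 _)
    (pt : Spec (CommRingCat.of k)) (hreg : IsRegularLocalRing (X.presheaf.stalk (y pt))) :
    ∃ e : X ≅ CohB1.ProjSpace 1 k,
      e.hom ≫ CohB1.ProjSpace.toSpec 1 k = X ↘ Spec (CommRingCat.of k) := by
  haveI : IsLocallyNoetherian X := isLocallyNoetherian k X
  let x : X := y pt
  have hx : IsClosed ({x} : Set X) := Groth.Agent.Lib.Helper8.G0Sep.isClosed_of_section k X y hy pt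
  obtain ⟨h1, h2⟩ := Groth.Agent.Lib.Helper8.LowDeg.maximalIdeal_isPrincipal_of_regular hdim.le x
    (Groth.Agent.Lib.Helper8.NormalPt.ne_genericPoint_of_isClosed hdim x hx) hreg
  have hE := Groth.Agent.Lib.Helper8.PointCartier.isEffCartierIdeal_vanishingIdeal_singleton
    x hx h1 h2
  have hQ : Module.finrank k (Coh.HH X (ClSub.quotMod (ptI x hx)) 0) = 1 := by
    rw [finrank_quotMod_eq_finrank_residueField]
    exact Groth.Agent.Lib.Helper8.G0Sep.finrank_residueField_of_section k X y hy pt
  obtain ⟨hA, hAD⟩ := Groth.Agent.Lib.Helper8.PointBundle.exists_inverse X _ hE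
  have hdegA := Groth.Agent.Lib.Helper8.PointBundle.deg_inverse k X _ (fun z hz => by
      have hz' : z ∈ ((Scheme.IdealSheafData.vanishingIdeal ⟨{x}, hx⟩).support : Set X) := hz
      rw [Scheme.IdealSheafData.coe_support_vanishingIdeal] at hz'
      have : z = x := hz'
      rw [this]; exact hx) _ hA hAD
  rw [hQ] at hdegA
  have hcO : Coh.IsCoh (Coh.structureModule X) :=
    Groth.Agent.Lib.Helper6.DevRed.isCoh_structureModule
  haveI := finite_HH k X _ hcO 1
  have h0 := Groth.Agent.Lib.Helper8.H0Field.finrank_H0_eq_one (X := X) (k := k) _ 0 hQ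
  have hes := Groth.Agent.Lib.Helper8.CurveRR.euler_eq_sub k X hdim.le (Coh.structureModule X) hcO.1
  have hg : Module.finrank k (Coh.HH X (Coh.structureModule X) 1) = 0 := by omega
  have h1' : Subsingleton (Coh.HH X (Coh.structureModule X) 1) :=
    Groth.Agent.Lib.Helper8.CurveRR.subsingleton_of_finrank_eq_zero k hg
  exact Groth.Agent.S6541.result k X hdim h1' _ hA (by simpa using hdegA)

end Groth.Agent.Lib.Helper8.PaSmooth
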