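import Mathlib
import Groth.Agent.Lib.Helper8.ClifD
import Groth.Agent.Lib.Helper8.PaSmooth

/-! # Helper8 — ClifE: consequences of the duality-free Clifford inequality: `2 h⁰(M) ≤ deg M + 2` for
special `M` with a section; slope inequalities for invertible modules of degree `≤ d`, `d ≥ 2g`
(linear (semi)stability) -/
set_option autoImplicit false
universe u
open CategoryTheory CategoryTheory.Limits AlgebraicGeometry Opposite TopologicalSpace MonoidalCategory
noncomputable section

namespace Groth.Agent.Lib.Helper8.ClifE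

open Groth.Agent.Lib.Helper8.EulerK Groth.Agent.Lib.Helper8.ClifD Groth.Agent.Lib.Helper28

variable (k : Type u) [Field k] (X : Scheme.{u}) [X.Over (Spec (CommRingCat.of k))]
  [IsIntegral X] [IsProper (X ↘ Spec (CommRingCat.of k))] [IsAlgClosed k]

/-- Riemann–Roch bookkeeping: `deg M = h⁰(M) - h¹(M) - 1 + g` -/
theorem deg_eq (hdim : topologicalKrullDim X = 1) (M : X.Modules) (hM : PicF.IsInvertible M) :
    Curv2.deg k X M 1 = (hh k M 0 : ℤ) - hh k M 1 - 1 + Curv2.genus k X := by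
  have hO := AmpleUnit.isInvertible_structureModule X
  have hcO := Groth.Agent.Lib.Helper6.K0Op.isCoh_of_isInvertible _ hO
  have hcM := Groth.Agent.Lib.Helper6.K0Op.isCoh_of_isInvertible _ hM
  have h1 := Groth.Agent.Lib.Helper8.CurveRR.euler_eq_sub k X hdim.le _ hcO.1
  have h2 := Groth.Agent.Lib.Helper8.CurveRR.euler_eq_sub k X hdim.le _ hcM.1
  have h3 := Groth.Agent.Lib.Helper8.PaSmooth.finrank_H0_of_isAlgClosed k X hdim
  unfold Curv2.deg Curv2.genus hh
  rw [h1, h2, h3]
  push_cast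
  ring

/-- **Clifford**: `2 h⁰(M) ≤ deg M + 2` for special `M` with a nonzero section -/
theorem clifford_deg (hdim : topologicalKrullDim X = 1)
    (hreg : ∀ x : X, IsRegularLocalRing (X.presheaf.stalk x))
    (M : X.Modules) (hM : PicF.IsInvertible M) (h0 : 1 ≤ hh k M 0) (h1 : 1 ≤ hh k M 1) :
    2 * (hh k M 0 : ℤ) ≤ Curv2.deg k X M 1 + 2 := by
  have hc := clifford k X hdim hreg M hM h0 h1
  have hd := deg_eq k X hdim M hM
  have hg : Curv2.genus k X = hh k (Coh.structureModule X) 1 := rfl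
  rw [hd, hg]
  omega

/-- slope inequality (linear semistability), `d ≥ 2g` -/
theorem slope_le (hdim : topologicalKrullDim X = 1)
    (hreg : ∀ x : X, IsRegularLocalRing (X.presheaf.stalk x))
    (d : ℤ) (hd : 2 * (Curv2.genus k X : ℤ) ≤ d)
    (M : X.Modules) (hM : PicF.IsInvertible M) (m : ℕ) (hm : 1 ≤ m)
    (hsec : m + 1 ≤ Module.finrank k (Coh.HH X M 0)) (hdeg : Curv2.deg k X M 1 ≤ d) :
    d * (m : ℤ) ≤ Curv2.deg k X M 1 * (d - Curv2.genus k X) := by
  have hde := deg_eq k X hdim M hM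
  have hsec' : m + 1 ≤ hh k M 0 := hsec
  by_cases h1 : hh k M 1 = 0
  · rw [h1] at hde
    have hmle : (m : ℤ) ≤ Curv2.deg k X M 1 - Curv2.genus k X := by
      push_cast at hde; omega
    have hg0 : (0 : ℤ) ≤ Curv2.genus k X := Int.natCast_nonneg _
    nlinarith
  · have hcl := clifford_deg k X hdim hreg M hM (by omega) (by omega)
    have h2m : 2 * (m : ℤ) ≤ Curv2.deg k X M 1 := by
      have : ((m : ℤ) + 1) ≤ hh k M 0 := by exact_mod_cast hsec'
      omega
    have hg0 : (0 : ℤ) ≤ Curv2.genus k X := Int.natCast_nonneg _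
    have hm' : (1 : ℤ) ≤ m := by exact_mod_cast hm
    nlinarith

/-- strict slope inequality (linear stability), `d > 2g`, `g ≥ 1` -/
theorem slope_lt (hdim : topologicalKrullDim X = 1)
    (hreg : ∀ x : X, IsRegularLocalRing (X.presheaf.stalk x))
    (hg : 1 ≤ Curv2.genus k X) (d : ℤ) (hd : 2 * (Curv2.genus k X : ℤ) < d)
    (M : X.Modules) (hM : PicF.IsInvertible M) (m : ℕ) (hm : 1 ≤ m)
    (hsec : m + 1 ≤ Module.finrank k (Coh.HH X M 0)) (hdeg : Curv2.deg k X M 1 ≤ d)
    (hlt : Curv2.deg k X M 1 < d ∨ (m : ℤ) < d - Curv2.genus k X) :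
    d * (m : ℤ) < Curv2.deg k X M 1 * (d - Curv2.genus k X) := by
  have hde := deg_eq k X hdim M hM
  have hsec' : m + 1 ≤ hh k M 0 := hsec
  have hg1 : (1 : ℤ) ≤ Curv2.genus k X := by exact_mod_cast hg
  have hm' : (1 : ℤ) ≤ m := by exact_mod_cast hm
  by_cases h1 : hh k M 1 = 0
  · rw [h1] at hde
    have hmle : (m : ℤ) ≤ Curv2.deg k X M 1 - Curv2.genus k X := by
      push_cast at hde; omega
    rcases hlt with hlt | hlt
    · nlinarith
    · nlinarith
  · have hcl := clifford_deg k X hdim hreg M hM (by omega) (by omega)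
    have h2m : 2 * (m : ℤ) ≤ Curv2.deg k X M 1 := by
      have : ((m : ℤ) + 1) ≤ hh k M 0 := by exact_mod_cast hsec'
      omega
    nlinarith

end Groth.Agent.Lib.Helper8.ClifE
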