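import Groth.Agent.Lib.Helper8.PencilA
import Groth.Agent.Lib.Helper8.ClifE
import Groth.Agent.Lib.Helper6.CohLoc

/-! # Helper8 — PencilB: the base-point-free pencil sequence `0 → D⁻¹ → O ⊕ O → D → 0` on an integral
proper curve: the kernel of `(s₁, s₂) : O ⊕ O → D` is `D⁻¹` -/
set_option autoImplicit false
universe u
open CategoryTheory CategoryTheory.Limits AlgebraicGeometry Opposite TopologicalSpace MonoidalCategory
noncomputable section

namespace Groth.Agent.Lib.Helper8.PencilB

open Groth.Agent.Lib.Helper8.EulerK Groth.Agent.Lib.Helper8.ClifD Groth.Agent.Lib.Helper28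
  Groth.Agent.Lib.Helper8.CurveTensor Groth.Agent.Lib.Helper8.CurveDeg

section defs
variable {X : Scheme.{u}} {D J : X.Modules}
  (ε : (DCoh.tensorBi.obj J).obj D ≅ Coh.structureModule X)
  (s₁ s₂ : Coh.structureModule X ⟶ D)

/-- `J ⊗ O → J ⊗ D ≅ O` induced by a section of `D` -/
def jm (s : Coh.structureModule X ⟶ D) :
    (DCoh.tensorBi.obj J).obj (Coh.structureModule X) ⟶ Coh.structureModule X :=
  (DCoh.tensorBi.obj J).map s ≫ ε.hom

/-- the Koszul map `J ⊗ O → O ⊕ O` -/
def kos : (DCoh.tensorBi.obj J).obj (Coh.structureModule X) ⟶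
    Coh.structureModule X ⊞ Coh.structureModule X :=
  biprod.lift (jm ε s₂) (-(jm ε s₁))

theorem kos_desc (hD : PicF.IsInvertible D) : kos ε s₁ s₂ ≫ biprod.desc s₁ s₂ = 0 := by
  unfold kos jm
  rw [biprod.lift_desc, Preadditive.neg_comp, Category.assoc, Category.assoc,
    Groth.Agent.Lib.Helper8.PencilA.swap J D hD ε.hom s₁ s₂]
  exact add_neg_cancel _

/-- the lift of the Koszul map to the kernel -/
def kosK (hD : PicF.IsInvertible D) : (DCoh.tensorBi.obj J).obj (Coh.structureModule X) ⟶
    kernel (biprod.desc s₁ s₂) :=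
  kernel.lift _ (kos ε s₁ s₂) (kos_desc ε s₁ s₂ hD)

end defs

section main
variable (k : Type u) [Field k] (X : Scheme.{u}) [X.Over (Spec (CommRingCat.of k))]
  [IsIntegral X] [IsProper (X ↘ Spec (CommRingCat.of k))]

omit [IsProper (X ↘ Spec (CommRingCat.of k))] [X.Over (Spec (CommRingCat.of k))] in
/-- the generic rank of an invertible module is one -/
theorem grank_of_isInvertible (L : X.Modules) (hL : PicF.IsInvertible L) : grank X L = 1 := by
  obtain ⟨b⟩ := Groth.Agent.Lib.Helper6.K0Tensor.exists_stalkBasis L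
    (Groth.Agent.Lib.Helper6.K0Op.isFinLocFreeOfRank_one_of_isInvertible _ hL) (genericPoint X)
  unfold grank
  rw [Module.finrank_eq_card_basis b, Fintype.card_fin]

/-- the split short exact sequence `A → A ⊞ B → B` -/
theorem biprod_shortExact {C : Type*} [Category C] [Abelian C] (A B : C) :
    (ShortComplex.mk (biprod.inl : A ⟶ A ⊞ B) biprod.snd biprod.inl_snd).ShortExact :=
  (ShortComplex.Splitting.ofHasBinaryBiproduct A B).shortExact

variable {X}

include k in
/-- **the pencil sequence**: for an invertible `D` with inverse `J` and two sections generating `D`,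
the Koszul map `J ⊗ O → ker(O ⊕ O → D)` is an isomorphism -/
theorem isIso_kosK (hdim : topologicalKrullDim X ≤ 1) {D J : X.Modules} (hD : PicF.IsInvertible D)
    (hJ : PicF.IsInvertible J) (ε : (DCoh.tensorBi.obj J).obj D ≅ Coh.structureModule X)
    (s₁ s₂ : Coh.structureModule X ⟶ D) (hs₂ : s₂ ≠ 0) [Epi (biprod.desc s₁ s₂)] :
    IsIso (kosK ε s₁ s₂ hD) := by
  haveI : IsLocallyNoetherian X := isLocallyNoetherian k X
  haveI : CompactSpace X := QuasiCompact.compactSpace_of_compactSpace (X ↘ Spec (CommRingCat.of k))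
  haveI : IsNoetherian X := { }
  have hO := AmpleUnit.isInvertible_structureModule X
  have hcO := Groth.Agent.Lib.Helper6.K0Op.isCoh_of_isInvertible _ hO
  have hcD := Groth.Agent.Lib.Helper6.K0Op.isCoh_of_isInvertible _ hD
  have hJO : PicF.IsInvertible ((DCoh.tensorBi.obj J).obj (Coh.structureModule X)) :=
    GenLocus.isInvertible_tensorMod hJ hO
  have hcJO := Groth.Agent.Lib.Helper6.K0Op.isCoh_of_isInvertible _ hJO
  have hcOO : Coh.IsCoh (Coh.structureModule X ⊞ Coh.structureModule X) :=
    Groth.Agent.Lib.Helper6.CohLoc.isCoh_biprod hcO hcO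
  have hcK : Coh.IsCoh (kernel (biprod.desc s₁ s₂)) :=
    Groth.Agent.Lib.Helper6.DevCore.isCoh_kernel _ hcOO hcD
  -- monomorphism
  haveI : Mono s₂ := Groth.Agent.Lib.Helper8.CurveInv.mono_of_ne_zero hO hD s₂ hs₂
  haveI : Mono ((DCoh.tensorBi.obj J).map s₂) := by
    let S : ShortComplex X.Modules := ShortComplex.mk s₂ (cokernel.π s₂) (cokernel.condition s₂)
    have hS : S.ShortExact :=
      { exact := ShortComplex.exact_cokernel s₂
        mono_f := inferInstanceAs (Mono s₂)
        epi_g := inferInstanceAs (Epi (cokernel.π s₂)) }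
    exact (Groth.Agent.Lib.Helper6.K0Op.shortExact_tensor_of_flat J
      (Groth.Agent.Lib.Helper6.K0Op.isFlat_of_isInvertible J hJ) S hS).mono_f
  haveI : Mono (jm ε s₂) := by unfold jm; exact mono_comp _ _
  haveI : Mono (kos ε s₁ s₂) := by
    have : kos ε s₁ s₂ ≫ biprod.fst = jm ε s₂ := biprod.lift_fst _ _
    exact mono_of_mono_fac this
  haveI : Mono (kosK ε s₁ s₂ hD) := by
    have : kosK ε s₁ s₂ hD ≫ kernel.ι _ = kos ε s₁ s₂ := kernel.lift_ι _ _ _
    exact mono_of_mono_fac this
  -- the pencil sequence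
  let T : ShortComplex X.Modules :=
    ShortComplex.mk (kernel.ι (biprod.desc s₁ s₂)) (biprod.desc s₁ s₂) (kernel.condition _)
  have hT : T.ShortExact :=
    { exact := ShortComplex.exact_kernel _
      mono_f := inferInstanceAs (Mono (kernel.ι _))
      epi_g := inferInstanceAs (Epi (biprod.desc s₁ s₂)) }
  have hB := biprod_shortExact (Coh.structureModule X) (Coh.structureModule X)
  -- generic ranks
  have g1 := grank_add (X := X) _ hB hcO hcOO hcO
  have g2 := grank_add (X := X) T hT hcK hcOO hcD
  have gO := grank_structureModule (X := X)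
  have gD := grank_of_isInvertible X D hD
  have gJO := grank_of_isInvertible X _ hJO
  let Q : ShortComplex X.Modules := ShortComplex.mk (kosK ε s₁ s₂ hD) (cokernel.π _)
    (cokernel.condition _)
  have hQ : Q.ShortExact :=
    { exact := ShortComplex.exact_cokernel _
      mono_f := inferInstanceAs (Mono (kosK ε s₁ s₂ hD))
      epi_g := inferInstanceAs (Epi (cokernel.π (kosK ε s₁ s₂ hD))) }
  have hcC := Groth.Agent.Lib.Helper6.DevCore.isCoh_cokernel (kosK ε s₁ s₂ hD) hcJO hcK
  have g3 := grank_add (X := X) Q hQ hcJO hcK hcC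
  have hgen : genericPoint X ∉ CohB1.support (cokernel (kosK ε s₁ s₂ hD)) := by
    apply notMem_support_of_grank_eq_zero _ _ hcC
    dsimp only [T, Q] at g1 g2 g3
    omega
  -- Euler characteristics
  obtain ⟨he, hiso⟩ := euler_eq_add_of_mono k X hdim _ _ hcJO hcK (kosK ε s₁ s₂ hD) hgen
  apply hiso
  have e1 := euler_add k X _ hB hcO hcOO hcO
  have e2 := euler_add k X T hT hcK hcOO hcD
  have d1 := Groth.Agent.Lib.Helper8.DegGroup.deg_tensorMod k X hdim hJ hD
  have d2 : Curv2.deg k X (CohB1.tensorMod J D) 1 = 0 := by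
    have h := euler_congr k ε
    change Curv2.euler k X (CohB1.tensorMod J D) = _ at h
    unfold Curv2.deg
    rw [h]
    simp
  have d3 := Groth.Agent.Lib.Helper8.DegGroup.deg_tensorMod k X hdim hJ hO
  have d4 : Curv2.deg k X (Coh.structureModule X) 1 = 0 := by
    unfold Curv2.deg
    simp
  have e3 : Curv2.euler k X ((DCoh.tensorBi.obj J).obj (Coh.structureModule X)) =
      Curv2.deg k X (CohB1.tensorMod J (Coh.structureModule X)) 1 +
        Curv2.euler k X (Coh.structureModule X) := by
    unfold Curv2.deg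
    simp
    rfl
  have e4 : Curv2.euler k X D = Curv2.deg k X D 1 + Curv2.euler k X (Coh.structureModule X) := by
    unfold Curv2.deg
    simp
  dsimp only [T] at e1 e2
  omega

end main

end Groth.Agent.Lib.Helper8.PencilB
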