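import Mathlib
import Groth.Agent.Lib.Helper8.Dim5
import Groth.Agent.Lib.Helper8.Gor1
import Groth.Agent.Lib.Helper12.CohenStructA
import Groth.Agent.S5784
import Groth.Agent.S0342

/-! # Helper8 — Ex1: existence of dualizing complexes: regular local rings (`A[0]`), power series over
regular local rings, and complete noetherian local rings via the Cohen structure theorem (S0376).
Uses helper12 `CohenStruct.exists_surjective_mvPowerSeries`, `Groth.Agent.S5784` (helper5),
`Groth.Agent.S0342` (helper11). -/

set_option autoImplicit false

universe u

open CategoryTheory CategoryTheory.Limits CategoryTheory.Pretriangulated Opposite DerivedCategory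

attribute [local instance] HasDerivedCategory.standard

namespace Groth.Agent.Lib.Helper8.Bidual

open Groth.Agent.Lib.Helper8

section Regular

/-- a regular local ring has the dualizing complex `A[0]` -/
theorem isDualizing_self_of_isRegularLocalRing (P : Type u) [CommRing P] [IsRegularLocalRing P] :
    Dual.IsDualizing P (Dual.inD P P) := by
  haveI : LocCoh.IsGorensteinLocalRing P := Groth.Agent.S0342.result P
  exact isGorensteinLocalRing_iff_isDualizing_self.1 inferInstance

/-- power series over a regular local ring form a regular local ring -/
theorem isRegularLocalRing_mvPowerSeries (Λ : Type u) [CommRing Λ] [IsLocalRing Λ]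
    [IsRegularRing Λ] (n : ℕ) : IsRegularLocalRing (MvPowerSeries (Fin n) Λ) := by
  haveI : IsRegularRing (MvPowerSeries (Fin n) Λ) := Groth.Agent.S5784.result Λ n
  exact IsRegularLocalRing.of_isRegularRing_of_isLocalRing _

end Regular

section Complete

variable (A : Type u) [CommRing A] [IsLocalRing A] [IsNoetherianRing A]
  [IsAdicComplete (IsLocalRing.maximalIdeal A) A]

/-- S0376: a complete noetherian local ring has a dualizing complex -/
theorem exists_isDualizing_of_complete : ∃ ω : Dual.D A, Dual.IsDualizing A ω := by
  obtain ⟨Λ, i1, n, f, hΛ, hf⟩ :=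
    Groth.Agent.Lib.Helper12.CohenStruct.exists_surjective_mvPowerSeries A
      (IsNoetherian.noetherian _)
  have key : ∀ [IsLocalRing Λ] [IsRegularRing Λ], ∃ ω : Dual.D A, Dual.IsDualizing A ω := by
    intro _ _
    haveI := isRegularLocalRing_mvPowerSeries Λ n
    have hP := isDualizing_self_of_isRegularLocalRing (MvPowerSeries (Fin n) Λ)
    let _ : Algebra (MvPowerSeries (Fin n) Λ) A := f.toAlgebra
    haveI : Module.Finite (MvPowerSeries (Fin n) Λ) A :=
      Module.Finite.of_surjective (Algebra.linearMap (MvPowerSeries (Fin n) Λ) A) hf
    haveI : IsNoetherianRing (MvPowerSeries (Fin n) Λ) := inferInstance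
    exact exists_isDualizing_of_finite _ hP
  rcases hΛ with hfield | hcohen
  · let _ : Field Λ := hfield.toField
    exact key
  · obtain ⟨hdom, hdvr, -, -⟩ := hcohen
    exact key

end Complete

end Groth.Agent.Lib.Helper8.Bidual
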