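import Groth.Agent.Lib.Helper28.PullbackInv2
import Groth.Agent.Lib.Helper29.FreeIso3

/-! # Helper8 — inverse image of a free basis of local sections is a free basis (rank-n generalisation of helper28's `isGen_pbs`) -/
set_option autoImplicit false
universe u
open CategoryTheory CategoryTheory.Limits AlgebraicGeometry Opposite TopologicalSpace
noncomputable section

namespace Groth.Agent.Lib.Helper8.PullBasis

open Groth.Agent.Lib.Helper28 Groth.Agent.Lib.Helper28.QCohLoc Groth.Agent.Lib.Helper28.GenLocus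
  Groth.Agent.Lib.Helper28.PullbackInv Groth.Agent.Lib.Helper29.FreeIso

section Def
variable {Y : Scheme.{u}}

/-- the sections `τ j` freely generate `M` over every open of `U` -/
def IsFreeBasisOn (M : Y.Modules) (U : Y.Opens) {n : ℕ} (τ : Fin n → Γ(M, U)) : Prop :=
  ∀ (W : Y.Opens) (hW : W ≤ U),
    Function.Bijective (fun c : Fin n → Γ(Y, W) => (∑ j, c j • res M hW (τ j) : Γ(M, W)))

theorem IsFreeBasisOn.mono {M : Y.Modules} {U V : Y.Opens} {n : ℕ} {τ : Fin n → Γ(M, U)}
    (h : IsFreeBasisOn M U τ) (hVU : V ≤ U) : IsFreeBasisOn M V (fun j => res M hVU (τ j)) := by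
  intro W hW
  have := h W (hW.trans hVU)
  simp only [res_res]
  exact this

/-- a trivialisation gives a free basis of sections -/
theorem exists_isFreeBasisOn_of_iso (F : Y.Modules) (U : Y.Opens) (n : ℕ)
    (e : F.restrict U.ι ≅ FlatMod.freeMod (↑U) n) :
    ∃ τ : Fin n → Γ(F, U), IsFreeBasisOn F U τ := by
  obtain ⟨τ, hτ, hgen⟩ := exists_isBasisOn_of_iso' F U n e
  refine ⟨τ, fun W hW => ⟨fun c c' hcc => ?_, fun t => ?_⟩⟩
  · have h0 : (∑ j, (c j - c' j) • res F hW (τ j) : Γ(F, W)) = 0 := by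
      simp only [sub_smul, Finset.sum_sub_distrib]
      exact sub_eq_zero.2 hcc
    funext j
    exact sub_eq_zero.1 (hτ.1 W hW (fun j => c j - c' j) h0 j)
  · obtain ⟨c, hc⟩ := hgen W hW t
    exact ⟨c, hc.symm⟩

namespace IsFreeBasisOn

variable {M : Y.Modules} {U : Y.Opens} {n : ℕ} {τ : Fin n → Γ(M, U)} (h : IsFreeBasisOn M U τ)

/-- the coefficients of a section in the basis -/
def coef {V : Y.Opens} (hV : V ≤ U) (y : Γ(M, V)) : Fin n → Γ(Y, V) := ((h V hV).2 y).choose

theorem coef_spec {V : Y.Opens} (hV : V ≤ U) (y : Γ(M, V)) :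
    (∑ j, h.coef hV y j • res M hV (τ j) : Γ(M, V)) = y := ((h V hV).2 y).choose_spec

theorem coef_unique {V : Y.Opens} (hV : V ≤ U) (y : Γ(M, V)) (c : Fin n → Γ(Y, V))
    (hc : (∑ j, c j • res M hV (τ j) : Γ(M, V)) = y) : h.coef hV y = c :=
  (h V hV).1 ((h.coef_spec hV y).trans hc.symm)

theorem coef_add {V : Y.Opens} (hV : V ≤ U) (y y' : Γ(M, V)) :
    h.coef hV (y + y') = h.coef hV y + h.coef hV y' := by
  apply h.coef_unique
  simp only [Pi.add_apply, add_smul, Finset.sum_add_distrib, coef_spec]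

theorem coef_smul {V : Y.Opens} (hV : V ≤ U) (a : Γ(Y, V)) (y : Γ(M, V)) :
    h.coef hV (a • y : Γ(M, V)) = fun j => a * h.coef hV y j := by
  apply h.coef_unique
  simp only [mul_smul]
  rw [← Finset.smul_sum, coef_spec]

theorem coef_res {V V' : Y.Opens} (hV : V ≤ U) (hV' : V' ≤ V) (y : Γ(M, V)) :
    h.coef (hV'.trans hV) (res M hV' y) = fun j => resO hV' (h.coef hV y j) := by
  apply h.coef_unique
  have h1 := congrArg (res M hV') (h.coef_spec hV y)
  rw [res_sum_smul] at h1
  simp only [res_res] at h1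
  exact h1

theorem coef_self (i : Fin n) : h.coef le_rfl (τ i) = fun j => if j = i then 1 else 0 := by
  apply h.coef_unique
  simp only [ite_smul, one_smul, zero_smul, Finset.sum_ite_eq', Finset.mem_univ, if_true]
  exact res_self M (τ i)

end IsFreeBasisOn

end Def


section Pull

variable {X Y : Scheme.{u}} {f : X ⟶ Y} {M : Y.Modules} {U : Y.Opens} {n : ℕ} {τ : Fin n → Γ(M, U)}
  (hτ : IsFreeBasisOn M U τ)

theorem pbs_sum {ι : Type*} (s : Finset ι) (V : Y.Opens) (y : ι → Γ(M, V)) :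
    pbs f M V (∑ j ∈ s, y j) = ∑ j ∈ s, pbs f M V (y j) :=
  app_sum ((Scheme.Modules.pullbackPushforwardAdjunction f).unit.app M) s V y

/-- the `j`-th coefficient of `y`, pulled back to `X` -/
def coefr (j : Fin n) (V : Y.Opens) (y : Γ(M, V)) : Γ(X, cut (f ⁻¹ᵁ U) (f ⁻¹ᵁ V)) :=
  resO (cut_le_preimage V) (f.app (V ⊓ U) (hτ.coef inf_le_right (res M inf_le_left y) j))

theorem coefr_add (j : Fin n) (V : Y.Opens) (y y' : Γ(M, V)) :
    coefr (f := f) hτ j V (y + y') = coefr hτ j V y + coefr hτ j V y' := by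
  unfold coefr
  rw [res_add, hτ.coef_add, Pi.add_apply, map_add]
  exact map_add _ _ _

theorem coefr_smul (j : Fin n) (V : Y.Opens) (a : Γ(Y, V)) (y : Γ(M, V)) :
    coefr (f := f) hτ j V (a • y : Γ(M, V)) = resO (cut_le_left _ _) (f.app V a) * coefr hτ j V y := by
  unfold coefr
  rw [res_smul, hτ.coef_smul, map_mul, app_resO, resO_mul, resO_resO]

theorem coefr_res (j : Fin n) {V V' : Y.Opens} (h : V' ≤ V) (y : Γ(M, V)) :
    coefr (f := f) hτ j V' (res M h y) = resO (cut_mono _ (f.preimage_mono h)) (coefr hτ j V y) := by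
  unfold coefr
  have h1 : res M (inf_le_left : V' ⊓ U ≤ V') (res M h y) =
      res M (inf_le_inf_right U h) (res M (inf_le_left : V ⊓ U ≤ V) y) := by
    rw [res_res, res_res]
  rw [h1, hτ.coef_res inf_le_right (inf_le_inf_right U h), app_resO, resO_resO, resO_resO]

theorem coefr_self (i j : Fin n) :
    coefr (f := f) hτ j U (τ i) = if j = i then 1 else 0 := by
  unfold coefr
  have h1 : res M (inf_le_left : U ⊓ U ≤ U) (τ i) = res M (inf_le_right : U ⊓ U ≤ U) (τ i) := rfl
  have h2 := hτ.coef_res le_rfl (inf_le_right : U ⊓ U ≤ U) (τ i)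
  rw [hτ.coef_self] at h2
  rw [h1, h2]
  have e1 : resO (inf_le_right : U ⊓ U ≤ U) (1 : Γ(Y, U)) = 1 := map_one _
  have e0 : resO (inf_le_right : U ⊓ U ≤ U) (0 : Γ(Y, U)) = 0 := map_zero _
  by_cases hji : j = i
  · simp only [hji, if_true]
    rw [e1, map_one]; exact map_one _
  · simp only [hji, if_false]
    rw [e0, map_zero]; exact map_zero _

/-- the `j`-th coefficient morphism `M ⟶ f_* j_* O` -/
def coefData (j : Fin n) :
    LocalHomData M ((Scheme.Modules.pushforward f).obj (cutMod (f ⁻¹ᵁ U) (Coh.structureModule X))) where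
  B := fun _ => True
  down := fun _ _ _ _ => trivial
  cov := fun _ => ⟨⊤, trivial, trivial⟩
  φ := fun V _ y => coefr hτ j V y
  add := fun V _ y y' => coefr_add hτ j V y y'
  smul := fun V _ a y => by
    refine (coefr_smul hτ j V a y).trans ?_
    exact (cutMod_smul (f ⁻¹ᵁ U) (Coh.structureModule X) (f.app V a) (coefr hτ j V y)).symm
  nat := fun V _ V' h y => coefr_res hτ j h y

/-- the morphism `f^* M ⟶ j_* O` dual to `pbs (τ j)` -/
def dualHom (j : Fin n) : (Scheme.Modules.pullback f).obj M ⟶ cutMod (f ⁻¹ᵁ U) (Coh.structureModule X) :=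
  pbLift f (coefData (f := f) hτ j).hom

theorem dualHom_pbs (j : Fin n) (V : Y.Opens) (y : Γ(M, V)) :
    (dualHom (f := f) hτ j).app (f ⁻¹ᵁ V) (pbs f M V y) = coefr hτ j V y := by
  unfold dualHom
  rw [pbLift_pbs]
  exact (coefData (f := f) hτ j).hom_app V trivial y

/-- `ψ_j(z)` as a function on `W ∩ f⁻¹U` -/
def dualr (j : Fin n) (W : X.Opens) (z : Γ((Scheme.Modules.pullback f).obj M, W)) :
    Γ(X, cut (f ⁻¹ᵁ U) W) :=
  (dualHom (f := f) hτ j).app W z

theorem dualr_add (j : Fin n) (W : X.Opens) (z z' : Γ((Scheme.Modules.pullback f).obj M, W)) :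
    dualr (f := f) hτ j W (z + z') = dualr hτ j W z + dualr hτ j W z' := by
  unfold dualr
  rw [map_add]
  rfl

theorem dualr_smul (j : Fin n) (W : X.Opens) (b : Γ(X, W)) (z : Γ((Scheme.Modules.pullback f).obj M, W)) :
    dualr (f := f) hτ j W (b • z : Γ((Scheme.Modules.pullback f).obj M, W)) =
      resO (cut_le_left _ _) b * dualr hτ j W z := by
  unfold dualr
  rw [Scheme.Modules.Hom.app_smul, cutMod_smul]
  rfl

theorem dualr_res (j : Fin n) {W W' : X.Opens} (h : W' ≤ W) (z : Γ((Scheme.Modules.pullback f).obj M, W)) :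
    dualr (f := f) hτ j W' (res _ h z) = resO (cut_mono _ h) (dualr hτ j W z) := by
  unfold dualr
  rw [app_res, cutMod_res]
  rfl

theorem dualr_pbs (j : Fin n) (V : Y.Opens) (y : Γ(M, V)) :
    dualr (f := f) hτ j (f ⁻¹ᵁ V) (pbs f M V y) = coefr hτ j V y :=
  dualHom_pbs hτ j V y

theorem dualr_zero (j : Fin n) (W : X.Opens) : dualr (f := f) hτ j W 0 = 0 := by
  have h := dualr_add (f := f) hτ j W 0 0
  rw [add_zero] at h
  exact left_eq_add.1 h

theorem dualr_sum (j : Fin n) (W : X.Opens) {ι : Type*} (s : Finset ι)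
    (z : ι → Γ((Scheme.Modules.pullback f).obj M, W)) :
    dualr (f := f) hτ j W (∑ i ∈ s, z i) = ∑ i ∈ s, dualr hτ j W (z i) := by
  classical
  induction s using Finset.induction_on with
  | empty => simpa using dualr_zero hτ j W
  | insert a s ha ih => rw [Finset.sum_insert ha, Finset.sum_insert ha, dualr_add, ih]

/-- `z ↦ ∑ ψ_j(z) • pbs (τ j)` -/
def betaφ (W : X.Opens) (z : Γ((Scheme.Modules.pullback f).obj M, W)) :
    Γ((Scheme.Modules.pullback f).obj M, cut (f ⁻¹ᵁ U) W) :=
  (∑ j, dualr (f := f) hτ j W z • res _ (cut_le_right (f ⁻¹ᵁ U) W) (pbs f M U (τ j)) :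
    Γ((Scheme.Modules.pullback f).obj M, cut (f ⁻¹ᵁ U) W))

theorem betaφ_add (W : X.Opens) (z z' : Γ((Scheme.Modules.pullback f).obj M, W)) :
    betaφ (f := f) hτ W (z + z') = betaφ hτ W z + betaφ hτ W z' := by
  unfold betaφ
  simp only [dualr_add, add_smul, Finset.sum_add_distrib]

theorem betaφ_smul (W : X.Opens) (b : Γ(X, W)) (z : Γ((Scheme.Modules.pullback f).obj M, W)) :
    betaφ (f := f) hτ W (b • z : Γ((Scheme.Modules.pullback f).obj M, W)) =
      (resO (cut_le_left (f ⁻¹ᵁ U) W) b • betaφ hτ W z :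
        Γ((Scheme.Modules.pullback f).obj M, cut (f ⁻¹ᵁ U) W)) := by
  unfold betaφ
  simp only [dualr_smul, mul_smul]
  rw [← Finset.smul_sum]

theorem betaφ_res {W W' : X.Opens} (h : W' ≤ W) (z : Γ((Scheme.Modules.pullback f).obj M, W)) :
    betaφ (f := f) hτ W' (res _ h z) = res _ (cut_mono _ h) (betaφ hτ W z) := by
  unfold betaφ
  rw [res_sum_smul]
  simp only [dualr_res, res_res]

/-- `z ↦ ∑ ψ_j(z) • pbs (τ j)` as local data -/
def cutBeta : LocalHomData ((Scheme.Modules.pullback f).obj M)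
    (cutMod (f ⁻¹ᵁ U) ((Scheme.Modules.pullback f).obj M)) where
  B := fun _ => True
  down := fun _ _ _ _ => trivial
  cov := fun _ => ⟨⊤, trivial, trivial⟩
  φ := fun W _ z => betaφ hτ W z
  add := fun W _ z z' => betaφ_add hτ W z z'
  smul := fun W _ b z => by
    refine (betaφ_smul hτ W b z).trans ?_
    exact (cutMod_smul (f ⁻¹ᵁ U) _ b (betaφ hτ W z)).symm
  nat := fun W _ W' h z => betaφ_res hτ h z

theorem cutUnit_eq_cutBeta :
    (cutUnit (f ⁻¹ᵁ U) ((Scheme.Modules.pullback f).obj M)).hom = (cutBeta (f := f) hτ).hom := by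
  apply pb_hom_ext
  intro V y
  rw [(cutUnit (f ⁻¹ᵁ U) ((Scheme.Modules.pullback f).obj M)).hom_app _ trivial,
    (cutBeta (f := f) hτ).hom_app _ trivial]
  show res _ (cut_le_left (f ⁻¹ᵁ U) (f ⁻¹ᵁ V)) (pbs f M V y) = betaφ hτ (f ⁻¹ᵁ V) (pbs f M V y)
  unfold betaφ
  simp only [dualr_pbs]
  unfold coefr
  have h1 : res M (inf_le_left : V ⊓ U ≤ V) y =
      (∑ j, hτ.coef inf_le_right (res M inf_le_left y) j • res M (inf_le_right : V ⊓ U ≤ U) (τ j) :
        Γ(M, V ⊓ U)) :=
    (hτ.coef_spec inf_le_right _).symm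
  have h2 := congrArg (pbs f M (V ⊓ U)) h1
  rw [pbs_sum] at h2
  simp only [pbs_smul, pbs_res] at h2
  have h3 := congrArg (res _ (cut_le_preimage (f := f) (U := U) V)) h2
  rw [res_res, res_sum_smul] at h3
  simp only [res_res] at h3
  exact h3

include hτ in
/-- **the inverse image of a free basis of sections is a free basis of sections** -/
theorem isFreeBasisOn_pbs :
    IsFreeBasisOn ((Scheme.Modules.pullback f).obj M) (f ⁻¹ᵁ U) (fun j => pbs f M U (τ j)) := by
  intro W hW
  have e : cut (f ⁻¹ᵁ U) W = W := cut_eq _ hW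
  have hle : W ≤ cut (f ⁻¹ᵁ U) W := le_of_eq e.symm
  have hone : ∀ i j : Fin n, dualr (f := f) hτ j W (res _ hW (pbs f M U (τ i))) =
      if j = i then 1 else 0 := by
    intro i j
    rw [dualr_res, dualr_pbs, coefr_self]
    split_ifs
    · exact map_one _
    · exact map_zero _
  have hself : ∀ c : Γ(X, W), resO hle (resO (cut_le_left (f ⁻¹ᵁ U) W) c) = c := by
    intro c
    rw [resO_resO]
    unfold resO
    rw [show (homOfLE (le_refl W)) = 𝟙 W from rfl, op_id, X.presheaf.map_id]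
    rfl
  constructor
  · intro c c' hcc
    funext i
    have h1 := congrArg (dualr (f := f) hτ i W) hcc
    simp only [dualr_sum, dualr_smul, hone, mul_ite, mul_one, mul_zero, Finset.sum_ite_eq,
      Finset.mem_univ, if_true] at h1
    have h2 := congrArg (resO hle) h1
    rwa [hself, hself] at h2
  · intro z
    have h1 := congrArg (fun θ => (Scheme.Modules.Hom.app θ W) z) (cutUnit_eq_cutBeta (f := f) hτ)
    have h2 : res _ (cut_le_left (f ⁻¹ᵁ U) W) z = betaφ hτ W z := by
      have ha := (cutUnit (f ⁻¹ᵁ U) ((Scheme.Modules.pullback f).obj M)).hom_app W trivial z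
      have hb := (cutBeta (f := f) hτ).hom_app W trivial z
      exact ha.symm.trans (h1.trans hb)
    have h3 := congrArg (res _ hle) h2
    unfold betaφ at h3
    rw [res_res, res_self, res_sum_smul] at h3
    simp only [res_res] at h3
    exact ⟨fun j => resO hle (dualr hτ j W z), h3.symm⟩

end Pull

end Groth.Agent.Lib.Helper8.PullBasis
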