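import Groth.Agent.Lib.Helper8.TorBal5

/-!
# Helper8: `Tor` is balanced, as bifunctors
-/

universe u

open CategoryTheory CategoryTheory.Limits MonoidalCategory

namespace Groth.Agent.Lib.Helper8.TorBal6

open Groth.Agent.Lib.Helper8.TorBal1 Groth.Agent.Lib.Helper8.TorBal2
  Groth.Agent.Lib.Helper8.TorBal3 Groth.Agent.Lib.Helper8.TorBal4
  Groth.Agent.Lib.Helper8.TorBal5

section Generic

variable {C : Type*} [Category C]

lemma conj_nat {A A' B B' X X' Y Y' : C} (a : A ≅ X) (a' : A' ≅ X') (β : X ≅ Y) (β' : X' ≅ Y')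
    (b : B ≅ Y) (b' : B' ≅ Y') (p : A ⟶ A') (q : X ⟶ X') (r : Y ⟶ Y') (s : B ⟶ B')
    (h1 : p ≫ a'.hom = a.hom ≫ q) (h2 : q ≫ β'.hom = β.hom ≫ r)
    (h3 : s ≫ b'.hom = b.hom ≫ r) :
    p ≫ (a' ≪≫ β' ≪≫ b'.symm).hom = (a ≪≫ β ≪≫ b.symm).hom ≫ s := by
  simp only [Iso.trans_hom, Iso.symm_hom, Category.assoc]
  rw [← cancel_mono b'.hom]
  simp only [Category.assoc, Iso.inv_hom_id, Category.comp_id]
  rw [h3, Iso.inv_hom_id_assoc, ← Category.assoc, h1, Category.assoc, h2]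

lemma nat_of_mono {A A' B B' X X' Y Y' : C} (a : A ⟶ B) (a' : A' ⟶ B') (j : A ⟶ X)
    (j' : A' ⟶ X') (k : B ⟶ Y) (k' : B' ⟶ Y') [Mono k'] (e : X ⟶ Y) (e' : X' ⟶ Y')
    (p : A ⟶ A') (s : B ⟶ B') (q : X ⟶ X') (r : Y ⟶ Y')
    (ha : a ≫ k = j ≫ e) (ha' : a' ≫ k' = j' ≫ e') (hj : p ≫ j' = j ≫ q)
    (hk : s ≫ k' = k ≫ r) (he : q ≫ e' = e ≫ r) :
    p ≫ a' = a ≫ s := by
  rw [← cancel_mono k']
  calc (p ≫ a') ≫ k' = (p ≫ j') ≫ e' := by rw [Category.assoc, ha', Category.assoc]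
    _ = j ≫ e ≫ r := by rw [hj, Category.assoc, he]
    _ = (a ≫ k) ≫ r := by rw [ha, Category.assoc]
    _ = (a ≫ s) ≫ k' := by rw [Category.assoc, Category.assoc, hk]

end Generic

variable (R : Type u) [CommRing R]

/-- a natural symmetry of `B R n` -/
structure BalData (n : ℕ) where
  iso (M N : ModuleCat.{u} R) : ((B R n).obj M).obj N ≅ ((B R n).obj N).obj M
  nat₁ {M M' : ModuleCat.{u} R} (f : M ⟶ M') (N : ModuleCat.{u} R) :
    ((B R n).map f).app N ≫ (iso M' N).hom = (iso M N).hom ≫ ((B R n).obj N).map f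
  nat₂ (M : ModuleCat.{u} R) {N N' : ModuleCat.{u} R} (g : N ⟶ N') :
    ((B R n).obj M).map g ≫ (iso M N').hom = (iso M N).hom ≫ ((B R n).map g).app M

variable {R} in
/-- the symmetry as an isomorphism of bifunctors -/
noncomputable def BalData.toIso {n : ℕ} (b : BalData R n) : B R n ≅ (B R n).flip :=
  NatIso.ofComponents
    (fun M => NatIso.ofComponents (fun N => b.iso M N) (fun g => b.nat₂ M g))
    (fun f => by
      apply NatTrans.ext
      funext N
      exact b.nat₁ f N)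

/-- degree zero -/
noncomputable def bal0 : BalData R 0 where
  iso M N := h0 R M N ≪≫ β_ M N ≪≫ (h0 R N M).symm
  nat₁ {M M'} f N := conj_nat (h0 R M N) (h0 R M' N) (β_ M N) (β_ M' N) (h0 R N M) (h0 R N M')
    _ _ _ _ (h0_natural_left R f N) (BraidedCategory.braiding_naturality_left f N)
    (h0_natural_right R N f)
  nat₂ M {N N'} g := conj_nat (h0 R M N) (h0 R M N') (β_ M N) (β_ M N') (h0 R N M) (h0 R N' M)
    _ _ _ _ (h0_natural_right R M g) (BraidedCategory.braiding_naturality_right M g)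
    (h0_natural_left R g M)

lemma exists_b1 (M N : ModuleCat.{u} R) :
    ∃ a : ((B R 1).obj M).obj N ≅ ((B R 1).obj N).obj M,
      a.hom ≫ j₁ R N M = j₂ R M N ≫ (β_ M ((K R).obj N)).hom :=
  IsKer.exists_iso (isKer_j₂ R M N) (isKer_j₁ R N M) (β_ M ((K R).obj N)) (β_ M ((Φ R).obj N))
    (BraidedCategory.braiding_naturality_right M ((ι R).app N))

/-- the symmetry in degree one -/
noncomputable def b1 (M N : ModuleCat.{u} R) :
    ((B R 1).obj M).obj N ≅ ((B R 1).obj N).obj M := (exists_b1 R M N).choose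

lemma b1_spec (M N : ModuleCat.{u} R) :
    (b1 R M N).hom ≫ j₁ R N M = j₂ R M N ≫ (β_ M ((K R).obj N)).hom :=
  (exists_b1 R M N).choose_spec

/-- degree one -/
noncomputable def bal1 : BalData R 1 where
  iso M N := b1 R M N
  nat₁ {M M'} f N := nat_of_mono (b1 R M N).hom (b1 R M' N).hom (j₂ R M N) (j₂ R M' N)
    (j₁ R N M) (j₁ R N M') (β_ M ((K R).obj N)).hom (β_ M' ((K R).obj N)).hom _ _ _ _
    (b1_spec R M N) (b1_spec R M' N) (j₂_natural_left R f N) (j₁_natural_right R N f)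
    (BraidedCategory.braiding_naturality_left f ((K R).obj N))
  nat₂ M {N N'} g := nat_of_mono (b1 R M N).hom (b1 R M N').hom (j₂ R M N) (j₂ R M N')
    (j₁ R N M) (j₁ R N' M) (β_ M ((K R).obj N)).hom (β_ M ((K R).obj N')).hom _ _ _ _
    (b1_spec R M N) (b1_spec R M N') (j₂_natural_right R M g) (j₁_natural_left R g M)
    (BraidedCategory.braiding_naturality_right M ((K R).map g))

/-- the inductive step -/
noncomputable def balStep (n : ℕ) (b : BalData R (n + 1)) : BalData R (n + 2) where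
  iso M N := (σ R n M).app N ≪≫ b.iso M ((K R).obj N) ≪≫ (asIso (δ R (n + 1) N M)).symm
  nat₁ {M M'} f N := conj_nat ((σ R n M).app N) ((σ R n M').app N) (b.iso M ((K R).obj N))
    (b.iso M' ((K R).obj N)) (asIso (δ R (n + 1) N M)) (asIso (δ R (n + 1) N M'))
    _ _ _ _ (σ_natural R n f N) (b.nat₁ f ((K R).obj N)) (δ_natural_right R (n + 1) N f).symm
  nat₂ M {N N'} g := conj_nat ((σ R n M).app N) ((σ R n M).app N') (b.iso M ((K R).obj N))
    (b.iso M ((K R).obj N')) (asIso (δ R (n + 1) N M)) (asIso (δ R (n + 1) N' M))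
    _ _ _ _ ((σ R n M).hom.naturality g) (b.nat₂ M ((K R).map g))
    (δ_natural_left R (n + 1) g M).symm

/-- the symmetry in all degrees -/
noncomputable def bal : ∀ n : ℕ, BalData R n
  | 0 => bal0 R
  | 1 => bal1 R
  | n + 2 => balStep R n (bal (n + 1))

theorem main (n : ℕ) :
    Nonempty (Tor (ModuleCat.{u} R) n ≅ (Tor (ModuleCat.{u} R) n).flip) :=
  ⟨torIso R n ≪≫ (bal R n).toIso ≪≫ (flipFunctor _ _ _).mapIso (torIso R n).symm⟩

end Groth.Agent.Lib.Helper8.TorBal6
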