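import Groth.Agent.Lib.Helper8.GCls
import Mathlib.Algebra.Category.Grp.EpiMono
import Mathlib.Algebra.Category.Grp.Abelian

/-!
# Helper8: elementwise homology classes in cochain complexes of abelian groups
-/

universe u

open CategoryTheory CategoryTheory.Limits HomologicalComplex

namespace Groth.Agent.Lib.Helper8.AbEl

open Groth.Agent.Lib.Helper8.GCls

/-- `ℤ` in universe `u` -/
abbrev Zu : AddCommGrpCat.{u} := AddCommGrpCat.of (ULift.{u} ℤ)

/-- the morphism `ℤ ⟶ X` attached to an element -/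
def el {X : AddCommGrpCat.{u}} (x : X) : Zu.{u} ⟶ X :=
  AddCommGrpCat.ofHom ((zmultiplesHom X x).comp AddEquiv.ulift.toAddMonoidHom)

@[simp]
lemma el_one {X : AddCommGrpCat.{u}} (x : X) : (el x).hom (ULift.up 1) = x := by
  change (1 : ℤ) • x = x
  exact one_zsmul x

lemma el_ext {X : AddCommGrpCat.{u}} {f g : Zu.{u} ⟶ X}
    (h : f.hom (ULift.up 1) = g.hom (ULift.up 1)) : f = g := by
  apply AddCommGrpCat.hom_ext
  have : f.hom.comp AddEquiv.ulift.symm.toAddMonoidHom =
      g.hom.comp AddEquiv.ulift.symm.toAddMonoidHom := by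
    apply AddMonoidHom.ext_int
    exact h
  ext ⟨n⟩
  exact DFunLike.congr_fun this n

lemma el_comp {X Y : AddCommGrpCat.{u}} (x : X) (f : X ⟶ Y) : el x ≫ f = el (f.hom x) := by
  apply el_ext
  change f.hom ((el x).hom (ULift.up 1)) = _
  rw [el_one, el_one]

lemma el_eq_iff {X : AddCommGrpCat.{u}} (x y : X) : el x = el y ↔ x = y := by
  constructor
  · intro h
    have := congrArg (fun f => f.hom (ULift.up 1)) h
    exact (el_one x).symm.trans (this.trans (el_one y))
  · rintro rfl
    rfl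

lemma el_zero {X : AddCommGrpCat.{u}} : el (0 : X) = 0 := by
  apply el_ext
  rw [el_one]
  rfl

lemma el_add {X : AddCommGrpCat.{u}} (x y : X) : el (x + y) = el x + el y := by
  apply el_ext
  change _ = (el x).hom (ULift.up 1) + (el y).hom (ULift.up 1)
  rw [el_one, el_one, el_one]

lemma exists_of_epi {A' : AddCommGrpCat.{u}} (π : A' ⟶ Zu.{u}) [Epi π] :
    ∃ a : A', π.hom a = ULift.up 1 :=
  (AddCommGrpCat.epi_iff_surjective π).1 inferInstance _

lemma el_apply {X : AddCommGrpCat.{u}} {A' : AddCommGrpCat.{u}} (f : A' ⟶ X) (a : A') :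
    el a ≫ f = el (f.hom a) := el_comp a f

variable (A : CochainComplex AddCommGrpCat.{u} ℤ) {j : ℤ}

lemma el_d (x : A.X j) (hx : (A.d j (j + 1)).hom x = 0) : el x ≫ A.d j (j + 1) = 0 := by
  rw [el_comp, hx, el_zero]

/-- the homology class of a cycle -/
noncomputable def cls (x : A.X j) (hx : (A.d j (j + 1)).hom x = 0) : A.homology j :=
  (gcls A (el x) (el_d A x hx)).hom (ULift.up 1)

lemma el_cls (x : A.X j) (hx : (A.d j (j + 1)).hom x = 0) :
    el (cls A x hx) = gcls A (el x) (el_d A x hx) := by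
  apply el_ext
  rw [el_one]
  rfl

lemma cls_surjective (h : A.homology j) :
    ∃ (x : A.X j) (hx : (A.d j (j + 1)).hom x = 0), cls A x hx = h := by
  obtain ⟨P', π, hπ, x, hx, hh⟩ := exists_gcls_refinement (K := A) (el h)
  obtain ⟨a, ha⟩ := exists_of_epi π
  have hxa : (A.d j (j + 1)).hom (x.hom a) = 0 := by
    have := congrArg (fun f => f.hom a) hx
    simpa using this
  refine ⟨x.hom a, hxa, ?_⟩
  rw [← el_eq_iff, el_cls]
  have h1 : el a ≫ π = el (ULift.up 1) := by rw [el_comp, ha]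
  have h2 : el (ULift.up (1 : ℤ)) = 𝟙 Zu.{u} := by
    apply el_ext
    rw [el_one]
    rfl
  have h3 : el h = el a ≫ gcls A x hx := by
    rw [← hh, ← Category.assoc, h1, h2, Category.id_comp]
  rw [h3, precomp_gcls]
  exact gcls_congr (el_comp a x).symm _

lemma cls_eq_zero_iff (i : ℤ) (hi : i + 1 = j) (x : A.X j) (hx : (A.d j (j + 1)).hom x = 0) :
    cls A x hx = 0 ↔ ∃ y : A.X i, (A.d i j).hom y = x := by
  rw [← el_eq_iff, el_cls, el_zero, gcls_eq_zero_iff i hi]
  constructor
  · rintro ⟨P', π, hπ, y, hy⟩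
    obtain ⟨a, ha⟩ := exists_of_epi π
    refine ⟨y.hom a, ?_⟩
    have := congrArg (fun f => f.hom a) hy
    simp only [AddCommGrpCat.hom_comp, AddMonoidHom.coe_comp, Function.comp_apply] at this
    rw [ha, el_one] at this
    exact this.symm
  · rintro ⟨y, rfl⟩
    exact ⟨Zu, 𝟙 _, inferInstance, el y, by rw [Category.id_comp, el_comp]⟩

lemma cls_add (x y : A.X j) (hx : (A.d j (j + 1)).hom x = 0) (hy : (A.d j (j + 1)).hom y = 0) :
    cls A (x + y) (by rw [map_add, hx, hy, add_zero]) = cls A x hx + cls A y hy := by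
  rw [← el_eq_iff, el_add, el_cls, el_cls, el_cls, ← gcls_add]
  exact gcls_congr (el_add x y) _

lemma cls_boundary (i : ℤ) (hi : i + 1 = j) (y : A.X i) :
    cls A ((A.d i j).hom y) (by
      have := congrArg (fun f => f.hom y) (A.d_comp_d i j (j + 1))
      exact this) = 0 :=
  (cls_eq_zero_iff A i hi _ _).2 ⟨y, rfl⟩

variable {A} in
lemma homologyMap_cls {B : CochainComplex AddCommGrpCat.{u} ℤ} (φ : A ⟶ B) (x : A.X j)
    (hx : (A.d j (j + 1)).hom x = 0) :
    (homologyMap φ j).hom (cls A x hx) = cls B ((φ.f j).hom x) (by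
      have := congrArg (fun f => f.hom x) (φ.comm j (j + 1))
      simp only [AddCommGrpCat.hom_comp, AddMonoidHom.coe_comp, Function.comp_apply] at this
      rw [this, hx, map_zero]) := by
  rw [← el_eq_iff, ← el_comp, el_cls, el_cls, gcls_comp_homologyMap]
  exact gcls_congr (el_comp x (φ.f j)) _

end Groth.Agent.Lib.Helper8.AbEl
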