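import Groth.Prelude.Def_CohCx
import Groth.Prelude.Def_FreeSh
import Groth.Agent.Lib.Helper8.DSingleHom
import Mathlib.CategoryTheory.Sites.LocallyBijective
import Mathlib.CategoryTheory.Sites.EpiMono

/-!
# Helper8: sheafification of `U ↦ H^q(U, K)` is `H^q(K)` (S0931)
-/

universe u

open CategoryTheory CategoryTheory.Limits Opposite

namespace Groth.Agent.Lib.Helper8.SheafifyHDU

open Groth.Agent.Lib.Helper8 DSingleHom

variable {C : Type u} [SmallCategory C] {J : GrothendieckTopology C}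

/-- an epimorphism onto `ℤ_U` locally admits sections through which the maps `ℤ_V ⟶ ℤ_U` factor -/
lemma exists_local_sections {U : C} {P' : Sheaf J AddCommGrpCat.{u}}
    (π : P' ⟶ CohCx.freeSheaf J U) [Epi π] :
    ∃ R ∈ J U, ∀ ⦃V : C⦄ (f : V ⟶ U), R.arrows f →
      ∃ p : CohCx.freeSheaf J V ⟶ P', p ≫ π = CohCx.freeSheafMap J f := by
  have hπ : Sheaf.IsLocallySurjective π := (Sheaf.isLocallySurjective_iff_epi' _ π).2 inferInstance
  refine ⟨Presheaf.imageSieve π.hom (CohFree.gen J U), hπ.imageSieve_mem _, ?_⟩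
  intro V f hf
  obtain ⟨x, hx⟩ := hf
  refine ⟨CohFree.ofSect J V P' x, ?_⟩
  apply (CohFree.homEquivSect J V _).injective
  rw [CohFree.homEquivSect_apply, CohFree.homEquivSect_apply]
  have h1 : CohFree.evalGen J V _ (CohCx.freeSheafMap J f) =
      ((CohCx.freeSheaf J U).obj.map f.op).hom (CohFree.gen J U) := by
    have := CohFree.evalGen_freeSheafMap_comp J f _ (𝟙 (CohCx.freeSheaf J U))
    rw [Category.comp_id] at this
    exact this
  rw [h1, ← hx]
  change (π.hom.app (op V)).hom (CohFree.evalGen J V P' (CohFree.ofSect J V P' x)) = _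
  rw [CohFree.evalGen_ofSect]

variable [HasDerivedCategory.{u} (Sheaf J AddCommGrpCat.{u})]
  (K : DerivedCategory (Sheaf J AddCommGrpCat.{u})) (q : ℤ)

/-- `H⁰(K⟦q⟧) ≅ H^q(K)` -/
noncomputable def sh : (DerivedCategory.homologyFunctor (Sheaf J AddCommGrpCat.{u}) 0).obj (K⟦q⟧) ≅
    CohCx.HD K q :=
  ((DerivedCategory.homologyFunctor (Sheaf J AddCommGrpCat.{u}) 0).shiftIso q 0 q (add_zero q)).app K

/-- `Hom(ℤ_U[0], K⟦q⟧) → Hom(ℤ_U, H^q K)` -/
noncomputable def θq (U : C) (φ : CohCx.HDU K q U) : CohCx.freeSheaf J U ⟶ CohCx.HD K q :=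
  θ (P := CohCx.freeSheaf J U) φ ≫ (sh K q).hom

lemma θq_add (U : C) (φ ψ : CohCx.HDU K q U) : θq K q U (φ + ψ) = θq K q U φ + θq K q U ψ := by
  unfold θq
  rw [← Preadditive.add_comp]
  congr 1
  exact θ_add (P := CohCx.freeSheaf J U) φ ψ

lemma θq_res {U V : C} (f : V ⟶ U) (φ : CohCx.HDU K q U) :
    θq K q V (CohCx.HDUres K q f φ) = CohCx.freeSheafMap J f ≫ θq K q U φ := by
  unfold θq
  rw [← Category.assoc]
  congr 1
  exact θ_precomp (CohCx.freeSheafMap J f) (P := CohCx.freeSheaf J U) φ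

lemma θq_eq_zero_iff (U : C) (φ : CohCx.HDU K q U) :
    θq K q U φ = 0 ↔ θ (P := CohCx.freeSheaf J U) φ = 0 := by
  unfold θq
  constructor
  · intro h
    rw [← cancel_mono (sh K q).hom, h, zero_comp]
  · intro h
    rw [h, zero_comp]

/-- the comparison map on sections -/
noncomputable def αU (U : C) : CohCx.HDU K q U →+ (CohCx.HD K q).obj.obj (op U) :=
  (CohFree.evalGen J U (CohCx.HD K q)).comp
    (AddMonoidHom.mk' (θq K q U) (θq_add K q U))

lemma αU_apply (U : C) (φ : CohCx.HDU K q U) :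
    αU K q U φ = CohFree.evalGen J U (CohCx.HD K q) (θq K q U φ) := rfl

lemma αU_res {U V : C} (f : V ⟶ U) (φ : CohCx.HDU K q U) :
    αU K q V (CohCx.HDUres K q f φ) = ((CohCx.HD K q).obj.map f.op).hom (αU K q U φ) := by
  rw [αU_apply, αU_apply, θq_res, CohFree.evalGen_freeSheafMap_comp]

/-- the comparison map of presheaves -/
noncomputable def α : CohCx.HDUPresheaf K q ⟶ (CohCx.HD K q).obj where
  app U := AddCommGrpCat.ofHom (αU K q (unop U))
  naturality U V f := by
    ext φ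
    exact αU_res K q f.unop φ

lemma α_app_apply (U : C) (φ : CohCx.HDU K q U) :
    ((α K q).app (op U)).hom φ = αU K q U φ := rfl

lemma locally_zero (U : C) (φ : CohCx.HDU K q U) (h : αU K q U φ = 0) :
    ∃ R ∈ J U, ∀ ⦃V : C⦄ (f : V ⟶ U), R.arrows f → CohCx.HDUres K q f φ = 0 := by
  have h1 : θq K q U φ = 0 := by
    apply (CohFree.homEquivSect J U _).injective
    rw [CohFree.homEquivSect_apply, map_zero]
    exact h
  rw [θq_eq_zero_iff] at h1
  let φ' : DerivedCategory.Q.obj (sg (CohCx.freeSheaf J U)) ⟶ K⟦q⟧ := φ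
  obtain ⟨P', π, hπ, hz⟩ := exists_epi_comp_eq_zero φ' h1
  obtain ⟨R, hR, hRf⟩ := exists_local_sections π
  refine ⟨R, hR, fun V f hf => ?_⟩
  obtain ⟨p, hp⟩ := hRf f hf
  have key : DerivedCategory.Q.map (sgMap (p ≫ π)) ≫ φ' = 0 := by
    have e : sgMap (p ≫ π) = sgMap p ≫ sgMap π := Functor.map_comp _ _ _
    rw [e, Functor.map_comp, Category.assoc, hz, comp_zero]
  rw [hp] at key
  exact key

instance : Presheaf.IsLocallyInjective J (α K q) where
  equalizerSieve_mem {X} x y hxy := by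
    obtain ⟨U⟩ := X
    let x' : CohCx.HDU K q U := x
    let y' : CohCx.HDU K q U := y
    have hxy' : αU K q U x' = αU K q U y' := hxy
    obtain ⟨R, hR, hRf⟩ := locally_zero K q U (x' - y') (by rw [map_sub, hxy', sub_self])
    refine J.superset_covering ?_ hR
    intro V f hf
    have := hRf f hf
    rw [map_sub, sub_eq_zero] at this
    exact this

instance : Presheaf.IsLocallySurjective J (α K q) where
  imageSieve_mem {U} s := by
    let t : CohCx.freeSheaf J U ⟶
        (DerivedCategory.homologyFunctor (Sheaf J AddCommGrpCat.{u}) 0).obj (K⟦q⟧) :=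
      CohFree.ofSect J U (CohCx.HD K q) s ≫ (sh K q).inv
    obtain ⟨P', π, hπ, φ', hφ'⟩ := exists_epi_lift t
    obtain ⟨R, hR, hRf⟩ := exists_local_sections π
    refine J.superset_covering ?_ hR
    intro V f hf
    obtain ⟨p, hp⟩ := hRf f hf
    let φV : CohCx.HDU K q V := DerivedCategory.Q.map (sgMap p) ≫ φ'
    refine ⟨φV, ?_⟩
    change αU K q V φV = _
    have h1 : θq K q V φV = CohCx.freeSheafMap J f ≫ CohFree.ofSect J U (CohCx.HD K q) s := by
      unfold θq
      have : θ (P := CohCx.freeSheaf J V) φV = p ≫ π ≫ t := by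
        rw [← hφ']
        exact θ_precomp p φ'
      rw [this, ← Category.assoc p, hp]
      simp only [t, Category.assoc, Iso.inv_hom_id, Category.comp_id]
    rw [αU_apply, h1, CohFree.evalGen_freeSheafMap_comp, CohFree.evalGen_ofSect]

theorem main :
    Nonempty ((presheafToSheaf J AddCommGrpCat.{u}).obj (CohCx.HDUPresheaf K q) ≅ CohCx.HD K q) := by
  have hW : J.W (α K q) := J.W_of_isLocallyBijective (α K q)
  rw [J.W_iff] at hW
  exact ⟨asIso ((presheafToSheaf J AddCommGrpCat.{u}).map (α K q)) ≪≫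
    asIso ((sheafificationAdjunction J AddCommGrpCat.{u}).counit.app (CohCx.HD K q))⟩

end Groth.Agent.Lib.Helper8.SheafifyHDU
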