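import Groth.Prelude.Def_CohCx
import Groth.Prelude.Def_FreeSh
import Groth.Agent.Lib.Helper8.DSingleHom
import Groth.Agent.Lib.Helper8.SheafifyHDU

/-!
# Helper8 — `U ↦ Hom_{D}(ℤ_U, K[q])` sheafifies to `H^q(K)`: universe-general form of the local
statements of `SheafifyHDU` (derived category in any universe)
-/

set_option autoImplicit false

universe w u

open CategoryTheory CategoryTheory.Limits Opposite

namespace Groth.Agent.Lib.Helper8.AbHDU

open Groth.Agent.Lib.Helper8 DSingleHom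

variable {C : Type u} [SmallCategory C] {J : GrothendieckTopology C}
  [HasDerivedCategory.{w} (Sheaf J AddCommGrpCat.{u})]
  (K : DerivedCategory (Sheaf J AddCommGrpCat.{u})) (q : ℤ)

/-- `H⁰(K⟦q⟧) ≅ H^q(K)` -/
noncomputable def sh : (DerivedCategory.homologyFunctor (Sheaf J AddCommGrpCat.{u}) 0).obj (K⟦q⟧) ≅
    CohCx.HD K q :=
  ((DerivedCategory.homologyFunctor (Sheaf J AddCommGrpCat.{u}) 0).shiftIso q 0 q (add_zero q)).app K

/-- `Hom(ℤ_U[0], K⟦q⟧) → Hom(ℤ_U, H^q K)` -/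
noncomputable def θq (U : C) (φ : CohCx.HDU K q U) : CohCx.freeSheaf J U ⟶ CohCx.HD K q :=
  θ (P := CohCx.freeSheaf J U) φ ≫ (sh K q).hom

lemma θq_add (U : C) (φ ψ : CohCx.HDU K q U) : θq K q U (φ + ψ) = θq K q U φ + θq K q U ψ := by
  unfold θq
  rw [← Preadditive.add_comp]
  congr 1
  exact θ_add (P := CohCx.freeSheaf J U) φ ψ

lemma θq_res {U V : C} (f : V ⟶ U) (φ : CohCx.HDU K q U) :
    θq K q V (CohCx.HDUres K q f φ) = CohCx.freeSheafMap J f ≫ θq K q U φ := by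
  unfold θq
  rw [← Category.assoc]
  congr 1
  exact θ_precomp (CohCx.freeSheafMap J f) (P := CohCx.freeSheaf J U) φ

lemma θq_eq_zero_iff (U : C) (φ : CohCx.HDU K q U) :
    θq K q U φ = 0 ↔ θ (P := CohCx.freeSheaf J U) φ = 0 := by
  unfold θq
  constructor
  · intro h
    rw [← cancel_mono (sh K q).hom, h, zero_comp]
  · intro h
    rw [h, zero_comp]

/-- the comparison map on sections -/
noncomputable def αU (U : C) : CohCx.HDU K q U →+ (CohCx.HD K q).obj.obj (op U) :=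
  (CohFree.evalGen J U (CohCx.HD K q)).comp
    (AddMonoidHom.mk' (θq K q U) (θq_add K q U))

lemma αU_apply (U : C) (φ : CohCx.HDU K q U) :
    αU K q U φ = CohFree.evalGen J U (CohCx.HD K q) (θq K q U φ) := rfl

lemma αU_res {U V : C} (f : V ⟶ U) (φ : CohCx.HDU K q U) :
    αU K q V (CohCx.HDUres K q f φ) = ((CohCx.HD K q).obj.map f.op).hom (αU K q U φ) := by
  rw [αU_apply, αU_apply, θq_res, CohFree.evalGen_freeSheafMap_comp]

lemma locally_zero (U : C) (φ : CohCx.HDU K q U) (h : αU K q U φ = 0) :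
    ∃ R ∈ J U, ∀ ⦃V : C⦄ (f : V ⟶ U), R.arrows f → CohCx.HDUres K q f φ = 0 := by
  have h1 : θq K q U φ = 0 := by
    apply (CohFree.homEquivSect J U _).injective
    rw [CohFree.homEquivSect_apply, map_zero]
    exact h
  rw [θq_eq_zero_iff] at h1
  let φ' : DerivedCategory.Q.obj (sg (CohCx.freeSheaf J U)) ⟶ K⟦q⟧ := φ
  obtain ⟨P', π, hπ, hz⟩ := exists_epi_comp_eq_zero φ' h1
  obtain ⟨R, hR, hRf⟩ := SheafifyHDU.exists_local_sections π
  refine ⟨R, hR, fun V f hf => ?_⟩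
  obtain ⟨p, hp⟩ := hRf f hf
  have key : DerivedCategory.Q.map (sgMap (p ≫ π)) ≫ φ' = 0 := by
    have e : sgMap (p ≫ π) = sgMap p ≫ sgMap π := Functor.map_comp _ _ _
    rw [e, Functor.map_comp, Category.assoc, hz, comp_zero]
  rw [hp] at key
  exact key

lemma locally_surj (U : C) (s : (CohCx.HD K q).obj.obj (op U)) :
    ∃ R ∈ J U, ∀ ⦃V : C⦄ (f : V ⟶ U), R.arrows f →
      ∃ ψ : CohCx.HDU K q V, αU K q V ψ = ((CohCx.HD K q).obj.map f.op).hom s := by
  let t : CohCx.freeSheaf J U ⟶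
      (DerivedCategory.homologyFunctor (Sheaf J AddCommGrpCat.{u}) 0).obj (K⟦q⟧) :=
    CohFree.ofSect J U (CohCx.HD K q) s ≫ (sh K q).inv
  obtain ⟨P', π, hπ, φ', hφ'⟩ := exists_epi_lift t
  obtain ⟨R, hR, hRf⟩ := SheafifyHDU.exists_local_sections π
  refine ⟨R, hR, fun V f hf => ?_⟩
  obtain ⟨p, hp⟩ := hRf f hf
  let φV : CohCx.HDU K q V := DerivedCategory.Q.map (sgMap p) ≫ φ'
  refine ⟨φV, ?_⟩
  have h1 : θq K q V φV = CohCx.freeSheafMap J f ≫ CohFree.ofSect J U (CohCx.HD K q) s := by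
    unfold θq
    have : θ (P := CohCx.freeSheaf J V) φV = p ≫ π ≫ t := by
      rw [← hφ']
      exact θ_precomp p φ'
    rw [this, ← Category.assoc p, hp]
    simp only [t, Category.assoc, Iso.inv_hom_id, Category.comp_id]
  rw [αU_apply, h1, CohFree.evalGen_freeSheafMap_comp, CohFree.evalGen_ofSect]

/-- a cohomology sheaf all of whose local classes are locally zero vanishes -/
lemma isZero_HD_of_locally_zero
    (h : ∀ (U : C) (φ : CohCx.HDU K q U), ∃ R ∈ J U, ∀ ⦃V : C⦄ (f : V ⟶ U), R.arrows f →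
      CohCx.HDUres K q f φ = 0) : IsZero (CohCx.HD K q) := by
  have hs : ∀ (U : C) (s : (CohCx.HD K q).obj.obj (op U)), s = 0 := by
    intro U s
    obtain ⟨R₁, hR₁, h₁⟩ := locally_surj K q U s
    have hsep := ((isSheaf_iff_isSheaf_of_type _ _).1
      ((Presheaf.isSheaf_iff_isSheaf_forget J (CohCx.HD K q).obj (forget AddCommGrpCat)).1
        (CohCx.HD K q).property))
    refine (hsep.isSeparated _ hR₁).ext (t₁ := s) (t₂ := 0) (fun V f hf => ?_)
    obtain ⟨ψ, hψ⟩ := h₁ f hf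
    obtain ⟨R₂, hR₂, h₂⟩ := h V ψ
    refine (hsep.isSeparated _ hR₂).ext (fun W g hg => ?_)
    change ((CohCx.HD K q).obj.map g.op).hom (((CohCx.HD K q).obj.map f.op).hom s) =
      ((CohCx.HD K q).obj.map g.op).hom (((CohCx.HD K q).obj.map f.op).hom 0)
    rw [← hψ, ← αU_res, h₂ g hg, map_zero, map_zero, map_zero]
  rw [IsZero.iff_id_eq_zero]
  apply Sheaf.hom_ext
  ext U x
  exact (hs U.unop x).trans (hs U.unop _).symm

end Groth.Agent.Lib.Helper8.AbHDU
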