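import Groth.Prelude.Def_CohCx
import Groth.Agent.Lib.Helper8.DTrunc

/-!
# Helper8 — `E = R lim τ_{≥ -n} E` reduced to monomorphy of `H^m(L) → H^m(τ_{≥ -n} E)`
-/

universe w u

open CategoryTheory CategoryTheory.Limits Pretriangulated DerivedCategory

namespace Groth.Agent.Lib.Helper8.RlimTrA

open Groth.Agent.Lib.Helper8.DTrunc

variable {A : Type (u + 1)} [Category.{u} A] [Abelian A] [HasDerivedCategory.{w} A]

lemma isIso_homologyMap_truncGEπ (X : DerivedCategory A) (b i : ℤ) (hi : b ≤ i) :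
    IsIso ((homologyFunctor A i).map ((tt.truncGEπ b).app X)) := by
  have hT := tt.triangleLTGE_distinguished b X
  have : tt.IsLE ((tt.truncLT b).obj X) (b - 1) := inferInstance
  have hm : Mono ((homologyFunctor A i).map ((tt.truncGEπ b).app X)) :=
    (HomologySequence.mono_homologyMap_mor₂_iff _ hT i).2
      ((isZero_of_isLE ((tt.truncLT b).obj X) (b - 1) i (by omega)).eq_of_src _ _)
  have he : Epi ((homologyFunctor A i).map ((tt.truncGEπ b).app X)) :=
    (HomologySequence.epi_homologyMap_mor₂_iff _ hT i (i + 1) rfl).2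
      ((isZero_of_isLE ((tt.truncLT b).obj X) (b - 1) (i + 1) (by omega)).eq_of_tgt _ _)
  exact isIso_of_mono_of_epi _

lemma isIso_homologyMap_truncLTι (X : DerivedCategory A) (b i : ℤ) (hi : i < b) :
    IsIso ((homologyFunctor A i).map ((tt.truncLTι b).app X)) := by
  have hT := tt.triangleLTGE_distinguished b X
  have hm := mono_homologyMap_truncLTι X b i hi
  have he : Epi ((homologyFunctor A i).map ((tt.truncLTι b).app X)) :=
    (HomologySequence.epi_homologyMap_mor₁_iff _ hT i).2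
      ((isZero_of_isGE ((tt.truncGE b).obj X) b i hi).eq_of_tgt _ _)
  exact isIso_of_mono_of_epi _

variable (E : DerivedCategory A)

lemma toTrunc_comp (n : ℕ) :
    CohCx.toTruncTower E (n + 1) ≫ CohCx.truncTowerMap E n = CohCx.toTruncTower E n :=
  tt.π_natTransTruncGEOfLE_app _ _ _ E

lemma isIso_H_toTrunc (n : ℕ) (m : ℤ) (h : -(n : ℤ) ≤ m) :
    IsIso ((homologyFunctor A m).map (CohCx.toTruncTower E n)) :=
  isIso_homologyMap_truncGEπ E _ m h

lemma isIso_H_truncTowerMap (n : ℕ) (m : ℤ) (h : -(n : ℤ) ≤ m) :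
    IsIso ((homologyFunctor A m).map (CohCx.truncTowerMap E n)) := by
  have h1 := isIso_H_toTrunc E (n + 1) m (by push_cast; omega)
  have h2 := isIso_H_toTrunc E n m h
  have h3 : (homologyFunctor A m).map (CohCx.toTruncTower E (n + 1)) ≫
      (homologyFunctor A m).map (CohCx.truncTowerMap E n) =
      (homologyFunctor A m).map (CohCx.toTruncTower E n) := by
    rw [← Functor.map_comp, toTrunc_comp]
  exact IsIso.of_isIso_fac_left h3

theorem isRlimVia_of_mono [HasProduct (CohCx.truncTower E)]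
    (h : ∀ (L : DerivedCategory A) (a : ∀ n, L ⟶ CohCx.truncTower E n),
      CohCx.IsRlimVia (CohCx.truncTower E) (CohCx.truncTowerMap E) L a →
      ∀ m : ℤ, ∃ n : ℕ, -(n : ℤ) ≤ m ∧ Mono ((homologyFunctor A m).map (a n))) :
    CohCx.IsRlimVia (CohCx.truncTower E) (CohCx.truncTowerMap E) E (CohCx.toTruncTower E) := by
  obtain ⟨L, a', c, hT⟩ := distinguished_cocone_triangle₁
    (Pi.lift fun n => Pi.π (CohCx.truncTower E) n -
      Pi.π (CohCx.truncTower E) (n + 1) ≫ CohCx.truncTowerMap E n)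
  have ha' : Pi.lift (fun n => a' ≫ Pi.π (CohCx.truncTower E) n) = a' := by
    apply Pi.hom_ext
    intro n
    rw [Pi.lift_π]
  have hL : CohCx.IsRlimVia (CohCx.truncTower E) (CohCx.truncTowerMap E) L
      (fun n => a' ≫ Pi.π (CohCx.truncTower E) n) := ⟨c, by rw [ha']; exact hT⟩
  have h0 : Pi.lift (CohCx.toTruncTower E) ≫ (Pi.lift fun n => Pi.π (CohCx.truncTower E) n -
      Pi.π (CohCx.truncTower E) (n + 1) ≫ CohCx.truncTowerMap E n) = 0 := by
    apply Pi.hom_ext
    intro n
    rw [Category.assoc, Pi.lift_π, Preadditive.comp_sub, Pi.lift_π, Pi.lift_π_assoc,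
      toTrunc_comp, sub_self, zero_comp]
  obtain ⟨u, hu⟩ : ∃ u : E ⟶ L, Pi.lift (CohCx.toTruncTower E) = u ≫ a' :=
    Triangle.coyoneda_exact₂ _ hT (Pi.lift (CohCx.toTruncTower E)) h0
  have hun : ∀ n, u ≫ a' ≫ Pi.π (CohCx.truncTower E) n = CohCx.toTruncTower E n := by
    intro n
    rw [← Category.assoc, ← hu, Pi.lift_π]
  have hiso : IsIso u := by
    rw [isIso_iff]
    intro m
    obtain ⟨n, hn, hmono⟩ := h L _ hL m
    have h1 := isIso_H_toTrunc E n m hn
    have h3 : (homologyFunctor A m).map u ≫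
        (homologyFunctor A m).map (a' ≫ Pi.π (CohCx.truncTower E) n) =
        (homologyFunctor A m).map (CohCx.toTruncTower E n) := by
      rw [← Functor.map_comp, hun]
    -- `φ ≫ ψ = θ` iso with `ψ` mono
    set φ := (homologyFunctor A m).map u
    set ψ := (homologyFunctor A m).map (a' ≫ Pi.π (CohCx.truncTower E) n)
    set θ := (homologyFunctor A m).map (CohCx.toTruncTower E n)
    refine ⟨ψ ≫ inv θ, ?_, ?_⟩
    · rw [← Category.assoc, h3, IsIso.hom_inv_id]
    · rw [← cancel_mono ψ, Category.assoc, Category.assoc, h3, IsIso.inv_hom_id, Category.comp_id,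
        Category.id_comp]
  let eu : E ≅ L := asIso u
  refine ⟨c ≫ eu.inv⟦(1 : ℤ)⟧', ?_⟩
  refine isomorphic_distinguished _ hT _ ?_
  refine Triangle.isoMk _ _ eu (Iso.refl _) (Iso.refl _) ?_ ?_ ?_
  · exact (Category.comp_id _).trans hu
  · exact (Category.comp_id _).trans (Category.id_comp _).symm
  · have h4 : (c ≫ eu.inv⟦(1 : ℤ)⟧') ≫ eu.hom⟦(1 : ℤ)⟧' = 𝟙 _ ≫ c := by
      rw [Category.assoc, ← Functor.map_comp, Iso.inv_hom_id, CategoryTheory.Functor.map_id, Category.comp_id,
        Category.id_comp]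
    exact h4

end Groth.Agent.Lib.Helper8.RlimTrA
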