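import Groth.Prelude.Def_CohCx
import Groth.Agent.Lib.Helper8.RlimTrA
import Groth.Agent.Lib.Helper8.MilnorTri
import Mathlib.Algebra.Homology.DerivedCategory.Ext.Basic

/-!
# Helper8 — the fibre of `τ_{≥ -(n+1)} E ⟶ τ_{≥ -n} E` and the resulting vanishing
-/

universe w' w u

open CategoryTheory CategoryTheory.Limits Pretriangulated DerivedCategory

namespace Groth.Agent.Lib.Helper8.RlimTrB

open Groth.Agent.Lib.Helper8.DTrunc Groth.Agent.Lib.Helper8.RlimTrA

section Gen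

variable {T : Type u} [Category.{w} T] [Preadditive T] [HasZeroObject T] [HasShift T ℤ]
  [∀ n : ℤ, (shiftFunctor T n).Additive] [Pretriangulated T]

lemma injective_of_subsingleton (Tr : Triangle T) (hT : Tr ∈ distTriang T) (m : ℤ) (X : T)
    (h : Subsingleton (X ⟶ Tr.obj₁⟦m⟧)) :
    Function.Injective (fun f : X ⟶ Tr.obj₂⟦m⟧ => f ≫ Tr.mor₂⟦m⟧') := by
  intro f g hfg
  have h0 : (f - g) ≫ Tr.mor₂⟦m⟧' = 0 := by
    rw [Preadditive.sub_comp, sub_eq_zero]
    exact hfg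
  obtain ⟨k, hk⟩ := MilnorTri.exact₂ Tr hT m (f - g) h0
  rw [Subsingleton.elim k 0, zero_comp, sub_eq_zero] at hk
  exact hk

lemma surjective_of_subsingleton (Tr : Triangle T) (hT : Tr ∈ distTriang T) (m : ℤ) (X : T)
    (h : Subsingleton (X ⟶ (Tr.obj₁⟦(1 : ℤ)⟧)⟦m⟧)) :
    Function.Surjective (fun f : X ⟶ Tr.obj₂⟦m⟧ => f ≫ Tr.mor₂⟦m⟧') := by
  intro f
  haveI : Subsingleton (X ⟶ (Tr.rotate.obj₃)⟦m⟧) := h
  have h0 : f ≫ Tr.rotate.mor₂⟦m⟧' = 0 := Subsingleton.elim _ _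
  obtain ⟨k, hk⟩ := MilnorTri.exact₂ Tr.rotate (rot_of_distTriang _ hT) m f h0
  exact ⟨k, hk.symm⟩

end Gen

variable {A : Type (u + 1)} [Category.{u} A] [Abelian A] [HasDerivedCategory.{w} A]

lemma subsingleton_hom_shift_of_lt (P : A) (F : DerivedCategory A) (a m : ℤ) [F.IsGE a]
    (h : m < a) : Subsingleton ((singleFunctor A 0).obj P ⟶ F⟦m⟧) := by
  have h1 : tt.IsGE (F⟦m⟧) (a - m) := tt.isGE_shift F a m (a - m) (by omega)
  have h2 : tt.IsLE ((singleFunctor A 0).obj P) 0 := inferInstance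
  refine ⟨fun f g => ?_⟩
  rw [tt.zero_of_isLE_of_isGE f 0 (a - m) (by omega) h2 h1,
    tt.zero_of_isLE_of_isGE g 0 (a - m) (by omega) h2 h1]

lemma subsingleton_hom_shift_of_ext [HasExt.{w'} A] (P : A) (F : DerivedCategory A) (a m : ℤ)
    [F.IsGE a] [F.IsLE a] (H : A) (e : (homologyFunctor A a).obj F ≅ H) (k : ℕ)
    (hk : (k : ℤ) = m - a) (h : Subsingleton (Abelian.Ext.{w'} P H k)) :
    Subsingleton ((singleFunctor A 0).obj P ⟶ F⟦m⟧) := by
  obtain ⟨Y, ⟨eF⟩⟩ := exists_iso_singleFunctor_obj_of_isGE_of_isLE F a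
  let eY : Y ≅ H := ((singleFunctorCompHomologyFunctorIso A a).app Y).symm ≪≫
    (homologyFunctor A a).mapIso eF.symm ≪≫ e
  let φ : F⟦m⟧ ≅ ((singleFunctor A 0).obj H)⟦(k : ℤ)⟧ :=
    (shiftFunctor _ m).mapIso (eF ≪≫ (singleFunctor A a).mapIso eY) ≪≫
      ((singleFunctors A).shiftIso m (-(k : ℤ)) a (by omega)).app H ≪≫
      (((singleFunctors A).shiftIso (k : ℤ) (-(k : ℤ)) 0 (by omega)).app H).symm
  refine ⟨fun f g => ?_⟩
  have h1 := h.elim (Abelian.Ext.homEquiv.symm (f ≫ φ.hom)) (Abelian.Ext.homEquiv.symm (g ≫ φ.hom))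
  have h2 := Abelian.Ext.homEquiv.symm.injective h1
  exact (cancel_mono φ.hom).1 h2

variable (E : DerivedCategory A) (n : ℕ)

/-- the fibre of the transition map -/
noncomputable abbrev fib : DerivedCategory A :=
  (tt.truncLT (-(n : ℤ))).obj (CohCx.truncTower E (n + 1))

instance : (fib E n).IsLE (-(n : ℤ) - 1) := by
  unfold fib
  infer_instance

instance : (fib E n).IsGE (-(n : ℤ) - 1) := by
  have : tt.IsGE (CohCx.truncTower E (n + 1)) (-(n : ℤ) - 1) := by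
    have h : tt.IsGE (CohCx.truncTower E (n + 1)) (-((n + 1 : ℕ) : ℤ)) := inferInstance
    have e : (-((n + 1 : ℕ) : ℤ)) = -(n : ℤ) - 1 := by push_cast; omega
    rw [e] at h
    exact h
  unfold fib
  infer_instance

instance isIso_eK : IsIso ((tt.truncGE (-(n : ℤ))).map ((tt.truncGEπ (-((n + 1 : ℕ) : ℤ))).app E)) :=
  tt.isIso_truncGE_map_truncGEπ_app _ _ (by push_cast; omega) E

noncomputable def eK :
    (tt.truncGE (-(n : ℤ))).obj (CohCx.truncTower E (n + 1)) ≅ CohCx.truncTower E n :=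
  (asIso ((tt.truncGE (-(n : ℤ))).map ((tt.truncGEπ (-((n + 1 : ℕ) : ℤ))).app E))).symm

lemma π_eK : (tt.truncGEπ (-(n : ℤ))).app (CohCx.truncTower E (n + 1)) ≫ (eK E n).hom =
    CohCx.truncTowerMap E n := by
  haveI : tt.IsGE (CohCx.truncTower E n) (-((n + 1 : ℕ) : ℤ)) :=
    tt.isGE_of_ge _ (-((n + 1 : ℕ) : ℤ)) (-(n : ℤ)) (by push_cast; omega)
  apply tt.from_truncGE_obj_ext (n := -((n + 1 : ℕ) : ℤ))
  · have nat := (tt.truncGEπ (-(n : ℤ))).naturality ((tt.truncGEπ (-((n + 1 : ℕ) : ℤ))).app E)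
    simp only [Functor.id_obj, Functor.id_map] at nat
    have nat' : (tt.truncGEπ (-((n + 1 : ℕ) : ℤ))).app E ≫
        (tt.truncGEπ (-(n : ℤ))).app (CohCx.truncTower E (n + 1)) =
        (tt.truncGEπ (-(n : ℤ))).app E ≫
          (tt.truncGE (-(n : ℤ))).map ((tt.truncGEπ (-((n + 1 : ℕ) : ℤ))).app E) := nat
    rw [← Category.assoc, nat', Category.assoc]
    have h1 : (tt.truncGE (-(n : ℤ))).map ((tt.truncGEπ (-((n + 1 : ℕ) : ℤ))).app E) ≫
        (eK E n).hom = 𝟙 _ := IsIso.hom_inv_id _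
    rw [h1]
    exact (Category.comp_id _).trans (toTrunc_comp E n).symm

theorem fibTriangle_dist :
    Triangle.mk ((tt.truncLTι (-(n : ℤ))).app (CohCx.truncTower E (n + 1)))
      (CohCx.truncTowerMap E n)
      ((eK E n).inv ≫ (tt.truncGEδLT (-(n : ℤ))).app (CohCx.truncTower E (n + 1))) ∈
      distTriang (DerivedCategory A) := by
  refine isomorphic_distinguished _
    (tt.triangleLTGE_distinguished (-(n : ℤ)) (CohCx.truncTower E (n + 1))) _ ?_
  refine Triangle.isoMk _ _ (Iso.refl _) (Iso.refl _) (eK E n).symm ?_ ?_ ?_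
  · exact (Category.comp_id _).trans (Category.id_comp _).symm
  · have h : CohCx.truncTowerMap E n ≫ (eK E n).inv =
        𝟙 _ ≫ (tt.truncGEπ (-(n : ℤ))).app (CohCx.truncTower E (n + 1)) := by
      rw [← π_eK, Category.assoc, Iso.hom_inv_id, Category.comp_id, Category.id_comp]
    exact h
  · have h : ((eK E n).inv ≫ (tt.truncGEδLT (-(n : ℤ))).app (CohCx.truncTower E (n + 1))) ≫
        (𝟙 (fib E n))⟦(1 : ℤ)⟧' =
        (eK E n).inv ≫ (tt.truncGEδLT (-(n : ℤ))).app (CohCx.truncTower E (n + 1)) := by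
      rw [CategoryTheory.Functor.map_id]
      exact Category.comp_id _
    exact h

/-- `H^{-n-1}` of the fibre is `H^{-n-1}(E)` -/
noncomputable def fibH : (homologyFunctor A (-(n : ℤ) - 1)).obj (fib E n) ≅
    (homologyFunctor A (-(n : ℤ) - 1)).obj E :=
  haveI := isIso_homologyMap_truncLTι (CohCx.truncTower E (n + 1)) (-(n : ℤ)) (-(n : ℤ) - 1)
    (by omega)
  haveI := isIso_H_toTrunc E (n + 1) (-(n : ℤ) - 1) (by push_cast; omega)
  asIso ((homologyFunctor A (-(n : ℤ) - 1)).map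
    ((tt.truncLTι (-(n : ℤ))).app (CohCx.truncTower E (n + 1)))) ≪≫
  (asIso ((homologyFunctor A (-(n : ℤ) - 1)).map (CohCx.toTruncTower E (n + 1)))).symm

variable [HasExt.{w'} A]

theorem fib_vanish (P : A) (m : ℤ)
    (h : ∀ k : ℕ, (k : ℤ) = m + n + 1 →
      Subsingleton (Abelian.Ext.{w'} P ((homologyFunctor A (m - k)).obj E) k)) :
    Subsingleton ((singleFunctor A 0).obj P ⟶ (fib E n)⟦m⟧) := by
  by_cases hm : m + n + 1 < 0
  · exact subsingleton_hom_shift_of_lt P (fib E n) (-(n : ℤ) - 1) m (by omega)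
  · obtain ⟨k, hk⟩ := Int.eq_ofNat_of_zero_le (not_lt.1 hm)
    have hq : -(n : ℤ) - 1 = m - k := by omega
    exact subsingleton_hom_shift_of_ext P (fib E n) (-(n : ℤ) - 1) m _
      (fibH E n ≪≫ eqToIso (congrArg (fun q => (homologyFunctor A q).obj E) hq)) k (by omega)
      (h k hk.symm)

theorem step (P : A) (m : ℤ)
    (h : ∀ k : ℕ, (k : ℤ) = m + n + 1 →
      Subsingleton (Abelian.Ext.{w'} P ((homologyFunctor A (m - k)).obj E) k)) :
    Function.Injective (Preadditive.rightComp ((singleFunctor A 0).obj P)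
      ((shiftFunctor _ m).map (CohCx.truncTowerMap E n))) ∧
    Function.Surjective (Preadditive.rightComp ((singleFunctor A 0).obj P)
      ((shiftFunctor _ (m - 1)).map (CohCx.truncTowerMap E n))) := by
  have hv := fib_vanish E n P m h
  constructor
  · exact injective_of_subsingleton _ (fibTriangle_dist E n) m _ hv
  · refine surjective_of_subsingleton _ (fibTriangle_dist E n) (m - 1) _ ?_
    let ψ : ((fib E n)⟦(1 : ℤ)⟧)⟦m - 1⟧ ≅ (fib E n)⟦m⟧ :=
      ((shiftFunctorAdd' (DerivedCategory A) 1 (m - 1) m (by omega)).app (fib E n)).symm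
    refine ⟨fun f g => ?_⟩
    have := hv.elim (f ≫ ψ.hom) (g ≫ ψ.hom)
    exact (cancel_mono ψ.hom).1 this

end Groth.Agent.Lib.Helper8.RlimTrB
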