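import Mathlib
import Groth.Agent.Lib.Helper8.DSingleHom
import Groth.Agent.Lib.Helper8.RlimTrA
import Groth.Agent.Lib.Helper8.RlimTrB

/-!
# Helper8 — `Hom_D(P[0], L) ≃ Hom(P, H⁰ L)` for `L ∈ D^{≥0}`
-/

set_option autoImplicit false
set_option linter.unusedSectionVars false

universe w u

open CategoryTheory CategoryTheory.Limits Pretriangulated DerivedCategory

namespace Groth.Agent.Lib.Helper8.DSingleBij

open Groth.Agent.Lib.Helper8.DSingleHom Groth.Agent.Lib.Helper8.RlimTrA Groth.Agent.Lib.Helper8.DTrunc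

variable {A : Type (u + 1)} [Category.{u} A] [Abelian A] [HasDerivedCategory.{w} A]


lemma θ_sub {P : A} {L : DerivedCategory A} (φ ψ : Q.obj (sg P) ⟶ L) :
    θ (φ - ψ) = θ φ - θ ψ := by
  have := θ_add (φ - ψ) ψ
  rw [sub_add_cancel] at this
  rw [this, add_sub_cancel_right]

lemma θ_single_map {P G : A} (a : P ⟶ G) :
    θ (L := Q.obj (sg G)) (Q.map (sgMap a)) = a ≫ (e₀ G).hom := by
  have := θ_precomp a (𝟙 (Q.obj (sg G)))
  rw [Category.comp_id] at this
  rw [this, θ, CategoryTheory.Functor.map_id]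
  exact congrArg _ (Category.comp_id _)

/-- maps from a single object to an object concentrated in degree 0 -/
lemma exists_single_map {P G : A} (χ : Q.obj (sg P) ⟶ Q.obj (sg G)) :
    ∃ a : P ⟶ G, χ = Q.map (sgMap a) := by
  let χ' : (singleFunctor A 0).obj P ⟶ (singleFunctor A 0).obj G := χ
  obtain ⟨a, ha⟩ := (singleFunctor A 0).map_surjective χ'
  exact ⟨a, ha.symm⟩

theorem θ_bijective (P : A) (L : DerivedCategory A) [L.IsGE 0] :
    Function.Bijective (fun φ : Q.obj (sg P) ⟶ L => θ φ) := by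
  let T := (tt.truncLT 1).obj L
  let ι : T ⟶ L := (tt.truncLTι 1).app L
  have hT := tt.triangleLTGE_distinguished 1 L
  haveI h10 : tt.IsLE T (1 - 1) := inferInstance
  haveI : tt.IsLE T 0 := tt.isLE_of_le T (1 - 1) 0 (by omega)
  haveI : tt.IsGE T 0 := inferInstance
  haveI : T.IsLE 0 := ‹tt.IsLE T 0›
  haveI : T.IsGE 0 := ‹tt.IsGE T 0›
  obtain ⟨G, ⟨e⟩⟩ := exists_iso_singleFunctor_obj_of_isGE_of_isLE T 0
  let e' : T ≅ Q.obj (sg G) := e
  haveI hι : IsIso ((homologyFunctor A 0).map ι) := isIso_homologyMap_truncLTι L 1 0 (by omega)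
  -- Hom(P[0], T) → Hom(P[0], L) is bijective
  have hW : tt.IsGE ((tt.truncGE 1).obj L) 1 := inferInstance
  have hP : tt.IsLE (Q.obj (sg P)) 0 := (inferInstance : tt.IsLE ((singleFunctor A 0).obj P) 0)
  have hsurj : ∀ φ : Q.obj (sg P) ⟶ L, ∃ ψ : Q.obj (sg P) ⟶ T, φ = ψ ≫ ι := by
    intro φ
    have h0 : φ ≫ (tt.truncGEπ 1).app L = 0 :=
      tt.zero_of_isLE_of_isGE _ 0 1 (by omega) hP hW
    exact Triangle.coyoneda_exact₂ _ hT φ h0
  have hinj : ∀ ψ : Q.obj (sg P) ⟶ T, ψ ≫ ι = 0 → ψ = 0 := by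
    intro ψ hψ
    obtain ⟨k, hk⟩ := Triangle.coyoneda_exact₂ _ (inv_rot_of_distTriang _ hT) ψ hψ
    have hW' : tt.IsGE (((tt.truncGE 1).obj L)⟦(-1 : ℤ)⟧) 2 :=
      tt.isGE_shift _ 1 (-1) 2 (by omega)
    have hk0 : k = 0 := tt.zero_of_isLE_of_isGE _ 0 2 (by omega) hP hW'
    rw [hk, hk0]
    exact zero_comp
  constructor
  · intro φ φ' h
    have h' : θ φ = θ φ' := h
    rw [← sub_eq_zero]
    obtain ⟨ψ, hψ⟩ := hsurj (φ - φ')
    have h1 : θ (φ - φ') = 0 := by rw [θ_sub, h', sub_self]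
    rw [hψ, θ_comp] at h1
    have h2 : θ ψ = 0 := by
      rw [← cancel_mono ((homologyFunctor A 0).map ι), h1, zero_comp]
    obtain ⟨a, ha⟩ := exists_single_map (ψ ≫ e'.hom)
    have h3 : ψ = Q.map (sgMap a) ≫ e'.inv := by
      rw [← ha, Category.assoc, Iso.hom_inv_id, Category.comp_id]
    rw [h3, θ_comp, θ_single_map] at h2
    have h4 : a = 0 := by
      have := (cancel_mono ((homologyFunctor A 0).map e'.inv)).1
        (show (a ≫ (e₀ G).hom) ≫ _ = 0 ≫ _ by rw [h2, zero_comp])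
      exact (cancel_mono (e₀ G).hom).1 (by rw [this, zero_comp])
    rw [hψ, h3, h4]
    have : sgMap (0 : P ⟶ G) = 0 := Functor.map_zero _ _ _
    rw [this, Functor.map_zero, zero_comp, zero_comp]
  · intro t
    let a : P ⟶ G := t ≫ inv ((homologyFunctor A 0).map ι) ≫
      (homologyFunctor A 0).map e'.hom ≫ (e₀ G).inv
    refine ⟨(Q.map (sgMap a) ≫ e'.inv) ≫ ι, ?_⟩
    change θ ((Q.map (sgMap a) ≫ e'.inv) ≫ ι) = t
    rw [θ_comp, θ_comp, θ_single_map]
    simp only [a, Category.assoc, Iso.inv_hom_id_assoc]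
    rw [← Functor.map_comp_assoc, Iso.hom_inv_id, CategoryTheory.Functor.map_id, Category.id_comp,
      IsIso.inv_hom_id, Category.comp_id]

end Groth.Agent.Lib.Helper8.DSingleBij
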