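import Groth.Prelude.Def_CohCx
import Groth.Agent.Lib.Helper8.SheafifyHDU
import Groth.Agent.Lib.Helper8.MilnorTri

/-!
# Helper8: injectivity of `H^m(L)(V) → H^m(K_n)(V)` for a derived limit (S0880)
-/

universe u

open CategoryTheory CategoryTheory.Limits Opposite Pretriangulated

namespace Groth.Agent.Lib.Helper8.RlimSectInj

open Groth.Agent.Lib.Helper8 DSingleHom SheafifyHDU

variable {C : Type u} [SmallCategory C] {J : GrothendieckTopology C}
  [HasDerivedCategory.{u} (Sheaf J AddCommGrpCat.{u})]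

lemma sh_naturality {K K' : DerivedCategory (Sheaf J AddCommGrpCat.{u})} (κ : K ⟶ K') (q : ℤ) :
    (DerivedCategory.homologyFunctor (Sheaf J AddCommGrpCat.{u}) 0).map (κ⟦q⟧') ≫ (sh K' q).hom =
      (sh K q).hom ≫ (DerivedCategory.homologyFunctor (Sheaf J AddCommGrpCat.{u}) q).map κ :=
  ((DerivedCategory.homologyFunctor (Sheaf J AddCommGrpCat.{u}) 0).shiftIso q 0 q
    (add_zero q)).hom.naturality κ

lemma αU_natural {K K' : DerivedCategory (Sheaf J AddCommGrpCat.{u})} (κ : K ⟶ K') (q : ℤ) (U : C)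
    (φ : CohCx.HDU K q U) :
    αU K' q U (φ ≫ κ⟦q⟧') =
      (((DerivedCategory.homologyFunctor (Sheaf J AddCommGrpCat.{u}) q).map κ).hom.app (op U)).hom
        (αU K q U φ) := by
  have h : θq K' q U (φ ≫ κ⟦q⟧') =
      θq K q U φ ≫ (DerivedCategory.homologyFunctor (Sheaf J AddCommGrpCat.{u}) q).map κ := by
    unfold θq
    let φ' : DerivedCategory.Q.obj (sg (CohCx.freeSheaf J U)) ⟶ K⟦q⟧ := φ
    have : θ (φ' ≫ κ⟦q⟧') = θ φ' ≫ _ := θ_comp φ' (κ⟦q⟧')
    rw [Category.assoc, ← sh_naturality, ← Category.assoc]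
    congr 1
  rw [αU_apply, h]
  rfl

section

variable (K : ℕ → DerivedCategory (Sheaf J AddCommGrpCat.{u})) (t : ∀ n, K (n + 1) ⟶ K n)
  [HasProduct K] (L : DerivedCategory (Sheaf J AddCommGrpCat.{u})) (a : ∀ n, L ⟶ K n)

lemma a_compat (hL : CohCx.IsRlimVia K t L a) (n : ℕ) : a (n + 1) ≫ t n = a n := by
  obtain ⟨c, hc⟩ := hL
  have h0 : Pi.lift a ≫ (Pi.lift fun n => Pi.π K n - Pi.π K (n + 1) ≫ t n) = 0 :=
    comp_distTriang_mor_zero₁₂ _ hc
  have h1 := congr_arg (fun f => f ≫ Pi.π K n) h0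
  simp only [Category.assoc, Pi.lift_π, Preadditive.comp_sub, Pi.lift_π_assoc, zero_comp] at h1
  rw [sub_eq_zero] at h1
  exact h1.symm

lemma a_transition (hL : CohCx.IsRlimVia K t L a) (n k : ℕ) :
    a (n + k) ≫ CohCx.transition K t n k = a n := by
  induction k with
  | zero => exact Category.comp_id _
  | succ k ih =>
    change a (n + k + 1) ≫ t (n + k) ≫ CohCx.transition K t n k = a n
    rw [← Category.assoc, a_compat K t L a hL, ih]

/-- vanishing at `nV` plus injectivity of transitions gives vanishing everywhere -/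
lemma vanish_all (hL : CohCx.IsRlimVia K t L a) (m : ℤ) (nV : ℕ) {U : C}
    (hinj : ∀ k : ℕ, Function.Injective
      (Preadditive.rightComp _ ((shiftFunctor _ m).map (CohCx.transition K t nV k)) :
        CohCx.HDU (K (nV + k)) m U → CohCx.HDU (K nV) m U))
    (ψ : CohCx.HDU L m U) (h0 : ψ ≫ (a nV)⟦m⟧' = 0) : ∀ n, ψ ≫ (a n)⟦m⟧' = 0 := by
  have down : ∀ n, ψ ≫ (a (n + 1))⟦m⟧' = 0 → ψ ≫ (a n)⟦m⟧' = 0 := by
    intro n hn
    rw [← a_compat K t L a hL n, Functor.map_comp, ← Category.assoc, hn, zero_comp]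
  have le : ∀ d n, n + d = nV → ψ ≫ (a n)⟦m⟧' = 0 := by
    intro d
    induction d with
    | zero => intro n hn; obtain rfl : n = nV := by omega
              exact h0
    | succ d ih => intro n hn; exact down n (ih (n + 1) (by omega))
  intro n
  by_cases hn : n ≤ nV
  · exact le (nV - n) n (by omega)
  · obtain ⟨k, rfl⟩ := Nat.exists_eq_add_of_le (not_le.1 hn).le
    apply hinj k
    change (ψ ≫ (a (nV + k))⟦m⟧') ≫ (CohCx.transition K t nV k)⟦m⟧' =
      (0 : CohCx.HDU (K (nV + k)) m U) ≫ (CohCx.transition K t nV k)⟦m⟧'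
    rw [Category.assoc, ← Functor.map_comp, a_transition K t L a hL, h0, zero_comp]

theorem main (hL : CohCx.IsRlimVia K t L a)
    (V : C) (m : ℤ) (nV : ℕ)
    (h : ∀ T ∈ J V, ∃ (ι : Type u) (Y : ι → C) (f : ∀ i, Y i ⟶ V), (∀ i, T.arrows (f i)) ∧
      Sieve.ofArrows Y f ∈ J V ∧ ∀ i,
        CohCx.LimOneIsZero (fun n => CohCx.HDU (K n) (m - 1) (Y i))
          (fun n => Preadditive.rightComp _ ((shiftFunctor _ (m - 1)).map (t n))) ∧
        ∀ k : ℕ, Function.Injective
          (Preadditive.rightComp _ ((shiftFunctor _ m).map (CohCx.transition K t nV k)) :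
            CohCx.HDU (K (nV + k)) m (Y i) → CohCx.HDU (K nV) m (Y i))) :
    Function.Injective (((DerivedCategory.homologyFunctor _ m).map (a nV)).hom.app (op V)) := by
  rw [injective_iff_map_eq_zero]
  intro s hs
  -- the sieve of arrows over which `s` comes from a class `ψ` killed by `a nV`
  let T : Sieve V :=
    { arrows := fun W f => ∃ ψ : CohCx.HDU L m W, αU L m W ψ = ((CohCx.HD L m).obj.map f.op).hom s ∧
        ψ ≫ (a nV)⟦m⟧' = 0
      downward_closed := by
        rintro W W' f ⟨ψ, hψ1, hψ2⟩ g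
        refine ⟨CohCx.HDUres L m g ψ, ?_, ?_⟩
        · rw [αU_res, hψ1, op_comp, Functor.map_comp]
          rfl
        · change (_ ≫ ψ) ≫ _ = 0
          rw [Category.assoc, hψ2, comp_zero] }
  have hT : T ∈ J V := by
    have h1 := Presheaf.imageSieve_mem J (α L m) s
    refine J.transitive h1 T ?_
    intro W f ⟨ψ, hψ⟩
    have hψ' : αU L m W ψ = ((CohCx.HD L m).obj.map f.op).hom s := hψ
    have h2 : αU (K nV) m W (ψ ≫ (a nV)⟦m⟧') = 0 := by
      rw [αU_natural, hψ']
      have nat := ConcreteCategory.congr_hom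
        (((DerivedCategory.homologyFunctor (Sheaf J AddCommGrpCat.{u}) m).map (a nV)).hom.naturality f.op) s
      have nat' : (((DerivedCategory.homologyFunctor (Sheaf J AddCommGrpCat.{u}) m).map
          (a nV)).hom.app (op W)).hom (((CohCx.HD L m).obj.map f.op).hom s) =
          ((CohCx.HD (K nV) m).obj.map f.op).hom
            ((((DerivedCategory.homologyFunctor (Sheaf J AddCommGrpCat.{u}) m).map
              (a nV)).hom.app (op V)).hom s) := nat
      rw [nat', hs, map_zero]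
    obtain ⟨R, hR, hRf⟩ := locally_zero (K nV) m W _ h2
    refine J.superset_covering ?_ hR
    intro W' g hg
    refine ⟨CohCx.HDUres L m g ψ, ?_, ?_⟩
    · rw [αU_res, hψ', op_comp, Functor.map_comp]
      rfl
    · have := hRf g hg
      change _ ≫ (ψ ≫ _) = 0 at this
      change (_ ≫ ψ) ≫ _ = 0
      rw [Category.assoc]
      exact this
  obtain ⟨ι, Y, f, hfT, hcov, hi⟩ := h T hT
  apply Sheaf.isSeparated (CohCx.HD L m) V _ hcov
  rintro W g ⟨W', g', f', ⟨i⟩, rfl⟩
  obtain ⟨ψ, hψ1, hψ2⟩ := hfT i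
  obtain ⟨hlim, hinj⟩ := hi i
  have hall := vanish_all K t L a hL m nV hinj ψ hψ2
  obtain ⟨c, hc⟩ := hL
  have hψ0 : ψ = 0 := MilnorTri.eq_zero K t L a c hc m (m - 1) (by omega) hlim ψ hall
  have hz : ((CohCx.HD L m).obj.map (f i).op).hom s = 0 := by
    rw [← hψ1, hψ0, map_zero]
  rw [op_comp, Functor.map_comp]
  change ((CohCx.HD L m).obj.map g'.op).hom (((CohCx.HD L m).obj.map (f i).op).hom s) =
    ((CohCx.HD L m).obj.map g'.op).hom (((CohCx.HD L m).obj.map (f i).op).hom 0)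
  rw [hz, map_zero, map_zero, map_zero]

end

end Groth.Agent.Lib.Helper8.RlimSectInj
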