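import Groth.Prelude.Def_CohCx
import Groth.Agent.Lib.Helper8.RlimTrB

/-!
# Helper8 — the tower `Hom(P, τ_{≥ -n} E [m])`: eventual injectivity / surjectivity, `lim¹ = 0`
-/

universe w' w u

open CategoryTheory CategoryTheory.Limits Pretriangulated DerivedCategory

namespace Groth.Agent.Lib.Helper8.RlimTrC

open Groth.Agent.Lib.Helper8.DTrunc Groth.Agent.Lib.Helper8.RlimTrA Groth.Agent.Lib.Helper8.RlimTrB

/-- a tower with surjective transition maps has vanishing `lim¹` -/
lemma limOne_of_surj (G : ℕ → Type u) [∀ n, AddCommGroup (G n)] (t : ∀ n, G (n + 1) →+ G n)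
    (ht : ∀ n, Function.Surjective (t n)) : CohCx.LimOneIsZero G t := by
  intro b
  choose s hs using ht
  let a : ∀ n, G n := fun n => Nat.rec (motive := fun n => G n) 0 (fun n an => s n (an - b n)) n
  refine ⟨a, ?_⟩
  funext n
  have : a (n + 1) = s n (a n - b n) := rfl
  change a n - t n (a (n + 1)) = b n
  rw [this, hs]
  abel

lemma limOne_shift1 (G : ℕ → Type u) [∀ n, AddCommGroup (G n)] (t : ∀ n, G (n + 1) →+ G n)
    (h : CohCx.LimOneIsZero (fun n => G (n + 1)) (fun n => t (n + 1))) :
    CohCx.LimOneIsZero G t := by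
  intro b
  obtain ⟨a', ha'⟩ := h (fun n => b (n + 1))
  let a : ∀ n, G n := fun n =>
    Nat.casesOn (motive := fun n => G n) n (b 0 + t 0 (a' 0)) (fun n => a' n)
  refine ⟨a, ?_⟩
  funext n
  cases n with
  | zero =>
    change (b 0 + t 0 (a' 0)) - t 0 (a' 0) = b 0
    abel
  | succ n => exact congr_fun ha' n

lemma limOne_of_eventually_surj (N : ℕ) : ∀ (G : ℕ → Type u) [∀ n, AddCommGroup (G n)]
    (t : ∀ n, G (n + 1) →+ G n), (∀ n, N ≤ n → Function.Surjective (t n)) →
    CohCx.LimOneIsZero G t := by
  induction N with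
  | zero => intro G _ t ht; exact limOne_of_surj G t (fun n => ht n (Nat.zero_le n))
  | succ N ih =>
    intro G _ t ht
    apply limOne_shift1
    exact ih (fun n => G (n + 1)) (fun n => t (n + 1)) (fun n hn => ht (n + 1) (by omega))

variable {A : Type (u + 1)} [Category.{u} A] [Abelian A] [HasDerivedCategory.{w} A]
  [HasExt.{w'} A]

theorem tower (E : DerivedCategory A) (P : A) (m : ℤ) (N : ℕ)
    (h : ∀ n : ℕ, N ≤ n → ∀ k : ℕ, (k : ℤ) = m + n + 1 →
      Subsingleton (Abelian.Ext.{w'} P ((homologyFunctor A (m - k)).obj E) k)) :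
    CohCx.LimOneIsZero
        (fun n => ((singleFunctor A 0).obj P ⟶ (CohCx.truncTower E n)⟦m - 1⟧))
        (fun n => Preadditive.rightComp _
          ((shiftFunctor _ (m - 1)).map (CohCx.truncTowerMap E n))) ∧
      ∀ nV : ℕ, N ≤ nV → ∀ k : ℕ, Function.Injective
        (Preadditive.rightComp ((singleFunctor A 0).obj P)
          ((shiftFunctor _ m).map
            (CohCx.transition (CohCx.truncTower E) (CohCx.truncTowerMap E) nV k))) := by
  constructor
  · apply limOne_of_eventually_surj N
    intro n hn
    exact (step E n P m (h n hn)).2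
  · intro nV hnV k
    induction k with
    | zero =>
      intro f g hfg
      have h1 : ∀ f : (singleFunctor A 0).obj P ⟶ (CohCx.truncTower E (nV + 0))⟦m⟧,
          Preadditive.rightComp ((singleFunctor A 0).obj P) ((shiftFunctor _ m).map
            (CohCx.transition (CohCx.truncTower E) (CohCx.truncTowerMap E) nV 0)) f = f := by
        intro f
        change f ≫ (shiftFunctor _ m).map (𝟙 _) = f
        rw [CategoryTheory.Functor.map_id]
        exact Category.comp_id _
      rw [h1, h1] at hfg
      exact hfg
    | succ k ih =>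
      intro f g hfg
      have h1 : ∀ f : (singleFunctor A 0).obj P ⟶ (CohCx.truncTower E (nV + (k + 1)))⟦m⟧,
          Preadditive.rightComp ((singleFunctor A 0).obj P) ((shiftFunctor _ m).map
            (CohCx.transition (CohCx.truncTower E) (CohCx.truncTowerMap E) nV (k + 1))) f =
          Preadditive.rightComp ((singleFunctor A 0).obj P) ((shiftFunctor _ m).map
            (CohCx.transition (CohCx.truncTower E) (CohCx.truncTowerMap E) nV k))
            (Preadditive.rightComp ((singleFunctor A 0).obj P) ((shiftFunctor _ m).map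
              (CohCx.truncTowerMap E (nV + k))) f) := by
        intro f
        change f ≫ (shiftFunctor _ m).map (CohCx.truncTowerMap E (nV + k) ≫
          CohCx.transition (CohCx.truncTower E) (CohCx.truncTowerMap E) nV k) =
          (f ≫ (shiftFunctor _ m).map (CohCx.truncTowerMap E (nV + k))) ≫ _
        rw [Functor.map_comp, Category.assoc]
      rw [h1, h1] at hfg
      exact (step E (nV + k) P m (h (nV + k) (by omega))).1 (ih hfg)

end Groth.Agent.Lib.Helper8.RlimTrC
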