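import Groth.Prelude.Def_CohCx
import Groth.Prelude.Def_CohSite
import Groth.Agent.Lib.Helper8.RlimTrC
import Groth.Agent.Lib.Helper8.RlimSectInj
import Mathlib.CategoryTheory.Sites.LocallyInjective

/-!
# Helper8 — `E = R lim τ_{≥ -n} E` on a site under locally bounded vanishing (S0881)
-/

universe u

open CategoryTheory CategoryTheory.Limits Pretriangulated DerivedCategory Opposite

namespace Groth.Agent.Lib.Helper8.RlimTrD

open Groth.Agent.Lib.Helper8.DTrunc Groth.Agent.Lib.Helper8.RlimTrA Groth.Agent.Lib.Helper8.RlimTrB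
  Groth.Agent.Lib.Helper8.RlimTrC

variable {C : Type u} [SmallCategory C] {J : GrothendieckTopology C}

lemma mono_of_injective_on (B : Set C)
    (hB : ∀ U : C, ∃ (ι : Type u) (Y : ι → C) (f : ∀ i, Y i ⟶ U),
      Sieve.ofArrows Y f ∈ J U ∧ ∀ i, Y i ∈ B)
    {F G : Sheaf J AddCommGrpCat.{u}} (φ : F ⟶ G)
    (h : ∀ V ∈ B, Function.Injective (φ.hom.app (op V))) : Mono φ := by
  haveI : Sheaf.IsLocallyInjective φ := ⟨fun {X} x y hxy => by
    obtain ⟨ι, Z, f, hcov, hZ⟩ := hB X.unop
    refine J.superset_covering ?_ hcov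
    rintro W g ⟨W', g', f', ⟨i⟩, rfl⟩
    apply Sieve.downward_closed
    change F.obj.map (f i).op x = F.obj.map (f i).op y
    apply h (Z i) (hZ i)
    have nat := fun z => ConcreteCategory.congr_hom (φ.hom.naturality (f i).op) z
    exact (nat x).trans ((congrArg _ hxy).trans (nat y).symm)⟩
  exact Sheaf.mono_of_isLocallyInjective φ

variable [HasDerivedCategory.{u} (Sheaf J AddCommGrpCat.{u})]

section

variable (K : ℕ → DerivedCategory (Sheaf J AddCommGrpCat.{u})) (t : ∀ n, K (n + 1) ⟶ K n)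
  [HasProduct K] (L : DerivedCategory (Sheaf J AddCommGrpCat.{u})) (a : ∀ n, L ⟶ K n)

end

theorem main (E : DerivedCategory (Sheaf J AddCommGrpCat.{u})) [HasProduct (CohCx.truncTower E)]
    (B : Set C)
    (hB : ∀ U : C, ∃ (ι : Type u) (Y : ι → C) (f : ∀ i, Y i ⟶ U),
      Sieve.ofArrows Y f ∈ J U ∧ ∀ i, Y i ∈ B)
    (h : ∀ V ∈ B, ∃ p : ℤ → ℤ, ∀ T ∈ J V, ∃ (ι : Type u) (Y : ι → C) (f : ∀ i, Y i ⟶ V),
      (∀ i, T.arrows (f i)) ∧ Sieve.ofArrows Y f ∈ J V ∧
      ∀ (i : ι) (m : ℤ) (k : ℕ), p m < k →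
        Subsingleton (CohSite.HU (CohCx.HD E (m - k)) k (Y i))) :
    CohCx.IsRlimVia (CohCx.truncTower E) (CohCx.truncTowerMap E) E (CohCx.toTruncTower E) := by
  apply isRlimVia_of_mono
  intro L a hL m
  have hn₀ : -(((-m).toNat : ℕ) : ℤ) ≤ m := by omega
  refine ⟨(-m).toNat, hn₀, ?_⟩
  generalize (-m).toNat = n₀ at hn₀
  apply mono_of_injective_on B hB
  intro V hV
  obtain ⟨p, hp⟩ := h V hV
  have hinj := RlimSectInj.main (CohCx.truncTower E) (CohCx.truncTowerMap E) L a hL V m
    (n₀ + (p m - m).toNat) (fun T hT => by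
      obtain ⟨ι, Y, f, hfT, hcov, hvan⟩ := hp T hT
      refine ⟨ι, Y, f, hfT, hcov, fun i => ?_⟩
      have := tower E (CohCx.freeSheaf J (Y i)) m (p m - m).toNat
        (fun n hn k hk => hvan i m k (by omega))
      exact ⟨this.1, this.2 _ (by omega)⟩)
  -- factor `a n₀` through `a (n₀ + N)`
  have hfac := RlimSectInj.a_transition (CohCx.truncTower E) (CohCx.truncTowerMap E) L a hL n₀
    (p m - m).toNat
  have hiso : ∀ k : ℕ, IsIso ((homologyFunctor _ m).map
      (CohCx.transition (CohCx.truncTower E) (CohCx.truncTowerMap E) n₀ k)) := by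
    intro k
    induction k with
    | zero =>
      change IsIso ((homologyFunctor _ m).map (𝟙 _))
      infer_instance
    | succ k ih =>
      change IsIso ((homologyFunctor _ m).map (CohCx.truncTowerMap E (n₀ + k) ≫
        CohCx.transition (CohCx.truncTower E) (CohCx.truncTowerMap E) n₀ k))
      rw [Functor.map_comp]
      haveI := isIso_H_truncTowerMap E (n₀ + k) m (by push_cast; omega)
      infer_instance
  have hiso' := hiso (p m - m).toNat
  rw [← hfac, Functor.map_comp]
  intro x y hxy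
  apply hinj
  have hbij : Function.Injective ((((homologyFunctor _ m).map
      (CohCx.transition (CohCx.truncTower E) (CohCx.truncTowerMap E) n₀
        (p m - m).toNat)).hom.app (op V))) := by
    have : IsIso (((homologyFunctor _ m).map
      (CohCx.transition (CohCx.truncTower E) (CohCx.truncTowerMap E) n₀
        (p m - m).toNat)).hom.app (op V)) := by
      have h1 : IsIso ((sheafToPresheaf _ _).map ((homologyFunctor _ m).map
        (CohCx.transition (CohCx.truncTower E) (CohCx.truncTowerMap E) n₀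
          (p m - m).toNat))) := inferInstance
      exact (NatIso.isIso_app_of_isIso _ _)
    exact (ConcreteCategory.bijective_of_isIso _).1
  apply hbij
  exact hxy

end Groth.Agent.Lib.Helper8.RlimTrD
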