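import Groth.Agent.Lib.Helper6.ModAbCohK
import Groth.Agent.Lib.Helper6.TotAcyc
import Groth.Agent.Lib.Helper1.FreeOnMap
import Groth.Prelude.Def_FreeSh

/-!
# Helper8 — `Ext^k_O(j_! O_U, F) = 0` when `H^k(U, F_ab) = 0`
-/

universe u

open CategoryTheory CategoryTheory.Limits Opposite Abelian

namespace Groth.Agent.Lib.Helper8.ModExtFree

open Groth.Agent.Lib.Helper1 Groth.Agent.Lib.Helper6

variable {C : Type u} [SmallCategory C] {J : GrothendieckTopology C}
  (O : Sheaf J CommRingCat.{u})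

section Gen

variable {A : Type*} [Category A] [Abelian A] [HasExt A]

lemma subsingleton_ext_of_iso {X X' : A} (e : X ≅ X') (Y : A) (k : ℕ)
    (h : Subsingleton (Ext X Y k)) : Subsingleton (Ext X' Y k) := by
  refine ⟨fun a b => ?_⟩
  have h1 := h.elim ((Ext.mk₀ e.hom).comp a (zero_add k)) ((Ext.mk₀ e.hom).comp b (zero_add k))
  have h2 := congrArg (fun z => (Ext.mk₀ e.inv).comp z (zero_add k)) h1
  simpa [Ext.mk₀_comp_mk₀_assoc, Ext.mk₀_id_comp] using h2

end Gen

variable (U : C)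

/-- the sheafified representable -/
noncomputable abbrev hU : Sheaf J (Type u) := (presheafToSheaf J (Type u)).obj (yoneda.obj U)

/-- `Hom(Ψ, M) ≃ M(U)` -/
noncomputable def β (M : ModSite.Mod O) :
    (ModAbCohK.Ψ (ModSite.ringSh O) (hU (J := J) U) ⟶ M) ≃ M.val.obj (op U) :=
  ((ModAbCohK.α (ModSite.ringSh O) (hU (J := J) U) M).toEquiv.trans
    ((TotAcyc.freeIso J U).homFromEquiv (Z := ModSite.toAb M)).symm).trans
    (CohFree.homEquivSect J U (ModSite.toAb M)).toEquiv

lemma β_comp {M N : ModSite.Mod O}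
    (φ : ModAbCohK.Ψ (ModSite.ringSh O) (hU (J := J) U) ⟶ M) (p : M ⟶ N) :
    β O U N (φ ≫ p) = p.val.app (op U) (β O U M φ) := by
  unfold β
  simp only [Equiv.trans_apply, AddEquiv.toEquiv_eq_coe, AddEquiv.coe_toEquiv]
  rw [ModAbCohK.α_naturality]
  rfl

/-- `Ψ` corepresents evaluation at `U` -/
noncomputable def corep : (ModSiteFree.evalAt O U).CorepresentableBy
    (ModAbCohK.Ψ (ModSite.ringSh O) (hU (J := J) U)) where
  homEquiv {M} := β O U M
  homEquiv_comp p g := β_comp O U g p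

/-- `j_! O_U ≅ O[h_U]` -/
noncomputable def freeOnIso : ModSite.freeOn O U ≅ ModAbCohK.Ψ (ModSite.ringSh O) (hU (J := J) U) :=
  (ModSiteFree.corep O U).uniqueUpToIso (corep O U)

theorem subsingleton_ext_freeOn [HasExt.{u} (ModSite.Mod O)] (F : ModSite.Mod O) (k : ℕ)
    (h : Subsingleton (ModSite.HU O F k U)) :
    Subsingleton (Ext (ModSite.freeOn O U) F k) := by
  have h1 : Subsingleton (CohCx.HK (hU (J := J) U) (ModSite.toAb F) k) :=
    subsingleton_ext_of_iso (TotAcyc.freeIso J U) (ModSite.toAb F) k h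
  obtain ⟨e⟩ := ModAbCohK.nonempty_ext_addEquiv (ModSite.ringSh O) (hU (J := J) U) F k
  have h2 : Subsingleton (Ext (ModAbCohK.Ψ (ModSite.ringSh O) (hU (J := J) U)) F k) :=
    e.toEquiv.subsingleton
  exact subsingleton_ext_of_iso (freeOnIso O U).symm F k h2

end Groth.Agent.Lib.Helper8.ModExtFree
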