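import Groth.Prelude.Def_CohCx
import Groth.Agent.Lib.Helper8.MilnorTri

/-!
# Helper8 — general facts on `CohCx.IsRlimVia` in a pretriangulated category
-/

universe w u

open CategoryTheory CategoryTheory.Limits Pretriangulated

namespace Groth.Agent.Lib.Helper8.RlimGen

variable {T : Type u} [Category.{w} T] [Preadditive T] [HasZeroObject T] [HasShift T ℤ]
  [∀ n : ℤ, (shiftFunctor T n).Additive] [Pretriangulated T]
  (K : ℕ → T) (t : ∀ n, K (n + 1) ⟶ K n) [HasProduct K] (L : T) (a : ∀ n, L ⟶ K n)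

lemma a_compat (hL : CohCx.IsRlimVia K t L a) (n : ℕ) : a (n + 1) ≫ t n = a n := by
  obtain ⟨c, hc⟩ := hL
  have h0 : Pi.lift a ≫ (Pi.lift fun n => Pi.π K n - Pi.π K (n + 1) ≫ t n) = 0 :=
    comp_distTriang_mor_zero₁₂ _ hc
  have h1 := congr_arg (fun f => f ≫ Pi.π K n) h0
  simp only [Category.assoc, Pi.lift_π, Preadditive.comp_sub, Pi.lift_π_assoc, zero_comp] at h1
  rw [sub_eq_zero] at h1
  exact h1.symm

lemma a_transition (hL : CohCx.IsRlimVia K t L a) (n k : ℕ) :
    a (n + k) ≫ CohCx.transition K t n k = a n := by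
  induction k with
  | zero => exact Category.comp_id _
  | succ k ih =>
    change a (n + k + 1) ≫ t (n + k) ≫ CohCx.transition K t n k = a n
    rw [← Category.assoc, a_compat K t L a hL, ih]

/-- vanishing at `nV` plus injectivity of transitions gives vanishing everywhere -/
lemma vanish_all (hL : CohCx.IsRlimVia K t L a) (m : ℤ) (nV : ℕ) {Z : T}
    (hinj : ∀ k : ℕ, Function.Injective
      (Preadditive.rightComp Z ((shiftFunctor T m).map (CohCx.transition K t nV k))))
    (ψ : Z ⟶ L⟦m⟧) (h0 : ψ ≫ (a nV)⟦m⟧' = 0) : ∀ n, ψ ≫ (a n)⟦m⟧' = 0 := by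
  have down : ∀ n, ψ ≫ (a (n + 1))⟦m⟧' = 0 → ψ ≫ (a n)⟦m⟧' = 0 := by
    intro n hn
    rw [← a_compat K t L a hL n, Functor.map_comp, ← Category.assoc, hn, zero_comp]
  have le : ∀ d n, n + d = nV → ψ ≫ (a n)⟦m⟧' = 0 := by
    intro d
    induction d with
    | zero => intro n hn; obtain rfl : n = nV := by omega
              exact h0
    | succ d ih => intro n hn; exact down n (ih (n + 1) (by omega))
  intro n
  by_cases hn : n ≤ nV
  · exact le (nV - n) n (by omega)
  · obtain ⟨k, rfl⟩ := Nat.exists_eq_add_of_le (not_le.1 hn).le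
    apply hinj k
    change (ψ ≫ (a (nV + k))⟦m⟧') ≫ (CohCx.transition K t nV k)⟦m⟧' =
      (0 : Z ⟶ (K (nV + k))⟦m⟧) ≫ (CohCx.transition K t nV k)⟦m⟧'
    rw [Category.assoc, ← Functor.map_comp, a_transition K t L a hL, h0, zero_comp]

/-- the homology-type statement: a class killed by `a nV` is zero, under `lim¹ = 0` one degree
lower and injectivity of the transition maps. -/
theorem eq_zero_of_comp_eq_zero (hL : CohCx.IsRlimVia K t L a) (m : ℤ) (nV : ℕ) {Z : T}
    (hlim : CohCx.LimOneIsZero (fun n => (Z ⟶ (K n)⟦m - 1⟧))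
      (fun n => Preadditive.rightComp Z ((shiftFunctor T (m - 1)).map (t n))))
    (hinj : ∀ k : ℕ, Function.Injective
      (Preadditive.rightComp Z ((shiftFunctor T m).map (CohCx.transition K t nV k))))
    (ψ : Z ⟶ L⟦m⟧) (h0 : ψ ≫ (a nV)⟦m⟧' = 0) : ψ = 0 := by
  have hall := vanish_all K t L a hL m nV hinj ψ h0
  obtain ⟨c, hc⟩ := hL
  exact MilnorTri.eq_zero K t L a c hc m (m - 1) (by omega) hlim ψ hall

/-- in a tower of sets with eventually surjective transition maps every element extends to a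
compatible family -/
lemma exists_compatible (N : ℕ) : ∀ (G : ℕ → Type w) (τ : ∀ n, G (n + 1) → G n),
    (∀ n, N ≤ n → Function.Surjective (τ n)) → ∀ g : G N,
    ∃ x : ∀ n, G n, (∀ n, τ n (x (n + 1)) = x n) ∧ x N = g := by
  induction N with
  | zero =>
    intro G τ hτ g
    choose s hs using fun n => hτ n (Nat.zero_le n)
    let x : ∀ n, G n := fun n => Nat.rec (motive := fun n => G n) g (fun n xn => s n xn) n
    exact ⟨x, fun n => hs n (x n), rfl⟩
  | succ N ih =>
    intro G τ hτ g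
    obtain ⟨x', hx', hg⟩ := ih (fun n => G (n + 1)) (fun n => τ (n + 1))
      (fun n hn => hτ (n + 1) (by omega)) g
    let x : ∀ n, G n := fun n =>
      Nat.casesOn (motive := fun n => G n) n (τ 0 (x' 0)) (fun n => x' n)
    refine ⟨x, fun n => ?_, hg⟩
    cases n with
    | zero => rfl
    | succ n => exact hx' n

/-- surjectivity: a class of `K nV` lifts to `L` when the transition maps above `nV` are
surjective on `Hom(Z, -⟦m⟧)`. -/
theorem exists_lift (hL : CohCx.IsRlimVia K t L a) (m : ℤ) (nV : ℕ) {Z : T}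
    (hsurj : ∀ n : ℕ, nV ≤ n → Function.Surjective
      (Preadditive.rightComp Z ((shiftFunctor T m).map (t n))))
    (ψ : Z ⟶ (K nV)⟦m⟧) : ∃ y : Z ⟶ L⟦m⟧, y ≫ (a nV)⟦m⟧' = ψ := by
  obtain ⟨x, hx, hψ⟩ := exists_compatible nV (fun n => (Z ⟶ (K n)⟦m⟧))
    (fun n f => f ≫ (t n)⟦m⟧') (fun n hn => hsurj n hn) ψ
  obtain ⟨c, hc⟩ := hL
  obtain ⟨y, hy⟩ := MilnorTri.lift_exists K t L a c hc m x hx
  exact ⟨y, (hy nV).trans hψ⟩

end Groth.Agent.Lib.Helper8.RlimGen
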