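import Groth.Agent.Lib.Helper8.ModHDU
import Groth.Agent.Lib.Helper8.RlimGen

/-!
# Helper8 — sectionwise injectivity / local surjectivity of `H^m(R lim K_n) → H^m(K_n)` in `D(O)`
-/

universe w u

open CategoryTheory CategoryTheory.Limits Opposite Pretriangulated

namespace Groth.Agent.Lib.Helper8.ModSectInj

open Groth.Agent.Lib.Helper8 DSingleHom ModHDU Groth.Agent.Lib.Helper1

variable {C : Type u} [SmallCategory C] {J : GrothendieckTopology C}
  (O : Sheaf J CommRingCat.{u}) [HasDerivedCategory.{w} (ModSite.Mod O)]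
  (K : ℕ → DerivedCategory (ModSite.Mod O)) (t : ∀ n, K (n + 1) ⟶ K n)
  [HasProduct K] (L : DerivedCategory (ModSite.Mod O)) (a : ∀ n, L ⟶ K n)

omit [HasDerivedCategory.{w} (ModSite.Mod O)] in
lemma map_comp_apply' (M : ModSite.Mod O) {U V W : C} (f : V ⟶ U) (g : W ⟶ V)
    (s : M.val.obj (op U)) :
    M.val.map (g ≫ f).op s = M.val.map g.op (M.val.map f.op s) := by
  rw [op_comp, PresheafOfModules.map_comp_apply]

theorem inj (hL : CohCx.IsRlimVia K t L a) (V : C) (m : ℤ) (nV : ℕ)
    (h : ∀ T ∈ J V, ∃ (ι : Type u) (Y : ι → C) (f : ∀ i, Y i ⟶ V), (∀ i, T.arrows (f i)) ∧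
      Sieve.ofArrows Y f ∈ J V ∧ ∀ i,
        CohCx.LimOneIsZero (fun n => HDUM O (K n) (m - 1) (Y i))
          (fun n => Preadditive.rightComp _ ((shiftFunctor _ (m - 1)).map (t n))) ∧
        ∀ k : ℕ, Function.Injective
          (Preadditive.rightComp
            ((DerivedCategory.singleFunctor (ModSite.Mod O) 0).obj (ModSite.freeOn O (Y i)))
            ((shiftFunctor _ m).map (CohCx.transition K t nV k)))) :
    Function.Injective
      (((DerivedCategory.homologyFunctor (ModSite.Mod O) m).map (a nV)).val.app (op V)) := by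
  set φ := (DerivedCategory.homologyFunctor (ModSite.Mod O) m).map (a nV) with hφ
  have key : ∀ s : (HM O L m).val.obj (op V), φ.val.app (op V) s = 0 → s = 0 := by
    intro s hs
    let T : Sieve V :=
      { arrows := fun W f => ∃ ψ : HDUM O L m W,
          αU O L m W ψ = (HM O L m).val.map f.op s ∧ ψ ≫ (a nV)⟦m⟧' = 0
        downward_closed := by
          rintro W W' f ⟨ψ, hψ1, hψ2⟩ g
          refine ⟨res O L m g ψ, ?_, ?_⟩
          · rw [αU_res, hψ1, map_comp_apply']
          · change (_ ≫ ψ) ≫ _ = 0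
            rw [Category.assoc, hψ2, comp_zero] }
    have hT : T ∈ J V := by
      obtain ⟨R, hR, hRf⟩ := locally_surj O L m V s
      refine J.transitive hR T ?_
      intro W f hf
      obtain ⟨ψ, hψ⟩ := hRf f hf
      have h2 : αU O (K nV) m W (ψ ≫ (a nV)⟦m⟧') = 0 := by
        rw [αU_natural, hψ]
        have nat := PresheafOfModules.naturality_apply φ.val f.op s
        rw [nat, hs]
        exact map_zero _
      obtain ⟨R', hR', hRf'⟩ := locally_zero O (K nV) m W _ h2
      refine J.superset_covering ?_ hR'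
      intro W' g hg
      refine ⟨res O L m g ψ, ?_, ?_⟩
      · rw [αU_res, hψ, map_comp_apply']
      · have := hRf' g hg
        change _ ≫ (ψ ≫ _) = 0 at this
        change (_ ≫ ψ) ≫ _ = 0
        rw [Category.assoc]
        exact this
    obtain ⟨ι, Z, f, hfT, hcov, hi⟩ := h T hT
    refine FreeOnMap.sec_ext O (HM O L m) _ hcov s 0 ?_
    rintro W g ⟨W', g', f', ⟨i⟩, rfl⟩
    obtain ⟨ψ, hψ1, hψ2⟩ := hfT i
    obtain ⟨hlim, hinj⟩ := hi i
    have hψ0 : ψ = 0 := RlimGen.eq_zero_of_comp_eq_zero K t L a hL m nV hlim hinj ψ hψ2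
    have hz : (HM O L m).val.map (f i).op s = 0 := by
      rw [← hψ1, hψ0]
      exact αU_zero O L m _
    have e1 : (HM O L m).val.map (g' ≫ f i).op s = 0 := by
      rw [map_comp_apply', hz]
      exact map_zero _
    have e2 : (HM O L m).val.map (g' ≫ f i).op (0 : (HM O L m).val.obj (op V)) = 0 := map_zero _
    exact e1.trans e2.symm
  intro x y hxy
  have := key (x - y) (by rw [map_sub, hxy, sub_self])
  exact sub_eq_zero.1 this

theorem loc_surj (hL : CohCx.IsRlimVia K t L a) (V : C) (m : ℤ) (nV : ℕ)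
    (h : ∀ T ∈ J V, ∃ (ι : Type u) (Y : ι → C) (f : ∀ i, Y i ⟶ V), (∀ i, T.arrows (f i)) ∧
      Sieve.ofArrows Y f ∈ J V ∧ ∀ i, ∀ n : ℕ, nV ≤ n → Function.Surjective
          (Preadditive.rightComp
            ((DerivedCategory.singleFunctor (ModSite.Mod O) 0).obj (ModSite.freeOn O (Y i)))
            ((shiftFunctor _ m).map (t n))))
    (s : (HM O (K nV) m).val.obj (op V)) :
    ∃ R ∈ J V, ∀ ⦃W : C⦄ (g : W ⟶ V), R.arrows g →
      ∃ s' : (HM O L m).val.obj (op W),
        ((DerivedCategory.homologyFunctor (ModSite.Mod O) m).map (a nV)).val.app (op W) s' =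
          (HM O (K nV) m).val.map g.op s := by
  set φ := (DerivedCategory.homologyFunctor (ModSite.Mod O) m).map (a nV) with hφ
  obtain ⟨R, hR, hRf⟩ := locally_surj O (K nV) m V s
  obtain ⟨ι, Z, f, hfT, hcov, hi⟩ := h R hR
  refine ⟨Sieve.ofArrows Z f, hcov, ?_⟩
  rintro W g ⟨W', g', f', ⟨i⟩, rfl⟩
  obtain ⟨ψ, hψ⟩ := hRf (f i) (hfT i)
  obtain ⟨y, hy⟩ := RlimGen.exists_lift K t L a hL m nV (hi i) ψ
  refine ⟨(HM O L m).val.map g'.op (αU O L m (Z i) y), ?_⟩
  have nat := PresheafOfModules.naturality_apply φ.val g'.op (αU O L m (Z i) y)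
  rw [nat, ← αU_natural, hy, hψ, map_comp_apply']

end Groth.Agent.Lib.Helper8.ModSectInj
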