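import Groth.Prelude.Def_ModSite
import Groth.Prelude.Def_CohCx
import Groth.Agent.Lib.Helper8.RlimTrC
import Groth.Agent.Lib.Helper8.RlimTrD
import Groth.Agent.Lib.Helper8.ModSectInj
import Groth.Agent.Lib.Helper8.ModExtFree

/-!
# Helper8 — `E = R lim τ_{≥ -n} E` in `D(O)` of a ringed site under locally bounded vanishing
-/

universe w u

open CategoryTheory CategoryTheory.Limits Pretriangulated DerivedCategory Opposite

namespace Groth.Agent.Lib.Helper8.RlimTrM

open Groth.Agent.Lib.Helper8.DTrunc Groth.Agent.Lib.Helper8.RlimTrA Groth.Agent.Lib.Helper8.RlimTrB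
  Groth.Agent.Lib.Helper8.RlimTrC Groth.Agent.Lib.Helper8.ModHDU

variable {C : Type u} [SmallCategory C] {J : GrothendieckTopology C}
  (O : Sheaf J CommRingCat.{u})

lemma mono_of_injective_on (B : Set C)
    (hB : ∀ U : C, ∃ (ι : Type u) (Y : ι → C) (f : ∀ i, Y i ⟶ U),
      Sieve.ofArrows Y f ∈ J U ∧ ∀ i, Y i ∈ B)
    {F G : ModSite.Mod O} (φ : F ⟶ G)
    (h : ∀ V ∈ B, Function.Injective (φ.val.app (op V))) : Mono φ := by
  haveI : Mono ((SheafOfModules.toSheaf (ModSite.ringSh O)).map φ) :=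
    RlimTrD.mono_of_injective_on B hB _ (fun V hV => h V hV)
  exact (SheafOfModules.toSheaf (ModSite.ringSh O)).mono_of_mono_map inferInstance

omit O in
/-- every covering sieve of `V` contains a covering family of members of `B` -/
lemma exists_refinement (B : Set C)
    (hB : ∀ U : C, ∃ (ι : Type u) (Y : ι → C) (f : ∀ i, Y i ⟶ U),
      Sieve.ofArrows Y f ∈ J U ∧ ∀ i, Y i ∈ B)
    (V : C) (T : Sieve V) (hT : T ∈ J V) :
    ∃ (ι : Type u) (Y : ι → C) (f : ∀ i, Y i ⟶ V),
      (∀ i, T.arrows (f i)) ∧ Sieve.ofArrows Y f ∈ J V ∧ ∀ i, Y i ∈ B := by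
  choose ι Z f hcov hZ using hB
  refine ⟨Σ (W : C) (g : {g : W ⟶ V // T.arrows g}), ι W,
    fun x => Z x.1 x.2.2, fun x => f x.1 x.2.2 ≫ x.2.1.1, ?_, ?_, fun x => hZ _ _⟩
  · rintro ⟨W, ⟨g, hg⟩, i⟩
    exact T.downward_closed hg _
  · refine J.transitive hT _ ?_
    intro W g hg
    refine J.superset_covering ?_ (hcov W)
    rintro W' k ⟨W'', k', f', ⟨i⟩, rfl⟩
    change (Sieve.ofArrows _ _).arrows ((k' ≫ f W i) ≫ g)
    rw [Category.assoc]
    apply Sieve.downward_closed
    exact Sieve.ofArrows_mk _ _ (⟨W, ⟨g, hg⟩, i⟩ : Σ (W : C) (g : {g : W ⟶ V // T.arrows g}), ι W)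

variable [HasDerivedCategory.{w} (ModSite.Mod O)]

/-- transitions are isomorphisms on `H^m` in the range `-n₀ ≤ m` -/
lemma isIso_H_transition {A : Type (u + 1)} [Category.{u} A] [Abelian A]
    [HasDerivedCategory.{w} A] (E : DerivedCategory A) (m : ℤ) (n₀ : ℕ) (hn₀ : -(n₀ : ℤ) ≤ m)
    (k : ℕ) : IsIso ((homologyFunctor A m).map
      (CohCx.transition (CohCx.truncTower E) (CohCx.truncTowerMap E) n₀ k)) := by
  induction k with
  | zero =>
    change IsIso ((homologyFunctor _ m).map (𝟙 _))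
    infer_instance
  | succ k ih =>
    change IsIso ((homologyFunctor _ m).map (CohCx.truncTowerMap E (n₀ + k) ≫
      CohCx.transition (CohCx.truncTower E) (CohCx.truncTowerMap E) n₀ k))
    rw [Functor.map_comp]
    haveI := isIso_H_truncTowerMap E (n₀ + k) m (by push_cast; omega)
    infer_instance

theorem main (E : DerivedCategory (ModSite.Mod O)) [HasProduct (CohCx.truncTower E)]
    (B : Set C)
    (hB : ∀ U : C, ∃ (ι : Type u) (Y : ι → C) (f : ∀ i, Y i ⟶ U),
      Sieve.ofArrows Y f ∈ J U ∧ ∀ i, Y i ∈ B)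
    (h : ∀ V ∈ B, ∃ p : ℤ → ℤ, ∀ T ∈ J V, ∃ (ι : Type u) (Y : ι → C) (f : ∀ i, Y i ⟶ V),
      (∀ i, T.arrows (f i)) ∧ Sieve.ofArrows Y f ∈ J V ∧
      ∀ (i : ι) (m : ℤ) (k : ℕ), p m < k →
        Subsingleton (ModSite.HU O ((homologyFunctor (ModSite.Mod O) (m - k)).obj E) k (Y i))) :
    CohCx.IsRlimVia (CohCx.truncTower E) (CohCx.truncTowerMap E) E (CohCx.toTruncTower E) := by
  haveI := Groth.Agent.Lib.Helper8.SheafModGroth.enoughInjectives J (ModSite.ringSh O)
  haveI : HasExt.{u} (ModSite.Mod O) := hasExt_of_enoughInjectives _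
  apply isRlimVia_of_mono
  intro L a hL m
  have hn₀ : -(((-m).toNat : ℕ) : ℤ) ≤ m := by omega
  refine ⟨(-m).toNat, hn₀, ?_⟩
  generalize (-m).toNat = n₀ at hn₀
  apply mono_of_injective_on O B hB
  intro V hV
  obtain ⟨p, hp⟩ := h V hV
  have hinj := ModSectInj.inj O (CohCx.truncTower E) (CohCx.truncTowerMap E) L a hL V m
    (n₀ + (p m - m).toNat) (fun T hT => by
      obtain ⟨ι, Y, f, hfT, hcov, hvan⟩ := hp T hT
      refine ⟨ι, Y, f, hfT, hcov, fun i => ?_⟩
      have := tower E (ModSite.freeOn O (Y i)) m (p m - m).toNat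
        (fun n hn k hk => ModExtFree.subsingleton_ext_freeOn O (Y i) _ k (hvan i m k (by omega)))
      exact ⟨this.1, this.2 _ (by omega)⟩)
  have hfac := RlimGen.a_transition (CohCx.truncTower E) (CohCx.truncTowerMap E) L a hL n₀
    (p m - m).toNat
  have hiso' := isIso_H_transition E m n₀ hn₀ (p m - m).toNat
  rw [← hfac, Functor.map_comp]
  intro x y hxy
  apply hinj
  have hbij : Function.Injective (((homologyFunctor (ModSite.Mod O) m).map
      (CohCx.transition (CohCx.truncTower E) (CohCx.truncTowerMap E) n₀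
        (p m - m).toNat)).val.app (op V)) := by
    have h1 : IsIso ((SheafOfModules.forget _).map ((homologyFunctor (ModSite.Mod O) m).map
        (CohCx.transition (CohCx.truncTower E) (CohCx.truncTowerMap E) n₀
          (p m - m).toNat))) := inferInstance
    have h2 : IsIso ((PresheafOfModules.evaluation _ (op V)).map
        ((SheafOfModules.forget _).map ((homologyFunctor (ModSite.Mod O) m).map
        (CohCx.transition (CohCx.truncTower E) (CohCx.truncTowerMap E) n₀
          (p m - m).toNat)))) := inferInstance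
    have h3 : IsIso (((homologyFunctor (ModSite.Mod O) m).map
        (CohCx.transition (CohCx.truncTower E) (CohCx.truncTowerMap E) n₀
          (p m - m).toNat)).val.app (op V)) := h2
    exact (ConcreteCategory.bijective_of_isIso _).1
  apply hbij
  exact hxy

end Groth.Agent.Lib.Helper8.RlimTrM
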