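import Groth.Prelude.Def_CohCx
import Groth.Prelude.Def_FreeSh
import Groth.Agent.Lib.Helper8.RlimTrD
import Groth.Agent.Lib.Helper8.RlimTrM
import Groth.Agent.Lib.Helper8.DSingleBij
import Groth.Agent.Lib.Helper8.AbHDU
import Groth.Agent.Lib.Helper8.MilnorTri
import Groth.Agent.Lib.Helper26.DProdK2

/-!
# Helper8 — `H^q(U, K) = H^q(K)(U)` on a class of objects with acyclic cohomology sheaves
(S0877, S0868)
-/

set_option autoImplicit false

universe u

open CategoryTheory CategoryTheory.Limits Pretriangulated DerivedCategory Opposite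

namespace Groth.Agent.Lib.Helper8.AcycColl

open Groth.Agent.Lib.Helper8 DSingleHom DTrunc RlimTrA RlimTrB RlimTrC

section Gen

variable {A : Type*} [Category A] [Abelian A] [HasExt A]

open Abelian in
lemma subsingleton_ext_of_iso_right (X : A) {Y Y' : A} (e : Y ≅ Y') (k : ℕ)
    (h : Subsingleton (Ext X Y k)) : Subsingleton (Ext X Y' k) := by
  refine ⟨fun a b => ?_⟩
  have h1 := h.elim (a.comp (Ext.mk₀ e.inv) (add_zero k)) (b.comp (Ext.mk₀ e.inv) (add_zero k))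
  have h2 := congrArg (fun z => z.comp (Ext.mk₀ e.hom) (add_zero k)) h1
  simpa [Ext.comp_assoc_of_third_deg_zero, Ext.mk₀_comp_mk₀, Ext.comp_mk₀_id] using h2

end Gen

variable {C : Type u} [SmallCategory C] {J : GrothendieckTopology C}
  [HasDerivedCategory.{u} (Sheaf J AddCommGrpCat.{u})]

/-- countable products in `D(Ab(C, J))` -/
lemma hasProduct_nat (X : ℕ → DerivedCategory (Sheaf J AddCommGrpCat.{u})) : HasProduct X := by
  haveI : HasProducts.{u} (DerivedCategory (Sheaf J AddCommGrpCat.{u})) :=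
    Groth.Agent.Lib.Helper26.DProdK2.hasProducts
  haveI : HasProducts.{0} (DerivedCategory (Sheaf J AddCommGrpCat.{u})) :=
    has_smallest_products_of_hasProducts
  infer_instance

/-- the Milnor argument: classes over `U` of `E` and of `τ_{≥0} E` agree -/
theorem bijective_toTrunc (E : DerivedCategory (Sheaf J AddCommGrpCat.{u}))
    [HasProduct (CohCx.truncTower E)]
    (hR : CohCx.IsRlimVia (CohCx.truncTower E) (CohCx.truncTowerMap E) E (CohCx.toTruncTower E))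
    (U : C)
    (hExt : ∀ (j : ℤ) (k : ℕ),
      Subsingleton (Abelian.Ext (CohCx.freeSheaf J U) (CohCx.HD E j) (k + 1))) :
    Function.Bijective (fun ψ : CohCx.HDU E 0 U => ψ ≫ (CohCx.toTruncTower E 0)⟦(0 : ℤ)⟧') := by
  obtain ⟨hlim, hinj⟩ := RlimTrC.tower E (CohCx.freeSheaf J U) 0 0 (fun n _ k hk => by
    obtain rfl : k = n + 1 := by omega
    exact hExt _ n)
  obtain ⟨c, hc⟩ := hR
  constructor
  · intro ψ₁ ψ₂ h12
    have h0 : (ψ₁ - ψ₂) ≫ (CohCx.toTruncTower E 0)⟦(0 : ℤ)⟧' = 0 := by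
      rw [Preadditive.sub_comp, sub_eq_zero]
      exact h12
    have hall := RlimSectInj.vanish_all (CohCx.truncTower E) (CohCx.truncTowerMap E) E
      (CohCx.toTruncTower E) ⟨c, hc⟩ 0 0 (fun k => hinj 0 le_rfl k) (ψ₁ - ψ₂) h0
    have := MilnorTri.eq_zero (CohCx.truncTower E) (CohCx.truncTowerMap E) E
      (CohCx.toTruncTower E) c hc 0 (0 - 1) (by omega) hlim (ψ₁ - ψ₂) hall
    exact sub_eq_zero.1 this
  · intro x₀
    have hsurj : ∀ (n : ℕ) (x : CohCx.HDU (CohCx.truncTower E n) 0 U),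
        ∃ x' : CohCx.HDU (CohCx.truncTower E (n + 1)) 0 U,
          x' ≫ (CohCx.truncTowerMap E n)⟦(0 : ℤ)⟧' = x := by
      intro n x
      have := (RlimTrB.step E n (CohCx.freeSheaf J U) 1 (fun k hk => by
        obtain ⟨k', rfl⟩ : ∃ k', k = k' + 1 := ⟨k - 1, by omega⟩
        exact hExt _ k')).2
      exact this x
    let xs : ∀ n : ℕ, CohCx.HDU (CohCx.truncTower E n) 0 U := fun n =>
      Nat.rec x₀ (fun n xn => (hsurj n xn).choose) n
    have hxs : ∀ n, xs (n + 1) ≫ (CohCx.truncTowerMap E n)⟦(0 : ℤ)⟧' = xs n := fun n =>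
      (hsurj n (xs n)).choose_spec
    obtain ⟨y, hy⟩ := MilnorTri.lift_exists (CohCx.truncTower E) (CohCx.truncTowerMap E) E
      (CohCx.toTruncTower E) c hc 0 xs hxs
    exact ⟨y, hy 0⟩

/-- `ψ ↦ ψ ≫ π` is bijective `Hom(ℤ_U, E) → Hom(ℤ_U, τ_{≥0} E)` -/
theorem bijective_comp_toTrunc (E : DerivedCategory (Sheaf J AddCommGrpCat.{u}))
    [HasProduct (CohCx.truncTower E)]
    (hR : CohCx.IsRlimVia (CohCx.truncTower E) (CohCx.truncTowerMap E) E (CohCx.toTruncTower E))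
    (U : C)
    (hExt : ∀ (j : ℤ) (k : ℕ),
      Subsingleton (Abelian.Ext (CohCx.freeSheaf J U) (CohCx.HD E j) (k + 1))) :
    Function.Bijective (fun ψ : Q.obj (sg (CohCx.freeSheaf J U)) ⟶ E =>
      ψ ≫ CohCx.toTruncTower E 0) := by
  have hb := bijective_toTrunc E hR U hExt
  let zE := (shiftFunctorZero (DerivedCategory (Sheaf J AddCommGrpCat.{u})) ℤ).app E
  let zT := (shiftFunctorZero (DerivedCategory (Sheaf J AddCommGrpCat.{u})) ℤ).app
    (CohCx.truncTower E 0)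
  have nat : (CohCx.toTruncTower E 0)⟦(0 : ℤ)⟧' ≫ zT.hom = zE.hom ≫ CohCx.toTruncTower E 0 :=
    (shiftFunctorZero (DerivedCategory (Sheaf J AddCommGrpCat.{u})) ℤ).hom.naturality _
  constructor
  · intro ψ₁ ψ₂ h
    have h' : ψ₁ ≫ CohCx.toTruncTower E 0 = ψ₂ ≫ CohCx.toTruncTower E 0 := h
    have h1 : (ψ₁ ≫ zE.inv) ≫ (CohCx.toTruncTower E 0)⟦(0 : ℤ)⟧' =
        (ψ₂ ≫ zE.inv) ≫ (CohCx.toTruncTower E 0)⟦(0 : ℤ)⟧' := by
      rw [← cancel_mono zT.hom]
      simp only [Category.assoc, nat, Iso.inv_hom_id_assoc]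
      exact h'
    have h2 := hb.1 h1
    exact (cancel_mono zE.inv).1 h2
  · intro x
    obtain ⟨y₀, hy⟩ := hb.2 (x ≫ zT.inv)
    let y : Q.obj (sg (CohCx.freeSheaf J U)) ⟶ E⟦(0 : ℤ)⟧ := y₀
    refine ⟨y ≫ zE.hom, ?_⟩
    have hy' : y ≫ (CohCx.toTruncTower E 0)⟦(0 : ℤ)⟧' = x ≫ zT.inv := hy
    have h1 : (y ≫ (CohCx.toTruncTower E 0)⟦(0 : ℤ)⟧') ≫ zT.hom = x := by
      rw [hy', Category.assoc, Iso.inv_hom_id]
      exact Category.comp_id _
    change (y ≫ zE.hom) ≫ CohCx.toTruncTower E 0 = x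
    rw [← h1, Category.assoc, Category.assoc, nat]

/-- the comparison map `H^q(U, K) → H^q(K)(U)` is bijective for `U ∈ B` -/
theorem αU_bijective (K : DerivedCategory (Sheaf J AddCommGrpCat.{u})) (B : Set C)
    (hB : ∀ U : C, ∃ (ι : Type u) (Y : ι → C) (f : ∀ i, Y i ⟶ U),
      Sieve.ofArrows Y f ∈ J U ∧ ∀ i, Y i ∈ B)
    (h : ∀ U ∈ B, ∀ (p : ℕ) (q : ℤ), Subsingleton (CohSite.HU (CohCx.HD K q) (p + 1) U))
    (U : C) (hU : U ∈ B) (q : ℤ) :
    Function.Bijective (AbHDU.αU K q U) := by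
  let E : DerivedCategory (Sheaf J AddCommGrpCat.{u}) := K⟦q⟧
  haveI : HasProduct (CohCx.truncTower E) := hasProduct_nat _
  have hHD : ∀ j : ℤ, CohCx.HD E j ≅ CohCx.HD K (q + j) := fun j =>
    ((DerivedCategory.homologyFunctor (Sheaf J AddCommGrpCat.{u}) 0).shiftIso q j (q + j) rfl).app K
  have hExt : ∀ V ∈ B, ∀ (j : ℤ) (k : ℕ),
      Subsingleton (Abelian.Ext (CohCx.freeSheaf J V) (CohCx.HD E j) (k + 1)) := by
    intro V hV j k
    exact subsingleton_ext_of_iso_right _ (hHD j).symm _ (h V hV k (q + j))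
  have hR : CohCx.IsRlimVia (CohCx.truncTower E) (CohCx.truncTowerMap E) E
      (CohCx.toTruncTower E) := by
    apply RlimTrD.main E B hB
    intro V hV
    refine ⟨fun _ => 0, fun T hT => ?_⟩
    obtain ⟨ι, Y, f, hfT, hcov, hYB⟩ := RlimTrM.exists_refinement B hB V T hT
    refine ⟨ι, Y, f, hfT, hcov, fun i m k hk => ?_⟩
    have hk' : (0 : ℤ) < k := hk
    obtain ⟨k', rfl⟩ : ∃ k', k = k' + 1 := ⟨k - 1, by omega⟩
    exact hExt (Y i) (hYB i) _ k'
  have hb := bijective_comp_toTrunc E hR U (hExt U hU)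
  haveI h0 : tt.IsGE (CohCx.truncTower E 0) 0 :=
    tt.isGE_of_ge _ 0 (-((0 : ℕ) : ℤ)) (by simp)
  haveI : (CohCx.truncTower E 0).IsGE 0 := h0
  have hθ := DSingleBij.θ_bijective (CohCx.freeSheaf J U) (CohCx.truncTower E 0)
  haveI : IsIso ((homologyFunctor (Sheaf J AddCommGrpCat.{u}) 0).map (CohCx.toTruncTower E 0)) :=
    isIso_H_toTrunc E 0 0 (by simp)
  have hθE : Function.Bijective
      (fun ψ : Q.obj (sg (CohCx.freeSheaf J U)) ⟶ E => θ ψ) := by
    have key : ∀ ψ : Q.obj (sg (CohCx.freeSheaf J U)) ⟶ E, θ ψ =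
        θ (ψ ≫ CohCx.toTruncTower E 0) ≫
          inv ((homologyFunctor (Sheaf J AddCommGrpCat.{u}) 0).map (CohCx.toTruncTower E 0)) := by
      intro ψ
      rw [θ_comp, Category.assoc, IsIso.hom_inv_id]
      exact (Category.comp_id _).symm
    constructor
    · intro a b hab
      have hab' : θ a = θ b := hab
      apply hb.1
      apply hθ.1
      rw [key a, key b] at hab'
      exact (cancel_mono _).1 hab'
    · intro g
      obtain ⟨x, hx⟩ := hθ.2 (g ≫ (homologyFunctor (Sheaf J AddCommGrpCat.{u}) 0).map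
        (CohCx.toTruncTower E 0))
      obtain ⟨y, hy⟩ := hb.2 x
      refine ⟨y, ?_⟩
      have hx' : θ x = g ≫ (homologyFunctor (Sheaf J AddCommGrpCat.{u}) 0).map
        (CohCx.toTruncTower E 0) := hx
      have hy' : y ≫ CohCx.toTruncTower E 0 = x := hy
      change θ y = g
      rw [key, hy', hx', Category.assoc, IsIso.hom_inv_id]
      exact Category.comp_id _
  constructor
  · intro a b hab
    rw [AbHDU.αU_apply, AbHDU.αU_apply] at hab
    have h1 : AbHDU.θq K q U a = AbHDU.θq K q U b :=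
      (CohFree.homEquivSect J U _).injective hab
    unfold AbHDU.θq at h1
    exact hθE.1 ((cancel_mono _).1 h1)
  · intro s
    obtain ⟨y, hy⟩ := hθE.2 (CohFree.ofSect J U _ s ≫ (AbHDU.sh K q).inv)
    have hy' : θ y = CohFree.ofSect J U _ s ≫ (AbHDU.sh K q).inv := hy
    refine ⟨y, ?_⟩
    rw [AbHDU.αU_apply]
    unfold AbHDU.θq
    rw [hy', Category.assoc, Iso.inv_hom_id]
    have : CohFree.ofSect J U (CohCx.HD K q) s ≫ 𝟙 _ = CohFree.ofSect J U (CohCx.HD K q) s :=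
      Category.comp_id _
    rw [this, CohFree.evalGen_ofSect]

/-- the statement of S0877 -/
theorem main (K : DerivedCategory (Sheaf J AddCommGrpCat.{u})) (B : Set C)
    (hB : ∀ U : C, ∃ (ι : Type u) (Y : ι → C) (f : ∀ i, Y i ⟶ U),
      Sieve.ofArrows Y f ∈ J U ∧ ∀ i, Y i ∈ B)
    (h : ∀ U ∈ B, ∀ (p : ℕ) (q : ℤ), Subsingleton (CohSite.HU (CohCx.HD K q) (p + 1) U))
    (U : C) (hU : U ∈ B) (q : ℤ) :
    Nonempty (CohCx.HDU K q U ≃+ (CohCx.HD K q).obj.obj (op U)) :=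
  ⟨AddEquiv.ofBijective (AbHDU.αU K q U) (αU_bijective K B hB h U hU q)⟩

end Groth.Agent.Lib.Helper8.AcycColl
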