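import Mathlib
import Groth.Agent.Lib.Helper8.Stupid2

/-!
# Helper8 — WayOut1: the lemma on way-out functors, bounded case (S11149).
-/

open CategoryTheory CategoryTheory.Limits CategoryTheory.Pretriangulated

namespace Groth.Agent.Lib.Helper8.WayOut

section General

variable {C D : Type*} [Category C] [Category D] [HasShift C ℤ] [HasShift D ℤ]
  {F G : C ⥤ D} (η : F ⟶ G)

/-- the objects at which `η` is an isomorphism. -/
def isoLocus : ObjectProperty C := fun X => IsIso (η.app X)

instance : (isoLocus η).IsClosedUnderIsomorphisms where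
  of_iso {X Y} e h := by
    have : IsIso (η.app X) := h
    have h1 : η.app Y = F.map e.inv ≫ η.app X ≫ G.map e.hom := by
      rw [← Category.assoc, η.naturality, Category.assoc, ← G.map_comp, e.inv_hom_id, G.map_id,
        Category.comp_id]
    change IsIso (η.app Y)
    rw [h1]
    infer_instance

variable [F.CommShift ℤ] [G.CommShift ℤ] [NatTrans.CommShift η ℤ]

lemma isoLocus_shift (X : C) (n : ℤ) (h : isoLocus η X) : isoLocus η (X⟦n⟧) := by
  have : IsIso (η.app X) := h
  change IsIso (η.app (X⟦n⟧))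
  rw [NatTrans.app_shift η n X]
  infer_instance

variable [HasZeroObject C] [HasZeroObject D] [Preadditive C] [Preadditive D]
  [∀ (n : ℤ), (shiftFunctor C n).Additive] [∀ (n : ℤ), (shiftFunctor D n).Additive]
  [Pretriangulated C] [Pretriangulated D] [F.IsTriangulated] [G.IsTriangulated]

omit [NatTrans.CommShift η ℤ] in
lemma isoLocus_zero (Z : C) (hZ : IsZero Z) : isoLocus η Z := by
  have h1 : IsZero (F.obj Z) := F.map_isZero hZ
  have h2 : IsZero (G.obj Z) := G.map_isZero hZ
  exact ⟨0, h1.eq_of_src _ _, h2.eq_of_src _ _⟩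

lemma isoLocus_ext (T : Triangle C) (hT : T ∈ distTriang C) (h1 : isoLocus η T.obj₁)
    (h3 : isoLocus η T.obj₃) : isoLocus η T.obj₂ := by
  have hF := F.map_distinguished T hT
  have hG := G.map_distinguished T hT
  let TF : Triangle D := Triangle.mk (F.map T.mor₁) (F.map T.mor₂)
    (F.map T.mor₃ ≫ (F.commShiftIso (1 : ℤ)).hom.app T.obj₁)
  let TG : Triangle D := Triangle.mk (G.map T.mor₁) (G.map T.mor₂)
    (G.map T.mor₃ ≫ (G.commShiftIso (1 : ℤ)).hom.app T.obj₁)
  have hF' : TF ∈ distTriang D := hF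
  have hG' : TG ∈ distTriang D := hG
  let φ : TF ⟶ TG :=
    Triangle.homMk TF TG (η.app T.obj₁) (η.app T.obj₂) (η.app T.obj₃) (η.naturality _)
      (η.naturality _) (by
        change (F.map T.mor₃ ≫ (F.commShiftIso (1 : ℤ)).hom.app T.obj₁) ≫ (η.app T.obj₁)⟦(1 : ℤ)⟧' =
          η.app T.obj₃ ≫ G.map T.mor₃ ≫ (G.commShiftIso (1 : ℤ)).hom.app T.obj₁
        rw [Category.assoc, NatTrans.shift_app_comm η (1 : ℤ) T.obj₁, ← Category.assoc,
          η.naturality, Category.assoc])
  exact isIso₂_of_isIso₁₃ φ hF' hG' h1 h3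

end General

section Derived

open DerivedCategory Groth.Agent.Lib.Helper8.Stupid Groth.Agent.Lib.Helper8.DTrunc

universe w w' v v' u u'

variable {A : Type u} [Category.{v} A] [Abelian A] [HasDerivedCategory.{w} A]
    {B : Type u'} [Category.{v'} B] [Abelian B] [HasDerivedCategory.{w'} B]

/-- S11149 -/
theorem wayOut_isIso_app_of_bounded
    (P : ObjectProperty A) [P.IsClosedUnderIsomorphisms]
    (F G : DerivedCategory A ⥤ DerivedCategory B) [F.CommShift ℤ] [G.CommShift ℤ]
    [F.IsTriangulated] [G.IsTriangulated] (η : F ⟶ G) [NatTrans.CommShift η ℤ]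
    (hη : ∀ X : A, P X → IsIso (η.app ((DerivedCategory.singleFunctor A 0).obj X)))
    (X : DerivedCategory A) (a b : ℤ) [X.IsGE a] [X.IsLE b]
    (hX : ∀ i : ℤ, P ((DerivedCategory.homologyFunctor A i).obj X)) :
    IsIso (η.app X) := by
  have hterm : ∀ i : ℤ, isoLocus η ((singleFunctor A i).obj ((homologyFunctor A i).obj X)) := by
    intro i
    have h1 : isoLocus η ((singleFunctor A 0).obj ((homologyFunctor A i).obj X)) := hη _ (hX i)
    exact (isoLocus η).prop_of_iso (((singleFunctors A).shiftIso (-i) i 0 (by omega)).app _)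
      (isoLocus_shift η _ (-i) h1)
  by_cases hab : a ≤ b + 1
  · obtain ⟨n, hn⟩ : ∃ n : ℕ, (n : ℤ) = b + 1 - a := ⟨(b + 1 - a).toNat, Int.toNat_of_nonneg (by omega)⟩
    have hGE' : X.IsGE (b + 1 - n) := by
      have : b + 1 - (n : ℤ) = a := by omega
      rw [this]; infer_instance
    exact induction_cohomology (isoLocus η) (isoLocus_ext η) (isoLocus_zero η) n X b inferInstance hGE'
      hterm
  · exact isoLocus_zero η _ (tt.isZero X b a (by omega))

end Derived

end Groth.Agent.Lib.Helper8.WayOut
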