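import Mathlib
import Groth.Agent.Lib.Helper8.WayOut1

/-!
# Helper8 — WayOut2: the lemma on way-out functors, one-sided and two-sided cases (S11150, S11151).
-/

open CategoryTheory CategoryTheory.Limits CategoryTheory.Pretriangulated

namespace Groth.Agent.Lib.Helper8.WayOut

open DerivedCategory Groth.Agent.Lib.Helper8.Stupid Groth.Agent.Lib.Helper8.DTrunc
  Groth.Agent.Lib.Helper8.PAmp

universe w w' v v' u u'

variable {A : Type u} [Category.{v} A] [Abelian A] [HasDerivedCategory.{w} A]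
    {B : Type u'} [Category.{v'} B] [Abelian B] [HasDerivedCategory.{w'} B]

lemma isIso_homologyMap_mor₁ (T : Triangle (DerivedCategory B)) (hT : T ∈ distTriang _) (j : ℤ)
    (h : T.obj₃.IsGE (j + 1)) : IsIso ((homologyFunctor B j).map T.mor₁) := by
  have h1 : Mono ((homologyFunctor B j).map T.mor₁) :=
    (HomologySequence.mono_homologyMap_mor₁_iff _ hT (j - 1) j (by omega)).2
      ((isZero_of_isGE T.obj₃ (j + 1) (j - 1) (by omega)).eq_of_src _ _)
  have h2 : Epi ((homologyFunctor B j).map T.mor₁) :=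
    (HomologySequence.epi_homologyMap_mor₁_iff _ hT j).2
      ((isZero_of_isGE T.obj₃ (j + 1) j (by omega)).eq_of_tgt _ _)
  exact isIso_of_mono_of_epi _

lemma isIso_homologyMap_mor₂ (T : Triangle (DerivedCategory B)) (hT : T ∈ distTriang _) (j : ℤ)
    (h : T.obj₁.IsLE (j - 1)) : IsIso ((homologyFunctor B j).map T.mor₂) := by
  have h1 : Mono ((homologyFunctor B j).map T.mor₂) :=
    (HomologySequence.mono_homologyMap_mor₂_iff _ hT j).2
      ((isZero_of_isLE T.obj₁ (j - 1) j (by omega)).eq_of_src _ _)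
  have h2 : Epi ((homologyFunctor B j).map T.mor₂) :=
    (HomologySequence.epi_homologyMap_mor₂_iff _ hT j (j + 1) rfl).2
      ((isZero_of_isLE T.obj₁ (j - 1) (j + 1) (by omega)).eq_of_tgt _ _)
  exact isIso_of_mono_of_epi _

lemma isIso_homologyMap_truncGEπ' (X : DerivedCategory A) (n i : ℤ) (hi : n ≤ i) :
    IsIso ((homologyFunctor A i).map ((tt.truncGEπ n).app X)) :=
  isIso_homologyMap_mor₂ _ (tt.triangleLTGE_distinguished n X) i
    (tt.isLE_of_le ((tt.truncLT n).obj X) (n - 1) (i - 1) (by omega))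

variable (P : ObjectProperty A) [P.IsClosedUnderIsomorphisms]
    (F G : DerivedCategory A ⥤ DerivedCategory B) [F.CommShift ℤ] [G.CommShift ℤ]
    [F.IsTriangulated] [G.IsTriangulated] (η : F ⟶ G) [NatTrans.CommShift η ℤ]

/-- S11150 -/
theorem wayOut_isIso_app_of_isGE_of_wayOutRight
    (hF : ∀ n₁ : ℤ, ∃ n₂ : ℤ, ∀ Y : DerivedCategory A, Y.IsGE n₂ → (F.obj Y).IsGE n₁)
    (hG : ∀ n₁ : ℤ, ∃ n₂ : ℤ, ∀ Y : DerivedCategory A, Y.IsGE n₂ → (G.obj Y).IsGE n₁)
    (hη : ∀ X : A, P X → IsIso (η.app ((DerivedCategory.singleFunctor A 0).obj X)))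
    (X : DerivedCategory A) (a : ℤ) [X.IsGE a]
    (hX : ∀ i : ℤ, P ((DerivedCategory.homologyFunctor A i).obj X)) :
    IsIso (η.app X) := by
  have hP0 : ∀ Z : A, IsZero Z → P Z := fun Z hZ =>
    P.prop_of_iso ((isZero_of_isGE X a (a - 1) (by omega)).iso hZ) (hX (a - 1))
  rw [DerivedCategory.isIso_iff]
  intro j
  obtain ⟨nF, hnF⟩ := hF (j + 1)
  obtain ⟨nG, hnG⟩ := hG (j + 1)
  let n := max nF nG
  have hT := tt.triangleLTGE_distinguished n X
  let X' := (tt.truncLT n).obj X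
  let X'' := (tt.truncGE n).obj X
  let ι : X' ⟶ X := (tt.truncLTι n).app X
  have : X'.IsGE a := (inferInstance : tt.IsGE ((tt.truncLT n).obj X) a)
  have : X'.IsLE (n - 1) := (inferInstance : tt.IsLE ((tt.truncLT n).obj X) (n - 1))
  have h1 : IsIso (η.app X') := by
    refine wayOut_isIso_app_of_bounded P F G η hη X' a (n - 1) (fun i => ?_)
    by_cases hi : i < n
    · have := isIso_homologyMap_truncLTι X n i hi
      exact P.prop_of_iso (asIso ((homologyFunctor A i).map ((tt.truncLTι n).app X))).symm (hX i)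
    · exact hP0 _ (isZero_of_isLE X' (n - 1) i (by omega))
  have hX''F : X''.IsGE nF := tt.isGE_of_ge X'' nF n (le_max_left _ _)
  have hX''G : X''.IsGE nG := tt.isGE_of_ge X'' nG n (le_max_right _ _)
  have h2 : IsIso ((homologyFunctor B j).map (F.map ι)) :=
    isIso_homologyMap_mor₁ _ (F.map_distinguished _ hT) j (hnF X'' hX''F)
  have h3 : IsIso ((homologyFunctor B j).map (G.map ι)) :=
    isIso_homologyMap_mor₁ _ (G.map_distinguished _ hT) j (hnG X'' hX''G)
  have h4 : (homologyFunctor B j).map (F.map ι) ≫ (homologyFunctor B j).map (η.app X) =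
      (homologyFunctor B j).map (η.app X') ≫ (homologyFunctor B j).map (G.map ι) := by
    rw [← Functor.map_comp, ← Functor.map_comp, η.naturality]
  have h5 : (homologyFunctor B j).map (η.app X) = inv ((homologyFunctor B j).map (F.map ι)) ≫
      (homologyFunctor B j).map (η.app X') ≫ (homologyFunctor B j).map (G.map ι) := by
    rw [← h4, IsIso.inv_hom_id_assoc]
  rw [h5]
  infer_instance

/-- the dual of S11150 -/
theorem wayOut_isIso_app_of_isLE_of_wayOutLeft (hP0 : ∀ Z : A, IsZero Z → P Z)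
    (hF : ∀ n₁ : ℤ, ∃ n₂ : ℤ, ∀ Y : DerivedCategory A, Y.IsLE n₂ → (F.obj Y).IsLE n₁)
    (hG : ∀ n₁ : ℤ, ∃ n₂ : ℤ, ∀ Y : DerivedCategory A, Y.IsLE n₂ → (G.obj Y).IsLE n₁)
    (hη : ∀ X : A, P X → IsIso (η.app ((DerivedCategory.singleFunctor A 0).obj X)))
    (X : DerivedCategory A) (b : ℤ) [X.IsLE b]
    (hX : ∀ i : ℤ, P ((DerivedCategory.homologyFunctor A i).obj X)) :
    IsIso (η.app X) := by
  rw [DerivedCategory.isIso_iff]
  intro j
  obtain ⟨nF, hnF⟩ := hF (j - 1)
  obtain ⟨nG, hnG⟩ := hG (j - 1)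
  let n := min nF nG + 1
  have hT := tt.triangleLTGE_distinguished n X
  let X' := (tt.truncLT n).obj X
  let X'' := (tt.truncGE n).obj X
  let π : X ⟶ X'' := (tt.truncGEπ n).app X
  have : X''.IsLE b := (inferInstance : tt.IsLE ((tt.truncGE n).obj X) b)
  have : X''.IsGE n := (inferInstance : tt.IsGE ((tt.truncGE n).obj X) n)
  have h1 : IsIso (η.app X'') := by
    refine wayOut_isIso_app_of_bounded P F G η hη X'' n b (fun i => ?_)
    by_cases hi : n ≤ i
    · have := isIso_homologyMap_truncGEπ' X n i hi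
      exact P.prop_of_iso (asIso ((homologyFunctor A i).map ((tt.truncGEπ n).app X))) (hX i)
    · exact hP0 _ (isZero_of_isGE X'' n i (by omega))
  have : X'.IsLE (n - 1) := (inferInstance : tt.IsLE ((tt.truncLT n).obj X) (n - 1))
  have hX'F : X'.IsLE nF := tt.isLE_of_le X' (n - 1) nF (by
    have := min_le_left nF nG
    omega)
  have hX'G : X'.IsLE nG := tt.isLE_of_le X' (n - 1) nG (by
    have := min_le_right nF nG
    omega)
  have h2 : IsIso ((homologyFunctor B j).map (F.map π)) :=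
    isIso_homologyMap_mor₂ _ (F.map_distinguished _ hT) j (hnF X' hX'F)
  have h3 : IsIso ((homologyFunctor B j).map (G.map π)) :=
    isIso_homologyMap_mor₂ _ (G.map_distinguished _ hT) j (hnG X' hX'G)
  have h4 : (homologyFunctor B j).map (η.app X) ≫ (homologyFunctor B j).map (G.map π) =
      (homologyFunctor B j).map (F.map π) ≫ (homologyFunctor B j).map (η.app X'') := by
    rw [← Functor.map_comp, ← Functor.map_comp, η.naturality]
  have h5 : (homologyFunctor B j).map (η.app X) = ((homologyFunctor B j).map (F.map π) ≫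
      (homologyFunctor B j).map (η.app X'')) ≫ inv ((homologyFunctor B j).map (G.map π)) := by
    rw [← h4, Category.assoc, IsIso.hom_inv_id, Category.comp_id]
  rw [h5]
  infer_instance

/-- S11151 -/
theorem wayOut_isIso_app_of_wayOutBoth (hP : ∀ Z : A, IsZero Z → P Z)
    (hF : ∀ n₁ : ℤ, ∃ n₂ : ℤ, ∀ Y : DerivedCategory A, Y.IsGE n₂ → (F.obj Y).IsGE n₁)
    (hF' : ∀ n₁ : ℤ, ∃ n₂ : ℤ, ∀ Y : DerivedCategory A, Y.IsLE n₂ → (F.obj Y).IsLE n₁)
    (hG : ∀ n₁ : ℤ, ∃ n₂ : ℤ, ∀ Y : DerivedCategory A, Y.IsGE n₂ → (G.obj Y).IsGE n₁)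
    (hG' : ∀ n₁ : ℤ, ∃ n₂ : ℤ, ∀ Y : DerivedCategory A, Y.IsLE n₂ → (G.obj Y).IsLE n₁)
    (hη : ∀ X : A, P X → IsIso (η.app ((DerivedCategory.singleFunctor A 0).obj X)))
    (X : DerivedCategory A)
    (hX : ∀ i : ℤ, P ((DerivedCategory.homologyFunctor A i).obj X)) :
    IsIso (η.app X) := by
  have hT := tt.triangleLTGE_distinguished 0 X
  let X' := (tt.truncLT 0).obj X
  let X'' := (tt.truncGE 0).obj X
  have : X'.IsLE (0 - 1) := (inferInstance : tt.IsLE ((tt.truncLT 0).obj X) (0 - 1))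
  have : X''.IsGE 0 := (inferInstance : tt.IsGE ((tt.truncGE 0).obj X) 0)
  have h1 : IsIso (η.app X') := by
    refine wayOut_isIso_app_of_isLE_of_wayOutLeft P F G η hP hF' hG' hη X' (0 - 1) (fun i => ?_)
    by_cases hi : i < 0
    · have := isIso_homologyMap_truncLTι X 0 i hi
      exact P.prop_of_iso (asIso ((homologyFunctor A i).map ((tt.truncLTι 0).app X))).symm (hX i)
    · exact hP _ (isZero_of_isLE X' (0 - 1) i (by omega))
  have h2 : IsIso (η.app X'') := by
    refine wayOut_isIso_app_of_isGE_of_wayOutRight P F G η hF hG hη X'' 0 (fun i => ?_)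
    by_cases hi : 0 ≤ i
    · have := isIso_homologyMap_truncGEπ' X 0 i hi
      exact P.prop_of_iso (asIso ((homologyFunctor A i).map ((tt.truncGEπ 0).app X))) (hX i)
    · exact hP _ (isZero_of_isGE X'' 0 i (by omega))
  exact isoLocus_ext η _ hT h1 h2

end Groth.Agent.Lib.Helper8.WayOut
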