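import Mathlib
import Groth.Agent.Lib.Helper8.WayOut2

/-! # Helper8 — AdjWayOut1: for an adjunction `L ⊣ R` on derived categories with `L` triangulated and
t-exact, `R` is left t-exact, and unit/counit are isomorphisms on bounded below objects as soon as
they are on the cohomology objects (lemma on way-out functors; for S9067, S9068, S9069). -/

set_option autoImplicit false

universe w₁ w₂ v₁ v₂ u₁ u₂

open CategoryTheory CategoryTheory.Limits CategoryTheory.Pretriangulated DerivedCategory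

namespace Groth.Agent.Lib.Helper8.AdjWayOut

variable {𝒜 : Type u₁} [Category.{v₁} 𝒜] [Abelian 𝒜] [HasDerivedCategory.{w₁} 𝒜]
  {ℬ : Type u₂} [Category.{v₂} ℬ] [Abelian ℬ] [HasDerivedCategory.{w₂} ℬ]
  {L : DerivedCategory 𝒜 ⥤ DerivedCategory ℬ} {R : DerivedCategory ℬ ⥤ DerivedCategory 𝒜}
  (adj : L ⊣ R)

variable [L.CommShift ℤ] [L.IsTriangulated]
  (hLle : ∀ (Y : DerivedCategory 𝒜) (n : ℤ), Y.IsLE n → (L.obj Y).IsLE n)
  (hLge : ∀ (Y : DerivedCategory 𝒜) (n : ℤ), Y.IsGE n → (L.obj Y).IsGE n)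

include adj hLle in
/-- the right adjoint of a right t-exact functor is left t-exact. -/
lemma isGE_right (X : DerivedCategory ℬ) (n : ℤ) (hX : X.IsGE n) : (R.obj X).IsGE n := by
  refine (DerivedCategory.TStructure.t.isGE_iff_orthogonal (n - 1) n (by omega) (R.obj X)).2 ?_
  intro Z g hZ
  have h0 : (adj.homEquiv Z X).symm g = 0 := by
    haveI : (L.obj Z).IsLE (n - 1) := hLle Z (n - 1) hZ
    exact DerivedCategory.TStructure.t.zero _ (n - 1) n (by omega)
  apply (adj.homEquiv Z X).symm.injective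
  rw [h0]
  simp [Adjunction.homEquiv_counit]

include hLle hLge in
/-- way-out dévissage for the counit of `L ⊣ R`, `L` t-exact: iso on cohomology objects implies
iso on bounded below objects. -/
theorem isIso_counit (X : DerivedCategory ℬ) (n₀ : ℤ) [X.IsGE n₀]
    (h : ∀ q : ℤ, IsIso (adj.counit.app
      ((singleFunctor ℬ 0).obj ((homologyFunctor ℬ q).obj X)))) :
    IsIso (adj.counit.app X) := by
  letI := adj.rightAdjointCommShift ℤ
  haveI := adj.commShift_of_leftAdjoint ℤ
  haveI : R.IsTriangulated := adj.isTriangulated_rightAdjoint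
  let P : ObjectProperty ℬ := (WayOut.isoLocus adj.counit).inverseImage (singleFunctor ℬ 0)
  exact WayOut.wayOut_isIso_app_of_isGE_of_wayOutRight P (R ⋙ L) (𝟭 _) adj.counit
    (fun n => ⟨n, fun Y hY => hLge _ n (isGE_right adj hLle Y n hY)⟩)
    (fun n => ⟨n, fun Y hY => hY⟩)
    (fun M hM => hM) X n₀ h

include hLle hLge in
/-- way-out dévissage for the unit of `L ⊣ R`, `L` t-exact. -/
theorem isIso_unit (Y : DerivedCategory 𝒜) (n₀ : ℤ) [Y.IsGE n₀]
    (h : ∀ q : ℤ, IsIso (adj.unit.app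
      ((singleFunctor 𝒜 0).obj ((homologyFunctor 𝒜 q).obj Y)))) :
    IsIso (adj.unit.app Y) := by
  letI := adj.rightAdjointCommShift ℤ
  haveI := adj.commShift_of_leftAdjoint ℤ
  haveI : R.IsTriangulated := adj.isTriangulated_rightAdjoint
  let P : ObjectProperty 𝒜 := (WayOut.isoLocus adj.unit).inverseImage (singleFunctor 𝒜 0)
  exact WayOut.wayOut_isIso_app_of_isGE_of_wayOutRight P (𝟭 _) (L ⋙ R) adj.unit
    (fun n => ⟨n, fun Y hY => hY⟩)
    (fun n => ⟨n, fun Y hY => isGE_right adj hLle _ n (hLge Y n hY)⟩)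
    (fun M hM => hM) Y n₀ h

end Groth.Agent.Lib.Helper8.AdjWayOut
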