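import Groth.Agent.Lib.Helper8.Sib1

/-!
# Fully faithfulness by dévissage

`Bij G K L` : `G` induces a bijection `Hom(K, L) → Hom(G K, G L)`.  Invariance under isomorphisms
and shifts, five lemmas in both variables and dévissage along cell structures.
-/

set_option linter.unusedSectionVars false

universe v₁ v₂ v₃ u₁ u₂ u₃

open CategoryTheory Limits Pretriangulated

namespace Helper8.Sib

variable {A : Type u₁} [Category.{v₁} A]
  {B : Type u₂} [Category.{v₂} B] [Preadditive B] [HasZeroObject B] [HasShift B ℤ]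
  [∀ n : ℤ, (shiftFunctor B n).Additive] [Pretriangulated B]
  {D : Type u₃} [Category.{v₃} D] [Preadditive D] [HasZeroObject D] [HasShift D ℤ]
  [∀ n : ℤ, (shiftFunctor D n).Additive] [Pretriangulated D]

/-- `G` is bijective on `Hom(K, L)`. -/
def Bij (G : B ⥤ D) (K L : B) : Prop :=
  Function.Bijective (G.map : (K ⟶ L) → (G.obj K ⟶ G.obj L))

section

variable (G : B ⥤ D)

lemma Bij.of_iso {G : B ⥤ D} {K K' L L' : B} (h : Bij G K L) (eK : K ≅ K') (eL : L ≅ L') :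
    Bij G K' L' := by
  constructor
  · intro x x' hxx
    have : G.map (eK.hom ≫ x ≫ eL.inv) = G.map (eK.hom ≫ x' ≫ eL.inv) := by
      simp only [Functor.map_comp, hxx]
    have h' := h.1 this
    rw [← cancel_epi eK.hom, ← cancel_mono eL.inv]
    simpa only [Category.assoc] using h'
  · intro y
    obtain ⟨x₀, hx₀⟩ := h.2 (G.map eK.hom ≫ y ≫ G.map eL.inv)
    refine ⟨eK.inv ≫ x₀ ≫ eL.hom, ?_⟩
    rw [Functor.map_comp, Functor.map_comp, hx₀, Category.assoc, Category.assoc,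
      ← Functor.map_comp, Iso.inv_hom_id, CategoryTheory.Functor.map_id, Category.comp_id,
      ← Functor.map_comp_assoc, Iso.inv_hom_id, CategoryTheory.Functor.map_id, Category.id_comp]

lemma map_shift_eq [G.CommShift ℤ] {K L : B} (x : K ⟶ L) (n : ℤ) :
    G.map ((shiftFunctor B n).map x) = (G.commShiftIso n).hom.app K ≫
      (shiftFunctor D n).map (G.map x) ≫ (G.commShiftIso n).inv.app L := by
  have h := (G.commShiftIso n).hom.naturality x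
  dsimp at h
  rw [← reassoc_of% h, Iso.hom_inv_id_app]
  exact (Category.comp_id _).symm

lemma Bij.shift {G : B ⥤ D} [G.CommShift ℤ] {K L : B} (h : Bij G K L) (n : ℤ) :
    Bij G (K⟦n⟧) (L⟦n⟧) := by
  constructor
  · intro x x' hxx
    obtain ⟨x₀, rfl⟩ := (shiftFunctor B n).map_surjective x
    obtain ⟨x₀', rfl⟩ := (shiftFunctor B n).map_surjective x'
    rw [map_shift_eq, map_shift_eq] at hxx
    have h1 : (shiftFunctor D n).map (G.map x₀) = (shiftFunctor D n).map (G.map x₀') := by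
      have := congrArg (fun z => (G.commShiftIso n).inv.app K ≫ z ≫
        (G.commShiftIso n).hom.app L) hxx
      simpa using this
    rw [h.1 ((shiftFunctor D n).map_injective h1)]
  · intro y
    obtain ⟨y₀, hy₀⟩ := (shiftFunctor D n).map_surjective
      ((G.commShiftIso n).inv.app K ≫ y ≫ (G.commShiftIso n).hom.app L)
    obtain ⟨x₀, rfl⟩ := h.2 y₀
    refine ⟨(shiftFunctor B n).map x₀, ?_⟩
    rw [map_shift_eq, hy₀]
    simp

lemma bij_of_isZero_left [G.PreservesZeroMorphisms] {K : B} (hK : IsZero K) (L : B) :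
    Bij G K L :=
  ⟨fun _ _ _ => hK.eq_of_src _ _,
    fun _ => ⟨0, (G.map_isZero hK).eq_of_src _ _⟩⟩

lemma bij_of_isZero_right [G.PreservesZeroMorphisms] (K : B) {L : B} (hL : IsZero L) :
    Bij G K L :=
  ⟨fun _ _ _ => hL.eq_of_tgt _ _,
    fun _ => ⟨0, (G.map_isZero hL).eq_of_tgt _ _⟩⟩

end

section Five

variable (G : B ⥤ D) [G.CommShift ℤ] [G.IsTriangulated]

lemma bij_of_kernel {K L : B} (hinj : ∀ x : K ⟶ L, G.map x = 0 → x = 0)
    (hsurj : ∀ y : G.obj K ⟶ G.obj L, ∃ x, G.map x = y) : Bij G K L := by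
  refine ⟨fun x x' hxx => ?_, hsurj⟩
  have := hinj (x - x') (by rw [G.map_sub, hxx, sub_self])
  exact sub_eq_zero.1 this

/-- five lemma in the first variable. -/
lemma five₁_core {K₁ K₂ K₃ : B} (f : K₁ ⟶ K₂) (g : K₂ ⟶ K₃) (δ : K₃ ⟶ K₁⟦(1 : ℤ)⟧)
    (hT : Triangle.mk f g δ ∈ distTriang B) (L : B)
    (h₁ : Bij G K₁ L) (h₃ : Bij G K₃ L) (h₁' : Bij G (K₁⟦(1 : ℤ)⟧) L)
    (h₃' : Bij G (K₃⟦(-1 : ℤ)⟧) L) : Bij G K₂ L := by
  have hGT : G.mapTriangle.obj (Triangle.mk f g δ) ∈ distTriang D := G.map_distinguished _ hT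
  have hTi := inv_rot_of_distTriang _ hT
  apply bij_of_kernel
  · intro x hx
    have h1 : f ≫ x = 0 := h₁.1 (by rw [G.map_comp, hx, comp_zero, G.map_zero])
    obtain ⟨x₃, rfl⟩ : ∃ x₃ : K₃ ⟶ L, x = g ≫ x₃ := Triangle.yoneda_exact₂ _ hT x h1
    have h2 : G.map g ≫ G.map x₃ = 0 := by rw [← G.map_comp, hx]
    obtain ⟨w, hw⟩ : ∃ w : (G.obj K₁)⟦(1 : ℤ)⟧ ⟶ G.obj L,
        G.map x₃ = (G.map δ ≫ (G.commShiftIso (1 : ℤ)).hom.app K₁) ≫ w :=
      Triangle.yoneda_exact₃ _ hGT (G.map x₃) h2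
    obtain ⟨x₁', hx₁'⟩ := h₁'.2 ((G.commShiftIso (1 : ℤ)).hom.app K₁ ≫ w)
    have h3 : x₃ = δ ≫ x₁' := h₃.1 (by rw [hw, G.map_comp, hx₁', Category.assoc])
    rw [h3]
    have h4 : g ≫ δ = 0 := comp_distTriang_mor_zero₂₃ _ hT
    rw [reassoc_of% h4, zero_comp]
  · intro y
    obtain ⟨x₁, hx₁⟩ := h₁.2 (G.map f ≫ y)
    let δ' : K₃⟦(-1 : ℤ)⟧ ⟶ K₁ := (Triangle.mk f g δ).invRotate.mor₁
    have hδ'f : δ' ≫ f = 0 := comp_distTriang_mor_zero₁₂ _ hTi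
    have h1 : δ' ≫ x₁ = 0 := h₃'.1 (by
      rw [G.map_comp, hx₁, ← G.map_comp_assoc, hδ'f, G.map_zero, zero_comp, G.map_zero])
    obtain ⟨x₂, rfl⟩ : ∃ x₂ : K₂ ⟶ L, x₁ = f ≫ x₂ := Triangle.yoneda_exact₂ _ hTi x₁ h1
    have h2 : G.map f ≫ (y - G.map x₂) = 0 := by
      rw [Preadditive.comp_sub, ← hx₁, G.map_comp, sub_self]
    obtain ⟨z, hz⟩ : ∃ z : G.obj K₃ ⟶ G.obj L, y - G.map x₂ = G.map g ≫ z :=
      Triangle.yoneda_exact₂ _ hGT _ h2
    obtain ⟨x₃, rfl⟩ := h₃.2 z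
    refine ⟨x₂ + g ≫ x₃, ?_⟩
    rw [G.map_add, G.map_comp, ← hz]
    abel

/-- five lemma in the second variable. -/
lemma five₂_core {L₁ L₂ L₃ : B} (f : L₁ ⟶ L₂) (g : L₂ ⟶ L₃) (δ : L₃ ⟶ L₁⟦(1 : ℤ)⟧)
    (hT : Triangle.mk f g δ ∈ distTriang B) (K : B)
    (h₁ : Bij G K L₁) (h₃ : Bij G K L₃) (h₁' : Bij G K (L₁⟦(1 : ℤ)⟧))
    (h₃' : Bij G K (L₃⟦(-1 : ℤ)⟧)) : Bij G K L₂ := by
  have hGT : G.mapTriangle.obj (Triangle.mk f g δ) ∈ distTriang D := G.map_distinguished _ hT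
  have hTi := inv_rot_of_distTriang _ hT
  have hGTi : G.mapTriangle.obj (Triangle.mk f g δ).invRotate ∈ distTriang D :=
    G.map_distinguished _ hTi
  let δ' : L₃⟦(-1 : ℤ)⟧ ⟶ L₁ := (Triangle.mk f g δ).invRotate.mor₁
  have hδ'f : δ' ≫ f = 0 := comp_distTriang_mor_zero₁₂ _ hTi
  apply bij_of_kernel
  · intro x hx
    have h1 : x ≫ g = 0 := h₃.1 (by rw [G.map_comp, hx, zero_comp, G.map_zero])
    obtain ⟨x₁, rfl⟩ : ∃ x₁ : K ⟶ L₁, x = x₁ ≫ f := Triangle.coyoneda_exact₂ _ hT x h1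
    have h2 : G.map x₁ ≫ G.map f = 0 := by rw [← G.map_comp, hx]
    obtain ⟨w, hw⟩ : ∃ w : G.obj K ⟶ G.obj (L₃⟦(-1 : ℤ)⟧), G.map x₁ = w ≫ G.map δ' :=
      Triangle.coyoneda_exact₂ _ hGTi (G.map x₁) h2
    obtain ⟨x₃', rfl⟩ := h₃'.2 w
    have h3 : x₁ = x₃' ≫ δ' := h₁.1 (by rw [hw, G.map_comp])
    rw [h3, Category.assoc, hδ'f, comp_zero]
  · intro y
    obtain ⟨x₃, hx₃⟩ := h₃.2 (y ≫ G.map g)
    have hgδ : g ≫ δ = 0 := comp_distTriang_mor_zero₂₃ _ hT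
    have h1 : x₃ ≫ δ = 0 := h₁'.1 (by
      rw [G.map_comp, hx₃, Category.assoc, ← G.map_comp, hgδ, G.map_zero, comp_zero, G.map_zero])
    obtain ⟨x₂, rfl⟩ : ∃ x₂ : K ⟶ L₂, x₃ = x₂ ≫ g := Triangle.coyoneda_exact₃ _ hT x₃ h1
    have h2 : (y - G.map x₂) ≫ G.map g = 0 := by
      rw [Preadditive.sub_comp, ← hx₃, G.map_comp, sub_self]
    obtain ⟨z, hz⟩ : ∃ z : G.obj K ⟶ G.obj L₁, y - G.map x₂ = z ≫ G.map f :=
      Triangle.coyoneda_exact₂ _ hGT _ h2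
    obtain ⟨x₁, rfl⟩ := h₁.2 z
    refine ⟨x₂ + x₁ ≫ f, ?_⟩
    rw [G.map_add, G.map_comp, ← hz]
    abel

/-- five lemma in the first variable, all shifts. -/
lemma five₁ (T : Triangle B) (hT : T ∈ distTriang B) (L : B)
    (h₁ : ∀ m : ℤ, Bij G (T.obj₁⟦m⟧) L) (h₃ : ∀ m : ℤ, Bij G (T.obj₃⟦m⟧) L) (m : ℤ) :
    Bij G (T.obj₂⟦m⟧) L := by
  have hTm := Triangle.shift_distinguished T hT m
  exact five₁_core G _ _ _ hTm L (h₁ m) (h₃ m)
    ((h₁ (m + 1)).of_iso ((shiftFunctorAdd' B m 1 (m + 1) rfl).app T.obj₁) (Iso.refl _))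
    ((h₃ (m - 1)).of_iso ((shiftFunctorAdd' B m (-1) (m - 1) (by omega)).app T.obj₃) (Iso.refl _))

/-- five lemma in the second variable, all shifts. -/
lemma five₂ (T : Triangle B) (hT : T ∈ distTriang B) (K : B)
    (h₁ : ∀ m : ℤ, Bij G K (T.obj₁⟦m⟧)) (h₃ : ∀ m : ℤ, Bij G K (T.obj₃⟦m⟧)) (m : ℤ) :
    Bij G K (T.obj₂⟦m⟧) := by
  have hTm := Triangle.shift_distinguished T hT m
  exact five₂_core G _ _ _ hTm K (h₁ m) (h₃ m)
    ((h₁ (m + 1)).of_iso (Iso.refl _) ((shiftFunctorAdd' B m 1 (m + 1) rfl).app T.obj₁))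
    ((h₃ (m - 1)).of_iso (Iso.refl _) ((shiftFunctorAdd' B m (-1) (m - 1) (by omega)).app T.obj₃))

end Five

section Devissage

variable (s : A ⥤ B)

lemma Cell.induction {s : A ⥤ B} (P : B → Prop) (h0 : ∀ K, IsZero K → P K)
    (hs : ∀ (M : A) (j : ℤ), P ((s.obj M)⟦j⟧))
    (hext : ∀ T : Triangle B, T ∈ distTriang B → P T.obj₁ → P T.obj₃ → P T.obj₂) :
    ∀ (n : ℕ) (a : ℤ) (K : B), Cell s n a K → P K := by
  intro n
  induction n with
  | zero => exact fun a K hK => h0 K hK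
  | succ n ih =>
    rintro a K ⟨K₁, M, f, g, h, hT, hK₁⟩
    exact hext _ hT (ih _ _ hK₁) (hs M (-a))

variable (G : B ⥤ D) [G.CommShift ℤ] [G.IsTriangulated]

/-- a triangulated functor which is bijective on morphisms between shifted cells is fully
faithful on objects with cell structures. -/
theorem bij_of_cells (hcell : ∀ K : B, ∃ (n : ℕ) (a : ℤ), Cell s n a K)
    (hbase : ∀ (X Y : A) (p q : ℤ), Bij G ((s.obj X)⟦p⟧) ((s.obj Y)⟦q⟧)) (K L : B) :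
    Bij G K L := by
  -- first variable
  have step1 : ∀ (Y : A) (q : ℤ) (K : B) (m : ℤ), Bij G (K⟦m⟧) ((s.obj Y)⟦q⟧) := by
    intro Y q K
    obtain ⟨n, a, hK⟩ := hcell K
    refine Cell.induction (s := s) (fun K => ∀ m : ℤ, Bij G (K⟦m⟧) ((s.obj Y)⟦q⟧))
      ?_ ?_ ?_ n a K hK
    · intro K hK m
      exact bij_of_isZero_left G ((shiftFunctor B m).map_isZero hK) _
    · intro M j m
      exact (hbase M Y (j + m) q).of_iso ((shiftFunctorAdd' B j m (j + m) rfl).app _) (Iso.refl _)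
    · intro T hT h₁ h₃ m
      exact five₁ G T hT _ h₁ h₃ m
  have step2 : ∀ (K L : B) (m : ℤ), Bij G K (L⟦m⟧) := by
    intro K L
    obtain ⟨n, a, hL⟩ := hcell L
    refine Cell.induction (s := s) (fun L => ∀ m : ℤ, Bij G K (L⟦m⟧))
      ?_ ?_ ?_ n a L hL
    · intro L hL m
      exact bij_of_isZero_right G _ ((shiftFunctor B m).map_isZero hL)
    · intro M j m
      exact ((step1 M (j + m) K 0).of_iso ((shiftFunctorZero B ℤ).app K)
        ((shiftFunctorAdd' B j m (j + m) rfl).app _))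
    · intro T hT h₁ h₃ m
      exact five₂ G T hT _ h₁ h₃ m
  exact (step2 K L 0).of_iso (Iso.refl _) ((shiftFunctorZero B ℤ).app L)

end Devissage

end Helper8.Sib
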