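import Mathlib
import Groth.Agent.Lib.Helper8.Sib3
import Groth.Agent.Lib.Helper8.Stupid2
import Groth.Prelude.Def_WeakSerre

/-! # Helper8 — WSerreDev1: five-term exact sequences and weak Serre classes; `D_A` is closed under
extensions (for S15234). -/

set_option autoImplicit false

universe w₁ w₂ v₁ v₂ u₁ u₂

open CategoryTheory CategoryTheory.Limits CategoryTheory.Pretriangulated DerivedCategory

namespace Groth.Agent.Lib.Helper8.WSerreDev

section Abelian

variable {C : Type u₁} [Category.{v₁} C] [Abelian C]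

/-- the middle term of a five-term exact sequence whose four outer terms lie in a weak Serre
class lies in it. -/
lemma prop_of_exact_five (A : ObjectProperty C) [WSerre.IsWeakSerre A]
    {X₀ X₁ X₂ X₃ X₄ : C} (a : X₀ ⟶ X₁) (f : X₁ ⟶ X₂) (g : X₂ ⟶ X₃) (b : X₃ ⟶ X₄)
    (w₁ : a ≫ f = 0) (w₂ : f ≫ g = 0) (w₃ : g ≫ b = 0)
    (e₁ : (ShortComplex.mk a f w₁).Exact) (e₂ : (ShortComplex.mk f g w₂).Exact)
    (e₃ : (ShortComplex.mk g b w₃).Exact)
    (h₀ : A X₀) (h₁ : A X₁) (h₃ : A X₃) (h₄ : A X₄) : A X₂ := by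
  have hC : A (cokernel a) := A.prop_cokernel a h₀ h₁
  have hK : A (kernel b) := A.prop_kernel b h₃ h₄
  have hm : Mono (cokernel.desc a f w₁) :=
    (ShortComplex.exact_iff_mono_cokernel_desc (ShortComplex.mk a f w₁)).1 e₁
  have he : Epi (kernel.lift b g w₃) :=
    (ShortComplex.exact_iff_epi_kernel_lift (ShortComplex.mk g b w₃)).1 e₃
  have w : cokernel.desc a f w₁ ≫ kernel.lift b g w₃ = 0 := by
    rw [← cancel_epi (cokernel.π a), ← cancel_mono (kernel.ι b)]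
    simp [w₂]
  have w' : f ≫ kernel.lift b g w₃ = 0 := by
    rw [← cancel_mono (kernel.ι b)]
    simp [w₂]
  let S₁ := ShortComplex.mk f g w₂
  let S₂ := ShortComplex.mk (cokernel.desc a f w₁) (kernel.lift b g w₃) w
  let S₃ := ShortComplex.mk f (kernel.lift b g w₃) w'
  let φ₁ : S₃ ⟶ S₁ :=
    { τ₁ := 𝟙 _
      τ₂ := 𝟙 _
      τ₃ := kernel.ι b
      comm₁₂ := by simp [S₁, S₃]
      comm₂₃ := by simp [S₁, S₃] }
  let φ₂ : S₃ ⟶ S₂ :=
    { τ₁ := cokernel.π a
      τ₂ := 𝟙 _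
      τ₃ := 𝟙 _
      comm₁₂ := by simp [S₂, S₃]
      comm₂₃ := by simp [S₂, S₃] }
  have i1 : Epi φ₁.τ₁ := (inferInstance : Epi (𝟙 X₁))
  have i2 : IsIso φ₁.τ₂ := (inferInstance : IsIso (𝟙 X₂))
  have i3 : Mono φ₁.τ₃ := (inferInstance : Mono (kernel.ι b))
  have j1 : Epi φ₂.τ₁ := (inferInstance : Epi (cokernel.π a))
  have j2 : IsIso φ₂.τ₂ := (inferInstance : IsIso (𝟙 X₂))
  have j3 : Mono φ₂.τ₃ := (inferInstance : Mono (𝟙 (kernel b)))
  have h3 : S₃.Exact := (ShortComplex.exact_iff_of_epi_of_isIso_of_mono φ₁).2 e₂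
  have h2 : S₂.Exact := (ShortComplex.exact_iff_of_epi_of_isIso_of_mono φ₂).1 h3
  have hS : S₂.ShortExact := ShortComplex.ShortExact.mk' h2 hm he
  exact A.prop_X₂_of_shortExact hS hC hK

end Abelian

section Derived

variable {𝒜 : Type u₁} [Category.{v₁} 𝒜] [Abelian 𝒜] [HasDerivedCategory.{w₁} 𝒜]

/-- `D_A` is closed under extensions for a weak Serre class `A`. -/
lemma cohIn_ext (A : ObjectProperty 𝒜) [WSerre.IsWeakSerre A] (T : Triangle (DerivedCategory 𝒜))
    (hT : T ∈ distTriang _) (h₁ : WSerre.cohIn A T.obj₁) (h₃ : WSerre.cohIn A T.obj₃) :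
    WSerre.cohIn A T.obj₂ := by
  intro i
  exact prop_of_exact_five A (HomologySequence.δ T (i - 1) i (by omega))
    ((homologyFunctor 𝒜 i).map T.mor₁) ((homologyFunctor 𝒜 i).map T.mor₂)
    (HomologySequence.δ T i (i + 1) rfl) _ _ _
    (HomologySequence.exact₁ T hT (i - 1) i (by omega))
    (HomologySequence.exact₂ T hT i)
    (HomologySequence.exact₃ T hT i (i + 1) rfl)
    (h₃ (i - 1)) (h₁ i) (h₃ i) (h₁ (i + 1))

lemma cohIn_of_iso (A : ObjectProperty 𝒜) [A.IsClosedUnderIsomorphisms]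
    {X Y : DerivedCategory 𝒜} (e : X ≅ Y) (h : WSerre.cohIn A X) : WSerre.cohIn A Y :=
  fun i => A.prop_of_iso ((homologyFunctor 𝒜 i).mapIso e) (h i)

lemma cohIn_of_isZero (A : ObjectProperty 𝒜) [A.ContainsZero] [A.IsClosedUnderIsomorphisms]
    {X : DerivedCategory 𝒜} (h : IsZero X) : WSerre.cohIn A X :=
  fun i => A.prop_of_isZero ((homologyFunctor 𝒜 i).map_isZero h)

end Derived

end Groth.Agent.Lib.Helper8.WSerreDev
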