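import Mathlib
import Groth.Agent.Lib.Helper8.Sib3
import Groth.Agent.Lib.Helper8.Stupid2
import Groth.Agent.Lib.Helper8.WSerreDev1
import Groth.Prelude.Def_WeakSerre

/-! # Helper8 — WSerreDev2: an exact functor commutes with cohomology on `D`; full faithfulness on
`D^b_A` from bijectivity on `Ext` between objects of `A` (dévissage in both variables, for S15234). -/

set_option autoImplicit false

universe w₁ w₂ v₁ v₂ u₁ u₂

open CategoryTheory CategoryTheory.Limits CategoryTheory.Pretriangulated DerivedCategory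

namespace Groth.Agent.Lib.Helper8.WSerreDev

open Helper8.Sib Groth.Agent.Lib.Helper8.Stupid

variable {𝒜 : Type u₁} [Category.{v₁} 𝒜] [Abelian 𝒜] [HasDerivedCategory.{w₁} 𝒜]
  {ℬ : Type u₂} [Category.{v₂} ℬ] [Abelian ℬ] [HasDerivedCategory.{w₂} ℬ]
  (Φ : 𝒜 ⥤ ℬ) [Φ.Additive] [PreservesFiniteLimits Φ] [PreservesFiniteColimits Φ]

/-- an exact functor commutes with cohomology on the derived category. -/
lemma nonempty_homology_iso (X : DerivedCategory 𝒜) (i : ℤ) :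
    Nonempty ((homologyFunctor ℬ i).obj (Φ.mapDerivedCategory.obj X) ≅
      Φ.obj ((homologyFunctor 𝒜 i).obj X)) := by
  let K := Q.objPreimage X
  let e : Q.obj K ≅ X := Q.objObjPreimageIso X
  exact ⟨(homologyFunctor ℬ i).mapIso (Φ.mapDerivedCategory.mapIso e.symm) ≪≫
    (homologyFunctor ℬ i).mapIso (Φ.mapDerivedCategoryFactors.app K) ≪≫
    (homologyFunctorFactors ℬ i).app _ ≪≫ (K.sc i).mapHomologyIso Φ ≪≫
    Φ.mapIso ((homologyFunctorFactors 𝒜 i).app K).symm ≪≫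
    Φ.mapIso ((homologyFunctor 𝒜 i).mapIso e)⟩

lemma isGE_map (X : DerivedCategory 𝒜) (n : ℤ) [X.IsGE n] :
    (Φ.mapDerivedCategory.obj X).IsGE n := by
  rw [isGE_iff]
  intro i hi
  obtain ⟨e⟩ := nonempty_homology_iso Φ X i
  exact (Φ.map_isZero (isZero_of_isGE X n i hi)).of_iso e

lemma isLE_map (X : DerivedCategory 𝒜) (n : ℤ) [X.IsLE n] :
    (Φ.mapDerivedCategory.obj X).IsLE n := by
  rw [isLE_iff]
  intro i hi
  obtain ⟨e⟩ := nonempty_homology_iso Φ X i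
  exact (Φ.map_isZero (isZero_of_isLE X n i hi)).of_iso e

variable (A : ObjectProperty 𝒜) (B : ObjectProperty ℬ)

lemma cohInBdd_map [B.IsClosedUnderIsomorphisms] (h1 : ∀ F : 𝒜, A F → B (Φ.obj F))
    (K : DerivedCategory 𝒜) (hK : WSerre.cohInBdd A K) :
    WSerre.cohInBdd B (Φ.mapDerivedCategory.obj K) := by
  obtain ⟨hc, ⟨a, ha⟩, ⟨b, hb⟩⟩ := hK
  refine ⟨fun i => ?_, ⟨a, ?_⟩, ⟨b, ?_⟩⟩
  · obtain ⟨e⟩ := nonempty_homology_iso Φ K i
    exact B.prop_of_iso e.symm (h1 _ (hc i))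
  · haveI : K.IsGE a := ha
    exact isGE_map Φ K a
  · haveI : K.IsLE b := hb
    exact isLE_map Φ K b

variable [WSerre.IsWeakSerre A]

section FF

variable (h2 : ∀ (F F' : 𝒜), A F → A F' → ∀ n : ℤ,
  Bij Φ.mapDerivedCategory ((singleFunctor 𝒜 0).obj F) (((singleFunctor 𝒜 0).obj F')⟦n⟧))

include h2

lemma bij_single_single (F F' : 𝒜) (hF : A F) (hF' : A F') (p q : ℤ) :
    Bij Φ.mapDerivedCategory (((singleFunctor 𝒜 0).obj F)⟦p⟧)
      (((singleFunctor 𝒜 0).obj F')⟦q⟧) :=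
  ((h2 F F' hF hF' (q - p)).shift p).of_iso (Iso.refl _)
    ((shiftFunctorAdd' (DerivedCategory 𝒜) (q - p) p q (by omega)).symm.app _)

/-- iso `(S_i G)[m] ≅ (S_0 G)[m - i]` -/
noncomputable def singleShiftIso (G : 𝒜) (i m : ℤ) :
    ((singleFunctor 𝒜 0).obj G)⟦-i + m⟧ ≅ ((singleFunctor 𝒜 i).obj G)⟦m⟧ :=
  (shiftFunctorAdd' (DerivedCategory 𝒜) (-i) m (-i + m) rfl).app _ ≪≫
    (shiftFunctor (DerivedCategory 𝒜) m).mapIso
      (((singleFunctors 𝒜).shiftIso (-i) i 0 (by omega)).app G)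

omit h2 in
lemma exists_bounds (K : DerivedCategory 𝒜) (hK : WSerre.cohInBdd A K) :
    ∃ (n : ℕ) (b : ℤ), K.IsLE b ∧ K.IsGE (b + 1 - n) := by
  obtain ⟨_, ⟨a, ha⟩, ⟨b, hb⟩⟩ := hK
  refine ⟨(b + 1 - a).toNat, b, hb, ?_⟩
  haveI : K.IsGE a := ha
  exact DerivedCategory.TStructure.t.isGE_of_ge K (b + 1 - ((b + 1 - a).toNat : ℤ)) a (by omega)

lemma bij_left (K : DerivedCategory 𝒜) (hK : WSerre.cohInBdd A K) (F' : 𝒜) (hF' : A F')
    (q m : ℤ) :
    Bij Φ.mapDerivedCategory (K⟦m⟧) (((singleFunctor 𝒜 0).obj F')⟦q⟧) := by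
  let P : ObjectProperty (DerivedCategory 𝒜) := fun K =>
    ∀ m : ℤ, Bij Φ.mapDerivedCategory (K⟦m⟧) (((singleFunctor 𝒜 0).obj F')⟦q⟧)
  haveI : P.IsClosedUnderIsomorphisms :=
    ⟨fun e h m => (h m).of_iso ((shiftFunctor _ m).mapIso e) (Iso.refl _)⟩
  obtain ⟨n, b, hb, ha⟩ := exists_bounds A K hK
  refine induction_cohomology P ?_ ?_ n K b hb ha ?_ m
  · intro T hT h₁ h₃ m
    exact five₁ Φ.mapDerivedCategory T hT _ h₁ h₃ m
  · intro Z hZ m
    exact bij_of_isZero_left _ ((shiftFunctor _ m).map_isZero hZ) _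
  · intro i m
    exact (bij_single_single Φ A h2 _ F' (hK.1 i) hF' (-i + m) q).of_iso
      (singleShiftIso _ i m) (Iso.refl _)

lemma bij_right (K L : DerivedCategory 𝒜) (hK : WSerre.cohInBdd A K)
    (hL : WSerre.cohInBdd A L) (m : ℤ) :
    Bij Φ.mapDerivedCategory K (L⟦m⟧) := by
  let P : ObjectProperty (DerivedCategory 𝒜) := fun L =>
    ∀ m : ℤ, Bij Φ.mapDerivedCategory K (L⟦m⟧)
  haveI : P.IsClosedUnderIsomorphisms :=
    ⟨fun e h m => (h m).of_iso (Iso.refl _) ((shiftFunctor _ m).mapIso e)⟩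
  obtain ⟨n, b, hb, ha⟩ := exists_bounds A L hL
  refine induction_cohomology P ?_ ?_ n L b hb ha ?_ m
  · intro T hT h₁ h₃ m
    exact five₂ Φ.mapDerivedCategory T hT _ h₁ h₃ m
  · intro Z hZ m
    exact bij_of_isZero_right _ _ ((shiftFunctor _ m).map_isZero hZ)
  · intro i m
    exact (bij_left Φ A h2 K hK _ (hL.1 i) (-i + m) 0).of_iso
      ((shiftFunctorZero _ ℤ).app K) (singleShiftIso _ i m)

theorem bij_of_cohInBdd (K L : DerivedCategory 𝒜) (hK : WSerre.cohInBdd A K)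
    (hL : WSerre.cohInBdd A L) : Bij Φ.mapDerivedCategory K L :=
  (bij_right Φ A h2 K L hK hL 0).of_iso (Iso.refl _) ((shiftFunctorZero _ ℤ).app L)

end FF

end Groth.Agent.Lib.Helper8.WSerreDev
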