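import Mathlib
import Groth.Agent.Lib.Helper8.WSerreDev2

/-! # Helper8 — WSerreDev3: essential surjectivity of an exact functor on `D^b_A → D^b_B` from an
equivalence `A ≃ B` and bijectivity on `Ext` (for S15234). -/

set_option autoImplicit false

universe w₁ w₂ v₁ v₂ u₁ u₂

open CategoryTheory CategoryTheory.Limits CategoryTheory.Pretriangulated DerivedCategory

namespace Groth.Agent.Lib.Helper8.WSerreDev

open Helper8.Sib Groth.Agent.Lib.Helper8.Stupid ZeroObject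

variable {𝒜 : Type u₁} [Category.{v₁} 𝒜] [Abelian 𝒜] [HasDerivedCategory.{w₁} 𝒜]
  {ℬ : Type u₂} [Category.{v₂} ℬ] [Abelian ℬ] [HasDerivedCategory.{w₂} ℬ]
  (Φ : 𝒜 ⥤ ℬ) [Φ.Additive] [PreservesFiniteLimits Φ] [PreservesFiniteColimits Φ]
  (A : ObjectProperty 𝒜) (B : ObjectProperty ℬ) [WSerre.IsWeakSerre A] [WSerre.IsWeakSerre B]

lemma cohInBdd_single (F : 𝒜) (hF : A F) (i : ℤ) :
    WSerre.cohInBdd A ((singleFunctor 𝒜 i).obj F) := by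
  refine ⟨fun j => ?_, ⟨i, inferInstance⟩, ⟨i, inferInstance⟩⟩
  by_cases h : j = i
  · subst h
    exact A.prop_of_iso ((singleFunctorCompHomologyFunctorIso 𝒜 j).app F).symm hF
  · rcases lt_or_gt_of_ne h with h | h
    · exact A.prop_of_isZero (isZero_of_isGE _ i j h)
    · exact A.prop_of_isZero (isZero_of_isLE _ i j h)

lemma cohInBdd_of_isZero {Z : DerivedCategory 𝒜} (hZ : IsZero Z) : WSerre.cohInBdd A Z := by
  refine ⟨cohIn_of_isZero A hZ, ⟨0, ?_⟩, ⟨0, ?_⟩⟩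
  · exact DerivedCategory.TStructure.t.isGE_of_isZero hZ 0
  · exact DerivedCategory.TStructure.t.isLE_of_isZero hZ 0

lemma cohInBdd_ext (T : Triangle (DerivedCategory 𝒜)) (hT : T ∈ distTriang _)
    (h₁ : WSerre.cohInBdd A T.obj₁) (h₃ : WSerre.cohInBdd A T.obj₃) :
    WSerre.cohInBdd A T.obj₂ :=
  ⟨cohIn_ext A T hT h₁.1 h₃.1,
    (DerivedCategory.TStructure.t : Triangulated.TStructure (DerivedCategory 𝒜)).bounded.ext_of_isTriangulatedClosed₂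
      T hT h₁.2 h₃.2⟩

variable (hess : ∀ G : ℬ, B G → ∃ F : 𝒜, A F ∧ Nonempty (Φ.obj F ≅ G))
  (h2 : ∀ (F F' : 𝒜), A F → A F' → ∀ n : ℤ,
    Bij Φ.mapDerivedCategory ((singleFunctor 𝒜 0).obj F) (((singleFunctor 𝒜 0).obj F')⟦n⟧))

set_option backward.defeqAttrib.useBackward true in
include hess h2 in
theorem essSurj_of_cohInBdd (M : DerivedCategory ℬ) (hM : WSerre.cohInBdd B M) :
    ∃ K : DerivedCategory 𝒜, WSerre.cohInBdd A K ∧
      Nonempty (Φ.mapDerivedCategory.obj K ≅ M) := by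
  let P : ObjectProperty (DerivedCategory ℬ) := fun M =>
    ∃ K : DerivedCategory 𝒜, WSerre.cohInBdd A K ∧ Nonempty (Φ.mapDerivedCategory.obj K ≅ M)
  haveI : P.IsClosedUnderIsomorphisms :=
    ⟨fun e ⟨K, hK, ⟨e'⟩⟩ => ⟨K, hK, ⟨e' ≪≫ e⟩⟩⟩
  obtain ⟨n, b, hb, ha⟩ := exists_bounds B M hM
  refine induction_cohomology P ?_ ?_ n M b hb ha ?_
  · rintro T hT ⟨X₁, hX₁, ⟨e₁⟩⟩ ⟨X₃, hX₃, ⟨e₃⟩⟩
    obtain ⟨h, hh⟩ := (bij_right Φ A h2 X₃ X₁ hX₃ hX₁ 1).2 (e₃.hom ≫ T.mor₃ ≫ e₁.inv⟦(1 : ℤ)⟧' ≫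
      (Φ.mapDerivedCategory.commShiftIso (1 : ℤ)).inv.app X₁)
    obtain ⟨X₂, f, g, H⟩ := distinguished_cocone_triangle₂ h
    refine ⟨X₂, cohInBdd_ext A _ H hX₁ hX₃, ⟨Triangle.π₂.mapIso
      (isoTriangleOfIso₁₃ _ _ (Φ.mapDerivedCategory.map_distinguished _ H) hT e₁ e₃
        (by simp [hh, ← Functor.map_comp]))⟩⟩
  · intro Z hZ
    exact ⟨0, cohInBdd_of_isZero A (isZero_zero _),
      ⟨(Φ.mapDerivedCategory.map_isZero (isZero_zero _)).iso hZ⟩⟩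
  · intro i
    obtain ⟨F, hF, ⟨e⟩⟩ := hess _ (hM.1 i)
    exact ⟨(singleFunctor 𝒜 i).obj F, cohInBdd_single A F hF i,
      ⟨(Φ.mapDerivedCategorySingleFunctor i).app F ≪≫ (singleFunctor ℬ i).mapIso e⟩⟩

end Groth.Agent.Lib.Helper8.WSerreDev
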