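import Mathlib
import Groth.Agent.Lib.Helper8.AdjWayOut1
import Groth.Agent.Lib.Helper8.WSerreDev3

/-! # Helper8 — AdjWayOut2: for an exact functor `Φ` with `Φ.mapDerivedCategory ⊣ R`, weak Serre classes
`A'`, `A` with `Φ(A') ⊆ A`, `A ⊆` essential image of `A'`, and unit iso on `A'`: `Φ` and `R` restrict to
inverse equivalences `D^+_{A'} ≃ D^+_A` (unit/counit isos, classes preserved).  For S9069. -/

set_option autoImplicit false

universe w₁ w₂ v₁ v₂ u₁ u₂

open CategoryTheory CategoryTheory.Limits CategoryTheory.Pretriangulated DerivedCategory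

namespace Groth.Agent.Lib.Helper8.AdjWayOut

open Groth.Agent.Lib.Helper8.WSerreDev Groth.Agent.Lib.Helper8.Stupid
  Groth.Agent.Lib.Helper8.DTrunc Groth.Agent.Lib.Helper8.PAmp Groth.Agent.Lib.Helper8.WayOut

variable {𝒜 : Type u₁} [Category.{v₁} 𝒜] [Abelian 𝒜] [HasDerivedCategory.{w₁} 𝒜]
  {ℬ : Type u₂} [Category.{v₂} ℬ] [Abelian ℬ] [HasDerivedCategory.{w₂} ℬ]
  (Φ : 𝒜 ⥤ ℬ) [Φ.Additive] [PreservesFiniteLimits Φ] [PreservesFiniteColimits Φ]
  {R : DerivedCategory ℬ ⥤ DerivedCategory 𝒜} (adj : Φ.mapDerivedCategory ⊣ R)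
  (A' : ObjectProperty 𝒜) [WSerre.IsWeakSerre A'] (A : ObjectProperty ℬ) [WSerre.IsWeakSerre A]

lemma hLle (Y : DerivedCategory 𝒜) (n : ℤ) (hY : Y.IsLE n) :
    (Φ.mapDerivedCategory.obj Y).IsLE n := by
  haveI : Y.IsLE n := hY
  exact isLE_map Φ Y n

lemma hLge (Y : DerivedCategory 𝒜) (n : ℤ) (hY : Y.IsGE n) :
    (Φ.mapDerivedCategory.obj Y).IsGE n := by
  haveI : Y.IsGE n := hY
  exact isGE_map Φ Y n

section

variable (h2a : ∀ F' : 𝒜, A' F' → A (Φ.obj F'))
  (h3 : ∀ F' : 𝒜, A' F' → IsIso (adj.unit.app ((singleFunctor 𝒜 0).obj F')))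

include h2a h3 in
/-- unit part -/
theorem plus_left (Y : DerivedCategory 𝒜) (hY : WSerre.cohInPlus A' Y) :
    WSerre.cohInPlus A (Φ.mapDerivedCategory.obj Y) ∧ IsIso (adj.unit.app Y) := by
  obtain ⟨hc, ⟨a, ha⟩⟩ := hY
  haveI : Y.IsGE a := ha
  refine ⟨⟨fun i => ?_, ⟨a, isGE_map Φ Y a⟩⟩, ?_⟩
  · obtain ⟨e⟩ := nonempty_homology_iso Φ Y i
    exact A.prop_of_iso e.symm (h2a _ (hc i))
  · exact isIso_unit adj (hLle Φ) (hLge Φ) Y a (fun q => h3 _ (hc q))

variable (h2c : ∀ F : ℬ, A F → ∃ F' : 𝒜, A' F' ∧ Nonempty (Φ.obj F' ≅ F))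

include h3 h2c in
lemma isIso_counit_single (F : ℬ) (hF : A F) :
    IsIso (adj.counit.app ((singleFunctor ℬ 0).obj F)) := by
  obtain ⟨F', hF', ⟨e⟩⟩ := h2c F hF
  haveI := h3 F' hF'
  have h1 : IsIso (adj.counit.app (Φ.mapDerivedCategory.obj ((singleFunctor 𝒜 0).obj F'))) := by
    have htri := adj.left_triangle_components ((singleFunctor 𝒜 0).obj F')
    haveI : IsIso (Φ.mapDerivedCategory.map (adj.unit.app ((singleFunctor 𝒜 0).obj F')) ≫
        adj.counit.app (Φ.mapDerivedCategory.obj ((singleFunctor 𝒜 0).obj F'))) := by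
      rw [htri]
      exact IsIso.id _
    exact IsIso.of_isIso_comp_left (Φ.mapDerivedCategory.map
      (adj.unit.app ((singleFunctor 𝒜 0).obj F'))) _
  exact (isoLocus adj.counit).prop_of_iso
    ((Φ.mapDerivedCategorySingleFunctor 0).app F' ≪≫ (singleFunctor ℬ 0).mapIso e) h1

include h2a h3 h2c in
/-- `R` sends `D^b_A` into `D_{A'}`. -/
lemma cohIn_right_of_bdd (K : DerivedCategory ℬ) (hK : WSerre.cohInBdd A K) :
    WSerre.cohIn A' (R.obj K) := by
  letI := adj.rightAdjointCommShift ℤ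
  haveI := adj.commShift_of_leftAdjoint ℤ
  haveI : R.IsTriangulated := adj.isTriangulated_rightAdjoint
  let P : ObjectProperty (DerivedCategory ℬ) := fun K => WSerre.cohIn A' (R.obj K)
  haveI : P.IsClosedUnderIsomorphisms := ⟨fun e h => cohIn_of_iso A' (R.mapIso e) h⟩
  obtain ⟨n, b, hb, ha⟩ := exists_bounds A K hK
  refine induction_cohomology P ?_ ?_ n K b hb ha ?_
  · intro T hT h₁ h₃
    exact cohIn_ext A' _ (R.map_distinguished _ hT) h₁ h₃
  · intro Z hZ
    exact cohIn_of_isZero A' (R.map_isZero hZ)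
  · intro i
    obtain ⟨F', hF', ⟨e⟩⟩ := h2c _ (hK.1 i)
    have hb' := cohInBdd_single A' F' hF' i
    have hu := (plus_left Φ adj A' A h2a h3 ((singleFunctor 𝒜 i).obj F') ⟨hb'.1, hb'.2.1⟩).2
    have e1 : R.obj ((singleFunctor ℬ i).obj ((homologyFunctor ℬ i).obj K)) ≅
        (singleFunctor 𝒜 i).obj F' :=
      R.mapIso ((singleFunctor ℬ i).mapIso e.symm ≪≫
        ((Φ.mapDerivedCategorySingleFunctor i).app F').symm) ≪≫ (asIso (adj.unit.app _)).symm
    exact cohIn_of_iso A' e1.symm hb'.1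

include h2a h3 h2c in
/-- counit part -/
theorem plus_right (X : DerivedCategory ℬ) (hX : WSerre.cohInPlus A X) :
    WSerre.cohInPlus A' (R.obj X) ∧ IsIso (adj.counit.app X) := by
  letI := adj.rightAdjointCommShift ℤ
  haveI := adj.commShift_of_leftAdjoint ℤ
  haveI : R.IsTriangulated := adj.isTriangulated_rightAdjoint
  obtain ⟨hc, ⟨a, ha⟩⟩ := hX
  haveI : X.IsGE a := ha
  refine ⟨⟨fun j => ?_, ⟨a, isGE_right adj (hLle Φ) X a ha⟩⟩, ?_⟩
  · -- compare with the truncation `τ_{<j+1} X`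
    have hT := tt.triangleLTGE_distinguished (j + 1) X
    have hT' := R.map_distinguished _ hT
    have h3' : (R.obj ((tt.truncGE (j + 1)).obj X)).IsGE (j + 1) :=
      isGE_right adj (hLle Φ) _ (j + 1) (inferInstance : tt.IsGE ((tt.truncGE (j + 1)).obj X) (j + 1))
    have hiso : IsIso ((homologyFunctor 𝒜 j).map (R.map ((tt.truncLTι (j + 1)).app X))) :=
      isIso_homologyMap_mor₁ _ hT' j h3'
    have hbdd : WSerre.cohInBdd A ((tt.truncLT (j + 1)).obj X) := by
      refine ⟨fun i => ?_, ⟨a, (inferInstance : tt.IsGE ((tt.truncLT (j + 1)).obj X) a)⟩,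
        ⟨j, ?_⟩⟩
      · by_cases hi : i < j + 1
        · have := isIso_homologyMap_truncLTι X (j + 1) i hi
          exact A.prop_of_iso (asIso ((homologyFunctor ℬ i).map ((tt.truncLTι (j + 1)).app X))).symm
            (hc i)
        · have h1 : tt.IsLE ((tt.truncLT (j + 1)).obj X) (j + 1 - 1) := inferInstance
          exact A.prop_of_isZero (isZero_of_isLE _ (j + 1 - 1) i (by omega))
      · have h1 : tt.IsLE ((tt.truncLT (j + 1)).obj X) (j + 1 - 1) := inferInstance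
        exact tt.isLE_of_le _ (j + 1 - 1) j (by omega)
    have := cohIn_right_of_bdd Φ adj A' A h2a h3 h2c _ hbdd j
    exact A'.prop_of_iso (asIso ((homologyFunctor 𝒜 j).map (R.map ((tt.truncLTι (j + 1)).app X))))
      this
  · exact isIso_counit adj (hLle Φ) (hLge Φ) X a
      (fun q => isIso_counit_single Φ adj A' A h3 h2c _ (hc q))

end

end Groth.Agent.Lib.Helper8.AdjWayOut
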