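import Groth.Prelude.Def_CohCx
import Groth.Prelude.Def_FreeSh
import Groth.Agent.Lib.Helper8.BaerFam
import Mathlib.CategoryTheory.Sites.Abelian

/-!
# Helper8: Baer-type criterion for injective abelian sheaves (S6524)
-/

universe u

open CategoryTheory CategoryTheory.Limits Opposite MorphismProperty

namespace Groth.Agent.Lib.Helper8.BaerSheaf

open Groth.Agent.Lib.Helper8

variable {C : Type u} [SmallCategory C] (J : GrothendieckTopology C)

/-- inclusions of subobjects of the free sheaves `ℤ_X` -/
def W : MorphismProperty (Sheaf J AddCommGrpCat.{u}) :=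
  MorphismProperty.ofHoms (fun (p : Σ X : C, Subobject (CohCx.freeSheaf J X)) ↦ p.2.arrow)

variable {J}

lemma W_mk (X : C) (S : Subobject (CohCx.freeSheaf J X)) : W J S.arrow :=
  MorphismProperty.ofHoms.mk (f := fun (p : Σ X : C, Subobject (CohCx.freeSheaf J X)) ↦ p.2.arrow)
    ⟨X, S⟩

lemma ofSect_comp {X : C} {A B : Sheaf J AddCommGrpCat.{u}} (p : A ⟶ B) (s : A.obj.obj (op X)) :
    CohFree.ofSect J X A s ≫ p = CohFree.ofSect J X B ((p.hom.app (op X)).hom s) := by
  apply (CohFree.homEquivSect J X B).injective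
  rw [CohFree.homEquivSect_apply, CohFree.homEquivSect_apply, CohFree.evalGen_ofSect]
  change (p.hom.app (op X)).hom (CohFree.evalGen J X A (CohFree.ofSect J X A s)) = _
  rw [CohFree.evalGen_ofSect]

lemma isIso_of_factor {A B : Sheaf J AddCommGrpCat.{u}} (p : A ⟶ B) [Mono p]
    (h : ∀ (X : C) (f : CohCx.freeSheaf J X ⟶ B), ∃ a : CohCx.freeSheaf J X ⟶ A, a ≫ p = f) :
    IsIso p := by
  have hbij : ∀ X : C, Function.Bijective (p.hom.app (op X)).hom := by
    intro X
    constructor
    · rw [injective_iff_map_eq_zero]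
      intro s hs
      have h1 : CohFree.ofSect J X A s ≫ p = 0 ≫ p := by
        rw [ofSect_comp, hs, zero_comp]
        apply (CohFree.homEquivSect J X B).injective
        rw [CohFree.homEquivSect_apply, CohFree.evalGen_ofSect, map_zero]
      have h2 := (cancel_mono p).1 h1
      have h3 := congrArg (CohFree.evalGen J X A) h2
      rw [CohFree.evalGen_ofSect, map_zero] at h3
      exact h3
    · intro s
      obtain ⟨a, ha⟩ := h X (CohFree.ofSect J X B s)
      refine ⟨CohFree.evalGen J X A a, ?_⟩
      have := congrArg (CohFree.evalGen J X B) ha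
      rw [CohFree.evalGen_ofSect] at this
      exact this
  have : ∀ U : Cᵒᵖ, IsIso (p.hom.app U) := by
    intro U
    obtain ⟨X⟩ := U
    exact (ConcreteCategory.isIso_iff_bijective _).2 (hbij X)
  have : IsIso p.hom := NatIso.isIso_of_isIso_app _
  have : IsIso ((sheafToPresheaf J AddCommGrpCat.{u}).map p) := this
  exact isIso_of_reflects_iso p (sheafToPresheaf J AddCommGrpCat.{u})

lemma enlarges [Nonempty C] : BaerFam.Enlarges (W J) where
  iso_le := by
    apply MorphismProperty.isomorphisms_le_pushouts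
    intro Y
    let X₀ : C := Classical.arbitrary C
    exact ⟨_, _, _, W_mk X₀ ⊤, 0, inferInstance⟩
  exists_pushouts {A B} p _ hp := by
    have : ∃ (X : C) (f : CohCx.freeSheaf J X ⟶ B), ∀ a : CohCx.freeSheaf J X ⟶ A, a ≫ p ≠ f := by
      by_contra hcon
      push Not at hcon
      exact hp (isIso_of_factor p hcon)
    obtain ⟨X, f, hf⟩ := this
    refine ⟨pushout (pullback.fst p f) (pullback.snd p f), pushout.inl _ _,
      pushout.desc p f pullback.condition,
      ⟨_, _, _, (Subobject.underlyingIso _).hom ≫ pullback.fst _ _,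
      pushout.inr _ _, W_mk X (Subobject.mk (pullback.snd p f)),
      (IsPushout.of_hasPushout (pullback.fst p f) (pullback.snd p f)).of_iso
        ((Subobject.underlyingIso _).symm) (Iso.refl _) (Iso.refl _)
        (Iso.refl _) (by simp) (by simp) (by simp) (by simp)⟩, ?_, ?_, ?_⟩
    · intro h
      rw [isIso_iff_yoneda_map_bijective] at h
      obtain ⟨a, ha⟩ := (h (CohCx.freeSheaf J X)).2 (pushout.inr _ _)
      have h1 := ha =≫ pushout.desc p f pullback.condition
      dsimp at h1
      rw [Category.assoc, pushout.inl_desc, pushout.inr_desc] at h1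
      exact hf a h1
    · exact (IsPushout.of_hasPushout _ _).mono_of_isPullback_of_mono
        (IsPullback.of_hasPullback p f) _ (pushout.inl_desc _ _ _) (pushout.inr_desc _ _ _)
    · exact pushout.inl_desc _ _ _

theorem main (I : Sheaf J AddCommGrpCat.{u})
    (h : ∀ (X : C) (S : Sheaf J AddCommGrpCat.{u}) (i : S ⟶ CohCx.freeSheaf J X) [Mono i] (φ : S ⟶ I),
      ∃ ψ : CohCx.freeSheaf J X ⟶ I, i ≫ ψ = φ) :
    Injective I := by
  by_cases hC : Nonempty C
  · rw [injective_iff_rlp_monomorphisms_zero]
    apply BaerFam.rlp_le.{u} (enlarges (J := J))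
    rintro _ _ _ ⟨⟨X, S⟩⟩
    constructor
    intro φ b sq
    obtain ⟨ψ, hψ⟩ := h X _ S.arrow φ
    exact ⟨⟨{ l := ψ, fac_left := hψ, fac_right := (isZero_zero _).eq_of_tgt _ _ }⟩⟩
  · rw [not_nonempty_iff] at hC
    constructor
    intro A B g f _
    refine ⟨0, ?_⟩
    apply Sheaf.hom_ext
    ext U
    exact (hC.false U.unop).elim

end Groth.Agent.Lib.Helper8.BaerSheaf
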