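import Mathlib
import Groth.Agent.Lib.Helper8.CurveVan
import Groth.Prelude.Def_ClSub2

/-! # Helper8 — stalkwise injectivity/surjectivity from sections over opens of `U`; supports of kernel/cokernel; `O_X ⟶ f_* O_X'` -/
set_option autoImplicit false
universe u
open CategoryTheory CategoryTheory.Limits AlgebraicGeometry Opposite TopologicalSpace

namespace Groth.Agent.Lib.Helper8.UnitPush

open Groth.Agent.Lib.Helper28.QCohLoc Groth.Agent.Lib.Helper29.QCohStalk
  Groth.Agent.Lib.Helper17.StalkExact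

variable {X : Scheme.{u}}

section general

variable {F G : X.Modules} (φ : F ⟶ G) (U : X.Opens)

theorem stalkHom_injective_of_app (hinj : ∀ V : X.Opens, V ≤ U → Function.Injective (φ.app V))
    (x : X) (hx : x ∈ U) (h : F.presheaf.stalk x) (hh : stalkHom φ x h = 0) : h = 0 := by
  obtain ⟨V, hxV, m, rfl⟩ := TopCat.Presheaf.exists_germ_eq F.presheaf h
  have h1 : F.presheaf.germ V x hxV m = gm F (V ⊓ U) x ⟨hxV, hx⟩ (res F inf_le_left m) :=
    (gm_res F inf_le_left x ⟨hxV, hx⟩ m).symm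
  rw [h1] at hh ⊢
  have h2 : stalkHom φ x (gm F (V ⊓ U) x ⟨hxV, hx⟩ (res F inf_le_left m)) =
      gm G (V ⊓ U) x ⟨hxV, hx⟩ (φ.app (V ⊓ U) (res F inf_le_left m)) :=
    stalkHom_germ φ x (V ⊓ U) ⟨hxV, hx⟩ _
  rw [h2] at hh
  have h0 : gm G (V ⊓ U) x ⟨hxV, hx⟩ (φ.app (V ⊓ U) (res F inf_le_left m)) =
      gm G (V ⊓ U) x ⟨hxV, hx⟩ 0 := by rw [hh, gm_zero]
  obtain ⟨W, hxW, iU, iV, hres⟩ := TopCat.Presheaf.germ_eq G.presheaf x _ _ _ _ h0
  have hres' : res G iU.le (φ.app (V ⊓ U) (res F inf_le_left m)) = 0 := by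
    have : G.presheaf.map iV.op (0 : Γ(G, V ⊓ U)) = 0 := map_zero _
    rw [this] at hres
    exact hres
  rw [← app_res] at hres'
  have h3 := hinj W (iU.le.trans inf_le_right) (hres'.trans (map_zero _).symm)
  rw [← gm_res F iU.le x hxW, h3, gm_zero]

theorem stalkHom_surjective_of_app (hsurj : ∀ V : X.Opens, V ≤ U → Function.Surjective (φ.app V))
    (x : X) (hx : x ∈ U) : Function.Surjective (stalkHom φ x) := by
  intro g
  obtain ⟨V, hxV, m, rfl⟩ := TopCat.Presheaf.exists_germ_eq G.presheaf g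
  obtain ⟨m', hm'⟩ := hsurj (V ⊓ U) inf_le_right (res G inf_le_left m)
  refine ⟨gm F (V ⊓ U) x ⟨hxV, hx⟩ m', ?_⟩
  have h2 : stalkHom φ x (gm F (V ⊓ U) x ⟨hxV, hx⟩ m') =
      gm G (V ⊓ U) x ⟨hxV, hx⟩ (φ.app (V ⊓ U) m') :=
    stalkHom_germ φ x (V ⊓ U) ⟨hxV, hx⟩ _
  rw [h2, hm']
  exact gm_res G inf_le_left x ⟨hxV, hx⟩ m

theorem support_kernel_subset (hinj : ∀ V : X.Opens, V ≤ U → Function.Injective (φ.app V)) :
    CohB1.support (kernel φ) ⊆ ((U : Set X))ᶜ := fun x hx hxU =>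
  Groth.Agent.Lib.Helper6.DevStep.notMem_support_kernel _ x
    (stalkHom_injective_of_app φ U hinj x hxU) hx

theorem support_cokernel_subset (hsurj : ∀ V : X.Opens, V ≤ U → Function.Surjective (φ.app V)) :
    CohB1.support (cokernel φ) ⊆ ((U : Set X))ᶜ := fun x hx hxU =>
  Groth.Agent.Lib.Helper6.DevStep.notMem_support_cokernel _ x
    (stalkHom_surjective_of_app φ U hsurj x hxU) hx

end general

section unit

variable {X' : Scheme.{u}} (π : X' ⟶ X)

theorem unitToPush_app (V : X.Opens) (s : Γ(X, V)) :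
    (ClSub.unitToPush π).app V (show Γ(Coh.structureModule X, V) from s) = (π.app V).hom s := rfl

end unit

end Groth.Agent.Lib.Helper8.UnitPush
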