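import Groth.Agent.Lib.Helper8.DenseOpen
import Groth.Agent.Lib.Helper8.UnitPush
import Groth.Agent.Lib.Helper8.CompSum
import Groth.Agent.Lib.Helper4.PushGeneric
import Groth.Agent.Lib.Helper6.DevChev

/-! # Helper8 — birational morphisms of curves: finiteness, `ψ_E(f_* O) = deg f^*E`, invariance of the degree -/
set_option autoImplicit false
universe u
open CategoryTheory CategoryTheory.Limits AlgebraicGeometry Opposite TopologicalSpace
noncomputable section

namespace Groth.Agent.Lib.Helper8.Birat

open Groth.Agent.Lib.Helper8.DegTensor Groth.Agent.Lib.Helper8.EulerK Groth.Agent.Lib.Helper8.AffPush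
  Groth.Agent.Lib.Helper8.UnitPush Groth.Agent.Lib.Helper8.DenseOpen

section finite

variable {X X' : Scheme.{u}} (f : X' ⟶ X) (U : X.Opens)

/-- if `f` is an isomorphism over `U` it is injective on `f⁻¹ U` -/
theorem eq_of_map_eq [IsIso (f ∣_ U)] (x₁ x₂ : X') (h₁ : f.base x₁ ∈ U) (h : f.base x₁ = f.base x₂) :
    x₁ = x₂ := by
  have h₂ : f.base x₂ ∈ U := h ▸ h₁
  let z₁ : (f ⁻¹ᵁ U : X'.Opens) := ⟨x₁, h₁⟩
  let z₂ : (f ⁻¹ᵁ U : X'.Opens) := ⟨x₂, h₂⟩
  have hinj : Function.Injective (f ∣_ U).base :=
    (ConcreteCategory.bijective_of_isIso ((Scheme.forgetToTop).map (f ∣_ U))).1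
  have hz : (f ∣_ U).base z₁ = (f ∣_ U).base z₂ := by
    apply Subtype.ext
    have e₁ := morphismRestrict_base_coe f U z₁
    have e₂ := morphismRestrict_base_coe f U z₂
    exact e₁.trans (h.trans e₂.symm)
  exact congrArg Subtype.val (hinj hz)

/-- a proper morphism to a scheme, from a Noetherian scheme of dimension at most one, which is an isomorphism over an
open `U` with dense preimage, is finite -/
theorem isFinite_of_birational [IsNoetherian X'] (hdim' : topologicalKrullDim X' ≤ 1) [IsProper f]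
    (hU' : Dense ((f ⁻¹ᵁ U : X'.Opens) : Set X')) [IsIso (f ∣_ U)] : IsFinite f := by
  haveI : LocallyQuasiFinite f := by
    refine LocallyQuasiFinite.of_finite_preimage_singleton f fun y => ?_
    by_cases hy : y ∈ U
    · refine Set.Subsingleton.finite fun x₁ hx₁ x₂ hx₂ => ?_
      have e₁ : f.base x₁ = y := hx₁
      have e₂ : f.base x₂ = y := hx₂
      exact eq_of_map_eq f U x₁ x₂ (e₁ ▸ hy) (e₁.trans e₂.symm)
    · refine (finite_compl hdim' ((f ⁻¹ᵁ U : X'.Opens) : Set X') (f ⁻¹ᵁ U).isOpen hU').subset ?_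
      intro x hx hxU
      have e : f.base x = y := hx
      exact hy (e ▸ hxU)
  exact IsFinite.of_isProper_of_locallyQuasiFinite f

end finite

section psi

variable (k : Type u) [Field k] {X X' : Scheme.{u}} [X.Over (Spec (CommRingCat.of k))]
  [X'.Over (Spec (CommRingCat.of k))]

/-- `ψ_E(f_* O_{X'}) = deg (f^* E)` for an affine morphism `f` over `k` -/
theorem psi_push (f : X' ⟶ X) [IsAffineHom f]
    (hf : f ≫ (X ↘ (Spec (CommRingCat.of k))) = X' ↘ (Spec (CommRingCat.of k)))
    (n : ℕ) (E : X.Modules) (hE : FlatMod.IsFinLocFreeOfRank n E) :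
    psi k X n E ((Scheme.Modules.pushforward f).obj (Coh.structureModule X')) =
      Curv2.deg k X' ((Scheme.Modules.pullback f).obj E) n := by
  obtain ⟨e⟩ := Groth.Agent.Lib.Helper8.ProjN.nonempty_tensor_push_iso f E hE
  have hpb : Coh.IsCoh ((Scheme.Modules.pullback f).obj E) :=
    Groth.Agent.Lib.Helper8.CurveTensor.isCoh_of_isFinLocFreeOfRank _
      (Groth.Agent.Lib.Helper16.LocFree.isFinLocFreeOfRank_pullback f E hE)
  unfold psi Curv2.deg
  rw [euler_congr k e, euler_push k f hf _ hpb.1, euler_push k f hf (Coh.structureModule X') inferInstance]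

theorem psi_structureModule (n : ℕ) (E : X.Modules) :
    psi k X n E (Coh.structureModule X) = Curv2.deg k X E n := by
  obtain ⟨e⟩ := Groth.Agent.Lib.Helper28.AmpleUnit.nonempty_tensor_unit_iso E
  unfold psi Curv2.deg
  rw [euler_congr k e]

variable [IsProper (X ↘ Spec (CommRingCat.of k))]

theorem psi_zero_of_finset (n : ℕ) (E : X.Modules) (hE : FlatMod.IsFinLocFreeOfRank n E)
    (G : X.Modules) (hG : Coh.IsCoh G) (S : Finset X) (hcl : ∀ z ∈ S, IsClosed ({z} : Set X))
    (hS : CohB1.support G ⊆ (S : Set X)) : psi k X n E G = 0 := by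
  unfold psi
  rw [euler_congr k (Groth.Agent.Lib.Helper6.K0Inv.braidIso E G),
    Groth.Agent.Lib.Helper8.CurveTensor.euler_tensor_of_finset k X G hG S hcl hS n E hE]
  ring

open Groth.Agent.Lib.Helper6.DevCore Groth.Agent.Lib.Helper6.DevStep in
/-- **the degree of a finite locally free module is invariant under finite morphisms which are isomorphisms over a
dense open** (`X` proper of dimension at most one) -/
theorem deg_pullback_eq [IsNoetherian X] (hdim : topologicalKrullDim X ≤ 1) (f : X' ⟶ X) [IsFinite f]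
    (hf : f ≫ (X ↘ (Spec (CommRingCat.of k))) = X' ↘ (Spec (CommRingCat.of k)))
    (U : X.Opens) (hU : Dense (U : Set X)) [IsIso (f ∣_ U)]
    (n : ℕ) (E : X.Modules) (hE : FlatMod.IsFinLocFreeOfRank n E) :
    Curv2.deg k X' ((Scheme.Modules.pullback f).obj E) n = Curv2.deg k X E n := by
  haveI : IsNoetherian X' := by
    haveI : IsLocallyNoetherian X' := LocallyOfFiniteType.isLocallyNoetherian f
    haveI : CompactSpace X' := QuasiCompact.compactSpace_of_compactSpace f
    exact { }
  set η := ClSub.unitToPush f with hη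
  have hbij : ∀ V : X.Opens, V ≤ U → Function.Bijective (η.app V) := fun V hV =>
    Groth.Agent.Lib.Helper4.PushGeneric.app_bijective_of_isIso_restrict f U V hV
  have hK : CohB1.support (kernel η) ⊆ ((U : Set X))ᶜ :=
    support_kernel_subset η U fun V hV => (hbij V hV).1
  have hQ : CohB1.support (cokernel η) ⊆ ((U : Set X))ᶜ :=
    support_cokernel_subset η U fun V hV => (hbij V hV).2
  have hfin := finite_compl hdim (U : Set X) U.isOpen hU
  have hcl : ∀ z ∈ hfin.toFinset, IsClosed ({z} : Set X) := fun z hz =>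
    isClosed_singleton_of_notMem hdim (U : Set X) U.isOpen hU z (hfin.mem_toFinset.1 hz)
  have hS : ((U : Set X))ᶜ ⊆ (hfin.toFinset : Set X) := fun z hz => hfin.mem_toFinset.2 hz
  have hcO : Coh.IsCoh (Coh.structureModule X) := Groth.Agent.Lib.Helper6.DevRed.isCoh_structureModule
  have hcP : Coh.IsCoh ((Scheme.Modules.pushforward f).obj (Coh.structureModule X')) :=
    Groth.Agent.Lib.Helper6.DevChev.isCoh_push_of_isFinite f _
      Groth.Agent.Lib.Helper6.DevRed.isCoh_structureModule
  have hcK := isCoh_kernel η hcO hcP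
  have hcQ := isCoh_cokernel η hcO hcP
  have hcI := isCoh_image η hcO hcP
  have h1 := psi_add k X n E hE _ (Groth.Agent.Lib.Helper8.CurveVan.shortExact_kernel_image η) hcK hcO hcI
  have h2 := psi_add k X n E hE _ (sc2_shortExact η) hcI hcP hcQ
  have hK0 := psi_zero_of_finset k n E hE _ hcK hfin.toFinset hcl (hK.trans hS)
  have hQ0 := psi_zero_of_finset k n E hE _ hcQ hfin.toFinset hcl (hQ.trans hS)
  dsimp only [sc2] at h1 h2
  rw [hK0, zero_add] at h1
  rw [hQ0, add_zero, ← h1, psi_structureModule, psi_push k f hf n E hE] at h2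
  exact h2

end psi

end Groth.Agent.Lib.Helper8.Birat
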