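import Groth.Agent.Lib.Helper8.Birat
import Groth.Agent.Lib.Helper8.KillC
import Groth.Agent.Lib.Helper8.CurveVan2
import Groth.Agent.Lib.lead.NowhereDenseDim
import Groth.Agent.Lib.Helper24.OpenAt.Main4920

/-! # Helper8 — proper birational morphisms onto curves: dimension of the source, `genus X' ≤ genus X` -/
set_option autoImplicit false
universe u
open CategoryTheory CategoryTheory.Limits AlgebraicGeometry Opposite TopologicalSpace
noncomputable section

namespace Groth.Agent.Lib.Helper8.BiratGenus

open Groth.Agent.Lib.Helper7 Groth.Agent.Lib.lead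

/-- a finite type `k`-scheme has the dimension of any dense open -/
theorem dim_le_of_dense_open (k : Type u) [Field k] (Y : Scheme.{u}) [Y.Over (Spec (CommRingCat.of k))]
    [LocallyOfFiniteType (Y ↘ (Spec (CommRingCat.of k)))] (V : Y.Opens) (hV : Dense (V : Set Y))
    (n : WithBot ℕ∞) (h : topologicalKrullDim ↥V ≤ n) : topologicalKrullDim Y ≤ n := by
  haveI : IsLocallyNoetherian Y := LocallyOfFiniteType.isLocallyNoetherian (Y ↘ (Spec (CommRingCat.of k)))
  apply Groth.Agent.Lib.Helper24.OpenAt.dim_le_of_components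
  intro W hW
  obtain ⟨ξ, hξ⟩ := QuasiSober.sober hW.1 (isClosed_of_mem_irreducibleComponents W hW)
  have hcl : closure ({ξ} : Set Y) = W := hξ.def
  have hmax : ∀ y : Y, y ⤳ ξ → y = ξ :=
    (AffPts.closure_mem_irreducibleComponents_iff ξ).1 (hcl ▸ hW)
  have hξV : ξ ∈ V := by
    by_contra hcon
    exact NowhereDenseDim.not_mem_of_interior_eq_empty ξ hmax ((V : Set Y)ᶜ) V.isOpen.isClosed_compl
      hV.interior_compl hcon
  obtain ⟨m, -, hm⟩ := VarDim.exists_nat_dim_closure_eq k Y ξ
  have := NowhereDenseDim.le_dim_open k Y V ξ hξV m hm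
  rw [← hcl, hm]
  exact this.trans h

open Groth.Agent.Lib.Helper8.DegTensor Groth.Agent.Lib.Helper8.EulerK Groth.Agent.Lib.Helper8.AffPush
  Groth.Agent.Lib.Helper8.UnitPush Groth.Agent.Lib.Helper8.DenseOpen Groth.Agent.Lib.Helper8.KillA
  Groth.Agent.Lib.Helper8.KillC

variable (k : Type u) [Field k] {X X' : Scheme.{u}} [X.Over (Spec (CommRingCat.of k))]
  [X'.Over (Spec (CommRingCat.of k))]

/-- the source of a `k`-morphism to a `k`-scheme of dimension at most one which is an isomorphism over an open with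
dense preimage has dimension at most one -/
theorem dim_le_one [LocallyOfFiniteType (X' ↘ (Spec (CommRingCat.of k)))]
    (hdim : topologicalKrullDim X ≤ 1) (f : X' ⟶ X)
    (U : X.Opens) (hU' : Dense ((f ⁻¹ᵁ U : X'.Opens) : Set X')) [IsIso (f ∣_ U)] :
    topologicalKrullDim X' ≤ 1 := by
  apply dim_le_of_dense_open k X' (f ⁻¹ᵁ U) hU'
  have e : topologicalKrullDim ↥(f ⁻¹ᵁ U) = topologicalKrullDim ↥U :=
    IsHomeomorph.topologicalKrullDim_eq _ (Scheme.homeoOfIso (asIso (f ∣_ U))).isHomeomorph
  rw [e]
  exact (topologicalKrullDim_subspace_le X U).trans hdim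

section main

variable [IsProper (X ↘ Spec (CommRingCat.of k))]

open Groth.Agent.Lib.Helper6.DevCore Groth.Agent.Lib.Helper6.DevStep in
/-- the unit map `O_X ⟶ f_* O_{X'}` of a proper birational morphism to a proper `k`-scheme of dimension at most one is
surjective on `H¹`, so the genus can only drop -/
theorem genus_le (hdim : topologicalKrullDim X ≤ 1) (f : X' ⟶ X) [IsProper f]
    (hf : f ≫ (X ↘ (Spec (CommRingCat.of k))) = X' ↘ (Spec (CommRingCat.of k)))
    (U : X.Opens) (hU : Dense (U : Set X)) (hU' : Dense ((f ⁻¹ᵁ U : X'.Opens) : Set X'))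
    [IsIso (f ∣_ U)] : Curv2.genus k X' ≤ Curv2.genus k X := by
  haveI : IsProper (X' ↘ (Spec (CommRingCat.of k))) := by rw [← hf]; infer_instance
  haveI : IsNoetherian X' := Groth.Agent.Lib.Helper8.CurveRR.isNoetherian k X'
  haveI : IsNoetherian X := Groth.Agent.Lib.Helper8.CurveRR.isNoetherian k X
  have hdim' := dim_le_one k hdim f U hU'
  haveI : IsFinite f := Groth.Agent.Lib.Helper8.Birat.isFinite_of_birational f U hdim' hU'
  set η := ClSub.unitToPush f with hη
  have hbij : ∀ V : X.Opens, V ≤ U → Function.Bijective (η.app V) := fun V hV =>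
    Groth.Agent.Lib.Helper4.PushGeneric.app_bijective_of_isIso_restrict f U V hV
  have hQ : CohB1.support (cokernel η) ⊆ ((U : Set X))ᶜ :=
    support_cokernel_subset η U fun V hV => (hbij V hV).2
  have hcO : Coh.IsCoh (Coh.structureModule X) := Groth.Agent.Lib.Helper6.DevRed.isCoh_structureModule
  have hcP : Coh.IsCoh ((Scheme.Modules.pushforward f).obj (Coh.structureModule X')) :=
    Groth.Agent.Lib.Helper6.DevChev.isCoh_push_of_isFinite f _
      Groth.Agent.Lib.Helper6.DevRed.isCoh_structureModule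
  have hcK := isCoh_kernel η hcO hcP
  have hcQ := isCoh_cokernel η hcO hcP
  haveI := hcK.1
  have h2 : Subsingleton (Coh.HH X (kernel η) (0 + 1 + 1)) :=
    Groth.Agent.Lib.Helper8.CurveVan2.subsingleton_HH_of_dim_le_one (X ↘ (Spec (CommRingCat.of k))) hdim
      (kernel η) 0
  have h1 : Subsingleton (Coh.HH X (cokernel η) (0 + 1)) :=
    Groth.Agent.Lib.Helper8.CurveDeg.subsingleton_HH_succ (cokernel η) hcQ
      (fun z hz => isClosed_singleton_of_notMem hdim (U : Set X) U.isOpen hU z (hQ hz)) 0
  have hsurj := HHmap_surjective_of_cokernel η 0 h2 h1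
  haveI : Module.Finite k (Coh.HH X (Coh.structureModule X) 1) := finite_HH k X _ hcO 1
  unfold Curv2.genus
  rw [← finrank_push k f hf (Coh.structureModule X') inferInstance 1]
  exact LinearMap.finrank_le_finrank_of_surjective
    (f := (show Coh.HH X (Coh.structureModule X) 1 →ₗ[k]
      Coh.HH X ((Scheme.Modules.pushforward f).obj (Coh.structureModule X')) 1 from
        Canon.HHlin k η 1)) hsurj

end main

end Groth.Agent.Lib.Helper8.BiratGenus
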