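import Groth.Agent.Lib.Helper8.BiratGenus
import Groth.Agent.Lib.Helper8.GrdEq
import Groth.Agent.Lib.Helper24.Hartogs.Main14272

/-! # Helper8 — a proper birational morphism onto a reduced proper curve preserving `h⁰` (surjectively) and the genus is an isomorphism -/
set_option autoImplicit false
universe u
open CategoryTheory CategoryTheory.Limits AlgebraicGeometry Opposite TopologicalSpace Abelian
noncomputable section

namespace Groth.Agent.Lib.Helper8.BiratIso

open Groth.Agent.Lib.Helper2.HLes Groth.Agent.Lib.Helper2.HLesLin Groth.Agent.Lib.Helper8.KillA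
  Groth.Agent.Lib.Helper8.UnitPush

section les
variable {X : Scheme.{u}}

theorem HHmap_zero {M N : X.Modules} (p : ℕ) (x : Coh.HH X M p) : HHmap (0 : M ⟶ N) p x = 0 := by
  change Sheaf.H.map ((SheafOfModules.toSheaf X.ringCatSheaf).map (0 : M ⟶ N)) p x = 0
  have h : (SheafOfModules.toSheaf X.ringCatSheaf).map (0 : M ⟶ N) = 0 :=
    (SheafOfModules.toSheaf X.ringCatSheaf).map_zero M N
  rw [h, Sheaf.H.map_apply, Ext.mk₀_zero, Ext.comp_zero]

/-- the composite of the connecting map with the first map vanishes -/
theorem map_f_δ (S : ShortComplex X.Modules) (hS : S.ShortExact) (p : ℕ) (x : Coh.HH X S.X₃ p) :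
    HHmap S.f (p + 1) (δ (shortExact_Sab S hS) p x) = 0 := by
  change ((x.comp (shortExact_Sab S hS).extClass rfl).comp
      (Ext.mk₀ ((SheafOfModules.toSheaf X.ringCatSheaf).map S.f)) (add_zero (p + 1))) = 0
  rw [Ext.comp_assoc_of_third_deg_zero]
  have := (shortExact_Sab S hS).extClass_comp
  erw [this]
  exact Ext.comp_zero x _ _ _ _

/-- if the first map of a short exact sequence is surjective on `H⁰` and injective on `H¹`, the third term has no
`H⁰` -/
theorem subsingleton_H0_X₃ (S : ShortComplex X.Modules) (hS : S.ShortExact)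
    (h0 : Function.Surjective (HHmap S.f 0)) (h1 : Function.Injective (HHmap S.f 1)) :
    Subsingleton (Coh.HH X S.X₃ 0) := by
  have key : ∀ q : Coh.HH X S.X₃ 0, q = 0 := by
    intro q
    have hδ : δ (shortExact_Sab S hS) 0 q = 0 := by
      apply h1
      exact (map_f_δ S hS 0 q).trans (map_zero _).symm
    obtain ⟨b, rfl⟩ := exact₃ (shortExact_Sab S hS) 0 q hδ
    obtain ⟨a, rfl⟩ := h0 b
    have := HHmap_comp S.f S.g 0 a
    rw [S.zero, HHmap_zero] at this
    exact this.symm
  exact ⟨fun a b => by rw [key a, key b]⟩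

/-- a morphism of modules surjective on global sections is surjective on `H⁰` -/
theorem HHmap_zero_surjective_of_app {M N : X.Modules} (φ : M ⟶ N)
    (h : Function.Surjective (φ.app ⊤)) : Function.Surjective (HHmap φ 0) := by
  intro y
  obtain ⟨s, hs⟩ := h (Sheaf.H.equiv₀ (Coh.toAb N) Limits.isTerminalTop y)
  refine ⟨(Sheaf.H.equiv₀ (Coh.toAb M) Limits.isTerminalTop).symm s, ?_⟩
  have := Sheaf.H.equiv₀_symm_naturality (Limits.isTerminalTop (α := Opens X))
    ((SheafOfModules.toSheaf X.ringCatSheaf).map φ) s
  refine this.trans ?_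
  apply (Sheaf.H.equiv₀ (Coh.toAb N) Limits.isTerminalTop).injective
  rw [AddEquiv.apply_symm_apply]
  exact hs

end les

section geom
variable {X X' : Scheme.{u}}

/-- on a reduced scheme, a morphism which is an isomorphism over a dense open is injective on sections -/
theorem app_injective_of_dense [IsReduced X] (f : X' ⟶ X) (U : X.Opens) (hU : Dense (U : Set X))
    [IsIso (f ∣_ U)] (V : X.Opens) : Function.Injective (f.app V).hom := by
  rw [injective_iff_map_eq_zero]
  intro s hs
  have hle : V ⊓ U ≤ V := inf_le_left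
  have hb := (Groth.Agent.Lib.Helper4.PushGeneric.app_bijective_of_isIso_restrict f U (V ⊓ U)
    inf_le_right).1
  have hres : X.presheaf.map (homOfLE hle).op s = 0 := by
    apply hb
    rw [map_zero]
    have hn := f.naturality (homOfLE hle).op
    have h1 := congrArg (fun φ => φ.hom s) hn
    simp only [CommRingCat.hom_comp, RingHom.comp_apply] at h1
    rw [h1, hs, map_zero]
  have h1 : X.basicOpen (X.presheaf.map (homOfLE hle).op s) = (V ⊓ U) ⊓ X.basicOpen s :=
    Scheme.basicOpen_res _ _ _
  rw [hres, Scheme.basicOpen_zero] at h1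
  have h2 : X.basicOpen s ≤ V := X.basicOpen_le s
  have hbo : X.basicOpen s = ⊥ := by
    by_contra hne
    obtain ⟨x, hx⟩ : ((X.basicOpen s : Set X)).Nonempty := by
      rw [Set.nonempty_iff_ne_empty]
      intro h
      apply hne
      ext y
      simp [h]
    obtain ⟨y, hy1, hy2⟩ := hU.inter_open_nonempty _ (X.basicOpen s).isOpen ⟨x, hx⟩
    have : y ∈ (V ⊓ U) ⊓ X.basicOpen s := ⟨⟨h2 hy1, hy2⟩, hy1⟩
    rw [← h1] at this
    exact this.elim
  exact (basicOpen_eq_bot_iff s).1 hbo

end geom

section main

open Groth.Agent.Lib.Helper8.DegTensor Groth.Agent.Lib.Helper8.EulerK Groth.Agent.Lib.Helper8.AffPush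
  Groth.Agent.Lib.Helper8.DenseOpen Groth.Agent.Lib.Helper8.KillC Groth.Agent.Lib.Helper8.BiratGenus

variable (k : Type u) [Field k] {X X' : Scheme.{u}} [X.Over (Spec (CommRingCat.of k))]
  [X'.Over (Spec (CommRingCat.of k))] [IsProper (X ↘ Spec (CommRingCat.of k))]

open Groth.Agent.Lib.Helper6.DevCore Groth.Agent.Lib.Helper6.DevStep in
/-- a proper birational morphism onto a reduced proper `k`-scheme of dimension at most one which is surjective on
global functions and preserves the genus is an isomorphism -/
theorem isIso_of_genus_eq [IsReduced X] (hdim : topologicalKrullDim X ≤ 1) (f : X' ⟶ X) [IsProper f]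
    (hf : f ≫ (X ↘ (Spec (CommRingCat.of k))) = X' ↘ (Spec (CommRingCat.of k)))
    (U : X.Opens) (hU : Dense (U : Set X)) (hU' : Dense ((f ⁻¹ᵁ U : X'.Opens) : Set X'))
    [IsIso (f ∣_ U)] (h0 : Function.Surjective (f.app ⊤).hom)
    (h1 : Curv2.genus k X' = Curv2.genus k X) : IsIso f := by
  haveI : IsProper (X' ↘ (Spec (CommRingCat.of k))) := by rw [← hf]; infer_instance
  haveI : IsNoetherian X' := Groth.Agent.Lib.Helper8.CurveRR.isNoetherian k X'
  haveI : IsNoetherian X := Groth.Agent.Lib.Helper8.CurveRR.isNoetherian k X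
  have hdim' := dim_le_one k hdim f U hU'
  haveI : IsFinite f := Groth.Agent.Lib.Helper8.Birat.isFinite_of_birational f U hdim' hU'
  set η := ClSub.unitToPush f with hη
  have hbij : ∀ V : X.Opens, V ≤ U → Function.Bijective (η.app V) := fun V hV =>
    Groth.Agent.Lib.Helper4.PushGeneric.app_bijective_of_isIso_restrict f U V hV
  have hQ : CohB1.support (cokernel η) ⊆ ((U : Set X))ᶜ :=
    support_cokernel_subset η U fun V hV => (hbij V hV).2
  have hcO : Coh.IsCoh (Coh.structureModule X) := Groth.Agent.Lib.Helper6.DevRed.isCoh_structureModule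
  have hcP : Coh.IsCoh ((Scheme.Modules.pushforward f).obj (Coh.structureModule X')) :=
    Groth.Agent.Lib.Helper6.DevChev.isCoh_push_of_isFinite f _
      Groth.Agent.Lib.Helper6.DevRed.isCoh_structureModule
  have hcK := isCoh_kernel η hcO hcP
  have hcQ := isCoh_cokernel η hcO hcP
  haveI := hcK.1
  have h2 : Subsingleton (Coh.HH X (kernel η) (0 + 1 + 1)) :=
    Groth.Agent.Lib.Helper8.CurveVan2.subsingleton_HH_of_dim_le_one (X ↘ (Spec (CommRingCat.of k))) hdim
      (kernel η) 0
  have hQcl : ∀ z ∈ CohB1.support (cokernel η), IsClosed ({z} : Set X) :=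
    fun z hz => isClosed_singleton_of_notMem hdim (U : Set X) U.isOpen hU z (hQ hz)
  have hH1 : Subsingleton (Coh.HH X (cokernel η) (0 + 1)) :=
    Groth.Agent.Lib.Helper8.CurveDeg.subsingleton_HH_succ (cokernel η) hcQ hQcl 0
  have hsurj1 : Function.Surjective (HHmap η 1) := HHmap_surjective_of_cokernel η 0 h2 hH1
  haveI : Module.Finite k (Coh.HH X (Coh.structureModule X) 1) := finite_HH k X _ hcO 1
  haveI : Module.Finite k (Coh.HH X ((Scheme.Modules.pushforward f).obj (Coh.structureModule X')) 1) :=
    finite_HH k X _ hcP 1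
  have hfr : Module.finrank k (Coh.HH X (Coh.structureModule X) 1) =
      Module.finrank k (Coh.HH X ((Scheme.Modules.pushforward f).obj (Coh.structureModule X')) 1) := by
    rw [finrank_push k f hf (Coh.structureModule X') inferInstance 1]
    exact h1.symm
  have hinj1 : Function.Injective (HHmap η 1) :=
    (LinearMap.injective_iff_surjective_of_finrank_eq_finrank
      (f := (show Coh.HH X (Coh.structureModule X) 1 →ₗ[k]
        Coh.HH X ((Scheme.Modules.pushforward f).obj (Coh.structureModule X')) 1 from
          Canon.HHlin k η 1)) hfr).2 hsurj1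
  have hsurj0 : Function.Surjective (HHmap η 0) := HHmap_zero_surjective_of_app η h0
  haveI hmono : Mono η := Groth.Agent.Lib.Helper8.CurveInv.mono_of_app_injective η
    (fun V => app_injective_of_dense f U hU V)
  let S : ShortComplex X.Modules := ShortComplex.mk η (cokernel.π η) (cokernel.condition η)
  have hS : S.ShortExact :=
    { exact := ShortComplex.exact_cokernel η
      mono_f := by dsimp [S]; infer_instance
      epi_g := by dsimp [S]; infer_instance }
  have hsub : Subsingleton (Coh.HH X (cokernel η) 0) := subsingleton_H0_X₃ S hS hsurj0 hinj1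
  have hzero : IsZero (cokernel η) := by
    by_contra hne
    haveI := Groth.Agent.Lib.Helper8.CurveDeg.nontrivial_HH_zero (cokernel η) hcQ hQcl hne
    exact not_subsingleton _ hsub
  haveI : Epi η := Preadditive.epi_of_isZero_cokernel η hzero
  haveI : IsIso η := isIso_of_mono_of_epi η
  apply Groth.Agent.Lib.Helper24.Hartogs.isIso_of_app_bijective
  intro V _
  exact ConcreteCategory.bijective_of_isIso (η.app V)

end main

end Groth.Agent.Lib.Helper8.BiratIso
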