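import Groth.Prelude.Def_CohDer
import Mathlib.CategoryTheory.Limits.Shapes.Products
import Mathlib.Algebra.DirectSum.Basic

/-!
# Helper8 — CCpt1: countably compact objects; finite support of maps into countable coproducts
-/

universe v u

open CategoryTheory CategoryTheory.Limits

namespace Groth.Agent.Lib.Helper8.CCpt

variable {D : Type u} [Category.{v} D] [Preadditive D]

/-- countable compactness, in the form of the hypothesis of S7014 -/
def IsCC (C : D) : Prop :=
  ∀ (E : ℕ → D) [HasCoproduct fun i : ULift.{v} ℕ => E i.down],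
    Function.Bijective (CohDer.homSumToHomCoprod C (fun i : ULift.{v} ℕ => E i.down))

/-- reindexing a cofan along `ULift` -/
def cofanULift {E : ℕ → D} (c : Cofan E) : Cofan (fun i : ULift.{v} ℕ => E i.down) :=
  Cofan.mk c.pt (fun i => c.inj i.down)

/-- the reindexed cofan is a colimit -/
def isColimitCofanULift {E : ℕ → D} (c : Cofan E) (hc : IsColimit c) :
    IsColimit (cofanULift.{v} c) :=
  Cofan.IsColimit.mk _ (fun s => Cofan.IsColimit.desc hc (fun n => s.inj ⟨n⟩))
    (fun s i => by
      change c.inj i.down ≫ _ = _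
      rw [Cofan.IsColimit.fac])
    (fun s m hm => Cofan.IsColimit.hom_ext hc _ _ (fun n => by
      rw [Cofan.IsColimit.fac]
      exact hm ⟨n⟩))

lemma finite_support {C : D} (hC : IsCC C) {E : ℕ → D} (c : Cofan E) (hc : IsColimit c)
    (x : C ⟶ c.pt) :
    ∃ N : ℕ, ∀ {T : D} (g : c.pt ⟶ T), (∀ n, n < N → c.inj n ≫ g = 0) → x ≫ g = 0 := by
  classical
  let E' : ULift.{v} ℕ → D := fun i => E i.down
  haveI : HasCoproduct E' := ⟨⟨⟨cofanULift.{v} c, isColimitCofanULift c hc⟩⟩⟩
  let e : ∐ E' ≅ c.pt :=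
    IsColimit.coconePointUniqueUpToIso (coproductIsCoproduct E') (isColimitCofanULift c hc)
  have he : ∀ i, Sigma.ι E' i ≫ e.hom = c.inj i.down := fun i =>
    IsColimit.comp_coconePointUniqueUpToIso_hom (coproductIsCoproduct E')
      (isColimitCofanULift c hc) ⟨i⟩
  obtain ⟨ξ, hξ⟩ := (hC E).2 (x ≫ e.inv)
  have hx : x = ∑ i ∈ DFinsupp.support ξ, ξ i ≫ c.inj i.down := by
    have h1 : x = CohDer.homSumToHomCoprod C E' ξ ≫ e.hom := by
      rw [hξ, Category.assoc, Iso.inv_hom_id, Category.comp_id]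
    rw [h1]
    conv_lhs => rw [← DirectSum.sum_support_of ξ]
    rw [map_sum, Preadditive.sum_comp]
    refine Finset.sum_congr rfl (fun i _ => ?_)
    have h2 : CohDer.homSumToHomCoprod C E' (DirectSum.of (fun j => C ⟶ E' j) i (ξ i)) =
        ξ i ≫ Sigma.ι E' i := by
      simp only [CohDer.homSumToHomCoprod]
      erw [DirectSum.toAddMonoid_of]
      rfl
    rw [h2, Category.assoc, he]
  refine ⟨(DFinsupp.support ξ).sup (fun i => i.down) + 1, fun g hg => ?_⟩
  rw [hx, Preadditive.sum_comp]
  refine Finset.sum_eq_zero (fun i hi => ?_)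
  rw [Category.assoc, hg i.down (Nat.lt_succ_of_le (Finset.le_sup (f := fun i => i.down) hi)),
    comp_zero]

end Groth.Agent.Lib.Helper8.CCpt
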