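import Groth.Agent.Lib.Helper8.RDer4
import Groth.Prelude.Def_CE

/-!
# Helper8: Cartan–Eilenberg resolutions, part 1: ℕ-indexed resolutions and passage to ℤ
-/

universe v u

open CategoryTheory CategoryTheory.Limits

namespace Groth.Agent.Lib.Helper8.CE1

open RDer2

variable {B : Type u} [Category.{v} B] [Abelian B]

/-- `C` with augmentation `a` is an injective resolution of `M` (ℕ-indexed version) -/
structure IsRes (C : CochainComplex B ℕ) (M : B) (a : M ⟶ C.X 0) : Prop where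
  w : a ≫ C.d 0 1 = 0
  inj : ∀ n, Injective (C.X n)
  exact_succ : ∀ n, C.ExactAt (n + 1)
  mono : Mono a
  exact₀ : (ShortComplex.mk a (C.d 0 1) w).Exact

lemma isRes_of_injectiveResolution {M : B} (I : InjectiveResolution M) :
    IsRes I.cocomplex M (aug I) where
  w := aug_d I
  inj := I.injective
  exact_succ n := (HomologicalComplex.exactAt_iff' _ n (n + 1) (n + 2) (by simp) (by simp)).2
    (I.exact_succ n)
  mono := inferInstance
  exact₀ := aug_exact I

lemma isRes_of_iso {C C' : CochainComplex B ℕ} {M : B} {a : M ⟶ C.X 0} (h : IsRes C M a)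
    (e : C ≅ C') (a' : M ⟶ C'.X 0) (ha' : a' = a ≫ e.hom.f 0) : IsRes C' M a' := by
  have w' : a' ≫ C'.d 0 1 = 0 := by
    rw [ha', Category.assoc, e.hom.comm 0 1, reassoc_of% h.w, zero_comp]
  refine ⟨w', fun n => ?_, fun n => (h.exact_succ n).of_iso e, ?_, ?_⟩
  · have := h.inj n
    exact Injective.of_iso (HomologicalComplex.Hom.isoApp e n) inferInstance
  · have := h.mono
    rw [ha']
    infer_instance
  · refine ShortComplex.exact_of_iso ?_ h.exact₀
    exact ShortComplex.isoMk (Iso.refl _) (HomologicalComplex.Hom.isoApp e 0)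
      (HomologicalComplex.Hom.isoApp e 1) (by simp [ha']) (by simp)

/-- passing from an ℕ-indexed resolution to a ℤ-indexed one -/
lemma isInjResolutionVia_of_isRes {C' : CochainComplex B ℕ} {M : B} {a' : M ⟶ C'.X 0}
    (h : IsRes C' M a') (C : CochainComplex B ℤ)
    (φ : ∀ n : ℕ, C.X (n : ℤ) ≅ C'.X n)
    (hφ : ∀ n : ℕ, C.d (n : ℤ) ((n + 1 : ℕ) : ℤ) ≫ (φ (n + 1)).hom = (φ n).hom ≫ C'.d n (n + 1))
    (hz : ∀ q : ℤ, q < 0 → IsZero (C.X q))
    (a : M ⟶ C.X 0) (ha : a = a' ≫ (φ 0).inv) :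
    CE.IsInjResolutionVia C M a := by
  have hφ' : ∀ n : ℕ, (φ n).inv ≫ C.d (n : ℤ) ((n + 1 : ℕ) : ℤ) =
      C'.d n (n + 1) ≫ (φ (n + 1)).inv := by
    intro n
    rw [← cancel_mono (φ (n + 1)).hom, Category.assoc, hφ, Iso.inv_hom_id_assoc, Category.assoc,
      Iso.inv_hom_id, Category.comp_id]
  have hφ0 : C.d 0 1 ≫ (φ 1).hom = (φ 0).hom ≫ C'.d 0 1 := hφ 0
  have hφ0' : (φ 0).inv ≫ C.d 0 1 = C'.d 0 1 ≫ (φ 1).inv := hφ' 0
  have w : a ≫ C.d 0 1 = 0 := by
    rw [ha, Category.assoc, hφ0', reassoc_of% h.w, zero_comp]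
  refine ⟨w, ?_, ?_, ?_, ?_, ?_⟩
  · rw [CochainComplex.isStrictlyGE_iff]
    exact hz
  · intro q
    by_cases hq : q < 0
    · exact (hz q hq).injective
    · obtain ⟨n, rfl⟩ := Int.eq_ofNat_of_zero_le (not_lt.1 hq)
      have := h.inj n
      exact Injective.of_iso (φ n).symm inferInstance
  · intro q hq0
    by_cases hq : q < 0
    · exact HomologicalComplex.ExactAt.of_isZero (hz q hq)
    · obtain ⟨n, rfl⟩ := Int.eq_ofNat_of_zero_le (not_lt.1 hq)
      obtain ⟨m, rfl⟩ : ∃ m, n = m + 1 := ⟨n - 1, by omega⟩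
      rw [HomologicalComplex.exactAt_iff' _ ((m : ℕ) : ℤ) ((m + 1 : ℕ) : ℤ) ((m + 1 + 1 : ℕ) : ℤ)
        (by simp) (by simp)]
      have h' := h.exact_succ m
      rw [HomologicalComplex.exactAt_iff' _ m (m + 1) (m + 1 + 1) (by simp) (by simp)] at h'
      refine ShortComplex.exact_of_iso ?_ h'
      exact (ShortComplex.isoMk (φ m) (φ (m + 1)) (φ (m + 1 + 1)) (hφ m).symm
        (hφ (m + 1)).symm).symm
  · have := h.mono
    rw [ha]
    infer_instance
  · refine ShortComplex.exact_of_iso ?_ h.exact₀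
    have e : ShortComplex.mk a (C.d 0 1) w ≅ ShortComplex.mk a' (C'.d 0 1) h.w :=
      ShortComplex.isoMk (Iso.refl _) (φ 0) (φ 1) (by simp [ha]) hφ0.symm
    exact e.symm

end Groth.Agent.Lib.Helper8.CE1
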