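import Groth.Agent.Lib.Helper8.CE1

/-!
# Helper8: Cartan–Eilenberg resolutions, part 2: assembling the double complex
-/

universe v u

open CategoryTheory CategoryTheory.Limits

namespace Groth.Agent.Lib.Helper8.CE2

open CE1

variable {A : Type u} [Category.{v} A] [Abelian A]

/-- a degreewise split short exact sequence of ℕ-indexed cochain complexes -/
structure DSplit (X₁ X₂ X₃ : CochainComplex A ℕ) where
  f : X₁ ⟶ X₂
  g : X₂ ⟶ X₃
  r : ∀ n, X₂.X n ⟶ X₁.X n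
  s : ∀ n, X₃.X n ⟶ X₂.X n
  f_r : ∀ n, f.f n ≫ r n = 𝟙 _
  s_g : ∀ n, s n ≫ g.f n = 𝟙 _
  f_g : ∀ n, f.f n ≫ g.f n = 0
  total : ∀ n, r n ≫ f.f n + g.f n ≫ s n = 𝟙 _

attribute [reassoc (attr := simp)] DSplit.f_r DSplit.s_g DSplit.f_g

section Assemble

variable {RB RH RZ RX : ℤ → CochainComplex A ℕ}
  (D1 : ∀ p, DSplit (RB p) (RZ p) (RH p))
  (D2 : ∀ p, DSplit (RZ p) (RX p) (RB (p + 1)))

/-- horizontal differential -/
noncomputable def hd (n : ℕ) (p : ℤ) : (RX p).X n ⟶ (RX (p + 1)).X n :=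
  (D2 p).g.f n ≫ (D1 (p + 1)).f.f n ≫ (D2 (p + 1)).f.f n

lemma hd_hd (n : ℕ) (p : ℤ) : hd D1 D2 n p ≫ hd D1 D2 n (p + 1) = 0 := by
  simp [hd]

/-- the rows of the double complex -/
noncomputable def col (n : ℕ) : CochainComplex A ℤ :=
  CochainComplex.of (fun p => (RX p).X n) (hd D1 D2 n) (hd_hd D1 D2 n)

lemma col_d (n : ℕ) (p : ℤ) : (col D1 D2 n).d p (p + 1) = hd D1 D2 n p := by
  exact CochainComplex.of_d (V := A) (α := ℤ) (fun p => (RX p).X n) (hd D1 D2 n) p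

/-- typed wrappers -/
noncomputable def iZ (n : ℕ) (p : ℤ) : (RZ p).X n ⟶ (col D1 D2 n).X p := (D2 p).f.f n
noncomputable def rZ (n : ℕ) (p : ℤ) : (col D1 D2 n).X p ⟶ (RZ p).X n := (D2 p).r n
noncomputable def gB (n : ℕ) (p : ℤ) : (col D1 D2 n).X p ⟶ (RB (p + 1)).X n := (D2 p).g.f n
noncomputable def sB (n : ℕ) (p : ℤ) : (RB (p + 1)).X n ⟶ (col D1 D2 n).X p := (D2 p).s n
noncomputable def dX (n : ℕ) (p : ℤ) : (col D1 D2 n).X p ⟶ (col D1 D2 (n + 1)).X p :=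
  (RX p).d n (n + 1)

@[reassoc (attr := simp)]
lemma iZ_rZ (n : ℕ) (p : ℤ) : iZ D1 D2 n p ≫ rZ D1 D2 n p = 𝟙 _ := (D2 p).f_r n

@[reassoc (attr := simp)]
lemma sB_gB (n : ℕ) (p : ℤ) : sB D1 D2 n p ≫ gB D1 D2 n p = 𝟙 _ := (D2 p).s_g n

@[reassoc (attr := simp)]
lemma iZ_gB (n : ℕ) (p : ℤ) : iZ D1 D2 n p ≫ gB D1 D2 n p = 0 := (D2 p).f_g n

lemma total (n : ℕ) (p : ℤ) : rZ D1 D2 n p ≫ iZ D1 D2 n p + gB D1 D2 n p ≫ sB D1 D2 n p = 𝟙 _ :=
  (D2 p).total n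

lemma col_d' (n : ℕ) (p : ℤ) :
    (col D1 D2 n).d p (p + 1) = gB D1 D2 n p ≫ (D1 (p + 1)).f.f n ≫ iZ D1 D2 n (p + 1) :=
  col_d D1 D2 n p

@[reassoc]
lemma iZ_dX (n : ℕ) (p : ℤ) :
    iZ D1 D2 n p ≫ dX D1 D2 n p = (RZ p).d n (n + 1) ≫ iZ D1 D2 (n + 1) p :=
  (D2 p).f.comm n (n + 1)

@[reassoc]
lemma gB_d (n : ℕ) (p : ℤ) :
    gB D1 D2 n p ≫ (RB (p + 1)).d n (n + 1) = dX D1 D2 n p ≫ gB D1 D2 (n + 1) p :=
  (D2 p).g.comm n (n + 1)

lemma dX_col_d (n : ℕ) (p : ℤ) :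
    dX D1 D2 n p ≫ (col D1 D2 (n + 1)).d p (p + 1) =
      (col D1 D2 n).d p (p + 1) ≫ dX D1 D2 n (p + 1) := by
  rw [col_d', col_d', Category.assoc, Category.assoc, iZ_dX, ← gB_d_assoc,
    ← (D1 (p + 1)).f.comm_assoc n (n + 1)]

/-- the vertical maps -/
noncomputable def vert (n : ℕ) : col D1 D2 n ⟶ col D1 D2 (n + 1) :=
  CochainComplex.ofHom (dX D1 D2 n) (dX_col_d D1 D2 n)

@[simp]
lemma vert_f (n : ℕ) (p : ℤ) : (vert D1 D2 n).f p = dX D1 D2 n p := rfl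

lemma dX_dX (n : ℕ) (p : ℤ) : dX D1 D2 n p ≫ dX D1 D2 (n + 1) p = 0 :=
  (RX p).d_comp_d _ _ _

lemma vert_vert (n : ℕ) : vert D1 D2 n ≫ vert D1 D2 (n + 1) = 0 := by
  ext p
  simp [dX_dX]

/-- the double complex, as an ℕ-indexed complex (vertical direction) of ℤ-indexed complexes
(horizontal direction) -/
noncomputable def dbl : CochainComplex (CochainComplex A ℤ) ℕ :=
  CochainComplex.of (col D1 D2) (vert D1 D2) (vert_vert D1 D2)

lemma dbl_d (n : ℕ) : (dbl D1 D2).d n (n + 1) = vert D1 D2 n := by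
  exact CochainComplex.of_d (V := CochainComplex A ℤ) (α := ℕ) (col D1 D2) (vert D1 D2) n

/-! ### the columns -/

/-- the `p`-th column is `RX p` -/
noncomputable def evalIso (p : ℤ) :
    ((HomologicalComplex.eval A (ComplexShape.up ℤ) p).mapHomologicalComplex
      (ComplexShape.up ℕ)).obj (dbl D1 D2) ≅ RX p :=
  HomologicalComplex.Hom.isoOfComponents (fun n => Iso.refl _) (by
    rintro i j (rfl : i + 1 = j)
    simp only [Functor.mapHomologicalComplex_obj_d, Iso.refl_hom, dbl_d]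
    exact (Category.id_comp _).trans (Category.comp_id _).symm)

lemma evalIso_hom_f (p : ℤ) (n : ℕ) : (evalIso D1 D2 p).hom.f n = 𝟙 _ := rfl

/-! ### the cycles -/

lemma iZ_col_d (n : ℕ) (p : ℤ) : iZ D1 D2 n p ≫ (col D1 D2 n).d p (p + 1) = 0 := by
  rw [col_d', iZ_gB_assoc, zero_comp]

/-- the comparison map to the horizontal cycles -/
noncomputable def ψ (n : ℕ) (p : ℤ) : (RZ p).X n ⟶ (col D1 D2 n).cycles p :=
  (col D1 D2 n).liftCycles (iZ D1 D2 n p) (p + 1) (by simp) (iZ_col_d D1 D2 n p)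

@[reassoc (attr := simp)]
lemma ψ_iCycles (n : ℕ) (p : ℤ) : ψ D1 D2 n p ≫ (col D1 D2 n).iCycles p = iZ D1 D2 n p :=
  HomologicalComplex.liftCycles_i _ _ _ _ _

@[reassoc (attr := simp)]
lemma iCycles_gB (n : ℕ) (p : ℤ) : (col D1 D2 n).iCycles p ≫ gB D1 D2 n p = 0 := by
  have h2 : gB D1 D2 n p = (gB D1 D2 n p ≫ (D1 (p + 1)).f.f n ≫ iZ D1 D2 n (p + 1)) ≫
      rZ D1 D2 n (p + 1) ≫ (D1 (p + 1)).r n := by simp
  rw [h2, ← Category.assoc, ← col_d', HomologicalComplex.iCycles_d, zero_comp]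

@[reassoc (attr := simp)]
lemma iCycles_rZ_iZ (n : ℕ) (p : ℤ) :
    (col D1 D2 n).iCycles p ≫ rZ D1 D2 n p ≫ iZ D1 D2 n p = (col D1 D2 n).iCycles p := by
  have := total D1 D2 n p
  rw [eq_sub_of_add_eq this, Preadditive.comp_sub, Category.comp_id, iCycles_gB_assoc, zero_comp,
    sub_zero]

/-- the horizontal cycles at `p` in vertical degree `n` -/
noncomputable def ψIso (n : ℕ) (p : ℤ) : (RZ p).X n ≅ (col D1 D2 n).cycles p where
  hom := ψ D1 D2 n p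
  inv := (col D1 D2 n).iCycles p ≫ rZ D1 D2 n p
  hom_inv_id := by simp
  inv_hom_id := by
    rw [← cancel_mono ((col D1 D2 n).iCycles p)]
    simp

@[reassoc]
lemma ψ_cyclesMap (n : ℕ) (p : ℤ) :
    ψ D1 D2 n p ≫ HomologicalComplex.cyclesMap (vert D1 D2 n) p =
      (RZ p).d n (n + 1) ≫ ψ D1 D2 (n + 1) p := by
  rw [← cancel_mono ((col D1 D2 (n + 1)).iCycles p)]
  simp [iZ_dX]

/-- the complex of horizontal cycles at `p` is `RZ p` -/
noncomputable def cycIso (p : ℤ) :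
    RZ p ≅ ((HomologicalComplex.cyclesFunctor A (ComplexShape.up ℤ) p).mapHomologicalComplex
      (ComplexShape.up ℕ)).obj (dbl D1 D2) :=
  HomologicalComplex.Hom.isoOfComponents (fun n => ψIso D1 D2 n p) (by
    rintro i j (rfl : i + 1 = j)
    simp only [Functor.mapHomologicalComplex_obj_d, dbl_d]
    exact ψ_cyclesMap D1 D2 i p)

lemma cycIso_hom_f (p : ℤ) (n : ℕ) : (cycIso D1 D2 p).hom.f n = ψ D1 D2 n p := rfl

/-! ### the homology -/

/-- the projection from horizontal cycles to `RH` -/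
noncomputable def cycToH (n : ℕ) (p : ℤ) : (col D1 D2 n).cycles p ⟶ (RH p).X n :=
  (col D1 D2 n).iCycles p ≫ rZ D1 D2 n p ≫ (D1 p).g.f n

@[reassoc (attr := simp)]
lemma ψ_cycToH (n : ℕ) (p : ℤ) : ψ D1 D2 n p ≫ cycToH D1 D2 n p = (D1 p).g.f n := by
  simp [cycToH]

lemma toCycles_cycToH (n : ℕ) (p : ℤ) :
    (col D1 D2 n).toCycles p (p + 1) ≫ cycToH D1 D2 n (p + 1) = 0 := by
  simp [cycToH, col_d']

/-- the comparison map from horizontal homology -/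
noncomputable def θ (n : ℕ) (p : ℤ) : (col D1 D2 n).homology (p + 1) ⟶ (RH (p + 1)).X n :=
  ((col D1 D2 n).homologyIsCokernel p (p + 1) (by simp)).desc
    (CokernelCofork.ofπ (cycToH D1 D2 n (p + 1)) (toCycles_cycToH D1 D2 n p))

@[reassoc (attr := simp)]
lemma homologyπ_θ (n : ℕ) (p : ℤ) :
    (col D1 D2 n).homologyπ (p + 1) ≫ θ D1 D2 n p = cycToH D1 D2 n (p + 1) :=
  ((col D1 D2 n).homologyIsCokernel p (p + 1) (by simp)).fac
    (CokernelCofork.ofπ (cycToH D1 D2 n (p + 1)) (toCycles_cycToH D1 D2 n p))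
    WalkingParallelPair.one

lemma f1_ψ (n : ℕ) (p : ℤ) : (D1 (p + 1)).f.f n ≫ ψ D1 D2 n (p + 1) =
    sB D1 D2 n p ≫ (col D1 D2 n).toCycles p (p + 1) := by
  rw [← cancel_mono ((col D1 D2 n).iCycles (p + 1))]
  simp [col_d']

@[reassoc (attr := simp)]
lemma f1_ψ_homologyπ (n : ℕ) (p : ℤ) :
    (D1 (p + 1)).f.f n ≫ ψ D1 D2 n (p + 1) ≫ (col D1 D2 n).homologyπ (p + 1) = 0 := by
  rw [← Category.assoc, f1_ψ, Category.assoc, HomologicalComplex.toCycles_comp_homologyπ,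
    comp_zero]

instance (n : ℕ) (p : ℤ) : Epi (ψ D1 D2 n p) := (ψIso D1 D2 n p).isIso_hom.epi_of_iso

/-- the horizontal homology at `p + 1` in vertical degree `n` -/
noncomputable def θIso (n : ℕ) (p : ℤ) :
    (col D1 D2 n).homology (p + 1) ≅ (RH (p + 1)).X n where
  hom := θ D1 D2 n p
  inv := (D1 (p + 1)).s n ≫ ψ D1 D2 n (p + 1) ≫ (col D1 D2 n).homologyπ (p + 1)
  hom_inv_id := by
    rw [← cancel_epi ((col D1 D2 n).homologyπ (p + 1)), ← cancel_epi (ψ D1 D2 n (p + 1))]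
    have := (D1 (p + 1)).total n
    simp only [homologyπ_θ_assoc, ψ_cycToH_assoc, Category.comp_id]
    rw [← Category.assoc ((D1 (p + 1)).g.f n), eq_sub_of_add_eq' this, Preadditive.sub_comp,
      Category.id_comp, Category.assoc, f1_ψ_homologyπ, comp_zero, sub_zero]
  inv_hom_id := by simp

lemma homologyMap_θ (n : ℕ) (p : ℤ) :
    HomologicalComplex.homologyMap (vert D1 D2 n) (p + 1) ≫ θ D1 D2 (n + 1) p =
      θ D1 D2 n p ≫ (RH (p + 1)).d n (n + 1) := by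
  rw [← cancel_epi ((col D1 D2 n).homologyπ (p + 1)), ← cancel_epi (ψ D1 D2 n (p + 1))]
  simp only [HomologicalComplex.homologyπ_naturality_assoc, homologyπ_θ, homologyπ_θ_assoc,
    ψ_cyclesMap_assoc, ψ_cycToH, ψ_cycToH_assoc]
  exact ((D1 (p + 1)).g.comm n (n + 1)).symm

/-- the complex of horizontal homology at `p + 1` is `RH (p + 1)` -/
noncomputable def homIso (p : ℤ) :
    ((HomologicalComplex.homologyFunctor A (ComplexShape.up ℤ) (p + 1)).mapHomologicalComplex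
      (ComplexShape.up ℕ)).obj (dbl D1 D2) ≅ RH (p + 1) :=
  HomologicalComplex.Hom.isoOfComponents (fun n => θIso D1 D2 n p) (by
    rintro i j (rfl : i + 1 = j)
    simp only [Functor.mapHomologicalComplex_obj_d, dbl_d]
    exact (homologyMap_θ D1 D2 i p).symm)

lemma homIso_hom_f (p : ℤ) (n : ℕ) : (homIso D1 D2 p).hom.f n = θ D1 D2 n p := rfl

/-! ### augmentations -/

variable (K : CochainComplex A ℤ) {B : ℤ → A} (ιB : ∀ p, B p ⟶ K.cycles p)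
  (τ : ∀ p, K.X p ⟶ B (p + 1)) (hτ : ∀ p, τ p ≫ ιB (p + 1) = K.toCycles p (p + 1))
  (aB : ∀ p, B p ⟶ (RB p).X 0) (aH : ∀ p, K.homology p ⟶ (RH p).X 0)
  (aZ : ∀ p, K.cycles p ⟶ (RZ p).X 0) (aX : ∀ p, K.X p ⟶ (RX p).X 0)
  (c1 : ∀ p, aB p ≫ (D1 p).f.f 0 = ιB p ≫ aZ p)
  (c2 : ∀ p, aZ p ≫ (D1 p).g.f 0 = K.homologyπ p ≫ aH p)
  (c3 : ∀ p, aZ p ≫ (D2 p).f.f 0 = K.iCycles p ≫ aX p)
  (c4 : ∀ p, aX p ≫ (D2 p).g.f 0 = τ p ≫ aB (p + 1))
  (aX_d : ∀ p, aX p ≫ (RX p).d 0 1 = 0)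

/-- typed wrapper for `aX` -/
def aX' (p : ℤ) : K.X p ⟶ (col D1 D2 0).X p := aX p

include hτ c1 c3 c4 in
lemma aX'_comm (p : ℤ) :
    aX' D1 D2 K aX p ≫ (col D1 D2 0).d p (p + 1) = K.d p (p + 1) ≫ aX' D1 D2 K aX (p + 1) := by
  have e1 : aX' D1 D2 K aX p ≫ gB D1 D2 0 p = τ p ≫ aB (p + 1) := c4 p
  have e2 : aZ (p + 1) ≫ iZ D1 D2 0 (p + 1) = K.iCycles (p + 1) ≫ aX' D1 D2 K aX (p + 1) :=
    c3 (p + 1)
  rw [col_d', reassoc_of% e1, reassoc_of% (c1 (p + 1)), e2, reassoc_of% (hτ p),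
    HomologicalComplex.toCycles_i_assoc]

/-- the augmentation -/
noncomputable def ε₀ : K ⟶ col D1 D2 0 :=
  CochainComplex.ofHom (aX' D1 D2 K aX) (aX'_comm D1 D2 K ιB τ hτ aB aZ aX c1 c3 c4)

/-- the augmentation, with codomain the degree `0` part of the double complex -/
noncomputable def ε' : K ⟶ (dbl D1 D2).X 0 := ε₀ D1 D2 K ιB τ hτ aB aZ aX c1 c3 c4

lemma ε₀_f (p : ℤ) : (ε₀ D1 D2 K ιB τ hτ aB aZ aX c1 c3 c4).f p = aX' D1 D2 K aX p := rfl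

include aX_d in
lemma ε'_d : ε' D1 D2 K ιB τ hτ aB aZ aX c1 c3 c4 ≫ (dbl D1 D2).d 0 1 = 0 := by
  rw [dbl_d]
  ext p
  exact aX_d p

lemma cyclesMap_ε₀ (p : ℤ) :
    HomologicalComplex.cyclesMap (ε₀ D1 D2 K ιB τ hτ aB aZ aX c1 c3 c4) p =
      aZ p ≫ ψ D1 D2 0 p := by
  rw [← cancel_mono ((col D1 D2 0).iCycles p), Category.assoc, ψ_iCycles]
  exact (HomologicalComplex.cyclesMap_i _ _).trans (c3 p).symm

include c2 in
lemma homologyMap_ε₀ (p : ℤ) :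
    HomologicalComplex.homologyMap (ε₀ D1 D2 K ιB τ hτ aB aZ aX c1 c3 c4) (p + 1) ≫
      θ D1 D2 0 p = aH (p + 1) := by
  rw [← cancel_epi (K.homologyπ (p + 1)), HomologicalComplex.homologyπ_naturality_assoc,
    homologyπ_θ, cyclesMap_ε₀, Category.assoc, ψ_cycToH]
  exact c2 (p + 1)

section

variable (hB : ∀ p, IsRes (RB p) (B p) (aB p)) (hH : ∀ p, IsRes (RH p) (K.homology p) (aH p))
  (hZ : ∀ p, IsRes (RZ p) (K.cycles p) (aZ p)) (hX : ∀ p, IsRes (RX p) (K.X p) (aX p))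

include hX in
lemma isRes_eval (p : ℤ) :
    IsRes (((HomologicalComplex.eval A (ComplexShape.up ℤ) p).mapHomologicalComplex
      (ComplexShape.up ℕ)).obj (dbl D1 D2)) ((HomologicalComplex.eval A (ComplexShape.up ℤ) p).obj K)
      ((HomologicalComplex.eval A (ComplexShape.up ℤ) p).map
        (ε' D1 D2 K ιB τ hτ aB aZ aX c1 c3 c4)) :=
  isRes_of_iso (hX p) (evalIso D1 D2 p).symm _ (Category.comp_id _).symm

include hZ in
lemma isRes_cycles (p : ℤ) :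
    IsRes (((HomologicalComplex.cyclesFunctor A (ComplexShape.up ℤ) p).mapHomologicalComplex
      (ComplexShape.up ℕ)).obj (dbl D1 D2))
      ((HomologicalComplex.cyclesFunctor A (ComplexShape.up ℤ) p).obj K)
      ((HomologicalComplex.cyclesFunctor A (ComplexShape.up ℤ) p).map
        (ε' D1 D2 K ιB τ hτ aB aZ aX c1 c3 c4)) :=
  isRes_of_iso (hZ p) (cycIso D1 D2 p) _ (cyclesMap_ε₀ D1 D2 K ιB τ hτ aB aZ aX c1 c3 c4 p)

include hH c2 in
lemma isRes_homology (p : ℤ) :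
    IsRes (((HomologicalComplex.homologyFunctor A (ComplexShape.up ℤ) (p + 1)).mapHomologicalComplex
      (ComplexShape.up ℕ)).obj (dbl D1 D2))
      ((HomologicalComplex.homologyFunctor A (ComplexShape.up ℤ) (p + 1)).obj K)
      ((HomologicalComplex.homologyFunctor A (ComplexShape.up ℤ) (p + 1)).map
        (ε' D1 D2 K ιB τ hτ aB aZ aX c1 c3 c4)) := by
  refine isRes_of_iso (hH (p + 1)) (homIso D1 D2 p).symm _ ?_
  have := homologyMap_ε₀ D1 D2 K ιB τ hτ aB aH aZ aX c1 c2 c3 c4 p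
  change HomologicalComplex.homologyMap (ε₀ D1 D2 K ιB τ hτ aB aZ aX c1 c3 c4) (p + 1) =
    aH (p + 1) ≫ (θIso D1 D2 0 p).inv
  rw [← this, Category.assoc]
  have h2 := (θIso D1 D2 0 p).hom_inv_id
  change θ D1 D2 0 p ≫ _ = _ at h2
  rw [h2, Category.comp_id]

end

end Assemble

end Groth.Agent.Lib.Helper8.CE2
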