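import Groth.Agent.Lib.Helper8.CE2
import Mathlib.Algebra.Homology.Embedding.Extend

/-!
# Helper8: Cartan–Eilenberg resolutions, part 3: extension from ℕ to ℤ in the vertical direction
-/

universe v u v' u'

open CategoryTheory CategoryTheory.Limits

namespace Groth.Agent.Lib.Helper8.CE3

open CE1 CE2

section Ext

variable {D : Type u'} [Category.{v'} D] [HasZeroMorphisms D] [HasZeroObject D]
  {B : Type u} [Category.{v} B] [Abelian B]
  (F : D ⥤ B) [F.PreservesZeroMorphisms]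
  (J : CochainComplex D ℕ) {K : D} (ε' : K ⟶ J.X 0)

/-- the extension of `J` to a ℤ-indexed complex -/
noncomputable abbrev ext : CochainComplex D ℤ := J.extend ComplexShape.embeddingUpNat

/-- the comparison isomorphisms -/
noncomputable def extIso (n : ℕ) : (ext J).X (n : ℤ) ≅ J.X n :=
  J.extendXIso ComplexShape.embeddingUpNat rfl

/-- the comparison isomorphism in degree 0 -/
noncomputable def extIso₀ : (ext J).X 0 ≅ J.X 0 := extIso J 0

lemma ext_d (n : ℕ) : (ext J).d (n : ℤ) ((n + 1 : ℕ) : ℤ) =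
    (extIso J n).hom ≫ J.d n (n + 1) ≫ (extIso J (n + 1)).inv :=
  J.extend_d_eq ComplexShape.embeddingUpNat rfl rfl

lemma ext_d₀ : (ext J).d 0 1 = (extIso₀ J).hom ≫ J.d 0 1 ≫ (extIso J 1).inv := ext_d J 0

lemma isZero_ext (q : ℤ) (hq : q < 0) : IsZero ((ext J).X q) := by
  apply J.isZero_extend_X
  intro i
  simp only [ComplexShape.embeddingUpNat_f]
  omega

lemma extF (h : IsRes ((F.mapHomologicalComplex _).obj J) (F.obj K) (F.map ε')) :
    CE.IsInjResolutionVia ((F.mapHomologicalComplex _).obj (ext J)) (F.obj K)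
      (F.map (ε' ≫ (extIso₀ J).inv)) := by
  refine isInjResolutionVia_of_isRes h _ (fun n => F.mapIso (extIso J n)) ?_ ?_ _ ?_
  · intro n
    have : F.map ((ext J).d (n : ℤ) ((n + 1 : ℕ) : ℤ)) ≫ F.map (extIso J (n + 1)).hom =
        F.map (extIso J n).hom ≫ F.map (J.d n (n + 1)) := by
      rw [← F.map_comp, ← F.map_comp, ext_d]
      simp
    exact this
  · intro q hq
    exact F.map_isZero (isZero_ext J q hq)
  · rw [F.map_comp]
    rfl

end Ext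

section Final

variable {A : Type u} [Category.{v} A] [Abelian A]
  {RB RH RZ RX : ℤ → CochainComplex A ℕ}
  (D1 : ∀ p, DSplit (RB p) (RZ p) (RH p))
  (D2 : ∀ p, DSplit (RZ p) (RX p) (RB (p + 1)))
  (K : CochainComplex A ℤ) {B : ℤ → A} (ιB : ∀ p, B p ⟶ K.cycles p)
  (τ : ∀ p, K.X p ⟶ B (p + 1)) (hτ : ∀ p, τ p ≫ ιB (p + 1) = K.toCycles p (p + 1))
  (aB : ∀ p, B p ⟶ (RB p).X 0) (aH : ∀ p, K.homology p ⟶ (RH p).X 0)
  (aZ : ∀ p, K.cycles p ⟶ (RZ p).X 0) (aX : ∀ p, K.X p ⟶ (RX p).X 0)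
  (c1 : ∀ p, aB p ≫ (D1 p).f.f 0 = ιB p ≫ aZ p)
  (c2 : ∀ p, aZ p ≫ (D1 p).g.f 0 = K.homologyπ p ≫ aH p)
  (c3 : ∀ p, aZ p ≫ (D2 p).f.f 0 = K.iCycles p ≫ aX p)
  (c4 : ∀ p, aX p ≫ (D2 p).g.f 0 = τ p ≫ aB (p + 1))
  (hH : ∀ p, IsRes (RH p) (K.homology p) (aH p))
  (hZ : ∀ p, IsRes (RZ p) (K.cycles p) (aZ p)) (hX : ∀ p, IsRes (RX p) (K.X p) (aX p))
  (i : ℤ) (hzero : ∀ p, p < i → ∀ n, IsZero ((RX p).X n))

include hτ c1 c2 c3 c4 hH hZ hX hzero in
theorem ce_of_data :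
    ∃ (I : CochainComplex (CochainComplex A ℤ) ℤ) (ε : K ⟶ I.X 0) (_ : ε ≫ I.d 0 1 = 0),
      (∃ i : ℤ, ∀ p q : ℤ, p < i → IsZero ((I.X q).X p)) ∧
      (∀ p : ℤ, CE.IsInjResolutionVia (((HomologicalComplex.eval A (ComplexShape.up ℤ) p).mapHomologicalComplex (ComplexShape.up ℤ)).obj I) (K.X p) (ε.f p)) ∧
      (∀ p : ℤ, CE.IsInjResolutionVia (((HomologicalComplex.cyclesFunctor A (ComplexShape.up ℤ) p).mapHomologicalComplex (ComplexShape.up ℤ)).obj I) (K.cycles p) (HomologicalComplex.cyclesMap ε p)) ∧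
      (∀ p : ℤ, CE.IsInjResolutionVia (((HomologicalComplex.homologyFunctor A (ComplexShape.up ℤ) p).mapHomologicalComplex (ComplexShape.up ℤ)).obj I) (K.homology p) (HomologicalComplex.homologyMap ε p)) := by
  refine ⟨ext (dbl D1 D2), ε' D1 D2 K ιB τ hτ aB aZ aX c1 c3 c4 ≫ (extIso₀ (dbl D1 D2)).inv, ?_,
    ⟨i, ?_⟩, ?_, ?_, ?_⟩
  · rw [Category.assoc, ext_d₀, Iso.inv_hom_id_assoc,
      reassoc_of% (ε'_d D1 D2 K ιB τ hτ aB aZ aX c1 c3 c4 (fun p => (hX p).w)), zero_comp]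
  · intro p q hp
    by_cases hq : q < 0
    · exact (HomologicalComplex.eval A (ComplexShape.up ℤ) p).map_isZero
        (isZero_ext (dbl D1 D2) q hq)
    · obtain ⟨n, rfl⟩ := Int.eq_ofNat_of_zero_le (not_lt.1 hq)
      exact IsZero.of_iso (hzero p hp n)
        ((HomologicalComplex.eval A (ComplexShape.up ℤ) p).mapIso (extIso (dbl D1 D2) n))
  · intro p
    exact extF (HomologicalComplex.eval A (ComplexShape.up ℤ) p) (dbl D1 D2) _
      (isRes_eval D1 D2 K ιB τ hτ aB aZ aX c1 c3 c4 hX p)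
  · intro p
    exact extF (HomologicalComplex.cyclesFunctor A (ComplexShape.up ℤ) p) (dbl D1 D2) _
      (isRes_cycles D1 D2 K ιB τ hτ aB aZ aX c1 c3 c4 hZ p)
  · intro p
    obtain ⟨p₀, rfl⟩ : ∃ p₀, p = p₀ + 1 := ⟨p - 1, by omega⟩
    exact extF (HomologicalComplex.homologyFunctor A (ComplexShape.up ℤ) (p₀ + 1)) (dbl D1 D2) _
      (isRes_homology D1 D2 K ιB τ hτ aB aH aZ aX c1 c2 c3 c4 hH p₀)

end Final

end Groth.Agent.Lib.Helper8.CE3
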