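import Groth.Agent.Lib.Helper8.CE3

/-!
# Helper8: Cartan–Eilenberg resolutions, part 4: constructing the data
-/

universe v u

open CategoryTheory CategoryTheory.Limits

namespace Groth.Agent.Lib.Helper8.CE4

open CE1 CE2 CE3 RDer2 RDer4

variable {A : Type u} [Category.{v} A] [Abelian A]

section DS

variable {S : ShortComplex A} {I₁ : InjectiveResolution S.X₁} {I₃ : InjectiveResolution S.X₃}
  (W : Twist I₁ I₃)

/-- the degreewise split sequence of the horseshoe lemma -/
noncomputable def dsplit : DSplit I₁.cocomplex (mid W) I₃.cocomplex where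
  f := midF W
  g := midG W
  r := fstM W
  s := inrM W
  f_r := inlM_fstM W
  s_g := inrM_sndM W
  f_g := inlM_sndM W
  total := totalM W

lemma isZero_mid (n : ℕ) (h₁ : IsZero (I₁.cocomplex.X n)) (h₃ : IsZero (I₃.cocomplex.X n)) :
    IsZero ((mid W).X n) :=
  (IsZero.iff_id_eq_zero _).2 (hom_extM W (h₁.eq_of_tgt _ _) (h₃.eq_of_tgt _ _))

end DS

section Choose

variable [EnoughInjectives A]

open Classical in
/-- a chosen injective resolution, which is zero for zero objects -/
noncomputable def chooseRes (M : A) : InjectiveResolution M :=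
  if h : IsZero M then (haveI := h.injective; InjectiveResolution.self M)
  else InjectiveResolution.of M

lemma isZero_chooseRes (M : A) (h : IsZero M) (n : ℕ) :
    IsZero ((chooseRes M).cocomplex.X n) := by
  rw [chooseRes, dif_pos h]
  by_cases hn : n = 0
  · subst hn
    exact IsZero.of_iso h (HomologicalComplex.singleObjXSelf _ _ _)
  · exact HomologicalComplex.isZero_single_obj_X _ _ _ _ hn

end Choose

section Data

variable (K : CochainComplex A ℤ)

/-- the boundaries -/
noncomputable def B (p : ℤ) : A := kernel (K.homologyπ p)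

/-- the inclusion of boundaries in cycles -/
noncomputable def ιB (p : ℤ) : B K p ⟶ K.cycles p := kernel.ι _

instance (p : ℤ) : Mono (ιB K p) := inferInstanceAs (Mono (kernel.ι (K.homologyπ p)))

@[reassoc (attr := simp)]
lemma ιB_homologyπ (p : ℤ) : ιB K p ≫ K.homologyπ p = 0 := kernel.condition _

/-- the projection onto the boundaries -/
noncomputable def τ (p : ℤ) : K.X p ⟶ B K (p + 1) :=
  kernel.lift _ (K.toCycles p (p + 1)) (K.toCycles_comp_homologyπ p (p + 1))

@[reassoc (attr := simp)]
lemma τ_ιB (p : ℤ) : τ K p ≫ ιB K (p + 1) = K.toCycles p (p + 1) := kernel.lift_ι _ _ _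

instance (p : ℤ) : Epi (τ K p) := by
  have h : (ShortComplex.mk (K.toCycles p (p + 1)) (K.homologyπ (p + 1))
      (K.toCycles_comp_homologyπ p (p + 1))).Exact :=
    ShortComplex.exact_of_g_is_cokernel _ (K.homologyIsCokernel p (p + 1) (by simp))
  rw [ShortComplex.exact_iff_epi_kernel_lift] at h
  exact h

@[reassoc (attr := simp)]
lemma iCycles_τ (p : ℤ) : K.iCycles p ≫ τ K p = 0 := by
  rw [← cancel_mono (ιB K (p + 1)), Category.assoc, τ_ιB, zero_comp,
    ← cancel_mono (K.iCycles (p + 1)), Category.assoc, HomologicalComplex.toCycles_i,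
    HomologicalComplex.iCycles_d, zero_comp]

/-- the sequence `0 → B → Z → H → 0` -/
noncomputable abbrev S1 (p : ℤ) : ShortComplex A :=
  ShortComplex.mk (ιB K p) (K.homologyπ p) (ιB_homologyπ K p)

/-- the sequence `0 → Z → X → B → 0` -/
noncomputable abbrev S2 (p : ℤ) : ShortComplex A :=
  ShortComplex.mk (K.iCycles p) (τ K p) (iCycles_τ K p)

lemma S1_shortExact (p : ℤ) : (S1 K p).ShortExact :=
  ShortComplex.ShortExact.mk' (ShortComplex.exact_of_f_is_kernel _ (kernelIsKernel _))
    (inferInstanceAs (Mono (ιB K p))) (inferInstanceAs (Epi (K.homologyπ p)))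

lemma S2_shortExact (p : ℤ) : (S2 K p).ShortExact := by
  refine ShortComplex.ShortExact.mk' ?_ (inferInstanceAs (Mono (K.iCycles p)))
    (inferInstanceAs (Epi (τ K p)))
  let S' : ShortComplex A := ShortComplex.mk (K.iCycles p) (K.d p (p + 1)) (K.iCycles_d p (p + 1))
  have hS' : S'.Exact :=
    ShortComplex.exact_of_f_is_kernel _ (K.cyclesIsKernel p (p + 1) (by simp))
  let φ : S2 K p ⟶ S' :=
    { τ₁ := 𝟙 _
      τ₂ := 𝟙 _
      τ₃ := ιB K (p + 1) ≫ K.iCycles (p + 1)
      comm₁₂ := by simp [S']
      comm₂₃ := by simp [S'] }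
  have : Epi φ.τ₁ := by dsimp [φ]; infer_instance
  have : IsIso φ.τ₂ := by dsimp [φ]; infer_instance
  have : Mono φ.τ₃ := by dsimp [φ]; infer_instance
  exact (ShortComplex.exact_iff_of_epi_of_isIso_of_mono φ).2 hS'

lemma isZero_B (p : ℤ) (h : IsZero (K.X p)) : IsZero (B K p) :=
  IsZero.of_mono (ιB K p ≫ K.iCycles p) h

lemma isZero_H (p : ℤ) (h : IsZero (K.X p)) : IsZero (K.homology p) :=
  IsZero.of_epi (K.homologyπ p) (IsZero.of_mono (K.iCycles p) h)

end Data

section Main

variable [EnoughInjectives A] (K : CochainComplex A ℤ)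

/-- chosen resolution of the boundaries -/
noncomputable def RBr (p : ℤ) : InjectiveResolution (S1 K p).X₁ := chooseRes (B K p)

/-- chosen resolution of the homology -/
noncomputable def RHr (p : ℤ) : InjectiveResolution (S1 K p).X₃ := chooseRes (K.homology p)

/-- chosen twist for `0 → B → Z → H → 0` -/
noncomputable def W1 (p : ℤ) : Twist (RBr K p) (RHr K p) :=
  (nonempty_twist (S1_shortExact K p) (RBr K p) (RHr K p)).some

/-- the resolution of the cycles -/
noncomputable def RZr (p : ℤ) : InjectiveResolution (S2 K p).X₁ :=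
  midRes (S1_shortExact K p) (W1 K p)

/-- resolution of the boundaries, retyped -/
noncomputable def RBr' (p : ℤ) : InjectiveResolution (S2 K p).X₃ := RBr K (p + 1)

/-- chosen twist for `0 → Z → X → B → 0` -/
noncomputable def W2 (p : ℤ) : Twist (RZr K p) (RBr' K p) :=
  (nonempty_twist (S2_shortExact K p) (RZr K p) (RBr' K p)).some

/-- the resolution of the terms -/
noncomputable def RXr (p : ℤ) : InjectiveResolution (K.X p) :=
  midRes (S2_shortExact K p) (W2 K p)

/-- the first family of split sequences -/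
noncomputable def DD1 (p : ℤ) :
    DSplit (RBr K p).cocomplex (RZr K p).cocomplex (RHr K p).cocomplex :=
  dsplit (W1 K p)

/-- the second family of split sequences -/
noncomputable def DD2 (p : ℤ) :
    DSplit (RZr K p).cocomplex (RXr K p).cocomplex (RBr K (p + 1)).cocomplex :=
  dsplit (W2 K p)

theorem exists_ce (n : ℤ) [K.IsStrictlyGE n] :
    ∃ (I : CochainComplex (CochainComplex A ℤ) ℤ) (ε : K ⟶ I.X 0) (_ : ε ≫ I.d 0 1 = 0),
      (∃ i : ℤ, ∀ p q : ℤ, p < i → IsZero ((I.X q).X p)) ∧
      (∀ p : ℤ, CE.IsInjResolutionVia (((HomologicalComplex.eval A (ComplexShape.up ℤ) p).mapHomologicalComplex (ComplexShape.up ℤ)).obj I) (K.X p) (ε.f p)) ∧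
      (∀ p : ℤ, CE.IsInjResolutionVia (((HomologicalComplex.cyclesFunctor A (ComplexShape.up ℤ) p).mapHomologicalComplex (ComplexShape.up ℤ)).obj I) (K.cycles p) (HomologicalComplex.cyclesMap ε p)) ∧
      (∀ p : ℤ, CE.IsInjResolutionVia (((HomologicalComplex.homologyFunctor A (ComplexShape.up ℤ) p).mapHomologicalComplex (ComplexShape.up ℤ)).obj I) (K.homology p) (HomologicalComplex.homologyMap ε p)) := by
  refine ce_of_data (DD1 K) (DD2 K) K (ιB K) (τ K) (τ_ιB K)
    (fun p => aug (RBr K p)) (fun p => aug (RHr K p)) (fun p => aug (RZr K p))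
    (fun p => aug (RXr K p)) ?_ ?_ ?_ ?_
    (fun p => isRes_of_injectiveResolution (RHr K p))
    (fun p => isRes_of_injectiveResolution (RZr K p))
    (fun p => isRes_of_injectiveResolution (RXr K p)) (n - 1) ?_
  · intro p
    have := aug_inlM (W1 K p)
    rw [← aug_midRes (S1_shortExact K p)] at this
    exact this
  · intro p
    have := midε_sndM (W1 K p)
    rw [← aug_midRes (S1_shortExact K p)] at this
    exact this
  · intro p
    have := aug_inlM (W2 K p)
    rw [← aug_midRes (S2_shortExact K p)] at this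
    exact this
  · intro p
    have := midε_sndM (W2 K p)
    rw [← aug_midRes (S2_shortExact K p)] at this
    exact this
  · intro p hp m
    have h0 : IsZero (K.X p) := K.isZero_of_isStrictlyGE n p (by omega)
    have h1 : IsZero (K.X (p + 1)) := K.isZero_of_isStrictlyGE n (p + 1) (by omega)
    refine isZero_mid (W2 K p) m (isZero_mid (W1 K p) m ?_ ?_) ?_
    · exact isZero_chooseRes _ (isZero_B K p h0) m
    · exact isZero_chooseRes _ (isZero_H K p h0) m
    · exact isZero_chooseRes _ (isZero_B K (p + 1) h1) m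

end Main

end Groth.Agent.Lib.Helper8.CE4
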