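import Groth.Agent.S2469
import Groth.Agent.Lib.Helper5.CartierRel
import Groth.Agent.Lib.Helper5.AdicRegE
import Groth.Agent.Lib.Helper5.SepSmooth
import Groth.Agent.Lib.Helper5.CohenEqui

/-! # Helper8 — Cartier's equality in `H¹(L)`-form

For a finitely generated field extension `E/e`: `H₁(L_{E/e})` and `Ω_{E/e}` are finite-dimensional
and `dim Ω_{E/e} − dim H₁(L_{E/e}) = trdeg_e E`.  Derived from helper5's S2469 (imperfection-module
form over `ℤ`) by comparing with the prime field. -/

set_option autoImplicit false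
universe u

namespace Groth.Agent.Lib.Helper8.CartierH1

open TensorProduct Module EGA41

/-- the connecting map `H₁(L_{E/e}) → E ⊗ Ω_{e/F}` is injective for `F` the prime field. -/
theorem δ_injective_primeField (e E : Type u) [Field e] [Field E] [Algebra e E]
    [Algebra (Groth.Agent.Lib.Helper5.AdicReg.PF e) E]
    [IsScalarTower (Groth.Agent.Lib.Helper5.AdicReg.PF e) e E] :
    Function.Injective (Algebra.H1Cotangent.δ (Groth.Agent.Lib.Helper5.AdicReg.PF e) e E) := by
  have hgL : Algebra.IsGeometricallyReduced (Groth.Agent.Lib.Helper5.AdicReg.PF e) E :=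
    Groth.Agent.Lib.Helper5.CohenEqui.geomReduced_of_perfect _ _
  have hsL : Algebra.FormallySmooth (Groth.Agent.Lib.Helper5.AdicReg.PF e) E :=
    Groth.Agent.Lib.Helper5.SepSmooth.formallySmooth_of_geomReduced
  have hsub : Subsingleton (Algebra.H1Cotangent (Groth.Agent.Lib.Helper5.AdicReg.PF e) E) :=
    Algebra.FormallySmooth.subsingleton_h1Cotangent
  rw [injective_iff_map_eq_zero]
  intro x hx
  obtain ⟨y, rfl⟩ := (Algebra.H1Cotangent.exact_map_δ _ e E x).mp hx
  rw [Subsingleton.elim y 0, map_zero]

theorem cartier (e E : Type u) [Field e] [Field E] [Algebra e E] [Algebra.EssFiniteType e E] :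
    Module.Finite E (Algebra.H1Cotangent e E) ∧ Module.Finite E Ω[E⁄e] ∧
      (finrank E Ω[E⁄e] : ℤ) - finrank E (Algebra.H1Cotangent e E) =
        Cardinal.toNat (Algebra.trdeg e E) := by
  obtain ⟨hΩ, hΥ, heq⟩ := Groth.Agent.S2469.result (K := e) (L := E)
  let F := Groth.Agent.Lib.Helper5.AdicReg.PF e
  let _ : Algebra F E := ((algebraMap e E).comp (algebraMap F e)).toAlgebra
  have hst : IsScalarTower F e E := IsScalarTower.of_algebraMap_eq fun _ => rfl
  have hinj := δ_injective_primeField e E
  haveI : Module.Finite E (imperfection F e E) :=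
    Groth.Agent.Lib.Helper5.Cartier.finite_imperfection_rel F e E
  have hle := Groth.Agent.Lib.Helper5.Cartier.finrank_imperfection_rel_le F e E
  -- `H₁ ≅ Υ_F`
  have hrF : LinearMap.range (Algebra.H1Cotangent.δ F e E) = imperfection F e E := by
    have := Algebra.H1Cotangent.exact_δ_mapBaseChange F e E
    rw [LinearMap.exact_iff] at this
    exact this.symm
  let eF : Algebra.H1Cotangent e E ≃ₗ[E] imperfection F e E :=
    (LinearEquiv.ofInjective _ hinj).trans (LinearEquiv.ofEq _ _ hrF)
  haveI hfin : Module.Finite E (Algebra.H1Cotangent e E) := Module.Finite.equiv eF.symm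
  have h1 : finrank E (Algebra.H1Cotangent e E) = finrank E (imperfection F e E) :=
    eF.finrank_eq
  -- `H₁ ↠ Υ_ℤ`
  have hrZ : LinearMap.range (Algebra.H1Cotangent.δ ℤ e E) = imperfection ℤ e E := by
    have := Algebra.H1Cotangent.exact_δ_mapBaseChange ℤ e E
    rw [LinearMap.exact_iff] at this
    exact this.symm
  have h2 : finrank E (imperfection ℤ e E) ≤ finrank E (Algebra.H1Cotangent e E) := by
    rw [← hrZ]
    exact LinearMap.finrank_range_le _
  refine ⟨hfin, hΩ, ?_⟩
  have h3 : finrank E (Algebra.H1Cotangent e E) = finrank E (imperfection ℤ e E) := by omega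
  rw [h3]
  exact heq

end Groth.Agent.Lib.Helper8.CartierH1
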