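import Mathlib

/-! # Helper8 — indices of maps in a six-term exact sequence of vector spaces -/

set_option autoImplicit false

namespace Groth.Agent.Lib.Helper8.SixIndex

open Module Function LinearMap

variable {K A B C D E G : Type*} [Field K]
  [AddCommGroup A] [Module K A] [AddCommGroup B] [Module K B] [AddCommGroup C] [Module K C]
  [AddCommGroup D] [Module K D] [AddCommGroup E] [Module K E] [AddCommGroup G] [Module K G]

/-- cokernel of `f` is the range of `g` when `f, g` is exact -/
noncomputable def cokerEquivRange {X Y Z : Type*} [AddCommGroup X] [Module K X] [AddCommGroup Y]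
    [Module K Y] [AddCommGroup Z] [Module K Z] (f : X →ₗ[K] Y) (g : Y →ₗ[K] Z) (h : Exact f g) :
    (Y ⧸ range f) ≃ₗ[K] range g :=
  (Submodule.quotEquivOfEq _ _ ((LinearMap.exact_iff.mp h).symm)).trans g.quotKerEquivRange

/-- In an exact sequence `0 → A → B → C → D → E → G → 0` with `C`, `G` finite-dimensional, the maps
`a : A → B` and `d : D → E` have finite-dimensional kernel and cokernel and
`index d − index a = dim C − dim G`. -/
theorem index_outer (a : A →ₗ[K] B) (b : B →ₗ[K] C) (c : C →ₗ[K] D) (d : D →ₗ[K] E)
    (e : E →ₗ[K] G) (ha : Injective a) (hab : Exact a b) (hbc : Exact b c) (hcd : Exact c d)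
    (hde : Exact d e) (he : Surjective e) [FiniteDimensional K C] [FiniteDimensional K G] :
    FiniteDimensional K (ker a) ∧ FiniteDimensional K (B ⧸ range a) ∧
      FiniteDimensional K (ker d) ∧ FiniteDimensional K (E ⧸ range d) ∧
      d.index - a.index = (finrank K C : ℤ) - finrank K G := by
  have hka : ker a = ⊥ := ker_eq_bot.2 ha
  have e1 : (B ⧸ range a) ≃ₗ[K] ker c :=
    (cokerEquivRange a b hab).trans (LinearEquiv.ofEq _ _ (LinearMap.exact_iff.mp hbc).symm)
  have hkd : ker d = range c := LinearMap.exact_iff.mp hcd
  have e2 : (E ⧸ range d) ≃ₗ[K] G :=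
    (Submodule.quotEquivOfEq _ _ ((LinearMap.exact_iff.mp hde).symm)).trans
      (e.quotKerEquivOfSurjective he)
  have f1 : FiniteDimensional K (ker a) := by rw [hka]; infer_instance
  have f2 : FiniteDimensional K (B ⧸ range a) := Module.Finite.equiv e1.symm
  have f3 : FiniteDimensional K (ker d) := by rw [hkd]; infer_instance
  have f4 : FiniteDimensional K (E ⧸ range d) := Module.Finite.equiv e2.symm
  refine ⟨f1, f2, f3, f4, ?_⟩
  rw [index_of_injective ha, index_eq_finrank_sub (f := d), e1.finrank_eq, e2.finrank_eq, hkd]
  have := LinearMap.finrank_range_add_finrank_ker c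
  omega

/-- In an exact sequence `0 → A → B → C → D → E → G → 0` with `A`, `D` finite-dimensional, the maps
`b : B → C` and `e : E → G` have finite-dimensional kernel and cokernel and
`index e − index b = dim D − dim A`. -/
theorem index_inner (a : A →ₗ[K] B) (b : B →ₗ[K] C) (c : C →ₗ[K] D) (d : D →ₗ[K] E)
    (e : E →ₗ[K] G) (ha : Injective a) (hab : Exact a b) (hbc : Exact b c) (hcd : Exact c d)
    (hde : Exact d e) (he : Surjective e) [FiniteDimensional K A] [FiniteDimensional K D] :
    FiniteDimensional K (ker b) ∧ FiniteDimensional K (C ⧸ range b) ∧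
      FiniteDimensional K (ker e) ∧ FiniteDimensional K (G ⧸ range e) ∧
      e.index - b.index = (finrank K D : ℤ) - finrank K A := by
  have hkb : ker b = range a := LinearMap.exact_iff.mp hab
  have e0 : A ≃ₗ[K] range a := LinearEquiv.ofInjective a ha
  have e1 : (C ⧸ range b) ≃ₗ[K] range c := cokerEquivRange b c hbc
  have hke : ker e = range d := LinearMap.exact_iff.mp hde
  have e2 : (D ⧸ range c) ≃ₗ[K] range d := cokerEquivRange c d hcd
  have f1 : FiniteDimensional K (ker b) := by rw [hkb]; infer_instance
  have f2 : FiniteDimensional K (C ⧸ range b) := Module.Finite.equiv e1.symm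
  have f3 : FiniteDimensional K (ker e) := by rw [hke]; infer_instance
  have hre : range e = ⊤ := range_eq_top.mpr he
  have f4 : FiniteDimensional K (G ⧸ range e) := by rw [hre]; infer_instance
  refine ⟨f1, f2, f3, f4, ?_⟩
  rw [index_of_surjective he, index_eq_finrank_sub (f := b), e1.finrank_eq, hke, ← e2.finrank_eq,
    hkb, ← e0.finrank_eq]
  have := (range c).finrank_quotient_add_finrank
  omega

end Groth.Agent.Lib.Helper8.SixIndex
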