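import Groth.Agent.S9319
import Groth.Agent.Lib.Helper8.CartierH1
import Groth.Agent.Lib.Helper8.SixIndex

/-! # Helper8 — the generalized Cartier equality for a square of fields -/

set_option autoImplicit false
universe u

namespace Groth.Agent.Lib.Helper8.CartierSq

open TensorProduct Module LinearMap

variable {k k' K K' : Type u} [Field k] [Field k'] [Field K] [Field K'] [Algebra k k'] [Algebra k K]
  [Algebra k K'] [Algebra k' K'] [Algebra K K'] [IsScalarTower k k' K'] [IsScalarTower k K K']

theorem kaehler_map_comp (ω : Ω[K⁄k]) :
    KaehlerDifferential.map k k' K' K' (KaehlerDifferential.map k k K K' ω) =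
      KaehlerDifferential.map k k' K K' ω := by
  have hspan := KaehlerDifferential.span_range_derivation k K
  have hω : ω ∈ Submodule.span K (Set.range (KaehlerDifferential.D k K)) := by
    rw [hspan]; trivial
  induction hω using Submodule.span_induction with
  | mem x hx =>
    obtain ⟨a, rfl⟩ := hx
    rw [KaehlerDifferential.map_D, KaehlerDifferential.map_D, KaehlerDifferential.map_D]
    rfl
  | zero => rw [map_zero, map_zero, map_zero]
  | add x y _ _ hx hy => rw [map_add, map_add, map_add, hx, hy]
  | smul a x _ hx =>
    rw [map_smul (KaehlerDifferential.map k k K K'), map_smul (KaehlerDifferential.map k k' K K'),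
      ← hx, LinearMap.map_smul_of_tower]

theorem alpha_eq :
    (KaehlerDifferential.map k k' K K').liftBaseChange K' =
      (KaehlerDifferential.map k k' K' K') ∘ₗ (KaehlerDifferential.mapBaseChange k K K') := by
  apply LinearMap.ext
  intro z
  induction z using TensorProduct.induction_on with
  | zero => rw [map_zero, map_zero]
  | add a b ha hb => rw [map_add, map_add, ha, hb]
  | tmul m ω =>
    rw [LinearMap.liftBaseChange_tmul, LinearMap.comp_apply,
      KaehlerDifferential.mapBaseChange_tmul, map_smul, kaehler_map_comp]

theorem h1_map_comp (x : Algebra.H1Cotangent k K) :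
    Algebra.H1Cotangent.map k k' K' K' (Algebra.H1Cotangent.map k k K K' x) =
      Algebra.H1Cotangent.map k k' K K' x := by
  change ((Algebra.H1Cotangent.map k k' K' K').restrictScalars K ∘ₗ
    Algebra.H1Cotangent.map k k K K') x = _
  rw [Algebra.H1Cotangent.map, Algebra.H1Cotangent.map, ← Algebra.Extension.H1Cotangent.map_comp,
    Algebra.Extension.H1Cotangent.map_eq]
  rfl

theorem beta_eq :
    (Algebra.H1Cotangent.map k k' K K').liftBaseChange K' =
      (Algebra.H1Cotangent.map k k' K' K') ∘ₗ
        ((Algebra.H1Cotangent.map k k K K').liftBaseChange K') := by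
  apply LinearMap.ext
  intro z
  induction z using TensorProduct.induction_on with
  | zero => rw [map_zero, map_zero]
  | add a b ha hb => rw [map_add, map_add, ha, hb]
  | tmul m x =>
    rw [LinearMap.liftBaseChange_tmul, LinearMap.comp_apply, LinearMap.liftBaseChange_tmul,
      map_smul, h1_map_comp]

variable [Algebra.EssFiniteType k k'] [Algebra.EssFiniteType K K']

theorem main :
    Module.Finite K' (LinearMap.ker ((KaehlerDifferential.map k k' K K').liftBaseChange K')) ∧
      Module.Finite K' (Ω[K'⁄k'] ⧸ LinearMap.range ((KaehlerDifferential.map k k' K K').liftBaseChange K')) ∧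
      Module.Finite K' (LinearMap.ker ((Algebra.H1Cotangent.map k k' K K').liftBaseChange K')) ∧
      Module.Finite K' (Algebra.H1Cotangent k' K' ⧸ LinearMap.range ((Algebra.H1Cotangent.map k k' K K').liftBaseChange K')) ∧
      ((Module.finrank K' (LinearMap.ker ((KaehlerDifferential.map k k' K K').liftBaseChange K')) : ℤ)
          - Module.finrank K' (Ω[K'⁄k'] ⧸ LinearMap.range ((KaehlerDifferential.map k k' K K').liftBaseChange K'))
          - Module.finrank K' (LinearMap.ker ((Algebra.H1Cotangent.map k k' K K').liftBaseChange K'))
          + Module.finrank K' (Algebra.H1Cotangent k' K' ⧸ LinearMap.range ((Algebra.H1Cotangent.map k k' K K').liftBaseChange K'))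
        = (Cardinal.toNat (Algebra.trdeg k k') : ℤ) - Cardinal.toNat (Algebra.trdeg K K')) := by
  obtain ⟨hH1, hΩ1, hc1⟩ := CartierH1.cartier k k'
  obtain ⟨hH2, hΩ2, hc2⟩ := CartierH1.cartier K K'
  -- tower `k → K → K'`
  obtain ⟨a1, a2, a3, a4, a5⟩ := SixIndex.index_outer
    ((Algebra.H1Cotangent.map k k K K').liftBaseChange K')
    (Algebra.H1Cotangent.map k K K' K') (Algebra.H1Cotangent.δ k K K')
    (KaehlerDifferential.mapBaseChange k K K') (KaehlerDifferential.map k K K' K')
    Groth.Agent.S9319.result (Algebra.H1Cotangent.exact_liftBaseChange_map_of_flat k K K')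
    (Algebra.H1Cotangent.exact_map_δ k K K') (Algebra.H1Cotangent.exact_δ_mapBaseChange k K K')
    (KaehlerDifferential.exact_mapBaseChange_map k K K') (KaehlerDifferential.map_surjective k K K')
  -- tower `k → k' → K'`
  obtain ⟨b1, b2, b3, b4, b5⟩ := SixIndex.index_inner
    ((Algebra.H1Cotangent.map k k k' K').liftBaseChange K')
    (Algebra.H1Cotangent.map k k' K' K') (Algebra.H1Cotangent.δ k k' K')
    (KaehlerDifferential.mapBaseChange k k' K') (KaehlerDifferential.map k k' K' K')
    Groth.Agent.S9319.result (Algebra.H1Cotangent.exact_liftBaseChange_map_of_flat k k' K')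
    (Algebra.H1Cotangent.exact_map_δ k k' K') (Algebra.H1Cotangent.exact_δ_mapBaseChange k k' K')
    (KaehlerDifferential.exact_mapBaseChange_map k k' K')
    (KaehlerDifferential.map_surjective k k' K')
  rw [Module.finrank_baseChange, Module.finrank_baseChange] at b5
  have iα := LinearMap.index_comp (f := KaehlerDifferential.mapBaseChange k K K')
    (KaehlerDifferential.map k k' K' K')
  have iβ := LinearMap.index_comp (f := (Algebra.H1Cotangent.map k k K K').liftBaseChange K')
    (Algebra.H1Cotangent.map k k' K' K')
  rw [alpha_eq, beta_eq]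
  refine ⟨?_, ?_, ?_, ?_, ?_⟩
  · rw [LinearMap.ker_comp]; infer_instance
  · rw [LinearMap.range_comp]; infer_instance
  · rw [LinearMap.ker_comp]; infer_instance
  · rw [LinearMap.range_comp]; infer_instance
  · rw [LinearMap.index_eq_finrank_sub] at iα iβ
    linarith

end Groth.Agent.Lib.Helper8.CartierSq
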