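import Mathlib

/-!
# Helper8 — a functor preserving pullbacks commutes with Čech nerves
-/

set_option autoImplicit false

universe v₁ v₂ u₁ u₂

open CategoryTheory CategoryTheory.Limits Opposite

namespace Groth.Agent.Lib.Helper8.CechFunctor

open CategoryTheory.Over.ConstructProducts

variable {𝒞 : Type u₁} [Category.{v₁} 𝒞] {𝒟 : Type u₂} [Category.{v₂} 𝒟] (G : 𝒞 ⥤ 𝒟)

lemma preservesTerminal_overPost (B : 𝒞) :
    PreservesLimit (Functor.empty.{0} (Over B)) (Over.post G (X := B)) := by
  apply preservesLimit_of_preserves_limit_cone Over.mkIdTerminal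
  refine (isLimitMapConeEmptyConeEquiv (Over.post G (X := B)) (Over.mk (𝟙 B))).symm ?_
  exact IsTerminal.ofIso Over.mkIdTerminal (Over.isoMk (Iso.refl _) (by
    change 𝟙 (G.obj B) ≫ G.map (𝟙 B) = 𝟙 (G.obj B)
    simp))

variable [PreservesLimitsOfShape WalkingCospan G] [HasFiniteWidePullbacks 𝒞]

lemma preservesFiniteProducts_overPost (B : 𝒞) :
    PreservesFiniteProducts (Over.post G (X := B)) := by
  haveI : HasFiniteProducts (Over B) := over_finiteProducts_of_finiteWidePullbacks
  haveI : PreservesLimitsOfShape (WidePullbackShape WalkingPair) G :=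
    ‹PreservesLimitsOfShape WalkingCospan G›
  haveI : PreservesLimitsOfShape (Discrete WalkingPair) (Over.post G (X := B)) := inferInstance
  haveI := preservesTerminal_overPost G B
  haveI : PreservesLimitsOfShape (Discrete.{0} PEmpty) (Over.post G (X := B)) :=
    preservesLimitsOfShape_pempty_of_preservesTerminal _
  exact PreservesFiniteProducts.of_preserves_binary_and_terminal _

/-- the image under `G` of a limit wide-pullback cone (finite index) is a limit cone -/
noncomputable def isLimitMapWide {B : 𝒞} (n : ℕ) (F : Discrete (Fin n) ⥤ Over B)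
    (c : Cone (widePullbackDiagramOfDiagramOver B F)) (hc : IsLimit c) :
    IsLimit (conesEquivInverseObj (G.obj B) (F ⋙ Over.post G)
      ((Over.post G).mapCone ((conesEquivFunctor B F).obj c))) := by
  haveI := preservesFiniteProducts_overPost G B
  have h1 : IsLimit ((conesEquiv B F).functor.obj c) :=
    (IsLimit.ofConeEquiv (conesEquiv B F)).symm hc
  haveI : PreservesLimitsOfShape (Discrete (Fin n)) (Over.post G (X := B)) :=
    PreservesFiniteProducts.preserves n
  have h2 : IsLimit ((Over.post G).mapCone ((conesEquiv B F).functor.obj c)) :=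
    isLimitOfPreserves (Over.post G) h1
  exact (IsLimit.ofConeEquiv (conesEquiv (G.obj B) (F ⋙ Over.post G)).symm).symm h2

section Nerve

variable {X B : 𝒞} (φ : X ⟶ B)
  [hW : ∀ n : ℕ, HasWidePullback (Arrow.mk (G.map φ)).right
    (fun _ : Fin (n + 1) => (Arrow.mk (G.map φ)).left) fun _ => (Arrow.mk (G.map φ)).hom]

instance instWide (n : ℕ) :
    HasWidePullback (G.obj B) (fun _ : Fin (n + 1) => G.obj X) fun _ => G.map φ := hW n

instance instWide' (n : ℕ) :
    HasWidePullback (Arrow.mk φ).right (fun _ : Fin (n + 1) => (Arrow.mk φ).left)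
      fun _ => (Arrow.mk φ).hom :=
  inferInstanceAs (HasWidePullback B (fun _ : Fin (n + 1) => X) fun _ => φ)

/-- the constant family -/
abbrev constFam (n : ℕ) : Discrete (Fin (n + 1)) ⥤ Over B :=
  Discrete.functor (fun _ : Fin (n + 1) => Over.mk φ)

/-- comparison isomorphism `G(X ×_B ⋯ ×_B X) ≅ GX ×_{GB} ⋯ ×_{GB} GX` -/
noncomputable def wideIso (n : ℕ) :
    G.obj (widePullback B (fun _ : Fin (n + 1) => X) (fun _ => φ)) ≅
      widePullback (G.obj B) (fun _ : Fin (n + 1) => G.obj X) (fun _ => G.map φ) :=
  IsLimit.conePointUniqueUpToIso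
    (isLimitMapWide G (n + 1) (constFam φ n)
      (limit.cone (WidePullbackShape.wideCospan B (fun _ : Fin (n + 1) => X) (fun _ => φ)))
      (limit.isLimit _))
    (limit.isLimit (WidePullbackShape.wideCospan (G.obj B) (fun _ : Fin (n + 1) => G.obj X)
      (fun _ => G.map φ)))

@[reassoc]
lemma wideIso_hom_π (n : ℕ) (j : Fin (n + 1)) :
    (wideIso G φ n).hom ≫ WidePullback.π (fun _ : Fin (n + 1) => G.map φ) j =
      G.map (WidePullback.π (fun _ : Fin (n + 1) => φ) j) :=
  IsLimit.conePointUniqueUpToIso_hom_comp _ _ (show WidePullbackShape (Fin (n + 1)) from some j)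

@[reassoc]
lemma wideIso_hom_base (n : ℕ) :
    (wideIso G φ n).hom ≫ WidePullback.base (fun _ : Fin (n + 1) => G.map φ) =
      G.map (WidePullback.base (fun _ : Fin (n + 1) => φ)) :=
  IsLimit.conePointUniqueUpToIso_hom_comp _ _ (show WidePullbackShape (Fin (n + 1)) from none)

/-- `G` commutes with Čech nerves -/
noncomputable def cechNerveIso :
    (Arrow.mk φ).cechNerve ⋙ G ≅ (Arrow.mk (G.map φ)).cechNerve :=
  NatIso.ofComponents (fun n => wideIso G φ n.unop.len) (by
    intro n m θ
    apply WidePullback.hom_ext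
    · intro j
      dsimp [Arrow.cechNerve]
      rw [Category.assoc, Category.assoc, WidePullback.lift_π, wideIso_hom_π, wideIso_hom_π,
        ← G.map_comp, WidePullback.lift_π]
    · dsimp [Arrow.cechNerve]
      rw [Category.assoc, Category.assoc, WidePullback.lift_base, wideIso_hom_base,
        wideIso_hom_base, ← G.map_comp, WidePullback.lift_base])

end Nerve

end Groth.Agent.Lib.Helper8.CechFunctor
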