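import Groth.Prelude.Def_Hyper2
import Mathlib.AlgebraicTopology.SimplicialObject.ChainHomotopy

/-!
# Helper8: simplicial homotopies induce cochain homotopies on Cech complexes (S3886)
-/

universe v u

open CategoryTheory CategoryTheory.Limits Opposite AlgebraicTopology

namespace Groth.Agent.Lib.Helper8.CechHtpy

section General

variable {D : Type u} [Category.{v} D] {A : Type*} [Category A] [Preadditive A]
  (G : Dᵒᵖ ⥤ A)

/-- the cosimplicial object `G(K)` -/
abbrev cosimp (K : SimplicialObject D) : CosimplicialObject A := K.rightOp ⋙ G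

/-- the simplicial object `G(K)` in `Aᵒᵖ` -/
abbrev simpOp (K : SimplicialObject D) : SimplicialObject Aᵒᵖ := K ⋙ G.rightOp

/-- the map of cosimplicial objects induced by `a : L ⟶ K` -/
abbrev cosimpMap {K L : SimplicialObject D} (a : L ⟶ K) : cosimp G K ⟶ cosimp G L :=
  Functor.whiskerRight (NatTrans.rightOp a) G

/-- the Cech complex -/
abbrev cx (K : SimplicialObject D) : CochainComplex A ℕ :=
  (alternatingCofaceMapComplex A).obj (cosimp G K)

/-- the chain complex in `Aᵒᵖ` -/
abbrev cxOp (K : SimplicialObject D) : ChainComplex Aᵒᵖ ℕ :=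
  (alternatingFaceMapComplex Aᵒᵖ).obj (simpOp G K)

/-- the unop of the differential of `cxOp` -/
def dOp (K : SimplicialObject D) (i j : ℕ) : (cx G K).X j ⟶ (cx G K).X i :=
  ((cxOp G K).d i j).unop

lemma dOp_eq (K : SimplicialObject D) (i j : ℕ) : dOp G K i j = (cx G K).d j i := by
  by_cases h : j + 1 = i
  · subst h
    have h1 : (cxOp G K).d (j + 1) j = AlternatingFaceMapComplex.objD (simpOp G K) j :=
      AlternatingFaceMapComplex.obj_d_eq _ _
    have h2 : (cx G K).d j (j + 1) = AlternatingCofaceMapComplex.objD (cosimp G K) j :=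
      CochainComplex.of_d (fun n => (cosimp G K).obj (SimplexCategory.mk n))
        (AlternatingCofaceMapComplex.objD (cosimp G K)) j
    rw [h2, AlternatingCofaceMapComplex.d_eq_unop_d]
    unfold dOp
    rw [h1]
    rfl
  · have h1 : (cxOp G K).d i j = 0 := (cxOp G K).shape i j (by simpa using h)
    unfold dOp
    rw [h1, (cx G K).shape j i (by simpa using h)]
    rfl

/-- the induced map of Cech complexes -/
abbrev cxMap {K L : SimplicialObject D} (a : L ⟶ K) : cx G K ⟶ cx G L :=
  (alternatingCofaceMapComplex A).map (cosimpMap G a)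

/-- the induced map of chain complexes in `Aᵒᵖ` -/
abbrev cxOpMap {K L : SimplicialObject D} (a : L ⟶ K) : cxOp G L ⟶ cxOp G K :=
  (alternatingFaceMapComplex Aᵒᵖ).map (((SimplicialObject.whiskering D Aᵒᵖ).obj G.rightOp).map a)

/-- unop of the components of `cxOpMap` -/
def fOp {K L : SimplicialObject D} (a : L ⟶ K) (i : ℕ) : (cx G K).X i ⟶ (cx G L).X i :=
  ((cxOpMap G a).f i).unop

lemma fOp_eq {K L : SimplicialObject D} (a : L ⟶ K) (i : ℕ) : fOp G a i = (cxMap G a).f i := rfl

variable {K L : SimplicialObject D} {a b : L ⟶ K} (H : SimplicialObject.Homotopy a b)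

/-- the chain homotopy in `Aᵒᵖ` -/
noncomputable def ch : Homotopy (cxOpMap G a) (cxOpMap G b) :=
  (H.whiskerRight G.rightOp).toChainHomotopy

/-- the components of the cochain homotopy -/
noncomputable def hhom (i j : ℕ) : (cx G K).X i ⟶ (cx G L).X j :=
  ((ch G H).hom j i).unop

lemma hhom_zero (i j : ℕ) (h : ¬ (ComplexShape.up ℕ).Rel j i) : hhom G H i j = 0 := by
  unfold hhom
  rw [(ch G H).zero j i h]
  rfl

lemma comm_aux (i : ℕ) :
    fOp G a i = (cx G K).d i ((ComplexShape.up ℕ).next i) ≫ hhom G H ((ComplexShape.up ℕ).next i) i +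
      hhom G H i ((ComplexShape.up ℕ).prev i) ≫ (cx G L).d ((ComplexShape.up ℕ).prev i) i +
      fOp G b i := by
  have h := (ch G H).comm i
  have h' : (cxOpMap G a).f i =
      (cxOp G L).d i ((ComplexShape.down ℕ).next i) ≫ (ch G H).hom ((ComplexShape.down ℕ).next i) i +
      (ch G H).hom i ((ComplexShape.down ℕ).prev i) ≫ (cxOp G K).d ((ComplexShape.down ℕ).prev i) i +
      (cxOpMap G b).f i := h
  have h2 := congrArg Quiver.Hom.unop h'
  rw [unop_add, unop_add, unop_comp, unop_comp] at h2
  rw [← dOp_eq, ← dOp_eq, add_comm (_ ≫ _) (_ ≫ _)]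
  exact h2

/-- the cochain homotopy -/
noncomputable def htpy : Homotopy (cxMap G a) (cxMap G b) where
  hom := hhom G H
  zero i j h := hhom_zero G H i j h
  comm i := by
    rw [← fOp_eq, ← fOp_eq]
    exact comm_aux G H i

end General

section Main

variable {C : Type u} [SmallCategory C] (X : C)
  {K L : SimplicialObject (FormalCoproduct.{u} (Over X))} (a b : L ⟶ K)

theorem main (h : Nonempty (SimplicialObject.Homotopy a b)) (P : Cᵒᵖ ⥤ AddCommGrpCat.{u}) (p : ℕ) :
    Hyper.cechHMap X a P p = Hyper.cechHMap X b P p := by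
  obtain ⟨H⟩ := h
  let G := (FormalCoproduct.evalOp.{u} (Over X) AddCommGrpCat.{u}).obj ((Over.forget X).op ⋙ P)
  have hh : Homotopy (Hyper.cechMap X a P) (Hyper.cechMap X b P) := htpy G H
  dsimp only [Hyper.cechHMap]
  rw [hh.homologyMap_eq p]

end Main

end Groth.Agent.Lib.Helper8.CechHtpy
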