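import Mathlib
import Groth.Prelude.Def_CohCx
import Groth.Prelude.Def_ModSite
import Groth.Agent.Lib.Helper8.CechFunctor
import Groth.Agent.Lib.Helper6.InjModTotAcyc
import Groth.Agent.Lib.Helper6.CechCartan

/-!
# Helper8 — `g⁻¹` of an injective module is totally acyclic when `g_!` commutes with fibre
products (S9044)
-/

set_option autoImplicit false

universe u

open CategoryTheory CategoryTheory.Limits Opposite

namespace Groth.Agent.Lib.Helper8.CechPull

open Groth.Agent.Lib.Helper6

variable {C : Type u} [SmallCategory C] (J : GrothendieckTopology C)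
  {D : Type u} [SmallCategory D] (K : GrothendieckTopology D)
  (u : C ⥤ D) [u.IsContinuous J K]

/-- the free abelian sheaf functor -/
noncomputable abbrev Φ : Sheaf J (Type u) ⥤ Sheaf J AddCommGrpCat.{u} :=
  sheafToPresheaf J (Type u) ⋙ (Functor.whiskeringRight _ _ _).obj AddCommGrpCat.free.{u} ⋙
    presheafToSheaf J AddCommGrpCat.{u}

/-- the forgetful functor -/
noncomputable abbrev U : Sheaf J AddCommGrpCat.{u} ⥤ Sheaf J (Type u) :=
  sheafCompose J (forget AddCommGrpCat.{u})

/-- the free-forgetful adjunction -/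
noncomputable def adjΦ : Φ J ⊣ U J := Sheaf.adjunction J AddCommGrpCat.adj

/-- `g_!` on sheaves of sets -/
noncomputable abbrev Gs : Sheaf J (Type u) ⥤ Sheaf K (Type u) := u.sheafPullback (Type u) J K
/-- `g_!` on abelian sheaves -/
noncomputable abbrev Ga : Sheaf J AddCommGrpCat.{u} ⥤ Sheaf K AddCommGrpCat.{u} :=
  u.sheafPullback AddCommGrpCat.{u} J K
/-- `g⁻¹` on sheaves of sets -/
noncomputable abbrev Ps : Sheaf K (Type u) ⥤ Sheaf J (Type u) :=
  u.sheafPushforwardContinuous (Type u) J K
/-- `g⁻¹` on abelian sheaves -/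
noncomputable abbrev Pa : Sheaf K AddCommGrpCat.{u} ⥤ Sheaf J AddCommGrpCat.{u} :=
  u.sheafPushforwardContinuous AddCommGrpCat.{u} J K

instance additive_Pa : (Pa J K u).Additive where

instance additive_Ga : (Ga J K u).Additive :=
  (u.sheafAdjunctionContinuous AddCommGrpCat.{u} J K).left_adjoint_additive

/-- `g⁻¹` commutes with the forgetful functors -/
noncomputable def rightIso : Pa J K u ⋙ U J ≅ U K ⋙ Ps J K u :=
  NatIso.ofComponents (fun A => Iso.refl _) (by
    intro A B f
    rfl)

/-- `g_!` commutes with the free abelian sheaf functors -/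
noncomputable def leftIso : Gs J K u ⋙ Φ K ≅ Φ J ⋙ Ga J K u :=
  (conjugateIsoEquiv ((adjΦ J).comp (u.sheafAdjunctionContinuous AddCommGrpCat.{u} J K))
    ((u.sheafAdjunctionContinuous (Type u) J K).comp (adjΦ K))).symm (rightIso J K u)

/-- `Hom(ℤ[L], g⁻¹ A) ≃+ Hom(ℤ[g_! L], A)` -/
noncomputable def homEquiv (L : Sheaf J (Type u)) (A : Sheaf K AddCommGrpCat.{u}) :
    ((Φ J).obj L ⟶ (Pa J K u).obj A) ≃+ ((Φ K).obj ((Gs J K u).obj L) ⟶ A) :=
  ((u.sheafAdjunctionContinuous AddCommGrpCat.{u} J K).homAddEquiv _ _).symm.trans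
    { toFun := fun y => (leftIso J K u).hom.app L ≫ y
      invFun := fun z => (leftIso J K u).inv.app L ≫ z
      left_inv := fun y => by simp
      right_inv := fun z => by simp
      map_add' := fun y y' => Preadditive.comp_add _ _ _ _ _ _ }

lemma homEquiv_apply (L : Sheaf J (Type u)) (A : Sheaf K AddCommGrpCat.{u})
    (x : (Φ J).obj L ⟶ (Pa J K u).obj A) :
    homEquiv J K u L A x = (leftIso J K u).hom.app L ≫
      ((u.sheafAdjunctionContinuous AddCommGrpCat.{u} J K).homEquiv _ _).symm x := rfl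

lemma homEquiv_naturality {L L' : Sheaf J (Type u)} (m : L' ⟶ L) (A : Sheaf K AddCommGrpCat.{u})
    (x : (Φ J).obj L ⟶ (Pa J K u).obj A) :
    homEquiv J K u L' A ((Φ J).map m ≫ x) =
      (Φ K).map ((Gs J K u).map m) ≫ homEquiv J K u L A x := by
  rw [homEquiv_apply, homEquiv_apply, Adjunction.homEquiv_naturality_left_symm]
  have nat : (Φ K).map ((Gs J K u).map m) ≫ (leftIso J K u).hom.app L =
      (leftIso J K u).hom.app L' ≫ (Ga J K u).map ((Φ J).map m) :=
    (leftIso J K u).hom.naturality m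
  rw [← Category.assoc, ← nat, Category.assoc]

/-- `H⁰(-, g⁻¹ A) ≅ H⁰(g_! -, A)` -/
noncomputable def hk0Iso (A : Sheaf K AddCommGrpCat.{u}) :
    CohCx.HK0Functor J ((Pa J K u).obj A) ≅ (Gs J K u).op ⋙ CohCx.HK0Functor K A :=
  NatIso.ofComponents (fun L => (homEquiv J K u L.unop A).toAddCommGrpIso) (by
    intro L L' m
    ext x
    exact homEquiv_naturality J K u m.unop A x)

/-- `rightOp` of a natural isomorphism -/
noncomputable def rightOpIso {X Y : Type*} [Category X] [Category Y] {F F' : Xᵒᵖ ⥤ Y} (α : F ≅ F') :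
    F'.rightOp ≅ F.rightOp :=
  NatIso.ofComponents (fun n => (α.app (op n)).op) (by
    intro n m θ
    apply Quiver.Hom.unop_inj
    simp)

section Main

variable [hfib : PreservesLimitsOfShape WalkingCospan (Gs J K u)]

/-- the Čech complexes of `g⁻¹ A` for `f` and of `A` for `g_! f` agree -/
noncomputable def cosimpIso (A : Sheaf K AddCommGrpCat.{u}) {K' K'' : Sheaf J (Type u)}
    (f : K' ⟶ K'') :
    (Arrow.mk f).cechNerve.rightOp ⋙ CohCx.HK0Functor J ((Pa J K u).obj A) ≅
      (Arrow.mk ((Gs J K u).map f)).cechNerve.rightOp ⋙ CohCx.HK0Functor K A :=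
  Functor.isoWhiskerLeft _ (hk0Iso J K u A) ≪≫ (Functor.associator _ _ _).symm ≪≫
    Functor.isoWhiskerRight ((Functor.rightOpComp _ _).symm ≪≫
      rightOpIso (CechFunctor.cechNerveIso (Gs J K u) f).symm) _

theorem cechAcyclic_Pa (A : Sheaf K AddCommGrpCat.{u}) (hA : CechCartan.CechAcyclic A) :
    CechCartan.CechAcyclic ((Pa J K u).obj A) := by
  intro K' K'' f hf q
  haveI := hf
  haveI : (Gs J K u).IsLeftAdjoint := (u.sheafAdjunctionContinuous (Type u) J K).isLeftAdjoint
  haveI : Epi ((Gs J K u).map f) := inferInstance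
  have hz := hA _ _ ((Gs J K u).map f) inferInstance q
  let e := (AlgebraicTopology.alternatingCofaceMapComplex AddCommGrpCat.{u}).mapIso
    (cosimpIso J K u A f)
  exact IsZero.of_iso hz ((HomologicalComplex.homologyFunctor _ _ (q + 1)).mapIso e)

/-- the statement of S9044 -/
theorem main (O_D : Sheaf K CommRingCat.{u}) (I : ModSite.Mod O_D) (hI : Injective I) :
    CohCx.IsTotallyAcyclic
      ((u.sheafPushforwardContinuous AddCommGrpCat.{u} J K).obj (ModSite.toAb I)) := by
  haveI := hI
  exact CechCartan.totallyAcyclic_of_cechAcyclic _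
    (cechAcyclic_Pa J K u _ (InjModTotAcyc.cechAcyclic (ModSite.ringSh O_D) I))

end Main

end Groth.Agent.Lib.Helper8.CechPull
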