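import Mathlib
import Groth.Agent.Lib.Helper8.CurveVan
import Groth.Agent.Lib.Helper6.DevStep

/-! # Helper8 — morphisms which are closed immersions over an open `U`: surjectivity on sections over affine opens of `U`, support of the cokernel of `O_X ⟶ f_* O_Y` -/
set_option autoImplicit false
universe u
open CategoryTheory CategoryTheory.Limits AlgebraicGeometry Opposite TopologicalSpace

namespace Groth.Agent.Lib.Helper8.ClImmDense

open Groth.Agent.Lib.Helper28.QCohLoc Groth.Agent.Lib.Helper29.QCohStalk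
  Groth.Agent.Lib.Helper17.StalkExact

variable {X Y : Scheme.{u}}

/-- if `f` is a closed immersion over `U`, it is surjective on sections over affine opens of `U` -/
theorem app_surjective_of_isClosedImmersion_restrict (f : Y ⟶ X) (U : X.Opens)
    [IsClosedImmersion (f ∣_ U)] (V : X.Opens) (hV : V ≤ U) (hVa : IsAffineOpen V) :
    Function.Surjective (f.app V).hom := by
  have himg : U.ι ''ᵁ (U.ι ⁻¹ᵁ V) = V := by
    rw [Scheme.Hom.image_preimage_eq_opensRange_inf, Scheme.Opens.opensRange_ι]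
    exact inf_eq_right.2 hV
  have haff : IsAffineOpen (U.ι ⁻¹ᵁ V) :=
    hVa.preimage_of_isOpenImmersion U.ι (by rw [Scheme.Opens.opensRange_ι]; exact hV)
  suffices h : ∀ W' : X.Opens, W' = U.ι ''ᵁ (U.ι ⁻¹ᵁ V) → Function.Surjective (f.app W').hom from
    h V himg.symm
  intro W' hW'
  subst hW'
  have h1 := morphismRestrict_app f U (U.ι ⁻¹ᵁ V)
  have h2 : Function.Surjective ((f ∣_ U).app (U.ι ⁻¹ᵁ V)).hom :=
    Scheme.Hom.app_surjective (f ∣_ U) (U.ι ⁻¹ᵁ V) haff
  rw [h1] at h2
  exact Function.Surjective.of_comp_left h2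
    (ConcreteCategory.bijective_of_isIso
      (Y.presheaf.map (eqToHom (image_morphismRestrict_preimage f U (U.ι ⁻¹ᵁ V))).op)).1

theorem stalkHom_surjective_of_app_affine {F G : X.Modules} (φ : F ⟶ G) (U : X.Opens)
    (hsurj : ∀ V : X.Opens, V ≤ U → IsAffineOpen V → Function.Surjective (φ.app V))
    (x : X) (hx : x ∈ U) : Function.Surjective (stalkHom φ x) := by
  intro g
  obtain ⟨V, hxV, m, rfl⟩ := TopCat.Presheaf.exists_germ_eq G.presheaf g
  obtain ⟨W, hW, hxW, hWle⟩ := exists_isAffineOpen_mem_and_subset (x := x) (U := V ⊓ U) ⟨hxV, hx⟩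
  obtain ⟨m', hm'⟩ := hsurj W (hWle.trans inf_le_right) hW (res G (hWle.trans inf_le_left) m)
  refine ⟨gm F W x hxW m', ?_⟩
  have h2 : stalkHom φ x (gm F W x hxW m') = gm G W x hxW (φ.app W m') :=
    stalkHom_germ φ x W hxW _
  rw [h2, hm']
  exact gm_res G (hWle.trans inf_le_left) x hxW m

theorem support_cokernel_subset_of_affine {F G : X.Modules} (φ : F ⟶ G) (U : X.Opens)
    (hsurj : ∀ V : X.Opens, V ≤ U → IsAffineOpen V → Function.Surjective (φ.app V)) :
    CohB1.support (cokernel φ) ⊆ ((U : Set X))ᶜ := fun x hx hxU =>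
  Groth.Agent.Lib.Helper6.DevStep.notMem_support_cokernel _ x
    (stalkHom_surjective_of_app_affine φ U hsurj x hxU) hx

end Groth.Agent.Lib.Helper8.ClImmDense

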