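import Mathlib
import Groth.Agent.Lib.Helper8.ClifE

/-! # Helper8 — ClifF: linear stability criterion by invertible subsheaves for `deg L > 2g` -/
set_option autoImplicit false
universe u
open CategoryTheory CategoryTheory.Limits AlgebraicGeometry Opposite TopologicalSpace MonoidalCategory
noncomputable section

namespace Groth.Agent.Lib.Helper8.ClifF

open Groth.Agent.Lib.Helper8.EulerK Groth.Agent.Lib.Helper8.ClifD Groth.Agent.Lib.Helper8.ClifE
  Groth.Agent.Lib.Helper28

variable (k : Type u) [Field k] (X : Scheme.{u}) [X.Over (Spec (CommRingCat.of k))]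
  [IsIntegral X] [IsProper (X ↘ Spec (CommRingCat.of k))] [IsAlgClosed k]

theorem linStable (hdim : topologicalKrullDim X = 1)
    (hreg : ∀ x : X, IsRegularLocalRing (X.presheaf.stalk x))
    (hg : 1 ≤ Curv2.genus k X) (L : X.Modules) (hL : PicF.IsInvertible L)
    (hdeg : 2 * (Curv2.genus k X : ℤ) < Curv2.deg k X L 1)
    (M : X.Modules) (hM : PicF.IsInvertible M) (ι : M ⟶ L) [Mono ι] (hι : ¬ IsIso ι)
    (h2 : 2 ≤ Module.finrank k (Coh.HH X M 0)) :
    Curv2.deg k X L 1 * ((Module.finrank k (Coh.HH X M 0) : ℤ) - 1) <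
      Curv2.deg k X M 1 * ((Module.finrank k (Coh.HH X L 0) : ℤ) - 1) := by
  have hι0 : ι ≠ 0 := by
    intro h0
    apply not_isZero_of_isInvertible M hM
    have hm : Mono (0 : M ⟶ L) := h0 ▸ (inferInstance : Mono ι)
    exact IsZero.of_mono_zero M L
  obtain ⟨hle, hiso⟩ := Groth.Agent.Lib.Helper8.CurveDeg.deg_le k X hdim.le M L hM hL ι hι0
  have hlt : Curv2.deg k X M 1 < Curv2.deg k X L 1 := by
    rcases lt_or_eq_of_le hle with h | h
    · exact h
    · exact absurd (hiso h) hι
  have hdL := deg_eq k X hdim L hL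
  have hO := AmpleUnit.isInvertible_structureModule X
  have hcO := Groth.Agent.Lib.Helper6.K0Op.isCoh_of_isInvertible _ hO
  have hχO := Groth.Agent.Lib.Helper8.CurveRR.euler_eq_sub k X hdim.le _ hcO.1
  have h3 := Groth.Agent.Lib.Helper8.PaSmooth.finrank_H0_of_isAlgClosed k X hdim
  have hsub : Subsingleton (Coh.HH X L 1) := by
    apply Groth.Agent.Lib.Helper8.SpecialC.h1_subsingleton_of_euler k X hdim L hL
    unfold Curv2.deg at hdeg
    unfold Curv2.genus at hdeg hχO ⊢
    rw [h3] at hχO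
    push_cast at hχO hdeg ⊢
    omega
  have hL1 : hh k L 1 = 0 := Module.finrank_zero_of_subsingleton
  rw [hL1] at hdL
  have hL0 : (Module.finrank k (Coh.HH X L 0) : ℤ) - 1 = Curv2.deg k X L 1 - Curv2.genus k X := by
    unfold hh at hdL
    push_cast at hdL
    omega
  obtain ⟨m, hm⟩ : ∃ m : ℕ, Module.finrank k (Coh.HH X M 0) = m + 1 := ⟨_, (Nat.sub_add_cancel (by omega)).symm⟩
  have key := slope_lt k X hdim hreg hg (Curv2.deg k X L 1) hdeg M hM m (by omega) (by omega) hle
    (Or.inl hlt)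
  rw [hL0, hm]
  push_cast
  linarith

end Groth.Agent.Lib.Helper8.ClifF
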