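import Groth.Agent.Lib.Helper8.Descend
import Groth.Agent.Lib.Helper8.P1Facts
import Groth.Agent.Lib.Helper5.RegSmoothScheme
import Groth.Agent.S6541

/-! # Helper8 — an integral proper curve of genus zero over an algebraically closed field is smooth -/
set_option autoImplicit false
universe u
open CategoryTheory CategoryTheory.Limits AlgebraicGeometry Opposite TopologicalSpace
noncomputable section

namespace Groth.Agent.Lib.Helper8.G0Smooth

open Groth.Agent.Lib.Helper8.EulerK Groth.Agent.Lib.Helper28 Groth.Agent.Lib.Helper8.PointDeg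
  Groth.Agent.Lib.Helper8.Descend

/-- on an integral locally Noetherian scheme of dimension at most one, a point with integrally closed
local ring has a regular local ring -/
theorem isRegularLocalRing_of_isIntegrallyClosed {X : Scheme.{u}} [IsIntegral X]
    [IsLocallyNoetherian X] (hdim : topologicalKrullDim X ≤ 1) (x : X)
    (hn : IsIntegrallyClosed (X.presheaf.stalk x)) : IsRegularLocalRing (X.presheaf.stalk x) := by
  by_cases hf : IsField (X.presheaf.stalk x)
  · apply IsRegularLocalRing.of_spanFinrank_maximalIdeal_le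
    rw [IsLocalRing.isField_iff_maximalIdeal_eq.1 hf, Submodule.spanFinrank_bot]
    exact_mod_cast ringKrullDim_nonneg_of_nontrivial
  · have hd : ringKrullDim (X.presheaf.stalk x) ≤ 1 := by
      rw [ringKrullDim_stalk_eq_coheight]
      exact (Groth.Agent.Lib.lead.StalkDimIneq.coheight_le_topologicalKrullDim X x).trans hdim
    haveI : Ring.KrullDimLE 1 (X.presheaf.stalk x) := (Ring.krullDimLE_iff).2 hd
    have hm : IsLocalRing.maximalIdeal (X.presheaf.stalk x) ≠ ⊥ := fun h =>
      hf (IsLocalRing.isField_iff_maximalIdeal_eq.2 h)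
    have tfae := IsDiscreteValuationRing.TFAE (X.presheaf.stalk x) hf
    have h03 : (IsIntegrallyClosed (X.presheaf.stalk x) ∧
        ∃! P : Ideal (X.presheaf.stalk x), P ≠ ⊥ ∧ P.IsPrime) →
        IsDiscreteValuationRing (X.presheaf.stalk x) := (tfae.out 0 3).2
    haveI : IsDiscreteValuationRing (X.presheaf.stalk x) := by
      apply h03
      refine ⟨hn, IsLocalRing.maximalIdeal _, ⟨hm, inferInstance⟩, ?_⟩
      rintro P ⟨hP0, hP⟩
      haveI := hP
      have hPmax : P.IsMaximal := hP.isMaximal_of_ne_bot hP0
      exact IsLocalRing.eq_maximalIdeal hPmax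
    infer_instance


variable (k : Type u) [Field k] (X : Scheme.{u}) [X.Over (Spec (CommRingCat.of k))]
  [IsIntegral X] [IsProper (X ↘ Spec (CommRingCat.of k))]

/-- an integral proper curve of genus zero over an algebraically closed field is the projective line -/
theorem exists_iso_P1 [IsAlgClosed k] (hdim : topologicalKrullDim X = 1)
    (hg : Curv2.genus k X = 0) :
    ∃ e : X ≅ CohB1.ProjSpace 1 k,
      e.hom ≫ CohB1.ProjSpace.toSpec 1 k = X ↘ Spec (CommRingCat.of k) := by
  haveI : IsLocallyNoetherian X := isLocallyNoetherian k X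
  obtain ⟨x, -, hx, hE, hQ⟩ := exists_good_point k X hdim ⊤
    ⟨(inferInstance : Nonempty X).some, trivial⟩
  obtain ⟨hA, hAD⟩ := Groth.Agent.Lib.Helper8.PointBundle.exists_inverse X _ hE
  have hdegA := Groth.Agent.Lib.Helper8.PointBundle.deg_inverse k X _ (fun z hz => by
      have hz' : z ∈ ((Scheme.IdealSheafData.vanishingIdeal ⟨{x}, hx⟩).support : Set X) := hz
      rw [Scheme.IdealSheafData.coe_support_vanishingIdeal] at hz'
      have : z = x := hz'
      rw [this]; exact hx) _ hA hAD
  rw [hQ] at hdegA
  have hcO := Groth.Agent.Lib.Helper6.K0Op.isCoh_of_isInvertible _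
    (AmpleUnit.isInvertible_structureModule X)
  haveI := finite_HH k X _ hcO 1
  have h1 : Subsingleton (Coh.HH X (Coh.structureModule X) 1) :=
    Groth.Agent.Lib.Helper8.CurveRR.subsingleton_of_finrank_eq_zero k hg
  exact Groth.Agent.S6541.result k X hdim h1 _ hA (by simpa using hdegA)

/-- **an integral proper curve of genus zero over an algebraically closed field is smooth** -/
theorem smooth_of_genus_zero [IsAlgClosed k] (hdim : topologicalKrullDim X = 1)
    (hg : Curv2.genus k X = 0) : Smooth (X ↘ Spec (CommRingCat.of k)) := by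
  haveI : IsLocallyNoetherian X := isLocallyNoetherian k X
  obtain ⟨e, -⟩ := exists_iso_P1 k X hdim hg
  have hreg : ∀ y : X, IsRegularLocalRing (X.presheaf.stalk y) := by
    intro y
    apply isRegularLocalRing_of_isIntegrallyClosed hdim.le
    let φ : (CohB1.ProjSpace 1 k).presheaf.stalk (e.hom y) ≃+* X.presheaf.stalk y :=
      (asIso (e.hom.stalkMap y)).commRingCatIsoToRingEquiv
    haveI := Groth.Agent.Lib.Helper8.P1Facts.isIntegrallyClosed_stalk 1 k (e.hom y)
    exact IsIntegrallyClosed.of_equiv φ
  rw [← Scheme.Hom.smoothLocus_eq_top_iff]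
  ext y
  simp only [Opens.coe_top, Set.mem_univ, iff_true]
  exact (Groth.Agent.Lib.Helper5.RegSmoothCore.mem_smoothLocus_iff_regular k X _ y).2 (hreg y)

end Groth.Agent.Lib.Helper8.G0Smooth
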