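import Groth.Agent.Lib.Helper8.MinPtsA
import Groth.Agent.Lib.Helper8.G0Smooth

/-! # Helper8 — on a genus-zero curve over an infinite field there are infinitely many regular closed points of minimal degree -/
set_option autoImplicit false
universe u
open CategoryTheory CategoryTheory.Limits AlgebraicGeometry Opposite TopologicalSpace
noncomputable section

namespace Groth.Agent.Lib.Helper8.MinPtsB

open Groth.Agent.Lib.Helper8.EulerK Groth.Agent.Lib.Helper28 Groth.Agent.Lib.Helper8.KillA
  Groth.Agent.Lib.Helper8.PointDeg Groth.Agent.Lib.Helper8.Vanish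
  Groth.Agent.Lib.Helper8.GGKill Groth.Agent.Lib.Helper8.MinPtsA Groth.Agent.Lib.Helper28.HomMod

variable (k : Type u) [Field k] (X : Scheme.{u}) [X.Over (Spec (CommRingCat.of k))]
  [IsIntegral X] [IsProper (X ↘ Spec (CommRingCat.of k))]

/-- the subspace of classes of sections vanishing at `y` -/
def V (L : X.Modules) (y : X) (hy : IsClosed ({y} : Set X)) : Submodule k (Coh.HH X L 0) :=
  LinearMap.ker (Canon.HHlin k (gy X L y hy) 0)

theorem mem_V_iff (L : X.Modules) (hL : PicF.IsInvertible L) (y : X)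
    (hy : IsClosed ({y} : Set X)) (s : Coh.structureModule X ⟶ L) :
    HHmap s 0 (unitH X) ∈ V k X L y hy ↔ y ∉ CohB1.genLocus L s := by
  rw [← comp_gy_eq_zero_iff k X L hL y hy s]
  unfold V
  rw [LinearMap.mem_ker]
  have h1 : Canon.HHlin k (gy X L y hy) 0 (HHmap s 0 (unitH X)) =
      HHmap (s ≫ gy X L y hy) 0 (unitH X) := (HHmap_comp s (gy X L y hy) 0 (unitH X)).symm
  rw [h1]
  constructor
  · intro h
    apply hom_eq_of_HHmap_unitH_eq
    rw [h, HHmap_zero_unitH]
  · intro h
    rw [h, HHmap_zero_unitH]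

include k in
/-- the non-regular closed points form a finite set -/
theorem sing_finite (hdim : topologicalKrullDim X = 1) :
    ∃ F : Finset X, (∀ z ∈ F, IsClosed ({z} : Set X)) ∧ ∀ y : X, IsClosed ({y} : Set X) →
      ¬ IsRegularLocalRing (X.presheaf.stalk y) → y ∈ F := by
  haveI : IsLocallyNoetherian X := isLocallyNoetherian k X
  obtain ⟨W, ⟨z, hz⟩, hWn⟩ := Groth.Agent.Lib.Helper8.RegPts.exists_open_isIntegrallyClosed k X
  let Z : Closeds X := ⟨(W : Set X)ᶜ, W.isOpen.isClosed_compl⟩
  have hgen : genericPoint X ∈ W := ((genericPoint_spec X).mem_open_set_iff W.2).2 ⟨z, trivial, hz⟩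
  have hsupp : CohB1.support (ClSub.quotMod (Scheme.IdealSheafData.vanishingIdeal Z)) = (W : Set X)ᶜ :=
    Groth.Agent.Lib.Helper6.DevRed.support_quotMod_vanishingIdeal (Z := Z)
  have hpt : ∀ x ∈ CohB1.support (ClSub.quotMod (Scheme.IdealSheafData.vanishingIdeal Z)),
      IsClosed ({x} : Set X) := by
    rw [hsupp]
    intro x hx
    apply Groth.Agent.Lib.Helper8.CurveDeg.isClosed_singleton_of_ne_genericPoint hdim.le
    rintro rfl
    exact hx hgen
  obtain ⟨S, hSc, hS⟩ := Groth.Agent.Lib.Helper8.EffCart.exists_finset_of_closedPoints k X _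
    (Groth.Agent.Lib.Helper6.DevRed.isCoh_quotMod _) hpt
  refine ⟨S, hSc, fun y hyc hyr => ?_⟩
  by_contra hyS
  apply hyr
  have hyW : y ∈ W := by
    by_contra hnW
    apply hyS
    have : y ∈ (S : Set X) := by
      rw [← hS, hsupp]; exact hnW
    exact this
  exact Groth.Agent.Lib.Helper8.G0Smooth.isRegularLocalRing_of_isIntegrallyClosed hdim.le y
    (hWn y hyW)

/-- a regular closed point of minimal degree exists -/
theorem exists_min (hdim : topologicalKrullDim X = 1) :
    ∃ (P : X) (hPc : IsClosed ({P} : Set X)), IsRegularLocalRing (X.presheaf.stalk P) ∧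
      ∀ (Q : X) (hQc : IsClosed ({Q} : Set X)), IsRegularLocalRing (X.presheaf.stalk Q) →
        Module.finrank k (Coh.HH X (ClSub.quotMod (ptI P hPc)) 0) ≤
          Module.finrank k (Coh.HH X (ClSub.quotMod (ptI Q hQc)) 0) := by
  haveI : IsLocallyNoetherian X := isLocallyNoetherian k X
  classical
  let p : ℕ → Prop := fun n => ∃ (Q : X) (hQc : IsClosed ({Q} : Set X)),
    IsRegularLocalRing (X.presheaf.stalk Q) ∧
      Module.finrank k (Coh.HH X (ClSub.quotMod (ptI Q hQc)) 0) = n
  have hex : ∃ n, p n := by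
    obtain ⟨x, -, hxc, hxn⟩ := Groth.Agent.Lib.Helper8.RegPts.exists_closed_point k X ⊤
      ⟨genericPoint X, trivial⟩
    exact ⟨_, x, hxc,
      Groth.Agent.Lib.Helper8.G0Smooth.isRegularLocalRing_of_isIntegrallyClosed hdim.le x hxn, rfl⟩
  obtain ⟨P, hPc, hPr, hPn⟩ := Nat.find_spec hex
  refine ⟨P, hPc, hPr, fun Q hQc hQr => ?_⟩
  rw [hPn]
  exact Nat.find_min' hex ⟨Q, hQc, hQr, rfl⟩

/-- **infinitely many regular closed points of minimal degree** on a genus-zero curve over an
infinite field -/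
theorem infinite_minimal [Infinite k] (hdim : topologicalKrullDim X = 1)
    (h1 : Subsingleton (Coh.HH X (Coh.structureModule X) 1)) :
    {P : X | ∃ hPc : IsClosed ({P} : Set X), IsRegularLocalRing (X.presheaf.stalk P) ∧
      ∀ (Q : X) (hQc : IsClosed ({Q} : Set X)), IsRegularLocalRing (X.presheaf.stalk Q) →
        Module.finrank k (Coh.HH X (ClSub.quotMod (ptI P hPc)) 0) ≤
          Module.finrank k (Coh.HH X (ClSub.quotMod (ptI Q hQc)) 0)}.Infinite := by
  haveI : IsLocallyNoetherian X := isLocallyNoetherian k X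
  haveI : JacobsonSpace X := LocallyOfFiniteType.jacobsonSpace (X ↘ Spec (CommRingCat.of k))
  classical
  intro hfin
  obtain ⟨F, hFc, hF⟩ := sing_finite k X hdim
  obtain ⟨P₀, hP₀c, hP₀r, hmin⟩ := exists_min k X hdim
  have hP₀T : P₀ ∈ hfin.toFinset := hfin.mem_toFinset.2 ⟨hP₀c, hP₀r, hmin⟩
  have hOinv := AmpleUnit.isInvertible_structureModule X
  have hcO := Groth.Agent.Lib.Helper6.K0Op.isCoh_of_isInvertible _ hOinv
  -- closed regular points are Cartier
  have hcart : ∀ (Q : X) (hQ : IsClosed ({Q} : Set X)), IsRegularLocalRing (X.presheaf.stalk Q) →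
      BlowUp.IsEffCartierIdeal (ptI Q hQ) := by
    intro Q hQ hQr
    obtain ⟨h1', h2'⟩ := Groth.Agent.Lib.Helper8.LowDeg.maximalIdeal_isPrincipal_of_regular hdim.le Q
      (Groth.Agent.Lib.Helper8.NormalPt.ne_genericPoint_of_isClosed hdim Q hQ) hQr
    exact Groth.Agent.Lib.Helper8.PointCartier.isEffCartierIdeal_vanishingIdeal_singleton Q hQ h1' h2'
  have hpt : ∀ (Q : X) (hQ : IsClosed ({Q} : Set X)), ∀ z ∈ (ptI Q hQ).support,
      IsClosed ({z} : Set X) := by
    intro Q hQ z hz
    have hz' : z ∈ ((Scheme.IdealSheafData.vanishingIdeal ⟨{Q}, hQ⟩).support : Set X) := hz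
    rw [Scheme.IdealSheafData.coe_support_vanishingIdeal] at hz'
    have : z = Q := hz'
    rw [this]; exact hQ
  -- `L = O(P₀)`
  obtain ⟨hL, hLinv⟩ := Groth.Agent.Lib.Helper8.PointBundle.exists_inverse X _ (hcart P₀ hP₀c hP₀r)
  set L := dual (ClSub.idealMod (ptI P₀ hP₀c)) with hLdef
  have hLc := Groth.Agent.Lib.Helper6.K0Op.isCoh_of_isInvertible _ hL
  set d := Module.finrank k (Coh.HH X (ClSub.quotMod (ptI P₀ hP₀c)) 0) with hd
  have hdpos : 0 < d := Groth.Agent.Lib.Helper8.AbelG1.finrank_quotMod_pos k X P₀ hP₀c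
  have hdegL : Curv2.deg k X L 1 = d :=
    Groth.Agent.Lib.Helper8.PointBundle.deg_inverse k X _ (hpt P₀ hP₀c) _ hL hLinv
  have eO := Groth.Agent.Lib.Helper8.CurveRR.euler_eq_sub k X hdim.le _ hcO.1
  have h1z : Module.finrank k (Coh.HH X (Coh.structureModule X) 1) = 0 :=
    Module.finrank_zero_of_subsingleton
  rw [h1z] at eO
  simp only [Nat.cast_zero, sub_zero] at eO
  have eL := Groth.Agent.Lib.Helper8.CurveRR.euler_eq_sub k X hdim.le L hLc.1
  have hχL : Curv2.euler k X L = d + Curv2.euler k X (Coh.structureModule X) := by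
    unfold Curv2.deg at hdegL
    simp only [Nat.cast_one, one_mul] at hdegL
    linarith
  haveI := finite_HH k X _ hLc 0
  -- the finite set of bad points
  set B : Finset X := hfin.toFinset ∪ F with hB
  have hBc : ∀ y ∈ B, IsClosed ({y} : Set X) := by
    intro y hy
    rcases Finset.mem_union.1 hy with h | h
    · exact (hfin.mem_toFinset.1 h).1
    · exact hFc y h
  -- every class vanishes at some bad point
  have hcover : ∀ a : Coh.HH X L 0, ∃ y : {y // y ∈ B}, a ∈ V k X L y.1 (hBc y.1 y.2) := by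
    intro a
    obtain ⟨s, rfl⟩ := exists_hom_of_H0 L a
    by_cases hs : s = 0
    · refine ⟨⟨P₀, Finset.mem_union_left _ hP₀T⟩, ?_⟩
      rw [mem_V_iff k X L hL, hs, Groth.Agent.Lib.Helper8.AbelG1.genLocus_zero]
      exact fun h => h
    · have hex : ∃ z : X, z ∉ CohB1.genLocus L s := by
        by_contra hcon
        push Not at hcon
        have htop : CohB1.genLocus L s = ⊤ := by
          ext x
          simp only [Opens.coe_top, Set.mem_univ, iff_true]
          exact hcon x
        haveI := Groth.Agent.Lib.Helper8.P1Core.isIso_of_genLocus_eq_top X s htop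
        have h1' := euler_congr k (asIso s)
        omega
      obtain ⟨z, hz⟩ := hex
      have hne : (((CohB1.genLocus L s : X.Opens) : Set X)ᶜ).Nonempty := ⟨z, hz⟩
      obtain ⟨y, hys, hyc⟩ := nonempty_inter_closedPoints hne
        (CohB1.genLocus L s).isOpen.isClosed_compl.isLocallyClosed
      have hyc' : IsClosed ({y} : Set X) := hyc
      have hyB : y ∈ B := by
        by_cases hr : IsRegularLocalRing (X.presheaf.stalk y)
        · apply Finset.mem_union_left
          rw [hfin.mem_toFinset]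
          obtain ⟨⟨t, ht⟩, hχ⟩ := Groth.Agent.Lib.Helper8.TwistPt.twist_zero k X L hL s hs y hyc' hys
          have hIy : PicF.IsInvertible (ClSub.idealMod (ptI y hyc')) :=
            IdealDual.isInvertible_idealMod _ (hcart y hyc' hr)
          have hM' : PicF.IsInvertible (CohB1.tensorMod L (ClSub.idealMod (ptI y hyc'))) :=
            GenLocus.isInvertible_tensorMod hL hIy
          obtain ⟨he, -⟩ := Groth.Agent.Lib.Helper8.CurveDeg.euler_eq_add k X hdim.le _ _ hOinv hM' t ht
          have hle : Module.finrank k (Coh.HH X (ClSub.quotMod (ptI y hyc')) 0) ≤ d := by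
            have : (Module.finrank k (Coh.HH X (ClSub.quotMod (ptI y hyc')) 0) : ℤ) ≤ d := by
              linarith
            exact_mod_cast this
          exact ⟨hyc', hr, fun Q hQc hQr => hle.trans (hmin Q hQc hQr)⟩
        · exact Finset.mem_union_right _ (hF y hyc' hr)
      refine ⟨⟨y, hyB⟩, ?_⟩
      rw [mem_V_iff k X L hL]
      exact hys
  have hcovers : ⋃ y : {y // y ∈ B}, ((V k X L y.1 (hBc y.1 y.2) : Submodule k (Coh.HH X L 0)) : Set (Coh.HH X L 0)) = Set.univ := by
    rw [Set.eq_univ_iff_forall]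
    intro a
    obtain ⟨y, hy⟩ := hcover a
    exact Set.mem_iUnion.2 ⟨y, hy⟩
  obtain ⟨⟨y, hyB⟩, hytop⟩ := Subspace.exists_eq_top_of_iUnion_eq_univ hcovers
  -- but some section does not vanish at `y`
  have hsec : ∃ s : Coh.structureModule X ⟶ L, y ∈ CohB1.genLocus L s := by
    by_cases hyP : y = P₀
    · rw [hyP]
      apply Groth.Agent.Lib.Helper8.G1Gen.exists_section_of_hh_lt k X L hL P₀ hP₀c
      obtain ⟨e⟩ := hLinv
      rw [hh_congr k e 0]
      unfold hh
      have : (Module.finrank k (Coh.HH X (Coh.structureModule X) 0) : ℤ) <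
          Module.finrank k (Coh.HH X L 0) := by
        have : (0 : ℤ) < d := by exact_mod_cast hdpos
        have h1nn : (0 : ℤ) ≤ Module.finrank k (Coh.HH X L 1) := Int.natCast_nonneg _
        linarith
      exact_mod_cast this
    · refine ⟨IdealDual.tI (ptI P₀ hP₀c), ?_⟩
      rw [IdealDual.genLocus_tI _ (hcart P₀ hP₀c hP₀r)]
      show y ∈ ((ptI P₀ hP₀c).support : Set X)ᶜ
      rw [Scheme.IdealSheafData.coe_support_vanishingIdeal]
      exact hyP
  obtain ⟨s, hs⟩ := hsec
  have hmem : HHmap s 0 (unitH X) ∈ V k X L y (hBc y hyB) := by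
    rw [hytop]; trivial
  rw [mem_V_iff k X L hL] at hmem
  exact hmem hs

end Groth.Agent.Lib.Helper8.MinPtsB
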