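import Mathlib
import Groth.Agent.Lib.Helper8.ClifD
import Groth.Agent.Lib.Helper8.MinPtsB
import Groth.Agent.Lib.Helper8.CompSec
import Groth.Agent.Lib.Helper28.SecPow

/-! # Helper8 — ClifG: `h⁰(L) + h⁰(L') ≤ h⁰(L ⊗ L') + 1` for invertible modules with nonzero sections on a
regular integral proper curve over an algebraically closed field (induction by twisting down at a
common non-base point; no Hopf lemma) -/
set_option autoImplicit false
universe u
open CategoryTheory CategoryTheory.Limits AlgebraicGeometry Opposite TopologicalSpace MonoidalCategory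
noncomputable section

namespace Groth.Agent.Lib.Helper8.ClifG

open Groth.Agent.Lib.Helper8.EulerK Groth.Agent.Lib.Helper8.KillA
  Groth.Agent.Lib.Helper8.PointDeg Groth.Agent.Lib.Helper8.ClifA Groth.Agent.Lib.Helper8.ClifB
  Groth.Agent.Lib.Helper8.ClifC Groth.Agent.Lib.Helper8.ClifD
  Groth.Agent.Lib.Helper8.PicCl Groth.Agent.Lib.Helper28 Groth.Agent.Lib.Helper8.MinPtsA
  Groth.Agent.Lib.Helper8.MinPtsB Groth.Agent.Lib.Helper2.SerreFin1

attribute [local instance] Groth.Agent.Lib.Helper8.PicCl.commMonoid

variable (k : Type u) [Field k] (X : Scheme.{u}) [X.Over (Spec (CommRingCat.of k))]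
  [IsIntegral X] [IsProper (X ↘ Spec (CommRingCat.of k))]

/-- a point at which some section generates is not a base point -/
theorem not_BP_of_mem_genLocus (L : X.Modules) (hL : PicF.IsInvertible L)
    (s : Coh.structureModule X ⟶ L) (p : X) (hp : IsClosed ({p} : Set X))
    (h : p ∈ CohB1.genLocus L s) : ¬ BP k X L p hp := by
  intro hbp
  have hV : HHmap s 0 (unitH X) ∈ V k X L p hp := by
    unfold V
    rw [LinearMap.mem_ker]
    unfold gy
    rw [← HHlin_comp_apply]
    have hz : rmap k X L p hp = 0 := hbp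
    exact LinearMap.congr_fun hz _
  exact (mem_V_iff k X L hL p hp s).1 hV h

variable [IsAlgClosed k]

/-- `h⁰(L) + h⁰(L') ≤ h⁰(L ⊗ L') + 1` -/
theorem h0_add_le (hdim : topologicalKrullDim X = 1)
    (hreg : ∀ x : X, IsRegularLocalRing (X.presheaf.stalk x)) :
    ∀ (n : ℕ) (L L' : X.Modules), PicF.IsInvertible L → PicF.IsInvertible L' →
      1 ≤ hh k L 0 → hh k L' 0 = n + 1 →
      hh k L 0 + (n + 1) ≤ hh k (CohB1.tensorMod L L') 0 + 1 := by
  haveI : IsLocallyNoetherian X := isLocallyNoetherian k X
  intro n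
  induction n with
  | zero =>
    intro L L' hL hL' h0 hn
    have hcL' := Groth.Agent.Lib.Helper6.K0Op.isCoh_of_isInvertible _ hL'
    have hnt : Nontrivial (Coh.HH X L' 0) := by
      haveI := finite_HH k X _ hcL' 0
      exact Module.nontrivial_of_finrank_pos (R := k) (by unfold hh at hn; omega)
    obtain ⟨t, ht⟩ := Groth.Agent.Lib.Helper8.CurveRR.exists_section_ne_zero _ hnt
    have hO := AmpleUnit.isInvertible_structureModule X
    haveI : Mono t := Groth.Agent.Lib.Helper8.CurveInv.mono_of_ne_zero hO hL' t ht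
    let S : ShortComplex X.Modules := ShortComplex.mk t (cokernel.π t) (cokernel.condition t)
    have hS : S.ShortExact :=
      { exact := ShortComplex.exact_cokernel t
        mono_f := inferInstanceAs (Mono t)
        epi_g := inferInstanceAs (Epi (cokernel.π t)) }
    have hT := Groth.Agent.Lib.Helper6.K0Op.shortExact_tensor_of_flat L
      (Groth.Agent.Lib.Helper6.K0Op.isFlat_of_isInvertible L hL) S hS
    haveI : Mono ((DCoh.tensorBi.obj L).map t) := hT.mono_f
    have hinj := HHlin_zero_injective_of_mono k ((DCoh.tensorBi.obj L).map t)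
    obtain ⟨u⟩ := AmpleUnit.nonempty_tensor_unit_iso L
    have hu := hh_congr k u 0
    have hD := GenLocus.isInvertible_tensorMod hL hL'
    have hcD := Groth.Agent.Lib.Helper6.K0Op.isCoh_of_isInvertible _ hD
    haveI : Module.Finite k (Coh.HH X ((DCoh.tensorBi.obj L).obj L') 0) := finite_HH k X _ hcD 0
    have hle := LinearMap.finrank_le_finrank_of_injective hinj
    have hle' : hh k (CohB1.tensorMod L (Coh.structureModule X)) 0 ≤ hh k (CohB1.tensorMod L L') 0 := hle
    omega
  | succ n ih =>
    intro L L' hL hL' h0 hn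
    have hcL := Groth.Agent.Lib.Helper6.K0Op.isCoh_of_isInvertible _ hL
    have hcL' := Groth.Agent.Lib.Helper6.K0Op.isCoh_of_isInvertible _ hL'
    have hnt : Nontrivial (Coh.HH X L 0) := by
      haveI := finite_HH k X _ hcL 0
      exact Module.nontrivial_of_finrank_pos (R := k) (by unfold hh at h0; omega)
    have hnt' : Nontrivial (Coh.HH X L' 0) := by
      haveI := finite_HH k X _ hcL' 0
      exact Module.nontrivial_of_finrank_pos (R := k) (by unfold hh at hn; omega)
    obtain ⟨s, hs⟩ := Groth.Agent.Lib.Helper8.CurveRR.exists_section_ne_zero _ hnt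
    obtain ⟨t, ht⟩ := Groth.Agent.Lib.Helper8.CurveRR.exists_section_ne_zero _ hnt'
    have hWs : ((CohB1.genLocus L s : X.Opens) : Set X).Nonempty := by
      rw [Set.nonempty_iff_ne_empty]
      intro he
      apply hs
      apply Groth.Agent.Lib.Helper8.CompSec.eq_zero_of_genLocus_eq_bot hL s
      ext z
      simp [he]
    have hWt : ((CohB1.genLocus L' t : X.Opens) : Set X).Nonempty := by
      rw [Set.nonempty_iff_ne_empty]
      intro he
      apply ht
      apply Groth.Agent.Lib.Helper8.CompSec.eq_zero_of_genLocus_eq_bot hL' t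
      ext z
      simp [he]
    have hW : ((CohB1.genLocus L s ⊓ CohB1.genLocus L' t : X.Opens) : Set X).Nonempty :=
      nonempty_preirreducible_inter (CohB1.genLocus L s).2 (CohB1.genLocus L' t).2 hWs hWt
    obtain ⟨p, hpW, hp, -⟩ := Groth.Agent.Lib.Helper8.RegPts.exists_closed_point k X _ hW
    have hD := GenLocus.isInvertible_tensorMod hL hL'
    have nb' := not_BP_of_mem_genLocus k X L' hL' t p hp hpW.2
    have nbD : ¬ BP k X (CohB1.tensorMod L L') p hp := by
      apply not_BP_of_mem_genLocus k X _ hD (GenLocus.smulSec s t) p hp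
      rw [GenLocus.genLocus_smulSec hL hL']
      exact hpW
    obtain ⟨a0, -⟩ := (twist_numbers k X L' hL' p hp hdim).2 nb'
    obtain ⟨b0, -⟩ := (twist_numbers k X _ hD p hp hdim).2 nbD
    obtain ⟨hIp, -⟩ := point_data X hdim p hp (hreg p)
    have hL'' := GenLocus.isInvertible_tensorMod hL' hIp
    have hDD : PicF.cl (CohB1.tensorMod L (CohB1.tensorMod L' (ClSub.idealMod (ptI p hp)))) =
        PicF.cl (CohB1.tensorMod (CohB1.tensorMod L L') (ClSub.idealMod (ptI p hp))) := by
      rw [← cl_mul_cl, ← cl_mul_cl, ← cl_mul_cl, ← cl_mul_cl, mul_assoc]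
    rw [cl_eq_iff] at hDD
    obtain ⟨eD⟩ := hDD
    have eD0 := hh_congr k eD 0
    have key := ih L (CohB1.tensorMod L' (ClSub.idealMod (ptI p hp))) hL hL'' h0 (by omega)
    omega

end Groth.Agent.Lib.Helper8.ClifG
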