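import Mathlib
import Groth.Agent.Lib.Helper8.ClifG
import Groth.Agent.Lib.Helper8.ClifE
import Groth.Agent.Lib.Helper8.DegGroup
import Groth.Agent.Lib.Helper8.InvInverse

/-! # Helper8 — ClifH: numerics of a base-point-free `g¹₅` on a genus-9 curve of Clifford index `3`:
`h⁰(D²) ∈ {3,4}`, `h⁰(D³) ∈ {7,8}`, and `h⁰(D²) = 3 → h⁰(D³) = 7` (Riemann–Roch, Clifford index,
`h⁰` superadditivity and the duality-free Clifford-type inequality) -/
set_option autoImplicit false
universe u
open CategoryTheory CategoryTheory.Limits AlgebraicGeometry Opposite TopologicalSpace MonoidalCategory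
noncomputable section

namespace Groth.Agent.Lib.Helper8.ClifH

open Groth.Agent.Lib.Helper8.EulerK Groth.Agent.Lib.Helper8.ClifD Groth.Agent.Lib.Helper8.ClifE
  Groth.Agent.Lib.Helper8.ClifG Groth.Agent.Lib.Helper8.PicCl Groth.Agent.Lib.Helper28
  Groth.Agent.Lib.Helper8.DegGroup

attribute [local instance] Groth.Agent.Lib.Helper8.PicCl.commMonoid

variable (k : Type u) [Field k] (X : Scheme.{u}) [X.Over (Spec (CommRingCat.of k))]
  [IsIntegral X] [IsProper (X ↘ Spec (CommRingCat.of k))] [IsAlgClosed k]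

theorem g15_numerics (hdim : topologicalKrullDim X = 1)
    (hreg : ∀ x : X, IsRegularLocalRing (X.presheaf.stalk x)) (hg : Curv2.genus k X = 9)
    (hmin : ∀ M : X.Modules, PicF.IsInvertible M → 2 ≤ Module.finrank k (Coh.HH X M 0) →
      2 ≤ Module.finrank k (Coh.HH X M 1) →
      2 * (Module.finrank k (Coh.HH X M 0) : ℤ) + 1 ≤ Curv2.deg k X M 1)
    (D : X.Modules) (hD : PicF.IsInvertible D)
    (hdD : Curv2.deg k X D 1 = 5) (h0D : Module.finrank k (Coh.HH X D 0) = 2) :
    (Module.finrank k (Coh.HH X (CohB1.tensorPow D 2) 0) = 3 ∨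
        Module.finrank k (Coh.HH X (CohB1.tensorPow D 2) 0) = 4) ∧
      (Module.finrank k (Coh.HH X (CohB1.tensorPow D 3) 0) = 7 ∨
        Module.finrank k (Coh.HH X (CohB1.tensorPow D 3) 0) = 8) ∧
      (Module.finrank k (Coh.HH X (CohB1.tensorPow D 2) 0) = 3 →
        Module.finrank k (Coh.HH X (CohB1.tensorPow D 3) 0) = 7) := by
  have hO := AmpleUnit.isInvertible_structureModule X
  have hT1 : PicF.IsInvertible (CohB1.tensorPow D 1) := GenLocus.isInvertible_tensorPow hD 1
  have hT2 : PicF.IsInvertible (CohB1.tensorPow D 2) := GenLocus.isInvertible_tensorPow hD 2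
  have hT3 : PicF.IsInvertible (CohB1.tensorPow D 3) := GenLocus.isInvertible_tensorPow hD 3
  -- `D^{⊗1} ≅ D`
  have hc1 : PicF.cl (CohB1.tensorPow D 1) = PicF.cl D := by
    change PicF.cl (CohB1.tensorMod (Coh.structureModule X) D) = _
    rw [← cl_mul_cl, ← one_def, one_mul]
  rw [cl_eq_iff] at hc1
  obtain ⟨e1⟩ := hc1
  have h01 : hh k (CohB1.tensorPow D 1) 0 = 2 := (hh_congr k e1 0).trans h0D
  -- degrees
  have d1 : Curv2.deg k X (CohB1.tensorPow D 1) 1 = 5 := by
    have := deg_tensorMod k X hdim.le hO hD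
    rw [Groth.Agent.Lib.Helper8.CurveDeg.deg_structureModule, hdD] at this
    have h : Curv2.deg k X (CohB1.tensorMod (Coh.structureModule X) D) 1 = 5 := by
      rw [this]; norm_num
    exact h
  have d2 : Curv2.deg k X (CohB1.tensorPow D 2) 1 = 10 := by
    have := deg_tensorMod k X hdim.le hT1 hD
    rw [d1, hdD] at this
    have h : Curv2.deg k X (CohB1.tensorMod (CohB1.tensorPow D 1) D) 1 = 10 := by
      rw [this]; norm_num
    exact h
  have d3 : Curv2.deg k X (CohB1.tensorPow D 3) 1 = 15 := by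
    have := deg_tensorMod k X hdim.le hT2 hD
    rw [d2, hdD] at this
    have h : Curv2.deg k X (CohB1.tensorMod (CohB1.tensorPow D 2) D) 1 = 15 := by
      rw [this]; norm_num
    exact h
  have r2 := deg_eq k X hdim _ hT2
  have r3 := deg_eq k X hdim _ hT3
  rw [d2, hg] at r2
  rw [d3, hg] at r3
  have m2 := hmin _ hT2
  have m3 := hmin _ hT3
  rw [d2] at m2
  rw [d3] at m3
  -- superadditivity
  have s2 : hh k (CohB1.tensorPow D 1) 0 + (1 + 1) ≤ hh k (CohB1.tensorPow D 2) 0 + 1 :=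
    h0_add_le k X hdim hreg 1 _ D hT1 hD (by omega) (by exact h0D)
  have s2' : hh k (CohB1.tensorPow D 1) 0 + (1 + 1) ≤ hh k (CohB1.tensorMod (CohB1.tensorPow D 1) D) 0 + 1 := s2
  unfold hh at r2 r3 s2 h01
  push_cast at r2 r3
  -- first claim
  have c2 : Module.finrank k (Coh.HH X (CohB1.tensorPow D 2) 0) = 3 ∨
      Module.finrank k (Coh.HH X (CohB1.tensorPow D 2) 0) = 4 := by
    by_contra hcon
    have h5 : 5 ≤ Module.finrank k (Coh.HH X (CohB1.tensorPow D 2) 0) := by omega
    have := m2 (by omega) (by omega)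
    omega
  -- second claim
  have c3 : Module.finrank k (Coh.HH X (CohB1.tensorPow D 3) 0) = 7 ∨
      Module.finrank k (Coh.HH X (CohB1.tensorPow D 3) 0) = 8 := by
    by_contra hcon
    have h9 : 2 ≤ Module.finrank k (Coh.HH X (CohB1.tensorPow D 3) 1) := by omega
    have := m3 (by omega) h9
    omega
  refine ⟨c2, c3, fun h23 => ?_⟩
  -- third claim via the Clifford-type inequality with `P = D²`
  by_contra hcon
  have h31 : 1 ≤ hh k (CohB1.tensorPow D 3) 1 := by unfold hh; omega
  obtain ⟨J, hJ, hJinv⟩ := Groth.Agent.Lib.Helper8.InvInverse.exists_isInverseOf hT2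
  have hPJ : PicF.cl (CohB1.tensorPow D 2) * PicF.cl J = 1 := by
    rw [mul_comm]; exact (isInverseOf_iff J _).1 hJinv
  have hMJ : PicF.cl (CohB1.tensorMod (CohB1.tensorPow D 3) J) = PicF.cl D := by
    change PicF.cl (CohB1.tensorMod (CohB1.tensorMod (CohB1.tensorPow D 2) D) J) = _
    rw [← cl_mul_cl, ← cl_mul_cl, mul_right_comm, hPJ, one_mul]
  rw [cl_eq_iff] at hMJ
  obtain ⟨eMJ⟩ := hMJ
  have e0 := hh_congr k eMJ 0
  have key := clifford_general k X hdim hreg _ (CohB1.tensorPow D 3) J (CohB1.tensorPow D 2)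
    hT3 hJ hT2 hPJ rfl (by unfold hh at e0 ⊢; omega) h31
  unfold hh at key e0 h31
  omega

end Groth.Agent.Lib.Helper8.ClifH
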