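import Groth.Agent.Lib.Helper8.Cyl

/-!
# Helper8: factorization of a morphism of complexes through `K ⊞ Cone(𝟙 (L⟦-1⟧))` (S6599)
-/

universe v u

open CategoryTheory CategoryTheory.Limits CategoryTheory.Category CochainComplex HomologicalComplex
  HomComplex

namespace Groth.Agent.Lib.Helper8.Cocyl

set_option linter.unusedSimpArgs false

set_option linter.unusedSectionVars false

open Groth.Agent.Lib.Helper8.Cyl

section Generic

variable {W : Type*} [Category W] [Preadditive W] [HasBinaryBiproducts W]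

lemma split_aux {Kn Cn Mn Ln B : W} (pK : B ⟶ Kn) (pC : B ⟶ Cn) (iK : Kn ⟶ B) (iC : Cn ⟶ B)
    (hKK : iK ≫ pK = 𝟙 _) (hCC : iC ≫ pC = 𝟙 _) (hKC : iK ≫ pC = 0) (hCK : iC ≫ pK = 0)
    (htot : pK ≫ iK + pC ≫ iC = 𝟙 _)
    (s : Cn ⟶ Mn) (q : Cn ⟶ Ln) (b : Mn ⟶ Cn) (σ : Ln ⟶ Cn)
    (bs : b ≫ s = 𝟙 _) (σq : σ ≫ q = 𝟙 _) (bq : b ≫ q = 0) (σs : σ ≫ s = 0)
    (tot : s ≫ b + q ≫ σ = 𝟙 _) (α : Kn ⟶ Ln) :
    ∃ (C : W) (e : B ≅ C ⊞ Ln), e.inv ≫ (pK ≫ α + pC ≫ q) = biprod.snd := by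
  refine ⟨Kn ⊞ Mn, ⟨biprod.lift (biprod.lift pK (pC ≫ s)) (pK ≫ α + pC ≫ q),
    biprod.desc (biprod.desc (iK - α ≫ σ ≫ iC) (b ≫ iC)) (σ ≫ iC), ?_, ?_⟩, ?_⟩
  · rw [biprod.lift_desc, biprod.lift_desc]
    have h1 : pK ≫ (iK - α ≫ σ ≫ iC) + (pC ≫ s) ≫ b ≫ iC + (pK ≫ α + pC ≫ q) ≫ σ ≫ iC =
        pK ≫ iK + pC ≫ (s ≫ b + q ≫ σ) ≫ iC := by
      simp only [Preadditive.comp_sub, Preadditive.add_comp, Preadditive.comp_add, assoc]
      abel
    rw [h1, tot, id_comp, htot]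
  · ext <;> simp [hKK, hCC, hKC, hCK, reassoc_of% hKK, reassoc_of% hCC, reassoc_of% hKC,
      reassoc_of% hCK, bs, σq, bq, σs]
  · ext <;> simp [hKK, hCC, hKC, hCK, reassoc_of% hKK, reassoc_of% hCC, reassoc_of% hKC,
      reassoc_of% hCK, bs, σq, bq, σs]

end Generic

variable {V : Type u} [Category.{v} V] [Preadditive V] [HasBinaryBiproducts V] [HasZeroObject V]
  (K L : CochainComplex V ℤ) (α : K ⟶ L)

/-- the shifted complex `L⟦-1⟧` -/
noncomputable abbrev M : CochainComplex V ℤ := L⟦(-1 : ℤ)⟧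

/-- the contractible complex -/
noncomputable abbrev CC : CochainComplex V ℤ := mappingCone (𝟙 (M L))

/-- `L⟦-1⟧⟦1⟧ ≅ L` -/
noncomputable def ψ : (M L)⟦(1 : ℤ)⟧ ≅ L :=
  show (CategoryTheory.shiftFunctor (CochainComplex V ℤ) (-1 : ℤ) ⋙
      CategoryTheory.shiftFunctor (CochainComplex V ℤ) (1 : ℤ)).obj L ≅
      (𝟭 (CochainComplex V ℤ)).obj L from
    (shiftFunctorCompIsoId (CochainComplex V ℤ) (-1) 1 (by norm_num)).app L

/-- the connecting map of the cone -/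
noncomputable def δ : CC L ⟶ (M L)⟦(1 : ℤ)⟧ := (mappingCone.triangle (𝟙 (M L))).mor₃

/-- the termwise split epimorphism from the contractible complex -/
noncomputable def q : CC L ⟶ L := δ L ≫ (ψ L).hom

section Split

variable (n : ℤ)

/-- the comparison iso on terms -/
noncomputable def θ : ((M L)⟦(1 : ℤ)⟧).X n ≅ (M L).X (n + 1) :=
  (M L).shiftFunctorObjXIso 1 n (n + 1) rfl

/-- the termwise section of `q` -/
noncomputable def σ : L.X n ⟶ (CC L).X n :=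
  -((ψ L).inv.f n ≫ (θ L n).hom ≫ (mappingCone.inl (𝟙 (M L))).v (n + 1) n (by omega))

lemma ψ_inv_hom_f : (ψ L).inv.f n ≫ (ψ L).hom.f n = 𝟙 _ := by
  rw [← HomologicalComplex.comp_f, Iso.inv_hom_id, HomologicalComplex.id_f]

lemma inl_δ : (mappingCone.inl (𝟙 (M L))).v (n + 1) n (by omega) ≫ (δ L).f n = -(θ L n).inv :=
  mappingCone.inl_v_triangle_mor₃_f (𝟙 (M L)) (n + 1) n (by omega)

lemma inr_δ : (mappingCone.inr (𝟙 (M L))).f n ≫ (δ L).f n = 0 :=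
  mappingCone.inr_f_triangle_mor₃_f (𝟙 (M L)) n

lemma σ_q : σ L n ≫ (q L).f n = 𝟙 _ := by
  have h' := inl_δ L n
  rw [σ, q, HomologicalComplex.comp_f, Preadditive.neg_comp, assoc, assoc, ← assoc _ _ ((ψ L).hom.f n),
    h', Preadditive.neg_comp, Preadditive.comp_neg, Preadditive.comp_neg, neg_neg,
    Iso.hom_inv_id_assoc, ψ_inv_hom_f]

lemma inr_q : (mappingCone.inr (𝟙 (M L))).f n ≫ (q L).f n = 0 := by
  rw [q, HomologicalComplex.comp_f, ← assoc, inr_δ, zero_comp]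

lemma σ_snd : σ L n ≫ (mappingCone.snd (𝟙 (M L))).v n n (add_zero n) = 0 := by
  rw [σ, Preadditive.neg_comp, assoc, assoc, mappingCone.inl_v_snd_v, comp_zero, comp_zero,
    neg_zero]

lemma q_f : (q L).f n = -((mappingCone.fst (𝟙 (M L))).1.v n (n + 1) rfl ≫ (θ L n).inv ≫
    (ψ L).hom.f n) := by
  have h' := inl_δ L n
  have h2 : (q L).f n = 𝟙 _ ≫ (q L).f n := (id_comp _).symm
  rw [h2, ← mappingCone.id_X (𝟙 (M L)) n (n + 1) rfl, Preadditive.add_comp, assoc, assoc, inr_q,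
    comp_zero, add_zero, q, HomologicalComplex.comp_f, ← assoc _ _ ((ψ L).hom.f n), h',
    Preadditive.neg_comp, Preadditive.comp_neg]

lemma tot : (mappingCone.snd (𝟙 (M L))).v n n (add_zero n) ≫ (mappingCone.inr (𝟙 (M L))).f n +
    (q L).f n ≫ σ L n = 𝟙 _ := by
  rw [q_f, σ, Preadditive.neg_comp, Preadditive.comp_neg, neg_neg, assoc, assoc,
    ← assoc ((ψ L).hom.f n), ← HomologicalComplex.comp_f, Iso.hom_inv_id, HomologicalComplex.id_f,
    id_comp, Iso.inv_hom_id_assoc, add_comm]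
  exact mappingCone.id_X (𝟙 (M L)) n (n + 1) rfl

end Split

/-- the factorization object -/
noncomputable abbrev K' : CochainComplex V ℤ := cyl (M L) K

variable {K L} in
/-- the termwise split epimorphism -/
noncomputable def α' : K' K L ⟶ L := biprod.desc α (q L)

lemma α'_f (n : ℤ) : (α' α).f n =
    (biprod.fst : K ⊞ CC L ⟶ K).f n ≫ α.f n + (biprod.snd : K ⊞ CC L ⟶ CC L).f n ≫ (q L).f n := by
  have h : α' α = biprod.fst ≫ α + biprod.snd ≫ q L := biprod.desc_eq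
  rw [h]
  rfl

lemma exists_split (n : ℤ) :
    ∃ (C : V) (e : (K' K L).X n ≅ C ⊞ L.X n), e.inv ≫ (α' α).f n = biprod.snd := by
  rw [α'_f]
  exact split_aux _ _ ((biprod.inl : K ⟶ K ⊞ CC L).f n) ((biprod.inr : CC L ⟶ K ⊞ CC L).f n)
    (biprod_inl_fst_f _ _ n) (biprod_inr_snd_f _ _ n) (biprod_inl_snd_f _ _ n)
    (biprod_inr_fst_f _ _ n) (biprod_total_f _ _ n)
    ((mappingCone.snd (𝟙 (M L))).v n n (add_zero n)) ((q L).f n)
    ((mappingCone.inr (𝟙 (M L))).f n) (σ L n)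
    (mappingCone.inr_f_snd_v _ n) (σ_q L n) (inr_q L n) (σ_snd L n) (tot L n) (α.f n)

lemma K'_isStrictlyGE (a : ℤ) [K.IsStrictlyGE a] [L.IsStrictlyGE a] :
    (K' K L).IsStrictlyGE a := by
  rw [isStrictlyGE_iff]
  intro i hi
  exact isZero_cyl_X (M L) K i (K.isZero_of_isStrictlyGE a i hi)
    (L.isZero_of_isStrictlyGE a (i + -1) (by omega))
    (L.isZero_of_isStrictlyGE a (i + 1 + -1) (by omega))

lemma K'_isStrictlyLE (a : ℤ) [K.IsStrictlyLE a] [L.IsStrictlyLE a] :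
    (K' K L).IsStrictlyLE (a + 1) := by
  rw [isStrictlyLE_iff]
  intro i hi
  exact isZero_cyl_X (M L) K i (K.isZero_of_isStrictlyLE a i (by omega))
    (L.isZero_of_isStrictlyLE a (i + -1) (by omega))
    (L.isZero_of_isStrictlyLE a (i + 1 + -1) (by omega))

/-- S6599 -/
theorem exists_termwise_split_surjective_factorization :
    ∃ (K' : CochainComplex V ℤ) (i : K ⟶ K') (α' : K' ⟶ L) (s : K' ⟶ K),
      i ≫ α' = α ∧ i ≫ s = 𝟙 K ∧ Nonempty (Homotopy (s ≫ i) (𝟙 K')) ∧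
      (∀ n : ℤ, ∃ (C : V) (e : K'.X n ≅ C ⊞ L.X n), e.inv ≫ α'.f n = biprod.snd) ∧
      (∀ a : ℤ, K.IsStrictlyGE a → L.IsStrictlyGE a → ∃ a' : ℤ, K'.IsStrictlyGE a') ∧
      (∀ a : ℤ, K.IsStrictlyLE a → L.IsStrictlyLE a → ∃ a' : ℤ, K'.IsStrictlyLE a') :=
  ⟨K' K L, cyls (M L) K, α' α, cylπ (M L) K, biprod.inl_desc _ _, cyls_π (M L) K,
    ⟨cylHomotopy (M L) K⟩, exists_split K L α, fun a _ _ => ⟨a, K'_isStrictlyGE K L a⟩,
    fun a _ _ => ⟨a + 1, K'_isStrictlyLE K L a⟩⟩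

end Groth.Agent.Lib.Helper8.Cocyl
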