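import Groth.Agent.Lib.Helper8.Compact2
import Groth.Agent.S7881
import Mathlib

/-!
# Compact objects and adjunctions (Neeman): `G` preserves coproducts iff `F` preserves compactness
on a generating family.
-/

set_option autoImplicit false
set_option linter.unusedSectionVars false
set_option linter.style.haveILetI false

universe v u u'

open CategoryTheory CategoryTheory.Limits CategoryTheory.Pretriangulated

namespace Groth.Agent.Lib.Helper8.CompactAdj

open Groth.Agent.Lib.Helper8.Compact

variable {D : Type u} [Category.{v} D] [Preadditive D] [HasZeroObject D] [HasShift D ℤ]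
  [∀ n : ℤ, (shiftFunctor D n).Additive] [Pretriangulated D] [HasCoproducts.{v} D]
  {E : Type u'} [Category.{v} E] [Preadditive E] [HasZeroObject E] [HasShift E ℤ]
  [∀ n : ℤ, (shiftFunctor E n).Additive] [Pretriangulated E] [HasCoproducts.{v} E]

lemma isCompact_of_cS {K : D}
    (hK : ∀ (κ : Type v) (X : κ → D) (θ : K ⟶ ∐ X), ∃ S : Finset κ, θ ≫ cS X S = 0) :
    CohDer.IsCompactObject K := by
  classical
  intro κ X
  refine ⟨homSumToHomCoprod_injective K X, fun θ => ?_⟩
  obtain ⟨S, hS⟩ := hK κ X θ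
  exact ⟨_, (homSumToHomCoprod_sum K X θ S).trans (eq_comp_eS_of_comp_cS_eq_zero X θ S hS)⟩

lemma exists_cS_of_isCompact {K : D} (hK : CohDer.IsCompactObject K) {κ : Type v} (X : κ → D)
    (θ : K ⟶ ∐ X) : ∃ S : Finset κ, θ ≫ cS X S = 0 := by
  obtain ⟨x, rfl⟩ := (hK κ X).2 θ
  exact exists_cS_of_directSum K X x

lemma isCompact_of_iso {K K' : D} (e : K ≅ K') (hK : CohDer.IsCompactObject K) :
    CohDer.IsCompactObject K' := by
  refine isCompact_of_cS (fun κ X θ => ?_)
  obtain ⟨S, hS⟩ := exists_cS_of_isCompact hK X (e.hom ≫ θ)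
  exact ⟨S, by rw [← cancel_epi e.hom, comp_zero, ← Category.assoc, hS]⟩

lemma isCompact_shift {K : D} (hK : CohDer.IsCompactObject K) (m : ℤ) :
    CohDer.IsCompactObject (K⟦m⟧) :=
  isCompactObject_of_FF ((FF (D := D)).le_shift m _ (FF_of_isCompactObject hK))

section

variable (G : E ⥤ D) [G.Additive] {κ : Type v} (Y : κ → E)

lemma sigmaComparison_comp_map_cS (S : Finset κ) :
    sigmaComparison G Y ≫ G.map (cS Y S) = cS (fun j => G.obj (Y j)) S ≫ sigmaComparison G Y := by
  classical
  apply Sigma.hom_ext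
  intro j
  rw [ι_comp_sigmaComparison_assoc, ← G.map_comp, ι_cS, ι_cS_assoc]
  split_ifs
  · simp
  · simp

open Classical in
/-- partial inverse of the comparison map -/
noncomputable def rS (S : Finset κ) : G.obj (∐ Y) ⟶ ∐ (fun j => G.obj (Y j)) :=
  ∑ j ∈ S, G.map (Sigma.π Y j) ≫ Sigma.ι (fun j => G.obj (Y j)) j

lemma rS_comp_sigmaComparison (S : Finset κ) :
    rS G Y S ≫ sigmaComparison G Y = G.map (eS Y S) := by
  classical
  simp only [rS, eS, Preadditive.sum_comp, Category.assoc, ι_comp_sigmaComparison, G.map_sum,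
    G.map_comp]

lemma sigmaComparison_comp_rS (S : Finset κ) :
    sigmaComparison G Y ≫ rS G Y S = eS (fun j => G.obj (Y j)) S := by
  classical
  apply Sigma.hom_ext
  intro k
  rw [ι_comp_sigmaComparison_assoc, ι_eS]
  simp only [rS, Preadditive.comp_sum]
  split_ifs with h
  · rw [Finset.sum_eq_single k]
    · rw [← G.map_comp_assoc, Sigma.ι_π_eq_id, G.map_id, Category.id_comp]
    · intro b _ hb
      rw [← G.map_comp_assoc, Sigma.ι_π_of_ne Y (Ne.symm hb), G.map_zero, zero_comp]
    · intro hk
      exact absurd h hk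
  · apply Finset.sum_eq_zero
    intro b hb
    have : k ≠ b := fun e => h (e ▸ hb)
    rw [← G.map_comp_assoc, Sigma.ι_π_of_ne Y this, G.map_zero, zero_comp]

end

variable {F : D ⥤ E} {G : E ⥤ D} (adj : F ⊣ G) [F.Additive]

include adj

lemma bijective_comp_sigmaComparison {T : D} (hT : CohDer.IsCompactObject T)
    (hFT : CohDer.IsCompactObject (F.obj T)) {κ : Type v} (Y : κ → E) :
    Function.Bijective
      (fun g : T ⟶ ∐ (fun j => G.obj (Y j)) => g ≫ sigmaComparison G Y) := by
  haveI : G.Additive := adj.right_adjoint_additive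
  constructor
  · intro g g' h
    dsimp at h
    have h0 : (g - g') ≫ sigmaComparison G Y = 0 := by rw [Preadditive.sub_comp, h, sub_self]
    obtain ⟨S, hS⟩ := exists_cS_of_isCompact hT _ (g - g')
    have h1 := eq_comp_eS_of_comp_cS_eq_zero _ (g - g') S hS
    rw [← sigmaComparison_comp_rS G Y S, ← Category.assoc, h0, zero_comp] at h1
    exact sub_eq_zero.1 h1.symm
  · intro h
    obtain ⟨S, hS⟩ := exists_cS_of_isCompact hFT Y ((adj.homEquiv _ _).symm h)
    have h1 := eq_comp_eS_of_comp_cS_eq_zero Y _ S hS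
    refine ⟨h ≫ rS G Y S, ?_⟩
    dsimp
    rw [Category.assoc, rS_comp_sigmaComparison]
    have := congrArg (adj.homEquiv _ _) h1
    rw [adj.homEquiv_naturality_right, Equiv.apply_symm_apply] at this
    exact this

lemma isCompact_map_of_adj
    (hG : ∀ {κ : Type v} (Y : κ → E), IsIso (sigmaComparison G Y)) {K : D}
    (hK : CohDer.IsCompactObject K) : CohDer.IsCompactObject (F.obj K) := by
  haveI : G.Additive := adj.right_adjoint_additive
  refine isCompact_of_cS (fun κ Y θ => ?_)
  haveI := hG Y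
  obtain ⟨S, hS⟩ := exists_cS_of_isCompact hK _
    (adj.homEquiv _ _ θ ≫ inv (sigmaComparison G Y))
  refine ⟨S, ?_⟩
  apply (adj.homEquiv _ _).injective
  rw [adj.homEquiv_naturality_right, Adjunction.homAddEquiv_zero]
  have h : adj.homEquiv _ _ θ =
      (adj.homEquiv _ _ θ ≫ inv (sigmaComparison G Y)) ≫ sigmaComparison G Y := by simp
  rw [h, Category.assoc, sigmaComparison_comp_map_cS, ← Category.assoc, hS, zero_comp]

omit adj [F.Additive] in
lemma bijective_shift_of_bijective {S₀ X Y : D} (f : X ⟶ Y) (n : ℤ)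
    (h : Function.Bijective (fun g : S₀⟦-n⟧ ⟶ X => g ≫ f)) :
    Function.Bijective (fun g : S₀ ⟶ X⟦n⟧ => g ≫ f⟦n⟧') := by
  let adjS : shiftFunctor D (-n) ⊣ shiftFunctor D n :=
    (shiftEquiv' D (-n) n (by omega)).toAdjunction
  have : (fun g : S₀ ⟶ X⟦n⟧ => g ≫ f⟦n⟧') =
      (adjS.homEquiv S₀ Y) ∘ (fun g : S₀⟦-n⟧ ⟶ X => g ≫ f) ∘ (adjS.homEquiv S₀ X).symm := by
    funext g
    dsimp
    rw [adjS.homEquiv_naturality_right, Equiv.apply_symm_apply]
  rw [this]
  exact (adjS.homEquiv S₀ Y).bijective.comp (h.comp (adjS.homEquiv S₀ X).symm.bijective)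

variable [F.CommShift ℤ] {ι : Type v} (S : ι → D) (hSc : ∀ i, CohDer.IsCompactObject (S i))
  (hSg : CohDer.Generates S)

include hSc hSg

theorem main [∀ (κ : Type v), PreservesColimitsOfShape (Discrete κ) F] :
    (∀ (κ : Type v), PreservesColimitsOfShape (Discrete κ) G) ↔
      ∀ i, CohDer.IsCompactObject (F.obj (S i)) := by
  constructor
  · intro hG i
    exact isCompact_map_of_adj adj (fun Y => inferInstance) (hSc i)
  · intro hF κ
    haveI : ∀ (Y : κ → E), PreservesColimit (Discrete.functor Y) G := fun Y => by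
      haveI : IsIso (sigmaComparison G Y) := by
        rw [Groth.Agent.S7881.result S hSg (sigmaComparison G Y)]
        intro i n
        apply bijective_shift_of_bijective
        refine bijective_comp_sigmaComparison adj (isCompact_shift (hSc i) (-n)) ?_ Y
        exact isCompact_of_iso ((F.commShiftIso (-n)).app (S i)).symm
          (isCompact_shift (hF i) (-n))
      exact PreservesCoproduct.of_iso_comparison G Y
    exact preservesColimitsOfShape_of_discrete G

end Groth.Agent.Lib.Helper8.CompactAdj
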