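import Mathlib

/-!
# Helper8: finite connected limits from equalizers and pullbacks
-/

universe v u

open CategoryTheory CategoryTheory.Limits

namespace Groth.Agent.Lib.Helper8.ConnLim

variable {C : Type u} [Category.{v} C] {J : Type} [SmallCategory J] (F : J ⥤ C)

/-- the type of arrows of `J` -/
abbrev Arr (J : Type) [SmallCategory J] : Type := Σ (j j' : J), (j ⟶ j')

/-- a family of maps `x j : X ⟶ F j`, `j ∈ S`, is compatible with the arrows in `E` -/
def Compat (S : Set J) (E : Set (Arr J)) {X : C} (x : ∀ j, j ∈ S → (X ⟶ F.obj j)) : Prop :=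
  ∀ e ∈ E, ∀ (h : e.1 ∈ S) (h' : e.2.1 ∈ S), x e.1 h ≫ F.map e.2.2 = x e.2.1 h'

/-- the functor of `E`-compatible families indexed by `S` is representable -/
def Rep (S : Set J) (E : Set (Arr J)) : Prop :=
  ∃ (P : C) (π : ∀ j, j ∈ S → (P ⟶ F.obj j)), Compat F S E π ∧
    ∀ (X : C) (x : ∀ j, j ∈ S → (X ⟶ F.obj j)), Compat F S E x →
      ∃ m : X ⟶ P, (∀ j hj, m ≫ π j hj = x j hj) ∧
        ∀ m' : X ⟶ P, (∀ j hj, m' ≫ π j hj = x j hj) → m' = m

lemma rep_singleton (j₀ : J) : Rep F {j₀} ∅ := by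
  refine ⟨F.obj j₀, fun j hj => eqToHom (by rw [Set.mem_singleton_iff.1 hj]), ?_, ?_⟩
  · intro e he
    exact he.elim
  · intro X x _
    refine ⟨x j₀ rfl, ?_, ?_⟩
    · intro j hj
      obtain rfl := Set.mem_singleton_iff.1 hj
      simp
    · intro m' hm'
      have := hm' j₀ rfl
      simpa using this

variable {F}

lemma rep_edge {S : Set J} {E : Set (Arr J)} (h : Rep F S E) [HasEqualizers C]
    (e₀ : Arr J) (h₁ : e₀.1 ∈ S) (h₂ : e₀.2.1 ∈ S) : Rep F S (E ∪ {e₀}) := by
  obtain ⟨P, π, hπ, huniv⟩ := h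
  let a : P ⟶ F.obj e₀.2.1 := π e₀.1 h₁ ≫ F.map e₀.2.2
  let b : P ⟶ F.obj e₀.2.1 := π e₀.2.1 h₂
  refine ⟨equalizer a b, fun j hj => equalizer.ι a b ≫ π j hj, ?_, ?_⟩
  · intro e he h h'
    rcases he with he | he
    · rw [Category.assoc, hπ e he h h']
    · obtain rfl : e = e₀ := he
      have := equalizer.condition a b
      simpa [a, b] using this
  · intro X x hx
    have hx' : Compat F S E x := fun e he => hx e (Or.inl he)
    obtain ⟨m₀, hm₀, hm₀u⟩ := huniv X x hx'
    have hab : m₀ ≫ a = m₀ ≫ b := by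
      dsimp [a, b]
      rw [← Category.assoc, hm₀, hm₀]
      exact hx e₀ (Or.inr rfl) h₁ h₂
    refine ⟨equalizer.lift m₀ hab, ?_, ?_⟩
    · intro j hj
      rw [← Category.assoc, equalizer.lift_ι, hm₀]
    · intro m' hm'
      apply equalizer.hom_ext
      rw [equalizer.lift_ι]
      apply hm₀u
      intro j hj
      rw [Category.assoc, hm']

lemma rep_vertex_out {S : Set J} {E : Set (Arr J)} (h : Rep F S E)
    (hE : ∀ e ∈ E, e.1 ∈ S ∧ e.2.1 ∈ S) {j k : J} (hj : j ∈ S) (hk : k ∉ S) (u : j ⟶ k) :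
    Rep F (insert k S) (E ∪ {⟨j, k, u⟩}) := by
  classical
  obtain ⟨P, π, hπ, huniv⟩ := h
  have hjk : j ≠ k := fun h => hk (h ▸ hj)
  let π' : ∀ i, i ∈ insert k S → (P ⟶ F.obj i) := fun i hi =>
    if h : i = k then π j hj ≫ F.map u ≫ eqToHom (by rw [h]) else π i (hi.resolve_left h)
  have π'_k : ∀ hk', π' k hk' = π j hj ≫ F.map u := fun hk' => by
    simp [π']
  have π'_S : ∀ i (hi : i ∈ S) hi', π' i hi' = π i hi := fun i hi hi' => by
    have : i ≠ k := fun h => hk (h ▸ hi)
    simp [π', this]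
  refine ⟨P, π', ?_, ?_⟩
  · intro e he h h'
    rcases he with he | he
    · obtain ⟨h1, h2⟩ := hE e he
      rw [π'_S _ h1 h, π'_S _ h2 h']
      exact hπ e he h1 h2
    · obtain rfl : e = ⟨j, k, u⟩ := he
      dsimp only
      rw [π'_S j hj h, π'_k h']
  · intro X x hx
    let x₀ : ∀ i, i ∈ S → (X ⟶ F.obj i) := fun i hi => x i (Or.inr hi)
    have hx₀ : Compat F S E x₀ := fun e he h1 h2 => hx e (Or.inl he) _ _
    obtain ⟨m₀, hm₀, hm₀u⟩ := huniv X x₀ hx₀
    refine ⟨m₀, ?_, ?_⟩
    · intro i hi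
      by_cases hik : i = k
      · subst hik
        rw [π'_k hi, ← Category.assoc, hm₀]
        exact hx ⟨j, i, u⟩ (Or.inr rfl) (Or.inr hj) hi
      · have hiS : i ∈ S := hi.resolve_left hik
        rw [π'_S i hiS hi, hm₀]
    · intro m' hm'
      apply hm₀u
      intro i hi
      have := hm' i (Or.inr hi)
      rw [π'_S i hi (Or.inr hi)] at this
      exact this

lemma rep_vertex_in {S : Set J} {E : Set (Arr J)} (h : Rep F S E) [HasPullbacks C]
    (hE : ∀ e ∈ E, e.1 ∈ S ∧ e.2.1 ∈ S) {j k : J} (hj : j ∈ S) (hk : k ∉ S) (u : k ⟶ j) :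
    Rep F (insert k S) (E ∪ {⟨k, j, u⟩}) := by
  classical
  obtain ⟨P, π, hπ, huniv⟩ := h
  let P' := pullback (π j hj) (F.map u)
  let π' : ∀ i, i ∈ insert k S → (P' ⟶ F.obj i) := fun i hi =>
    if h : i = k then pullback.snd _ _ ≫ eqToHom (by rw [h])
    else pullback.fst _ _ ≫ π i (hi.resolve_left h)
  have π'_k : ∀ hk', π' k hk' = pullback.snd _ _ := fun hk' => by
    simp [π']
  have π'_S : ∀ i (hi : i ∈ S) hi', π' i hi' = pullback.fst _ _ ≫ π i hi := fun i hi hi' => by
    have : i ≠ k := fun h => hk (h ▸ hi)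
    simp [π', this]
  refine ⟨P', π', ?_, ?_⟩
  · intro e he h h'
    rcases he with he | he
    · obtain ⟨h1, h2⟩ := hE e he
      rw [π'_S _ h1 h, π'_S _ h2 h', Category.assoc]
      rw [hπ e he h1 h2]
    · obtain rfl : e = ⟨k, j, u⟩ := he
      dsimp only
      rw [π'_S j hj h', π'_k h]
      exact pullback.condition.symm
  · intro X x hx
    let x₀ : ∀ i, i ∈ S → (X ⟶ F.obj i) := fun i hi => x i (Or.inr hi)
    have hx₀ : Compat F S E x₀ := fun e he h1 h2 => hx e (Or.inl he) _ _
    obtain ⟨m₀, hm₀, hm₀u⟩ := huniv X x₀ hx₀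
    have hcond : m₀ ≫ π j hj = x k (Or.inl rfl) ≫ F.map u := by
      rw [hm₀]
      exact (hx ⟨k, j, u⟩ (Or.inr rfl) (Or.inl rfl) (Or.inr hj)).symm
    refine ⟨pullback.lift m₀ (x k (Or.inl rfl)) hcond, ?_, ?_⟩
    · intro i hi
      by_cases hik : i = k
      · subst hik
        rw [π'_k hi, pullback.lift_snd]
      · have hiS : i ∈ S := hi.resolve_left hik
        rw [π'_S i hiS hi, pullback.lift_fst_assoc, hm₀]
    · intro m' hm'
      apply pullback.hom_ext
      · rw [pullback.lift_fst]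
        apply hm₀u
        intro i hi
        have := hm' i (Or.inr hi)
        rw [π'_S i hi (Or.inr hi), ← Category.assoc] at this
        exact this
      · rw [pullback.lift_snd]
        have := hm' k (Or.inl rfl)
        rw [π'_k (Or.inl rfl)] at this
        exact this

lemma rep_mono_E {S : Set J} {E E' : Set (Arr J)} (h : Rep F S E) (hEE : E = E') : Rep F S E' := by
  subst hEE; exact h

/-- in a connected category, a proper nonempty set of objects has an arrow crossing it -/
lemma exists_crossing [IsConnected J] (S : Set J) (hS : S.Nonempty) (hu : S ≠ Set.univ) :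
    ∃ (j k : J), j ∈ S ∧ k ∉ S ∧ (Nonempty (j ⟶ k) ∨ Nonempty (k ⟶ j)) := by
  by_contra hcon
  push Not at hcon
  obtain ⟨j₀, hj₀⟩ := hS
  apply hu
  ext j
  simp only [Set.mem_univ, iff_true]
  refine induct_on_objects S hj₀ ?_ j
  intro j₁ j₂ f
  constructor
  · intro h1
    by_contra h2
    exact (hcon j₁ j₂ h1 h2).1.false f
  · intro h2
    by_contra h1
    exact (hcon j₂ j₁ h2 h1).2.false f

variable (F) in
/-- `S`-indexed families compatible with some set of arrows inside `S` are representable -/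
def Good (S : Set J) : Prop :=
  ∃ E : Set (Arr J), (∀ e ∈ E, e.1 ∈ S ∧ e.2.1 ∈ S) ∧ Rep F S E

lemma good_step [IsConnected J] [HasPullbacks C] {S : Set J} (h : Good F S) (hS : S.Nonempty)
    (hu : S ≠ Set.univ) : ∃ k, k ∉ S ∧ Good F (insert k S) := by
  obtain ⟨j, k, hj, hk, hjk⟩ := exists_crossing S hS hu
  obtain ⟨E, hE, hrep⟩ := h
  refine ⟨k, hk, ?_⟩
  rcases hjk with ⟨⟨u⟩⟩ | ⟨⟨u⟩⟩
  · refine ⟨E ∪ {⟨j, k, u⟩}, ?_, rep_vertex_out hrep hE hj hk u⟩
    intro e he
    rcases he with he | he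
    · exact ⟨Or.inr (hE e he).1, Or.inr (hE e he).2⟩
    · obtain rfl : e = ⟨j, k, u⟩ := he
      exact ⟨Or.inr hj, Or.inl rfl⟩
  · refine ⟨E ∪ {⟨k, j, u⟩}, ?_, rep_vertex_in hrep hE hj hk u⟩
    intro e he
    rcases he with he | he
    · exact ⟨Or.inr (hE e he).1, Or.inr (hE e he).2⟩
    · obtain rfl : e = ⟨k, j, u⟩ := he
      exact ⟨Or.inl rfl, Or.inr hj⟩

lemma good_univ [Finite J] [IsConnected J] [HasPullbacks C] (S : Set J) (hS : S.Nonempty)
    (h : Good F S) : Good F Set.univ := by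
  induction' hn : (Sᶜ).ncard using Nat.strong_induction_on with n ih generalizing S
  by_cases hu : S = Set.univ
  · subst hu; exact h
  · obtain ⟨k, hk, hgood⟩ := good_step h hS hu
    refine ih _ ?_ (insert k S) (Set.insert_nonempty _ _) hgood rfl
    subst hn
    apply Set.ncard_lt_ncard _ (Set.toFinite _)
    constructor
    · intro x hx hx'
      exact hx (Or.inr hx')
    · intro hsub
      exact hsub hk (Or.inl rfl)

lemma rep_all [HasEqualizers C] [Finite (Arr J)] {E : Set (Arr J)} (h : Rep F Set.univ E) :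
    Rep F Set.univ Set.univ := by
  have key : ∀ (E' : Set (Arr J)) (hE' : E'.Finite), Rep F Set.univ (E ∪ E') := by
    intro E' hE'
    induction E', hE' using Set.Finite.induction_on with
    | empty => exact rep_mono_E h (by simp)
    | @insert a s _ _ ih =>
      refine rep_mono_E (rep_edge ih a trivial trivial) ?_
      rw [Set.union_assoc, Set.union_singleton]
  exact rep_mono_E (key Set.univ (Set.toFinite _)) (by simp)

variable (F) in
theorem hasLimit_of_rep (h : Rep F Set.univ Set.univ) : HasLimit F := by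
  obtain ⟨P, π, hπ, huniv⟩ := h
  let c : Cone F :=
    { pt := P
      π :=
        { app := fun j => π j trivial
          naturality := fun j j' f => by
            have := hπ ⟨j, j', f⟩ trivial trivial trivial
            dsimp at this ⊢
            rw [Category.id_comp, this] } }
  have hs : ∀ s : Cone F, Compat F Set.univ Set.univ (fun j _ => s.π.app j) := by
    intro s e _ _ _
    exact s.w e.2.2
  refine ⟨⟨c, ?_⟩⟩
  exact
    { lift := fun s => (huniv s.pt _ (hs s)).choose
      fac := fun s j => (huniv s.pt _ (hs s)).choose_spec.1 j trivial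
      uniq := fun s m hm => (huniv s.pt _ (hs s)).choose_spec.2 m (fun j _ => hm j) }

theorem main [HasEqualizers C] [HasPullbacks C] (J : Type) [SmallCategory J] [FinCategory J]
    [IsConnected J] : HasLimitsOfShape J C := by
  constructor
  intro F
  apply hasLimit_of_rep
  obtain ⟨j₀⟩ : Nonempty J := IsConnected.is_nonempty
  have h0 : Good F {j₀} := ⟨∅, fun e he => he.elim, rep_singleton F j₀⟩
  obtain ⟨E, _, hE⟩ := good_univ {j₀} (Set.singleton_nonempty _) h0
  exact rep_all hE

end Groth.Agent.Lib.Helper8.ConnLim
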