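import Groth.Prelude.Def_CohSite
import Mathlib.CategoryTheory.Sites.ConstantSheaf

/-!
# Helper8: sections of constant abelian sheaves are exact (S9097)
-/

universe u

open CategoryTheory CategoryTheory.Limits Opposite

namespace Groth.Agent.Lib.Helper8.ConstSect

variable {C : Type u} [SmallCategory C] (J : GrothendieckTopology C) (U : C)

/-- sections over `U` of the constant abelian sheaf -/
noncomputable abbrev G : AddCommGrpCat.{u} ⥤ AddCommGrpCat.{u} :=
  constantSheaf J AddCommGrpCat.{u} ⋙ (sheafSections J AddCommGrpCat.{u}).obj (op U)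

/-- sections over `U` of the constant sheaf of sets -/
noncomputable abbrev G' : Type u ⥤ Type u :=
  constantSheaf J (Type u) ⋙ (sheafSections J (Type u)).obj (op U)

instance : PreservesFiniteLimits (constantSheaf J AddCommGrpCat.{u}) := by
  unfold constantSheaf
  infer_instance

instance : PreservesFiniteLimits ((sheafSections J AddCommGrpCat.{u}).obj (op U)) :=
  preservesFiniteLimits_of_natIso
    (sheafSectionsNatIsoEvaluation (J := J) (A := AddCommGrpCat.{u}) (X := U)).symm

instance : PreservesFiniteLimits (G J U) := by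
  unfold G
  infer_instance

/-- the comparison isomorphism -/
noncomputable def e : G J U ⋙ forget AddCommGrpCat.{u} ≅ forget AddCommGrpCat.{u} ⋙ G' J U :=
  Functor.isoWhiskerRight (constantCommuteCompose J (forget AddCommGrpCat.{u}))
    ((sheafSections J (Type u)).obj (op U))


lemma surjective_G'_map {X Y : Type u} (g : X ⟶ Y) (hg : Function.Surjective g) :
    Function.Surjective ((G' J U).map g) := by
  obtain ⟨σ, hσ⟩ := hg.hasRightInverse
  have h0 : (↾σ : Y ⟶ X) ≫ g = 𝟙 Y := by
    ext y
    exact hσ y
  have h : (G' J U).map (↾σ) ≫ (G' J U).map g = 𝟙 _ := by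
    rw [← CategoryTheory.Functor.map_comp, h0, CategoryTheory.Functor.map_id]
  intro y
  exact ⟨(G' J U).map (↾σ) y, ConcreteCategory.congr_hom h y⟩

lemma epi_G_map {X Y : AddCommGrpCat.{u}} (g : X ⟶ Y) [Epi g] : Epi ((G J U).map g) := by
  rw [AddCommGrpCat.epi_iff_surjective]
  have hg : Function.Surjective ((forget AddCommGrpCat.{u}).map g) :=
    (AddCommGrpCat.epi_iff_surjective g).1 inferInstance
  have h1 := surjective_G'_map J U _ hg
  have nat := (e J U).hom.naturality g
  intro y
  obtain ⟨x, hx⟩ := h1 ((e J U).hom.app Y y)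
  refine ⟨(e J U).inv.app X x, ?_⟩
  have h2 : (e J U).inv.app X ≫ (G J U ⋙ forget AddCommGrpCat.{u}).map g =
      (forget AddCommGrpCat.{u} ⋙ G' J U).map g ≫ (e J U).inv.app Y :=
    ((e J U).inv.naturality g).symm
  have h3 := ConcreteCategory.congr_hom h2 x
  have h4 : ((e J U).hom.app Y ≫ (e J U).inv.app Y) y = y := by
    rw [Iso.hom_inv_id_app]; rfl
  change (G J U ⋙ forget AddCommGrpCat.{u}).map g ((e J U).inv.app X x) = y
  refine Eq.trans ?_ h4
  refine Eq.trans h3 ?_
  change (e J U).inv.app Y ((G' J U).map ((forget AddCommGrpCat.{u}).map g) x) = _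
  rw [hx]
  rfl

theorem main (S : ShortComplex AddCommGrpCat.{u}) (hS : S.ShortExact)
    [(G J U).PreservesZeroMorphisms] : (S.map (G J U)).ShortExact := by
  haveI := hS.mono_f
  haveI := hS.epi_g
  exact
    { exact := hS.exact.map_of_mono_of_preservesKernel (G J U) inferInstance inferInstance
      mono_f := by
        change Mono ((G J U).map S.f)
        infer_instance
      epi_g := epi_G_map J U S.g }

end Groth.Agent.Lib.Helper8.ConstSect
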