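import Mathlib

/-!
# Helper8: a coproduct of distinguished triangles is distinguished (S6593)
-/

universe w v u

open CategoryTheory CategoryTheory.Limits CategoryTheory.Pretriangulated CategoryTheory.Category

namespace Groth.Agent.Lib.Helper8.CoprodTri

variable {D : Type u} [Category.{v} D] [Preadditive D] [HasZeroObject D] [HasShift D ℤ]
  [∀ n : ℤ, (shiftFunctor D n).Additive] [Pretriangulated D]

/-- the shifted coproduct cofan -/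
noncomputable def shiftCofan {J : Type w} (X : J → D) [HasCoproduct X] :
    IsColimit (Cofan.mk ((∐ X)⟦(1 : ℤ)⟧) (fun j => (Sigma.ι X j)⟦(1 : ℤ)⟧')) :=
  isColimitCofanMkObjOfIsColimit (shiftFunctor D (1 : ℤ)) _ _ (coproductIsCoproduct X)

variable {J : Type w} (X Y Z : J → D) (f : ∀ j, X j ⟶ Y j) (g : ∀ j, Y j ⟶ Z j)
  (h : ∀ j, Z j ⟶ (X j)⟦(1 : ℤ)⟧)
  (hT : ∀ j, Triangle.mk (f j) (g j) (h j) ∈ distTriang D)
  [HasCoproduct X] [HasCoproduct Y] [HasCoproduct Z]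

include hT in
set_option backward.isDefEq.respectTransparency false in
theorem coproduct_distinguished :
    Triangle.mk (Limits.Sigma.map f) (Limits.Sigma.map g)
      (Sigma.desc (fun j => h j ≫ (Sigma.ι X j)⟦(1 : ℤ)⟧')) ∈ distTriang D := by
  obtain ⟨W, f₂, f₃, hT'⟩ := distinguished_cocone_triangle (Limits.Sigma.map f)
  have hι : ∀ j, f j ≫ Sigma.ι Y j = Sigma.ι X j ≫ Limits.Sigma.map f :=
    fun j => (Sigma.ι_map f j).symm
  have hφ : ∀ j, ∃ c : Z j ⟶ W, g j ≫ c = Sigma.ι Y j ≫ f₂ ∧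
      h j ≫ (Sigma.ι X j)⟦(1 : ℤ)⟧' = c ≫ f₃ := fun j =>
    complete_distinguished_triangle_morphism _ _ (hT j) hT' (Sigma.ι X j) (Sigma.ι Y j) (hι j)
  choose c hc₂ hc₃ using hφ
  obtain ⟨ψ, hψ⟩ : ∃ ψ : ∐ Z ⟶ W, ∀ j, Sigma.ι Z j ≫ ψ = c j :=
    ⟨Sigma.desc c, fun j => Sigma.ι_desc _ j⟩
  obtain ⟨m₃, hm₃⟩ : ∃ m₃ : ∐ Z ⟶ (∐ X)⟦(1 : ℤ)⟧,
      ∀ j, Sigma.ι Z j ≫ m₃ = h j ≫ (Sigma.ι X j)⟦(1 : ℤ)⟧' :=
    ⟨Sigma.desc (fun j => h j ≫ (Sigma.ι X j)⟦(1 : ℤ)⟧'), fun j => Sigma.ι_desc _ j⟩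
  have hm₃' : m₃ = Sigma.desc (fun j => h j ≫ (Sigma.ι X j)⟦(1 : ℤ)⟧') := by
    apply Sigma.hom_ext
    intro j
    rw [hm₃, Sigma.ι_desc]
  rw [← hm₃']
  have c2 : Limits.Sigma.map g ≫ ψ = f₂ := by
    apply Sigma.hom_ext
    intro j
    rw [Sigma.ι_map_assoc, hψ, hc₂]
  have c3 : m₃ = ψ ≫ f₃ := by
    apply Sigma.hom_ext
    intro j
    rw [hm₃, reassoc_of% (hψ j), hc₃]
  suffices IsIso ψ by
    refine isomorphic_distinguished _ hT' _ ?_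
    refine Triangle.isoMk _ _ (Iso.refl _) (Iso.refl _) (asIso ψ) ?_ ?_ ?_
    · exact (comp_id _).trans (id_comp _).symm
    · exact c2.trans (id_comp _).symm
    · change m₃ ≫ (shiftFunctor D (1 : ℤ)).map (𝟙 _) = ψ ≫ f₃
      rw [CategoryTheory.Functor.map_id, comp_id, c3]
  have hX1 := shiftCofan X
  have hY1 := shiftCofan Y
  have hf₃f : f₃ ≫ (Limits.Sigma.map f)⟦(1 : ℤ)⟧' = 0 := comp_distTriang_mor_zero₃₁ _ hT'
  refine isIso_of_coyoneda_map_bijective _ (fun A => ⟨?_, ?_⟩)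
  · suffices Epi ψ by
      intro a₁ a₂ ha
      simpa only [cancel_epi ψ] using ha
    rw [Preadditive.epi_iff_cancel_zero]
    intro A a ha
    have ha' : f₂ ≫ a = 0 := by rw [← c2, assoc, ha, comp_zero]
    obtain ⟨b, hb⟩ : ∃ b : (∐ X)⟦(1 : ℤ)⟧ ⟶ A, a = f₃ ≫ b :=
      Triangle.yoneda_exact₃ _ hT' a ha'
    have hb' : ∀ j, h j ≫ ((Sigma.ι X j)⟦(1 : ℤ)⟧' ≫ b) = 0 := by
      intro j
      rw [← assoc, ← hm₃, c3, assoc, assoc, ← hb, ha, comp_zero]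
    have hb'' : ∀ j, ∃ β : (Y j)⟦(1 : ℤ)⟧ ⟶ A,
        (Sigma.ι X j)⟦(1 : ℤ)⟧' ≫ b = (-(f j)⟦(1 : ℤ)⟧') ≫ β := fun j =>
      Triangle.yoneda_exact₂ _ (rot_of_distTriang _ (rot_of_distTriang _ (hT j))) _ (hb' j)
    choose β hβ using hb''
    have hb''' : b = (Limits.Sigma.map f)⟦(1 : ℤ)⟧' ≫
        Cofan.IsColimit.desc hY1 (fun j => -β j) := by
      apply Cofan.IsColimit.hom_ext hX1
      intro j
      change (Sigma.ι X j)⟦(1 : ℤ)⟧' ≫ b = (Sigma.ι X j)⟦(1 : ℤ)⟧' ≫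
        (Limits.Sigma.map f)⟦(1 : ℤ)⟧' ≫ Cofan.IsColimit.desc hY1 (fun j => -β j)
      have e2 : (Sigma.ι Y j)⟦(1 : ℤ)⟧' ≫ Cofan.IsColimit.desc hY1 (fun j => -β j) = -β j :=
        Cofan.IsColimit.fac hY1 (fun j => -β j) j
      rw [hβ, ← Functor.map_comp_assoc, ← hι, Functor.map_comp, assoc, e2, Preadditive.neg_comp,
        Preadditive.comp_neg]
    rw [hb, hb''', ← assoc, hf₃f, zero_comp]
  · intro a
    obtain ⟨a', ha'⟩ : ∃ (a' : W ⟶ A), Limits.Sigma.map g ≫ a = f₂ ≫ a' := by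
      have e0 : Limits.Sigma.map f ≫ Limits.Sigma.map g = 0 := by
        apply Sigma.hom_ext
        intro j
        have e : f j ≫ g j = 0 := comp_distTriang_mor_zero₁₂ _ (hT j)
        rw [Sigma.ι_map_assoc, Sigma.ι_map, ← assoc, e, zero_comp, comp_zero]
      have zero : Limits.Sigma.map f ≫ Limits.Sigma.map g ≫ a = 0 := by
        rw [← assoc, e0, zero_comp]
      exact Triangle.yoneda_exact₂ _ hT' _ zero
    have ha'' : ∀ j, ∃ b : (X j)⟦(1 : ℤ)⟧ ⟶ A, Sigma.ι Z j ≫ (a - ψ ≫ a') = h j ≫ b := fun j =>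
      Triangle.yoneda_exact₃ _ (hT j) (Sigma.ι Z j ≫ (a - ψ ≫ a')) (by
        change g j ≫ Sigma.ι Z j ≫ (a - ψ ≫ a') = 0
        rw [← assoc, ← Sigma.ι_map g j, assoc, Preadditive.comp_sub, ← assoc _ ψ, c2, ha',
          sub_self, comp_zero])
    choose b hb using ha''
    have hb' : a - ψ ≫ a' = m₃ ≫ Cofan.IsColimit.desc hX1 b := by
      apply Sigma.hom_ext
      intro j
      have e2 : (Sigma.ι X j)⟦(1 : ℤ)⟧' ≫ Cofan.IsColimit.desc hX1 b = b j :=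
        Cofan.IsColimit.fac hX1 b j
      rw [hb, reassoc_of% (hm₃ j), e2]
    refine ⟨a' + f₃ ≫ Cofan.IsColimit.desc hX1 b, ?_⟩
    change ψ ≫ (a' + f₃ ≫ Cofan.IsColimit.desc hX1 b) = a
    rw [Preadditive.comp_add, ← assoc, ← c3, ← hb']
    abel

end Groth.Agent.Lib.Helper8.CoprodTri
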