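import Groth.Agent.Lib.Helper8.CoprodTri

/-!
# Helper8: coproducts of distinguished triangles for general cofans; binary direct sums (S6581)
-/

universe w v u

open CategoryTheory CategoryTheory.Limits CategoryTheory.Pretriangulated CategoryTheory.Category

namespace Groth.Agent.Lib.Helper8.CoprodTri2

variable {D : Type u} [Category.{v} D] [Preadditive D] [HasZeroObject D] [HasShift D ℤ]
  [∀ n : ℤ, (shiftFunctor D n).Additive] [Pretriangulated D]

section General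

variable {J : Type w} (X Y Z : J → D) (f : ∀ j, X j ⟶ Y j) (g : ∀ j, Y j ⟶ Z j)
  (h : ∀ j, Z j ⟶ (X j)⟦(1 : ℤ)⟧)
  (hT : ∀ j, Triangle.mk (f j) (g j) (h j) ∈ distTriang D)
  {PX PY PZ : D} (ιX : ∀ j, X j ⟶ PX) (ιY : ∀ j, Y j ⟶ PY) (ιZ : ∀ j, Z j ⟶ PZ)
  (hX : IsColimit (Cofan.mk PX ιX)) (hY : IsColimit (Cofan.mk PY ιY))
  (hZ : IsColimit (Cofan.mk PZ ιZ))
  (F : PX ⟶ PY) (G : PY ⟶ PZ) (H : PZ ⟶ PX⟦(1 : ℤ)⟧)
  (hF : ∀ j, ιX j ≫ F = f j ≫ ιY j) (hG : ∀ j, ιY j ≫ G = g j ≫ ιZ j)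
  (hH : ∀ j, ιZ j ≫ H = h j ≫ (ιX j)⟦(1 : ℤ)⟧')

include hT hX hY hZ hF hG hH in
set_option backward.isDefEq.respectTransparency false in
theorem cofan_distinguished : Triangle.mk F G H ∈ distTriang D := by
  obtain ⟨W, f₂, f₃, hT'⟩ := distinguished_cocone_triangle F
  have hι : ∀ j, f j ≫ ιY j = ιX j ≫ F := fun j => (hF j).symm
  have hφ : ∀ j, ∃ c : Z j ⟶ W, g j ≫ c = ιY j ≫ f₂ ∧
      h j ≫ (ιX j)⟦(1 : ℤ)⟧' = c ≫ f₃ := fun j =>
    complete_distinguished_triangle_morphism _ _ (hT j) hT' (ιX j) (ιY j) (hι j)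
  choose c hc₂ hc₃ using hφ
  have extZ : ∀ {A : D} (a a' : PZ ⟶ A), (∀ j, ιZ j ≫ a = ιZ j ≫ a') → a = a' :=
    fun a a' e => Cofan.IsColimit.hom_ext hZ a a' e
  have extY : ∀ {A : D} (a a' : PY ⟶ A), (∀ j, ιY j ≫ a = ιY j ≫ a') → a = a' :=
    fun a a' e => Cofan.IsColimit.hom_ext hY a a' e
  have extX : ∀ {A : D} (a a' : PX ⟶ A), (∀ j, ιX j ≫ a = ιX j ≫ a') → a = a' :=
    fun a a' e => Cofan.IsColimit.hom_ext hX a a' e
  obtain ⟨ψ, hψ⟩ : ∃ ψ : PZ ⟶ W, ∀ j, ιZ j ≫ ψ = c j :=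
    ⟨Cofan.IsColimit.desc hZ c, fun j => Cofan.IsColimit.fac hZ c j⟩
  have c2 : G ≫ ψ = f₂ := by
    apply extY
    intro j
    rw [reassoc_of% (hG j), hψ, hc₂]
  have c3 : H = ψ ≫ f₃ := by
    apply extZ
    intro j
    rw [hH, reassoc_of% (hψ j), hc₃]
  suffices IsIso ψ by
    refine isomorphic_distinguished _ hT' _ ?_
    refine Triangle.isoMk _ _ (Iso.refl _) (Iso.refl _) (asIso ψ) ?_ ?_ ?_
    · exact (comp_id _).trans (id_comp _).symm
    · exact c2.trans (id_comp _).symm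
    · change H ≫ (shiftFunctor D (1 : ℤ)).map (𝟙 _) = ψ ≫ f₃
      rw [CategoryTheory.Functor.map_id, comp_id, c3]
  have hX1 : IsColimit (Cofan.mk (PX⟦(1 : ℤ)⟧) (fun j => (ιX j)⟦(1 : ℤ)⟧')) :=
    isColimitCofanMkObjOfIsColimit (shiftFunctor D (1 : ℤ)) _ _ hX
  have hY1 : IsColimit (Cofan.mk (PY⟦(1 : ℤ)⟧) (fun j => (ιY j)⟦(1 : ℤ)⟧')) :=
    isColimitCofanMkObjOfIsColimit (shiftFunctor D (1 : ℤ)) _ _ hY
  have hf₃f : f₃ ≫ F⟦(1 : ℤ)⟧' = 0 := comp_distTriang_mor_zero₃₁ _ hT'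
  refine isIso_of_coyoneda_map_bijective _ (fun A => ⟨?_, ?_⟩)
  · suffices Epi ψ by
      intro a₁ a₂ ha
      simpa only [cancel_epi ψ] using ha
    rw [Preadditive.epi_iff_cancel_zero]
    intro A a ha
    have ha' : f₂ ≫ a = 0 := by rw [← c2, assoc, ha, comp_zero]
    obtain ⟨b, hb⟩ : ∃ b : PX⟦(1 : ℤ)⟧ ⟶ A, a = f₃ ≫ b :=
      Triangle.yoneda_exact₃ _ hT' a ha'
    have hb' : ∀ j, h j ≫ ((ιX j)⟦(1 : ℤ)⟧' ≫ b) = 0 := by
      intro j
      rw [← assoc, ← hH, c3, assoc, assoc, ← hb, ha, comp_zero]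
    have hb'' : ∀ j, ∃ β : (Y j)⟦(1 : ℤ)⟧ ⟶ A,
        (ιX j)⟦(1 : ℤ)⟧' ≫ b = (-(f j)⟦(1 : ℤ)⟧') ≫ β := fun j =>
      Triangle.yoneda_exact₂ _ (rot_of_distTriang _ (rot_of_distTriang _ (hT j))) _ (hb' j)
    choose β hβ using hb''
    have hb''' : b = F⟦(1 : ℤ)⟧' ≫ Cofan.IsColimit.desc hY1 (fun j => -β j) := by
      apply Cofan.IsColimit.hom_ext hX1
      intro j
      change (ιX j)⟦(1 : ℤ)⟧' ≫ b = (ιX j)⟦(1 : ℤ)⟧' ≫
        F⟦(1 : ℤ)⟧' ≫ Cofan.IsColimit.desc hY1 (fun j => -β j)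
      have e2 : (ιY j)⟦(1 : ℤ)⟧' ≫ Cofan.IsColimit.desc hY1 (fun j => -β j) = -β j :=
        Cofan.IsColimit.fac hY1 (fun j => -β j) j
      rw [hβ, ← Functor.map_comp_assoc, ← hι, Functor.map_comp, assoc, e2, Preadditive.neg_comp,
        Preadditive.comp_neg]
    rw [hb, hb''', ← assoc, hf₃f, zero_comp]
  · intro a
    obtain ⟨a', ha'⟩ : ∃ (a' : W ⟶ A), G ≫ a = f₂ ≫ a' := by
      have e0 : F ≫ G = 0 := by
        apply extX
        intro j
        have e : f j ≫ g j = 0 := comp_distTriang_mor_zero₁₂ _ (hT j)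
        rw [reassoc_of% (hF j), hG, ← assoc, e, zero_comp, comp_zero]
      have zero : F ≫ G ≫ a = 0 := by
        rw [← assoc, e0, zero_comp]
      exact Triangle.yoneda_exact₂ _ hT' _ zero
    have ha'' : ∀ j, ∃ b : (X j)⟦(1 : ℤ)⟧ ⟶ A, ιZ j ≫ (a - ψ ≫ a') = h j ≫ b := fun j =>
      Triangle.yoneda_exact₃ _ (hT j) (ιZ j ≫ (a - ψ ≫ a')) (by
        change g j ≫ ιZ j ≫ (a - ψ ≫ a') = 0
        rw [← assoc, ← hG j, assoc, Preadditive.comp_sub, ← assoc _ ψ, c2, ha',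
          sub_self, comp_zero])
    choose b hb using ha''
    have hb' : a - ψ ≫ a' = H ≫ Cofan.IsColimit.desc hX1 b := by
      apply extZ
      intro j
      have e2 : (ιX j)⟦(1 : ℤ)⟧' ≫ Cofan.IsColimit.desc hX1 b = b j :=
        Cofan.IsColimit.fac hX1 b j
      rw [hb, reassoc_of% (hH j), e2]
    refine ⟨a' + f₃ ≫ Cofan.IsColimit.desc hX1 b, ?_⟩
    change ψ ≫ (a' + f₃ ≫ Cofan.IsColimit.desc hX1 b) = a
    rw [Preadditive.comp_add, ← assoc, ← c3, ← hb']
    abel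

end General

section Binary

/-- a pair of objects as a family indexed by `Bool` -/
def famObj (A B : D) : Bool → D
  | true => A
  | false => B

/-- a pair of morphisms as a family indexed by `Bool` -/
def famHom {A B A' B' : D} (f : A ⟶ A') (g : B ⟶ B') : ∀ b, famObj A B b ⟶ famObj A' B' b
  | true => f
  | false => g

/-- a pair of morphisms to shifts as a family indexed by `Bool` -/
def famH {A B A' B' : D} (f : A ⟶ A'⟦(1 : ℤ)⟧) (g : B ⟶ B'⟦(1 : ℤ)⟧) :
    ∀ b, famObj A B b ⟶ (famObj A' B' b)⟦(1 : ℤ)⟧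
  | true => f
  | false => g

/-- the inclusions into the biproduct -/
noncomputable def famInj (A B : D) : ∀ b, famObj A B b ⟶ A ⊞ B
  | true => biprod.inl
  | false => biprod.inr

/-- the biproduct as a colimit cofan -/
noncomputable def famColimit (A B : D) : IsColimit (Cofan.mk (A ⊞ B) (famInj A B)) :=
  Cofan.IsColimit.mk _ (fun s => biprod.desc (X := A) (Y := B) (s.inj true) (s.inj false))
    (fun s j => by
      cases j
      · exact biprod.inr_desc _ _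
      · exact biprod.inl_desc _ _)
    (fun s m hm => by
      apply biprod.hom_ext'
      · exact (hm true).trans (biprod.inl_desc _ _).symm
      · exact (hm false).trans (biprod.inr_desc _ _).symm)

/-- the direct sum of two triangles -/
noncomputable abbrev sumTriangle (T T' : Triangle D) : Triangle D :=
  Triangle.mk (biprod.map T.mor₁ T'.mor₁) (biprod.map T.mor₂ T'.mor₂)
    (biprod.desc (T.mor₃ ≫ (shiftFunctor D (1 : ℤ)).map biprod.inl)
      (T'.mor₃ ≫ (shiftFunctor D (1 : ℤ)).map biprod.inr))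

theorem sum_distinguished (T T' : Triangle D) (hT : T ∈ distTriang D) (hT' : T' ∈ distTriang D) :
    sumTriangle T T' ∈ distTriang D := by
  refine cofan_distinguished (famObj T.obj₁ T'.obj₁) (famObj T.obj₂ T'.obj₂)
    (famObj T.obj₃ T'.obj₃) (famHom T.mor₁ T'.mor₁) (famHom T.mor₂ T'.mor₂)
    (famH T.mor₃ T'.mor₃) ?_ (famInj _ _) (famInj _ _) (famInj _ _) (famColimit _ _)
    (famColimit _ _) (famColimit _ _) _ _ _ ?_ ?_ ?_
  · rintro (_ | _)
    · exact hT'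
    · exact hT
  · rintro (_ | _)
    · exact biprod.inr_map _ _
    · exact biprod.inl_map _ _
  · rintro (_ | _)
    · exact biprod.inr_map _ _
    · exact biprod.inl_map _ _
  · rintro (_ | _)
    · exact biprod.inr_desc _ _
    · exact biprod.inl_desc _ _

set_option backward.isDefEq.respectTransparency false in
/-- a direct summand of a distinguished triangle is distinguished -/
theorem left_distinguished_of_sum (T T' : Triangle D) (hS : sumTriangle T T' ∈ distTriang D) :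
    T ∈ distTriang D := by
  obtain ⟨Q, a, b, h₀⟩ := distinguished_cocone_triangle T.mor₁
  obtain ⟨Q', a', b', h₀'⟩ := distinguished_cocone_triangle T'.mor₁
  -- the comparison maps
  obtain ⟨ct, hct₂, hct₃⟩ := complete_distinguished_triangle_morphism _ _ h₀ hS
    (biprod.inl : T.obj₁ ⟶ T.obj₁ ⊞ T'.obj₁) (biprod.inl : T.obj₂ ⟶ T.obj₂ ⊞ T'.obj₂)
    (biprod.inl_map _ _).symm
  obtain ⟨ct', hct₂', hct₃'⟩ := complete_distinguished_triangle_morphism _ _ h₀' hS
    (biprod.inr : T'.obj₁ ⟶ T.obj₁ ⊞ T'.obj₁) (biprod.inr : T'.obj₂ ⟶ T.obj₂ ⊞ T'.obj₂)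
    (biprod.inr_map _ _).symm
  replace hct₂ : a ≫ ct = biprod.inl ≫ biprod.map T.mor₂ T'.mor₂ := hct₂
  replace hct₃ : b ≫ (shiftFunctor D (1 : ℤ)).map biprod.inl = ct ≫
    biprod.desc (T.mor₃ ≫ (shiftFunctor D (1 : ℤ)).map biprod.inl)
      (T'.mor₃ ≫ (shiftFunctor D (1 : ℤ)).map biprod.inr) := hct₃
  replace hct₂' : a' ≫ ct' = biprod.inr ≫ biprod.map T.mor₂ T'.mor₂ := hct₂'
  replace hct₃' : b' ≫ (shiftFunctor D (1 : ℤ)).map biprod.inr = ct' ≫
    biprod.desc (T.mor₃ ≫ (shiftFunctor D (1 : ℤ)).map biprod.inl)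
      (T'.mor₃ ≫ (shiftFunctor D (1 : ℤ)).map biprod.inr) := hct₃'
  have hfst : biprod.desc (T.mor₃ ≫ (shiftFunctor D (1 : ℤ)).map biprod.inl)
      (T'.mor₃ ≫ (shiftFunctor D (1 : ℤ)).map biprod.inr) ≫
      (shiftFunctor D (1 : ℤ)).map (biprod.fst : T.obj₁ ⊞ T'.obj₁ ⟶ T.obj₁) =
      biprod.fst ≫ T.mor₃ := by
    apply biprod.hom_ext'
    · rw [biprod.inl_desc_assoc, assoc, ← Functor.map_comp, biprod.inl_fst,
        CategoryTheory.Functor.map_id, comp_id, biprod.inl_fst_assoc]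
    · rw [biprod.inr_desc_assoc, assoc, ← Functor.map_comp, biprod.inr_fst, Functor.map_zero,
        comp_zero, biprod.inr_fst_assoc, zero_comp]
  have hsnd : biprod.desc (T.mor₃ ≫ (shiftFunctor D (1 : ℤ)).map biprod.inl)
      (T'.mor₃ ≫ (shiftFunctor D (1 : ℤ)).map biprod.inr) ≫
      (shiftFunctor D (1 : ℤ)).map (biprod.snd : T.obj₁ ⊞ T'.obj₁ ⟶ T'.obj₁) =
      biprod.snd ≫ T'.mor₃ := by
    apply biprod.hom_ext'
    · rw [biprod.inl_desc_assoc, assoc, ← Functor.map_comp, biprod.inl_snd, Functor.map_zero,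
        comp_zero, biprod.inl_snd_assoc, zero_comp]
    · rw [biprod.inr_desc_assoc, assoc, ← Functor.map_comp, biprod.inr_snd,
        CategoryTheory.Functor.map_id, comp_id, biprod.inr_snd_assoc]
  -- the components
  have hc₂ : a ≫ (ct ≫ biprod.fst) = T.mor₂ := by
    rw [← assoc, hct₂, assoc, biprod.map_fst, biprod.inl_fst_assoc]
  have hc₃ : (ct ≫ biprod.fst) ≫ T.mor₃ = b := by
    rw [assoc, ← hfst, ← assoc, ← hct₃, assoc, ← Functor.map_comp, biprod.inl_fst,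
      CategoryTheory.Functor.map_id, comp_id]
  have hc₂' : a' ≫ (ct' ≫ biprod.snd) = T'.mor₂ := by
    rw [← assoc, hct₂', assoc, biprod.map_snd, biprod.inr_snd_assoc]
  have hc₃' : (ct' ≫ biprod.snd) ≫ T'.mor₃ = b' := by
    rw [assoc, ← hsnd, ← assoc, ← hct₃', assoc, ← Functor.map_comp, biprod.inr_snd,
      CategoryTheory.Functor.map_id, comp_id]
  -- the sum of the completed triangles is distinguished
  have hS₀ := sum_distinguished _ _ h₀ h₀'
  let φ : sumTriangle (Triangle.mk T.mor₁ a b) (Triangle.mk T'.mor₁ a' b') ⟶ sumTriangle T T' :=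
    { hom₁ := 𝟙 _
      hom₂ := 𝟙 _
      hom₃ := biprod.map (ct ≫ biprod.fst) (ct' ≫ biprod.snd)
      comm₁ := (comp_id _).trans (id_comp _).symm
      comm₂ := by
        change biprod.map a a' ≫ biprod.map (ct ≫ biprod.fst) (ct' ≫ biprod.snd) =
          𝟙 _ ≫ biprod.map T.mor₂ T'.mor₂
        rw [id_comp, ← hc₂, ← hc₂']
        ext <;> simp
      comm₃ := by
        change biprod.desc (b ≫ (shiftFunctor D (1 : ℤ)).map biprod.inl)
          (b' ≫ (shiftFunctor D (1 : ℤ)).map biprod.inr) ≫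
            (shiftFunctor D (1 : ℤ)).map (𝟙 _) =
          biprod.map (ct ≫ biprod.fst) (ct' ≫ biprod.snd) ≫
            biprod.desc (T.mor₃ ≫ (shiftFunctor D (1 : ℤ)).map biprod.inl)
              (T'.mor₃ ≫ (shiftFunctor D (1 : ℤ)).map biprod.inr)
        rw [CategoryTheory.Functor.map_id, comp_id]
        apply biprod.hom_ext'
        · rw [biprod.inl_desc, biprod.inl_map_assoc, biprod.inl_desc, ← assoc, hc₃]
        · rw [biprod.inr_desc, biprod.inr_map_assoc, biprod.inr_desc, ← assoc, hc₃'] }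
  have hφ₁ : IsIso φ.hom₁ := inferInstanceAs (IsIso (𝟙 _))
  have hφ₂ : IsIso φ.hom₂ := inferInstanceAs (IsIso (𝟙 _))
  have hφ₃ : IsIso (biprod.map (ct ≫ biprod.fst) (ct' ≫ biprod.snd)) :=
    isIso₃_of_isIso₁₂ φ hS₀ hS hφ₁ hφ₂
  have hc : IsIso (ct ≫ biprod.fst) := isIso_left_of_isIso_biprod_map _ (ct' ≫ biprod.snd)
  refine isomorphic_distinguished _ h₀ _ (Iso.symm ?_)
  refine Triangle.isoMk _ _ (Iso.refl _) (Iso.refl _) (asIso (ct ≫ biprod.fst)) ?_ ?_ ?_
  · exact (comp_id _).trans (id_comp _).symm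
  · exact hc₂.trans (id_comp _).symm
  · change b ≫ (shiftFunctor D (1 : ℤ)).map (𝟙 _) = (ct ≫ biprod.fst) ≫ T.mor₃
    rw [CategoryTheory.Functor.map_id, comp_id, hc₃]

set_option backward.isDefEq.respectTransparency false in
/-- the swap isomorphism of direct sums of triangles -/
theorem right_distinguished_of_sum (T T' : Triangle D) (hS : sumTriangle T T' ∈ distTriang D) :
    T' ∈ distTriang D := by
  apply left_distinguished_of_sum T' T
  refine isomorphic_distinguished _ hS _ ?_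
  refine Triangle.isoMk _ _ (biprod.braiding _ _) (biprod.braiding _ _) (biprod.braiding _ _)
    ?_ ?_ ?_
  · change biprod.map T'.mor₁ T.mor₁ ≫ (biprod.braiding _ _).hom =
      (biprod.braiding _ _).hom ≫ biprod.map T.mor₁ T'.mor₁
    apply biprod.hom_ext' <;> apply biprod.hom_ext <;> simp
  · change biprod.map T'.mor₂ T.mor₂ ≫ (biprod.braiding _ _).hom =
      (biprod.braiding _ _).hom ≫ biprod.map T.mor₂ T'.mor₂
    apply biprod.hom_ext' <;> apply biprod.hom_ext <;> simp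
  · change biprod.desc (T'.mor₃ ≫ (shiftFunctor D (1 : ℤ)).map biprod.inl)
        (T.mor₃ ≫ (shiftFunctor D (1 : ℤ)).map biprod.inr) ≫
        (shiftFunctor D (1 : ℤ)).map (biprod.braiding T'.obj₁ T.obj₁).hom =
      (biprod.braiding _ _).hom ≫
        biprod.desc (T.mor₃ ≫ (shiftFunctor D (1 : ℤ)).map biprod.inl)
          (T'.mor₃ ≫ (shiftFunctor D (1 : ℤ)).map biprod.inr)
    have e1 : ∀ (A B : D), (biprod.inl : A ⟶ A ⊞ B) ≫ (biprod.braiding A B).hom = biprod.inr := by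
      intro A B
      ext <;> simp
    have e2 : ∀ (A B : D), (biprod.inr : B ⟶ A ⊞ B) ≫ (biprod.braiding A B).hom = biprod.inl := by
      intro A B
      ext <;> simp
    apply biprod.hom_ext'
    · rw [biprod.inl_desc_assoc, assoc, ← Functor.map_comp, e1, reassoc_of% (e1 T'.obj₃ T.obj₃),
        biprod.inr_desc]
    · rw [biprod.inr_desc_assoc, assoc, ← Functor.map_comp, e2, reassoc_of% (e2 T'.obj₃ T.obj₃),
        biprod.inl_desc]

theorem sum_distinguished_iff (T T' : Triangle D) :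
    sumTriangle T T' ∈ distTriang D ↔ (T ∈ distTriang D ∧ T' ∈ distTriang D) :=
  ⟨fun h => ⟨left_distinguished_of_sum T T' h, right_distinguished_of_sum T T' h⟩,
    fun h => sum_distinguished T T' h.1 h.2⟩

end Binary

end Groth.Agent.Lib.Helper8.CoprodTri2
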