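import Mathlib

/-!
# Helper8: factorization of a morphism of complexes through `L ⊞ Cone(𝟙 K)` (S6598)
-/

universe v u

open CategoryTheory CategoryTheory.Limits CategoryTheory.Category CochainComplex HomologicalComplex
  HomComplex

namespace Groth.Agent.Lib.Helper8.Cyl

section Generic

variable {W : Type*} [Category W] [Preadditive W] [HasBinaryBiproducts W]

lemma exists_iso_biprod_of_complement {A B C : W} (i : A ⟶ B) (r : B ⟶ A) (j : C ⟶ B) (q : B ⟶ C)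
    (hir : i ≫ r = 𝟙 A) (hjq : j ≫ q = 𝟙 C) (hiq : i ≫ q = 0) (hjr : j ≫ r = 0)
    (htot : r ≫ i + q ≫ j = 𝟙 B) :
    ∃ e : B ≅ A ⊞ C, i ≫ e.hom = biprod.inl :=
  ⟨⟨biprod.lift r q, biprod.desc i j, by rw [biprod.lift_desc, htot], by
    ext <;> simp [hir, hjq, hiq, hjr]⟩, by ext <;> simp [hir, hiq]⟩

end Generic

variable {V : Type u} [Category.{v} V] [Preadditive V] [HasBinaryBiproducts V] [HasZeroObject V]
  (K L : CochainComplex V ℤ) (α : K ⟶ L)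

/-- the "mapping cylinder" `L ⊞ Cone(𝟙 K)` -/
noncomputable abbrev cyl : CochainComplex V ℤ := L ⊞ mappingCone (𝟙 K)

variable {K L} in
/-- the termwise split inclusion -/
noncomputable def cylι : K ⟶ cyl K L := biprod.lift α (mappingCone.inr (𝟙 K))

/-- the projection -/
noncomputable def cylπ : cyl K L ⟶ L := biprod.fst

/-- the section -/
noncomputable def cyls : L ⟶ cyl K L := biprod.inl

lemma cylι_π : cylι α ≫ cylπ K L = α := biprod.lift_fst _ _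

lemma cyls_π : cyls K L ≫ cylπ K L = 𝟙 L := biprod.inl_fst

/-- the projection is a homotopy equivalence -/
noncomputable def cylHomotopy : Homotopy (cylπ K L ≫ cyls K L) (𝟙 (cyl K L)) := by
  have h0 : Homotopy (𝟙 (mappingCone (𝟙 K))) 0 := mappingCone.homotopyToZeroOfId K
  have h1 : Homotopy ((biprod.snd : L ⊞ mappingCone (𝟙 K) ⟶ mappingCone (𝟙 K)) ≫ 𝟙 _ ≫
      (biprod.inr : mappingCone (𝟙 K) ⟶ L ⊞ mappingCone (𝟙 K)))
      ((biprod.snd : L ⊞ mappingCone (𝟙 K) ⟶ mappingCone (𝟙 K)) ≫ 0 ≫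
        (biprod.inr : mappingCone (𝟙 K) ⟶ L ⊞ mappingCone (𝟙 K))) :=
    (h0.compRight (biprod.inr : mappingCone (𝟙 K) ⟶ L ⊞ mappingCone (𝟙 K))).compLeft
      (biprod.snd : L ⊞ mappingCone (𝟙 K) ⟶ mappingCone (𝟙 K))
  have h2 := (Homotopy.refl (cylπ K L ≫ cyls K L)).add h1
  refine (Homotopy.ofEq ?_).trans (h2.symm.trans (Homotopy.ofEq ?_))
  · rw [zero_comp, comp_zero, add_zero]
  · rw [id_comp]
    exact biprod.total

section Split

variable (n : ℤ)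

/-- the retraction of `cylι` in degree `n` -/
noncomputable def rr : (cyl K L).X n ⟶ K.X n :=
  (biprod.snd : L ⊞ mappingCone (𝟙 K) ⟶ _).f n ≫ (mappingCone.snd (𝟙 K)).v n n (add_zero n)

variable {K L} in
/-- the projection to the complement in degree `n` -/
noncomputable def qq : (cyl K L).X n ⟶ L.X n ⊞ K.X (n + 1) :=
  biprod.lift ((biprod.fst : L ⊞ mappingCone (𝟙 K) ⟶ _).f n - rr K L n ≫ α.f n)
    ((biprod.snd : L ⊞ mappingCone (𝟙 K) ⟶ _).f n ≫ (mappingCone.fst (𝟙 K)).1.v n (n + 1) rfl)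

/-- the inclusion of the complement in degree `n` -/
noncomputable def jj : L.X n ⊞ K.X (n + 1) ⟶ (cyl K L).X n :=
  biprod.desc ((biprod.inl : L ⟶ L ⊞ mappingCone (𝟙 K)).f n)
    ((mappingCone.inl (𝟙 K)).v (n + 1) n (by omega) ≫
      (biprod.inr : mappingCone (𝟙 K) ⟶ L ⊞ mappingCone (𝟙 K)).f n)

lemma cylι_f : (cylι α).f n = α.f n ≫ (biprod.inl : L ⟶ L ⊞ mappingCone (𝟙 K)).f n +
    (mappingCone.inr (𝟙 K)).f n ≫ (biprod.inr : mappingCone (𝟙 K) ⟶ L ⊞ mappingCone (𝟙 K)).f n := by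
  have h : cylι α = α ≫ biprod.inl + mappingCone.inr (𝟙 K) ≫ biprod.inr := biprod.lift_eq
  rw [h]
  rfl

lemma ι_rr : (cylι α).f n ≫ rr K L n = 𝟙 _ := by
  simp [cylι_f, rr]

lemma ι_qq : (cylι α).f n ≫ qq α n = 0 := by
  ext <;> simp [cylι_f, qq, rr]

lemma jj_rr : jj K L n ≫ rr K L n = 0 := by
  ext <;> simp [jj, rr]

lemma jj_qq : jj K L n ≫ qq α n = 𝟙 _ := by
  ext <;> simp [jj, qq, rr]

lemma total : rr K L n ≫ (cylι α).f n + qq α n ≫ jj K L n = 𝟙 _ := by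
  apply biprodX_ext_from
  · simp [cylι_f, qq, jj, rr]
  · apply mappingCone.ext_from _ (n + 1) n rfl
    · simp [cylι_f, qq, jj, rr]
    · simp [cylι_f, qq, jj, rr]

lemma exists_split :
    ∃ (C : V) (e : (cyl K L).X n ≅ K.X n ⊞ C), (cylι α).f n ≫ e.hom = biprod.inl :=
  ⟨_, exists_iso_biprod_of_complement _ _ _ _ (ι_rr K L α n) (jj_qq K L α n) (ι_qq K L α n)
    (jj_rr K L n) (total K L α n)⟩

end Split

section Bounds

lemma isZero_cone_X (n : ℤ) (h0 : IsZero (K.X n)) (h1 : IsZero (K.X (n + 1))) :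
    IsZero ((mappingCone (𝟙 K)).X n) := by
  rw [IsZero.iff_id_eq_zero, ← mappingCone.id_X (𝟙 K) n (n + 1) rfl,
    h1.eq_of_tgt ((mappingCone.fst (𝟙 K)).1.v n (n + 1) rfl) 0,
    h0.eq_of_tgt ((mappingCone.snd (𝟙 K)).v n n (add_zero n)) 0, zero_comp, zero_comp, add_zero]

lemma isZero_cyl_X (n : ℤ) (hL : IsZero (L.X n)) (h0 : IsZero (K.X n))
    (h1 : IsZero (K.X (n + 1))) : IsZero ((cyl K L).X n) := by
  rw [IsZero.iff_id_eq_zero, ← biprod_total_f,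
    hL.eq_of_tgt ((biprod.fst : L ⊞ mappingCone (𝟙 K) ⟶ L).f n) 0,
    (isZero_cone_X K n h0 h1).eq_of_tgt
      ((biprod.snd : L ⊞ mappingCone (𝟙 K) ⟶ mappingCone (𝟙 K)).f n) 0,
    zero_comp, zero_comp, add_zero]

lemma cyl_isStrictlyGE (a : ℤ) [K.IsStrictlyGE a] [L.IsStrictlyGE a] :
    (cyl K L).IsStrictlyGE (a - 1) := by
  rw [isStrictlyGE_iff]
  intro i hi
  exact isZero_cyl_X K L i (L.isZero_of_isStrictlyGE a i (by omega))
    (K.isZero_of_isStrictlyGE a i (by omega)) (K.isZero_of_isStrictlyGE a (i + 1) (by omega))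

lemma cyl_isStrictlyLE (a : ℤ) [K.IsStrictlyLE a] [L.IsStrictlyLE a] :
    (cyl K L).IsStrictlyLE a := by
  rw [isStrictlyLE_iff]
  intro i hi
  exact isZero_cyl_X K L i (L.isZero_of_isStrictlyLE a i (by omega))
    (K.isZero_of_isStrictlyLE a i (by omega)) (K.isZero_of_isStrictlyLE a (i + 1) (by omega))

end Bounds

/-- S6598 -/
theorem exists_termwise_split_injective_factorization :
    ∃ (L' : CochainComplex V ℤ) (α' : K ⟶ L') (π : L' ⟶ L) (s : L ⟶ L'),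
      α' ≫ π = α ∧ s ≫ π = 𝟙 L ∧ Nonempty (Homotopy (π ≫ s) (𝟙 L')) ∧
      (∀ n : ℤ, ∃ (C : V) (e : L'.X n ≅ K.X n ⊞ C), α'.f n ≫ e.hom = biprod.inl) ∧
      (∀ a : ℤ, K.IsStrictlyGE a → L.IsStrictlyGE a → ∃ a' : ℤ, L'.IsStrictlyGE a') ∧
      (∀ a : ℤ, K.IsStrictlyLE a → L.IsStrictlyLE a → ∃ a' : ℤ, L'.IsStrictlyLE a') :=
  ⟨cyl K L, cylι α, cylπ K L, cyls K L, cylι_π K L α, cyls_π K L, ⟨cylHomotopy K L⟩,
    exists_split K L α, fun a _ _ => ⟨a - 1, cyl_isStrictlyGE K L a⟩,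
    fun a _ _ => ⟨a, cyl_isStrictlyLE K L a⟩⟩

/-- the projection as a homotopy equivalence -/
noncomputable def cylEquiv : HomotopyEquiv (cyl K L) L where
  hom := cylπ K L
  inv := cyls K L
  homotopyHomInvId := cylHomotopy K L
  homotopyInvHomId := Homotopy.ofEq (cyls_π K L)

section Sequence

variable (X : ℕ → CochainComplex V ℤ) (a : ∀ i, X i ⟶ X (i + 1))

/-- the data at stage `i` -/
structure St (i : ℕ) where
  /-- the replacement complex -/
  B : CochainComplex V ℤ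
  /-- the homotopy equivalence -/
  e : HomotopyEquiv B (X i)

/-- the stages -/
noncomputable def stg : ∀ i, St X i
  | 0 => ⟨X 0, HomotopyEquiv.refl _⟩
  | i + 1 => ⟨cyl (stg i).B (X (i + 1)), cylEquiv _ _⟩

/-- the replacement complexes -/
noncomputable def BB (i : ℕ) : CochainComplex V ℤ := (stg X i).B

/-- the homotopy equivalences -/
noncomputable def ee (i : ℕ) : HomotopyEquiv (BB X i) (X i) := (stg X i).e

/-- the transition maps -/
noncomputable def bb (i : ℕ) : BB X i ⟶ BB X (i + 1) := cylι ((ee X i).hom ≫ a i)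

lemma bb_ee (i : ℕ) : bb X a i ≫ (ee X (i + 1)).hom = (ee X i).hom ≫ a i :=
  cylι_π _ _ _

lemma bb_split (i : ℕ) (n : ℤ) :
    ∃ (C : V) (ε : (BB X (i + 1)).X n ≅ (BB X i).X n ⊞ C), (bb X a i).f n ≫ ε.hom = biprod.inl :=
  exists_split _ _ _ n

lemma BB_ge (h : ∀ i, ∃ m : ℤ, (X i).IsStrictlyGE m) (i : ℕ) : ∃ m : ℤ, (BB X i).IsStrictlyGE m := by
  induction i with
  | zero => exact h 0
  | succ i ih =>
    obtain ⟨m, hm⟩ := ih
    obtain ⟨m', hm'⟩ := h (i + 1)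
    have h1 : (BB X i).IsStrictlyGE (min m m') := isStrictlyGE_of_ge _ _ m (min_le_left _ _)
    have h2 : (X (i + 1)).IsStrictlyGE (min m m') := isStrictlyGE_of_ge _ _ m' (min_le_right _ _)
    exact ⟨min m m' - 1, cyl_isStrictlyGE (BB X i) (X (i + 1)) (min m m')⟩

lemma BB_le (h : ∀ i, ∃ m : ℤ, (X i).IsStrictlyLE m) (i : ℕ) : ∃ m : ℤ, (BB X i).IsStrictlyLE m := by
  induction i with
  | zero => exact h 0
  | succ i ih =>
    obtain ⟨m, hm⟩ := ih
    obtain ⟨m', hm'⟩ := h (i + 1)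
    have h1 : (BB X i).IsStrictlyLE (max m m') := isStrictlyLE_of_le _ m _ (le_max_left _ _)
    have h2 : (X (i + 1)).IsStrictlyLE (max m m') := isStrictlyLE_of_le _ m' _ (le_max_right _ _)
    exact ⟨max m m', cyl_isStrictlyLE (BB X i) (X (i + 1)) (max m m')⟩

/-- S6617 -/
theorem exists_termwise_split_injective_replacement_of_sequence :
    ∃ (B : ℕ → CochainComplex V ℤ) (b : ∀ i, B i ⟶ B (i + 1)) (e : ∀ i, HomotopyEquiv (B i) (X i)),
      (∀ i, b i ≫ (e (i + 1)).hom = (e i).hom ≫ a i) ∧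
      (∀ (i : ℕ) (n : ℤ), ∃ (C : V) (ε : (B (i + 1)).X n ≅ (B i).X n ⊞ C),
        (b i).f n ≫ ε.hom = biprod.inl) ∧
      ((∀ i, ∃ m : ℤ, (X i).IsStrictlyGE m) → ∀ i, ∃ m : ℤ, (B i).IsStrictlyGE m) ∧
      ((∀ i, ∃ m : ℤ, (X i).IsStrictlyLE m) → ∀ i, ∃ m : ℤ, (B i).IsStrictlyLE m) :=
  ⟨BB X, bb X a, ee X, bb_ee X a, bb_split X a, BB_ge X, BB_le X⟩

end Sequence

end Groth.Agent.Lib.Helper8.Cyl
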