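import Mathlib
import Groth.Agent.Lib.Helper8.DCmpA

/-!
# Helper8 — DCmpF: chains of one-element completions and their images under linear, weakly exact,
countable-product preserving functors.
-/

set_option autoImplicit false

universe v u w

open CategoryTheory CategoryTheory.Limits Pretriangulated

namespace Groth.Agent.Lib.Helper8.DCmpA

open Groth.Agent.Lib.Helper8.MilnorTri

variable {T : Type u} [Category.{v} T] [Preadditive T] [HasZeroObject T] [HasShift T ℤ]
  [∀ n : ℤ, (shiftFunctor T n).Additive] [Pretriangulated T]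
  {A : Type w} [CommRing A] [Linear A T] [∀ n : ℤ, (shiftFunctor T n).Linear A]
  [HasLimitsOfShape (Discrete ℕ) T]

/-- `η : X ⟶ Y` is obtained by successively completing with respect to the elements of `fs`
(the last element of the list first) -/
inductive IsChain : List A → ∀ (X Y : T), (X ⟶ Y) → Prop
  | nil (X : T) : IsChain [] X X (𝟙 X)
  | cons (f : A) (fs : List A) (X Y : T) (η : X ⟶ Y) (c : Compl f Y) :
      IsChain fs X Y η → IsChain (f :: fs) X c.K' (η ≫ c.η)

namespace IsChain

lemma isCompl {fs : List A} {X Y : T} {η : X ⟶ Y} (h : IsChain fs X Y η) :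
    ∀ f ∈ fs, IsCompl f Y := by
  induction h with
  | nil X => intro f hf; simp at hf
  | cons f fs X Y η c _ ih =>
    intro g hg
    rcases List.mem_cons.1 hg with rfl | hg
    · exact c.isCompl_K'
    · exact c.isCompl_of_isCompl g (ih g hg)

lemma bijective {fs : List A} {X Y : T} {η : X ⟶ Y} (h : IsChain fs X Y η) (L : T)
    (hL : ∀ f ∈ fs, IsCompl f L) : Function.Bijective (fun g : Y ⟶ L => η ≫ g) := by
  induction h with
  | nil X =>
    constructor
    · intro g g' hgg
      simpa using hgg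
    · intro g
      exact ⟨g, Category.id_comp g⟩
  | cons f fs X Y η c _ ih =>
    have h1 := c.bijective_precomp L (hL f (List.mem_cons_self))
    have h2 := ih (fun g hg => hL g (List.mem_cons_of_mem _ hg))
    have : (fun g : c.K' ⟶ L => (η ≫ c.η) ≫ g) =
        (fun g : Y ⟶ L => η ≫ g) ∘ (fun g : c.K' ⟶ L => c.η ≫ g) := by
      funext g
      exact Category.assoc _ _ _
    rw [this]
    exact h2.comp h1

end IsChain

lemma exists_chain (fs : List A) (X : T) : ∃ (Y : T) (η : X ⟶ Y), IsChain fs X Y η := by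
  induction fs with
  | nil => exact ⟨X, 𝟙 X, IsChain.nil X⟩
  | cons f fs ih =>
    obtain ⟨Y, η, h⟩ := ih
    obtain ⟨c⟩ := exists_compl f Y
    exact ⟨c.K', η ≫ c.η, IsChain.cons f fs X Y η c h⟩

/-- a linear functor sending distinguished triangles to triangles which can be completed to
distinguished triangles, and commuting with countable powers -/
structure WExact (G : T ⥤ T) : Prop where
  lin : ∀ (a : A) {X Y : T} (φ : X ⟶ Y), G.map (a • φ) = a • G.map φ
  tri : ∀ Tr ∈ distTriang T,
    ∃ w, Triangle.mk (G.map Tr.mor₁) (G.map Tr.mor₂) w ∈ distTriang T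
  prod : ∀ X : T, Nonempty (IsLimit (Fan.mk (G.obj (∏ᶜ (Kc X))) (fun n => G.map (Pi.π (Kc X) n))))

section Map

variable {G : T ⥤ T} [G.Additive] (hG : WExact (A := A) G) {f : A} {X : T} (c : Compl f X)

/-- the comparison `G(∏ X) ≅ ∏ G(X)` -/
noncomputable def WExact.prodIso (X : T) : G.obj (∏ᶜ (Kc X)) ≅ ∏ᶜ (Kc (G.obj X)) :=
  (hG.prod X).some.conePointUniqueUpToIso (productIsProduct (Kc (G.obj X)))

lemma WExact.prodIso_hom_π (X : T) (n : ℕ) :
    (hG.prodIso X).hom ≫ Pi.π (Kc (G.obj X)) n = G.map (Pi.π (Kc X) n) :=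
  (hG.prod X).some.conePointUniqueUpToIso_hom_comp (productIsProduct (Kc (G.obj X))) ⟨n⟩

include hG in
lemma exists_dist₁ : ∃ δ', Triangle.mk (Pi.lift (fun n => G.map (c.a n)))
    (D (Kc (G.obj X)) (tc f (G.obj X))) δ' ∈ distTriang T := by
  obtain ⟨w, hw⟩ : ∃ w : G.obj (∏ᶜ Kc X) ⟶ (G.obj c.T₀)⟦(1 : ℤ)⟧,
      Triangle.mk (G.map (Pi.lift c.a)) (G.map (D (Kc X) (tc f X))) w ∈ distTriang T :=
    hG.tri _ c.dist₁
  let e := hG.prodIso X
  refine ⟨e.inv ≫ w, isomorphic_distinguished _ hw _ ?_⟩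
  refine Triangle.isoMk _ _ (Iso.refl _) e.symm e.symm ?_ ?_ ?_
  · change Pi.lift (fun n => G.map (c.a n)) ≫ e.inv = 𝟙 _ ≫ G.map (Pi.lift c.a)
    rw [Category.id_comp, ← cancel_mono e.hom, Category.assoc, e.inv_hom_id, Category.comp_id]
    apply Pi.hom_ext
    intro n
    rw [Category.assoc, hG.prodIso_hom_π, Pi.lift_π, ← G.map_comp, Pi.lift_π]
  · change D (Kc (G.obj X)) (tc f (G.obj X)) ≫ e.inv = e.inv ≫ G.map (D (Kc X) (tc f X))
    rw [← cancel_mono e.hom, Category.assoc, Category.assoc, e.inv_hom_id, Category.comp_id,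
      ← cancel_epi e.hom, e.hom_inv_id_assoc]
    apply Pi.hom_ext
    intro n
    rw [Category.assoc, Category.assoc, hG.prodIso_hom_π, Pi.lift_π, ← G.map_comp, Pi.lift_π,
      Preadditive.comp_sub, hG.prodIso_hom_π, ← Category.assoc, hG.prodIso_hom_π,
      G.map_sub, G.map_comp, hG.lin, G.map_id]
  · change (e.inv ≫ w) ≫ (𝟙 (G.obj c.T₀))⟦(1 : ℤ)⟧' = e.inv ≫ w
    rw [CategoryTheory.Functor.map_id, Category.comp_id]

/-- the image of a completion datum -/
noncomputable def Compl.map : Compl f (G.obj X) where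
  K' := G.obj c.K'
  η := G.map c.η
  T₀ := G.obj c.T₀
  a n := G.map (c.a n)
  δ := (exists_dist₁ hG c).choose
  ε := (hG.tri _ c.dist₂).choose
  dist₁ := (exists_dist₁ hG c).choose_spec
  dist₂ := (hG.tri _ c.dist₂).choose_spec

include hG in
lemma IsChain.map {fs : List A} {X Y : T} {η : X ⟶ Y} (h : IsChain fs X Y η) :
    IsChain fs (G.obj X) (G.obj Y) (G.map η) := by
  induction h with
  | nil X =>
    rw [G.map_id]
    exact IsChain.nil _
  | cons f fs X Y η c _ ih =>
    rw [G.map_comp]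
    exact IsChain.cons f fs _ _ _ (c.map hG) ih

end Map

end Groth.Agent.Lib.Helper8.DCmpA
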