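import Mathlib
import Groth.Prelude.Def_DRing3
import Groth.Agent.Lib.Helper8.DCmpE
import Groth.Agent.Lib.Helper8.DCmpC

/-!
# Helper8 — DCmpG: objects with no maps to derived complete objects; Nakayama for such objects;
the cone of `φ/f` is a cone of `f` on the cone of `φ` (octahedral axiom on mapping cones)
-/

set_option autoImplicit false

universe w v u

open CategoryTheory CategoryTheory.Limits DerivedCategory CochainComplex Pretriangulated

attribute [local instance] HasDerivedCategory.standard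

namespace Groth.Agent.Lib.Helper8.DCmpG

open Groth.Agent.Lib.Helper8.DCmpA Groth.Agent.Lib.Helper8.DCmpB Groth.Agent.Lib.Helper8.DCmpE
  Groth.Agent.Lib.Helper8.MilnorTri Groth.Agent.Lib.Helper16.DComp

section General

variable {C : Type u} [Category.{v} C] [Abelian C] [HasDerivedCategory.{w} C]

lemma mappingConeCompTriangle_distinguished {X₁ X₂ X₃ : CochainComplex C ℤ} (f : X₁ ⟶ X₂)
    (g : X₂ ⟶ X₃) :
    DerivedCategory.Q.mapTriangle.obj (mappingConeCompTriangle f g) ∈
      distTriang (DerivedCategory C) := by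
  have h := Qh.map_distinguished _ (HomotopyCategory.mappingConeCompTriangleh_distinguished f g)
  refine isomorphic_distinguished _ h _ ?_
  exact ((Functor.mapTriangleCompIso (HomotopyCategory.quotient C (ComplexShape.up ℤ)) Qh).app
    _).symm ≪≫ (Functor.mapTriangleIso (quotientCompQhIso C)).app _ |>.symm

/-- variant with a named composite -/
lemma mappingConeCompTriangle_distinguished' {X₁ X₂ X₃ : CochainComplex C ℤ} (f : X₁ ⟶ X₂)
    (g : X₂ ⟶ X₃) (ψ : X₁ ⟶ X₃) (h : f ≫ g = ψ) :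
    DerivedCategory.Q.mapTriangle.obj
      (Triangle.mk (mappingCone.map f ψ (𝟙 X₁) g (by rw [Category.id_comp, h]))
        (mappingCone.map ψ g f (𝟙 X₃) (by rw [Category.comp_id, h]))
        ((mappingCone.triangle g).mor₃ ≫ (mappingCone.inr f)⟦(1 : ℤ)⟧')) ∈
      distTriang (DerivedCategory C) := by
  subst h
  exact mappingConeCompTriangle_distinguished f g

end General

section Linear

attribute [local instance] HasDerivedCategory.standard

variable {A : Type u} [CommRing A]

lemma smul_id_comm (f : A) {K L : DRing.Cx A} (φ : K ⟶ L) :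
    (f • 𝟙 K) ≫ φ = φ ≫ (f • 𝟙 L) := by
  rw [Linear.smul_comp, Linear.comp_smul, Category.id_comp, Category.comp_id]

/-- the map induced on the cones of multiplication by `f` -/
noncomputable def kosMap (f : A) {K L : DRing.Cx A} (φ : K ⟶ L) :
    mappingCone (f • 𝟙 K) ⟶ mappingCone (f • 𝟙 L) :=
  mappingCone.map (f • 𝟙 K) (f • 𝟙 L) φ φ (smul_id_comm f φ)

lemma map_smul_eq (f : A) {K L : DRing.Cx A} (φ : K ⟶ L) :
    mappingCone.map φ φ (f • 𝟙 K) (f • 𝟙 L) (smul_id_comm f φ).symm =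
      f • 𝟙 (mappingCone φ) := by
  refine HomologicalComplex.hom_ext _ _ (fun n => ?_)
  simp [mappingCone.ext_from_iff _ (n + 1) n rfl, mappingCone.map]

theorem exists_distTriang_kos (f : A) {K L : DRing.Cx A} (φ : K ⟶ L) :
    ∃ (m₁ : (Q.obj (mappingCone φ) : Dual.D A) ⟶ Q.obj (mappingCone (kosMap f φ)))
      (m₃ : (Q.obj (mappingCone (kosMap f φ)) : Dual.D A) ⟶
        (Q.obj (mappingCone φ) : Dual.D A)⟦(1 : ℤ)⟧),
      Triangle.mk m₁ m₃ (((-f) • 𝟙 (Q.obj (mappingCone φ) : Dual.D A))⟦(1 : ℤ)⟧') ∈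
        distTriang (Dual.D A) := by
  let fK := f • 𝟙 K
  let fL := f • 𝟙 L
  let ψ : K ⟶ L := fK ≫ φ
  have hψ : φ ≫ fL = ψ := (smul_id_comm f φ).symm
  have T1 := mappingConeCompTriangle_distinguished' fK φ ψ rfl
  have T2 := mappingConeCompTriangle_distinguished' φ fL ψ hψ
  have T2r := rot_of_distTriang _ T2
  have T3 := mappingCone_triangle_distinguished (kosMap f φ)
  have comm : (Q.map (mappingCone.map fK ψ (𝟙 K) φ (by rw [Category.id_comp])) :
      (Q.obj _ : Dual.D A) ⟶ _) ≫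
      Q.map (mappingCone.map ψ fL φ (𝟙 L) (by rw [Category.comp_id, hψ])) =
      Q.map (kosMap f φ) := by
    rw [← Functor.map_comp, ← mappingCone.map_comp]
    congr 1
  have oct := Triangulated.someOctahedron comm T1 T2r T3
  have key : (-(CategoryTheory.shiftFunctor (Dual.D A) (1 : ℤ)).map
      (Q.map (mappingCone.map φ ψ (𝟙 K) fL (by rw [Category.id_comp, hψ])))) ≫
      (CategoryTheory.shiftFunctor (Dual.D A) (1 : ℤ)).map
        (Q.map (mappingCone.map ψ φ fK (𝟙 L) (by rw [Category.comp_id]))) =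
      (CategoryTheory.shiftFunctor (Dual.D A) (1 : ℤ)).map
        ((-f) • 𝟙 (Q.obj (mappingCone φ) : Dual.D A)) := by
    rw [Preadditive.neg_comp, ← Functor.map_comp, ← Functor.map_comp, ← mappingCone.map_comp]
    have h1 : mappingCone.map φ φ (𝟙 K ≫ fK) (fL ≫ 𝟙 L)
        (by rw [Category.id_comp, Category.comp_id]; exact (smul_id_comm f φ).symm) =
        f • 𝟙 (mappingCone φ) := by
      rw [← map_smul_eq f φ]
      congr 1
    rw [h1, Functor.map_smul, CategoryTheory.Functor.map_id, neg_smul, Functor.map_neg]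
  refine ⟨oct.m₁, oct.m₃, ?_⟩
  rw [← key]
  exact oct.mem

end Linear

section Null

variable {A : Type u} [CommRing A] (I : Ideal A)

/-- objects with no nonzero maps to derived complete objects -/
def IsCNull (X : Dual.D A) : Prop :=
  ∀ E : Dual.D A, DRing.IsDerivedComplete I E → ∀ g : X ⟶ E, g = 0

variable {I}

lemma IsCNull.of_iso {X Y : Dual.D A} (e : X ≅ Y) (h : IsCNull I X) : IsCNull I Y := by
  intro E hE g
  have := h E hE (e.hom ≫ g)
  exact (cancel_epi e.hom).1 (this.trans comp_zero.symm)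

lemma isCNull_of_isZero {X : Dual.D A} (h : IsZero X) : IsCNull I X :=
  fun _ _ g => h.eq_of_src g 0

lemma IsCNull.shift {X : Dual.D A} (h : IsCNull I X) (n : ℤ) : IsCNull I (X⟦n⟧) := by
  intro E hE g
  have hE' : DRing.IsDerivedComplete I (E⟦-n⟧) := isDerivedComplete_shift I hE (-n)
  let e : (E⟦-n⟧)⟦n⟧ ≅ E := (shiftEquiv (Dual.D A) n).counitIso.app E
  obtain ⟨g', hg'⟩ := (CategoryTheory.shiftFunctor (Dual.D A) n).map_surjective (g ≫ e.inv)
  have h0 : g' = 0 := h _ hE' g'
  rw [h0, Functor.map_zero] at hg'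
  exact (cancel_mono e.inv).1 (hg'.symm.trans zero_comp.symm)

lemma IsCNull.of_shift {X : Dual.D A} (n : ℤ) (h : IsCNull I (X⟦n⟧)) : IsCNull I X :=
  (h.shift (-n)).of_iso ((shiftEquiv (Dual.D A) n).unitIso.app X).symm

/-- **Nakayama**: if `f` acts surjectively on `Hom(W, E)` with `E` derived `f`-complete then
`Hom(W, E) = 0` -/
lemma eq_zero_of_surjective_smul (f : A) (E : Dual.D A) (hE : IsCompl f E) (W : Dual.D A)
    (hs : Function.Surjective (fun g : W ⟶ E => f • g)) (g : W ⟶ E) : g = 0 := by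
  haveI : IsIso (D (Kc E) (tc f E)) := isIso_D f E ((crit f E).1 ((isCompl_iff f E).1 hE))
  choose s hs' using hs
  let x : ∀ n : ℕ, W ⟶ Kc E n := fun n => Nat.rec g (fun _ r => s r) n
  have hx : ∀ n, f • x (n + 1) = x n := fun n => hs' (x n)
  have h0 : Pi.lift x ≫ D (Kc E) (tc f E) = 0 := by
    apply Pi.hom_ext
    intro n
    rw [Category.assoc, Pi.lift_π, Preadditive.comp_sub, Pi.lift_π, Pi.lift_π_assoc, zero_comp,
      comp_smul_id]
    change x n - f • x (n + 1) = 0
    rw [hx, sub_self]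
  have h1 : Pi.lift x = 0 := by
    rw [← cancel_mono (D (Kc E) (tc f E)), h0, zero_comp]
  have h2 := congrArg (fun t => t ≫ Pi.π (Kc E) 0) h1
  simp only [Pi.lift_π, zero_comp] at h2
  exact h2

/-- if a cone of `f • 𝟙` on `Z` (with `f ∈ I`) is null then `Z` is null -/
lemma isCNull_of_distTriang_smul (f : A) (hf : f ∈ I) {Z Y : Dual.D A} (m₁ : Z ⟶ Y)
    (m₃ : Y ⟶ Z⟦(1 : ℤ)⟧)
    (hT : Triangle.mk m₁ m₃ ((f • 𝟙 Z)⟦(1 : ℤ)⟧') ∈ distTriang (Dual.D A))
    (hY : IsCNull I Y) : IsCNull I Z := by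
  apply IsCNull.of_shift (1 : ℤ)
  intro E hE g
  have hEf : IsCompl f E := (isDerivedComplete_iff_forall_isCompl I E).1 hE f hf
  refine eq_zero_of_surjective_smul f E hEf _ (fun g => ?_) g
  obtain ⟨g', hg'⟩ := Triangle.yoneda_exact₃ _ hT g (hY E hE _)
  refine ⟨g', ?_⟩
  change f • g' = g
  rw [hg']
  change f • g' = (f • 𝟙 Z)⟦(1 : ℤ)⟧' ≫ g'
  rw [shift_smul_id, smul_id_comp]
  rfl

end Null

section Step

variable {A : Type u} [CommRing A] {I : Ideal A}

/-- if the cone of `φ/f` is null (`f ∈ I`) then the cone of `φ` is null -/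
theorem isCNull_mappingCone_of_kosMap (f : A) (hf : f ∈ I) {K L : DRing.Cx A} (φ : K ⟶ L)
    (h : IsCNull I (Q.obj (mappingCone (kosMap f φ)) : Dual.D A)) :
    IsCNull I (Q.obj (mappingCone φ) : Dual.D A) := by
  obtain ⟨m₁, m₃, hT⟩ := exists_distTriang_kos f φ
  exact isCNull_of_distTriang_smul (-f) (neg_mem hf) m₁ m₃ hT h

end Step

end Groth.Agent.Lib.Helper8.DCmpG
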