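import Mathlib
import Groth.Prelude.Def_DRing3
import Groth.Agent.Lib.Helper8.DCmpG
import Groth.Agent.Lib.Helper8.DNak2
import Groth.Agent.Lib.Helper8.RGam5
import Groth.Agent.S7048
import Groth.Agent.S7050

/-!
# Helper8 — DCmpH: for a Noetherian ring `A`, ideal `I` and a complex `Z` with finite cohomology,
`Q(Z) → Q(Â ⊗ Z)` is the reflection into derived complete objects (so `Â ⊗ Z` computes the derived
completion); cohomology of `Â ⊗ Z` is the `I`-adic completion of the cohomology of `Z`
-/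

set_option autoImplicit false

universe u

open CategoryTheory CategoryTheory.Limits DerivedCategory CochainComplex Pretriangulated
  MonoidalCategory TensorProduct

attribute [local instance] HasDerivedCategory.standard

namespace Groth.Agent.Lib.Helper8.DCmpH

open Groth.Agent.Lib.Helper8.DCmpG

section Defs

variable {A : Type u} [CommRing A] (I : Ideal A)

/-- `Â ⊗_A -` -/
noncomputable abbrev Ghat : ModuleCat.{u} A ⥤ ModuleCat.{u} A :=
  tensorLeft (ModuleCat.of A (AdicCompletion I A))

/-- `M → Â ⊗ M`, `m ↦ 1 ⊗ m` -/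
noncomputable def ηhat : 𝟭 (ModuleCat.{u} A) ⟶ Ghat I where
  app M := ModuleCat.ofHom ((TensorProduct.mk A (AdicCompletion I A) M) 1)
  naturality M N g := by
    ext x
    rfl

lemma ηhat_app_apply (M : ModuleCat.{u} A) (x : M) :
    ((ηhat I).app M).hom x = (1 : AdicCompletion I A) ⊗ₜ[A] x := rfl

instance : (Ghat I).Additive := inferInstance

/-- the map of complexes `K → Â ⊗ K` -/
noncomputable def ηCx (K : DRing.Cx A) :
    K ⟶ ((Ghat I).mapHomologicalComplex (ComplexShape.up ℤ)).obj K where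
  f i := (ηhat I).app (K.X i)
  comm' i j _ := ((ηhat I).naturality (K.d i j)).symm

variable [IsNoetherianRing A]

instance : PreservesFiniteLimits (Ghat I) := inferInstance
instance : PreservesFiniteColimits (Ghat I) := inferInstance
instance : (Ghat I).PreservesHomology := inferInstance

end Defs

section K1

variable {A : Type u} [CommRing A] (I : Ideal A)

lemma isAdicComplete_of_pow_smul_eq_bot (H : Type*) [AddCommGroup H] [Module A H] (n : ℕ)
    (hn : I ^ n • (⊤ : Submodule A H) = ⊥) : IsAdicComplete I H where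
  haus' x hx := by
    have h1 := hx n
    rw [SModEq.zero, hn] at h1
    simpa using h1
  prec' f hf := by
    refine ⟨f n, fun k => ?_⟩
    rcases le_total k n with hk | hk
    · exact hf hk
    · have h1 := hf hk
      rw [hn, SModEq.bot] at h1
      rw [h1]

variable [IsNoetherianRing A]

/-- **K1**: `H → Â ⊗ H` is bijective for a finite module killed by a power of `I` -/
lemma bijective_ηhat_of_killed (H : ModuleCat.{u} A) [Module.Finite A H] (n : ℕ)
    (hn : I ^ n • (⊤ : Submodule A H) = ⊥) : Function.Bijective ((ηhat I).app H).hom := by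
  have h1 := AdicCompletion.ofTensorProduct_bijective_of_finite_of_isNoetherian I H
  haveI := isAdicComplete_of_pow_smul_eq_bot I H n hn
  have h2 : Function.Bijective (AdicCompletion.of I H) := AdicCompletion.of_bijective I H
  have h3 : (AdicCompletion.ofTensorProduct I H) ∘ ((ηhat I).app H).hom = AdicCompletion.of I H := by
    funext x
    change AdicCompletion.ofTensorProduct I H ((1 : AdicCompletion I A) ⊗ₜ[A] x) = _
    rw [AdicCompletion.ofTensorProduct_tmul, one_smul]
  rw [← h3] at h2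
  exact (Function.Bijective.of_comp_iff' h1 _).1 h2

lemma isIso_ηhat_of_killed (H : ModuleCat.{u} A) [Module.Finite A H] (n : ℕ)
    (hn : I ^ n • (⊤ : Submodule A H) = ⊥) : IsIso ((ηhat I).app H) :=
  (ConcreteCategory.isIso_iff_bijective _).2 (bijective_ηhat_of_killed I H n hn)

/-- **K2** -/
lemma quasiIso_ηCx (K : DRing.Cx A) (h : ∀ i, IsIso ((ηhat I).app (K.homology i))) :
    QuasiIso (ηCx I K) := by
  rw [quasiIso_iff]
  intro i
  rw [quasiIsoAt_iff_isIso_homologyMap]
  have h1 := NatTrans.app_homology (ηhat I) (K.sc i)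
  have h2 : IsIso (ShortComplex.homologyMap ((K.sc i).mapNatTrans (ηhat I))) := by
    have : ShortComplex.homologyMap ((K.sc i).mapNatTrans (ηhat I)) =
        ((K.sc i).mapHomologyIso (𝟭 _)).hom ≫ (ηhat I).app (K.sc i).homology ≫
          ((K.sc i).mapHomologyIso (Ghat I)).inv := by
      rw [h1]
      simp
    rw [this]
    haveI : IsIso ((ηhat I).app (K.sc i).homology) := h i
    infer_instance
  exact h2

end K1

section K3

variable {A : Type u} [CommRing A]

/-- finite cohomology killed by powers of `J` -/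
def FinKilled (J : Ideal A) (X : Dual.D A) : Prop :=
  ∀ i : ℤ, Module.Finite A (Dual.HD A X i) ∧
    ∃ k : ℕ, ∀ a ∈ J ^ k, ∀ x : Dual.HD A X i, a • x = 0

lemma FinKilled.of_iso {J : Ideal A} {X Y : Dual.D A} (e : X ≅ Y) (h : FinKilled J X) :
    FinKilled J Y := by
  intro i
  let φ := ((DerivedCategory.homologyFunctor (ModuleCat.{u} A) i).mapIso e).toLinearEquiv
  obtain ⟨h1, k, hk⟩ := h i
  refine ⟨Module.Finite.equiv φ, k, fun a ha y => ?_⟩
  obtain ⟨x, rfl⟩ := φ.surjective y
  rw [← map_smul, hk a ha x, map_zero]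

variable [IsNoetherianRing A]

lemma finKilled_cone (J : Ideal A) (f : A) {X Y : Dual.D A} (g : X ⟶ Y) (h : Y ⟶ X⟦(1 : ℤ)⟧)
    (hT : Triangle.mk (f • 𝟙 X) g h ∈ distTriang (Dual.D A)) (hX : FinKilled J X) :
    FinKilled (Ideal.span {f} ⊔ J) Y := by
  intro i
  obtain ⟨fin₁, k₁, hk₁⟩ := hX i
  obtain ⟨fin₂, k₂, hk₂⟩ := hX (i + 1)
  let T := Triangle.mk (f • 𝟙 X) g h
  let α : (DerivedCategory.homologyFunctor (ModuleCat.{u} A) i).obj X ⟶
      (DerivedCategory.homologyFunctor (ModuleCat.{u} A) i).obj Y :=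
    (DerivedCategory.homologyFunctor (ModuleCat.{u} A) i).map g
  let β : (DerivedCategory.homologyFunctor (ModuleCat.{u} A) i).obj Y ⟶
      (DerivedCategory.homologyFunctor (ModuleCat.{u} A) (i + 1)).obj X :=
    DerivedCategory.HomologySequence.δ T i (i + 1) rfl
  have hex := DerivedCategory.HomologySequence.exact₃ T hT i (i + 1) rfl
  have hex' : Function.Exact α.hom β.hom :=
    (ShortComplex.ShortExact.moduleCat_exact_iff_function_exact _).1 hex
  have hfα : ∀ y : Dual.HD A X i, α.hom (f • y) = 0 := by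
    intro y
    have h0 : (DerivedCategory.homologyFunctor (ModuleCat.{u} A) i).map (f • 𝟙 X) ≫ α = 0 := by
      rw [← Functor.map_comp]
      have : (f • 𝟙 X) ≫ g = 0 := comp_distTriang_mor_zero₁₂ _ hT
      rw [this, Functor.map_zero]
    rw [Groth.Agent.Lib.Helper8.HSmul.homologyFunctor_map_smul_id] at h0
    have := congrArg (fun t => t.hom y) h0
    exact this
  have hfβ : ∀ x : Dual.HD A Y i, f • β.hom x = 0 := by
    intro x
    have h0 : β ≫ (DerivedCategory.homologyFunctor (ModuleCat.{u} A) (i + 1)).map (f • 𝟙 X) = 0 :=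
      DerivedCategory.HomologySequence.δ_comp T hT i (i + 1) rfl
    rw [Groth.Agent.Lib.Helper8.HSmul.homologyFunctor_map_smul_id] at h0
    have := congrArg (fun t => t.hom x) h0
    exact this
  constructor
  · haveI : IsNoetherian A (Dual.HD A X i) := isNoetherian_of_isNoetherianRing_of_finite A _
    haveI : IsNoetherian A (Dual.HD A X (i + 1)) := isNoetherian_of_isNoetherianRing_of_finite A _
    haveI : IsNoetherian A (Dual.HD A Y i) :=
      isNoetherian_of_range_eq_ker α.hom β.hom
        (LinearMap.exact_iff.1 hex').symm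
    infer_instance
  · refine ⟨(1 + k₂) + (1 + k₁), fun w hw x => ?_⟩
    rw [pow_add] at hw
    refine Submodule.mul_induction_on hw (fun u hu v hv => ?_) (fun w₁ w₂ h₁ h₂ => ?_)
    · obtain ⟨c, a', ha', rfl⟩ := Groth.Agent.Lib.Helper8.DNak.mem_sup_pow f k₂ hu
      obtain ⟨c', a'', ha'', rfl⟩ := Groth.Agent.Lib.Helper8.DNak.mem_sup_pow f k₁ hv
      have h1 : β.hom ((c * f + a') • x) = 0 := by
        rw [LinearMap.map_smul, add_smul, mul_smul, hfβ x, smul_zero, zero_add, hk₂ a' ha']
      obtain ⟨y, hy⟩ := (hex' _).1 h1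
      rw [mul_comm, mul_smul, ← hy, ← LinearMap.map_smul, add_smul, mul_smul, map_add,
        LinearMap.map_smul, hfα y, smul_zero, zero_add, hk₁ a'' ha'' y, map_zero]
    · rw [add_smul, h₁, h₂, add_zero]

end K3

section Induction

open Groth.Agent.Lib.Helper8.DNak

variable {A : Type u} [CommRing A] (I : Ideal A)

lemma ghat_map_smul (f : A) (K : DRing.Cx A) :
    ((Ghat I).mapHomologicalComplex (ComplexShape.up ℤ)).map (f • 𝟙 K) =
      f • 𝟙 (((Ghat I).mapHomologicalComplex (ComplexShape.up ℤ)).obj K) := by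
  refine HomologicalComplex.hom_ext _ _ (fun j => ?_)
  change (ModuleCat.of A (AdicCompletion I A)) ◁ (f • 𝟙 (K.X j)) = f • 𝟙 _
  apply ModuleCat.hom_ext
  apply TensorProduct.ext'
  intro x n
  change x ⊗ₜ[A] (f • n) = f • (x ⊗ₜ[A] n)
  rw [TensorProduct.tmul_smul]

/-- invariance of the nullity of the cone under isomorphisms of the target -/
lemma isCNull_mappingCone_comp_iso {K L L' : DRing.Cx A} (φ : K ⟶ L) (ι : L ≅ L')
    (h : IsCNull I (Q.obj (mappingCone φ) : Dual.D A)) :
    IsCNull I (Q.obj (mappingCone (φ ≫ ι.hom)) : Dual.D A) := by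
  let a : mappingCone φ ⟶ mappingCone (φ ≫ ι.hom) :=
    mappingCone.map φ (φ ≫ ι.hom) (𝟙 K) ι.hom (by rw [Category.id_comp])
  let b : mappingCone (φ ≫ ι.hom) ⟶ mappingCone φ :=
    mappingCone.map (φ ≫ ι.hom) φ (𝟙 K) ι.inv (by simp)
  have hab : a ≫ b = 𝟙 _ := by
    rw [← mappingCone.map_comp]
    have := mappingCone.map_id φ
    convert this using 2 <;> simp
  have hba : b ≫ a = 𝟙 _ := by
    rw [← mappingCone.map_comp]
    have := mappingCone.map_id (φ ≫ ι.hom)
    convert this using 2 <;> simp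
  exact h.of_iso (Q.mapIso ⟨a, b, hab, hba⟩)

lemma ηCx_naturality {K L : DRing.Cx A} (φ : K ⟶ L) :
    φ ≫ ηCx I L = ηCx I K ≫ ((Ghat I).mapHomologicalComplex (ComplexShape.up ℤ)).map φ := by
  refine HomologicalComplex.hom_ext _ _ (fun n => ?_)
  exact (ηhat I).naturality (φ.f n)

lemma mapHomologicalComplexIso_hom_f {K L : DRing.Cx A} (φ : K ⟶ L)
    (H : ModuleCat.{u} A ⥤ ModuleCat.{u} A) [H.Additive] (n : ℤ) :
    (mappingCone.mapHomologicalComplexIso φ H).hom.f n =
      H.map ((mappingCone.fst φ).1.v n (n + 1) rfl) ≫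
        (mappingCone.inl ((H.mapHomologicalComplex (ComplexShape.up ℤ)).map φ)).v (n + 1) n
          (by omega) +
      H.map ((mappingCone.snd φ).v n n (add_zero n)) ≫
        (mappingCone.inr ((H.mapHomologicalComplex (ComplexShape.up ℤ)).map φ)).f n := by
  have h1 : (mappingCone.mapHomologicalComplexIso φ H).hom.f n =
      (mappingCone.mapHomologicalComplexXIso φ H n).hom := rfl
  rw [h1, mappingCone.mapHomologicalComplexXIso_eq φ H n (n + 1) rfl,
    mappingCone.mapHomologicalComplexXIso'_hom]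

/-- compatibility of `η` with the comparison isomorphism for mapping cones -/
lemma ηCx_mappingCone {K L : DRing.Cx A} (φ : K ⟶ L) :
    ηCx I (mappingCone φ) ≫ (mappingCone.mapHomologicalComplexIso φ (Ghat I)).hom =
      mappingCone.map φ (((Ghat I).mapHomologicalComplex (ComplexShape.up ℤ)).map φ)
        (ηCx I K) (ηCx I L) (ηCx_naturality I φ) := by
  refine HomologicalComplex.hom_ext _ _ (fun n => ?_)
  have n1 : (mappingCone.fst φ).1.v n (n + 1) rfl ≫ (ηhat I).app (K.X (n + 1)) =
      (ηhat I).app ((mappingCone φ).X n) ≫ (Ghat I).map ((mappingCone.fst φ).1.v n (n + 1) rfl) :=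
    (ηhat I).naturality ((mappingCone.fst φ).1.v n (n + 1) rfl)
  have n2 : (mappingCone.snd φ).v n n (add_zero n) ≫ (ηhat I).app (L.X n) =
      (ηhat I).app ((mappingCone φ).X n) ≫ (Ghat I).map ((mappingCone.snd φ).v n n (add_zero n)) :=
    (ηhat I).naturality ((mappingCone.snd φ).v n n (add_zero n))
  rw [HomologicalComplex.comp_f, mapHomologicalComplexIso_hom_f]
  change (ηhat I).app ((mappingCone φ).X n) ≫ _ = _
  rw [Preadditive.comp_add, ← Category.assoc, ← Category.assoc, ← n1, ← n2,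
    mappingCone.ext_from_iff _ (n + 1) n rfl]
  constructor
  · simp [mappingCone.map, ηCx]
    rfl
  · simp [mappingCone.map, ηCx]
    rfl

lemma isCNull_cone_map_congr {K L : DRing.Cx A} (φ : K ⟶ K) (ψ ψ' : L ⟶ L) (a : K ⟶ L)
    (comm : φ ≫ a = a ≫ ψ) (comm' : φ ≫ a = a ≫ ψ') (h : ψ = ψ')
    (hn : IsCNull I (Q.obj (mappingCone (mappingCone.map φ ψ a a comm)) : Dual.D A)) :
    IsCNull I (Q.obj (mappingCone (mappingCone.map φ ψ' a a comm')) : Dual.D A) := by
  subst h
  exact hn

variable {I} in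
/-- **Nakayama for the cone of `η`** -/
theorem isCNull_cone_η_of_kos (fs : List A) (hfs : ∀ f ∈ fs, f ∈ I) :
    ∀ K : DRing.Cx A, IsCNull I (Q.obj (mappingCone (ηCx I (KosCx fs K))) : Dual.D A) →
      IsCNull I (Q.obj (mappingCone (ηCx I K)) : Dual.D A) := by
  induction fs with
  | nil => exact fun K h => h
  | cons f fs ih =>
    intro K h
    have hf : f ∈ I := hfs f List.mem_cons_self
    have h1 := ih (fun g hg => hfs g (List.mem_cons_of_mem _ hg))
      (mappingCone (f • 𝟙 K)) h
    have h2 := isCNull_mappingCone_comp_iso I (ηCx I (mappingCone (f • 𝟙 K)))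
      (mappingCone.mapHomologicalComplexIso (f • 𝟙 K) (Ghat I)) h1
    rw [ηCx_mappingCone] at h2
    have h3 := isCNull_cone_map_congr I (f • 𝟙 K) _ (f • 𝟙 _) (ηCx I K) _
      (smul_id_comm f (ηCx I K)) (ghat_map_smul I f K) h2
    exact isCNull_mappingCone_of_kosMap f hf (ηCx I K) h3

end Induction

section Main

open Groth.Agent.Lib.Helper8.DNak

variable {A : Type u} [CommRing A] [IsNoetherianRing A] (I : Ideal A)

lemma finKilled_kosCx (fs : List A) : ∀ (K : DRing.Cx A) (J : Ideal A),
    FinKilled J (Q.obj K : Dual.D A) →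
      FinKilled (Ideal.span {x | x ∈ fs} ⊔ J) (Q.obj (KosCx fs K) : Dual.D A) := by
  induction fs with
  | nil =>
    intro K J h
    have : Ideal.span {x : A | x ∈ ([] : List A)} ⊔ J = J := by simp
    rw [this]
    exact h
  | cons f fs ih =>
    intro K J h
    have hT := mappingCone_triangle_distinguished (f • 𝟙 K)
    have h0 : (Q.map (f • 𝟙 K) : (Q.obj K : Dual.D A) ⟶ _) = f • 𝟙 (Q.obj K) := by
      rw [Functor.map_smul, CategoryTheory.Functor.map_id]
    have h1 : FinKilled (Ideal.span {f} ⊔ J) (Q.obj (mappingCone (f • 𝟙 K)) : Dual.D A) :=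
      finKilled_cone J f (Q.map (mappingCone.inr (f • 𝟙 K)))
        (Q.map (mappingCone.triangle (f • 𝟙 K)).mor₃ ≫ (Q.commShiftIso (1 : ℤ)).hom.app K)
        (by rw [← h0]; exact hT) h
    have h2 := ih (mappingCone (f • 𝟙 K)) _ h1
    have e : Ideal.span {x | x ∈ f :: fs} ⊔ J =
        Ideal.span {x | x ∈ fs} ⊔ (Ideal.span {f} ⊔ J) := by
      rw [span_cons, sup_comm (Ideal.span {f}), sup_assoc]
    rw [e]
    exact h2

lemma bijective_precomp_of_triangle (T : Pretriangulated.Triangle (Dual.D A))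
    (hT : T ∈ distTriang _) (L : Dual.D A)
    (h3 : ∀ φ : T.obj₃ ⟶ L, φ = 0) (h3' : ∀ φ : T.obj₃⟦(-1 : ℤ)⟧ ⟶ L, φ = 0) :
    Function.Bijective (fun g : T.obj₂ ⟶ L => T.mor₁ ≫ g) := by
  constructor
  · intro g g' h
    rw [← sub_eq_zero]
    have h0 : T.mor₁ ≫ (g - g') = 0 := by
      rw [Preadditive.comp_sub]
      exact sub_eq_zero.2 h
    obtain ⟨k, hk⟩ := Pretriangulated.Triangle.yoneda_exact₂ _ hT (g - g') h0
    rw [hk, h3 k, comp_zero]
  · intro g
    have h0 : T.invRotate.mor₁ ≫ g = 0 := h3' _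
    obtain ⟨k, hk⟩ := Pretriangulated.Triangle.yoneda_exact₂ _
      (Pretriangulated.inv_rot_of_distTriang _ hT) g h0
    exact ⟨k, hk.symm⟩

/-- base case: `η` is a quasi-isomorphism on complexes with finite `I`-power torsion cohomology -/
lemma quasiIso_ηCx_of_finKilled (K : DRing.Cx A) (hK : FinKilled I (Q.obj K : Dual.D A)) :
    QuasiIso (ηCx I K) := by
  apply quasiIso_ηCx
  intro i
  let e : Dual.HD A (Q.obj K) i ≃ₗ[A] K.homology i :=
    ((DerivedCategory.homologyFunctorFactors (ModuleCat.{u} A) i).app K).toLinearEquiv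
  obtain ⟨h1, k, hk⟩ := hK i
  haveI : Module.Finite A (K.homology i) := Module.Finite.equiv e
  refine isIso_ηhat_of_killed I (K.homology i) k ?_
  rw [Submodule.eq_bot_iff]
  intro x hx
  refine Submodule.smul_induction_on hx (fun a ha y _ => ?_) (fun x y hx hy => ?_)
  · obtain ⟨z, rfl⟩ := e.surjective y
    rw [← LinearEquiv.map_smul, hk a ha z, map_zero]
  · rw [hx, hy, add_zero]

/-- the cone of `K → Â ⊗ K` has no maps to derived complete objects when `K` has finite
cohomology -/
theorem isCNull_cone_η (Z : DRing.Cx A)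
    (h : ∀ n : ℤ, Module.Finite A (Dual.HD A (Q.obj Z) n)) :
    IsCNull I (Q.obj (mappingCone (ηCx I Z)) : Dual.D A) := by
  obtain ⟨fs, hfs⟩ := Groth.Agent.Lib.Helper8.RGam.exists_list_span I
  have h0 : FinKilled (⊥ : Ideal A) (Q.obj Z : Dual.D A) := by
    intro i
    refine ⟨h i, 1, fun a ha x => ?_⟩
    rw [pow_one, Ideal.mem_bot] at ha
    rw [ha, zero_smul]
  have h1 := finKilled_kosCx fs Z ⊥ h0
  rw [sup_bot_eq, ← hfs] at h1
  have h2 := quasiIso_ηCx_of_finKilled I _ h1
  have hz : IsZero (Q.obj (mappingCone (ηCx I (KosCx fs Z))) : Dual.D A) := by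
    have hT := mappingCone_triangle_distinguished (ηCx I (KosCx fs Z))
    haveI : IsIso (Q.map (ηCx I (KosCx fs Z)) : (Q.obj _ : Dual.D A) ⟶ _) := inferInstance
    exact (Triangle.isZero₃_iff_isIso₁ _ hT).2 (by assumption)
  refine isCNull_cone_η_of_kos fs (fun f hf => ?_) Z (isCNull_of_isZero hz)
  rw [hfs]
  exact Ideal.subset_span (show f ∈ {y | y ∈ fs} from hf)

/-- `Â ⊗ H ≃ H^` (finite `H`), `A`-linearly -/
noncomputable def ghatEquiv (H : ModuleCat.{u} A) [Module.Finite A H] :
    ((Ghat I).obj H) ≃ₗ[A] AdicCompletion I H :=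
  (AdicCompletion.ofTensorProductEquivOfFiniteNoetherian I H).restrictScalars A

lemma ghatEquiv_η (H : ModuleCat.{u} A) [Module.Finite A H] (x : H) :
    ghatEquiv I H (((ηhat I).app H).hom x) = AdicCompletion.of I H x := by
  change AdicCompletion.ofTensorProduct I H ((1 : AdicCompletion I A) ⊗ₜ[A] x) = _
  rw [AdicCompletion.ofTensorProduct_tmul, one_smul]

/-- the comparison `H^n(Q(Â ⊗ Z)) ≃ Â ⊗ H^n(Q Z)` -/
noncomputable def homologyGhatIso (Z : DRing.Cx A) (n : ℤ) :
    (DerivedCategory.homologyFunctor (ModuleCat.{u} A) n).obj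
      (Q.obj (((Ghat I).mapHomologicalComplex (ComplexShape.up ℤ)).obj Z)) ≅
    (Ghat I).obj ((DerivedCategory.homologyFunctor (ModuleCat.{u} A) n).obj (Q.obj Z)) :=
  (DerivedCategory.homologyFunctorFactors (ModuleCat.{u} A) n).app _ ≪≫
    (Z.sc n).mapHomologyIso (Ghat I) ≪≫
    (Ghat I).mapIso ((DerivedCategory.homologyFunctorFactors (ModuleCat.{u} A) n).app Z).symm

/-- `Â ⊗ Z` is derived complete when `Z` has finite cohomology -/
theorem isDerivedComplete_ghat (Z : DRing.Cx A)
    (h : ∀ n : ℤ, Module.Finite A (Dual.HD A (Q.obj Z) n)) :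
    DRing.IsDerivedComplete I
      (Q.obj (((Ghat I).mapHomologicalComplex (ComplexShape.up ℤ)).obj Z) : Dual.D A) := by
  rw [Groth.Agent.S7050.result]
  intro n
  haveI := h n
  haveI : IsAdicComplete I (AdicCompletion I (Dual.HD A (Q.obj Z) n)) :=
    AdicCompletion.isAdicComplete (IsNoetherian.noetherian I)
  have h1 := Groth.Agent.S7048.result I (AdicCompletion I (Dual.HD A (Q.obj Z) n))
  let e : Dual.HD A (Q.obj (((Ghat I).mapHomologicalComplex (ComplexShape.up ℤ)).obj Z)) n ≃ₗ[A]
      AdicCompletion I (Dual.HD A (Q.obj Z) n) :=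
    (homologyGhatIso I Z n).toLinearEquiv.trans
      (ghatEquiv I ((DerivedCategory.homologyFunctor (ModuleCat.{u} A) n).obj (Q.obj Z)))
  exact isDerivedComplete_of_iso I
    ((DerivedCategory.singleFunctor (ModuleCat.{u} A) 0).mapIso e.toModuleIso).symm h1

/-- **reflection**: `Q Z → Q (Â ⊗ Z)` is the derived completion when `Z` has finite cohomology -/
theorem bijective_precomp_η (Z : DRing.Cx A)
    (h : ∀ n : ℤ, Module.Finite A (Dual.HD A (Q.obj Z) n)) (E : Dual.D A)
    (hE : DRing.IsDerivedComplete I E) :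
    Function.Bijective (fun g : (Q.obj (((Ghat I).mapHomologicalComplex (ComplexShape.up ℤ)).obj Z) :
      Dual.D A) ⟶ E => Q.map (ηCx I Z) ≫ g) := by
  have hn := isCNull_cone_η I Z h
  have hT := mappingCone_triangle_distinguished (ηCx I Z)
  exact bijective_precomp_of_triangle _ hT E (hn E hE) ((hn.shift (-1)) E hE)

end Main

end Groth.Agent.Lib.Helper8.DCmpH
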