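import Mathlib
import Groth.Prelude.Def_DRing3
import Groth.Agent.Lib.Helper8.DCmpH

/-!
# Helper8 — DCmpI: `H^n` of the derived completion of a complex with finite cohomology over a
Noetherian ring is the `I`-adic completion of `H^n` (S7060)
-/

set_option autoImplicit false

universe u

open CategoryTheory CategoryTheory.Limits DerivedCategory CochainComplex Pretriangulated
  MonoidalCategory TensorProduct

attribute [local instance] HasDerivedCategory.standard

namespace Groth.Agent.Lib.Helper8.DCmpI

open Groth.Agent.Lib.Helper8.DCmpG Groth.Agent.Lib.Helper8.DCmpH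

section Gen

variable {C : Type*} [Category C] [Abelian C]

lemma homologyIso_homologyData_left_hom (S : ShortComplex C) :
    S.homologyData.left.homologyIso.hom = 𝟙 _ := by
  change (S.leftHomologyIso.symm ≪≫ S.homologyData.left.leftHomologyIso).hom = _
  exact S.leftHomologyIso.inv_hom_id

lemma mapHomologyIso_id_hom (S : ShortComplex C) :
    (S.mapHomologyIso (𝟭 C)).hom = 𝟙 S.homology := by
  have h1 : S.homologyπ ≫ (S.mapHomologyIso (𝟭 C)).hom =
      (S.homologyData.left.map (𝟭 C)).cyclesIso.hom ≫ S.homologyData.left.π :=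
    (S.homologyData.left.map (𝟭 C)).homologyπ_comp_homologyIso_hom
  have h2 : S.homologyπ = S.homologyData.left.cyclesIso.hom ≫ S.homologyData.left.π := by
    have h := S.homologyData.left.homologyπ_comp_homologyIso_hom
    have e := homologyIso_homologyData_left_hom S
    rw [← h]
    exact (Category.comp_id _).symm.trans (congrArg (fun t => S.homologyπ ≫ t) e.symm)
  have h3 : (S.homologyData.left.map (𝟭 C)).cyclesIso.hom = S.homologyData.left.cyclesIso.hom := by
    have a : S.homologyData.left.cyclesIso.hom ≫ S.homologyData.left.i = S.iCycles :=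
      S.homologyData.left.cyclesIso_hom_comp_i
    have b : (S.homologyData.left.map (𝟭 C)).cyclesIso.hom ≫ S.homologyData.left.i = S.iCycles :=
      (S.homologyData.left.map (𝟭 C)).cyclesIso_hom_comp_i
    exact (cancel_mono S.homologyData.left.i).1 (b.trans a.symm)
  have key : S.homologyπ ≫ (S.mapHomologyIso (𝟭 C)).hom = S.homologyπ ≫ 𝟙 S.homology := by
    refine h1.trans ?_
    refine (congrArg (fun t => t ≫ S.homologyData.left.π) h3).trans ?_
    exact h2.symm.trans (Category.comp_id _).symm
  exact (cancel_epi S.homologyπ).1 key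

end Gen

section Main

variable {A : Type u} [CommRing A] [IsNoetherianRing A] (I : Ideal A)

lemma homologyMap_ηCx (Z : DRing.Cx A) (n : ℤ) :
    HomologicalComplex.homologyMap (ηCx I Z) n ≫ ((Z.sc n).mapHomologyIso (Ghat I)).hom =
      (ηhat I).app (Z.homology n) := by
  have h := ShortComplex.homologyMap_mapNatTrans (Z.sc n) (ηhat I)
  have h' : HomologicalComplex.homologyMap (ηCx I Z) n =
      ShortComplex.homologyMap ((Z.sc n).mapNatTrans (ηhat I)) := rfl
  have h1 := mapHomologyIso_id_hom (Z.sc n)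
  have h2 : ShortComplex.homologyMap ((Z.sc n).mapNatTrans (ηhat I)) =
      (ηhat I).app (Z.sc n).homology ≫ ((Z.sc n).mapHomologyIso (Ghat I)).inv := by
    refine h.trans ?_
    refine (congrArg (fun t => t ≫ (ηhat I).app (Z.sc n).homology ≫
      ((Z.sc n).mapHomologyIso (Ghat I)).inv) h1).trans ?_
    exact Category.id_comp _
  refine (congrArg (fun t => t ≫ ((Z.sc n).mapHomologyIso (Ghat I)).hom) (h'.trans h2)).trans ?_
  change ((ηhat I).app (Z.sc n).homology ≫ ((Z.sc n).mapHomologyIso (Ghat I)).inv) ≫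
    ((Z.sc n).mapHomologyIso (Ghat I)).hom = _
  rw [Category.assoc, Iso.inv_hom_id, Category.comp_id]
  rfl

/-- **key compatibility**: `H^n(η)` followed by the comparison is `η` on `H^n` -/
lemma homologyFunctor_map_η_comp (Z : DRing.Cx A) (n : ℤ) :
    (DerivedCategory.homologyFunctor (ModuleCat.{u} A) n).map (Q.map (ηCx I Z)) ≫
      (homologyGhatIso I Z n).hom =
    (ηhat I).app ((DerivedCategory.homologyFunctor (ModuleCat.{u} A) n).obj (Q.obj Z)) := by
  have hnat := (DerivedCategory.homologyFunctorFactors (ModuleCat.{u} A) n).hom.naturality (ηCx I Z)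
  have hη := (ηhat I).naturality ((DerivedCategory.homologyFunctorFactors (ModuleCat.{u} A) n).inv.app Z)
  have h3 := homologyMap_ηCx I Z n
  let F := DerivedCategory.homologyFunctorFactors (ModuleCat.{u} A) n
  let GZ := ((Ghat I).mapHomologicalComplex (ComplexShape.up ℤ)).obj Z
  let a : (DerivedCategory.homologyFunctor (ModuleCat.{u} A) n).obj (Q.obj Z) ⟶ Z.homology n :=
    F.hom.app Z
  let a' : Z.homology n ⟶ (DerivedCategory.homologyFunctor (ModuleCat.{u} A) n).obj (Q.obj Z) :=
    F.inv.app Z
  let b : (DerivedCategory.homologyFunctor (ModuleCat.{u} A) n).obj (Q.obj GZ) ⟶ GZ.homology n :=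
    F.hom.app GZ
  let m : GZ.homology n ⟶ (Ghat I).obj (Z.homology n) := ((Z.sc n).mapHomologyIso (Ghat I)).hom
  let c : Z.homology n ⟶ GZ.homology n := HomologicalComplex.homologyMap (ηCx I Z) n
  have haa' : a ≫ a' = 𝟙 _ := F.hom_inv_id_app Z
  have e1 : (DerivedCategory.homologyFunctor (ModuleCat.{u} A) n).map (Q.map (ηCx I Z)) ≫ b =
      a ≫ c := hnat
  have e2 : c ≫ m = (ηhat I).app (Z.homology n) := h3
  have e3 : a' ≫ (ηhat I).app ((DerivedCategory.homologyFunctor (ModuleCat.{u} A) n).obj (Q.obj Z)) =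
      (ηhat I).app (Z.homology n) ≫ (Ghat I).map a' := hη
  change (DerivedCategory.homologyFunctor (ModuleCat.{u} A) n).map (Q.map (ηCx I Z)) ≫
    (b ≫ m ≫ (Ghat I).map a') = _
  rw [← Category.assoc, e1, Category.assoc, ← Category.assoc c, e2, ← e3, ← Category.assoc, haa',
    Category.id_comp]

/-- **S7060** -/
theorem homology_derivedCompletion_equiv [DRing.HasDerivedCompletion I] (K : Dual.D A)
    (hK : ∀ n : ℤ, Module.Finite A (Dual.HD A K n)) (n : ℤ) :
    ∃ e : Dual.HD A ((DRing.derivedCompletion I).obj K).obj n ≃ₗ[A]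
        AdicCompletion I (Dual.HD A K n),
      ∀ x : Dual.HD A K n,
        e (((DerivedCategory.homologyFunctor (ModuleCat.{u} A) n).map
          (DRing.toDerivedCompletion I K)).hom x) =
          AdicCompletion.of I (Dual.HD A K n) x := by
  let Z : DRing.Cx A := Q.objPreimage K
  let eK : (Q.obj Z : Dual.D A) ≅ K := Q.objObjPreimageIso K
  have hZ : ∀ n : ℤ, Module.Finite A (Dual.HD A (Q.obj Z) n) := fun n => by
    haveI := hK n
    exact Module.Finite.equiv
      ((DerivedCategory.homologyFunctor (ModuleCat.{u} A) n).mapIso eK.symm).toLinearEquiv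
  let GZ := ((Ghat I).mapHomologicalComplex (ComplexShape.up ℤ)).obj Z
  let Y : Dual.D A := Q.obj GZ
  have hY : DRing.IsDerivedComplete I Y := isDerivedComplete_ghat I Z hZ
  let η' : K ⟶ Y := eK.inv ≫ Q.map (ηCx I Z)
  have hB : ∀ L : Dual.D A, DRing.IsDerivedComplete I L →
      Function.Bijective (fun g : Y ⟶ L => η' ≫ g) := by
    intro L hL
    have h1 := bijective_precomp_η I Z hZ L hL
    have h2 : Function.Bijective (fun g : (Q.obj Z : Dual.D A) ⟶ L => eK.inv ≫ g) := by
      constructor
      · intro g g' h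
        exact (cancel_epi eK.inv).1 h
      · intro g
        exact ⟨eK.hom ≫ g, by simp⟩
    have h3 : (fun g : Y ⟶ L => η' ≫ g) =
        (fun g : (Q.obj Z : Dual.D A) ⟶ L => eK.inv ≫ g) ∘
          (fun g : Y ⟶ L => Q.map (ηCx I Z) ≫ g) := by
      funext g
      exact Category.assoc _ _ _
    rw [h3]
    exact h2.comp h1
  obtain ⟨ε, hε⟩ := Groth.Agent.Lib.Helper8.DCmpC.exists_iso_of_reflection I K Y η' hY hB
  let hF := DerivedCategory.homologyFunctor (ModuleCat.{u} A) n
  haveI := hK n
  let H : ModuleCat.{u} A := hF.obj K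
  let t : hF.obj ((DRing.derivedCompletion I).obj K).obj ⟶ (Ghat I).obj H :=
    hF.map ε.hom ≫ (homologyGhatIso I Z n).hom ≫ (Ghat I).map (hF.map eK.hom)
  haveI : IsIso t := by
    dsimp only [t]
    infer_instance
  have ht : hF.map (DRing.toDerivedCompletion I K) ≫ t = (ηhat I).app H := by
    have e1 : hF.map (DRing.toDerivedCompletion I K) ≫ hF.map ε.hom =
        hF.map eK.inv ≫ hF.map (Q.map (ηCx I Z)) := by
      rw [← hF.map_comp, hε, hF.map_comp]
    have e2 := homologyFunctor_map_η_comp I Z n
    have e3 : hF.map eK.hom ≫ (ηhat I).app H =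
        (ηhat I).app (hF.obj (Q.obj Z)) ≫ (Ghat I).map (hF.map eK.hom) :=
      (ηhat I).naturality (hF.map eK.hom)
    have e4 : hF.map eK.inv ≫ hF.map eK.hom = 𝟙 _ := by
      rw [← hF.map_comp, eK.inv_hom_id, hF.map_id]
    dsimp only [t]
    rw [← Category.assoc, e1, Category.assoc, ← Category.assoc (hF.map (Q.map (ηCx I Z))), e2,
      ← e3, ← Category.assoc, e4, Category.id_comp]
  let e : Dual.HD A ((DRing.derivedCompletion I).obj K).obj n ≃ₗ[A]
      AdicCompletion I (Dual.HD A K n) :=
    (asIso t).toLinearEquiv.trans (ghatEquiv I H)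
  refine ⟨e, fun x => ?_⟩
  change ghatEquiv I H (t.hom ((hF.map (DRing.toDerivedCompletion I K)).hom x)) = _
  have h5 : t.hom ((hF.map (DRing.toDerivedCompletion I K)).hom x) = ((ηhat I).app H).hom x := by
    rw [← ht]
    rfl
  rw [h5]
  exact ghatEquiv_η I H x

end Main

end Groth.Agent.Lib.Helper8.DCmpI
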