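import Groth.Agent.Lib.Helper8.PC10
import Mathlib.Algebra.Homology.DerivedCategory.SingleTriangle
import Mathlib.Algebra.Homology.SingleHomology

/-!
# Helper8: intermediate subcategories (PCoh cluster, S5606)
-/

universe w v u

open CategoryTheory CategoryTheory.Limits CategoryTheory.Pretriangulated CochainComplex HomComplex

namespace Groth.Agent.Lib.Helper8.PC11

open PC1 PC2 PC3 PC4 PC5 PC6 PC7 PC8 PC9 PC10 ZeroObject

variable {A : Type u} [Category.{v} A] [Abelian A] [HasDerivedCategory.{w} A]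
variable (P : ObjectProperty A) [P.IsClosedUnderIsomorphisms] [P.ContainsZero]

/-- the derived homology of an object placed in degree `0` -/
noncomputable def homologySingleIso (X : A) :
    (DerivedCategory.homologyFunctor A 0).obj ((DerivedCategory.singleFunctor A 0).obj X) ≅ X :=
  (DerivedCategory.homologyFunctor A 0).mapIso ((DerivedCategory.singleFunctorIsoCompQ A 0).app X)
    ≪≫ hIsoD _ 0 ≪≫ HomologicalComplex.singleObjHomologySelfIso (ComplexShape.up ℤ) 0 X

lemma isZero_homology_single (X : A) (i : ℤ) (hi : i ≠ 0) :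
    IsZero ((DerivedCategory.homologyFunctor A i).obj
      ((DerivedCategory.singleFunctor A 0).obj X)) := by
  have h1 : IsZero (((HomologicalComplex.single A (ComplexShape.up ℤ) 0).obj X).homology i) :=
    HomologicalComplex.isZero_single_obj_homology _ _ _ _ hi
  exact h1.of_iso ((DerivedCategory.homologyFunctor A i).mapIso
    ((DerivedCategory.singleFunctorIsoCompQ A 0).app X) ≪≫ hIsoD _ i)

/-- a `0`-pseudo-coherent object (placed in degree `0`) is of finite type -/
theorem finiteType_of_npc_single (hqs : PCoh.IsQuasiStableUnderKernels P) (X : A)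
    (h : IsNPC P 0 ((DerivedCategory.singleFunctor A 0).obj X)) : PCoh.IsOfFiniteType P X :=
  finiteType_of_iso P (homologySingleIso X)
    (finiteType_homology_of_npc P hqs 0 h (fun i hi => isZero_homology_single X i (by omega)))

lemma npc_of_isZero (n : ℤ) {X : DerivedCategory A} (hX : IsZero X) : IsNPC P n X := by
  refine ⟨0, strictPC_of_all P (strictPCAll_zero P) n, ⟨?_⟩⟩
  exact (DerivedCategory.Q.map_isZero (isZero_zero _)).iso hX

variable (hsum : ∀ X Y : A, P X → P Y → P (X ⨯ Y))
  (hqs : PCoh.IsQuasiStableUnderKernels P) (hql : PCoh.IsQuasiLiftable P)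

include hsum hqs hql in
/-- in a short exact sequence with pseudo-coherent middle and right terms, the left term is
pseudo-coherent -/
lemma pc_left_of_shortExact {S : ShortComplex A} (hS : S.ShortExact)
    (h₂ : ∀ n : ℤ, IsNPC P n ((DerivedCategory.singleFunctor A 0).obj S.X₂))
    (h₃ : ∀ n : ℤ, IsNPC P n ((DerivedCategory.singleFunctor A 0).obj S.X₃)) (n : ℤ) :
    IsNPC P n ((DerivedCategory.singleFunctor A 0).obj S.X₁) := by
  have := (triangle_all hsum hqs hql (n - 1) _ hS.singleTriangle_distinguished).2.2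
    (by have := h₂ n; rwa [show n = n - 1 + 1 by omega] at this) (h₃ (n - 1))
  rwa [show n - 1 + 1 = n by omega] at this

section Splice

variable (K : CochainComplex A ℕ)

/-- the kernel of the differential -/
noncomputable abbrev Zk (i : ℕ) : A := kernel (K.d i (i + 1))

/-- the map `K^i ⟶ Z^{i+1}` -/
noncomputable abbrev toZ (i : ℕ) : K.X i ⟶ Zk K (i + 1) :=
  kernel.lift _ (K.d i (i + 1)) (K.d_comp_d _ _ _)

/-- the short complex `Z^i ⟶ K^i ⟶ Z^{i+1}` -/
noncomputable def spliceSC (i : ℕ) : ShortComplex A :=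
  ShortComplex.mk (kernel.ι (K.d i (i + 1))) (toZ K i) (by
    rw [← cancel_mono (kernel.ι _), Category.assoc, kernel.lift_ι, kernel.condition, zero_comp])

omit [HasDerivedCategory.{w} A] in
lemma epi_toZ (i : ℕ) (h : K.ExactAt (i + 1)) : Epi (toZ K i) := by
  rw [HomologicalComplex.exactAt_iff' K i (i + 1) (i + 2) (by simp) (by simp)] at h
  exact (ShortComplex.exact_iff_epi_kernel_lift _).1 h

omit [HasDerivedCategory.{w} A] in
lemma splice_shortExact (i : ℕ) (h : K.ExactAt (i + 1)) : (spliceSC K i).ShortExact where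
  exact := ShortComplex.exact_of_f_is_kernel _
    (isKernelOfComp (kernel.ι (K.d (i + 1) (i + 2))) (K.d i (i + 1))
      (kernelIsKernel (K.d i (i + 1))) _ (kernel.lift_ι _ _ _))
  mono_f := by dsimp [spliceSC]; infer_instance
  epi_g := epi_toZ K i h

omit [HasDerivedCategory.{w} A] in
lemma isIso_toZ_zero (h0 : K.ExactAt 0) (h1 : K.ExactAt 1) : IsIso (toZ K 0) := by
  have := epi_toZ K 0 h1
  have hm : Mono (K.d 0 1) := by
    rw [HomologicalComplex.exactAt_iff' K 0 0 1 (by simp) (by simp)] at h0
    have h00 : (K.sc' 0 0 1).f = 0 := K.shape 0 0 (by simp)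
    exact (ShortComplex.exact_iff_mono _ h00).1 h0
  have : Mono (toZ K 0) := by
    have : toZ K 0 ≫ kernel.ι _ = K.d 0 1 := kernel.lift_ι _ _ _
    exact mono_of_mono_fac this
  exact isIso_of_mono_of_epi _

include hsum hqs hql in
/-- the cycles of an exact bounded complex with pseudo-coherent terms are pseudo-coherent -/
lemma pc_Zk (hex : ∀ i : ℕ, K.ExactAt i) (N : ℕ) (hN : ∀ i : ℕ, N < i → IsZero (K.X i))
    (hK : ∀ i : ℕ, 1 ≤ i → ∀ n : ℤ, IsNPC P n ((DerivedCategory.singleFunctor A 0).obj (K.X i))) :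
    ∀ (m i : ℕ), i + m = N + 1 → 1 ≤ i → ∀ n : ℤ,
      IsNPC P n ((DerivedCategory.singleFunctor A 0).obj (Zk K i)) := by
  intro m
  induction m with
  | zero =>
    intro i hi _ n
    apply npc_of_isZero
    apply Functor.map_isZero
    have hz : IsZero (K.X i) := hN i (by omega)
    exact IsZero.of_mono (kernel.ι (K.d i (i + 1))) hz
  | succ m ih =>
    intro i hi h1 n
    exact pc_left_of_shortExact P hsum hqs hql (splice_shortExact K i (hex _)) (hK i h1)
      (ih (i + 1) (by omega) (by omega)) n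

end Splice

/-- S5606 -/
theorem intermediate (hsum : ∀ X Y : A, P X → P Y → P (X ⨯ Y))
    (hqs : PCoh.IsQuasiStableUnderKernels P) (hql : PCoh.IsQuasiLiftable P)
    (P₁ : ObjectProperty A) (hle : ∀ X : A, P X → P₁ X)
    (hpc : ∀ X : A, P₁ X → PCoh.IsPC P ((DerivedCategory.singleFunctor A 0).obj X)) :
    PCoh.IsQuasiLiftable P₁ ∧ PCoh.IsQuasiStableUnderKernels P₁ := by
  constructor
  · intro E F u hu hF
    obtain ⟨E₀, π, hE₀, hπ⟩ := finiteType_of_npc_single P hqs F (hpc F hF 0)
    have hfst : Epi (pullback.snd u π) := inferInstance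
    obtain ⟨F', v, hF', hv⟩ := hql _ _ (pullback.snd u π) hfst hE₀
    refine ⟨F', v ≫ pullback.fst u π, hle _ hF', ?_⟩
    have : (v ≫ pullback.fst u π) ≫ u = (v ≫ pullback.snd u π) ≫ π := by
      simp only [Category.assoc, pullback.condition]
    rw [this]
    exact epi_comp _ _
  · intro K hex hb hK
    obtain ⟨N, hN⟩ := hb
    have h1 := pc_Zk P hsum hqs hql K hex N hN (fun i hi n => hpc _ (hK i hi) n) N 1 (by omega)
      le_rfl 0
    have hiso := isIso_toZ_zero K (hex 0) (hex 1)
    have h2 : IsNPC P 0 ((DerivedCategory.singleFunctor A 0).obj (K.X 0)) :=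
      h1.of_iso ((DerivedCategory.singleFunctor A 0).mapIso (asIso (toZ K 0))).symm
    obtain ⟨E₀, π, hE₀, hπ⟩ := finiteType_of_npc_single P hqs _ h2
    exact ⟨E₀, π, hle _ hE₀, hπ⟩

end Groth.Agent.Lib.Helper8.PC11
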