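import Mathlib
import Groth.Prelude.Def_DRing3
import Groth.Agent.Lib.Helper8.DCmpI
import Groth.Agent.Lib.Helper8.PC11
import Groth.Agent.Lib.helper19.CompletionNoetherian
import Groth.Agent.S7048
import Groth.Agent.S7049
import Groth.Agent.S7051
import Groth.Agent.S7053

/-!
# Helper8 — DCmpJ: over a Noetherian ring, linear maps from a finite module `F` to a derived complete
module extend uniquely along `F → Â ⊗ F`; a derived complete module `M` with `M/IM` finite is
`I`-adically complete and finite over `Â` (S7059)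
-/

set_option autoImplicit false

universe u

open CategoryTheory CategoryTheory.Limits DerivedCategory CochainComplex Pretriangulated
  MonoidalCategory TensorProduct

attribute [local instance] HasDerivedCategory.standard

namespace Groth.Agent.Lib.Helper8.DCmpJ

open Groth.Agent.Lib.Helper8.DCmpG Groth.Agent.Lib.Helper8.DCmpH Groth.Agent.Lib.Helper8.DCmpI

section Single

variable {A : Type u} [CommRing A] [IsNoetherianRing A] (I : Ideal A)

/-- `F[0]` as a complex -/
noncomputable abbrev sg (F : ModuleCat.{u} A) : DRing.Cx A :=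
  (HomologicalComplex.single (ModuleCat.{u} A) (ComplexShape.up ℤ) 0).obj F

lemma finite_HD_sg (F : ModuleCat.{u} A) [Module.Finite A F] (n : ℤ) :
    Module.Finite A (Dual.HD A (Q.obj (sg F)) n) := by
  by_cases hn : n = 0
  · subst hn
    exact Module.Finite.equiv (Groth.Agent.Lib.Helper8.PC11.homologySingleIso F).symm.toLinearEquiv
  · have h := Groth.Agent.Lib.Helper8.PC11.isZero_homology_single F n hn
    haveI : Subsingleton (Dual.HD A (Q.obj (sg F)) n) := ModuleCat.subsingleton_of_isZero h
    infer_instance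

/-- `Â ⊗ (F[0]) ≅ (Â ⊗ F)[0]` -/
noncomputable def ghatSg (F : ModuleCat.{u} A) :
    ((Ghat I).mapHomologicalComplex (ComplexShape.up ℤ)).obj (sg F) ≅ sg ((Ghat I).obj F) :=
  (HomologicalComplex.singleMapHomologicalComplex (Ghat I) (ComplexShape.up ℤ) 0).app F

lemma ηCx_sg (F : ModuleCat.{u} A) :
    ηCx I (sg F) ≫ (ghatSg I F).hom =
      (HomologicalComplex.single (ModuleCat.{u} A) (ComplexShape.up ℤ) 0).map ((ηhat I).app F) := by
  apply HomologicalComplex.from_single_hom_ext
  rw [HomologicalComplex.comp_f, HomologicalComplex.single_map_f_self]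
  dsimp only [ghatSg, Iso.app_hom]
  rw [HomologicalComplex.singleMapHomologicalComplex_hom_app_self]
  have h := (ηhat I).naturality
    (HomologicalComplex.singleObjXSelf (ComplexShape.up ℤ) 0 F).hom
  change (ηhat I).app ((sg F).X 0) ≫ _ = _
  rw [← Category.assoc]
  erw [← h]

/-- **(\*)** maps from a finite module `F` to a derived complete module extend uniquely to
`Â ⊗ F` -/
theorem bijective_precomp_ηhat (F : ModuleCat.{u} A) [Module.Finite A F] (M : ModuleCat.{u} A)
    (hM : DRing.IsDerivedComplete I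
      ((DerivedCategory.singleFunctor (ModuleCat.{u} A) 0).obj M)) :
    Function.Bijective (fun g : (Ghat I).obj F ⟶ M => (ηhat I).app F ≫ g) := by
  let S := DerivedCategory.singleFunctor (ModuleCat.{u} A) 0
  let Y : Dual.D A := Q.obj (((Ghat I).mapHomologicalComplex (ComplexShape.up ℤ)).obj (sg F))
  let qη : S.obj F ⟶ Y := Q.map (ηCx I (sg F))
  let η₀ : F ⟶ (Ghat I).obj F := (ηhat I).app F
  have h1 : Function.Bijective (fun g : Y ⟶ S.obj M => qη ≫ g) :=
    bijective_precomp_η I (sg F) (finite_HD_sg F) (S.obj M) hM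
  let s' : Y ≅ S.obj ((Ghat I).obj F) := Q.mapIso (ghatSg I F)
  have hs : qη ≫ s'.hom = S.map η₀ := by
    change Q.map (ηCx I (sg F)) ≫ Q.map (ghatSg I F).hom = _
    rw [← Q.map_comp, ηCx_sg]
    rfl
  constructor
  · intro g g' h
    have h' : η₀ ≫ g = η₀ ≫ g' := h
    apply S.map_injective
    have h2 : qη ≫ (s'.hom ≫ S.map g) = qη ≫ (s'.hom ≫ S.map g') := by
      rw [← Category.assoc, ← Category.assoc, hs, ← S.map_comp, ← S.map_comp, h']
    exact (cancel_epi s'.hom).1 (h1.1 h2)
  · intro p
    let p' : F ⟶ M := p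
    obtain ⟨g₀, hg₀⟩ := h1.2 (S.map p')
    have hg₀' : qη ≫ g₀ = S.map p' := hg₀
    refine ⟨S.preimage (s'.inv ≫ g₀), ?_⟩
    apply S.map_injective
    change S.map (η₀ ≫ S.preimage (s'.inv ≫ g₀)) = S.map p'
    rw [S.map_comp, S.map_preimage, ← hs, Category.assoc, Iso.hom_inv_id_assoc, hg₀']

end Single

section Mod

variable {A : Type u} [CommRing A] [IsNoetherianRing A] (I : Ideal A)

/-- uniqueness in (\*), for linear maps -/
lemma eq_zero_of_one_tmul (F : Type u) [AddCommGroup F] [Module A F] [Module.Finite A F]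
    (M : Type u) [AddCommGroup M] [Module A M] (hM : DRing.IsDerivedComplete I (Dual.inD A M))
    (ψ : (AdicCompletion I A ⊗[A] F) →ₗ[A] M) (h : ∀ y : F, ψ ((1 : AdicCompletion I A) ⊗ₜ[A] y) = 0) :
    ψ = 0 := by
  have hb := bijective_precomp_ηhat I (ModuleCat.of A F) (ModuleCat.of A M) hM
  let ψ' : (Ghat I).obj (ModuleCat.of A F) ⟶ ModuleCat.of A M := ModuleCat.ofHom ψ
  have h1 : (ηhat I).app (ModuleCat.of A F) ≫ ψ' = (ηhat I).app (ModuleCat.of A F) ≫ 0 := by
    rw [comp_zero]
    ext y
    exact h y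
  have h2 : ψ' = 0 := hb.1 h1
  have h3 := congrArg ModuleCat.Hom.hom h2
  exact h3

/-- existence in (\*), for linear maps -/
lemma exists_extension (F : Type u) [AddCommGroup F] [Module A F] [Module.Finite A F]
    (M : Type u) [AddCommGroup M] [Module A M] (hM : DRing.IsDerivedComplete I (Dual.inD A M))
    (p : F →ₗ[A] M) :
    ∃ q : (AdicCompletion I A ⊗[A] F) →ₗ[A] M,
      ∀ y : F, q ((1 : AdicCompletion I A) ⊗ₜ[A] y) = p y := by
  have hb := bijective_precomp_ηhat I (ModuleCat.of A F) (ModuleCat.of A M) hM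
  obtain ⟨g, hg⟩ := hb.2 (ModuleCat.ofHom p)
  refine ⟨g.hom, fun y => ?_⟩
  have h1 := congrArg (fun t => t.hom y) hg
  exact h1

lemma exists_fg_sup_eq_top (M : Type u) [AddCommGroup M] [Module A M]
    (hf : Module.Finite A (M ⧸ I • (⊤ : Submodule A M))) :
    ∃ M₀ : Submodule A M, M₀.FG ∧ M₀ ⊔ I • (⊤ : Submodule A M) = ⊤ := by
  classical
  obtain ⟨s, hs⟩ := hf.fg_top
  let σ := Function.surjInv (Submodule.mkQ_surjective (I • (⊤ : Submodule A M)))
  refine ⟨Submodule.span A (s.image σ : Set M), Submodule.fg_span (Finset.finite_toSet _), ?_⟩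
  have h1 : Submodule.map (I • (⊤ : Submodule A M)).mkQ (Submodule.span A (s.image σ : Set M)) = ⊤ := by
    rw [Submodule.map_span, Finset.coe_image, ← Set.image_comp]
    have : (fun x => (I • (⊤ : Submodule A M)).mkQ (σ x)) = id := by
      funext x
      exact Function.surjInv_eq (Submodule.mkQ_surjective _) x
    change Submodule.span A ((fun x => (I • (⊤ : Submodule A M)).mkQ (σ x)) '' (s : Set _)) = ⊤
    rw [this, Set.image_id, hs]
  have h2 := Submodule.comap_map_eq (I • (⊤ : Submodule A M)).mkQ
    (Submodule.span A (s.image σ : Set M))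
  rw [h1, Submodule.comap_top, Submodule.ker_mkQ] at h2
  exact h2.symm

lemma isHausdorff_of_linearEquiv {M Q : Type*} [AddCommGroup M] [Module A M] [AddCommGroup Q]
    [Module A Q] (e : M ≃ₗ[A] Q) (h : IsHausdorff I Q) : IsHausdorff I M := by
  constructor
  intro x hx
  apply e.injective
  rw [map_zero]
  apply h.haus'
  intro n
  have h1 := hx n
  rw [SModEq.zero] at h1 ⊢
  have h2 : e x ∈ Submodule.map e.toLinearMap (I ^ n • (⊤ : Submodule A M)) :=
    Submodule.mem_map_of_mem h1
  rw [Submodule.map_smul''] at h2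
  exact Submodule.smul_mono le_rfl le_top h2

/-- **S7059** -/
theorem isAdicComplete_and_finite (M : Type u) [AddCommGroup M] [Module A M]
    (hc : DRing.IsDerivedComplete I (Dual.inD A M))
    (hf : Module.Finite A (M ⧸ I • (⊤ : Submodule A M))) :
    IsAdicComplete I M ∧ Module.Finite (AdicCompletion I A) (AdicCompletion I M) := by
  have hI : I.FG := IsNoetherian.noetherian I
  obtain ⟨M₀, hM₀fg, hM₀⟩ := exists_fg_sup_eq_top I M hf
  haveI : Module.Finite A M₀ := Module.Finite.iff_fg.2 hM₀fg
  obtain ⟨q, hq⟩ := exists_extension I M₀ M hc M₀.subtype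
  -- `Â ⊗ M₀` is derived complete
  have hP : DRing.IsDerivedComplete I (Dual.inD A (AdicCompletion I A ⊗[A] M₀)) := by
    haveI : IsAdicComplete I (AdicCompletion I M₀) := AdicCompletion.isAdicComplete hI
    have h1 := Groth.Agent.S7048.result I (AdicCompletion I M₀)
    let e : (AdicCompletion I A ⊗[A] M₀) ≃ₗ[A] AdicCompletion I M₀ :=
      ghatEquiv I (ModuleCat.of A M₀)
    exact Groth.Agent.Lib.Helper8.DNak.isDerivedComplete_of_iso I
      ((DerivedCategory.singleFunctor (ModuleCat.{u} A) 0).mapIso e.toModuleIso).symm h1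
  -- `q` is surjective by derived Nakayama
  have hqs : Function.Surjective q := by
    have h1 := (Groth.Agent.S7051.result I _ M q hP hc).2
    have h2 : I • (⊤ : Submodule A (M ⧸ LinearMap.range q)) = ⊤ := by
      rw [eq_top_iff]
      intro c _
      obtain ⟨m, rfl⟩ := Submodule.Quotient.mk_surjective _ c
      have hm : m ∈ M₀ ⊔ I • (⊤ : Submodule A M) := by rw [hM₀]; trivial
      obtain ⟨m₀, hm₀, i, hi, rfl⟩ := Submodule.mem_sup.1 hm
      have h3 : (Submodule.Quotient.mk m₀ : M ⧸ LinearMap.range q) = 0 := by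
        rw [Submodule.Quotient.mk_eq_zero]
        exact ⟨(1 : AdicCompletion I A) ⊗ₜ[A] (⟨m₀, hm₀⟩ : M₀), hq _⟩
      rw [Submodule.Quotient.mk_add, h3, zero_add]
      have h4 : (LinearMap.range q).mkQ i ∈
          Submodule.map (LinearMap.range q).mkQ (I • (⊤ : Submodule A M)) :=
        Submodule.mem_map_of_mem hi
      rw [Submodule.map_smul''] at h4
      exact Submodule.smul_mono le_rfl le_top h4
    haveI := Groth.Agent.S7053.result I hI _ h1 h2
    rw [← LinearMap.range_eq_top, ← Submodule.Quotient.subsingleton_iff]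
    infer_instance
  have hof : Function.Surjective (AdicCompletion.of I M) := Groth.Agent.S7049.result I hI M hc
  refine ⟨?_, ?_⟩
  · -- Hausdorff + precomplete
    have hstab : ∀ (a : AdicCompletion I A) (n : AdicCompletion I A ⊗[A] M₀),
        q n = 0 → q (a • n) = 0 := by
      intro a n hn
      let ψ : (AdicCompletion I A ⊗[A] A) →ₗ[A] M :=
        q ∘ₗ ((LinearMap.toSpanSingleton (AdicCompletion I A)
          (AdicCompletion I A ⊗[A] M₀) n).restrictScalars A) ∘ₗ
          (TensorProduct.rid A (AdicCompletion I A)).toLinearMap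
      have hψ : ψ = 0 := by
        apply eq_zero_of_one_tmul I A M hc
        intro r
        change q ((TensorProduct.rid A (AdicCompletion I A)
          ((1 : AdicCompletion I A) ⊗ₜ[A] r)) • n) = 0
        rw [TensorProduct.rid_tmul, smul_assoc, one_smul, LinearMap.map_smul, hn, smul_zero]
      have h1 := LinearMap.congr_fun hψ (a ⊗ₜ[A] (1 : A))
      change q ((TensorProduct.rid A (AdicCompletion I A) (a ⊗ₜ[A] (1 : A))) • n) = 0 at h1
      rwa [TensorProduct.rid_tmul, one_smul] at h1
    let N' : Submodule (AdicCompletion I A) (AdicCompletion I A ⊗[A] M₀) :=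
      { carrier := {n | q n = 0}
        add_mem' := fun {x y} hx hy => by
          change q (x + y) = 0
          rw [map_add, hx, hy, add_zero]
        zero_mem' := map_zero q
        smul_mem' := fun a n hn => hstab a n hn }
    haveI := Groth.Agent.Lib.helper19.isNoetherianRing_adicCompletion A I
    haveI hcomp : IsAdicComplete (I.map (algebraMap A (AdicCompletion I A))) (AdicCompletion I A) :=
      AdicCompletion.isAdicComplete_self I hI
    have hjac : I.map (algebraMap A (AdicCompletion I A)) ≤ Ideal.jacobson ⊥ :=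
      IsAdicComplete.le_jacobson_bot _
    have hH : IsHausdorff (I.map (algebraMap A (AdicCompletion I A)))
        ((AdicCompletion I A ⊗[A] M₀) ⧸ N') := IsHausdorff.of_le_jacobson _ _ hjac
    have hH' : IsHausdorff I ((AdicCompletion I A ⊗[A] M₀) ⧸ N') :=
      (IsHausdorff.map_algebraMap_iff (S := AdicCompletion I A)).1 hH
    have hN' : N'.restrictScalars A = LinearMap.ker q := by
      ext
      rfl
    let e : M ≃ₗ[A] ((AdicCompletion I A ⊗[A] M₀) ⧸ N') :=
      (q.quotKerEquivOfSurjective hqs).symm ≪≫ₗ Submodule.quotEquivOfEq _ _ hN'.symm ≪≫ₗ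
        Submodule.Quotient.restrictScalarsEquiv A N'
    haveI := isHausdorff_of_linearEquiv I e hH'
    haveI : IsPrecomplete I M := AdicCompletion.of_surjective_iff.1 hof
    exact {}
  · -- finiteness
    haveI : IsAdicComplete I (AdicCompletion I M) := AdicCompletion.isAdicComplete hI
    have hMhat := Groth.Agent.S7048.result I (AdicCompletion I M)
    let g₂' : (AdicCompletion I A ⊗[A] M₀) →ₗ[AdicCompletion I A] AdicCompletion I M :=
      (AdicCompletion.map I M₀.subtype) ∘ₗ (AdicCompletion.ofTensorProduct I M₀)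
    let g₁ : (AdicCompletion I A ⊗[A] M₀) →ₗ[A] AdicCompletion I M := (AdicCompletion.of I M) ∘ₗ q
    have h12 : g₁ = g₂'.restrictScalars A := by
      rw [← sub_eq_zero]
      apply eq_zero_of_one_tmul I M₀ (AdicCompletion I M) hMhat
      intro y
      rw [LinearMap.sub_apply, sub_eq_zero]
      change AdicCompletion.of I M (q ((1 : AdicCompletion I A) ⊗ₜ[A] y)) =
        AdicCompletion.map I M₀.subtype
          (AdicCompletion.ofTensorProduct I M₀ ((1 : AdicCompletion I A) ⊗ₜ[A] y))
      rw [hq, AdicCompletion.ofTensorProduct_tmul, one_smul, AdicCompletion.map_of]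
    have hsurj : Function.Surjective g₂' := by
      have h1 : Function.Surjective g₁ := hof.comp hqs
      intro z
      obtain ⟨w, hw⟩ := h1 z
      refine ⟨w, ?_⟩
      rw [← hw, h12]
      rfl
    exact Module.Finite.of_surjective g₂' hsurj

end Mod

end Groth.Agent.Lib.Helper8.DCmpJ
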