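import Mathlib
import Groth.Agent.Lib.Helper8.DCmpF

/-!
# Helper8 — DCmpK: images of chains of one-element completions under linear, weakly exact
functors which commute with countable powers only on a class of objects stable under the
one-element completions.
-/

set_option autoImplicit false

universe v u w

open CategoryTheory CategoryTheory.Limits Pretriangulated

namespace Groth.Agent.Lib.Helper8.DCmpA

open Groth.Agent.Lib.Helper8.MilnorTri

variable {T : Type u} [Category.{v} T] [Preadditive T] [HasZeroObject T] [HasShift T ℤ]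
  [∀ n : ℤ, (shiftFunctor T n).Additive] [Pretriangulated T]
  {A : Type w} [CommRing A] [Linear A T] [∀ n : ℤ, (shiftFunctor T n).Linear A]
  [HasLimitsOfShape (Discrete ℕ) T]

/-- a linear functor sending distinguished triangles to triangles which can be completed to
distinguished triangles, and commuting with countable powers of objects satisfying `P` -/
structure WExactOn (P : T → Prop) (G : T ⥤ T) : Prop where
  lin : ∀ (a : A) {X Y : T} (φ : X ⟶ Y), G.map (a • φ) = a • G.map φ
  tri : ∀ Tr ∈ distTriang T,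
    ∃ w, Triangle.mk (G.map Tr.mor₁) (G.map Tr.mor₂) w ∈ distTriang T
  prod : ∀ X : T, P X →
    Nonempty (IsLimit (Fan.mk (G.obj (∏ᶜ (Kc X))) (fun n => G.map (Pi.π (Kc X) n))))

section Map

variable {P : T → Prop} {G : T ⥤ T} [G.Additive] (hG : WExactOn (A := A) P G) {f : A} {X : T}
  (c : Compl f X) (hX : P X)

include hG hX in
lemma exists_dist₁_on : ∃ δ', Triangle.mk (Pi.lift (fun n => G.map (c.a n)))
    (D (Kc (G.obj X)) (tc f (G.obj X))) δ' ∈ distTriang T := by
  obtain ⟨w, hw⟩ : ∃ w : G.obj (∏ᶜ Kc X) ⟶ (G.obj c.T₀)⟦(1 : ℤ)⟧,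
      Triangle.mk (G.map (Pi.lift c.a)) (G.map (D (Kc X) (tc f X))) w ∈ distTriang T :=
    hG.tri _ c.dist₁
  let e : G.obj (∏ᶜ (Kc X)) ≅ ∏ᶜ (Kc (G.obj X)) :=
    (hG.prod X hX).some.conePointUniqueUpToIso (productIsProduct (Kc (G.obj X)))
  have he : ∀ n : ℕ, e.hom ≫ Pi.π (Kc (G.obj X)) n = G.map (Pi.π (Kc X) n) := fun n =>
    (hG.prod X hX).some.conePointUniqueUpToIso_hom_comp (productIsProduct (Kc (G.obj X))) ⟨n⟩
  refine ⟨e.inv ≫ w, isomorphic_distinguished _ hw _ ?_⟩
  refine Triangle.isoMk _ _ (Iso.refl _) e.symm e.symm ?_ ?_ ?_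
  · change Pi.lift (fun n => G.map (c.a n)) ≫ e.inv = 𝟙 _ ≫ G.map (Pi.lift c.a)
    rw [Category.id_comp, ← cancel_mono e.hom, Category.assoc, e.inv_hom_id, Category.comp_id]
    apply Pi.hom_ext
    intro n
    rw [Category.assoc, he, Pi.lift_π, ← G.map_comp, Pi.lift_π]
  · change D (Kc (G.obj X)) (tc f (G.obj X)) ≫ e.inv = e.inv ≫ G.map (D (Kc X) (tc f X))
    rw [← cancel_mono e.hom, Category.assoc, Category.assoc, e.inv_hom_id, Category.comp_id,
      ← cancel_epi e.hom, e.hom_inv_id_assoc]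
    apply Pi.hom_ext
    intro n
    rw [Category.assoc, Category.assoc, he, Pi.lift_π, ← G.map_comp, Pi.lift_π,
      Preadditive.comp_sub, he, ← Category.assoc, he,
      G.map_sub, G.map_comp, hG.lin, G.map_id]
  · change (e.inv ≫ w) ≫ (𝟙 (G.obj c.T₀))⟦(1 : ℤ)⟧' = e.inv ≫ w
    rw [CategoryTheory.Functor.map_id, Category.comp_id]

/-- the image of a completion datum -/
noncomputable def Compl.mapOn : Compl f (G.obj X) where
  K' := G.obj c.K'
  η := G.map c.η
  T₀ := G.obj c.T₀
  a n := G.map (c.a n)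
  δ := (exists_dist₁_on hG c hX).choose
  ε := (hG.tri _ c.dist₂).choose
  dist₁ := (exists_dist₁_on hG c hX).choose_spec
  dist₂ := (hG.tri _ c.dist₂).choose_spec

include hG in
lemma IsChain.mapOn (hP : ∀ (f : A) (Y : T) (c : Compl f Y), P Y → P c.K')
    {fs : List A} {X Y : T} {η : X ⟶ Y} (h : IsChain fs X Y η) (hX : P X) :
    IsChain fs (G.obj X) (G.obj Y) (G.map η) ∧ P Y := by
  induction h with
  | nil X =>
    rw [G.map_id]
    exact ⟨IsChain.nil _, hX⟩
  | cons f fs X Y η c _ ih =>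
    rw [G.map_comp]
    exact ⟨IsChain.cons f fs _ _ _ (c.mapOn hG (ih hX).2) (ih hX).1, hP f Y c (ih hX).2⟩

end Map

end Groth.Agent.Lib.Helper8.DCmpA
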