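import Mathlib

/-!
# Full faithfulness of `D⁺(A') ⥤ D(A)` for a thick abelian subcategory with enough `A`-injectives
-/

namespace Groth.Agent.Lib.Helper8.DPlusFF

open CategoryTheory Limits

universe w' w v' v u' u

section General

variable {C D : Type*} [Category C] [Category D]

lemma map_bijective_of_iso (F : C ⥤ D) {X X' Y Y' : C} (eX : X ≅ X') (eY : Y ≅ Y')
    (h : Function.Bijective (fun f : X' ⟶ Y' => F.map f)) :
    Function.Bijective (fun f : X ⟶ Y => F.map f) := by
  constructor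
  · intro f g hfg
    dsimp only at hfg
    have : eX.inv ≫ f ≫ eY.hom = eX.inv ≫ g ≫ eY.hom := h.1 (by
      dsimp only
      simp only [Functor.map_comp, hfg])
    simpa using this
  · intro φ
    obtain ⟨g, hg⟩ := h.2 (F.map eX.inv ≫ φ ≫ F.map eY.hom)
    dsimp only at hg
    refine ⟨eX.hom ≫ g ≫ eY.inv, ?_⟩
    dsimp only
    simp only [Functor.map_comp, hg, Category.assoc, ← F.map_comp, Iso.hom_inv_id,
      Iso.inv_hom_id, F.map_id, Category.comp_id]
    rw [← Category.assoc, ← F.map_comp, Iso.hom_inv_id, F.map_id, Category.id_comp]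

end General

variable {A' : Type u'} [Category.{v'} A'] [Abelian A']
    {A : Type u} [Category.{v} A] [Abelian A]
    (ι : A' ⥤ A) [ι.Additive] [PreservesFiniteLimits ι] [PreservesFiniteColimits ι]
    [ι.Full] [ι.Faithful]

include ι in
lemma injective_of_injective_obj (Y' : A') (hY : Injective (ι.obj Y')) : Injective Y' :=
  ⟨fun {X Z} g f _ => by
    obtain ⟨h, hh⟩ := Injective.factors (ι.map g) (ι.map f)
    exact ⟨ι.preimage h, ι.map_injective (by simp [hh])⟩⟩

lemma enoughInjectives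
    (hinj : ∀ X' : A', ∃ (Y' : A') (i : X' ⟶ Y'), Mono i ∧ Injective (ι.obj Y')) :
    EnoughInjectives A' :=
  ⟨fun X' => by
    obtain ⟨Y', i, hi, hY⟩ := hinj X'
    exact ⟨⟨Y', injective_of_injective_obj ι Y' hY, i, hi⟩⟩⟩

lemma injective_obj_of_injective
    (hinj : ∀ X' : A', ∃ (Y' : A') (i : X' ⟶ Y'), Mono i ∧ Injective (ι.obj Y'))
    (J : A') [Injective J] : Injective (ι.obj J) := by
  obtain ⟨Y', i, hi, hY⟩ := hinj J
  obtain ⟨r, hr⟩ := Injective.factors (𝟙 J) i
  refine ⟨fun {X Z} g f _ => ?_⟩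
  obtain ⟨h, hh⟩ := Injective.factors (g ≫ ι.map i) f
  refine ⟨h ≫ ι.map r, ?_⟩
  rw [← Category.assoc, hh, Category.assoc, ← ι.map_comp, hr, ι.map_id, Category.comp_id]

section Abstract

variable {H₁ H₂ D₁ D₂ : Type*} [Category H₁] [Category H₂] [Category D₁] [Category D₂]

lemma map_bijective_of_square (L₁ : H₁ ⥤ D₁) (L₂ : H₂ ⥤ D₂) (G : H₁ ⥤ H₂) (F : D₁ ⥤ D₂)
    (φ : L₁ ⋙ F ≅ G ⋙ L₂) (k i : H₁)
    (h₁ : Function.Bijective (fun g : k ⟶ i => L₁.map g))
    (hG : Function.Bijective (fun g : k ⟶ i => G.map g))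
    (h₂ : Function.Bijective (fun g : G.obj k ⟶ G.obj i => L₂.map g)) :
    Function.Bijective (fun f : L₁.obj k ⟶ L₁.obj i => F.map f) := by
  have nat : ∀ (g : k ⟶ i),
      F.map (L₁.map g) = φ.hom.app k ≫ L₂.map (G.map g) ≫ φ.inv.app i := by
    intro g
    have := φ.hom.naturality g
    dsimp only [Functor.comp_obj, Functor.comp_map] at this
    rw [← Category.assoc, ← this, Category.assoc, Iso.hom_inv_id_app]
    exact (Category.comp_id _).symm
  constructor
  · intro f₁ f₂ h
    dsimp only at h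
    obtain ⟨g₁, rfl⟩ := h₁.2 f₁
    obtain ⟨g₂, rfl⟩ := h₁.2 f₂
    dsimp only at h ⊢
    rw [nat, nat] at h
    have h' : L₂.map (G.map g₁) = L₂.map (G.map g₂) := by
      have := (cancel_epi _).1 h
      exact (cancel_mono _).1 this
    rw [hG.1 (h₂.1 h')]
  · intro ψ
    obtain ⟨h, hh⟩ := h₂.2 (φ.inv.app k ≫ ψ ≫ φ.hom.app i)
    obtain ⟨g, rfl⟩ := hG.2 h
    dsimp only at hh
    refine ⟨L₁.map g, ?_⟩
    dsimp only
    rw [nat, hh]
    simp

end Abstract

section Main

variable [HasDerivedCategory.{w'} A'] [HasDerivedCategory.{w} A]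

open DerivedCategory

/-- The key bijectivity on `Hom(Qh k, Qh (quot I))` when `I` and `ι I` are K-injective. -/
lemma map_bijective_Qh (k : HomotopyCategory A' (ComplexShape.up ℤ))
    (I : CochainComplex A' ℤ) [I.IsKInjective]
    [CochainComplex.IsKInjective ((ι.mapHomologicalComplex (ComplexShape.up ℤ)).obj I)] :
    Function.Bijective (fun f : (Qh.obj k : DerivedCategory A') ⟶
      Qh.obj ((HomotopyCategory.quotient A' (ComplexShape.up ℤ)).obj I) =>
        ι.mapDerivedCategory.map f) := by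
  have h₁ := CochainComplex.IsKInjective.Qh_map_bijective k I
  have h₂ := CochainComplex.IsKInjective.Qh_map_bijective
    ((ι.mapHomotopyCategory (ComplexShape.up ℤ)).obj k)
    ((ι.mapHomologicalComplex (ComplexShape.up ℤ)).obj I)
  exact map_bijective_of_square Qh Qh (ι.mapHomotopyCategory (ComplexShape.up ℤ))
    ι.mapDerivedCategory ι.mapDerivedCategoryFactorsh k
    ((HomotopyCategory.quotient A' (ComplexShape.up ℤ)).obj I) h₁
    ⟨(ι.mapHomotopyCategory (ComplexShape.up ℤ)).map_injective,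
      (ι.mapHomotopyCategory (ComplexShape.up ℤ)).map_surjective⟩ h₂

include ι in
theorem map_bijective_of_enough_injectives
    (hinj : ∀ X' : A', ∃ (Y' : A') (i : X' ⟶ Y'), Mono i ∧ Injective (ι.obj Y'))
    (X Y : DerivedCategory A') (b : ℤ) [Y.IsGE b] :
    Function.Bijective (fun f : X ⟶ Y => ι.mapDerivedCategory.map f) := by
  haveI := enoughInjectives ι hinj
  obtain ⟨L, _, ⟨e⟩⟩ := DerivedCategory.exists_iso_Q_obj_of_isGE Y b
  obtain ⟨I, i, hi, hI, hIb⟩ :=
    CochainComplex.Plus.modelCategoryQuillen.exists_quasiIso_injective L b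
  haveI : I.IsKInjective := CochainComplex.isKInjective_of_injective I b
  haveI : ∀ n, Injective (((ι.mapHomologicalComplex (ComplexShape.up ℤ)).obj I).X n) :=
    fun n => injective_obj_of_injective ι hinj (I.X n)
  haveI : CochainComplex.IsStrictlyGE ((ι.mapHomologicalComplex (ComplexShape.up ℤ)).obj I) b :=
    (CochainComplex.isStrictlyGE_mapHomologicalComplex_obj_iff (K := I) ι b).2 hIb
  haveI : CochainComplex.IsKInjective ((ι.mapHomologicalComplex (ComplexShape.up ℤ)).obj I) :=
    CochainComplex.isKInjective_of_injective _ b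
  let eY : Y ≅ Qh.obj ((HomotopyCategory.quotient _ _).obj I) :=
    e ≪≫ asIso (Q.map i) ≪≫ (quotientCompQhIso A').symm.app I
  let eX : X ≅ Qh.obj (Qh.objPreimage X) := (Qh.objObjPreimageIso X).symm
  exact map_bijective_of_iso _ eX eY (map_bijective_Qh ι _ I)

end Main

end Groth.Agent.Lib.Helper8.DPlusFF
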