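import Mathlib
import Groth.Prelude.Def_DRing2
import Groth.Agent.Lib.Helper8.DRing5

/-!
# Helper8 — DRing6: two-term free / finite free representatives over a ring (S7078, S7079).
-/

open CategoryTheory CategoryTheory.Limits DerivedCategory CategoryTheory.Pretriangulated

attribute [local instance] HasDerivedCategory.standard

namespace Groth.Agent.Lib.Helper8.DRing6

open Groth.Agent.Lib.Helper8.DRing4 Groth.Agent.Lib.Helper8.DRing5

universe u

variable {R : Type u} [CommRing R]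

lemma isGE_isLE_of_subsingleton (K : Dual.D R)
    (hK : ∀ i : ℤ, i ≠ -1 → i ≠ 0 → Subsingleton (Dual.HD R K i)) : K.IsGE (-1) ∧ K.IsLE 0 := by
  have hz : ∀ i : ℤ, i ≠ -1 → i ≠ 0 →
      Limits.IsZero ((DerivedCategory.homologyFunctor (ModuleCat.{u} R) i).obj K) := fun i h1 h0 =>
    ModuleCat.isZero_iff_subsingleton.2 (hK i h1 h0)
  exact ⟨(DerivedCategory.isGE_iff K (-1)).2 (fun i hi => hz i (by omega) (by omega)),
    (DerivedCategory.isLE_iff K 0).2 (fun i hi => hz i (by omega) (by omega))⟩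

lemma vanishesOutside_twoTerm {G P : ModuleCat.{u} R} (g : G ⟶ P) :
    DRing.VanishesOutside (twoTerm g) (-1) 0 := fun i hi =>
  isZero_twoTerm_X g i (by omega) (by omega)

/-- two-term representative from a surjection of a projective module onto `H^0`. -/
theorem exists_twoTerm_of_surjective (K : Dual.D R)
    (hK : ∀ i : ℤ, i ≠ -1 → i ≠ 0 → Subsingleton (Dual.HD R K i))
    (F : Type u) [AddCommGroup F] [Module R F] [Module.Projective R F]
    (ψ : F →ₗ[R] Dual.HD R K 0) (hψ : Function.Surjective ψ) :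
    ∃ (G : ModuleCat.{u} R) (g : G ⟶ ModuleCat.of R F)
      (u : (homologyFunctor (ModuleCat.{u} R) (-1)).obj K ⟶ G),
      Function.Exact u.hom g.hom ∧ Nonempty (K ≅ Q.obj (twoTerm g)) := by
  obtain ⟨h1, h2⟩ := isGE_isLE_of_subsingleton K hK
  have : Projective (ModuleCat.of R F) := (IsProjective.iff_projective _).1 inferInstance
  have : Epi (ModuleCat.ofHom ψ) := (ModuleCat.epi_iff_surjective _).2 hψ
  obtain ⟨G, g, u, hu, hex, he⟩ := exists_twoTerm K (ModuleCat.of R F) (ModuleCat.ofHom ψ)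
  refine ⟨G, g, u, ?_, he⟩
  exact (ShortComplex.ShortExact.moduleCat_exact_iff_function_exact _).1 hex


/-- S7078 -/
theorem exists_twoTerm_free (K : Dual.D R)
    (hK : ∀ i : ℤ, i ≠ -1 → i ≠ 0 → Subsingleton (Dual.HD R K i)) :
    ∃ E : DRing.Cx R, DRing.VanishesOutside E (-1) 0 ∧ Module.Free R (E.X 0) ∧
      Nonempty (DRing.toD E ≅ K) := by
  obtain ⟨G, g, u, -, ⟨e⟩⟩ := exists_twoTerm_of_surjective K hK (Dual.HD R K 0 →₀ R)
    (Finsupp.linearCombination R id) (Finsupp.linearCombination_id_surjective R _)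
  refine ⟨twoTerm g, vanishesOutside_twoTerm g, ?_, ⟨e.symm⟩⟩
  exact Module.Free.of_equiv (twoTermXZeroIso g).symm.toLinearEquiv

/-- S7079 -/
theorem exists_twoTerm_finite_free [IsNoetherianRing R] (K : Dual.D R)
    (hK : ∀ i : ℤ, i ≠ -1 → i ≠ 0 → Subsingleton (Dual.HD R K i))
    (h1 : Module.Finite R (Dual.HD R K (-1))) (h0 : Module.Finite R (Dual.HD R K 0)) :
    ∃ E : DRing.Cx R, DRing.VanishesOutside E (-1) 0 ∧ Module.Free R (E.X 0) ∧
      Module.Finite R (E.X 0) ∧ Module.Finite R (E.X (-1)) ∧ Nonempty (DRing.toD E ≅ K) := by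
  obtain ⟨n, ψ, hψ⟩ := Module.Finite.exists_fin' R (Dual.HD R K 0)
  obtain ⟨G, g, u, hex, ⟨e⟩⟩ := exists_twoTerm_of_surjective K hK (Fin n → R) ψ hψ
  have hG : Module.Finite R G := by
    rw [Module.finite_def]
    apply Submodule.fg_of_fg_map_of_fg_inf_ker g.hom
    · exact IsNoetherian.noetherian _
    · rw [top_inf_eq, LinearMap.exact_iff.1 hex]
      rw [LinearMap.range_eq_map]
      exact Submodule.FG.map _ (Module.finite_def.1 h1)
  refine ⟨twoTerm g, vanishesOutside_twoTerm g, ?_, ?_, ?_, ⟨e.symm⟩⟩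
  · exact Module.Free.of_equiv (twoTermXZeroIso g).symm.toLinearEquiv
  · exact Module.Finite.equiv (twoTermXZeroIso g).symm.toLinearEquiv
  · exact Module.Finite.equiv (twoTermXNegOneIso g).symm.toLinearEquiv

end Groth.Agent.Lib.Helper8.DRing6
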