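import Mathlib
import Groth.Prelude.Def_DRing2
import Groth.Agent.Lib.Helper8.DRing6

/-!
# Helper8 — DRing7: annihilation of `Ext^1(K, N)` for two-term `K` (S7082).
-/

open CategoryTheory CategoryTheory.Limits DerivedCategory CategoryTheory.Pretriangulated

attribute [local instance] HasDerivedCategory.standard

namespace Groth.Agent.Lib.Helper8.DRing7

open Groth.Agent.Lib.Helper8.DRing3 Groth.Agent.Lib.Helper8.DRing4 Groth.Agent.Lib.Helper8.DRing5
  Groth.Agent.Lib.Helper8.DRing6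

universe u

variable {R : Type u} [CommRing R]

lemma smul_toS {M : CochainComplex (ModuleCat.{u} R) ℤ} {N : ModuleCat.{u} R} (a : R)
    (φ : M.X (-1) ⟶ N) (hφ : M.d (-2) (-1) ≫ φ = 0) :
    a • toS φ hφ = toS (a • φ) (by rw [Linear.comp_smul, hφ, smul_zero]) := by
  apply HomologicalComplex.to_single_hom_ext
  rw [HomologicalComplex.smul_f_apply, toS_f, toS_f, Linear.smul_comp]

/-- for a two-term `E` with projective `E^0`: `a` kills all of `Hom(Q E, N[1])` iff `a • 𝟙_{E^{-1}}` factors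
through `d`. -/
theorem smul_ext_eq_zero_iff (E : CochainComplex (ModuleCat.{u} R) ℤ)
    (hE : ∀ i : ℤ, i ≠ -1 → i ≠ 0 → IsZero (E.X i)) [Projective (E.X 0)] (a : R) :
    (∀ (N : ModuleCat.{u} R) (ξ : Q.obj E ⟶ ((singleFunctor (ModuleCat.{u} R) 0).obj N)⟦(1 : ℤ)⟧),
        a • ξ = 0) ↔
      ∃ h : E.X 0 ⟶ E.X (-1), E.d (-1) 0 ≫ h = a • 𝟙 (E.X (-1)) := by
  have hE' : ∀ i : ℤ, 0 < i → IsZero (E.X i) := fun i hi => hE i (by omega) (by omega)
  constructor
  · intro H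
    have hφ : E.d (-2) (-1) ≫ 𝟙 (E.X (-1)) = 0 := (hE (-2) (by decide) (by decide)).eq_of_src _ _
    have h1 := H (E.X (-1)) (Q.map (toS (𝟙 _) hφ) ≫ (eN (E.X (-1))).inv)
    have h2 : Q.map (toS (a • 𝟙 (E.X (-1))) (by rw [Linear.comp_smul, hφ, smul_zero])) = 0 := by
      rw [← smul_toS a _ hφ, (Q (C := ModuleCat.{u} R)).map_smul,
        ← cancel_mono (eN (E.X (-1))).inv, Linear.smul_comp, h1, zero_comp]
    obtain ⟨s, hs⟩ := (Q_map_toS_eq_zero_iff E hE' _ _).1 h2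
    exact ⟨s, hs.symm⟩
  · rintro ⟨h, hh⟩ N ξ
    obtain ⟨φ, hφ, hξ⟩ := exists_toS E hE' N (ξ ≫ (eN N).hom)
    rw [← cancel_mono (eN N).hom, Linear.smul_comp, hξ, zero_comp,
      ← (Q (C := ModuleCat.{u} R)).map_smul, smul_toS, Q_map_toS_eq_zero_iff E hE']
    refine ⟨h ≫ φ, ?_⟩
    rw [← Category.assoc, hh, Linear.smul_comp, Category.id_comp]

/-- S7082 -/
theorem twoTerm_ext_one_annihilated_iff_factor (I : Ideal R) (K : Dual.D R)
    (hK : ∀ i : ℤ, i ≠ -1 → i ≠ 0 → Subsingleton (Dual.HD R K i)) :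
    (∀ (N : Type u) [AddCommGroup N] [Module R N] (a : R), a ∈ I →
        ∀ ξ : K ⟶ (Dual.inD R N)⟦(1 : ℤ)⟧, a • ξ = 0) ↔
      ∀ (E : DRing.Cx R), DRing.VanishesOutside E (-1) 0 → Module.Projective R (E.X 0) →
        Nonempty (DRing.toD E ≅ K) → ∀ a : R, a ∈ I →
          ∃ h : E.X 0 ⟶ E.X (-1), E.d (-1) 0 ≫ h = a • 𝟙 (E.X (-1)) := by
  constructor
  · intro H E hE hE0 ⟨e⟩ a ha
    have : Projective (E.X 0) := (IsProjective.iff_projective _).1 hE0
    refine (smul_ext_eq_zero_iff E (fun i h1 h0 => hE i (by omega)) a).1 (fun N ξ => ?_)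
    have := H N a ha (e.inv ≫ ξ)
    rw [← cancel_epi e.inv, Linear.comp_smul, this, comp_zero]
  · intro H N _ _ a ha ξ
    obtain ⟨E, hE, hE0, ⟨e⟩⟩ := exists_twoTerm_free K hK
    have hP : Module.Projective R (E.X 0) := Module.Projective.of_free
    have : Projective (E.X 0) := (IsProjective.iff_projective _).1 hP
    obtain h := H E hE hP ⟨e⟩ a ha
    have := (smul_ext_eq_zero_iff E (fun i h1 h0 => hE i (by omega)) a).2 h (ModuleCat.of R N)
      (e.hom ≫ ξ)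
    rw [← cancel_epi e.hom, Linear.comp_smul, this, comp_zero]

end Groth.Agent.Lib.Helper8.DRing7
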