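import Mathlib
import Groth.Prelude.Def_DRing2
import Groth.Agent.Lib.Helper8.DRing7
import Groth.Agent.Lib.Helper8.DRing8

/-!
# Helper8 — DRing9: the truncation triangle of a two-term object, and S12094.
-/

open CategoryTheory CategoryTheory.Limits DerivedCategory CategoryTheory.Pretriangulated

namespace Groth.Agent.Lib.Helper8.DRing9

open Groth.Agent.Lib.Helper8.DRing4 Groth.Agent.Lib.Helper8.DTrunc

universe w v u

section general

variable {A : Type u} [Category.{v} A] [Abelian A] [HasDerivedCategory.{w} A]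

/-- The truncation triangle `H^{-1}(K)[1] ⟶ K ⟶ H^0(K)[0] ⟶` of a two-term object. -/
theorem exists_triangle_of_twoTerm (K : DerivedCategory A) [K.IsGE (-1)] [K.IsLE 0] :
    ∃ (M₁ : A) (_ : M₁ ≅ (homologyFunctor A (-1)).obj K)
      (ι : (singleFunctor A (-1)).obj M₁ ⟶ K)
      (p : K ⟶ (singleFunctor A 0).obj ((homologyFunctor A 0).obj K))
      (δ : (singleFunctor A 0).obj ((homologyFunctor A 0).obj K) ⟶
        ((singleFunctor A (-1)).obj M₁)⟦(1 : ℤ)⟧), Triangle.mk ι p δ ∈ distTriang _ := by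
  have hT := tt.triangleLTGE_distinguished 0 K
  -- τ_{≥0} K
  have : tt.IsGE ((tt.truncGE 0).obj K) 0 := inferInstance
  have : tt.IsLE ((tt.truncGE 0).obj K) 0 := inferInstance
  obtain ⟨M₀, ⟨e₀⟩⟩ := exists_iso_singleFunctor_obj_of_isGE_of_isLE ((tt.truncGE 0).obj K) 0
  have hπ := isIso_homologyMap_truncGEπ K 0
  let j₀ : (homologyFunctor A 0).obj K ≅ M₀ :=
    asIso ((homologyFunctor A 0).map ((tt.truncGEπ 0).app K)) ≪≫
      (homologyFunctor A 0).mapIso e₀ ≪≫ (singleFunctorCompHomologyFunctorIso A 0).app M₀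
  let e₀' : (tt.truncGE 0).obj K ≅ (singleFunctor A 0).obj ((homologyFunctor A 0).obj K) :=
    e₀ ≪≫ (singleFunctor A 0).mapIso j₀.symm
  -- τ_{<0} K
  have h1 : tt.IsLE ((tt.truncLT 0).obj K) (0 - 1) := inferInstance
  have h1' : tt.IsLE ((tt.truncLT 0).obj K) (-1) := h1
  have : tt.IsGE ((tt.truncLT 0).obj K) (-1) := inferInstance
  obtain ⟨M₁, ⟨e₁⟩⟩ := exists_iso_singleFunctor_obj_of_isGE_of_isLE ((tt.truncLT 0).obj K) (-1)
  have hι : IsIso ((homologyFunctor A (-1)).map ((tt.truncLTι 0).app K)) := by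
    have := mono_homologyMap_truncLTι K 0 (-1) (by decide)
    have : Epi ((homologyFunctor A (-1)).map ((tt.truncLTι 0).app K)) :=
      (HomologySequence.epi_homologyMap_mor₁_iff _ hT (-1)).2
        ((isZero_of_isGE ((tt.truncGE 0).obj K) 0 (-1) (by decide)).eq_of_tgt _ _)
    exact isIso_of_mono_of_epi _
  let j₁ : M₁ ≅ (homologyFunctor A (-1)).obj K :=
    ((singleFunctorCompHomologyFunctorIso A (-1)).app M₁).symm ≪≫
      ((homologyFunctor A (-1)).mapIso e₁).symm ≪≫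
      asIso ((homologyFunctor A (-1)).map ((tt.truncLTι 0).app K))
  refine ⟨M₁, j₁, e₁.inv ≫ (tt.truncLTι 0).app K, (tt.truncGEπ 0).app K ≫ e₀'.hom,
    e₀'.inv ≫ (tt.truncGEδLT 0).app K ≫ e₁.hom⟦(1 : ℤ)⟧', ?_⟩
  refine isomorphic_distinguished _ hT _ ?_
  refine Triangle.isoMk _ _ e₁.symm (Iso.refl _) e₀'.symm ?_ ?_ ?_
  · exact (Category.comp_id _)
  · change ((tt.truncGEπ 0).app K ≫ e₀'.hom) ≫ e₀'.inv = 𝟙 _ ≫ (tt.truncGEπ 0).app K
    rw [Category.assoc, Iso.hom_inv_id, Category.comp_id, Category.id_comp]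
  · change (e₀'.inv ≫ (tt.truncGEδLT 0).app K ≫ e₁.hom⟦(1 : ℤ)⟧') ≫ e₁.inv⟦(1 : ℤ)⟧' =
      e₀'.inv ≫ (tt.truncGEδLT 0).app K
    rw [Category.assoc, Category.assoc, ← Functor.map_comp, Iso.hom_inv_id,
      CategoryTheory.Functor.map_id]
    erw [Category.comp_id]

end general


section ring

attribute [local instance] HasDerivedCategory.standard

open Groth.Agent.Lib.Helper8.DRing5 Groth.Agent.Lib.Helper8.DRing6 Groth.Agent.Lib.Helper8.DRing7

variable {R : Type u} [CommRing R]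

lemma smul_id_homology_negOne_eq_zero (E : CochainComplex (ModuleCat.{u} R) ℤ) (a : R)
    (h : E.X 0 ⟶ E.X (-1)) (hh : E.d (-1) 0 ≫ h = a • 𝟙 (E.X (-1))) :
    a • 𝟙 (E.homology (-1)) = 0 := by
  have h1 : a • 𝟙 (E.cycles (-1)) = 0 := by
    rw [← cancel_mono (E.iCycles (-1)), zero_comp, Linear.smul_comp, Category.id_comp,
      ← Category.comp_id (E.iCycles (-1)), ← Linear.comp_smul, ← hh, ← Category.assoc,
      E.iCycles_d, zero_comp]
  rw [← cancel_epi (E.homologyπ (-1)), comp_zero, Linear.comp_smul, Category.comp_id,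
    ← Category.id_comp (E.homologyπ (-1)), ← Linear.smul_comp, h1, zero_comp]

/-- S12094 -/
theorem twoTerm_ext_one_killed_by_pow_iff_homology (I : Ideal R) (K : Dual.D R)
    (hK : ∀ i : ℤ, i ≠ -1 → i ≠ 0 → Subsingleton (Dual.HD R K i)) :
    (∃ c : ℕ, ∀ (N : Type u) [AddCommGroup N] [Module R N] (a : R), a ∈ I ^ c →
        ∀ ξ : K ⟶ (Dual.inD R N)⟦(1 : ℤ)⟧, a • ξ = 0) ↔
      ∃ c : ℕ, (∀ a : R, a ∈ I ^ c → ∀ x : Dual.HD R K (-1), a • x = 0) ∧
        ∀ (N : Type u) [AddCommGroup N] [Module R N] (a : R), a ∈ I ^ c →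
          ∀ ξ : Dual.inD R (Dual.HD R K 0) ⟶ (Dual.inD R N)⟦(1 : ℤ)⟧, a • ξ = 0 := by
  obtain ⟨hGE, hLE⟩ := isGE_isLE_of_subsingleton K hK
  obtain ⟨M₁, j₁, ι, p, δ, hT⟩ := exists_triangle_of_twoTerm K
  have hN : ∀ (N : Type u) [AddCommGroup N] [Module R N],
      ((Dual.inD R N)⟦(1 : ℤ)⟧).IsGE (-1) := fun N _ _ =>
    (DerivedCategory.TStructure.t).isGE_shift (Dual.inD R N) 0 1 (-1)
  constructor
  · rintro ⟨c, H⟩
    refine ⟨c, ?_, ?_⟩
    · intro a ha x
      obtain ⟨E, hE, hE0, ⟨e⟩⟩ := exists_twoTerm_free K hK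
      have hP : Module.Projective R (E.X 0) := Module.Projective.of_free
      have : Projective (E.X 0) := (IsProjective.iff_projective _).1 hP
      obtain ⟨h, hh⟩ := (smul_ext_eq_zero_iff E (fun i h1 h0 => hE i (by omega)) a).1
        (fun N ξ => by
          have := H N a ha (e.inv ≫ ξ)
          rw [← cancel_epi e.inv, Linear.comp_smul, this, comp_zero])
      have h0 := smul_id_homology_negOne_eq_zero E a h hh
      let i1 : (homologyFunctor (ModuleCat.{u} R) (-1)).obj K ≅ E.homology (-1) :=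
        (homologyFunctor _ (-1)).mapIso e.symm ≪≫ (homologyFunctorFactors _ (-1)).app E
      have h2 : a • 𝟙 ((homologyFunctor (ModuleCat.{u} R) (-1)).obj K) = 0 := by
        rw [← cancel_mono i1.hom, zero_comp, Linear.smul_comp, Category.id_comp,
          ← Category.comp_id i1.hom, ← Linear.comp_smul, h0, comp_zero]
      have h3 := congrArg (fun f => f.hom x) h2
      exact h3
    · intro N _ _ a ha ξ
      have h1 : p ≫ (a • ξ) = 0 := by
        rw [Linear.comp_smul]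
        exact H N a ha (p ≫ ξ)
      obtain ⟨s, hs⟩ : ∃ s : ((singleFunctor (ModuleCat.{u} R) (-1)).obj M₁)⟦(1 : ℤ)⟧ ⟶
          (Dual.inD R N)⟦(1 : ℤ)⟧, a • ξ = δ ≫ s := Triangle.yoneda_exact₃ _ hT (a • ξ) h1
      have : (((singleFunctor (ModuleCat.{u} R) (-1)).obj M₁)⟦(1 : ℤ)⟧).IsLE (-2) :=
        (DerivedCategory.TStructure.t).isLE_shift _ (-1) 1 (-2)
      have := hN N
      rw [hs, (DerivedCategory.TStructure.t).zero s (-2) (-1), comp_zero]
  · rintro ⟨c, Ha, Hb⟩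
    refine ⟨c + c, ?_⟩
    let J : Ideal R :=
      { carrier := {r | ∀ (N : Type u) [AddCommGroup N] [Module R N]
          (ξ : K ⟶ (Dual.inD R N)⟦(1 : ℤ)⟧), r • ξ = 0}
        add_mem' := fun {r s} hr hs N _ _ ξ => by rw [add_smul, hr N ξ, hs N ξ, add_zero]
        zero_mem' := fun N _ _ ξ => zero_smul _ _
        smul_mem' := fun t {r} hr N _ _ ξ => by rw [smul_eq_mul, mul_smul, hr N ξ, smul_zero] }
    suffices hJ : I ^ c * I ^ c ≤ J by
      intro N _ _ a ha ξ
      rw [pow_add] at ha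
      exact hJ ha N ξ
    rw [Ideal.mul_le]
    intro a ha b hb N _ _ ξ
    have hbM : b • 𝟙 M₁ = 0 := by
      have h2 : b • 𝟙 ((homologyFunctor (ModuleCat.{u} R) (-1)).obj K) = 0 := by
        ext x
        exact Ha b hb x
      rw [← cancel_mono j₁.hom, zero_comp, Linear.smul_comp, Category.id_comp,
        ← Category.comp_id j₁.hom, ← Linear.comp_smul, h2, comp_zero]
    have h1 : ι ≫ (b • ξ) = 0 := by
      have : b • ι = 0 := by
        rw [← Category.id_comp ι, ← Linear.smul_comp, ← (singleFunctor (ModuleCat.{u} R) (-1)).map_id,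
          ← (singleFunctor (ModuleCat.{u} R) (-1)).map_smul, hbM, Functor.map_zero, zero_comp]
      rw [Linear.comp_smul, ← Linear.smul_comp, this, zero_comp]
    obtain ⟨η, hη⟩ : ∃ η : Dual.inD R (Dual.HD R K 0) ⟶ (Dual.inD R N)⟦(1 : ℤ)⟧, b • ξ = p ≫ η :=
      Triangle.yoneda_exact₂ _ hT (b • ξ) h1
    change (a * b) • ξ = 0
    rw [mul_smul, hη, ← Linear.comp_smul, Hb N a ha η, comp_zero]

end ring

end Groth.Agent.Lib.Helper8.DRing9
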