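import Mathlib.Algebra.Homology.HomotopyCategory.DegreewiseSplit

/-!
# The boundary maps of two degreewise splittings are homotopic
-/

set_option linter.style.haveILetI false
set_option linter.unusedSectionVars false

namespace Groth.Agent.Lib.Helper8.DegSplitHtpy

open CategoryTheory Category Limits Preadditive CochainComplex HomologicalComplex HomComplex

universe v u

variable {C : Type u} [Category.{v} C] [Preadditive C]
  (S : ShortComplex (CochainComplex C ℤ))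
  (σ σ' : ∀ n : ℤ, (S.map (HomologicalComplex.eval C (ComplexShape.up ℤ) n)).Splitting)

/-- The section, with a clean type. -/
def sS (n : ℤ) : S.X₃.X n ⟶ S.X₂.X n := (σ n).s

/-- The retraction, with a clean type. -/
def rR (n : ℤ) : S.X₂.X n ⟶ S.X₁.X n := (σ n).r

lemma id_eq (n : ℤ) : rR S σ n ≫ S.f.f n + S.g.f n ≫ sS S σ n = 𝟙 _ := (σ n).id
lemma s_g (n : ℤ) : sS S σ n ≫ S.g.f n = 𝟙 _ := (σ n).s_g
lemma f_r (n : ℤ) : S.f.f n ≫ rR S σ n = 𝟙 _ := (σ n).f_r
lemma s_r (n : ℤ) : sS S σ n ≫ rR S σ n = 0 := (σ n).s_r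

/-- The difference of the sections, as a map `X₃ⁿ ⟶ X₁ⁿ`. -/
def t (n : ℤ) : S.X₃.X n ⟶ S.X₁.X n := sS S σ' n ≫ rR S σ n

lemma s'_eq (n : ℤ) : sS S σ' n = sS S σ n + t S σ σ' n ≫ S.f.f n := by
  calc sS S σ' n = sS S σ' n ≫ (rR S σ n ≫ S.f.f n + S.g.f n ≫ sS S σ n) := by
        rw [id_eq, comp_id]
    _ = sS S σ n + t S σ σ' n ≫ S.f.f n := by
        rw [comp_add, reassoc_of% (s_g S σ' n), t, assoc, add_comm]

lemma r'_eq (n : ℤ) : rR S σ' n = rR S σ n - S.g.f n ≫ t S σ σ' n := by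
  have e : sS S σ n ≫ rR S σ' n = - t S σ σ' n := by
    have h1 := s'_eq S σ σ' n
    have : (sS S σ n + t S σ σ' n ≫ S.f.f n) ≫ rR S σ' n = 0 := by rw [← h1, s_r]
    rw [add_comp, assoc, f_r, comp_id] at this
    exact eq_neg_of_add_eq_zero_left this
  calc rR S σ' n = (rR S σ n ≫ S.f.f n + S.g.f n ≫ sS S σ n) ≫ rR S σ' n := by
        rw [id_eq, id_comp]
    _ = rR S σ n - S.g.f n ≫ t S σ σ' n := by
        rw [add_comp, assoc, assoc, f_r, comp_id, e, comp_neg, sub_eq_add_neg]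

/-- The `0`-cochain given by `t`. -/
def tc : Cochain S.X₃ S.X₁ 0 := Cochain.ofHoms (t S σ σ')

set_option backward.isDefEq.respectTransparency false in
lemma cocycle_v (p : ℤ) : (cocycleOfDegreewiseSplit S σ).1.v p (p + 1) rfl =
    sS S σ p ≫ S.X₂.d p (p + 1) ≫ rR S σ (p + 1) := by
  dsimp [cocycleOfDegreewiseSplit, sS, rR]
  rfl

lemma key : (cocycleOfDegreewiseSplit S σ').1 =
    (cocycleOfDegreewiseSplit S σ).1 + δ 0 1 (tc S σ σ') := by
  ext p q hpq
  obtain rfl : q = p + 1 := by lia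
  rw [Cochain.add_v, δ_v 0 1 (zero_add 1) _ p (p + 1) rfl p (p + 1) (by lia) rfl,
    cocycle_v, cocycle_v, tc, Cochain.ofHoms_v, Cochain.ofHoms_v,
    s'_eq S σ σ' p, r'_eq S σ σ' (p + 1)]
  simp only [add_comp, comp_sub, assoc, Int.negOnePow_one, Units.neg_smul, one_smul]
  have e1 : S.f.f p ≫ S.X₂.d p (p + 1) ≫ rR S σ (p + 1) = S.X₁.d p (p + 1) := by
    rw [S.f.comm_assoc, f_r, comp_id]
  have e2 : sS S σ p ≫ S.X₂.d p (p + 1) ≫ S.g.f (p + 1) = S.X₃.d p (p + 1) := by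
    rw [← S.g.comm, reassoc_of% (s_g S σ p)]
  have e3 : S.f.f p ≫ S.X₂.d p (p + 1) ≫ S.g.f (p + 1) = 0 := by
    rw [← S.g.comm, ← comp_f_assoc, S.zero, zero_f, zero_comp]
  rw [e1, reassoc_of% e2, reassoc_of% e3, zero_comp, comp_zero]
  abel

theorem main : Nonempty (Homotopy (CochainComplex.homOfDegreewiseSplit S σ)
    (CochainComplex.homOfDegreewiseSplit S σ')) := by
  refine ⟨(Cochain.equivHomotopy _ _).symm
    ⟨(tc S σ σ').rightShift 1 (-1) (by lia), ?_⟩⟩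
  have h₁ : Cochain.ofHom (homOfDegreewiseSplit S σ) =
      (cocycleOfDegreewiseSplit S σ).1.rightShift 1 0 (zero_add 1) := by
    simp [homOfDegreewiseSplit]
  have h₂ : Cochain.ofHom (homOfDegreewiseSplit S σ') =
      (cocycleOfDegreewiseSplit S σ').1.rightShift 1 0 (zero_add 1) := by
    simp [homOfDegreewiseSplit]
  rw [h₁, h₂, Cochain.δ_rightShift _ 1 (-1) 0 (by lia) 1 (zero_add 1), key S σ σ',
    Cochain.rightShift_add]
  simp

end Groth.Agent.Lib.Helper8.DegSplitHtpy
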