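import Mathlib

/-!
# Helper8 — RKan: a left Kan extension `RF` of `F` along `L` is computed "correctly" at objects `I`
such that every map `L Y ⟶ L I` comes from a map `Y ⟶ I`, and `F` identifies maps to `I` having the
same image under `L` (power-object argument, dual of Helper16 `LDer1`).

Application: a total right derived functor (with respect to quasi-isomorphisms of complexes)
of a functor which factors through the homotopy category is computed termwise on K-injectives.
-/

open CategoryTheory CategoryTheory.Limits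

namespace Groth.Agent.Lib.Helper8.RKan

universe w v₁ v₂ v₃ u₁ u₂ u₃

variable {C : Type u₁} {D : Type u₂} {H : Type u₃}
  [Category.{v₁} C] [Category.{v₂} D] [Category.{v₃} H]

section Power

variable (T : D) [∀ d : D, Small.{w} (d ⟶ T)] [HasProducts.{w} H] (Z : H)

/-- the constant family. -/
abbrev fam (d : D) : Shrink.{w} (d ⟶ T) → H := fun _ => Z

/-- the power `∏_{Hom(d, T)} Z`. -/
noncomputable abbrev powObj (d : D) : H := ∏ᶜ (fam.{w} T Z d)

/-- the projection to the component indexed by `φ`. -/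
noncomputable def powπ' {d : D} (φ : d ⟶ T) : powObj.{w} T Z d ⟶ Z :=
  Pi.π (fam.{w} T Z d) (equivShrink _ φ)

/-- morphisms into the power. -/
noncomputable def powLift' {d : D} {X : H} (k : (d ⟶ T) → (X ⟶ Z)) :
    X ⟶ powObj.{w} T Z d :=
  Pi.lift (f := fam.{w} T Z d) (fun t => k ((equivShrink _).symm t))

lemma powLift'_π' {d : D} {X : H} (k : (d ⟶ T) → (X ⟶ Z)) (φ : d ⟶ T) :
    powLift'.{w} T Z k ≫ powπ'.{w} T Z φ = k φ := by
  have := Pi.lift_π (f := fam.{w} T Z d) (fun t => k ((equivShrink _).symm t))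
    (equivShrink _ φ)
  rw [Equiv.symm_apply_apply] at this
  exact this

lemma pow_hom_ext' {d : D} {X : H} (a b : X ⟶ powObj.{w} T Z d)
    (h : ∀ φ : d ⟶ T, a ≫ powπ'.{w} T Z φ = b ≫ powπ'.{w} T Z φ) : a = b := by
  apply Pi.hom_ext (f := fam.{w} T Z d)
  intro t
  have := h ((equivShrink _).symm t)
  dsimp only [powπ'] at this
  rwa [Equiv.apply_symm_apply] at this

/-- the power functor `d ↦ ∏_{Hom(d, T)} Z` (covariant in `d`). -/
noncomputable def pow : D ⥤ H where
  obj d := powObj.{w} T Z d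
  map {d d'} g := powLift'.{w} T Z (fun ψ => powπ'.{w} T Z (g ≫ ψ))
  map_id d := by
    apply pow_hom_ext'
    intro φ
    rw [powLift'_π', Category.id_comp, Category.id_comp]
  map_comp g g' := by
    apply pow_hom_ext'
    intro φ
    simp only [powLift'_π', Category.assoc]

/-- the projection to the component indexed by `φ`. -/
noncomputable def powπ {d : D} (φ : d ⟶ T) : (pow.{w} T Z).obj d ⟶ Z :=
  powπ'.{w} T Z φ

/-- morphisms into the power. -/
noncomputable def powLift {d : D} {X : H} (k : (d ⟶ T) → (X ⟶ Z)) :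
    X ⟶ (pow.{w} T Z).obj d :=
  powLift'.{w} T Z k

@[reassoc (attr := simp)]
lemma powLift_π {d : D} {X : H} (k : (d ⟶ T) → (X ⟶ Z)) (φ : d ⟶ T) :
    powLift.{w} T Z k ≫ powπ.{w} T Z φ = k φ :=
  powLift'_π' T Z k φ

@[reassoc (attr := simp)]
lemma pow_map_π {d d' : D} (g : d ⟶ d') (ψ : d' ⟶ T) :
    (pow.{w} T Z).map g ≫ powπ.{w} T Z ψ = powπ.{w} T Z (g ≫ ψ) :=
  powLift'_π' T Z (fun ψ => powπ'.{w} T Z (g ≫ ψ)) ψ

lemma pow_hom_ext {d : D} {X : H} (a b : X ⟶ (pow.{w} T Z).obj d)
    (h : ∀ φ : d ⟶ T, a ≫ powπ.{w} T Z φ = b ≫ powπ.{w} T Z φ) : a = b :=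
  pow_hom_ext' T Z a b h

end Power

variable {L : C ⥤ D} {F : C ⥤ H} {RF : D ⥤ H} (α : F ⟶ L ⋙ RF) (I : C)

/-- If `RF` is a left Kan extension of `F` along `L` and `I` is an object such that
`Hom(Y, I) → Hom(L Y, L I)` is surjective for all `Y` and `F` identifies maps into `I` with the same
image under `L`, then `F I → RF (L I)` is an isomorphism (provided the target category has enough
products). -/
theorem isIso_app_of_surjective [RF.IsLeftKanExtension α] [HasProducts.{w} H]
    [∀ d : D, Small.{w} (d ⟶ L.obj I)]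
    (hI : ∀ Y : C, Function.Surjective (fun f : Y ⟶ I => L.map f))
    (hF : ∀ (Y : C) (f g : Y ⟶ I), L.map f = L.map g → F.map f = F.map g) :
    IsIso (α.app I) := by
  classical
  -- preimages
  let pre : ∀ {Y : C}, (L.obj Y ⟶ L.obj I) → (Y ⟶ I) := fun {Y} φ => (hI Y φ).choose
  have hpre : ∀ {Y : C} (φ : L.obj Y ⟶ L.obj I), L.map (pre φ) = φ :=
    fun {Y} φ => (hI Y φ).choose_spec
  have hpre_comp : ∀ {Y Y' : C} (g : Y ⟶ Y') (ψ : L.obj Y' ⟶ L.obj I),
      F.map (pre (L.map g ≫ ψ)) = F.map g ≫ F.map (pre ψ) := by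
    intro Y Y' g ψ
    rw [← F.map_comp]
    apply hF
    rw [hpre, L.map_comp, hpre]
  -- the natural transformation associated to `z`
  let β : ∀ (Z : H) (z : F.obj I ⟶ Z), F ⟶ L ⋙ pow.{w} (L.obj I) Z := fun Z z =>
    { app := fun Y => powLift _ _ (fun φ => F.map (pre φ) ≫ z)
      naturality := by
        intro Y Y' g
        apply pow_hom_ext
        intro ψ
        simp only [Functor.comp_obj, Functor.comp_map, Category.assoc, powLift_π, pow_map_π,
          hpre_comp] }
  -- the retraction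
  let γ := RF.descOfIsLeftKanExtension α (pow.{w} (L.obj I) (F.obj I)) (β _ (𝟙 _))
  let r : RF.obj (L.obj I) ⟶ F.obj I := γ.app (L.obj I) ≫ powπ _ _ (𝟙 (L.obj I))
  have hr : α.app I ≫ r = 𝟙 _ := by
    have := RF.descOfIsLeftKanExtension_fac_app α (pow.{w} (L.obj I) (F.obj I)) (β _ (𝟙 _)) I
    simp only [r]
    change α.app I ≫ γ.app (L.obj I) ≫ _ = _
    rw [reassoc_of% this]
    simp only [β, powLift_π, Category.comp_id]
    have h1 : F.map (pre (𝟙 (L.obj I))) = F.map (𝟙 I) := by
      apply hF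
      rw [hpre, L.map_id]
    rw [h1, F.map_id]
  -- uniqueness
  let γ₁ : RF ⟶ pow.{w} (L.obj I) (RF.obj (L.obj I)) :=
    { app := fun d => powLift _ _ (fun φ => RF.map φ)
      naturality := by
        intro d d' g
        apply pow_hom_ext
        intro φ
        simp }
  let γ₂ : RF ⟶ pow.{w} (L.obj I) (RF.obj (L.obj I)) :=
    { app := fun d => powLift _ _ (fun φ => RF.map φ ≫ r ≫ α.app I)
      naturality := by
        intro d d' g
        apply pow_hom_ext
        intro φ
        simp }
  have hγ : γ₁ = γ₂ := by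
    apply RF.hom_ext_of_isLeftKanExtension α
    ext Y
    apply pow_hom_ext
    intro φ
    have hnat := α.naturality (pre φ)
    simp only [Functor.comp_obj, Functor.comp_map, hpre] at hnat
    simp only [γ₁, γ₂, Functor.comp_obj, NatTrans.comp_app, Functor.whiskerLeft_app,
      Category.assoc, powLift_π, ← reassoc_of% hnat, reassoc_of% hr]
    exact hnat.symm
  have h2 : r ≫ α.app I = 𝟙 _ := by
    have := congr_arg (fun γ => γ.app (L.obj I) ≫ powπ.{w} (L.obj I) (RF.obj (L.obj I)) (𝟙 _)) hγ
    simp only [γ₁, γ₂, powLift_π] at this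
    rw [RF.map_id, Category.id_comp] at this
    exact this.symm
  exact ⟨r, hr, h2⟩

end Groth.Agent.Lib.Helper8.RKan
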