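import Mathlib
import Groth.Prelude.Def_DRing4
import Groth.Agent.Lib.Helper8.KInjM2
import Groth.Agent.Lib.Helper8.RKan
import Groth.Agent.Lib.Helper8.DProdU

/-!
# Helper8 — RHomK1: `RHom(K, -)` is computed by `Hom•(K, I)` on K-injective complexes `I`.
-/

set_option autoImplicit false

universe u

open CategoryTheory CategoryTheory.Limits CategoryTheory.Pretriangulated DerivedCategory
  CochainComplex CochainComplex.HomComplex

attribute [local instance] HasDerivedCategory.standard

namespace Groth.Agent.Lib.Helper8.RHomK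

variable {A : Type u} [CommRing A]

section Htpy

variable (K : DRing.Cx A) {L L' : DRing.Cx A}

/-- postcomposition with a cochain of degree `-1` -/
noncomputable def hLin (H : Cochain L L' (-1)) (p q : ℤ) (hpq : p + (-1) = q) :
    Cochain K L p →ₗ[A] Cochain K L' q where
  toFun w := w.comp H hpq
  map_add' w w' := by simp
  map_smul' a w := by simp

/-- the induced cochain of degree `-1` on Hom complexes -/
noncomputable def hCochain (H : Cochain L L' (-1)) :
    Cochain (DRing.homCx K L) (DRing.homCx K L') (-1) :=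
  Cochain.mk fun p q hpq => ModuleCat.ofHom (hLin K H p q hpq)

lemma hCochain_v (H : Cochain L L' (-1)) (p q : ℤ) (hpq : p + (-1) = q) :
    (hCochain K H).v p q hpq = ModuleCat.ofHom (hLin K H p q hpq) := rfl

lemma homCx_d_apply (L : DRing.Cx A) (i j : ℤ) (w : Cochain K L i) :
    ((DRing.homCx K L).d i j).hom w = δ i j w := rfl

lemma homCxMap_f_apply (f : L ⟶ L') (i : ℤ) (w : Cochain K L i) :
    ((DRing.homCxMap K f).f i).hom w = w.comp (Cochain.ofHom f) (add_zero i) := rfl

lemma ofHom_homCxMap (f g : L ⟶ L') (H : Cochain L L' (-1))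
    (hH : Cochain.ofHom f = δ (-1) 0 H + Cochain.ofHom g) :
    Cochain.ofHom (DRing.homCxMap K f) =
      δ (-1) 0 (hCochain K H) + Cochain.ofHom (DRing.homCxMap K g) := by
  refine Cochain.ext _ _ (fun p q hpq => ?_)
  obtain rfl : p = q := by omega
  rw [Cochain.add_v, δ_v (-1) 0 (by simp) _ p p (by simp) (p - 1) (p + 1) (by omega) (by omega)]
  simp only [Cochain.ofHom_v, Int.negOnePow_zero, one_smul, hCochain_v]
  ext w
  change w.comp (Cochain.ofHom f) (add_zero p) =
    δ (p - 1) p (w.comp H (by omega)) + (δ p (p + 1) w).comp H (by omega) +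
      w.comp (Cochain.ofHom g) (add_zero p)
  have h1 := δ_comp w H (show p + (-1) = p - 1 by omega) (p + 1) 0 p (by omega) rfl (by simp)
  rw [h1, hH, Cochain.comp_add]
  simp only [Int.negOnePow_neg, Int.negOnePow_one, Units.neg_smul, one_smul]
  abel

/-- `Hom•(K, -)` preserves homotopies -/
noncomputable def homCxMapHomotopy (f g : L ⟶ L') (h : Homotopy f g) :
    Homotopy (DRing.homCxMap K f) (DRing.homCxMap K g) :=
  (Cochain.equivHomotopy _ _).symm
    ⟨hCochain K (Cochain.equivHomotopy _ _ h).1,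
      ofHom_homCxMap K f g _ (Cochain.equivHomotopy _ _ h).2⟩

end Htpy

section Unit

/-- the class of quasi-isomorphisms of complexes -/
abbrev W (A : Type u) [CommRing A] := HomologicalComplex.quasiIso (ModuleCat.{u} A) (ComplexShape.up ℤ)

instance hasProductsD : HasProducts.{u} (Dual.D A) := fun J => DProdU.hasProductsOfShape A J

lemma small_hom_Q (I : DRing.Cx A) [I.IsKInjective] (d : Dual.D A) :
    Small.{u} (d ⟶ (Q.obj I : Dual.D A)) := by
  let Y : DRing.Cx A := Q.objPreimage d
  let e : Q.obj Y ≅ d := Q.objObjPreimageIso d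
  let f : (Y ⟶ I) → (d ⟶ (Q.obj I : Dual.D A)) := fun g => e.inv ≫ Q.map g
  have hf : Function.Surjective f := fun φ => by
    obtain ⟨g, hg⟩ := DProd.exists_Q_map_of_isKInjective Y I (e.hom ≫ φ)
    exact ⟨g, by simp [f, ← hg]⟩
  exact small_of_surjective hf

variable (K : DRing.Cx A) [DRing.HasRHomCx K]

/-- the unit `Q Hom•(K, I) ⟶ RHom(K, Q I)` is an isomorphism for `I` K-injective -/
theorem isIso_unit (I : DRing.Cx A) [I.IsKInjective] :
    IsIso (((DRing.homCxQ K).totalRightDerivedUnit Q (W A)).app I) := by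
  have : ∀ d : Dual.D A, Small.{u} (d ⟶ (Q.obj I : Dual.D A)) := small_hom_Q I
  have := Functor.IsRightDerivedFunctor.isLeftKanExtension (DRing.RHomCx K)
    ((DRing.homCxQ K).totalRightDerivedUnit Q (W A)) (W A)
  refine RKan.isIso_app_of_surjective.{u} _ _ (fun Y φ => ?_) (fun Y f g h => ?_)
  · obtain ⟨g, hg⟩ := DProd.exists_Q_map_of_isKInjective Y I φ
    exact ⟨g, hg.symm⟩
  · have h0 : Q.map (f - g) = 0 := by rw [Functor.map_sub, h, sub_self]
    obtain ⟨H⟩ := DProd.nonempty_homotopy_zero_of_Q_map_eq_zero Y I (f - g) h0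
    have H' : Homotopy f g := (Homotopy.equivSubZero).symm H
    exact Q_map_eq_of_homotopy _ (homCxMapHomotopy K f g H')

/-- `RHom(K, Q I) ≅ Q Hom•(K, I)` for `I` K-injective -/
noncomputable def rhomIso (I : DRing.Cx A) [I.IsKInjective] :
    (DRing.RHomCx K).obj (Q.obj I) ≅ Q.obj (DRing.homCx K I) :=
  (@asIso _ _ _ _ (((DRing.homCxQ K).totalRightDerivedUnit Q (W A)).app I) (isIso_unit K I)).symm

end Unit

end Groth.Agent.Lib.Helper8.RHomK
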