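import Mathlib
import Groth.Prelude.Def_DRing4
import Groth.Agent.Lib.Helper8.RHomK1
import Groth.Agent.Lib.Helper6.KInjAdj

/-!
# Helper8 — RHomK2: `Hom•(M[0], I)` is the termwise internal Hom; it is K-injective for `M` flat
and `I` K-injective.
-/

set_option autoImplicit false

universe u

open CategoryTheory CategoryTheory.Limits CategoryTheory.Pretriangulated DerivedCategory
  CochainComplex CochainComplex.HomComplex MonoidalCategory

attribute [local instance] HasDerivedCategory.standard

namespace Groth.Agent.Lib.Helper8.RHomK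

variable {A : Type u} [CommRing A]

section Single

variable (M : ModuleCat.{u} A) (I : DRing.Cx A)

/-- `M` in degree `0` -/
noncomputable abbrev sgM : DRing.Cx A :=
  (HomologicalComplex.single (ModuleCat.{u} A) (ComplexShape.up ℤ) 0).obj M

/-- the termwise internal Hom complex -/
noncomputable abbrev ihomCx : DRing.Cx A :=
  ((ihom M).mapHomologicalComplex (ComplexShape.up ℤ)).obj I

/-- cochains of degree `n` from `M[0]` are maps `M ⟶ Iⁿ` -/
noncomputable def singleLin (n : ℤ) : Cochain (sgM M) I n ≃ₗ[A] (M ⟶ I.X n) :=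
  { Cochain.fromSingleEquiv (X := M) (K := I) (p := 0) (q := n) (n := n) (zero_add n) with
    map_smul' := fun a w => by
      change (HomologicalComplex.singleObjXSelf (.up ℤ) 0 M).inv ≫ (a • w).v 0 n (zero_add n) =
        a • ((HomologicalComplex.singleObjXSelf (.up ℤ) 0 M).inv ≫ w.v 0 n (zero_add n))
      rw [Cochain.smul_v, Linear.comp_smul] }

lemma singleLin_apply (n : ℤ) (w : Cochain (sgM M) I n) :
    singleLin M I n w = Cochain.fromSingleEquiv (zero_add n) w := rfl

/-- `Hom•(M[0], I)` is the termwise internal Hom complex -/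
noncomputable def singleHomIso : DRing.homCx (sgM M) I ≅ ihomCx M I :=
  HomologicalComplex.Hom.isoOfComponents (fun n => (singleLin M I n).toModuleIso) (by
    intro i j hij
    ext w
    obtain ⟨f, rfl⟩ := Cochain.fromSingleMk_surjective w i (zero_add i)
    change Cochain.fromSingleEquiv (zero_add i) (Cochain.fromSingleMk f (zero_add i)) ≫ I.d i j =
      Cochain.fromSingleEquiv (zero_add j) (δ i j (Cochain.fromSingleMk f (zero_add i)))
    rw [Cochain.δ_fromSingleMk f (zero_add i) j j (zero_add j)]
    simp)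

end Single

instance ihom_additive (M : ModuleCat.{u} A) : (ihom M).Additive :=
  (ihom.adjunction M).right_adjoint_additive

section Flat

variable (M : ModuleCat.{u} A) [Module.Flat A M] (I : DRing.Cx A) [I.IsKInjective]

instance isKInjective_ihomCx : (ihomCx M I).IsKInjective :=
  Groth.Agent.Lib.Helper6.KInjAdj.isKInjective_map_of_adj (ihom.adjunction M)
    (fun K hK => Groth.Agent.Lib.Helper6.KInjAdj.acyclic_map (tensorLeft M) K hK) I

instance isKInjective_homCx_sgM : (DRing.homCx (sgM M) I).IsKInjective :=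
  isKInjective_of_iso (singleHomIso M I).symm

end Flat

section Comp

/-- `Hom(X ⊗ Y, -) ≅ Hom(Y, Hom(X, -))` -/
noncomputable def ihomTensorIso (X Y : ModuleCat.{u} A) : ihom (X ⊗ Y) ≅ ihom X ⋙ ihom Y :=
  (ihom.adjunction (X ⊗ Y)).rightAdjointUniq
    (((ihom.adjunction Y).comp (ihom.adjunction X)).ofNatIsoLeft (tensorLeftTensor X Y).symm)

/-- an isomorphism of functors induces an isomorphism of the termwise complexes -/
noncomputable def mapCxIso {F G : ModuleCat.{u} A ⥤ ModuleCat.{u} A} [F.PreservesZeroMorphisms]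
    [G.PreservesZeroMorphisms] (e : F ≅ G) (I : DRing.Cx A) :
    (F.mapHomologicalComplex (ComplexShape.up ℤ)).obj I ≅
      (G.mapHomologicalComplex (ComplexShape.up ℤ)).obj I :=
  HomologicalComplex.Hom.isoOfComponents (fun n => e.app (I.X n)) (by
    intro i j _
    exact (e.hom.naturality (I.d i j)).symm)

/-- `Hom(Y, Hom(X, -)) ≅ Hom(Z, -)` for `Z ≅ X ⊗ Y` -/
noncomputable def ihomCompIso (X Y Z : ModuleCat.{u} A) (e : Z ≅ X ⊗ Y) :
    ihom X ⋙ ihom Y ≅ ihom Z :=
  (ihomTensorIso X Y).symm ≪≫ MonoidalClosed.internalHom.mapIso e.op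

/-- `Hom(Y, Hom(X, I)) ≅ Hom(Z, I)` termwise, for `Z ≅ X ⊗ Y` -/
noncomputable def ihomCxCompIso (X Y Z : ModuleCat.{u} A) (e : Z ≅ X ⊗ Y) (I : DRing.Cx A) :
    ihomCx Y (ihomCx X I) ≅ ihomCx Z I :=
  (show ihomCx Y (ihomCx X I) ≅
    ((ihom X ⋙ ihom Y).mapHomologicalComplex (ComplexShape.up ℤ)).obj I from Iso.refl _) ≪≫
    mapCxIso (ihomCompIso X Y Z e) I

end Comp

section Loc

open TensorProduct

/-- `A_{fg} ≅ A_g ⊗ A_f` -/
noncomputable def awayMulIso (f g : A) :
    ModuleCat.of A (Localization.Away (f * g)) ≅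
      ModuleCat.of A (Localization.Away g) ⊗ ModuleCat.of A (Localization.Away f) :=
  haveI : IsLocalization.Away (f * g) (Localization.Away g ⊗[A] Localization.Away f) :=
    IsLocalization.Away.mul (Localization.Away g) (Localization.Away g ⊗[A] Localization.Away f) g f
  (IsLocalization.algEquiv (Submonoid.powers (f * g)) (Localization.Away (f * g))
    (Localization.Away g ⊗[A] Localization.Away f)).toLinearEquiv.toModuleIso

instance (f : A) : Module.Flat A (ModuleCat.of A (Localization.Away f)) :=
  inferInstanceAs (Module.Flat A (Localization.Away f))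

end Loc

end Groth.Agent.Lib.Helper8.RHomK
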