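import Mathlib
import Groth.Prelude.Def_DRing4
import Groth.Agent.Lib.Helper8.RHomK1

/-!
# Helper8 — RHomK3: `Hom•(K, -)` as a dg-functor (action on cochains) and its compatibility with
mapping cones.
-/

set_option autoImplicit false

universe u

open CategoryTheory CategoryTheory.Limits DerivedCategory
  CochainComplex CochainComplex.HomComplex

namespace Groth.Agent.Lib.Helper8.RHomK

variable {A : Type u} [CommRing A]

section Post

variable (K : DRing.Cx A) {L L' L'' : DRing.Cx A}

/-- postcomposition with a cochain of degree `m` -/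
noncomputable def postLin {m : ℤ} (z : Cochain L L' m) (p q : ℤ) (hpq : p + m = q) :
    Cochain K L p →ₗ[A] Cochain K L' q where
  toFun w := w.comp z hpq
  map_add' w w' := by simp
  map_smul' a w := by simp

/-- the action of `Hom•(K, -)` on cochains -/
noncomputable def post {m : ℤ} (z : Cochain L L' m) :
    Cochain (DRing.homCx K L) (DRing.homCx K L') m :=
  Cochain.mk fun p q hpq => ModuleCat.ofHom (postLin K z p q hpq)

lemma post_v_apply {m : ℤ} (z : Cochain L L' m) (p q : ℤ) (hpq : p + m = q) (w : Cochain K L p) :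
    ((post K z).v p q hpq).hom w = w.comp z hpq := rfl

/-- extensionality for cochains between Hom complexes -/
lemma cochain_ext {m : ℤ} {z z' : Cochain (DRing.homCx K L) (DRing.homCx K L') m}
    (h : ∀ (p q : ℤ) (hpq : p + m = q) (w : Cochain K L p),
      (z.v p q hpq).hom w = (z'.v p q hpq).hom w) : z = z' := by
  refine Cochain.ext _ _ (fun p q hpq => ?_)
  ext w
  exact h p q hpq w

lemma post_ofHom (f : L ⟶ L') : post K (Cochain.ofHom f) = Cochain.ofHom (DRing.homCxMap K f) := by
  refine cochain_ext K (fun p q hpq w => ?_)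
  obtain rfl : p = q := by omega
  rw [post_v_apply, Cochain.ofHom_v]
  rfl

lemma post_comp {m m' m'' : ℤ} (z : Cochain L L' m) (z' : Cochain L' L'' m') (h : m + m' = m'') :
    post K (z.comp z' h) = (post K z).comp (post K z') h := by
  refine cochain_ext K (fun p q hpq w => ?_)
  rw [post_v_apply, Cochain.comp_v _ _ h p (p + m) q rfl (by omega)]
  change _ = ((post K z').v (p + m) q (by omega)).hom (((post K z).v p (p + m) rfl).hom w)
  rw [post_v_apply, post_v_apply, Cochain.comp_assoc _ _ _ rfl h (by omega)]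

lemma post_add {m : ℤ} (z z' : Cochain L L' m) : post K (z + z') = post K z + post K z' := by
  refine cochain_ext K (fun p q hpq w => ?_)
  rw [Cochain.add_v]
  change w.comp (z + z') hpq = w.comp z hpq + w.comp z' hpq
  rw [Cochain.comp_add]

lemma post_zero {m : ℤ} : post K (0 : Cochain L L' m) = 0 := by
  refine cochain_ext K (fun p q hpq w => ?_)
  rw [Cochain.zero_v]
  change w.comp (0 : Cochain L L' m) hpq = 0
  rw [Cochain.comp_zero]

lemma post_neg {m : ℤ} (z : Cochain L L' m) : post K (-z) = -post K z := by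
  refine cochain_ext K (fun p q hpq w => ?_)
  rw [Cochain.neg_v]
  change w.comp (-z) hpq = -w.comp z hpq
  rw [Cochain.comp_neg]

lemma δ_post {m : ℤ} (z : Cochain L L' m) (m' : ℤ) (hm : m + 1 = m') :
    δ m m' (post K z) = post K (δ m m' z) := by
  refine cochain_ext K (fun p q hpq w => ?_)
  rw [δ_v m m' hm _ p q hpq (q - 1) (p + 1) rfl rfl, post_v_apply]
  change δ (q - 1) q (w.comp z (by omega)) +
    m'.negOnePow • (δ p (p + 1) w).comp z (by omega) = _
  rw [δ_comp w z (show p + m = q - 1 by omega) (p + 1) m' q (by omega) rfl hm]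
  have h1 : m'.negOnePow = -m.negOnePow := by
    rw [← hm, Int.negOnePow_succ]
  rw [h1, Units.neg_smul]
  abel

end Post

section Cone

open CochainComplex.mappingCone

variable (K : DRing.Cx A) {L L' : DRing.Cx A} (φ : L ⟶ L')

lemma homCxMap_id (L : DRing.Cx A) : DRing.homCxMap K (𝟙 L) = 𝟙 _ :=
  (DRing.homCxFunctor K).map_id L

/-- `Hom•(K, cone φ) ⟶ cone (Hom•(K, φ))` -/
noncomputable def coneTo :
    DRing.homCx K (mappingCone φ) ⟶ mappingCone (DRing.homCxMap K φ) :=
  mappingCone.lift (DRing.homCxMap K φ)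
    (Cocycle.mk (post K (fst φ).1) 2 (by omega) (by
      rw [δ_post K _ 2 (by omega), Cocycle.δ_eq_zero, post_zero]))
    (post K (snd φ)) (by
      simp only [Cocycle.mk_coe]
      rw [δ_post K _ 1 (by omega), δ_snd, post_neg, ← post_ofHom, ← post_comp]
      exact neg_add_cancel _)

/-- `cone (Hom•(K, φ)) ⟶ Hom•(K, cone φ)` -/
noncomputable def coneFrom :
    mappingCone (DRing.homCxMap K φ) ⟶ DRing.homCx K (mappingCone φ) :=
  mappingCone.desc (DRing.homCxMap K φ) (post K (inl φ)) (DRing.homCxMap K (inr φ)) (by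
    have h : DRing.homCxMap K (φ ≫ inr φ) = DRing.homCxMap K φ ≫ DRing.homCxMap K (inr φ) :=
      (DRing.homCxFunctor K).map_comp φ (inr φ)
    rw [δ_post K _ 0 (by omega), δ_inl, post_ofHom, h])

lemma inr_coneFrom : inr (DRing.homCxMap K φ) ≫ coneFrom K φ = DRing.homCxMap K (inr φ) :=
  mappingCone.inr_desc _ _ _ _

lemma coneTo_coneFrom : coneTo K φ ≫ coneFrom K φ = 𝟙 _ := by
  apply Cochain.ofHom_injective
  rw [Cochain.ofHom_comp, coneTo, coneFrom, ofHom_lift, ofHom_desc, liftCochain_descCochain]
  simp only [Cocycle.mk_coe]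
  rw [← post_comp, ← post_ofHom, ← post_comp, ← post_add, mappingCone.id, post_ofHom]
  rw [homCxMap_id]

lemma coneFrom_coneTo : coneFrom K φ ≫ coneTo K φ = 𝟙 _ := by
  apply Cochain.ofHom_injective
  rw [Cochain.ofHom_comp]
  rw [ext_cochain_from_iff (DRing.homCxMap K φ) (-1) 0 (neg_add_cancel 1)]
  constructor
  · rw [← Cochain.comp_assoc_of_third_is_zero_cochain, coneFrom, inl_desc, Cochain.comp_id]
    rw [ext_cochain_to_iff (DRing.homCxMap K φ) (-1) 0 (neg_add_cancel 1)]
    constructor
    · rw [Cochain.comp_assoc_of_second_is_zero_cochain, coneTo, lift_fst]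
      simp only [Cocycle.mk_coe]
      rw [← post_comp, inl_fst, inl_fst, post_ofHom]
      rw [homCxMap_id]
    · rw [Cochain.comp_assoc_of_second_is_zero_cochain, coneTo, lift_snd, ← post_comp, inl_snd,
        inl_snd, post_zero]
  · rw [← Cochain.comp_assoc_of_first_is_zero_cochain, ← Cochain.ofHom_comp, inr_coneFrom,
      Cochain.comp_id]
    rw [ext_cochain_to_iff (DRing.homCxMap K φ) 0 1 (zero_add 1)]
    constructor
    · rw [Cochain.comp_assoc_of_first_is_zero_cochain, coneTo, lift_fst]
      simp only [Cocycle.mk_coe]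
      rw [← post_ofHom, ← post_comp, inr_fst, inr_fst, post_zero]
    · rw [Cochain.comp_assoc_of_first_is_zero_cochain, coneTo, lift_snd, ← post_ofHom,
        ← post_comp, inr_snd, inr_snd, post_ofHom]
      rw [homCxMap_id]

/-- `Hom•(K, cone φ) ≅ cone (Hom•(K, φ))` -/
noncomputable def coneIso :
    DRing.homCx K (mappingCone φ) ≅ mappingCone (DRing.homCxMap K φ) where
  hom := coneTo K φ
  inv := coneFrom K φ
  hom_inv_id := coneTo_coneFrom K φ
  inv_hom_id := coneFrom_coneTo K φ

lemma homCxMap_inr_coneIso :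
    DRing.homCxMap K (inr φ) ≫ (coneIso K φ).hom = inr (DRing.homCxMap K φ) := by
  rw [← inr_coneFrom, Category.assoc]
  change _ ≫ (coneIso K φ).inv ≫ (coneIso K φ).hom = _
  rw [Iso.inv_hom_id, Category.comp_id]

end Cone

end Groth.Agent.Lib.Helper8.RHomK
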