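import Mathlib
import Groth.Prelude.Def_DRing4
import Groth.Agent.Lib.Helper8.RHomK3

/-!
# Helper8 — RHomK7: `Hom•(-, M)` as a contravariant dg-functor (action on cochains, with the
Koszul sign) and its compatibility with mapping cocones:
`Hom•(cocone φ, M) ≅ cone (Hom•(φ, M))`.
-/

set_option autoImplicit false

universe u

open CategoryTheory CategoryTheory.Limits DerivedCategory
  CochainComplex CochainComplex.HomComplex

namespace Groth.Agent.Lib.Helper8.RHomK

variable {A : Type u} [CommRing A]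

section Pre

variable {K K' K'' : DRing.Cx A} (M : DRing.Cx A)

/-- precomposition with a cochain of degree `k`, with the Koszul sign -/
noncomputable def preLin {k : ℤ} (z : Cochain K' K k) (p q : ℤ) (hpq : p + k = q) :
    Cochain K M p →ₗ[A] Cochain K' M q where
  toFun w := (k * p).negOnePow • z.comp w (by omega)
  map_add' w w' := by simp
  map_smul' a w := by
    simp only [Cochain.comp_smul, RingHom.id_apply]
    rw [smul_comm]

/-- the action of `Hom•(-, M)` on cochains -/
noncomputable def pre {k : ℤ} (z : Cochain K' K k) :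
    Cochain (DRing.homCx K M) (DRing.homCx K' M) k :=
  Cochain.mk fun p q hpq => ModuleCat.ofHom (preLin M z p q hpq)

lemma pre_v_apply {k : ℤ} (z : Cochain K' K k) (p q : ℤ) (hpq : p + k = q) (w : Cochain K M p) :
    ((pre M z).v p q hpq).hom w = (k * p).negOnePow • z.comp w (by omega) := rfl

/-- extensionality for cochains between Hom complexes -/
lemma cochain_ext₂ {L L' : DRing.Cx A} {m : ℤ}
    {z z' : Cochain (DRing.homCx K L) (DRing.homCx K' L') m}
    (h : ∀ (p q : ℤ) (hpq : p + m = q) (w : Cochain K L p),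
      (z.v p q hpq).hom w = (z'.v p q hpq).hom w) : z = z' := by
  refine Cochain.ext _ _ (fun p q hpq => ?_)
  ext w
  exact h p q hpq w

lemma pre_add {k : ℤ} (z z' : Cochain K' K k) : pre M (z + z') = pre M z + pre M z' := by
  refine cochain_ext₂ (fun p q hpq w => ?_)
  rw [Cochain.add_v]
  change (k * p).negOnePow • (z + z').comp w _ =
    (k * p).negOnePow • z.comp w _ + (k * p).negOnePow • z'.comp w _
  rw [Cochain.add_comp, smul_add]

lemma pre_zero {k : ℤ} : pre M (0 : Cochain K' K k) = 0 := by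
  refine cochain_ext₂ (fun p q hpq w => ?_)
  rw [Cochain.zero_v]
  change (k * p).negOnePow • (0 : Cochain K' K k).comp w _ = 0
  rw [Cochain.zero_comp, smul_zero]

lemma pre_neg {k : ℤ} (z : Cochain K' K k) : pre M (-z) = -pre M z := by
  refine cochain_ext₂ (fun p q hpq w => ?_)
  rw [Cochain.neg_v]
  change (k * p).negOnePow • (-z).comp w _ = -((k * p).negOnePow • z.comp w _)
  rw [Cochain.neg_comp, smul_neg]

lemma pre_units_smul {k : ℤ} (ε : ℤˣ) (z : Cochain K' K k) : pre M (ε • z) = ε • pre M z := by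
  refine cochain_ext₂ (fun p q hpq w => ?_)
  rw [Cochain.units_smul_v]
  change (k * p).negOnePow • (ε • z).comp w _ = ε • ((k * p).negOnePow • z.comp w _)
  rw [Cochain.units_smul_comp, smul_comm]

lemma pre_id : pre M (Cochain.ofHom (𝟙 K)) = Cochain.ofHom (𝟙 (DRing.homCx K M)) := by
  refine cochain_ext₂ (fun p q hpq w => ?_)
  obtain rfl : p = q := by omega
  rw [pre_v_apply, Cochain.ofHom_v]
  simp

/-- the sign rule for composition -/
lemma pre_comp {k₁ k₂ k₁₂ : ℤ} (z₁ : Cochain K'' K' k₁) (z₂ : Cochain K' K k₂)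
    (h : k₁ + k₂ = k₁₂) :
    (pre M z₂).comp (pre M z₁) (show k₂ + k₁ = k₁₂ by omega) =
      (k₁ * k₂).negOnePow • pre M (z₁.comp z₂ h) := by
  refine cochain_ext₂ (fun p q hpq w => ?_)
  rw [Cochain.comp_v _ _ (show k₂ + k₁ = k₁₂ by omega) p (p + k₂) q rfl (by omega),
    Cochain.units_smul_v]
  change ((pre M z₁).v (p + k₂) q (by omega)).hom (((pre M z₂).v p (p + k₂) rfl).hom w) =
    (k₁ * k₂).negOnePow • ((pre M (z₁.comp z₂ h)).v p q hpq).hom w
  rw [pre_v_apply, pre_v_apply, pre_v_apply]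
  have key : ((k₁ * (p + k₂)).negOnePow • z₁.comp ((k₂ * p).negOnePow • z₂.comp w
      (show k₂ + p = p + k₂ by omega)) (show k₁ + (p + k₂) = q by omega) : Cochain K'' M q) =
      (k₁ * k₂).negOnePow • ((k₁₂ * p).negOnePow • (z₁.comp z₂ h).comp w
        (show k₁₂ + p = q by omega)) := by
    rw [Cochain.comp_units_smul, smul_smul, smul_smul,
      Cochain.comp_assoc z₁ z₂ w h rfl (by omega)]
    congr 1
    subst h
    rw [mul_add, add_mul, Int.negOnePow_add, Int.negOnePow_add]
    rw [mul_comm ((k₁ * p).negOnePow) ((k₁ * k₂).negOnePow), mul_assoc]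
  exact key

lemma δ_pre {k : ℤ} (z : Cochain K' K k) (k' : ℤ) (hk : k + 1 = k') :
    δ k k' (pre M z) = pre M (δ k k' z) := by
  refine cochain_ext₂ (fun p q hpq w => ?_)
  rw [δ_v k k' hk _ p q hpq (q - 1) (p + 1) rfl rfl]
  have key : (δ (q - 1) q ((k * p).negOnePow • z.comp w (show k + p = q - 1 by omega)) +
      k'.negOnePow • ((k * (p + 1)).negOnePow • z.comp (δ p (p + 1) w)
        (show k + (p + 1) = q by omega)) : Cochain K' M q) =
      (k' * p).negOnePow • (δ k k' z).comp w (show k' + p = q by omega) := by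
    rw [δ_units_smul, δ_comp z w (show k + p = q - 1 by omega) k' (p + 1) q (by omega) hk rfl,
      smul_add, smul_smul, smul_smul]
    subst hk
    have e1 : (k + 1).negOnePow * (k * (p + 1)).negOnePow = -(k * p).negOnePow := by
      rw [Int.negOnePow_succ, show k * (p + 1) = k * p + k by ring, Int.negOnePow_add, neg_mul,
        mul_comm ((k * p).negOnePow), ← mul_assoc, Int.units_mul_self, one_mul]
    have e2 : (k * p).negOnePow * p.negOnePow = ((k + 1) * p).negOnePow := by
      rw [add_mul, one_mul, Int.negOnePow_add]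
    rw [e1, e2, Units.neg_smul]
    abel
  exact key.trans (pre_v_apply M _ p q hpq w).symm

/-- functoriality of `Hom•(-, M)` for morphisms of complexes -/
noncomputable def preMap (f : K' ⟶ K) : DRing.homCx K M ⟶ DRing.homCx K' M :=
  Cocycle.homOf (Cocycle.mk (pre M (Cochain.ofHom f)) 1 (zero_add 1) (by
    rw [δ_pre M _ 1 (zero_add 1), δ_ofHom, pre_zero]))

lemma pre_ofHom (f : K' ⟶ K) : pre M (Cochain.ofHom f) = Cochain.ofHom (preMap M f) := by
  rw [preMap, Cocycle.cochain_ofHom_homOf_eq_coe]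
  rfl

lemma preMap_f_apply (f : K' ⟶ K) (p : ℤ) (w : Cochain K M p) :
    ((preMap M f).f p).hom w = (Cochain.ofHom f).comp w (zero_add p) := by
  have h := congrArg (fun z => (z.v p p (add_zero p)).hom w) (pre_ofHom M f)
  simp only [Cochain.ofHom_v] at h
  rw [← h, pre_v_apply]
  simp

lemma preMap_id : preMap M (𝟙 K) = 𝟙 _ := by
  apply Cochain.ofHom_injective
  rw [← pre_ofHom, pre_id]

lemma preMap_comp (f : K'' ⟶ K') (g : K' ⟶ K) :
    preMap M (f ≫ g) = preMap M g ≫ preMap M f := by
  apply Cochain.ofHom_injective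
  rw [Cochain.ofHom_comp, ← pre_ofHom, ← pre_ofHom, ← pre_ofHom,
    pre_comp M (Cochain.ofHom f) (Cochain.ofHom g) (add_zero 0), ← Cochain.ofHom_comp]
  simp

/-- pre- and postcomposition commute -/
lemma preMap_homCxMap {M M' : DRing.Cx A} (f : K' ⟶ K) (g : M ⟶ M') :
    preMap M f ≫ DRing.homCxMap K' g = DRing.homCxMap K g ≫ preMap M' f := by
  ext p w
  change ((DRing.homCxMap K' g).f p).hom (((preMap M f).f p).hom w) =
    ((preMap M' f).f p).hom (((DRing.homCxMap K g).f p).hom w)
  rw [preMap_f_apply, preMap_f_apply]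
  change ((Cochain.ofHom f).comp w (zero_add p)).comp (Cochain.ofHom g) (add_zero p) =
    (Cochain.ofHom f).comp (w.comp (Cochain.ofHom g) (add_zero p)) (zero_add p)
  rw [Cochain.comp_assoc_of_first_is_zero_cochain]

end Pre

section CoconeBasic

open CochainComplex.mappingCocone

variable {C : Type*} [Category C] [Preadditive C] [HasBinaryBiproducts C]
  {K L : CochainComplex C ℤ} (φ : K ⟶ L)

lemma cc_inl_fst : (inl φ).comp (Cochain.ofHom (fst φ)) (add_zero 0) = Cochain.ofHom (𝟙 K) := by
  ext p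
  simp

lemma cc_inl_snd : (inl φ).comp (snd φ) (zero_add (-1)) = 0 := by
  ext p q hpq
  simp

lemma cc_inr_fst : (inr φ).1.comp (Cochain.ofHom (fst φ)) (add_zero 1) = 0 := by
  ext p q hpq
  simp

lemma cc_inr_snd : (inr φ).1.comp (snd φ) (add_neg_cancel 1) = Cochain.ofHom (𝟙 L) := by
  ext p
  rw [Cochain.comp_v _ _ (add_neg_cancel 1) p (p + 1) p rfl (by omega)]
  simp

lemma cc_id : (Cochain.ofHom (fst φ)).comp (inl φ) (add_zero 0) +
    (snd φ).comp (inr φ).1 (neg_add_cancel 1) = Cochain.ofHom (𝟙 (mappingCocone φ)) := by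
  ext p
  rw [Cochain.add_v, Cochain.comp_v _ _ (neg_add_cancel 1) p (p + -1) p rfl (by omega)]
  simp only [Cochain.comp_zero_cochain_v, Cochain.ofHom_v, HomologicalComplex.id_f]
  exact id_X φ p (p + -1) rfl

lemma cc_δ_inl : δ 0 1 (inl φ) = -(Cochain.ofHom φ).comp (inr φ).1 (zero_add 1) := by
  have h0 : liftCochain φ (Cochain.ofHom (𝟙 K)) (0 : Cochain K L (-1)) (neg_add_cancel 1) =
      inl φ := by
    have h := congrArg (fun z => (liftCochain φ (Cochain.ofHom (𝟙 K)) (0 : Cochain K L (-1))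
      (neg_add_cancel 1)).comp z (add_zero 0)) (cc_id φ)
    simp only [Cochain.comp_add, Cochain.comp_id] at h
    rw [← Cochain.comp_assoc_of_second_is_zero_cochain, liftCochain_comp_fst,
      ← Cochain.comp_assoc _ (snd φ) (inr φ).1 (zero_add (-1)) (neg_add_cancel 1)
        (show (0 : ℤ) + -1 + 1 = 0 by omega),
      liftCochain_comp_snd, Cochain.zero_comp, add_zero, Cochain.id_comp] at h
    exact h.symm
  rw [← h0, δ_liftCochain φ _ _ _ 1 (zero_add 1)]
  simp

lemma cc_δ_snd : δ (-1) 0 (snd φ) = -Cochain.ofHom (fst φ ≫ φ) := by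
  have h0 : descCochain φ (0 : Cochain K L (-1)) (Cochain.ofHom (𝟙 L)) (neg_add_cancel 1) =
      snd φ := by
    have h := congrArg (fun z => z.comp (descCochain φ (0 : Cochain K L (-1))
      (Cochain.ofHom (𝟙 L)) (neg_add_cancel 1)) (zero_add (-1))) (cc_id φ)
    simp only [Cochain.add_comp, Cochain.id_comp] at h
    rw [Cochain.comp_assoc_of_first_is_zero_cochain, inl_comp_descCochain,
      Cochain.comp_assoc (snd φ) (inr φ).1 _ (neg_add_cancel 1) (add_neg_cancel 1)
        (show (-1 : ℤ) + 1 + -1 = -1 by omega),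
      inr_comp_descCochain, Cochain.comp_zero, zero_add, Cochain.comp_id] at h
    exact h.symm
  rw [← h0, δ_descCochain φ _ _ _ 1 (zero_add 1)]
  simp [Cochain.ofHom_comp]

end CoconeBasic

section Cocone

open CochainComplex.mappingCone

variable {K L : DRing.Cx A} (φ : K ⟶ L) (M : DRing.Cx A)

/-- `Hom•(cocone φ, M) ⟶ cone (Hom•(φ, M))` -/
noncomputable def coconeTo :
    DRing.homCx (mappingCocone φ) M ⟶ mappingCone (preMap M φ) :=
  mappingCone.lift (preMap M φ)
    (Cocycle.mk (pre M (mappingCocone.inr φ).1) 2 (by omega) (by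
      rw [δ_pre M _ 2 (by omega), Cocycle.δ_eq_zero, pre_zero]))
    (pre M (mappingCocone.inl φ)) (by
      simp only [Cocycle.mk_coe]
      rw [δ_pre M _ 1 (by omega), cc_δ_inl, pre_neg, ← pre_ofHom,
        pre_comp M (Cochain.ofHom φ) (mappingCocone.inr φ).1 (zero_add 1)]
      simp)

/-- `cone (Hom•(φ, M)) ⟶ Hom•(cocone φ, M)` -/
noncomputable def coconeFrom :
    mappingCone (preMap M φ) ⟶ DRing.homCx (mappingCocone φ) M :=
  mappingCone.desc (preMap M φ) (-pre M (mappingCocone.snd φ)) (preMap M (mappingCocone.fst φ)) (by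
    rw [δ_neg, δ_pre M _ 0 (by omega), cc_δ_snd, pre_neg, neg_neg, pre_ofHom, preMap_comp])

lemma inr_coconeFrom :
    inr (preMap M φ) ≫ coconeFrom φ M = preMap M (mappingCocone.fst φ) :=
  mappingCone.inr_desc _ _ _ _

lemma coconeTo_coconeFrom : coconeTo φ M ≫ coconeFrom φ M = 𝟙 _ := by
  apply Cochain.ofHom_injective
  rw [Cochain.ofHom_comp, coconeTo, coconeFrom, ofHom_lift, ofHom_desc, liftCochain_descCochain]
  simp only [Cocycle.mk_coe]
  rw [Cochain.comp_neg, pre_comp M (mappingCocone.snd φ) (mappingCocone.inr φ).1 (neg_add_cancel 1),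
    ← pre_ofHom,
    pre_comp M (Cochain.ofHom (mappingCocone.fst φ)) (mappingCocone.inl φ) (add_zero 0)]
  have e1 : ((-1 : ℤ) * 1).negOnePow = -1 := by simp
  have e2 : ((0 : ℤ) * 0).negOnePow = 1 := by simp
  rw [e1, e2, one_smul, Units.neg_smul, one_smul, neg_neg, ← pre_add, add_comm, cc_id, pre_id]

lemma coconeFrom_coconeTo : coconeFrom φ M ≫ coconeTo φ M = 𝟙 _ := by
  have e1 : ((1 : ℤ) * -1).negOnePow = -1 := by simp
  have e2 : ((0 : ℤ) * -1).negOnePow = 1 := by simp
  have e3 : ((1 : ℤ) * 0).negOnePow = 1 := by simp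
  have e4 : ((0 : ℤ) * 0).negOnePow = 1 := by simp
  apply Cochain.ofHom_injective
  rw [Cochain.ofHom_comp]
  rw [ext_cochain_from_iff (preMap M φ) (-1) 0 (neg_add_cancel 1)]
  constructor
  · rw [← Cochain.comp_assoc_of_third_is_zero_cochain, coconeFrom, inl_desc, Cochain.comp_id]
    rw [ext_cochain_to_iff (preMap M φ) (-1) 0 (neg_add_cancel 1)]
    constructor
    · rw [Cochain.comp_assoc_of_second_is_zero_cochain, coconeTo, lift_fst]
      simp only [Cocycle.mk_coe]
      rw [Cochain.neg_comp,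
        pre_comp M (mappingCocone.inr φ).1 (mappingCocone.snd φ) (add_neg_cancel 1), e1,
        Units.neg_smul, one_smul, neg_neg, cc_inr_snd, pre_id, inl_fst]
    · rw [Cochain.comp_assoc_of_second_is_zero_cochain, coconeTo, lift_snd, Cochain.neg_comp,
        pre_comp M (mappingCocone.inl φ) (mappingCocone.snd φ) (zero_add (-1)), cc_inl_snd,
        pre_zero, smul_zero, neg_zero, inl_snd]
  · rw [← Cochain.comp_assoc_of_first_is_zero_cochain, ← Cochain.ofHom_comp, inr_coconeFrom,
      Cochain.comp_id]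
    rw [ext_cochain_to_iff (preMap M φ) 0 1 (zero_add 1)]
    constructor
    · rw [Cochain.comp_assoc_of_first_is_zero_cochain, coconeTo, lift_fst]
      simp only [Cocycle.mk_coe]
      rw [← pre_ofHom,
        pre_comp M (mappingCocone.inr φ).1 (Cochain.ofHom (mappingCocone.fst φ)) (add_zero 1),
        cc_inr_fst, pre_zero, smul_zero, inr_fst]
    · rw [Cochain.comp_assoc_of_first_is_zero_cochain, coconeTo, lift_snd, ← pre_ofHom,
        pre_comp M (mappingCocone.inl φ) (Cochain.ofHom (mappingCocone.fst φ)) (add_zero 0),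
        cc_inl_fst, pre_id, e4, one_smul, inr_snd]

/-- `Hom•(cocone φ, M) ≅ cone (Hom•(φ, M))` -/
noncomputable def coconeIso :
    DRing.homCx (mappingCocone φ) M ≅ mappingCone (preMap M φ) where
  hom := coconeTo φ M
  inv := coconeFrom φ M
  hom_inv_id := coconeTo_coconeFrom φ M
  inv_hom_id := coconeFrom_coconeTo φ M

lemma preMap_fst_coconeIso :
    preMap M (mappingCocone.fst φ) ≫ (coconeIso φ M).hom = inr (preMap M φ) := by
  rw [← inr_coconeFrom, Category.assoc]
  change _ ≫ (coconeIso φ M).inv ≫ (coconeIso φ M).hom = _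
  rw [Iso.inv_hom_id, Category.comp_id]

end Cocone

end Groth.Agent.Lib.Helper8.RHomK
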