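import Mathlib
import Groth.Prelude.Def_DRing4
import Groth.Prelude.Def_DerCA
import Groth.Agent.Lib.Helper8.RHomK2
import Groth.Agent.Lib.Helper8.RHomK7

/-!
# Helper8 — RHomK8: localisation at one element and Hom complexes.
`Hom•(X, Hom(A_f, I)) → Hom•(X, I)` is an isomorphism when `f` acts bijectively on the terms of
`X`; `Hom•(P_f, E) → Hom•(P, E)` is an isomorphism when `f` acts bijectively on the terms of `E`.
-/

set_option autoImplicit false

universe u

open CategoryTheory CategoryTheory.Limits DerivedCategory
  CochainComplex CochainComplex.HomComplex MonoidalCategory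

namespace Groth.Agent.Lib.Helper8.RHomK

variable {A : Type u} [CommRing A]

section Mod

variable (f : A)

/-- `f` acts bijectively -/
def BijSmul (X : Type*) [AddCommGroup X] [Module A X] : Prop :=
  Function.Bijective (fun x : X => f • x)

variable {f}

lemma BijSmul.hom {X N : Type*} [AddCommGroup X] [Module A X] [AddCommGroup N] [Module A N]
    (h : BijSmul f X) : BijSmul f (X →ₗ[A] N) := by
  let e : X ≃ₗ[A] X := LinearEquiv.ofBijective (LinearMap.lsmul A X f) h
  constructor
  · intro g g' hg
    ext x
    obtain ⟨y, rfl⟩ := e.surjective x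
    have := congrArg (fun t : X →ₗ[A] N => t y) hg
    simp only [LinearMap.smul_apply] at this
    change g (f • y) = g' (f • y)
    rw [map_smul, map_smul, this]
  · intro g
    refine ⟨g.comp e.symm.toLinearMap, ?_⟩
    ext x
    change f • g (e.symm x) = g x
    rw [← map_smul, ← map_smul e.symm]
    exact congrArg g (e.symm_apply_apply x)

lemma BijSmul.isUnit {E : Type*} [AddCommGroup E] [Module A E] (h : BijSmul f E)
    (x : Submonoid.powers f) : IsUnit (algebraMap A (Module.End A E) x) := by
  obtain ⟨_, n, rfl⟩ := x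
  simp only [map_pow]
  apply IsUnit.pow
  rw [Module.End.isUnit_iff]
  exact h

lemma BijSmul.localizedModule (M : Type*) [AddCommGroup M] [Module A M] :
    BijSmul f (LocalizedModule (Submonoid.powers f) M) := by
  have h := IsLocalizedModule.map_units (LocalizedModule.mkLinearMap (Submonoid.powers f) M)
    ⟨f, Submonoid.mem_powers f⟩
  rw [Module.End.isUnit_iff] at h
  exact h

lemma BijSmul.away : BijSmul f (Localization.Away f) := by
  have h := IsLocalizedModule.map_units (Algebra.linearMap A (Localization.Away f))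
    (S := Submonoid.powers f) ⟨f, Submonoid.mem_powers f⟩
  rw [Module.End.isUnit_iff] at h
  exact h

/-- evaluation at `1` is bijective on `Hom(A_f, H)` when `f` acts bijectively on `H` -/
lemma bijective_evOne {H : Type*} [AddCommGroup H] [Module A H] (h : BijSmul f H) :
    Function.Bijective (fun g : Localization.Away f →ₗ[A] H => g 1) := by
  have hu := h.isUnit
  constructor
  · intro g g' hg
    apply IsLocalizedModule.ext (Submonoid.powers f) (Algebra.linearMap A (Localization.Away f)) hu
    ext
    simpa using hg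
  · intro y
    refine ⟨IsLocalizedModule.lift (Submonoid.powers f) (Algebra.linearMap A (Localization.Away f))
      (LinearMap.toSpanSingleton A H y) hu, ?_⟩
    have := IsLocalizedModule.lift_apply (Submonoid.powers f)
      (Algebra.linearMap A (Localization.Away f)) (LinearMap.toSpanSingleton A H y) hu 1
    simpa using this

/-- restriction along `M → M_f` is bijective on maps to `E` when `f` acts bijectively on `E` -/
lemma bijective_restrict {M E : Type*} [AddCommGroup M] [Module A M] [AddCommGroup E] [Module A E]
    (h : BijSmul f E) :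
    Function.Bijective (fun g : LocalizedModule (Submonoid.powers f) M →ₗ[A] E =>
      g.comp (LocalizedModule.mkLinearMap (Submonoid.powers f) M)) := by
  have hu := h.isUnit
  constructor
  · intro g g' hg
    exact IsLocalizedModule.ext (Submonoid.powers f)
      (LocalizedModule.mkLinearMap (Submonoid.powers f) M) hu hg
  · intro k
    exact ⟨IsLocalizedModule.lift (Submonoid.powers f)
      (LocalizedModule.mkLinearMap (Submonoid.powers f) M) k hu,
      IsLocalizedModule.lift_comp _ _ _ _⟩

/-- `Hom(X, Hom(A_f, N)) → Hom(X, N)`, `g ↦ (x ↦ g x 1)`, is bijective when `f` acts bijectively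
on `X` -/
lemma bijective_evOne_comp {X N : Type*} [AddCommGroup X] [Module A X] [AddCommGroup N]
    [Module A N] (h : BijSmul f X) :
    Function.Bijective (fun g : X →ₗ[A] (Localization.Away f →ₗ[A] N) =>
      (LinearMap.applyₗ (1 : Localization.Away f)).comp g) := by
  have h1 := bijective_evOne (f := f) (H := X →ₗ[A] N) h.hom
  have h2 : Function.Bijective (fun g : X →ₗ[A] (Localization.Away f →ₗ[A] N) => g.flip) :=
    ⟨fun g g' hg => by simpa using congrArg LinearMap.flip hg, fun k => ⟨k.flip, k.flip_flip⟩⟩
  have : (fun g : X →ₗ[A] (Localization.Away f →ₗ[A] N) =>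
      (LinearMap.applyₗ (1 : Localization.Away f)).comp g) =
      (fun g : Localization.Away f →ₗ[A] (X →ₗ[A] N) => g 1) ∘ (fun g => g.flip) := by
    funext g
    ext x
    rfl
  rw [this]
  exact h1.comp h2

end Mod

section Cx

lemma BijSmul.of_linearEquiv {f : A} {X Y : Type*} [AddCommGroup X] [Module A X] [AddCommGroup Y]
    [Module A Y] (e : X ≃ₗ[A] Y) (h : BijSmul f X) : BijSmul f Y := by
  have : (fun y : Y => f • y) = e ∘ (fun x : X => f • x) ∘ e.symm := by
    funext y
    simp
  rw [BijSmul, this]
  exact e.bijective.comp (h.comp e.symm.bijective)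

lemma BijSmul.of_subsingleton {f : A} {X : Type*} [AddCommGroup X] [Module A X] [Subsingleton X] :
    BijSmul f X :=
  ⟨fun _ _ _ => Subsingleton.elim _ _, fun y => ⟨y, Subsingleton.elim _ _⟩⟩

/-- a morphism of complexes of modules with bijective components is an isomorphism -/
lemma isIso_of_bijective {X Y : DRing.Cx A} (g : X ⟶ Y)
    (h : ∀ i, Function.Bijective ((g.f i).hom)) : IsIso g := by
  haveI : ∀ i, IsIso (g.f i) := fun i => (ConcreteCategory.isIso_iff_bijective _).2 (h i)
  exact HomologicalComplex.Hom.isIso_of_components g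

/-- evaluation at an element -/
noncomputable def evAt (M : ModuleCat.{u} A) (m : M) (N : ModuleCat.{u} A) :
    (ihom M).obj N ⟶ N :=
  ModuleCat.ofHom ((LinearMap.applyₗ m) ∘ₗ (ModuleCat.homLinearEquiv (S := A)).toLinearMap)

lemma evAt_apply (M : ModuleCat.{u} A) (m : M) (N : ModuleCat.{u} A) (g : M ⟶ N) :
    (evAt M m N).hom g = g.hom m := rfl

/-- evaluation at an element, on the termwise internal Hom complex -/
noncomputable def evCx (M : ModuleCat.{u} A) (m : M) (I : DRing.Cx A) : ihomCx M I ⟶ I where
  f q := evAt M m (I.X q)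
  comm' i j _ := by
    ext g
    rfl

/-- a map on cochains which is componentwise bijective is bijective -/
lemma cochain_bijective {X Y X' Y' : DRing.Cx A} {m : ℤ} (Φ : Cochain X Y m → Cochain X' Y' m)
    (b : ∀ (p q : ℤ) (_ : p + m = q), (X.X p ⟶ Y.X q) → (X'.X p ⟶ Y'.X q))
    (hΦ : ∀ (w : Cochain X Y m) (p q : ℤ) (hpq : p + m = q),
      (Φ w).v p q hpq = b p q hpq (w.v p q hpq))
    (hb : ∀ (p q : ℤ) (hpq : p + m = q), Function.Bijective (b p q hpq)) :
    Function.Bijective Φ := by
  constructor
  · intro w w' h
    refine Cochain.ext _ _ (fun p q hpq => ?_)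
    apply (hb p q hpq).1
    rw [← hΦ, ← hΦ, h]
  · intro w'
    refine ⟨Cochain.mk (fun p q hpq => ((hb p q hpq).2 (w'.v p q hpq)).choose), ?_⟩
    refine Cochain.ext _ _ (fun p q hpq => ?_)
    rw [hΦ, Cochain.mk_v]
    exact ((hb p q hpq).2 (w'.v p q hpq)).choose_spec

variable (f : A)

/-- the module `A_f` -/
noncomputable abbrev Af : ModuleCat.{u} A := ModuleCat.of A (Localization.Away f)

lemma bijSmul_ihom (N : ModuleCat.{u} A) : BijSmul f ((ihom (Af f)).obj N) :=
  BijSmul.of_linearEquiv (ModuleCat.homLinearEquiv (S := A)).symm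
    (BijSmul.hom (N := N) (BijSmul.away (f := f)))

lemma bijective_comp_evAt (X N : ModuleCat.{u} A) (hX : BijSmul f X) :
    Function.Bijective (fun g : X ⟶ (ihom (Af f)).obj N => g ≫ evAt (Af f) 1 N) := by
  have h := bijective_evOne_comp (f := f) (X := X) (N := N) hX
  constructor
  · intro g g' hg
    have h1 : (LinearMap.applyₗ (1 : Localization.Away f)).comp
        ((ModuleCat.homLinearEquiv (S := A)).toLinearMap.comp g.hom) =
        (LinearMap.applyₗ (1 : Localization.Away f)).comp
        ((ModuleCat.homLinearEquiv (S := A)).toLinearMap.comp g'.hom) := by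
      ext x
      exact congrArg (fun t : X ⟶ N => t.hom x) hg
    have h2 := h.1 h1
    ext x : 2
    apply (ModuleCat.homLinearEquiv (S := A)).injective
    exact congrArg (fun t : X →ₗ[A] (Localization.Away f →ₗ[A] N) => t x) h2
  · intro k
    obtain ⟨G, hG⟩ := h.2 k.hom
    refine ⟨ModuleCat.ofHom ((ModuleCat.homLinearEquiv (S := A)).symm.toLinearMap.comp G), ?_⟩
    ext x
    have := congrArg (fun t : X →ₗ[A] N => t x) hG
    simp only [LinearMap.comp_apply] at this
    rw [← this]
    rfl

lemma isIso_homCxMap_evCx (X I : DRing.Cx A) (hX : ∀ i, BijSmul f (X.X i)) :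
    IsIso (DRing.homCxMap X (evCx (Af f) 1 I)) := by
  apply isIso_of_bijective
  intro m
  refine cochain_bijective (X := X) (Y := ihomCx (Af f) I) (X' := X) (Y' := I)
    (fun w => w.comp (Cochain.ofHom (evCx (Af f) 1 I)) (add_zero m))
    (fun p q _ g => g ≫ evAt (Af f) 1 (I.X q)) ?_ ?_
  · intro w p q hpq
    rw [Cochain.comp_zero_cochain_v, Cochain.ofHom_v]
    rfl
  · intro p q hpq
    exact bijective_comp_evAt f (X.X p) (I.X q) (hX p)

lemma bijective_locUnit_comp (M E : ModuleCat.{u} A) (hE : BijSmul f E) :
    Function.Bijective (fun g : (DerCA.locFunctor (Submonoid.powers f)).obj M ⟶ E =>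
      (DerCA.locUnit (Submonoid.powers f)).app M ≫ g) := by
  have h := bijective_restrict (f := f) (M := M) (E := E) hE
  constructor
  · intro g g' hg
    have h1 : g.hom.comp (LocalizedModule.mkLinearMap (Submonoid.powers f) M) =
        g'.hom.comp (LocalizedModule.mkLinearMap (Submonoid.powers f) M) := by
      ext x
      exact congrArg (fun t : M ⟶ E => t.hom x) hg
    ext x : 2
    exact congrArg (fun t : LocalizedModule (Submonoid.powers f) M →ₗ[A] E => t x) (h.1 h1)
  · intro k
    obtain ⟨G, hG⟩ := h.2 k.hom
    refine ⟨ModuleCat.ofHom G, ?_⟩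
    ext x
    exact congrArg (fun t : M →ₗ[A] E => t x) hG

lemma isIso_preMap_locCxUnit (P E : DRing.Cx A) (hE : ∀ i, BijSmul f (E.X i)) :
    IsIso (preMap E (DerCA.locCxUnit (Submonoid.powers f) P)) := by
  apply isIso_of_bijective
  intro m
  have : ∀ w : Cochain ((DerCA.locCx (Submonoid.powers f)).obj P) E m,
      ((preMap E (DerCA.locCxUnit (Submonoid.powers f) P)).f m).hom w =
        (Cochain.ofHom (DerCA.locCxUnit (Submonoid.powers f) P)).comp w (zero_add m) :=
    fun w => preMap_f_apply E _ m w
  refine cochain_bijective (X := (DerCA.locCx (Submonoid.powers f)).obj P) (Y := E)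
    (X' := P) (Y' := E) (fun w => ((preMap E (DerCA.locCxUnit (Submonoid.powers f) P)).f m).hom w)
    (fun p q _ g => (DerCA.locUnit (Submonoid.powers f)).app (P.X p) ≫ g) ?_ ?_
  · intro w p q hpq
    rw [this, Cochain.zero_cochain_comp_v, Cochain.ofHom_v]
    rfl
  · intro p q hpq
    exact bijective_locUnit_comp f (P.X p) (E.X q) (hE q)

end Cx

end Groth.Agent.Lib.Helper8.RHomK
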