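import Mathlib
import Groth.Prelude.Def_DualLC
import Groth.Prelude.Def_DRing3
import Groth.Agent.Lib.Helper8.RGam6
import Groth.Agent.Lib.Helper8.RHomK8

/-!
# Helper8 — RGam7: over a Noetherian ring, `RΓ_I` is right adjoint to the inclusion of the objects of
`D(A)` with `I`-power torsion cohomology
-/

set_option autoImplicit false
set_option linter.unusedSectionVars false

universe u

open CategoryTheory CategoryTheory.Limits DerivedCategory CochainComplex

attribute [local instance] HasDerivedCategory.standard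

namespace Groth.Agent.Lib.Helper8.RGam

open Groth.Agent.Lib.Helper2.LCCech1 Groth.Agent.Lib.Helper2.LCCech3 Groth.Agent.Lib.Helper2.LCCech4
  Groth.Agent.Lib.Helper2.LCInj1 Groth.Agent.Lib.Helper2.LCInj2 DerCA

variable {A : Type u} [CommRing A] (I : Ideal A)

/-- the property "all cohomology modules are `I`-power torsion" -/
abbrev TorsCoh : ObjectProperty (Dual.D A) :=
  fun L : Dual.D A => ∀ i : ℤ, LocCoh.IsPowerTorsion I (Dual.HD A L i)

lemma isPowerTorsion_homology_gammaCx (J : DRing.Cx A) (i : ℤ) :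
    LocCoh.IsPowerTorsion I ((gammaCx I J).homology i) := by
  intro x
  have hs : Function.Surjective ((gammaCx I J).homologyπ i).hom :=
    (ModuleCat.epi_iff_surjective _).1 inferInstance
  have hi : Function.Injective ((gammaCx I J).iCycles i).hom :=
    (ModuleCat.mono_iff_injective _).1 inferInstance
  obtain ⟨c, rfl⟩ := hs x
  obtain ⟨n, hn⟩ := tval_mem I J i (((gammaCx I J).iCycles i).hom c)
  refine ⟨n, fun a ha => ?_⟩
  have h1 : a • c = 0 := by
    apply hi
    rw [map_smul, map_zero]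
    apply tval_injective I J i
    rw [tval_smul, hn a ha, tval_zero]
  rw [← map_smul, h1, map_zero]

lemma torsCoh_of_iso {L L' : Dual.D A} (e : L ≅ L') (h : TorsCoh I L) : TorsCoh I L' := by
  intro i x
  let φ := (DerivedCategory.homologyFunctor (ModuleCat.{u} A) i).mapIso e
  obtain ⟨n, hn⟩ := h i (φ.inv.hom x)
  refine ⟨n, fun a ha => ?_⟩
  apply (ModuleCat.mono_iff_injective φ.inv).1 inferInstance
  rw [map_smul, hn a ha, map_zero]

theorem torsCoh_RgammaI [DRing.HasRgammaI I] (K : Dual.D A) :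
    TorsCoh I ((DRing.RgammaI I).obj K) := by
  obtain ⟨J, hJ, ⟨e⟩⟩ := KInjM.exists_kinj_rep K
  haveI := hJ
  obtain ⟨e1⟩ := nonempty_rgammaIso I J
  have h0 : TorsCoh I (Q.obj (gammaCx I J)) := by
    intro i x
    let φ := (DerivedCategory.homologyFunctorFactors (ModuleCat.{u} A) i).app (gammaCx I J)
    obtain ⟨n, hn⟩ := isPowerTorsion_homology_gammaCx I J i (φ.hom.hom x)
    refine ⟨n, fun a ha => ?_⟩
    apply (ModuleCat.mono_iff_injective φ.hom).1 inferInstance
    exact (map_smul φ.hom.hom a x).trans ((hn a ha).trans (map_zero φ.hom.hom).symm)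
  exact torsCoh_of_iso I ((DRing.RgammaI I).mapIso e.symm ≪≫ e1).symm h0

section Noeth

variable [IsNoetherianRing A] [DRing.HasRgammaI I]

/-- no maps from an object with `I`-power torsion cohomology to a complex on whose terms some
`f ∈ I` acts bijectively -/
lemma hom_eq_zero_of_torsCoh_of_bijective (L : Dual.D A) (hL : TorsCoh I L)
    (V : DRing.Cx A) (f : A) (hf : f ∈ I) (hV : ∀ n, Function.Bijective (fun x : V.X n => f • x))
    (φ : L ⟶ Q.obj V) : φ = 0 := by
  haveI := isIso_RgammaIε_of_torsion I L hL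
  have h1 := (DRing.RgammaIε I).naturality φ
  have h2 : (DRing.RgammaI I).map φ = 0 :=
    (isZero_RgammaI_of_smul_bijective I V f hf hV).eq_of_tgt _ _
  rw [h2, zero_comp] at h1
  exact (cancel_epi ((DRing.RgammaIε I).app L)).1 (h1.symm.trans comp_zero.symm)

/-- the same for a shift of the target -/
lemma hom_shift_eq_zero_of_torsCoh_of_bijective (L : Dual.D A) (hL : TorsCoh I L)
    (V : DRing.Cx A) (f : A) (hf : f ∈ I) (hV : ∀ n, Function.Bijective (fun x : V.X n => f • x))
    (a : ℤ) (φ : L ⟶ (Q.obj V)⟦a⟧) : φ = 0 := by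
  have h1 := hom_eq_zero_of_torsCoh_of_bijective I L hL (V⟦a⟧) f hf (fun n => hV (n + a))
    (φ ≫ (Q.commShiftIso a).inv.app V)
  exact (cancel_mono ((Q.commShiftIso a).inv.app V)).1 (h1.trans zero_comp.symm)

/-- post-composition with a map whose cone is `f`-local is bijective on maps from objects with
torsion cohomology -/
lemma bijective_comp_of_triangle (T : Pretriangulated.Triangle (Dual.D A))
    (hT : T ∈ distTriang _) (L : Dual.D A)
    (h3 : ∀ φ : L ⟶ T.obj₃, φ = 0) (h3' : ∀ φ : L ⟶ T.obj₃⟦(-1 : ℤ)⟧, φ = 0) :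
    Function.Bijective (fun ψ : L ⟶ T.obj₁ => ψ ≫ T.mor₁) := by
  constructor
  · intro ψ ψ' h
    rw [← sub_eq_zero]
    have h0 : (ψ - ψ') ≫ T.mor₁ = 0 := by
      rw [Preadditive.sub_comp]
      exact sub_eq_zero.2 h
    obtain ⟨χ, hχ⟩ := Pretriangulated.Triangle.coyoneda_exact₂ _
      (Pretriangulated.inv_rot_of_distTriang _ hT) (ψ - ψ') h0
    rw [hχ, h3' χ]
    exact zero_comp
  · intro ψ
    obtain ⟨χ, hχ⟩ := Pretriangulated.Triangle.coyoneda_exact₂ _ hT ψ (h3 _)
    exact ⟨χ, hχ.symm⟩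

lemma bijSmul_locCx (f : A) (X : DRing.Cx A) (n : ℤ) :
    Function.Bijective (fun x : ((locCx (Submonoid.powers f)).obj X).X n => f • x) :=
  RHomK.BijSmul.localizedModule (f := f) (X.X n)

/-- maps from objects with torsion cohomology into `J` factor uniquely through the torsion
subcomplexes -/
theorem bijective_comp_tincl (J : DRing.Cx A) (hJ : Div J) (L : Dual.D A) (hL : TorsCoh I L) :
    ∀ l : List A, (∀ g ∈ l, g ∈ I) →
      Function.Bijective (fun ψ : L ⟶ Q.obj (torL l J) => ψ ≫ Q.map (tincl l J))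
  | [] => fun _ => by
    have : IsIso (tincl [] J) := isIso_subCxι_nil J
    have : IsIso (Q.map (tincl [] J) : (Q.obj _ : Dual.D A) ⟶ _) := inferInstance
    exact ⟨fun ψ ψ' h => (cancel_mono _).1 h, fun ψ => ⟨ψ ≫ inv (Q.map (tincl [] J)), by simp⟩⟩
  | f :: l => fun hl => by
    have ih := bijective_comp_tincl J hJ L hL l (fun g hg => hl g (List.mem_cons_of_mem _ hg))
    have hf : f ∈ I := hl f List.mem_cons_self
    have hS := torSC_shortExact hJ f l
    have hT := DerivedCategory.triangleOfSES_distinguished hS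
    have h1 := bijective_comp_of_triangle _ hT L
      (fun φ => hom_eq_zero_of_torsCoh_of_bijective I L hL _ f hf (bijSmul_locCx f (torL l J)) φ)
      (fun φ => hom_shift_eq_zero_of_torsCoh_of_bijective I L hL _ f hf
        (bijSmul_locCx f (torL l J)) (-1) φ)
    have h4 : tincl (f :: l) J = torIncl f l J ≫ tincl l J := by
      ext n x
      rfl
    have h5 : (fun ψ : L ⟶ Q.obj (torL (f :: l) J) => ψ ≫ Q.map (tincl (f :: l) J)) =
        (fun ψ : L ⟶ Q.obj (torL l J) => ψ ≫ Q.map (tincl l J)) ∘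
          (fun ψ : L ⟶ Q.obj (torL (f :: l) J) => ψ ≫ Q.map (torIncl f l J)) := by
      funext ψ
      simp only [Function.comp_apply, Category.assoc, ← Functor.map_comp, h4]
    rw [h5]
    exact ih.comp h1

/-- `η_J ≫ ε_{Q J} = Q(Γ_I J ⊆ J)` -/
lemma unit_comp_ε (J : DRing.Cx A) :
    ((DRing.gammaIKh I).totalRightDerivedUnit DerivedCategory.Qh
      (HomotopyCategory.quasiIso (ModuleCat.{u} A) (ComplexShape.up ℤ))).app
        ((HomotopyCategory.quotient _ _).obj J) ≫
      (DRing.RgammaIε I).app (Q.obj J) = Q.map (gincl I J) := by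
  have h1 := Functor.rightDerived_fac_app (DRing.RgammaI I)
    ((DRing.gammaIKh I).totalRightDerivedUnit DerivedCategory.Qh
      (HomotopyCategory.quasiIso (ModuleCat.{u} A) (ComplexShape.up ℤ)))
    (HomotopyCategory.quasiIso (ModuleCat.{u} A) (ComplexShape.up ℤ)) (𝟭 (Dual.D A))
    (DRing.gammaIτ I ≫ (Functor.rightUnitor _).inv) ((HomotopyCategory.quotient _ _).obj J)
  refine h1.trans ?_
  rw [NatTrans.comp_app, Functor.rightUnitor_inv_app]
  refine (Category.comp_id _).trans ?_
  exact gammaIτ_app I J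

lemma exists_iso_aux {C : Type*} [Category C] {X Y Z W : C} (η : Y ⟶ X) (hη : IsIso η)
    (ε : X ⟶ W) (g : Y ⟶ W) (i : Y ≅ Z) (t : Z ⟶ W) (hu : η ≫ ε = g) (hg : i.hom ≫ t = g) :
    ∃ θ : X ≅ Z, ε = θ.hom ≫ t := by
  refine ⟨(asIso η).symm ≪≫ i, ?_⟩
  rw [Iso.trans_hom, Category.assoc, hg, ← hu]
  simp

lemma app_eq_conj {C : Type*} [Category C] {F : C ⥤ C} (ε : F ⟶ 𝟭 C) {X K : C} (e : X ≅ K) :
    ε.app K = F.map e.inv ≫ ε.app X ≫ e.hom := by
  have h := ε.naturality e.inv
  simp only [Functor.id_map] at h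
  rw [← Category.assoc, h, Category.assoc, e.inv_hom_id]
  exact (Category.comp_id _).symm

/-- `ε_{Q J}` is the inclusion of the torsion subcomplex, up to an isomorphism of the source -/
lemma exists_iso_comp_tincl (fs : List A) [DRing.HasRgammaI (Ideal.span {y | y ∈ fs})]
    (J : DRing.Cx A) [hJ : J.IsKInjective] :
    ∃ θ : (DRing.RgammaI (Ideal.span {y | y ∈ fs})).obj (Q.obj J) ≅ Q.obj (torL fs J),
      (DRing.RgammaIε (Ideal.span {y | y ∈ fs})).app (Q.obj J) = θ.hom ≫ Q.map (tincl fs J) := by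
  have hK := KInjDer.hK_of_complexes (A := ModuleCat.{u} A) KInjM.exists_kinj
  have hη : IsIso (((DRing.gammaIKh (Ideal.span {y | y ∈ fs})).totalRightDerivedUnit
      DerivedCategory.Qh
      (HomotopyCategory.quasiIso (ModuleCat.{u} A) (ComplexShape.up ℤ))).app
        ((HomotopyCategory.quotient _ _).obj J)) :=
    KInjDer.isIso_unit hK (DRing.gammaIKh _) _ hJ
  have hu := unit_comp_ε (Ideal.span {y | y ∈ fs}) J
  have hg : (Q.map (gammaTorIso fs J).hom : (Q.obj _ : Dual.D A) ⟶ _) ≫ Q.map (tincl fs J) =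
      Q.map (gincl (Ideal.span {y | y ∈ fs}) J) := by
    rw [← Functor.map_comp, gammaTorIso_hom_tincl]
  exact exists_iso_aux _ hη _ _ (Q.mapIso (gammaTorIso fs J)) _ hu hg

/-- composition with `ε_K : RΓ_I K ⟶ K` is bijective on maps from objects with `I`-power torsion
cohomology -/
theorem bijective_comp_ε (L : Dual.D A) (hL : TorsCoh I L) (K : Dual.D A) :
    Function.Bijective (fun ψ : L ⟶ (DRing.RgammaI I).obj K => ψ ≫ (DRing.RgammaIε I).app K) := by
  obtain ⟨fs, hfs⟩ := exists_list_span I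
  subst hfs
  obtain ⟨J, hJ, hJ', ⟨e⟩⟩ := KInjM.exists_kinj_rep_inj K
  haveI := hJ
  have h1 := bijective_comp_tincl (Ideal.span {y | y ∈ fs}) J (div_of_injective J hJ') L hL fs
    (fun g hg => Ideal.subset_span (show g ∈ {y | y ∈ fs} from hg))
  obtain ⟨θ, hθ⟩ := exists_iso_comp_tincl fs J
  have h3 : (DRing.RgammaIε (Ideal.span {y | y ∈ fs})).app K =
      (DRing.RgammaI _).map e.inv ≫ (DRing.RgammaIε _).app (Q.obj J) ≫ e.hom := by
    exact app_eq_conj _ e
  have h4 : (fun ψ : L ⟶ (DRing.RgammaI (Ideal.span {y | y ∈ fs})).obj K =>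
      ψ ≫ (DRing.RgammaIε _).app K) =
      (fun χ : L ⟶ Q.obj J => χ ≫ e.hom) ∘
      (fun ψ : L ⟶ Q.obj (torL fs J) => ψ ≫ Q.map (tincl fs J)) ∘
      (fun ψ : L ⟶ (DRing.RgammaI (Ideal.span {y | y ∈ fs})).obj K =>
        ψ ≫ (DRing.RgammaI _).map e.inv ≫ θ.hom) := by
    funext ψ
    simp only [Function.comp_apply, h3, hθ, Category.assoc]
  rw [h4]
  refine Function.Bijective.comp ?_ (Function.Bijective.comp h1 ?_)
  · exact ⟨fun χ χ' h => (cancel_mono e.hom).1 h, fun χ => ⟨χ ≫ e.inv, by simp⟩⟩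
  · exact ⟨fun χ χ' h => (cancel_mono _).1 h,
      fun χ => ⟨χ ≫ inv ((DRing.RgammaI (Ideal.span {y | y ∈ fs})).map e.inv ≫ θ.hom), by simp⟩⟩

/-- the hom-set bijection of the adjunction -/
noncomputable def adjEquiv (L : (TorsCoh I).FullSubcategory) (K : Dual.D A) :
    (L ⟶ ((TorsCoh I).lift (DRing.RgammaI I) (torsCoh_RgammaI I)).obj K) ≃
      ((TorsCoh I).ι.obj L ⟶ K) :=
  Equiv.ofBijective (fun ψ => ψ.hom ≫ (DRing.RgammaIε I).app K) (by
    have hb := bijective_comp_ε I L.obj L.property K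
    constructor
    · intro ψ ψ' h
      exact ObjectProperty.hom_ext _ (hb.1 h)
    · intro χ
      obtain ⟨ψ, hψ⟩ := hb.2 χ
      exact ⟨ObjectProperty.homMk ψ, hψ⟩)

lemma adjEquiv_apply (L : (TorsCoh I).FullSubcategory) (K : Dual.D A)
    (ψ : L ⟶ ((TorsCoh I).lift (DRing.RgammaI I) (torsCoh_RgammaI I)).obj K) :
    adjEquiv I L K ψ = ψ.hom ≫ (DRing.RgammaIε I).app K := rfl

/-- **S1817**: `RΓ_I` is right adjoint to the inclusion of the objects with `I`-power torsion
cohomology -/
noncomputable def torsAdjunction :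
    (TorsCoh I).ι ⊣ (TorsCoh I).lift (DRing.RgammaI I) (torsCoh_RgammaI I) :=
  Adjunction.mkOfHomEquiv
    { homEquiv := fun L K => (adjEquiv I L K).symm
      homEquiv_naturality_left_symm := by
        intro L' L K f g
        simp only [Equiv.symm_symm, adjEquiv_apply, ObjectProperty.FullSubcategory.comp_hom,
          Category.assoc, ObjectProperty.ι_map]
      homEquiv_naturality_right := by
        intro L K K' f g
        apply (adjEquiv I L K').injective
        rw [Equiv.apply_symm_apply, adjEquiv_apply, ObjectProperty.FullSubcategory.comp_hom,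
          Category.assoc]
        have h1 : (((TorsCoh I).lift (DRing.RgammaI I) (torsCoh_RgammaI I)).map g).hom ≫
            (DRing.RgammaIε I).app K' = (DRing.RgammaIε I).app K ≫ g :=
          (DRing.RgammaIε I).naturality g
        rw [h1, ← Category.assoc, ← adjEquiv_apply, Equiv.apply_symm_apply] }

end Noeth

end Groth.Agent.Lib.Helper8.RGam
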