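import Mathlib
import Groth.Prelude.Def_DualLC
import Groth.Prelude.Def_DRing3
import Groth.Prelude.Def_DDual2
import Groth.Agent.Lib.Helper8.RGam10
import Groth.Agent.Lib.Helper8.RGam7
import Groth.Agent.Lib.Helper16.RelBC1
import Groth.Agent.Lib.Helper16.FlatProd

/-!
# Helper8 — RGam11: Čech complexes of flat bounded-above complexes are K-flat; extension of scalars along
any ring map commutes with Čech complexes; `RΓ_I` only depends on the radical; Frobenius base change of
`RΓ_I(A)`
-/

set_option autoImplicit false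
set_option linter.unusedSectionVars false

universe u

open CategoryTheory CategoryTheory.Limits DerivedCategory CochainComplex TensorProduct

attribute [local instance] HasDerivedCategory.standard

namespace Groth.Agent.Lib.Helper8.RGam

open Groth.Agent.Lib.Helper2.LCCech1 Groth.Agent.Lib.Helper2.LCCech3 Groth.Agent.Lib.Helper2.LCCech4
  Groth.Agent.Lib.Helper2.LCCechF Groth.Agent.Lib.Helper2.LCCechExt DerCA
  Groth.Agent.Lib.Helper16.FlatBC Groth.Agent.Lib.Helper16.LDer

section Flat

variable {A : Type u} [CommRing A]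

lemma flat_locFunctor (S : Submonoid A) (M : ModuleCat.{u} A) [Module.Flat A M] :
    Module.Flat A ((locFunctor S).obj M) := by
  change Module.Flat A (LocalizedModule S M)
  exact Module.Flat.trans A (Localization S) (LocalizedModule S M)

lemma termwiseFlat_cechStep (f : A) (K : DRing.Cx A) (hK : DRing.TermwiseFlat K) :
    DRing.TermwiseFlat (cechStep f K) := by
  intro n
  have e := mappingCoconeXIso (locCxUnit (Submonoid.powers f) K) n ≪≫ ModuleCat.biprodIsoProd _ _
  haveI := hK n
  haveI : Module.Flat A (((locCx (Submonoid.powers f)).obj K).X (n - 1)) := by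
    haveI := hK (n - 1)
    exact flat_locFunctor _ _
  haveI : Module.Flat A (K.X n × ((locCx (Submonoid.powers f)).obj K).X (n - 1)) :=
    Groth.Agent.Lib.Helper16.FlatKer.flat_prod _ _
  exact Module.Flat.of_linearEquiv e.toLinearEquiv

lemma termwiseFlat_cechCx (K : DRing.Cx A) (hK : DRing.TermwiseFlat K) :
    ∀ fs : List A, DRing.TermwiseFlat (cechCx K fs)
  | [] => hK
  | f :: fs => termwiseFlat_cechStep f _ (termwiseFlat_cechCx K hK fs)

lemma vanishesAbove_cechStep (f : A) (K : DRing.Cx A) (b : ℤ) (hK : DRing.VanishesAbove K b) :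
    DRing.VanishesAbove (cechStep f K) (b + 1) := by
  intro n hn
  have e := mappingCoconeXIso (locCxUnit (Submonoid.powers f) K) n
  refine IsZero.of_iso ?_ e
  have h1 : IsZero (K.X n) := hK n (by omega)
  have h2 : IsZero (((locCx (Submonoid.powers f)).obj K).X (n - 1)) :=
    Functor.map_isZero (locFunctor (Submonoid.powers f)) (hK (n - 1) (by omega))
  exact (biprod_isZero_iff _ _).2 ⟨h1, h2⟩

lemma vanishesAbove_cechCx (K : DRing.Cx A) (b : ℤ) (hK : DRing.VanishesAbove K b) :
    ∀ fs : List A, DRing.VanishesAbove (cechCx K fs) (b + fs.length)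
  | [] => by
    change DRing.VanishesAbove K (b + ((0 : ℕ) : ℤ))
    simpa using hK
  | f :: fs => by
    have := vanishesAbove_cechStep f _ _ (vanishesAbove_cechCx K b hK fs)
    change DRing.VanishesAbove (cechStep f (cechCx K fs)) (b + ((fs.length + 1 : ℕ) : ℤ))
    have e : b + ((fs.length + 1 : ℕ) : ℤ) = b + (fs.length : ℤ) + 1 := by push_cast; ring
    rw [e]
    exact this

end Flat

section Compat

variable {R : Type u} [CommRing R] {R' : Type u} [CommRing R']

/-- transport of the compatibility with localisation along a natural isomorphism -/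
noncomputable def LocCompat.ofIso {G G' : ModuleCat.{u} R ⥤ ModuleCat.{u} R'} [G.Additive]
    [G'.Additive] (α : G' ≅ G) {f : R} {f' : R'} (c : LocCompat G' f f') : LocCompat G f f' where
  θ := Functor.isoWhiskerLeft _ α.symm ≪≫ c.θ ≪≫ Functor.isoWhiskerRight α _
  unit M := by
    have h1 := α.inv.naturality ((locUnit (Submonoid.powers f)).app M)
    have h2 := c.unit M
    have h3 := (locUnit (Submonoid.powers f')).naturality (α.hom.app M)
    dsimp at h1 h3 ⊢
    rw [← Category.assoc, h1, Category.assoc, ← Category.assoc (G'.map _), h2, ← h3,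
      Iso.inv_hom_id_app_assoc]

/-- extension of scalars along any ring map is compatible with localisation -/
noncomputable def extendScalarsCompat (φ : R →+* R') (f : R) :
    LocCompat (ModuleCat.extendScalars.{u, u, u} φ) f (φ f) :=
  letI := φ.toAlgebra
  LocCompat.ofIso (extNatIso (A := R) (B := R')) (extCompat (R' := R') f)

lemma forall₂_extendScalars (φ : R →+* R') (fs : List R) :
    List.Forall₂ (fun (f : R) (g : R') =>
      Nonempty (LocCompat (ModuleCat.extendScalars.{u, u, u} φ) f g)) fs (fs.map φ) := by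
  induction fs with
  | nil => exact List.Forall₂.nil
  | cons f fs ih => exact List.Forall₂.cons ⟨extendScalarsCompat φ f⟩ ih

end Compat

section Radical

variable {A : Type u} [CommRing A] [IsNoetherianRing A]

lemma isPowerTorsion_of_pow_le {I J : Ideal A} (m : ℕ) (h : J ^ m ≤ I) (M : Type*) [AddCommGroup M]
    [Module A M] (hM : LocCoh.IsPowerTorsion I M) : LocCoh.IsPowerTorsion J M := by
  intro x
  obtain ⟨n, hn⟩ := hM x
  refine ⟨m * n, fun a ha => hn a ?_⟩
  rw [pow_mul] at ha
  exact Ideal.pow_right_mono h n ha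

/-- `RΓ_I` only depends on the radical of `I` -/
theorem nonempty_rgamma_iso_of_pow_le (I J : Ideal A) [DRing.HasRgammaI I] [DRing.HasRgammaI J]
    (m n : ℕ) (h1 : J ^ m ≤ I) (h2 : I ^ n ≤ J) (K : Dual.D A) :
    Nonempty ((DRing.RgammaI I).obj K ≅ (DRing.RgammaI J).obj K) := by
  haveI := hasRgammaI (I ⊔ J)
  haveI := hasRgammaI (J ⊔ I)
  obtain ⟨e1⟩ := nonempty_rgamma_comp_iso I J K
  obtain ⟨e2⟩ := nonempty_rgamma_comp_iso J I K
  obtain ⟨e3⟩ := rgamma_iso_of_eq (sup_comm I J) K
  haveI i1 : IsIso ((DRing.RgammaIε J).app ((DRing.RgammaI I).obj K)) :=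
    isIso_RgammaIε_of_torsion J _
      (fun i => isPowerTorsion_of_pow_le m h1 _ (torsCoh_RgammaI I K i))
  haveI i2 : IsIso ((DRing.RgammaIε I).app ((DRing.RgammaI J).obj K)) :=
    isIso_RgammaIε_of_torsion I _
      (fun i => isPowerTorsion_of_pow_le n h2 _ (torsCoh_RgammaI J K i))
  exact ⟨(asIso ((DRing.RgammaIε J).app ((DRing.RgammaI I).obj K))).symm ≪≫ e1 ≪≫ e3 ≪≫ e2.symm ≪≫
    asIso ((DRing.RgammaIε I).app ((DRing.RgammaI J).obj K))⟩

end Radical

section Frob

variable {R : Type u} [CommRing R] {R' : Type u} [CommRing R']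

/-- `R' ⊗_R R ≅ R'` -/
noncomputable def extendScalarsSelfIso (φ : R →+* R') :
    (ModuleCat.extendScalars.{u, u, u} φ).obj (ModuleCat.of R R) ≅ ModuleCat.of R' R' :=
  letI := φ.toAlgebra
  (extIso (A := R) (B := R') R).symm ≪≫
    (TensorProduct.AlgebraTensorModule.rid R R' R').toModuleIso

/-- **S8934** -/
theorem nonempty_iso_LBaseChange_frobenius_RgammaI (p : ℕ) [Fact p.Prime] (A : Type u) [CommRing A]
    [IsNoetherianRing A] [CharP A p] (I : Ideal A) [DRing.HasRgammaI I]
    [DRing.HasLBaseChange (frobenius A p)] :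
    Nonempty ((DRing.LBaseChange (frobenius A p)).obj ((DRing.RgammaI I).obj (Dual.inD A A)) ≅
      (DRing.RgammaI I).obj (Dual.inD A A)) := by
  obtain ⟨fs, hfs⟩ := exists_list_span I
  subst hfs
  set φ := frobenius A p with hφ
  let G := ModuleCat.extendScalars.{u, u, u} φ
  let A0 : DRing.Cx A :=
    (HomologicalComplex.single (ModuleCat.{u} A) (ComplexShape.up ℤ) 0).obj (ModuleCat.of A A)
  let e0 : Dual.inD A A ≅ (Q.obj A0 : Dual.D A) :=
    (DerivedCategory.singleFunctorIsoCompQ (ModuleCat.{u} A) 0).app (ModuleCat.of A A)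
  set gs := fs.map φ with hgs
  haveI := hasRgammaI (Ideal.span {y | y ∈ gs})
  obtain ⟨e1⟩ := nonempty_rgamma_iso_cech fs A0
  let C := cechCx A0 fs
  have h0 : DRing.VanishesAbove A0 0 := by
    intro i hi
    exact HomologicalComplex.isZero_single_obj_X _ _ _ _ (by omega)
  have hfl : DRing.TermwiseFlat A0 := by
    intro i
    by_cases hi : i = 0
    · subst hi
      exact Module.Flat.of_linearEquiv
        ((HomologicalComplex.singleObjXSelf (ComplexShape.up ℤ) 0 (ModuleCat.of A A)).toLinearEquiv)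
    · have hz : IsZero (A0.X i) := HomologicalComplex.isZero_single_obj_X _ _ _ _ hi
      haveI : Subsingleton (A0.X i) := ModuleCat.subsingleton_of_isZero hz
      infer_instance
  have hC : DRing.IsKFlat A C :=
    Groth.Agent.Lib.Helper16.KF.isKFlat_of_boundedAbove C _ (vanishesAbove_cechCx A0 0 h0 fs)
      (termwiseFlat_cechCx A0 hfl fs)
  let e2 := Groth.Agent.Lib.Helper16.RelBC.lBaseChangeIsoOfKFlat φ C hC
  obtain ⟨ρ, hρ⟩ := exists_quasiIso_cechCx (G := G) A0 (forall₂_extendScalars φ fs)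
  let σ : (G.mapHomologicalComplex (ComplexShape.up ℤ)).obj A0 ≅ A0 :=
    (HomologicalComplex.singleMapHomologicalComplex G (ComplexShape.up ℤ) 0).app (ModuleCat.of A A) ≪≫
      (HomologicalComplex.single (ModuleCat.{u} A) (ComplexShape.up ℤ) 0).mapIso
        (extendScalarsSelfIso φ)
  have hσ : QuasiIso (cechCxMap σ.hom gs) := quasiIso_cechCxMap σ.hom gs
  obtain ⟨e3⟩ := nonempty_rgamma_iso_cech gs A0
  -- radicals
  have hle : Ideal.span {y | y ∈ gs} ≤ Ideal.span {y | y ∈ fs} := by
    rw [Ideal.span_le]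
    rintro y hy
    obtain ⟨f, hf, rfl⟩ := List.mem_map.1 hy
    rw [hφ, frobenius_def]
    exact Ideal.pow_mem_of_mem _ (Ideal.subset_span (show f ∈ {y | y ∈ fs} from hf)) p
      (Fact.out : p.Prime).pos
  have hrad : Ideal.span {y | y ∈ fs} ≤ (Ideal.span {y | y ∈ gs}).radical := by
    rw [Ideal.span_le]
    intro f hf
    refine ⟨p, Ideal.subset_span (show f ^ p ∈ {y | y ∈ gs} from ?_)⟩
    exact List.mem_map.2 ⟨f, hf, by rw [hφ, frobenius_def]⟩
  obtain ⟨n, hn⟩ := Ideal.exists_pow_le_of_le_radical_of_fg hrad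
    (IsNoetherian.noetherian _)
  obtain ⟨e4⟩ := nonempty_rgamma_iso_of_pow_le (Ideal.span {y | y ∈ gs}) (Ideal.span {y | y ∈ fs})
    n 1 hn (by simpa using hle) (Q.obj A0 : Dual.D A)
  haveI : IsIso (Q.map ρ : (Q.obj _ : Dual.D A) ⟶ _) := inferInstance
  haveI : IsIso (Q.map (cechCxMap σ.hom gs) : (Q.obj _ : Dual.D A) ⟶ _) := inferInstance
  exact ⟨(DRing.LBaseChange φ).mapIso ((DRing.RgammaI _).mapIso e0 ≪≫ e1) ≪≫ e2 ≪≫
    asIso (Q.map ρ) ≪≫ asIso (Q.map (cechCxMap σ.hom gs)) ≪≫ e3.symm ≪≫ e4 ≪≫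
    (DRing.RgammaI _).mapIso e0.symm⟩

end Frob

end Groth.Agent.Lib.Helper8.RGam
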