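import Mathlib
import Groth.Agent.Lib.Helper8.EBC4
import Groth.Agent.Lib.Helper8.RGam11
import Groth.Agent.Lib.Helper2.LCCechRes

/-! # Helper8 — EBC5: Ext base change for power torsion modules along a flat ring map `A → B` with `A/I ≅ B/IB` (S1731) -/

set_option autoImplicit false

universe u

open CategoryTheory CategoryTheory.Limits DerivedCategory CochainComplex TensorProduct

attribute [local instance] HasDerivedCategory.standard

namespace Groth.Agent.Lib.Helper8.EBC

open Groth.Agent.Lib.Helper2.LCCech1 Groth.Agent.Lib.Helper2.LCCechF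
  Groth.Agent.Lib.Helper2.LCCechRes DerCA Groth.Agent.Lib.Helper16.FlatBC

section Generic

variable {C : Type*} [Category C] [Preadditive C]

/-- conjugation by isomorphisms, additively -/
noncomputable def homAddEquivOfIso {X X' Y Y' : C} (e : X ≅ X') (e' : Y ≅ Y') :
    (X ⟶ Y) ≃+ (X' ⟶ Y') where
  toFun g := e.inv ≫ g ≫ e'.hom
  invFun g := e.hom ≫ g ≫ e'.inv
  left_inv g := by simp
  right_inv g := by simp
  map_add' a b := by simp [Preadditive.add_comp, Preadditive.comp_add]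

/-- a bijective post-composition map, additively -/
noncomputable def addEquivOfBijectiveComp {L X Y : C} (π : X ⟶ Y)
    (h : Function.Bijective (fun χ : L ⟶ X => χ ≫ π)) : (L ⟶ X) ≃+ (L ⟶ Y) :=
  AddEquiv.ofBijective
    (AddMonoidHom.mk' (fun χ : L ⟶ X => χ ≫ π) (fun a b => Preadditive.add_comp _ _ _ a b π)) h

end Generic

variable {A B : Type u} [CommRing A] [CommRing B] [Algebra A B]

lemma forall₂_res (fs : List A) :
    List.Forall₂ (fun (g : B) (f : A) => Nonempty (LocCompat (res (R := A) (R' := B)) g f))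
      (fs.map (algebraMap A B)) fs := by
  induction fs with
  | nil => exact List.Forall₂.nil
  | cons f fs ih => exact List.Forall₂.cons ⟨resCompat f⟩ ih

/-- `res ∘ ext` commutes with the Čech complex up to quasi-isomorphism -/
lemma exists_quasiIso_resExt_cechCx (K : DRing.Cx A) (fs : List A) :
    ∃ ρ : (DTen.resCx (algebraMap A B)).obj ((DTen.extCx (algebraMap A B)).obj (cechCx K fs)) ⟶
      cechCx ((DTen.resCx (algebraMap A B)).obj ((DTen.extCx (algebraMap A B)).obj K)) fs,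
      QuasiIso ρ := by
  obtain ⟨ρ1, h1⟩ := exists_quasiIso_cechCx K
    (Groth.Agent.Lib.Helper8.RGam.forall₂_extendScalars (algebraMap A B) fs)
  obtain ⟨ρ2, h2⟩ := exists_quasiIso_cechCx ((DTen.extCx (algebraMap A B)).obj K)
    (forall₂_res (B := B) fs)
  have h3 : QuasiIso ((DTen.resCx (algebraMap A B)).map ρ1) :=
    HomologicalComplex.quasiIso_map_of_preservesHomology _ _
  exact ⟨(DTen.resCx (algebraMap A B)).map ρ1 ≫ ρ2, quasiIso_comp _ _⟩

/-- the unit `C → res (ext C)` is a quasi-isomorphism on Čech complexes -/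
lemma quasiIso_unitCx_cechCx [Module.Flat A B] (I : Ideal A)
    (hs : Function.Surjective ((Ideal.Quotient.mk (I.map (algebraMap A B))).comp (algebraMap A B)))
    (hk : RingHom.ker ((Ideal.Quotient.mk (I.map (algebraMap A B))).comp (algebraMap A B)) = I)
    (fs : List A) (hfs : I = Ideal.span {y | y ∈ fs}) (K : DRing.Cx A) :
    QuasiIso ((DTen.unitCx (algebraMap A B)).app (cechCx K fs)) := by
  apply quasiIso_unitCx
  intro i
  apply isIso_ηRE
  apply ηB_bijective I hs hk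
  rw [hfs]
  exact isPowerTorsion_homology_cechCx K fs i

/-- **S1731** -/
theorem ext_baseChange (A B : Type u) [CommRing A] [CommRing B] [Algebra A B] [Module.Flat A B]
    (I : Ideal A) (hI : I.FG)
    (hs : Function.Surjective ((Ideal.Quotient.mk (I.map (algebraMap A B))).comp (algebraMap A B)))
    (hk : RingHom.ker ((Ideal.Quotient.mk (I.map (algebraMap A B))).comp (algebraMap A B)) = I)
    (M N : Type u) [AddCommGroup M] [Module A M] [AddCommGroup N] [Module A N]
    (hM : LocCoh.IsPowerTorsion I M) (i : ℤ) :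
    Nonempty ((Dual.inD A M ⟶ (Dual.inD A N)⟦i⟧) ≃+
      (Dual.inD B (B ⊗[A] M) ⟶ (Dual.inD B (B ⊗[A] N))⟦i⟧)) := by
  obtain ⟨s, hs'⟩ := hI
  have hfs : I = Ideal.span {y | y ∈ s.toList} := by
    rw [← hs']
    congr 1
    ext y
    simp
  generalize s.toList = fs at hfs
  let S₀ : DRing.Cx A :=
    (CochainComplex.singleFunctor (ModuleCat.{u} A) 0).obj (ModuleCat.of A N)
  let K : DRing.Cx A := S₀⟦i⟧
  let e0 : (Dual.inD A N)⟦i⟧ ≅ (Q.obj K : Dual.D A) :=
    (CategoryTheory.shiftFunctor (Dual.D A) i).mapIso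
      ((DerivedCategory.singleFunctorIsoCompQ (ModuleCat.{u} A) 0).app (ModuleCat.of A N)) ≪≫
      ((Q.commShiftIso i).app S₀).symm
  have hV : ∀ f ∈ fs, NoMapsToLoc f (Dual.inD A M) := by
    intro f hf
    refine noMapsToLoc_inD f M (fun m => ?_)
    obtain ⟨n, hn⟩ := hM m
    refine ⟨n, hn _ (Ideal.pow_mem_pow ?_ n)⟩
    rw [hfs]
    exact Ideal.subset_span (show f ∈ {y | y ∈ fs} from hf)
  let K' : DRing.Cx A :=
    (DTen.resCx (algebraMap A B)).obj ((DTen.extCx (algebraMap A B)).obj K)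
  obtain ⟨π, hπ⟩ := exists_bijective_comp_cechCx K (Dual.inD A M) fs hV
  obtain ⟨π', hπ'⟩ := exists_bijective_comp_cechCx K' (Dual.inD A M) fs hV
  have hb1 := quasiIso_unitCx_cechCx I hs hk fs hfs K
  obtain ⟨ρ, hρ⟩ := exists_quasiIso_resExt_cechCx (B := B) K fs
  haveI : IsIso (Q.map ((DTen.unitCx (algebraMap A B)).app (cechCx K fs)) :
      (Q.obj _ : Dual.D A) ⟶ _) := by
    rw [isIso_Q_map_iff_quasiIso]
    exact hb1
  haveI : IsIso (Q.map ρ : (Q.obj _ : Dual.D A) ⟶ _) := by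
    rw [isIso_Q_map_iff_quasiIso]
    exact hρ
  let j : (Q.obj (cechCx K fs) : Dual.D A) ≅ Q.obj (cechCx K' fs) :=
    asIso (Q.map ((DTen.unitCx (algebraMap A B)).app (cechCx K fs))) ≪≫ asIso (Q.map ρ)
  let E1 : (Dual.inD A M ⟶ (Dual.inD A N)⟦i⟧) ≃+ (Dual.inD A M ⟶ (Q.obj K : Dual.D A)) :=
    homAddEquivOfIso (Iso.refl _) e0
  let E2 : (Dual.inD A M ⟶ (Q.obj (cechCx K fs) : Dual.D A)) ≃+
      (Dual.inD A M ⟶ (Q.obj K : Dual.D A)) := addEquivOfBijectiveComp π hπ
  let E3 : (Dual.inD A M ⟶ (Q.obj (cechCx K fs) : Dual.D A)) ≃+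
      (Dual.inD A M ⟶ (Q.obj (cechCx K' fs) : Dual.D A)) := homAddEquivOfIso (Iso.refl _) j
  let E4 : (Dual.inD A M ⟶ (Q.obj (cechCx K' fs) : Dual.D A)) ≃+
      (Dual.inD A M ⟶ (Q.obj K' : Dual.D A)) := addEquivOfBijectiveComp π' hπ'
  let E5 : (Dual.inD A M ⟶ (Q.obj K' : Dual.D A)) ≃+
      (Dual.inD A M ⟶ (DRing.restrictD (algebraMap A B)).obj
        (Q.obj ((DTen.extCx (algebraMap A B)).obj K))) :=
    homAddEquivOfIso (Iso.refl _)
      ((DTen.resFactors (algebraMap A B)).app ((DTen.extCx (algebraMap A B)).obj K)).symm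
  let E6 : (Dual.inD A M ⟶ (DRing.restrictD (algebraMap A B)).obj
        (Q.obj ((DTen.extCx (algebraMap A B)).obj K))) ≃+
      ((ε (algebraMap A B)).obj (Dual.inD A M) ⟶
        (Q.obj ((DTen.extCx (algebraMap A B)).obj K) : Dual.D B)) :=
    (flatAdjEquiv (algebraMap A B) (Dual.inD A M)
      (Q.obj ((DTen.extCx (algebraMap A B)).obj K))).symm
  let eB : (Dual.inD B (B ⊗[A] N))⟦i⟧ ≅
      (Q.obj ((DTen.extCx (algebraMap A B)).obj K) : Dual.D B) :=
    (CategoryTheory.shiftFunctor (Dual.D B) i).mapIso (inDExtIso (B := B) N) ≪≫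
      (((ε (algebraMap A B)).commShiftIso i).app (Dual.inD A N)).symm ≪≫
      (ε (algebraMap A B)).mapIso e0 ≪≫ εQIso (algebraMap A B) K
  let E7 : ((ε (algebraMap A B)).obj (Dual.inD A M) ⟶
        (Q.obj ((DTen.extCx (algebraMap A B)).obj K) : Dual.D B)) ≃+
      (Dual.inD B (B ⊗[A] M) ⟶ (Dual.inD B (B ⊗[A] N))⟦i⟧) :=
    homAddEquivOfIso (inDExtIso (B := B) M).symm eB.symm
  exact ⟨E1.trans (E2.symm.trans (E3.trans (E4.trans (E5.trans (E6.trans E7)))))⟩

end Groth.Agent.Lib.Helper8.EBC
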