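import Mathlib
import Groth.Agent.Lib.Helper8.EFB19
import Groth.Agent.Lib.helper19.CompletionNoetherian

/-! # Helper8 — EFB21: base change of a dualizing complex to an adic completion of a noetherian ring is dualizing -/

set_option autoImplicit false

universe u

open CategoryTheory CategoryTheory.Limits DerivedCategory TensorProduct CategoryTheory.Pretriangulated

attribute [local instance] HasDerivedCategory.standard

namespace Groth.Agent.Lib.Helper8.EFB

open Groth.Agent.Lib.Helper16.FlatBC Groth.Agent.Lib.Helper8.EBC

section

variable {A B : Type u} [CommRing A] [CommRing B] [Algebra A B]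

/-- if `A → B/IB` is surjective and `IB` lies in the Jacobson radical, every maximal ideal of `B`
is extended from `A` -/
lemma maximal_extended_of_surjective_of_le_jacobson (I : Ideal A)
    (hs : Function.Surjective ((Ideal.Quotient.mk (I.map (algebraMap A B))).comp (algebraMap A B)))
    (hJ : I.map (algebraMap A B) ≤ (⊥ : Ideal B).jacobson) (n : Ideal B) [hn : n.IsMaximal] :
    ∃ m : Ideal A, m.map (algebraMap A B) = n := by
  refine ⟨n.comap (algebraMap A B), le_antisymm Ideal.map_comap_le ?_⟩
  have hIn : I.map (algebraMap A B) ≤ n := hJ.trans (sInf_le ⟨bot_le, hn⟩)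
  have hIc : I.map (algebraMap A B) ≤ (n.comap (algebraMap A B)).map (algebraMap A B) := by
    refine Ideal.map_mono ?_
    intro a ha
    exact hIn (Ideal.mem_map_of_mem _ ha)
  intro b hb
  obtain ⟨a, ha⟩ := hs (Ideal.Quotient.mk _ b)
  have h1 : algebraMap A B a - b ∈ I.map (algebraMap A B) := Ideal.Quotient.eq.1 ha
  have h2 : algebraMap A B a ∈ n := by
    have := n.add_mem (hIn h1) hb
    rwa [sub_add_cancel] at this
  have h3 : algebraMap A B a ∈ (n.comap (algebraMap A B)).map (algebraMap A B) :=
    Ideal.mem_map_of_mem _ (Ideal.mem_comap.2 h2)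
  have := Ideal.sub_mem _ h3 (hIc h1)
  rwa [sub_sub_cancel] at this

end

variable {A : Type u} [CommRing A] [IsNoetherianRing A]

/-- the base change of a dualizing complex to an adic completion is dualizing -/
theorem isDualizing_ε_adicCompletion (I : Ideal A) (ω : Dual.D A) (hω : Dual.IsDualizing A ω) :
    haveI : Module.Flat A (AdicCompletion I A) := AdicCompletion.flat_of_isNoetherian I
    Dual.IsDualizing (AdicCompletion I A)
      ((ε (algebraMap A (AdicCompletion I A))).obj ω) := by
  haveI : Module.Flat A (AdicCompletion I A) := AdicCompletion.flat_of_isNoetherian I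
  haveI : IsNoetherianRing (AdicCompletion I A) :=
    Groth.Agent.Lib.helper19.isNoetherianRing_adicCompletion A I
  have fg : I.FG := IsNoetherian.noetherian I
  refine isDualizing_ε_of_maximal_extended (fun n hn => ?_) ω hω
  refine maximal_extended_of_surjective_of_le_jacobson I ?_ ?_ n
  · intro y
    obtain ⟨x, rfl⟩ := Ideal.Quotient.mk_surjective y
    obtain ⟨a, ha⟩ := Ideal.Quotient.mk_surjective (AdicCompletion.evalOneₐ I x)
    refine ⟨a, ?_⟩
    rw [RingHom.comp_apply]
    apply Ideal.Quotient.eq.2
    rw [← AdicCompletion.ker_evalOneₐ_eq_map I fg, RingHom.mem_ker, map_sub]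
    have h1 : (AdicCompletion.evalOneₐ I).toRingHom (algebraMap A (AdicCompletion I A) a) =
        Ideal.Quotient.mk I a :=
      RingHom.congr_fun (AdicCompletion.evalOneₐ_comp_algebraMap_eq_mk I) a
    rw [h1, ha]
    exact sub_self _
  · haveI := AdicCompletion.isAdicComplete_self I fg
    exact IsAdicComplete.le_jacobson_bot _

end Groth.Agent.Lib.Helper8.EFB
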