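import Mathlib
import Groth.Agent.Lib.Helper8.End1

/-! # Helper8 — End2: under `(S_k)`, `k ≥ 2`, the truncation `X = τ_{≤ -n} ω` of a normalized
dualizing complex has `A ≃ End(X)`, and `Hom(X, X[1]) = 0` if `k ≥ 3` (`truncLT_end_of_hasSk`). -/

set_option autoImplicit false

universe u

open CategoryTheory CategoryTheory.Limits CategoryTheory.Pretriangulated Opposite DerivedCategory
open scoped TensorProduct

attribute [local instance] HasDerivedCategory.standard

namespace Groth.Agent.Lib.Helper8.Bidual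

open Groth.Agent.Lib.Helper8 Groth.Agent.Lib.Helper16.FlatBC
open Groth.Agent.Lib.Helper8.DTrunc Groth.Agent.Lib.Helper8.PAmp

section Local

variable {A : Type u} [CommRing A] [IsLocalRing A] [IsNoetherianRing A]

open Groth.Agent.Lib.Helper21.DepthKit

/-- the truncation `τ_{≤ -n} ω` of a normalized dualizing complex, under `(S_k)`, `k ≥ 2` -/
theorem truncLT_end_of_hasSk (ω : Dual.D A) (hω : Dual.IsDualizing A ω)
    (hn : Dual.IsNormalized A ω) (n : ℕ) (hd : ringKrullDim A = n) (k : ℕ) (hk : 2 ≤ k)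
    (hS : LocCoh.HasSk k A A) :
    Function.Bijective (fun a : A => a • 𝟙 ((tt.truncLT (-(n : ℤ) + 1)).obj ω)) ∧
    (3 ≤ k → Subsingleton ((tt.truncLT (-(n : ℤ) + 1)).obj ω ⟶
      ((tt.truncLT (-(n : ℤ) + 1)).obj ω)⟦(1 : ℤ)⟧)) := by
  have hEq := isEquidim_of_hasSk_two ω hω hn (hasSk_mono hk A hS)
  have hC := subsingleton_hom_truncGE_of_hasSk ω hω hn n hd k hS hEq
  set b : ℤ := -(n : ℤ) + 1 with hb
  have hT := tt.triangleLTGE_distinguished b ω
  have hT' := inv_rot_of_distTriang _ hT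
  have h1LE : ((tt.truncLT b).obj ω).IsLE (-(n : ℤ)) := by
    have : tt.IsLE ((tt.truncLT b).obj ω) (b - 1) := inferInstance
    have hbb : b - 1 = -(n : ℤ) := by omega
    rw [hbb] at this
    exact this
  have h3GE : ((tt.truncGE b).obj ω).IsGE b :=
    (inferInstance : tt.IsGE ((tt.truncGE b).obj ω) b)
  have h3GE' : (((tt.truncGE b).obj ω)⟦(-1 : ℤ)⟧).IsGE (b + 1) :=
    DerivedCategory.TStructure.t.isGE_shift _ b (-1) (b + 1) (by omega)
  set X1 := (tt.truncLT b).obj ω with hX1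
  set C := (tt.truncGE b).obj ω with hCdef
  let ι : X1 ⟶ ω := (tt.truncLTι b).app ω
  let π : ω ⟶ C := (tt.truncGEπ b).app ω
  -- vanishing of `Hom(C, ω)`, `Hom(C[-1], ω)`
  haveI hC0 : Subsingleton (C ⟶ ω) := by
    haveI := hC 0 (by exact_mod_cast (by omega : 0 < k))
    exact (Iso.homCongr (Iso.refl C) ((shiftFunctorZero (Dual.D A) ℤ).app ω)).symm.subsingleton
  haveI hC1 : Subsingleton (C⟦(-1 : ℤ)⟧ ⟶ ω) :=
    subsingleton_hom_shift_neg_one C ω (hC 1 (by exact_mod_cast (by omega : 1 < k)))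
  -- (II) `a ↦ a • ι` is bijective
  have hII : Function.Bijective (fun a : A => a • ι) := by
    constructor
    · intro a a' haa
      apply hω.toEnd_bijective.1
      change a • 𝟙 ω = a' • 𝟙 ω
      have h1 : ι ≫ ((a - a') • 𝟙 ω) = 0 := by
        rw [Linear.comp_smul, Category.comp_id, sub_smul]
        exact sub_eq_zero.2 haa
      obtain ⟨(g : C ⟶ ω), hg⟩ := Triangle.yoneda_exact₂ _ hT ((a - a') • 𝟙 ω) h1
      have hg0 : (a - a') • 𝟙 ω = 0 := by
        rw [hg, Subsingleton.elim g 0]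
        exact comp_zero
      rw [sub_smul] at hg0
      exact sub_eq_zero.1 hg0
    · intro f
      obtain ⟨(w : ω ⟶ ω), hw⟩ := Triangle.yoneda_exact₂ _ hT' f (hC1.elim _ _)
      obtain ⟨a, ha⟩ := hω.toEnd_bijective.2 w
      refine ⟨a, ?_⟩
      change a • ι = f
      rw [hw, ← ha]
      change a • ι = ι ≫ (a • 𝟙 ω)
      rw [Linear.comp_smul, Category.comp_id]
  -- (III) `g ↦ g ≫ ι` is bijective
  have hIII : Function.Bijective (fun g : X1 ⟶ X1 => g ≫ ι) := by
    constructor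
    · intro g g' hgg
      have h1 : (g - g') ≫ ι = 0 := by
        rw [Preadditive.sub_comp]
        exact sub_eq_zero.2 hgg
      obtain ⟨(h : X1 ⟶ C⟦(-1 : ℤ)⟧), hh⟩ := Triangle.coyoneda_exact₂ _ hT' (g - g') h1
      have h0 : h = 0 := DerivedCategory.TStructure.t.zero_of_isLE_of_isGE h (-(n : ℤ)) (b + 1)
        (by omega) h1LE h3GE'
      have hh0 : g - g' = 0 := by
        rw [hh, h0]
        exact zero_comp
      exact sub_eq_zero.1 hh0
    · intro f
      have h0 : f ≫ π = 0 := DerivedCategory.TStructure.t.zero_of_isLE_of_isGE _ (-(n : ℤ)) b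
        (by omega) h1LE h3GE
      obtain ⟨(g : X1 ⟶ X1), hg⟩ := Triangle.coyoneda_exact₂ _ hT f h0
      exact ⟨g, hg.symm⟩
  refine ⟨?_, fun hk3 => ?_⟩
  · have hcomp : (fun g : X1 ⟶ X1 => g ≫ ι) ∘ (fun a : A => a • 𝟙 X1) = fun a : A => a • ι := by
      funext a
      change (a • 𝟙 X1) ≫ ι = a • ι
      rw [Linear.smul_comp, Category.id_comp]
    have h1 : Function.Bijective ((fun g : X1 ⟶ X1 => g ≫ ι) ∘ (fun a : A => a • 𝟙 X1)) := by
      rw [hcomp]; exact hII
    exact (Function.Bijective.of_comp_iff' hIII _).1 h1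
  · -- `Hom(X1, ω[1]) = 0`
    have hC2 : Subsingleton (C⟦(-1 : ℤ)⟧ ⟶ ω⟦(1 : ℤ)⟧) := by
      apply subsingleton_hom_shift_neg_one
      haveI := hC 2 (by exact_mod_cast (by omega : 2 < k))
      exact (Iso.homCongr (Iso.refl C)
        ((shiftFunctorAdd' (Dual.D A) (1 : ℤ) 1 2 (by omega)).app ω)).symm.subsingleton
    have hX1ω : ∀ f : X1 ⟶ ω⟦(1 : ℤ)⟧, f = 0 := by
      intro f
      obtain ⟨(w : ω ⟶ ω⟦(1 : ℤ)⟧), hw⟩ := Triangle.yoneda_exact₂ _ hT' f (hC2.elim _ _)
      haveI := hω.ext_self_subsingleton 1 (by omega)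
      rw [hw, Subsingleton.elim w 0]
      exact comp_zero
    refine ⟨fun g g' => ?_⟩
    have hz : ∀ g : X1 ⟶ X1⟦(1 : ℤ)⟧, g = 0 := by
      intro g
      have h1 : g ≫ ι⟦(1 : ℤ)⟧' = 0 := hX1ω _
      obtain ⟨(h : X1 ⟶ C), hh⟩ := Triangle.coyoneda_exact₁ _ hT g h1
      have h0 : h = 0 := DerivedCategory.TStructure.t.zero_of_isLE_of_isGE h (-(n : ℤ)) b
        (by omega) h1LE h3GE
      rw [hh, h0]
      exact zero_comp
    rw [hz g, hz g']

end Local

end Groth.Agent.Lib.Helper8.Bidual
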