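import Mathlib
import Groth.Agent.Lib.Helper8.End2

/-! # Helper8 — End3: for a noetherian local `(S_2)` ring with normalized dualizing complex and
dualizing module `K = H^{-n}(ω)`, `A → End_A(K)` is bijective; under `(S_3)`, `Ext^1_A(K, K) = 0`
(S18719). -/

set_option autoImplicit false

universe u

open CategoryTheory CategoryTheory.Limits CategoryTheory.Pretriangulated Opposite DerivedCategory
open scoped TensorProduct

attribute [local instance] HasDerivedCategory.standard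

namespace Groth.Agent.Lib.Helper8.Bidual

open Groth.Agent.Lib.Helper8 Groth.Agent.Lib.Helper16.FlatBC
open Groth.Agent.Lib.Helper8.DTrunc Groth.Agent.Lib.Helper8.PAmp

section Local

variable {A : Type u} [CommRing A] [IsLocalRing A] [IsNoetherianRing A]

open Groth.Agent.Lib.Helper21.DepthKit

/-- `τ_{≤ -n} ω` is the dualizing module placed in degree `-n` -/
lemma nonempty_single_iso_truncLT (ω : Dual.D A) (hω : Dual.IsDualizing A ω)
    (hn : Dual.IsNormalized A ω) (n : ℕ) (hd : ringKrullDim A = n) :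
    Nonempty ((singleFunctor (ModuleCat.{u} A) (-(n : ℤ))).obj
      (ModuleCat.of A (Dual.HD A ω (-(n : ℤ)))) ≅ (tt.truncLT (-(n : ℤ) + 1)).obj ω) := by
  have hrange := HD_range_of_normalized ω hω hn n hd
  haveI hGE : ω.IsGE (-(n : ℤ)) := EFB.isGE_of_subsingleton ω _ (fun i hi => by
    by_contra hc
    rw [not_subsingleton_iff_nontrivial] at hc
    have := hrange i hc
    omega)
  set b : ℤ := -(n : ℤ) + 1 with hb
  have h1LE : ((tt.truncLT b).obj ω).IsLE (-(n : ℤ)) := by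
    have : tt.IsLE ((tt.truncLT b).obj ω) (b - 1) := inferInstance
    have hbb : b - 1 = -(n : ℤ) := by omega
    rw [hbb] at this
    exact this
  have h1GE : ((tt.truncLT b).obj ω).IsGE (-(n : ℤ)) := by
    refine (isGE_iff _ _).2 (fun i hi => ?_)
    have := mono_homologyMap_truncLTι ω b i (by omega)
    have hz : IsZero ((homologyFunctor (ModuleCat.{u} A) i).obj ω) :=
      isZero_of_isGE ω (-(n : ℤ)) i hi
    exact IsZero.of_mono_eq_zero ((homologyFunctor (ModuleCat.{u} A) i).map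
      ((tt.truncLTι b).app ω)) (hz.eq_of_tgt _ _)
  obtain ⟨M, ⟨e⟩⟩ := exists_iso_singleFunctor_obj_of_isGE_of_isLE ((tt.truncLT b).obj ω) (-(n : ℤ))
  haveI := isIso_homologyMap_truncLTι ω b (-(n : ℤ)) (by omega)
  let eM : (homologyFunctor (ModuleCat.{u} A) (-(n : ℤ))).obj ω ≅ M :=
    (asIso ((homologyFunctor (ModuleCat.{u} A) (-(n : ℤ))).map ((tt.truncLTι b).app ω))).symm ≪≫
      (homologyFunctor (ModuleCat.{u} A) (-(n : ℤ))).mapIso e ≪≫
        (singleFunctorCompHomologyFunctorIso (ModuleCat.{u} A) (-(n : ℤ))).app M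
  exact ⟨(singleFunctor (ModuleCat.{u} A) (-(n : ℤ))).mapIso eM ≪≫ e.symm⟩

/-- S18719 -/
theorem toEnd_dualizingModule_bijective_of_hasSk (ω : Dual.D A) (hω : Dual.IsDualizing A ω)
    (hn : Dual.IsNormalized A ω) (n : ℕ) (hd : ringKrullDim A = n) :
    (LocCoh.HasSk 2 A A →
      Function.Bijective (fun r : A => r • (LinearMap.id :
        Dual.HD A ω (-(n : ℤ)) →ₗ[A] Dual.HD A ω (-(n : ℤ))))) ∧
    (LocCoh.HasSk 3 A A →
      Subsingleton (Dual.inD A (Dual.HD A ω (-(n : ℤ))) ⟶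
        (Dual.inD A (Dual.HD A ω (-(n : ℤ))))⟦(1 : ℤ)⟧)) := by
  obtain ⟨e1⟩ := nonempty_single_iso_truncLT ω hω hn n hd
  set K := Dual.HD A ω (-(n : ℤ)) with hK
  set F := singleFunctor (ModuleCat.{u} A) (-(n : ℤ)) with hF
  set X1 := (tt.truncLT (-(n : ℤ) + 1)).obj ω with hX1
  constructor
  · intro hS
    obtain ⟨hbij, -⟩ := truncLT_end_of_hasSk ω hω hn n hd 2 le_rfl hS
    -- `F.map` of a scalar
    have hsc : ∀ r : A, F.map (ModuleCat.ofHom (r • (LinearMap.id : K →ₗ[A] K))) =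
        r • 𝟙 (F.obj (ModuleCat.of A K)) := by
      intro r
      have h1 : ModuleCat.ofHom (r • (LinearMap.id : K →ₗ[A] K)) = r • 𝟙 (ModuleCat.of A K) := rfl
      rw [h1, Functor.map_smul, CategoryTheory.Functor.map_id]
    have hconj : ∀ r : A, e1.inv ≫ (r • 𝟙 (F.obj (ModuleCat.of A K))) ≫ e1.hom = r • 𝟙 X1 := by
      intro r
      rw [Linear.smul_comp, Category.id_comp, Linear.comp_smul, Iso.inv_hom_id]
    constructor
    · intro r r' hrr
      apply hbij.1
      change r • 𝟙 X1 = r' • 𝟙 X1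
      rw [← hconj r, ← hconj r', ← hsc r, ← hsc r']
      have : r • (LinearMap.id : K →ₗ[A] K) = r' • LinearMap.id := hrr
      rw [this]
    · intro φ
      obtain ⟨a, ha⟩ := hbij.2 (e1.inv ≫ F.map (ModuleCat.ofHom φ) ≫ e1.hom)
      refine ⟨a, ?_⟩
      change a • 𝟙 X1 = _ at ha
      have h2 : F.map (ModuleCat.ofHom φ) = F.map (ModuleCat.ofHom (a • (LinearMap.id : K →ₗ[A] K))) := by
        rw [hsc a]
        have h3 : e1.hom ≫ (e1.inv ≫ F.map (ModuleCat.ofHom φ) ≫ e1.hom) ≫ e1.inv =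
            F.map (ModuleCat.ofHom φ) := by simp
        rw [← h3, ← ha, Linear.smul_comp, Category.id_comp, Linear.comp_smul, Iso.hom_inv_id]
      have h4 := F.map_injective h2
      have h5 := congrArg ModuleCat.Hom.hom h4
      exact h5.symm
  · intro hS
    obtain ⟨-, hsub⟩ := truncLT_end_of_hasSk ω hω hn n hd 3 (by norm_num) hS
    haveI := hsub le_rfl
    let jj : (Dual.inD A K)⟦(n : ℤ)⟧ ≅ F.obj (ModuleCat.of A K) :=
      ((DerivedCategory.singleFunctors (ModuleCat.{u} A)).shiftIso (n : ℤ) (-(n : ℤ)) 0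
        (by omega)).app (ModuleCat.of A K)
    let j2 : (Dual.inD A K)⟦(n : ℤ)⟧ ≅ X1 := jj ≪≫ e1
    have e3 : (Dual.inD A K ⟶ (Dual.inD A K)⟦(1 : ℤ)⟧) ≃
        ((Dual.inD A K)⟦(n : ℤ)⟧ ⟶ ((Dual.inD A K)⟦(1 : ℤ)⟧)⟦(n : ℤ)⟧) :=
      (EFB.shiftEquivLin (n : ℤ) _ _).toEquiv
    have e4 := Iso.homCongr (Iso.refl ((Dual.inD A K)⟦(n : ℤ)⟧))
      (shiftComm (Dual.inD A K) (1 : ℤ) (n : ℤ))
    have e5 := Iso.homCongr j2 ((shiftFunctor (Dual.D A) (1 : ℤ)).mapIso j2)
    exact @Equiv.subsingleton _ _ ((e3.trans e4).trans e5) inferInstance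

end Local

end Groth.Agent.Lib.Helper8.Bidual
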