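import Mathlib
import Groth.Prelude.Def_WeakSerre

/-!
# Helper8 — essential image of a weak Serre class under a fully faithful right adjoint
(abstract part of S9071)
-/

set_option autoImplicit false
set_option linter.unusedSectionVars false

universe v₁ v₂ u₁ u₂

open CategoryTheory CategoryTheory.Limits

namespace Groth.Agent.Lib.Helper8.EpsAb

section General

variable {𝒜 : Type u₁} [Category.{v₁} 𝒜] {ℬ : Type u₂} [Category.{v₂} ℬ]
  {L : 𝒜 ⥤ ℬ} {Rr : ℬ ⥤ 𝒜} (adj : L ⊣ Rr) [Rr.Full] [Rr.Faithful]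
  (A : ObjectProperty ℬ)

include adj in
lemma isIso_unit (F' : 𝒜) (h : A.map Rr F') : IsIso (adj.unit.app F') := by
  obtain ⟨F, _, ⟨e⟩⟩ := h
  exact adj.isIso_unit_app_of_iso e.symm

include adj in
lemma h2a [A.IsClosedUnderIsomorphisms] (F' : 𝒜) (h : A.map Rr F') : A (L.obj F') := by
  obtain ⟨F, hF, ⟨e⟩⟩ := h
  exact A.prop_of_iso ((asIso (adj.counit.app F)).symm ≪≫ L.mapIso e) hF

include adj in
lemma bijective_map_of_isIso_unit (F' G' : 𝒜) [IsIso (adj.unit.app G')] :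
    Function.Bijective (fun φ : F' ⟶ G' => L.map φ) := by
  constructor
  · intro φ ψ hφψ
    have hφψ' : L.map φ = L.map ψ := hφψ
    have n1 := adj.unit.naturality φ
    have n2 := adj.unit.naturality ψ
    simp only [Functor.id_obj, Functor.id_map, Functor.comp_obj, Functor.comp_map] at n1 n2
    rw [hφψ'] at n1
    rw [← cancel_mono (adj.unit.app G'), n1, n2]
  · intro χ
    refine ⟨adj.unit.app F' ≫ Rr.map χ ≫ inv (adj.unit.app G'), ?_⟩
    apply (adj.homEquiv F' (L.obj G')).injective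
    change adj.homEquiv _ _ (L.map _) = _
    rw [Adjunction.homEquiv_unit, Adjunction.homEquiv_unit]
    have n1 := adj.unit.naturality (adj.unit.app F' ≫ Rr.map χ ≫ inv (adj.unit.app G'))
    simp only [Functor.id_obj, Functor.id_map, Functor.comp_obj, Functor.comp_map] at n1
    rw [← n1]
    simp

include adj in
lemma h2b (F' G' : 𝒜) (_ : A.map Rr F') (hG : A.map Rr G') :
    Function.Bijective (fun φ : F' ⟶ G' => L.map φ) := by
  haveI := isIso_unit adj A G' hG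
  exact bijective_map_of_isIso_unit adj F' G'

include adj in
lemma h2c (F : ℬ) (hF : A F) : ∃ F' : 𝒜, A.map Rr F' ∧ Nonempty (L.obj F' ≅ F) :=
  ⟨Rr.obj F, A.prop_map_obj Rr hF, ⟨asIso (adj.counit.app F)⟩⟩

end General

section Abelian

variable {𝒜 : Type u₁} [Category.{v₁} 𝒜] [Abelian 𝒜] {ℬ : Type u₂} [Category.{v₂} ℬ] [Abelian ℬ]
  {L : 𝒜 ⥤ ℬ} {Rr : ℬ ⥤ 𝒜} (adj : L ⊣ Rr) [Rr.Full] [Rr.Faithful]
  [L.Additive] [Rr.Additive] [PreservesFiniteLimits L]
  (A : ObjectProperty ℬ) [WSerre.IsWeakSerre A]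
  (hepi : ∀ S : ShortComplex ℬ, S.ShortExact → A S.X₁ → A S.X₂ → A S.X₃ → Epi (Rr.map S.g))

include adj in
lemma preservesFiniteLimits_right : PreservesFiniteLimits Rr := by
  haveI := adj.rightAdjoint_preservesLimits
  infer_instance

include adj hepi in
lemma shortExact_map (S : ShortComplex ℬ) (hS : S.ShortExact) (h1 : A S.X₁) (h2 : A S.X₂)
    (h3 : A S.X₃) : (S.map Rr).ShortExact := by
  haveI := preservesFiniteLimits_right adj
  have h := (Functor.preservesFiniteLimits_iff_forall_exact_map_and_mono Rr).1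
    (inferInstance : PreservesFiniteLimits Rr) S hS
  haveI := h.2
  haveI : Epi (S.map Rr).g := hepi S hS h1 h2 h3
  exact ShortComplex.ShortExact.mk' h.1 h.2 inferInstance

include adj hepi in
lemma preservesFiniteColimits_ι_comp : PreservesFiniteColimits (A.ι ⋙ Rr) := by
  refine ((Functor.preservesFiniteColimits_tfae (A.ι ⋙ Rr)).out 0 3).1 ?_
  intro S hS
  have hS' : (S.map A.ι).ShortExact := hS.map_of_exact A.ι
  have := shortExact_map adj A hepi (S.map A.ι) hS' S.X₁.property S.X₂.property S.X₃.property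
  exact ⟨this.exact, this.epi_g⟩

include adj hepi in
theorem isWeakSerre_map : WSerre.IsWeakSerre (A.map Rr) := by
  haveI := preservesFiniteLimits_right adj
  haveI := preservesFiniteColimits_ι_comp adj A hepi
  haveI : PreservesFiniteColimits L := by
    haveI := adj.leftAdjoint_preservesColimits
    infer_instance
  refine @WSerre.IsWeakSerre.mk _ _ _ _ ⟨?_⟩ ⟨?_⟩ ⟨?_⟩ ⟨?_⟩
  · obtain ⟨Z, hZ, hAZ⟩ := A.exists_prop_of_containsZero
    exact ⟨Rr.obj Z, Rr.map_isZero hZ, A.prop_map_obj Rr hAZ⟩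
  · rintro _ ⟨f, k, hk, ⟨⟨X0, hX0, ⟨e₁⟩⟩, ⟨Y0, hY0, ⟨e₂⟩⟩⟩⟩
    obtain ⟨f0, hf0⟩ := Rr.map_surjective (e₁.hom ≫ f ≫ e₂.inv)
    refine ⟨kernel f0, A.prop_kernel f0 hX0 hY0, ⟨?_⟩⟩
    refine PreservesKernel.iso Rr f0 ≪≫ ?_ ≪≫
      (IsLimit.conePointUniqueUpToIso hk (kernelIsKernel f)).symm
    exact kernel.mapIso (Rr.map f0) f e₁ e₂ (by rw [hf0]; simp)
  · rintro _ ⟨f, k, hk, ⟨⟨X0, hX0, ⟨e₁⟩⟩, ⟨Y0, hY0, ⟨e₂⟩⟩⟩⟩
    obtain ⟨f0, hf0⟩ := Rr.map_surjective (e₁.hom ≫ f ≫ e₂.inv)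
    let X0' : A.FullSubcategory := ⟨X0, hX0⟩
    let Y0' : A.FullSubcategory := ⟨Y0, hY0⟩
    let f0' : X0' ⟶ Y0' := ObjectProperty.homMk f0
    refine ⟨(cokernel f0').obj, (cokernel f0').property, ⟨?_⟩⟩
    refine PreservesCokernel.iso (A.ι ⋙ Rr) f0' ≪≫ ?_ ≪≫
      (IsColimit.coconePointUniqueUpToIso hk (cokernelIsCokernel f)).symm
    exact cokernel.mapIso ((A.ι ⋙ Rr).map f0') f e₁ e₂ (by
      change Rr.map f0 ≫ _ = _
      rw [hf0]; simp)
  · intro S hS h1 h3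
    have hS' : (S.map L).ShortExact := hS.map_of_exact L
    have hA1 : A (S.map L).X₁ := h2a adj A _ h1
    have hA3 : A (S.map L).X₃ := h2a adj A _ h3
    have hA2 : A (S.map L).X₂ := A.prop_X₂_of_shortExact hS' hA1 hA3
    have hS'' := shortExact_map adj A hepi (S.map L) hS' hA1 hA2 hA3
    let φ : S ⟶ (S.map L).map Rr :=
      { τ₁ := adj.unit.app S.X₁
        τ₂ := adj.unit.app S.X₂
        τ₃ := adj.unit.app S.X₃
        comm₁₂ := (adj.unit.naturality S.f).symm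
        comm₂₃ := (adj.unit.naturality S.g).symm }
    haveI : IsIso φ.τ₁ := isIso_unit adj A _ h1
    haveI : IsIso φ.τ₃ := isIso_unit adj A _ h3
    have : IsIso φ.τ₂ := ShortComplex.isIso₂_of_shortExact_of_isIso₁₃ φ hS hS''
    exact ⟨L.obj S.X₂, hA2, ⟨(asIso φ.τ₂).symm⟩⟩

end Abelian

end Groth.Agent.Lib.Helper8.EpsAb
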