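import Groth.Prelude.Def_CohCx
import Groth.Prelude.Def_WeakSerre
import Groth.Agent.Lib.Helper8.RlimTrC
import Groth.Agent.Lib.Helper8.WSerreDev1

/-!
# Helper8 — vanishing of `Hom(P[0], X[m])` from bounded `Ext`-dimension and a window of
vanishing cohomology; eventually constant towers
-/

universe w' w u

open CategoryTheory CategoryTheory.Limits Pretriangulated DerivedCategory

namespace Groth.Agent.Lib.Helper8.HomVanish

open Groth.Agent.Lib.Helper8.DTrunc Groth.Agent.Lib.Helper8.RlimTrA Groth.Agent.Lib.Helper8.RlimTrB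
  Groth.Agent.Lib.Helper8.RlimTrC

variable {A : Type (u + 1)} [Category.{u} A] [Abelian A] [HasDerivedCategory.{w} A]
  [HasExt.{w'} A]

omit [HasDerivedCategory.{w} A] in
lemma ext_subsingleton_of_isZero {X Y : A} (hY : IsZero Y) (k : ℕ) :
    Subsingleton (Abelian.Ext.{w'} X Y k) := by
  have h : ∀ α : Abelian.Ext.{w'} X Y k, α = 0 := fun α => by
    rw [← Abelian.Ext.comp_mk₀_id α, hY.eq_of_src (𝟙 Y) 0, Abelian.Ext.mk₀_zero,
      Abelian.Ext.comp_zero]
  exact ⟨fun a b => by rw [h a, h b]⟩

variable (P : A) (Pp : ObjectProperty A) [Pp.ContainsZero] [Pp.IsClosedUnderIsomorphisms] (d : ℕ)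
  (hExt : ∀ F : A, Pp F → ∀ k : ℕ, d < k → Subsingleton (Abelian.Ext.{w'} P F k))

include hExt in
omit [Pp.ContainsZero] [Pp.IsClosedUnderIsomorphisms] in
/-- objects concentrated in one degree -/
lemma hom_subsingleton_single (m b : ℤ) (Z : DerivedCategory A) [Z.IsGE b] [Z.IsLE b]
    (hPp : Pp ((homologyFunctor A b).obj Z))
    (hz : m - d ≤ b → IsZero ((homologyFunctor A b).obj Z)) :
    Subsingleton ((singleFunctor A 0).obj P ⟶ Z⟦m⟧) := by
  by_cases hmb : m < b
  · exact subsingleton_hom_shift_of_lt P Z b m hmb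
  · obtain ⟨k, hk⟩ := Int.eq_ofNat_of_zero_le (show 0 ≤ m - b by omega)
    refine subsingleton_hom_shift_of_ext P Z b m _ (Iso.refl _) k hk.symm ?_
    by_cases hdk : d < k
    · exact hExt _ hPp k hdk
    · exact ext_subsingleton_of_isZero (hz (by omega)) k

include hExt in
/-- bounded objects -/
theorem hom_subsingleton_bdd (m : ℤ) (n : ℕ) : ∀ (b : ℤ) (Z : DerivedCategory A) [Z.IsGE b]
    [Z.IsLE (b + n)], (∀ q, Pp ((homologyFunctor A q).obj Z)) →
    (∀ q, m - d ≤ q → IsZero ((homologyFunctor A q).obj Z)) →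
    Subsingleton ((singleFunctor A 0).obj P ⟶ Z⟦m⟧) := by
  induction n with
  | zero =>
    intro b Z _ hle hPp hz
    haveI : Z.IsLE b := tt.isLE_of_le Z (b + (0 : ℕ)) b (by simp)
    exact hom_subsingleton_single P Pp d hExt m b Z (hPp b) (hz b)
  | succ n ih =>
    intro b Z _ hle hPp hz
    have hT := tt.triangleLTGE_distinguished (b + 1) Z
    -- the bottom piece
    have h1 : Subsingleton ((singleFunctor A 0).obj P ⟶ ((tt.truncLT (b + 1)).obj Z)⟦m⟧) := by
      haveI : tt.IsLE ((tt.truncLT (b + 1)).obj Z) b := inferInstance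
      haveI : tt.IsGE ((tt.truncLT (b + 1)).obj Z) b := inferInstance
      have hi := isIso_homologyMap_truncLTι Z (b + 1) b (by omega)
      let e := asIso ((homologyFunctor A b).map ((tt.truncLTι (b + 1)).app Z))
      exact hom_subsingleton_single P Pp d hExt m b _ (Pp.prop_of_iso e.symm (hPp b))
        (fun hb => (hz b hb).of_iso e)
    -- the top piece
    have h2 : Subsingleton ((singleFunctor A 0).obj P ⟶ ((tt.truncGE (b + 1)).obj Z)⟦m⟧) := by
      haveI : tt.IsGE ((tt.truncGE (b + 1)).obj Z) (b + 1) := inferInstance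
      haveI : tt.IsLE ((tt.truncGE (b + 1)).obj Z) (b + 1 + n) := by
        haveI : tt.IsLE Z (b + 1 + n) := tt.isLE_of_le Z (b + ((n + 1 : ℕ) : ℤ)) _
          (by push_cast; omega)
        infer_instance
      have key : ∀ q, b + 1 ≤ q → Nonempty ((homologyFunctor A q).obj Z ≅
          (homologyFunctor A q).obj ((tt.truncGE (b + 1)).obj Z)) := fun q hq => by
        have hi := isIso_homologyMap_truncGEπ Z (b + 1) q hq
        exact ⟨asIso ((homologyFunctor A q).map ((tt.truncGEπ (b + 1)).app Z))⟩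
      refine ih (b + 1) _ (fun q => ?_) (fun q hq => ?_)
      · by_cases hq : b + 1 ≤ q
        · obtain ⟨e⟩ := key q hq
          exact Pp.prop_of_iso e (hPp q)
        · exact Pp.prop_of_isZero (isZero_of_isGE _ (b + 1) q (by omega))
      · by_cases hq' : b + 1 ≤ q
        · obtain ⟨e⟩ := key q hq'
          exact (hz q hq).of_iso e.symm
        · exact isZero_of_isGE _ (b + 1) q (by omega)
    refine ⟨fun f g => ?_⟩
    have hf : ∀ f : (singleFunctor A 0).obj P ⟶ Z⟦m⟧, f = 0 := by
      intro f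
      have h0 : f ≫ ((tt.triangleLTGE (b + 1)).obj Z).mor₂⟦m⟧' = 0 := h2.elim _ _
      obtain ⟨g, hg⟩ := MilnorTri.exact₂ _ hT m f h0
      rw [hg, h1.elim g 0]
      exact zero_comp
    rw [hf f, hf g]

include hExt in
/-- bounded below objects with a window of vanishing cohomology -/
theorem hom_subsingleton_plus (m : ℤ) (X : DerivedCategory A) (b : ℤ) [X.IsGE b]
    (hPp : ∀ q, Pp ((homologyFunctor A q).obj X))
    (hz : ∀ q, m - d ≤ q → q ≤ m → IsZero ((homologyFunctor A q).obj X)) :
    Subsingleton ((singleFunctor A 0).obj P ⟶ X⟦m⟧) := by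
  have hT := tt.triangleLTGE_distinguished (m + 1) X
  have h1 : Subsingleton ((singleFunctor A 0).obj P ⟶ ((tt.truncLT (m + 1)).obj X)⟦m⟧) := by
    haveI : tt.IsGE ((tt.truncLT (m + 1)).obj X) b := inferInstance
    haveI : tt.IsLE ((tt.truncLT (m + 1)).obj X) m := inferInstance
    haveI : tt.IsLE ((tt.truncLT (m + 1)).obj X) (b + ((m - b).toNat : ℕ)) :=
      tt.isLE_of_le _ m _ (by omega)
    have key : ∀ q, q < m + 1 → Nonempty ((homologyFunctor A q).obj ((tt.truncLT (m + 1)).obj X) ≅
        (homologyFunctor A q).obj X) := fun q hq => by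
      have hi := isIso_homologyMap_truncLTι X (m + 1) q hq
      exact ⟨asIso ((homologyFunctor A q).map ((tt.truncLTι (m + 1)).app X))⟩
    refine hom_subsingleton_bdd P Pp d hExt m (m - b).toNat b _ (fun q => ?_) (fun q hq => ?_)
    · by_cases hq : q < m + 1
      · obtain ⟨e⟩ := key q hq
        exact Pp.prop_of_iso e.symm (hPp q)
      · exact Pp.prop_of_isZero (isZero_of_isLE _ m q (by omega))
    · by_cases hq' : q < m + 1
      · obtain ⟨e⟩ := key q hq'
        exact (hz q hq (by omega)).of_iso e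
      · exact isZero_of_isLE _ m q (by omega)
  have h2 : Subsingleton ((singleFunctor A 0).obj P ⟶ ((tt.truncGE (m + 1)).obj X)⟦m⟧) :=
    subsingleton_hom_shift_of_lt P _ (m + 1) m (by omega)
  have hf : ∀ f : (singleFunctor A 0).obj P ⟶ X⟦m⟧, f = 0 := by
    intro f
    have h0 : f ≫ ((tt.triangleLTGE (m + 1)).obj X).mor₂⟦m⟧' = 0 := h2.elim _ _
    obtain ⟨g, hg⟩ := MilnorTri.exact₂ _ hT m f h0
    rw [hg, h1.elim g 0]
    exact zero_comp
  exact ⟨fun f g => by rw [hf f, hf g]⟩


section Cone

open Groth.Agent.Lib.Helper8.WSerreDev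

omit [HasExt.{w'} A] [Pp.ContainsZero] in
lemma cohIn_shift_one (X : DerivedCategory A) (h : WSerre.cohIn Pp X) :
    WSerre.cohIn Pp (X⟦(1 : ℤ)⟧) := fun q =>
  Pp.prop_of_iso (((homologyFunctor A 0).shiftIso 1 q (q + 1) (by omega)).app X).symm (h (q + 1))

variable [WSerre.IsWeakSerre Pp]

include hExt in
omit [Pp.ContainsZero] [Pp.IsClosedUnderIsomorphisms] in
/-- a map in `D^+_A` which is an isomorphism on a window of cohomology sheaves induces a
bijection on `Hom(P[0], -[m])` -/
theorem bij_of_window {X Y : DerivedCategory A} (f : X ⟶ Y) (hX : WSerre.cohInPlus Pp X)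
    (hY : WSerre.cohInPlus Pp Y) (m : ℤ)
    (hiso : ∀ q, m - d - 1 ≤ q → q ≤ m + 1 → IsIso ((homologyFunctor A q).map f)) :
    Function.Injective (Preadditive.rightComp ((singleFunctor A 0).obj P)
      ((shiftFunctor _ m).map f)) ∧
    Function.Surjective (Preadditive.rightComp ((singleFunctor A 0).obj P)
      ((shiftFunctor _ m).map f)) := by
  obtain ⟨Z, g, h, hT⟩ := distinguished_cocone_triangle f
  obtain ⟨hXc, bX, hbX⟩ := hX
  obtain ⟨hYc, bY, hbY⟩ := hY
  haveI : X.IsGE bX := hbX
  haveI : Y.IsGE bY := hbY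
  have hZge : Z.IsGE (min bX bY - 1) := by
    refine tt.isGE₂ _ (rot_of_distTriang _ hT) (min bX bY - 1) ?_ ?_
    · exact tt.isGE_of_ge Y (min bX bY - 1) bY (by have := min_le_right bX bY; omega)
    · haveI : tt.IsGE (X⟦(1 : ℤ)⟧) (bX - 1) := tt.isGE_shift X bX 1 (bX - 1) (by omega)
      exact tt.isGE_of_ge (X⟦(1 : ℤ)⟧) (min bX bY - 1) (bX - 1)
        (by have := min_le_left bX bY; omega)
  have hZc : WSerre.cohIn Pp Z :=
    cohIn_ext Pp _ (rot_of_distTriang _ hT) hYc (cohIn_shift_one Pp X hXc)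
  have hz : ∀ q, m - d - 1 ≤ q → q ≤ m → IsZero ((homologyFunctor A q).obj Z) := by
    intro q h1 h2
    have i1 : IsIso ((homologyFunctor A q).map f) := hiso q h1 (by omega)
    have i2 : IsIso ((homologyFunctor A (q + 1)).map f) := hiso (q + 1) (by omega) (by omega)
    have i1' : Epi ((homologyFunctor A q).map (Triangle.mk f g h).mor₁) :=
      (inferInstance : Epi ((homologyFunctor A q).map f))
    have i2' : Mono ((homologyFunctor A (q + 1)).map (Triangle.mk f g h).mor₁) :=
      (inferInstance : Mono ((homologyFunctor A (q + 1)).map f))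
    have e1 : (homologyFunctor A q).map g = 0 :=
      (HomologySequence.epi_homologyMap_mor₁_iff _ hT q).1 i1'
    have e2 : HomologySequence.δ _ q (q + 1) rfl = 0 :=
      (HomologySequence.mono_homologyMap_mor₁_iff _ hT q (q + 1) rfl).1 i2'
    exact (HomologySequence.exact₃ _ hT q (q + 1) rfl).isZero_of_both_zeros e1 e2
  haveI := hZge
  constructor
  · have h1 : Subsingleton ((singleFunctor A 0).obj P ⟶ Z⟦m - 1⟧) :=
      hom_subsingleton_plus P Pp d hExt (m - 1) Z (min bX bY - 1) hZc
        (fun q h1 h2 => hz q (by omega) (by omega))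
    have h2 : Subsingleton ((singleFunctor A 0).obj P ⟶ (Z⟦(-1 : ℤ)⟧)⟦m⟧) := by
      let ψ : Z⟦m - 1⟧ ≅ (Z⟦(-1 : ℤ)⟧)⟦m⟧ :=
        (shiftFunctorAdd' (DerivedCategory A) (-1) m (m - 1) (by omega)).app Z
      refine ⟨fun x y => ?_⟩
      have := h1.elim (x ≫ ψ.inv) (y ≫ ψ.inv)
      exact (cancel_mono ψ.inv).1 this
    exact injective_of_subsingleton _ (inv_rot_of_distTriang _ hT) m _ h2
  · have h1 : Subsingleton ((singleFunctor A 0).obj P ⟶ Z⟦m⟧) :=
      hom_subsingleton_plus P Pp d hExt m Z (min bX bY - 1) hZc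
        (fun q h1 h2 => hz q (by omega) h2)
    intro y
    have h0 : y ≫ (Triangle.mk f g h).mor₂⟦m⟧' = 0 := h1.elim _ _
    obtain ⟨x, hx⟩ := MilnorTri.exact₂ _ hT m y h0
    exact ⟨x, hx.symm⟩

include hExt in
omit [Pp.ContainsZero] [Pp.IsClosedUnderIsomorphisms] in
/-- consequences for a tower in `D^+_A` which is eventually constant on a window -/
theorem tower_evconst (K : ℕ → DerivedCategory A) (t : ∀ n, K (n + 1) ⟶ K n)
    (hK : ∀ n, WSerre.cohInPlus Pp (K n)) (j : ℤ) (N : ℕ)
    (hN : ∀ n, N ≤ n → ∀ q, j - d - 2 ≤ q → q ≤ j + 1 →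
      IsIso ((homologyFunctor A q).map (t n))) :
    CohCx.LimOneIsZero (fun n => ((singleFunctor A 0).obj P ⟶ (K n)⟦j - 1⟧))
        (fun n => Preadditive.rightComp _ ((shiftFunctor _ (j - 1)).map (t n))) ∧
      (∀ nV : ℕ, N ≤ nV → ∀ k : ℕ, Function.Injective
        (Preadditive.rightComp ((singleFunctor A 0).obj P)
          ((shiftFunctor _ j).map (CohCx.transition K t nV k)))) ∧
      (∀ n : ℕ, N ≤ n → Function.Surjective
        (Preadditive.rightComp ((singleFunctor A 0).obj P) ((shiftFunctor _ j).map (t n)))) := by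
  have hbij : ∀ n, N ≤ n → ∀ m, j - 1 ≤ m → m ≤ j →
      Function.Injective (Preadditive.rightComp ((singleFunctor A 0).obj P)
        ((shiftFunctor _ m).map (t n))) ∧
      Function.Surjective (Preadditive.rightComp ((singleFunctor A 0).obj P)
        ((shiftFunctor _ m).map (t n))) := fun n hn m h1 h2 =>
    bij_of_window P Pp d hExt (t n) (hK (n + 1)) (hK n) m
      (fun q hq1 hq2 => hN n hn q (by omega) (by omega))
  refine ⟨?_, ?_, fun n hn => (hbij n hn j (by omega) le_rfl).2⟩
  · apply limOne_of_eventually_surj N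
    intro n hn
    exact (hbij n hn (j - 1) le_rfl (by omega)).2
  · intro nV hnV k
    induction k with
    | zero =>
      intro x y hxy
      have h1 : ∀ x : (singleFunctor A 0).obj P ⟶ (K (nV + 0))⟦j⟧,
          Preadditive.rightComp ((singleFunctor A 0).obj P) ((shiftFunctor _ j).map
            (CohCx.transition K t nV 0)) x = x := by
        intro x
        change x ≫ (shiftFunctor _ j).map (𝟙 _) = x
        rw [CategoryTheory.Functor.map_id]
        exact Category.comp_id _
      rw [h1, h1] at hxy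
      exact hxy
    | succ k ih =>
      intro x y hxy
      have h1 : ∀ x : (singleFunctor A 0).obj P ⟶ (K (nV + (k + 1)))⟦j⟧,
          Preadditive.rightComp ((singleFunctor A 0).obj P) ((shiftFunctor _ j).map
            (CohCx.transition K t nV (k + 1))) x =
          Preadditive.rightComp ((singleFunctor A 0).obj P) ((shiftFunctor _ j).map
            (CohCx.transition K t nV k))
            (Preadditive.rightComp ((singleFunctor A 0).obj P) ((shiftFunctor _ j).map
              (t (nV + k))) x) := by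
        intro x
        change x ≫ (shiftFunctor _ j).map (t (nV + k) ≫ CohCx.transition K t nV k) =
          (x ≫ (shiftFunctor _ j).map (t (nV + k))) ≫ _
        rw [Functor.map_comp, Category.assoc]
      rw [h1, h1] at hxy
      exact (hbij (nV + k) (by omega) j (by omega) le_rfl).1 (ih hxy)

end Cone

end Groth.Agent.Lib.Helper8.HomVanish
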