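import Groth.Prelude.Def_ModSite
import Groth.Prelude.Def_WeakSerre
import Groth.Prelude.Def_CohCx
import Groth.Agent.Lib.Helper8.HomVanish
import Groth.Agent.Lib.Helper8.RlimTrM

/-!
# Helper8 — `H^j(R lim K_n) = H^j(K_n)` for eventually constant towers in `D^+_A(O)` (S9064)
-/

universe w u

open CategoryTheory CategoryTheory.Limits Pretriangulated DerivedCategory Opposite

namespace Groth.Agent.Lib.Helper8.ModEvConst

open Groth.Agent.Lib.Helper8.DTrunc Groth.Agent.Lib.Helper8.RlimTrA Groth.Agent.Lib.Helper8.RlimTrB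
  Groth.Agent.Lib.Helper8.RlimTrC Groth.Agent.Lib.Helper8.ModHDU Groth.Agent.Lib.Helper8.HomVanish

variable {C : Type u} [SmallCategory C] {J : GrothendieckTopology C}
  (O : Sheaf J CommRingCat.{u}) [HasDerivedCategory.{w} (ModSite.Mod O)]

omit [HasDerivedCategory.{w} (ModSite.Mod O)] in
/-- epimorphisms of sheaves of modules from local surjectivity on sections -/
lemma epi_of_locally_surjective {F G : ModSite.Mod O} (φ : F ⟶ G)
    (h : ∀ (U : C) (s : G.val.obj (op U)), ∃ R ∈ J U, ∀ ⦃W : C⦄ (g : W ⟶ U), R.arrows g →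
      ∃ s' : F.val.obj (op W), φ.val.app (op W) s' = G.val.map g.op s) : Epi φ := by
  haveI : Sheaf.IsLocallySurjective ((SheafOfModules.toSheaf (ModSite.ringSh O)).map φ) :=
    ⟨fun {U} s => by
      obtain ⟨R, hR, hRf⟩ := h U s
      refine J.superset_covering ?_ hR
      intro W g hg
      obtain ⟨s', hs'⟩ := hRf g hg
      exact ⟨s', hs'⟩⟩
  haveI : Epi ((SheafOfModules.toSheaf (ModSite.ringSh O)).map φ) :=
    (Sheaf.isLocallySurjective_iff_epi' _ _).1 inferInstance
  exact (SheafOfModules.toSheaf (ModSite.ringSh O)).epi_of_epi_map inferInstance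

variable (K : ℕ → DerivedCategory (ModSite.Mod O)) (t : ∀ n, K (n + 1) ⟶ K n)

omit [HasDerivedCategory.{w} (ModSite.Mod O)] in
lemma isIso_H_transition' {A : Type (u + 1)} [Category.{u} A] [Abelian A]
    [HasDerivedCategory.{w} A] (K : ℕ → DerivedCategory A) (t : ∀ n, K (n + 1) ⟶ K n)
    (j : ℤ) (n₀ : ℕ)
    (h : ∀ n, n₀ ≤ n → IsIso ((homologyFunctor A j).map (t n))) (n : ℕ) (hn : n₀ ≤ n) (k : ℕ) :
    IsIso ((homologyFunctor A j).map (CohCx.transition K t n k)) := by
  induction k with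
  | zero =>
    change IsIso ((homologyFunctor _ j).map (𝟙 _))
    infer_instance
  | succ k ih =>
    change IsIso ((homologyFunctor _ j).map (t (n + k) ≫ CohCx.transition K t n k))
    rw [Functor.map_comp]
    haveI := h (n + k) (by omega)
    infer_instance

theorem main' [HasExt.{u} (ModSite.Mod O)]
    (A : ObjectProperty (ModSite.Mod O)) [WSerre.IsWeakSerre A] (B : Set C)
    (hB : ∀ U : C, ∃ (ι : Type u) (Y : ι → C) (g : ∀ i, Y i ⟶ U),
      Sieve.ofArrows Y g ∈ J U ∧ ∀ i, Y i ∈ B)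
    (hA : ∀ V ∈ B, ∃ d : ℕ, ∀ T ∈ J V, ∃ (ι : Type u) (Y : ι → C) (g : ∀ i, Y i ⟶ V),
      (∀ i, T.arrows (g i)) ∧ Sieve.ofArrows Y g ∈ J V ∧
      ∀ (i : ι) (F : ModSite.Mod O), A F → ∀ k : ℕ, d < k →
        Subsingleton (Abelian.Ext.{u} (ModSite.freeOn O (Y i)) F k))
    [HasProduct K] (hK : ∀ n, WSerre.cohInPlus A (K n))
    (hconst : ∀ j : ℤ, ∃ n₀ : ℕ, ∀ n, n₀ ≤ n →
      IsIso ((homologyFunctor (ModSite.Mod O) j).map (t n)))
    (L : DerivedCategory (ModSite.Mod O)) (a : ∀ n, L ⟶ K n) (hL : CohCx.IsRlimVia K t L a)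
    (j : ℤ) :
    ∃ n₀ : ℕ, ∀ n, n₀ ≤ n → IsIso ((homologyFunctor (ModSite.Mod O) j).map (a n)) := by
  choose n₀ hn₀ using hconst
  let N : ℕ → ℕ := fun d => (Finset.Icc (j - d - 2) (j + 1)).sup n₀
  have hN : ∀ (d : ℕ) (n : ℕ), N d ≤ n → ∀ q, j - d - 2 ≤ q → q ≤ j + 1 →
      IsIso ((homologyFunctor (ModSite.Mod O) q).map (t n)) := by
    intro d n hn q h1 h2
    have : n₀ q ≤ N d := Finset.le_sup (f := n₀) (Finset.mem_Icc.2 ⟨h1, h2⟩)
    exact hn₀ q n (by omega)
  -- the tower facts on members of the good coverings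
  have htower : ∀ V ∈ B, ∃ d : ℕ, ∀ T ∈ J V, ∃ (ι : Type u) (Y : ι → C) (g : ∀ i, Y i ⟶ V),
      (∀ i, T.arrows (g i)) ∧ Sieve.ofArrows Y g ∈ J V ∧ ∀ i,
      CohCx.LimOneIsZero (fun n => HDUM O (K n) (j - 1) (Y i))
          (fun n => Preadditive.rightComp _ ((shiftFunctor _ (j - 1)).map (t n))) ∧
        (∀ nV : ℕ, N d ≤ nV → ∀ k : ℕ, Function.Injective
          (Preadditive.rightComp
            ((singleFunctor (ModSite.Mod O) 0).obj (ModSite.freeOn O (Y i)))
            ((shiftFunctor _ j).map (CohCx.transition K t nV k)))) ∧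
        (∀ n : ℕ, N d ≤ n → Function.Surjective
          (Preadditive.rightComp
            ((singleFunctor (ModSite.Mod O) 0).obj (ModSite.freeOn O (Y i)))
            ((shiftFunctor _ j).map (t n)))) := by
    intro V hV
    obtain ⟨d, hd⟩ := hA V hV
    refine ⟨d, fun T hT => ?_⟩
    obtain ⟨ι, Y, g, h1, h2, h3⟩ := hd T hT
    refine ⟨ι, Y, g, h1, h2, fun i => ?_⟩
    exact tower_evconst (ModSite.freeOn O (Y i)) A d
      (fun F hF k hk => h3 i F hF k hk)
      K t hK j (N d) (hN d)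
  refine ⟨n₀ j, fun n hn => ?_⟩
  have hθ := isIso_H_transition' K t j (n₀ j) (hn₀ j) n hn
  have hfac := RlimGen.a_transition K t L a hL n
  -- monomorphism
  have hmono : Mono ((homologyFunctor (ModSite.Mod O) j).map (a n)) := by
    apply RlimTrM.mono_of_injective_on O B hB
    intro V hV
    obtain ⟨d, hd⟩ := htower V hV
    have hinj := ModSectInj.inj O K t L a hL V j (n + N d) (fun T hT => by
      obtain ⟨ι, Y, g, h1, h2, h3⟩ := hd T hT
      exact ⟨ι, Y, g, h1, h2, fun i => ⟨(h3 i).1, (h3 i).2.1 _ (by omega)⟩⟩)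
    rw [← hfac (N d), Functor.map_comp]
    intro x y hxy
    apply hinj
    have hbij : Function.Injective (((homologyFunctor (ModSite.Mod O) j).map
        (CohCx.transition K t n (N d))).val.app (op V)) := by
      haveI := hθ (N d)
      have h2 : IsIso ((PresheafOfModules.evaluation _ (op V)).map
          ((SheafOfModules.forget _).map ((homologyFunctor (ModSite.Mod O) j).map
          (CohCx.transition K t n (N d))))) := inferInstance
      have h3 : IsIso (((homologyFunctor (ModSite.Mod O) j).map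
          (CohCx.transition K t n (N d))).val.app (op V)) := h2
      exact (ConcreteCategory.bijective_of_isIso _).1
    apply hbij
    exact hxy
  -- epimorphism
  have hepi : Epi ((homologyFunctor (ModSite.Mod O) j).map (a n)) := by
    apply epi_of_locally_surjective O
    intro U s
    obtain ⟨ι, Z, f, hcov, hZ⟩ := hB U
    -- the sieve of arrows over which `s` lifts
    let S : Sieve U :=
      { arrows := fun W g => ∃ s' : (HM O L j).val.obj (op W),
          ((homologyFunctor (ModSite.Mod O) j).map (a n)).val.app (op W) s' =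
            (HM O (K n) j).val.map g.op s
        downward_closed := by
          rintro W W' g ⟨s', hs'⟩ g'
          refine ⟨(HM O L j).val.map g'.op s', ?_⟩
          have nat := PresheafOfModules.naturality_apply
            ((homologyFunctor (ModSite.Mod O) j).map (a n)).val g'.op s'
          rw [nat, hs', ModSectInj.map_comp_apply'] }
    refine ⟨S, J.transitive hcov S ?_, fun W g hg => hg⟩
    intro W g hg
    suffices hgen : ∀ i, S.pullback (f i) ∈ J (Z i) by
      obtain ⟨W', g', f', ⟨i⟩, rfl⟩ := hg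
      rw [Sieve.pullback_comp]
      exact J.pullback_stable g' (hgen i)
    intro i
    obtain ⟨d, hd⟩ := htower (Z i) (hZ i)
    haveI := hθ (N d)
    set θ := (homologyFunctor (ModSite.Mod O) j).map (CohCx.transition K t n (N d)) with hθdef
    -- the section of `H^j(K_{n + N d})` over `Z i` corresponding to `s`
    let s₁ : (HM O (K (n + N d)) j).val.obj (op (Z i)) :=
      (inv θ).val.app (op (Z i)) ((HM O (K n) j).val.map (f i).op s)
    have hs₁ : θ.val.app (op (Z i)) s₁ = (HM O (K n) j).val.map (f i).op s := by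
      change (inv θ ≫ θ).val.app (op (Z i)) _ = _
      rw [IsIso.inv_hom_id]
      rfl
    obtain ⟨R, hR, hRf⟩ := ModSectInj.loc_surj O K t L a hL (Z i) j (n + N d) (fun T hT => by
      obtain ⟨ι', Y, g, h1, h2, h3⟩ := hd T hT
      exact ⟨ι', Y, g, h1, h2, fun i' n' hn' => (h3 i').2.2 n' (by omega)⟩) s₁
    refine J.superset_covering ?_ hR
    intro W' g' hg'
    obtain ⟨s', hs'⟩ := hRf g' hg'
    refine ⟨s', ?_⟩
    have e1 : (homologyFunctor (ModSite.Mod O) j).map (a n) =
        (homologyFunctor (ModSite.Mod O) j).map (a (n + N d)) ≫ θ := by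
      rw [hθdef, ← Functor.map_comp, hfac]
    rw [e1]
    change θ.val.app (op W')
      (((homologyFunctor (ModSite.Mod O) j).map (a (n + N d))).val.app (op W') s') = _
    rw [hs']
    have nat := PresheafOfModules.naturality_apply θ.val g'.op s₁
    rw [nat, hs₁, ModSectInj.map_comp_apply']
  exact isIso_of_mono_of_epi _

theorem main (A : ObjectProperty (ModSite.Mod O)) [WSerre.IsWeakSerre A] (B : Set C)
    (hB : ∀ U : C, ∃ (ι : Type u) (Y : ι → C) (g : ∀ i, Y i ⟶ U),
      Sieve.ofArrows Y g ∈ J U ∧ ∀ i, Y i ∈ B)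
    (hA : ∀ V ∈ B, ∃ d : ℕ, ∀ T ∈ J V, ∃ (ι : Type u) (Y : ι → C) (g : ∀ i, Y i ⟶ V),
      (∀ i, T.arrows (g i)) ∧ Sieve.ofArrows Y g ∈ J V ∧
      ∀ (i : ι) (F : ModSite.Mod O), A F → ∀ k : ℕ, d < k →
        Subsingleton (ModSite.HU O F k (Y i)))
    [HasProduct K] (hK : ∀ n, WSerre.cohInPlus A (K n))
    (hconst : ∀ j : ℤ, ∃ n₀ : ℕ, ∀ n, n₀ ≤ n →
      IsIso ((homologyFunctor (ModSite.Mod O) j).map (t n)))
    (L : DerivedCategory (ModSite.Mod O)) (a : ∀ n, L ⟶ K n) (hL : CohCx.IsRlimVia K t L a)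
    (j : ℤ) :
    ∃ n₀ : ℕ, ∀ n, n₀ ≤ n → IsIso ((homologyFunctor (ModSite.Mod O) j).map (a n)) := by
  haveI := Groth.Agent.Lib.Helper8.SheafModGroth.enoughInjectives J (ModSite.ringSh O)
  haveI : HasExt.{u} (ModSite.Mod O) := hasExt_of_enoughInjectives _
  refine main' O K t A B hB (fun V hV => ?_) hK hconst L a hL j
  obtain ⟨d, hd⟩ := hA V hV
  refine ⟨d, fun T hT => ?_⟩
  obtain ⟨ι, Y, g, h1, h2, h3⟩ := hd T hT
  exact ⟨ι, Y, g, h1, h2, fun i F hF k hk =>
    ModExtFree.subsingleton_ext_freeOn O (Y i) F k (h3 i F hF k hk)⟩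

end Groth.Agent.Lib.Helper8.ModEvConst
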