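import Groth.Prelude.Def_SiteCmp
import Groth.Prelude.Def_WeakSerre
import Groth.Agent.Lib.Helper8.ModEvConst
import Groth.Agent.Lib.Helper8.ModExtFree
import Groth.Agent.Lib.Helper8.SheafModGroth

/-!
# Helper8 — `ε_*` preserves epimorphisms whose kernel has vanishing `H^1` on a `τ'`-covering class
-/

set_option autoImplicit false
set_option linter.unusedSectionVars false

universe u

open CategoryTheory CategoryTheory.Limits Opposite Abelian

namespace Groth.Agent.Lib.Helper8.EpsEpi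

open Groth.Agent.Lib.Helper1

variable {C : Type u} [SmallCategory C] {J J' : GrothendieckTopology C} (h : J' ≤ J)
  (O : Sheaf J CommRingCat.{u})

/-- lifting sections along an epimorphism with `H^1`-acyclic kernel -/
lemma exists_lift_section (S : ShortComplex (ModSite.Mod O)) (hS : S.ShortExact) (V : C)
    (hV : Subsingleton (ModSite.HU O S.X₁ 1 V)) (s : S.X₃.val.obj (op V)) :
    ∃ t : S.X₂.val.obj (op V), S.g.val.app (op V) t = s := by
  haveI := Groth.Agent.Lib.Helper8.SheafModGroth.enoughInjectives J (ModSite.ringSh O)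
  haveI : HasExt.{u} (ModSite.Mod O) := hasExt_of_enoughInjectives _
  haveI := Groth.Agent.Lib.Helper8.ModExtFree.subsingleton_ext_freeOn O V S.X₁ 1 hV
  let x₃ : Ext (ModSite.freeOn O V) S.X₃ 0 := Ext.mk₀ (FreeOnMap.ofSec O s)
  obtain ⟨x₂, hx₂⟩ := Ext.covariant_sequence_exact₃ (ModSite.freeOn O V) hS x₃ (n₁ := 1) rfl
    (Subsingleton.elim _ _)
  obtain ⟨t, rfl⟩ := (Ext.mk₀_bijective _ _).2 x₂
  rw [Ext.mk₀_comp_mk₀] at hx₂
  have ht : t ≫ S.g = FreeOnMap.ofSec O s := (Ext.mk₀_bijective _ _).1 hx₂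
  refine ⟨ModSiteFree.homEquiv O V S.X₂ t, ?_⟩
  rw [← ModSiteFree.homEquiv_comp, ht, Equiv.apply_symm_apply]

theorem epi_push (B : Set C)
    (h3 : ∀ U : C, ∃ (ι : Type u) (Y : ι → C) (g : ∀ i, Y i ⟶ U),
      Sieve.ofArrows Y g ∈ J' U ∧ ∀ i, Y i ∈ B)
    (S : ShortComplex (ModSite.Mod O)) (hS : S.ShortExact)
    (h4 : ∀ U ∈ B, Subsingleton (ModSite.HU O S.X₁ 1 U)) :
    Epi ((SiteCmp.eps h O).push.map S.g) := by
  apply Groth.Agent.Lib.Helper8.ModEvConst.epi_of_locally_surjective (SiteCmp.epsRing h O)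
  intro U s
  obtain ⟨ι, Z, g, hcov, hZ⟩ := h3 U
  refine ⟨Sieve.ofArrows Z g, hcov, ?_⟩
  rintro W g' ⟨V, a, b, ⟨i⟩, rfl⟩
  let s₀ : S.X₃.val.obj (op U) := s
  obtain ⟨t, ht⟩ := exists_lift_section O S hS (Z i) (h4 _ (hZ i)) (S.X₃.val.map (g i).op s₀)
  refine ⟨S.X₂.val.map a.op t, ?_⟩
  change S.g.val.app (op W) (S.X₂.val.map a.op t) = S.X₃.val.map (a ≫ g i).op s₀
  have := PresheafOfModules.naturality_apply S.g.val a.op t
  rw [this, ht, op_comp, PresheafOfModules.map_comp_apply]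

end Groth.Agent.Lib.Helper8.EpsEpi
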