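import Groth.Prelude.Def_SiteCmp
import Groth.Prelude.Def_WeakSerre
import Groth.Agent.Lib.Helper15.PushFFMod

/-!
# Helper8 — `ε_*` is fully faithful on modules (comparison of two topologies)
-/

set_option autoImplicit false

universe u

open CategoryTheory CategoryTheory.Limits Opposite

namespace Groth.Agent.Lib.Helper8.EpsFF

variable {C : Type u} [SmallCategory C] {J J' : GrothendieckTopology C} (h : J' ≤ J)
  (O : Sheaf J CommRingCat.{u})

lemma locFull_id : Groth.Agent.Lib.Helper15.PushFF.LocFull (𝟭 C) := by
  intro U₁ U₂ g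
  exact ⟨U₁, 𝟙 _, g, by simp; infer_instance, by simp⟩

theorem full_faithful :
    (SiteCmp.eps h O).push.Full ∧ (SiteCmp.eps h O).push.Faithful := by
  haveI := SiteCmp.idContinuous h
  refine Groth.Agent.Lib.Helper15.PushFF.full_faithful_mod (J := J') (K := J) (F := 𝟭 C)
    (SiteCmp.eps h O).sharpR locFull_id ?_
  intro V r
  refine J.superset_covering ?_ (J.top_mem V)
  intro V' f _
  exact ⟨V, f, 𝟙 _, r, by simp, by
    simp [SiteCmp.eps]
    rfl⟩

instance : (SiteCmp.eps h O).push.Full := (full_faithful h O).1
instance : (SiteCmp.eps h O).push.Faithful := (full_faithful h O).2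

instance : IsIso (SiteCmp.eps h O).adj.counit := inferInstance

end Groth.Agent.Lib.Helper8.EpsFF
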