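import Mathlib
import Groth.Prelude.Def_WeakSerre
import Groth.Agent.Lib.Helper8.AdjWayOut2

/-!
# Helper8 — `Ext^k(P', F') = 0` from `Ext^k(Φ P', Φ F') = 0` when `F' ≅ R Φ F'`
-/

set_option linter.unusedSectionVars false

universe w₁ w₂ w₁' w₂' u

open CategoryTheory CategoryTheory.Limits Pretriangulated DerivedCategory

namespace Groth.Agent.Lib.Helper8.ExtTransfer

open Groth.Agent.Lib.Helper8.WSerreDev Groth.Agent.Lib.Helper8.AdjWayOut

variable {𝒜 : Type (u + 1)} [Category.{u} 𝒜] [Abelian 𝒜] [HasDerivedCategory.{w₁} 𝒜]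
  {ℬ : Type (u + 1)} [Category.{u} ℬ] [Abelian ℬ] [HasDerivedCategory.{w₂} ℬ]
  (Φ : 𝒜 ⥤ ℬ) [Φ.Additive] [PreservesFiniteLimits Φ] [PreservesFiniteColimits Φ]
  {R : DerivedCategory ℬ ⥤ DerivedCategory 𝒜} (adj : Φ.mapDerivedCategory ⊣ R)
  (A' : ObjectProperty 𝒜) [WSerre.IsWeakSerre A'] (A : ObjectProperty ℬ) [WSerre.IsWeakSerre A]

lemma cohIn_shift (X : DerivedCategory 𝒜) (h : WSerre.cohIn A' X) (a : ℤ) :
    WSerre.cohIn A' (X⟦a⟧) := fun q =>
  A'.prop_of_iso (((homologyFunctor 𝒜 0).shiftIso a q (q + a) (by omega)).app X).symm (h (q + a))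

variable (h2a : ∀ F' : 𝒜, A' F' → A (Φ.obj F'))
  (h3 : ∀ F' : 𝒜, A' F' → IsIso (adj.unit.app ((singleFunctor 𝒜 0).obj F')))
  [HasExt.{w₁'} 𝒜] [HasExt.{w₂'} ℬ]

include h2a h3 in
theorem ext_subsingleton (P' F' : 𝒜) (hF' : A' F') (k : ℕ)
    (h : Subsingleton (Abelian.Ext.{w₂'} (Φ.obj P') (Φ.obj F') k)) :
    Subsingleton (Abelian.Ext.{w₁'} P' F' k) := by
  let G : DerivedCategory 𝒜 := ((singleFunctor 𝒜 0).obj F')⟦(k : ℤ)⟧
  have hG : WSerre.cohInPlus A' G := by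
    refine ⟨cohIn_shift A' _ (cohInBdd_single A' F' hF' 0).1 k, ⟨-(k : ℤ), ?_⟩⟩
    exact DerivedCategory.TStructure.t.isGE_shift ((singleFunctor 𝒜 0).obj F') 0 k (-(k : ℤ))
      (by omega)
  haveI := (plus_left Φ adj A' A h2a h3 G hG).2
  -- the target Hom group
  let e₁ : Φ.mapDerivedCategory.obj ((singleFunctor 𝒜 0).obj P') ≅
      (singleFunctor ℬ 0).obj (Φ.obj P') := (Φ.mapDerivedCategorySingleFunctor 0).app P'
  let e₂ : Φ.mapDerivedCategory.obj G ≅ ((singleFunctor ℬ 0).obj (Φ.obj F'))⟦(k : ℤ)⟧ :=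
    (Φ.mapDerivedCategory.commShiftIso (k : ℤ)).app _ ≪≫
      (shiftFunctor _ (k : ℤ)).mapIso ((Φ.mapDerivedCategorySingleFunctor 0).app F')
  have hS : Subsingleton (Φ.mapDerivedCategory.obj ((singleFunctor 𝒜 0).obj P') ⟶
      Φ.mapDerivedCategory.obj G) := by
    refine ⟨fun x y => ?_⟩
    have h1 := h.elim (Abelian.Ext.homEquiv.symm (e₁.inv ≫ x ≫ e₂.hom))
      (Abelian.Ext.homEquiv.symm (e₁.inv ≫ y ≫ e₂.hom))
    have h2 := Abelian.Ext.homEquiv.symm.injective h1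
    rw [cancel_epi] at h2
    exact (cancel_mono e₂.hom).1 h2
  have hS' : Subsingleton ((singleFunctor 𝒜 0).obj P' ⟶ G) := by
    refine ⟨fun x y => ?_⟩
    have h1 := hS.elim (Φ.mapDerivedCategory.map x) (Φ.mapDerivedCategory.map y)
    have nx := adj.unit.naturality x
    have ny := adj.unit.naturality y
    simp only [Functor.id_obj, Functor.id_map, Functor.comp_obj, Functor.comp_map] at nx ny
    rw [h1] at nx
    rw [← cancel_mono (adj.unit.app G), nx, ny]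
  refine ⟨fun a b => ?_⟩
  exact Abelian.Ext.homEquiv.injective (hS'.elim _ _)

end Groth.Agent.Lib.Helper8.ExtTransfer
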