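import Mathlib.Algebra.Homology.DerivedCategory.ExactFunctor
import Mathlib.Algebra.Homology.DerivedCategory.HomologySequence
import Mathlib.Algebra.Homology.ShortComplex.PreservesHomology

/-!
# Helper8 — an exact functor commutes with the cohomology functors of derived categories,
naturally
-/

universe w₁ w₂ v₁ v₂ u₁ u₂

open CategoryTheory CategoryTheory.Limits DerivedCategory

namespace Groth.Agent.Lib.Helper8.HomologyNatIso

variable {𝒜 : Type u₁} [Category.{v₁} 𝒜] [Abelian 𝒜] [HasDerivedCategory.{w₁} 𝒜]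
  {ℬ : Type u₂} [Category.{v₂} ℬ] [Abelian ℬ] [HasDerivedCategory.{w₂} ℬ]
  (Φ : 𝒜 ⥤ ℬ) [Φ.Additive] [PreservesFiniteLimits Φ] [PreservesFiniteColimits Φ]

/-- on complexes -/
noncomputable def cxIso (j : ℤ) :
    Φ.mapHomologicalComplex (ComplexShape.up ℤ) ⋙
      HomologicalComplex.homologyFunctor ℬ (ComplexShape.up ℤ) j ≅
    HomologicalComplex.homologyFunctor 𝒜 (ComplexShape.up ℤ) j ⋙ Φ :=
  NatIso.ofComponents (fun K => (K.sc j).mapHomologyIso Φ)
    (fun f => ShortComplex.mapHomologyIso_hom_naturality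
      ((HomologicalComplex.shortComplexFunctor 𝒜 (ComplexShape.up ℤ) j).map f) Φ)

/-- the isomorphism before localization -/
noncomputable def preIso (j : ℤ) :
    Q ⋙ (Φ.mapDerivedCategory ⋙ homologyFunctor ℬ j) ≅ Q ⋙ (homologyFunctor 𝒜 j ⋙ Φ) :=
  (Functor.associator _ _ _).symm ≪≫
    Functor.isoWhiskerRight Φ.mapDerivedCategoryFactors (homologyFunctor ℬ j) ≪≫
    Functor.associator _ _ _ ≪≫
    Functor.isoWhiskerLeft _ (homologyFunctorFactors ℬ j) ≪≫ cxIso Φ j ≪≫
    Functor.isoWhiskerRight (homologyFunctorFactors 𝒜 j).symm Φ ≪≫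
    Functor.associator _ _ _

/-- an exact functor commutes with cohomology of the derived category, naturally -/
noncomputable def iso (j : ℤ) :
    Φ.mapDerivedCategory ⋙ homologyFunctor ℬ j ≅ homologyFunctor 𝒜 j ⋙ Φ :=
  Localization.liftNatIso Q (HomologicalComplex.quasiIso 𝒜 (ComplexShape.up ℤ))
    (Q ⋙ (Φ.mapDerivedCategory ⋙ homologyFunctor ℬ j)) (Q ⋙ (homologyFunctor 𝒜 j ⋙ Φ)) _ _
    (preIso Φ j)

lemma isIso_homology_map_iff {X Y : DerivedCategory 𝒜} (g : X ⟶ Y) (j : ℤ) :
    IsIso ((homologyFunctor ℬ j).map (Φ.mapDerivedCategory.map g)) ↔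
      IsIso (Φ.map ((homologyFunctor 𝒜 j).map g)) := by
  have nat := (iso Φ j).hom.naturality g
  simp only [Functor.comp_obj, Functor.comp_map] at nat
  constructor
  · intro h
    have : Φ.map ((homologyFunctor 𝒜 j).map g) =
        (iso Φ j).inv.app X ≫ (homologyFunctor ℬ j).map (Φ.mapDerivedCategory.map g) ≫
          (iso Φ j).hom.app Y := by
      rw [nat, ← Category.assoc, Iso.inv_hom_id_app]
      exact (Category.id_comp _).symm
    rw [this]
    infer_instance
  · intro h
    have : (homologyFunctor ℬ j).map (Φ.mapDerivedCategory.map g) =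
        (iso Φ j).hom.app X ≫ Φ.map ((homologyFunctor 𝒜 j).map g) ≫ (iso Φ j).inv.app Y := by
      rw [← Category.assoc, ← nat, Category.assoc, Iso.hom_inv_id_app]
      exact (Category.comp_id _).symm
    rw [this]
    infer_instance

end Groth.Agent.Lib.Helper8.HomologyNatIso
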