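import Groth.Prelude.Def_CohCx
import Mathlib.CategoryTheory.Triangulated.Functor
import Mathlib.CategoryTheory.Limits.Preserves.Shapes.Products

/-!
# Helper8 — a triangulated functor which preserves the product preserves `IsRlimVia`
-/

universe w w' u u'

open CategoryTheory CategoryTheory.Limits Pretriangulated

namespace Groth.Agent.Lib.Helper8.RlimFunctor

variable {T : Type u} [Category.{w} T] [Preadditive T] [HasZeroObject T] [HasShift T ℤ]
  [∀ n : ℤ, (shiftFunctor T n).Additive] [Pretriangulated T]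
  {T' : Type u'} [Category.{w'} T'] [Preadditive T'] [HasZeroObject T'] [HasShift T' ℤ]
  [∀ n : ℤ, (shiftFunctor T' n).Additive] [Pretriangulated T']
  (F : T ⥤ T') [F.CommShift ℤ] [F.IsTriangulated] [F.Additive]

theorem isRlimVia_map (K : ℕ → T) (t : ∀ n, K (n + 1) ⟶ K n) [HasProduct K]
    [HasProduct (fun n => F.obj (K n))] [PreservesLimit (Discrete.functor K) F]
    (L : T) (a : ∀ n, L ⟶ K n) (hL : CohCx.IsRlimVia K t L a) :
    CohCx.IsRlimVia (fun n => F.obj (K n)) (fun n => F.map (t n)) (F.obj L)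
      (fun n => F.map (a n)) := by
  obtain ⟨c, hc⟩ := hL
  have hd := F.map_distinguished _ hc
  let e : F.obj (∏ᶜ K) ≅ ∏ᶜ (fun n => F.obj (K n)) := PreservesProduct.iso F K
  have he : ∀ n, e.hom ≫ Pi.π (fun n => F.obj (K n)) n = F.map (Pi.π K n) := fun n =>
    piComparison_comp_π F K n
  refine ⟨e.inv ≫ F.map c ≫ (F.commShiftIso (1 : ℤ)).hom.app L, ?_⟩
  refine isomorphic_distinguished _ hd _ (Iso.symm ?_)
  refine Triangle.isoMk _ _ (Iso.refl _) e e ?_ ?_ ?_
  · have h1 : F.map (Pi.lift a) ≫ e.hom = 𝟙 _ ≫ Pi.lift (fun n => F.map (a n)) := by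
      rw [Category.id_comp]
      apply Pi.hom_ext
      intro n
      rw [Category.assoc, he, ← F.map_comp, Pi.lift_π, Pi.lift_π]
    exact h1
  · have h2 : F.map (Pi.lift fun n => Pi.π K n - Pi.π K (n + 1) ≫ t n) ≫ e.hom =
        e.hom ≫ (Pi.lift fun n => Pi.π (fun n => F.obj (K n)) n -
          Pi.π (fun n => F.obj (K n)) (n + 1) ≫ F.map (t n)) := by
      apply Pi.hom_ext
      intro n
      rw [Category.assoc, he, ← F.map_comp, Pi.lift_π, Category.assoc, Pi.lift_π,
        Preadditive.comp_sub, he, ← Category.assoc, he, F.map_sub, F.map_comp]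
    exact h2
  · have h3 : (F.map c ≫ (F.commShiftIso (1 : ℤ)).hom.app L) ≫ (𝟙 (F.obj L))⟦(1 : ℤ)⟧' =
        e.hom ≫ e.inv ≫ F.map c ≫ (F.commShiftIso (1 : ℤ)).hom.app L := by
      rw [CategoryTheory.Functor.map_id, Iso.hom_inv_id_assoc]
      exact Category.comp_id _
    exact h3

end Groth.Agent.Lib.Helper8.RlimFunctor
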