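import Mathlib
import Groth.Prelude.Def_CohCx
import Groth.Prelude.Def_WeakSerre
import Groth.Agent.Lib.Helper8.AdjWayOut2
import Groth.Agent.Lib.Helper8.HomologyNatIso
import Groth.Agent.Lib.Helper8.RlimFunctor
import Groth.Agent.Lib.Helper8.RlimTrA

/-!
# Helper8 — from `D^+` to unbounded `D`: the equivalence `D_{A'} ≃ D_A` induced by an exact
functor with a right adjoint on derived categories (abstract form of S9070)
-/

set_option linter.unusedSectionVars false

universe w₁ w₂ u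

open CategoryTheory CategoryTheory.Limits Pretriangulated DerivedCategory

namespace Groth.Agent.Lib.Helper8.UnbAdj

open Groth.Agent.Lib.Helper8.WSerreDev Groth.Agent.Lib.Helper8.DTrunc
  Groth.Agent.Lib.Helper8.AdjWayOut Groth.Agent.Lib.Helper8.RlimTrA

section Helpers

variable {D : Type*} [Category D]

lemma isIso_left_of_comm {W X Y Z : D} (a : W ⟶ X) (b : X ⟶ Z) (c : W ⟶ Y) (d : Y ⟶ Z)
    (h : a ≫ b = c ≫ d) [IsIso b] [IsIso c] [IsIso d] : IsIso a := by
  have : a = c ≫ d ≫ inv b := by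
    rw [← Category.assoc, ← h, Category.assoc, IsIso.hom_inv_id, Category.comp_id]
  rw [this]
  infer_instance

lemma isIso_top_of_comm {W X Y Z : D} (a : W ⟶ X) (b : X ⟶ Z) (c : W ⟶ Y) (d : Y ⟶ Z)
    (h : a ≫ b = c ≫ d) [IsIso a] [IsIso b] [IsIso d] : IsIso c := by
  have : c = a ≫ b ≫ inv d := by
    rw [← Category.assoc, h, Category.assoc, IsIso.hom_inv_id, Category.comp_id]
  rw [this]
  infer_instance

end Helpers

variable {𝒜 : Type (u + 1)} [Category.{u} 𝒜] [Abelian 𝒜] [HasDerivedCategory.{w₁} 𝒜]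
  {ℬ : Type (u + 1)} [Category.{u} ℬ] [Abelian ℬ] [HasDerivedCategory.{w₂} ℬ]
  (Φ : 𝒜 ⥤ ℬ) [Φ.Additive] [PreservesFiniteLimits Φ] [PreservesFiniteColimits Φ]
  {R : DerivedCategory ℬ ⥤ DerivedCategory 𝒜} (adj : Φ.mapDerivedCategory ⊣ R)
  (A' : ObjectProperty 𝒜) [WSerre.IsWeakSerre A'] (A : ObjectProperty ℬ) [WSerre.IsWeakSerre A]

section

variable (h2b : ∀ F' G' : 𝒜, A' F' → A' G' → Function.Bijective (fun φ : F' ⟶ G' => Φ.map φ))

include h2b in
omit [HasDerivedCategory.{w₁} 𝒜] [HasDerivedCategory.{w₂} ℬ] [Φ.Additive] [PreservesFiniteLimits Φ]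
  [PreservesFiniteColimits Φ] [WSerre.IsWeakSerre A'] in
/-- a functor fully faithful on `A'` reflects isomorphisms between objects of `A'` -/
lemma isIso_of_isIso_map {F' G' : 𝒜} (hF : A' F') (hG : A' G') (g : F' ⟶ G')
    (h : IsIso (Φ.map g)) : IsIso g := by
  obtain ⟨g', hg'⟩ := (h2b G' F' hG hF).2 (inv (Φ.map g))
  have hg'' : Φ.map g' = inv (Φ.map g) := hg'
  refine ⟨g', ?_, ?_⟩
  · apply (h2b F' F' hF hF).1
    change Φ.map (g ≫ g') = Φ.map (𝟙 _)
    rw [Φ.map_comp, hg'', IsIso.hom_inv_id, Φ.map_id]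
  · apply (h2b G' G' hG hG).1
    change Φ.map (g' ≫ g) = Φ.map (𝟙 _)
    rw [Φ.map_comp, hg'', IsIso.inv_hom_id, Φ.map_id]

end

omit [WSerre.IsWeakSerre A] in
lemma cohInPlus_truncTower [A.ContainsZero] [A.IsClosedUnderIsomorphisms]
    (X : DerivedCategory ℬ) (hX : WSerre.cohIn A X) (n : ℕ) :
    WSerre.cohInPlus A (CohCx.truncTower X n) := by
  refine ⟨fun q => ?_, ⟨-(n : ℤ), (inferInstance : tt.IsGE ((tt.truncGE (-(n : ℤ))).obj X) _)⟩⟩
  by_cases hq : -(n : ℤ) ≤ q
  · haveI := isIso_H_toTrunc X n q hq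
    exact A.prop_of_iso (asIso ((homologyFunctor ℬ q).map (CohCx.toTruncTower X n))) (hX q)
  · exact A.prop_of_isZero (isZero_of_isGE (CohCx.truncTower X n) (-(n : ℤ)) q (by omega))

variable (h2a : ∀ F' : 𝒜, A' F' → A (Φ.obj F'))
  (h2b : ∀ F' G' : 𝒜, A' F' → A' G' → Function.Bijective (fun φ : F' ⟶ G' => Φ.map φ))
  (h2c : ∀ F : ℬ, A F → ∃ F' : 𝒜, A' F' ∧ Nonempty (Φ.obj F' ≅ F))
  (h3 : ∀ F' : 𝒜, A' F' → IsIso (adj.unit.app ((singleFunctor 𝒜 0).obj F')))
  [∀ K : ℕ → DerivedCategory ℬ, HasProduct K] [∀ K : ℕ → DerivedCategory 𝒜, HasProduct K]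
  (hRlim : ∀ X : DerivedCategory ℬ, WSerre.cohIn A X →
    CohCx.IsRlimVia (CohCx.truncTower X) (CohCx.truncTowerMap X) X (CohCx.toTruncTower X))
  (hEC : ∀ (K : ℕ → DerivedCategory 𝒜) (t : ∀ n, K (n + 1) ⟶ K n),
    (∀ n, WSerre.cohInPlus A' (K n)) →
    (∀ j : ℤ, ∃ n₀ : ℕ, ∀ n, n₀ ≤ n → IsIso ((homologyFunctor 𝒜 j).map (t n))) →
    ∀ (L : DerivedCategory 𝒜) (a : ∀ n, L ⟶ K n), CohCx.IsRlimVia K t L a →
    ∀ j : ℤ, ∃ n₀ : ℕ, ∀ n, n₀ ≤ n → IsIso ((homologyFunctor 𝒜 j).map (a n)))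

include h2a h2b h2c h3 in
/-- the transition maps of `R τ_{≥ -n} X` are eventually isomorphisms on each `H^j` -/
lemma isIso_H_R_truncTowerMap (X : DerivedCategory ℬ) (hX : WSerre.cohIn A X) (n : ℕ) (j : ℤ)
    (hj : -(n : ℤ) ≤ j) :
    IsIso ((homologyFunctor 𝒜 j).map (R.map (CohCx.truncTowerMap X n))) := by
  have h1 := plus_right Φ adj A' A h2a h3 h2c _ (cohInPlus_truncTower A X hX (n + 1))
  have h2 := plus_right Φ adj A' A h2a h3 h2c _ (cohInPlus_truncTower A X hX n)
  refine isIso_of_isIso_map Φ A' h2b (h1.1.1 j) (h2.1.1 j) _ ?_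
  rw [← HomologyNatIso.isIso_homology_map_iff]
  haveI := h1.2
  haveI := h2.2
  haveI := isIso_H_truncTowerMap X n j hj
  have nat := adj.counit.naturality (CohCx.truncTowerMap X n)
  simp only [Functor.comp_obj, Functor.comp_map, Functor.id_obj, Functor.id_map] at nat
  have e : (homologyFunctor ℬ j).map (Φ.mapDerivedCategory.map (R.map (CohCx.truncTowerMap X n))) ≫
      (homologyFunctor ℬ j).map (adj.counit.app (CohCx.truncTower X n)) =
      (homologyFunctor ℬ j).map (adj.counit.app (CohCx.truncTower X (n + 1))) ≫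
        (homologyFunctor ℬ j).map (CohCx.truncTowerMap X n) := by
    rw [← Functor.map_comp, ← Functor.map_comp, nat]
  haveI : IsIso ((homologyFunctor ℬ j).map (adj.counit.app (CohCx.truncTower X n))) :=
    inferInstance
  haveI : IsIso ((homologyFunctor ℬ j).map (adj.counit.app (CohCx.truncTower X (n + 1)))) :=
    inferInstance
  exact isIso_left_of_comm _ _ _ _ e

include h2a h2b h2c h3 hRlim hEC in
/-- the key point: `H^j(R X) → H^j(R τ_{≥ -n} X)` is an isomorphism for `n` large -/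
theorem key (X : DerivedCategory ℬ) (hX : WSerre.cohIn A X) (j : ℤ) :
    ∃ n₁ : ℕ, ∀ n, n₁ ≤ n → IsIso ((homologyFunctor 𝒜 j).map (R.map (CohCx.toTruncTower X n))) := by
  letI := adj.rightAdjointCommShift ℤ
  haveI := adj.commShift_of_leftAdjoint ℤ
  haveI : R.IsTriangulated := adj.isTriangulated_rightAdjoint
  haveI : R.Additive := adj.right_adjoint_additive
  haveI : PreservesLimitsOfSize.{0, 0} R := adj.rightAdjoint_preservesLimits
  refine hEC (fun n => R.obj (CohCx.truncTower X n)) (fun n => R.map (CohCx.truncTowerMap X n))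
    (fun n => (plus_right Φ adj A' A h2a h3 h2c _ (cohInPlus_truncTower A X hX n)).1)
    (fun q => ⟨(-q).toNat, fun n hn =>
      isIso_H_R_truncTowerMap Φ adj A' A h2a h2b h2c h3 X hX n q (by omega)⟩)
    (R.obj X) (fun n => R.map (CohCx.toTruncTower X n))
    (RlimFunctor.isRlimVia_map R _ _ _ _ (hRlim X hX)) j

include h2a h2b h2c h3 hRlim hEC in
/-- counit part -/
theorem right (X : DerivedCategory ℬ) (hX : WSerre.cohIn A X) :
    WSerre.cohIn A' (R.obj X) ∧ IsIso (adj.counit.app X) := by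
  have hkey := key Φ adj A' A h2a h2b h2c h3 hRlim hEC X hX
  constructor
  · intro j
    obtain ⟨n₁, hn₁⟩ := hkey j
    haveI := hn₁ n₁ le_rfl
    have h1 := (plus_right Φ adj A' A h2a h3 h2c _ (cohInPlus_truncTower A X hX n₁)).1.1 j
    exact A'.prop_of_iso
      (asIso ((homologyFunctor 𝒜 j).map (R.map (CohCx.toTruncTower X n₁)))).symm h1
  · rw [isIso_iff]
    intro j
    obtain ⟨n₁, hn₁⟩ := hkey j
    let n := max n₁ (-j).toNat
    haveI := hn₁ n (le_max_left _ _)
    haveI := isIso_H_toTrunc X n j (by have := le_max_right n₁ (-j).toNat; omega)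
    haveI := (plus_right Φ adj A' A h2a h3 h2c _ (cohInPlus_truncTower A X hX n)).2
    haveI : IsIso ((homologyFunctor ℬ j).map
        (Φ.mapDerivedCategory.map (R.map (CohCx.toTruncTower X n)))) := by
      rw [HomologyNatIso.isIso_homology_map_iff]
      infer_instance
    have nat := adj.counit.naturality (CohCx.toTruncTower X n)
    simp only [Functor.comp_obj, Functor.comp_map, Functor.id_obj, Functor.id_map] at nat
    have e : (homologyFunctor ℬ j).map
          (Φ.mapDerivedCategory.map (R.map (CohCx.toTruncTower X n))) ≫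
        (homologyFunctor ℬ j).map (adj.counit.app (CohCx.truncTower X n)) =
        (homologyFunctor ℬ j).map (adj.counit.app X) ≫
          (homologyFunctor ℬ j).map (CohCx.toTruncTower X n) := by
      rw [← Functor.map_comp, ← Functor.map_comp, nat]
    haveI : IsIso ((homologyFunctor ℬ j).map (adj.counit.app (CohCx.truncTower X n))) :=
      inferInstance
    exact isIso_top_of_comm _ _ _ _ e

include h2a h2b h2c h3 hRlim hEC in
/-- unit part -/
theorem left (Y : DerivedCategory 𝒜) (hY : WSerre.cohIn A' Y) :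
    WSerre.cohIn A (Φ.mapDerivedCategory.obj Y) ∧ IsIso (adj.unit.app Y) := by
  have hX : WSerre.cohIn A (Φ.mapDerivedCategory.obj Y) := fun i => by
    obtain ⟨e⟩ := nonempty_homology_iso Φ Y i
    exact A.prop_of_iso e.symm (h2a _ (hY i))
  refine ⟨hX, ?_⟩
  rw [isIso_iff]
  intro j
  obtain ⟨n₁, hn₁⟩ := key Φ adj A' A h2a h2b h2c h3 hRlim hEC _ hX j
  let n := max n₁ (-j).toNat
  have hnj : -(n : ℤ) ≤ j := by have := le_max_right n₁ (-j).toNat; omega
  haveI := hn₁ n (le_max_left _ _)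
  -- compare `Ld (Y → τ_{≥ -n} Y)` with the truncation of `Ld Y`
  haveI : (Φ.mapDerivedCategory.obj (CohCx.truncTower Y n)).IsGE (-(n : ℤ)) :=
    isGE_map Φ _ _
  let g := tt.descTruncGE (Φ.mapDerivedCategory.map (CohCx.toTruncTower Y n)) (-(n : ℤ))
  have hg : CohCx.toTruncTower (Φ.mapDerivedCategory.obj Y) n ≫ g =
      Φ.mapDerivedCategory.map (CohCx.toTruncTower Y n) := tt.π_descTruncGE _ _
  haveI hgiso : IsIso g := by
    rw [isIso_iff]
    intro q
    by_cases hq : -(n : ℤ) ≤ q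
    · haveI := isIso_H_toTrunc (Φ.mapDerivedCategory.obj Y) n q hq
      haveI : IsIso ((homologyFunctor ℬ q).map
          (Φ.mapDerivedCategory.map (CohCx.toTruncTower Y n))) := by
        rw [HomologyNatIso.isIso_homology_map_iff]
        haveI := isIso_H_toTrunc Y n q hq
        infer_instance
      have e : (homologyFunctor ℬ q).map (CohCx.toTruncTower (Φ.mapDerivedCategory.obj Y) n) ≫
          (homologyFunctor ℬ q).map g =
          (homologyFunctor ℬ q).map (Φ.mapDerivedCategory.map (CohCx.toTruncTower Y n)) := by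
        rw [← Functor.map_comp, hg]
      exact IsIso.of_isIso_fac_left e
    · have hs : IsZero ((homologyFunctor ℬ q).obj
          (CohCx.truncTower (Φ.mapDerivedCategory.obj Y) n)) :=
        isZero_of_isGE _ (-(n : ℤ)) q (by omega)
      have ht : IsZero ((homologyFunctor ℬ q).obj
          (Φ.mapDerivedCategory.obj (CohCx.truncTower Y n))) :=
        isZero_of_isGE _ (-(n : ℤ)) q (by omega)
      exact ⟨0, hs.eq_of_src _ _, ht.eq_of_src _ _⟩
  haveI : IsIso ((homologyFunctor 𝒜 j).map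
      (R.map (Φ.mapDerivedCategory.map (CohCx.toTruncTower Y n)))) := by
    rw [← hg, Functor.map_comp, Functor.map_comp]
    infer_instance
  have hYn : WSerre.cohInPlus A' (CohCx.truncTower Y n) := cohInPlus_truncTower A' Y hY n
  haveI := (plus_left Φ adj A' A h2a h3 _ hYn).2
  haveI := isIso_H_toTrunc Y n j hnj
  have nat := adj.unit.naturality (CohCx.toTruncTower Y n)
  simp only [Functor.comp_obj, Functor.comp_map, Functor.id_obj, Functor.id_map] at nat
  have e : (homologyFunctor 𝒜 j).map (CohCx.toTruncTower Y n) ≫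
      (homologyFunctor 𝒜 j).map (adj.unit.app (CohCx.truncTower Y n)) =
      (homologyFunctor 𝒜 j).map (adj.unit.app Y) ≫
        (homologyFunctor 𝒜 j).map
          (R.map (Φ.mapDerivedCategory.map (CohCx.toTruncTower Y n))) := by
    rw [← Functor.map_comp, ← Functor.map_comp, nat]
  haveI : IsIso ((homologyFunctor 𝒜 j).map (adj.unit.app (CohCx.truncTower Y n))) :=
    inferInstance
  exact isIso_top_of_comm _ _ _ _ e

end Groth.Agent.Lib.Helper8.UnbAdj
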