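import Groth.Prelude.Def_SiteCmp
import Groth.Prelude.Def_WeakSerre
import Groth.Agent.Lib.Helper8.UnbAdj
import Groth.Agent.Lib.Helper8.RlimTrM
import Groth.Agent.Lib.Helper8.ModEvConst
import Groth.Agent.Lib.Helper26.DProdK2
import Groth.Agent.Lib.Helper8.ExtTransfer

/-!
# Helper8 — `f^* : D_{A'}(O_D) ≃ D_A(O_C)` with quasi-inverse `Rf_*` under bounded cohomological
dimension (S9070)
-/

set_option autoImplicit false

universe u

open CategoryTheory CategoryTheory.Limits Opposite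

attribute [local instance] HasDerivedCategory.standard

namespace Groth.Agent.Lib.Helper8.SiteCmpUnb

variable {C : Type u} [SmallCategory C] {J : GrothendieckTopology C} {O_C : Sheaf J CommRingCat.{u}}
  {D : Type u} [SmallCategory D] {K : GrothendieckTopology D} {O_D : Sheaf K CommRingCat.{u}}

/-- countable products in `D(Mod O)` -/
lemma hasProduct_nat (O : Sheaf J CommRingCat.{u})
    (X : ℕ → DerivedCategory (ModSite.Mod O)) : HasProduct X := by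
  haveI := Groth.Agent.Lib.Helper8.SheafModGroth.main J (ModSite.ringSh O)
  haveI : HasProducts.{u} (DerivedCategory (ModSite.Mod O)) :=
    Groth.Agent.Lib.Helper26.DProdK2.hasProducts
  haveI : HasProducts.{0} (DerivedCategory (ModSite.Mod O)) :=
    has_smallest_products_of_hasProducts
  infer_instance

/-- the general form, with the vanishing condition downstairs given on `Ext` groups -/
theorem main' (f : ModSite.RMor O_C O_D) [PreservesFiniteLimits f.pull] [SiteCmp.HasRpushD f]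
    (adj : SiteCmp.pullD f ⊣ SiteCmp.RpushD f)
    (A : ObjectProperty (ModSite.Mod O_C)) [WSerre.IsWeakSerre A]
    (A' : ObjectProperty (ModSite.Mod O_D)) [WSerre.IsWeakSerre A']
    (h2a : ∀ F' : ModSite.Mod O_D, A' F' → A (f.pull.obj F'))
    (h2b : ∀ F' G' : ModSite.Mod O_D, A' F' → A' G' →
      Function.Bijective (fun φ : F' ⟶ G' => f.pull.map φ))
    (h2c : ∀ F : ModSite.Mod O_C, A F → ∃ F' : ModSite.Mod O_D, A' F' ∧ Nonempty (f.pull.obj F' ≅ F))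
    (h3 : ∀ F' : ModSite.Mod O_D, A' F' → IsIso (adj.unit.app (SiteCmp.inD O_D F')))
    (B : Set C)
    (hB : ∀ U : C, ∃ (ι : Type u) (Y : ι → C) (g : ∀ i, Y i ⟶ U), Sieve.ofArrows Y g ∈ J U ∧ ∀ i, Y i ∈ B)
    (hA : ∀ V ∈ B, ∃ d : ℕ, ∀ T ∈ J V, ∃ (ι : Type u) (Y : ι → C) (g : ∀ i, Y i ⟶ V),
      (∀ i, T.arrows (g i)) ∧ Sieve.ofArrows Y g ∈ J V ∧
      ∀ (i : ι) (F : ModSite.Mod O_C), A F → ∀ k : ℕ, d < k → Subsingleton (ModSite.HU O_C F k (Y i)))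
    (hEC : ∀ (X : ℕ → DerivedCategory (ModSite.Mod O_D)) (t : ∀ n, X (n + 1) ⟶ X n)
      [HasProduct X], (∀ n, WSerre.cohInPlus A' (X n)) →
      (∀ j : ℤ, ∃ n₀ : ℕ, ∀ n, n₀ ≤ n →
        IsIso ((DerivedCategory.homologyFunctor (ModSite.Mod O_D) j).map (t n))) →
      ∀ (L : DerivedCategory (ModSite.Mod O_D)) (a : ∀ n, L ⟶ X n), CohCx.IsRlimVia X t L a →
      ∀ j : ℤ, ∃ n₀ : ℕ, ∀ n, n₀ ≤ n →
        IsIso ((DerivedCategory.homologyFunctor (ModSite.Mod O_D) j).map (a n))) :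
    (∀ Y : DerivedCategory (ModSite.Mod O_D), WSerre.cohIn A' Y →
      WSerre.cohIn A ((SiteCmp.pullD f).obj Y) ∧ IsIso (adj.unit.app Y)) ∧
    (∀ X : DerivedCategory (ModSite.Mod O_C), WSerre.cohIn A X →
      WSerre.cohIn A' ((SiteCmp.RpushD f).obj X) ∧ IsIso (adj.counit.app X)) := by
  haveI : ∀ X : ℕ → DerivedCategory (ModSite.Mod O_C), HasProduct X := hasProduct_nat O_C
  haveI : ∀ X : ℕ → DerivedCategory (ModSite.Mod O_D), HasProduct X := hasProduct_nat O_D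
  have hRlim : ∀ X : DerivedCategory (ModSite.Mod O_C), WSerre.cohIn A X →
      CohCx.IsRlimVia (CohCx.truncTower X) (CohCx.truncTowerMap X) X (CohCx.toTruncTower X) :=
    fun X hX => Groth.Agent.Lib.Helper8.RlimTrM.main O_C X B hB (fun V hV => by
      obtain ⟨d, hd⟩ := hA V hV
      refine ⟨fun _ => d, fun T hT => ?_⟩
      obtain ⟨ι, Y, g, h1, h2, h3'⟩ := hd T hT
      exact ⟨ι, Y, g, h1, h2, fun i m k hk => h3' i _ (hX (m - k)) k (by
        have hk' : (d : ℤ) < k := hk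
        exact_mod_cast hk')⟩)
  have hEC' := fun (X : ℕ → DerivedCategory (ModSite.Mod O_D)) (t : ∀ n, X (n + 1) ⟶ X n) =>
    hEC X t
  exact ⟨fun Y hY => Groth.Agent.Lib.Helper8.UnbAdj.left f.pull adj A' A h2a h2b h2c h3 hRlim hEC' Y hY,
    fun X hX => Groth.Agent.Lib.Helper8.UnbAdj.right f.pull adj A' A h2a h2b h2c h3 hRlim hEC' X hX⟩

theorem main (f : ModSite.RMor O_C O_D) [PreservesFiniteLimits f.pull] [SiteCmp.HasRpushD f]
    (adj : SiteCmp.pullD f ⊣ SiteCmp.RpushD f)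
    (A : ObjectProperty (ModSite.Mod O_C)) [WSerre.IsWeakSerre A]
    (A' : ObjectProperty (ModSite.Mod O_D)) [WSerre.IsWeakSerre A']
    (h2a : ∀ F' : ModSite.Mod O_D, A' F' → A (f.pull.obj F'))
    (h2b : ∀ F' G' : ModSite.Mod O_D, A' F' → A' G' →
      Function.Bijective (fun φ : F' ⟶ G' => f.pull.map φ))
    (h2c : ∀ F : ModSite.Mod O_C, A F → ∃ F' : ModSite.Mod O_D, A' F' ∧ Nonempty (f.pull.obj F' ≅ F))
    (h3 : ∀ F' : ModSite.Mod O_D, A' F' → IsIso (adj.unit.app (SiteCmp.inD O_D F')))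
    (B : Set C) (B' : Set D)
    (hB : ∀ U : C, ∃ (ι : Type u) (Y : ι → C) (g : ∀ i, Y i ⟶ U), Sieve.ofArrows Y g ∈ J U ∧ ∀ i, Y i ∈ B)
    (hA : ∀ V ∈ B, ∃ d : ℕ, ∀ T ∈ J V, ∃ (ι : Type u) (Y : ι → C) (g : ∀ i, Y i ⟶ V),
      (∀ i, T.arrows (g i)) ∧ Sieve.ofArrows Y g ∈ J V ∧
      ∀ (i : ι) (F : ModSite.Mod O_C), A F → ∀ k : ℕ, d < k → Subsingleton (ModSite.HU O_C F k (Y i)))
    (hB' : ∀ U : D, ∃ (ι : Type u) (Y : ι → D) (g : ∀ i, Y i ⟶ U), Sieve.ofArrows Y g ∈ K U ∧ ∀ i, Y i ∈ B')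
    (hA' : ∀ V ∈ B', ∃ d : ℕ, ∀ T ∈ K V, ∃ (ι : Type u) (Y : ι → D) (g : ∀ i, Y i ⟶ V),
      (∀ i, T.arrows (g i)) ∧ Sieve.ofArrows Y g ∈ K V ∧
      ∀ (i : ι) (F : ModSite.Mod O_D), A' F → ∀ k : ℕ, d < k → Subsingleton (ModSite.HU O_D F k (Y i))) :
    (∀ Y : DerivedCategory (ModSite.Mod O_D), WSerre.cohIn A' Y →
      WSerre.cohIn A ((SiteCmp.pullD f).obj Y) ∧ IsIso (adj.unit.app Y)) ∧
    (∀ X : DerivedCategory (ModSite.Mod O_C), WSerre.cohIn A X →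
      WSerre.cohIn A' ((SiteCmp.RpushD f).obj X) ∧ IsIso (adj.counit.app X)) :=
  main' f adj A A' h2a h2b h2c h3 B hB hA (fun X t _ hK hconst L a hL j =>
    Groth.Agent.Lib.Helper8.ModEvConst.main O_D X t A' B' hB' hA' hK hconst L a hL j)

/-- the variant with the vanishing condition downstairs replaced by vanishing upstairs on the
images `u(V'_i)` (S9080) -/
theorem main_up (f : ModSite.RMor O_C O_D) [PreservesFiniteLimits f.pull] [SiteCmp.HasRpushD f]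
    (adj : SiteCmp.pullD f ⊣ SiteCmp.RpushD f)
    (A : ObjectProperty (ModSite.Mod O_C)) [WSerre.IsWeakSerre A]
    (A' : ObjectProperty (ModSite.Mod O_D)) [WSerre.IsWeakSerre A']
    (h2a : ∀ F' : ModSite.Mod O_D, A' F' → A (f.pull.obj F'))
    (h2b : ∀ F' G' : ModSite.Mod O_D, A' F' → A' G' →
      Function.Bijective (fun φ : F' ⟶ G' => f.pull.map φ))
    (h2c : ∀ F : ModSite.Mod O_C, A F → ∃ F' : ModSite.Mod O_D, A' F' ∧ Nonempty (f.pull.obj F' ≅ F))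
    (h3 : ∀ F' : ModSite.Mod O_D, A' F' → IsIso (adj.unit.app (SiteCmp.inD O_D F')))
    (B : Set C) (B' : Set D)
    (hB : ∀ U : C, ∃ (ι : Type u) (Y : ι → C) (g : ∀ i, Y i ⟶ U), Sieve.ofArrows Y g ∈ J U ∧ ∀ i, Y i ∈ B)
    (hA : ∀ V ∈ B, ∃ d : ℕ, ∀ T ∈ J V, ∃ (ι : Type u) (Y : ι → C) (g : ∀ i, Y i ⟶ V),
      (∀ i, T.arrows (g i)) ∧ Sieve.ofArrows Y g ∈ J V ∧
      ∀ (i : ι) (F : ModSite.Mod O_C), A F → ∀ k : ℕ, d < k → Subsingleton (ModSite.HU O_C F k (Y i)))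
    (hB' : ∀ U : D, ∃ (ι : Type u) (Y : ι → D) (g : ∀ i, Y i ⟶ U), Sieve.ofArrows Y g ∈ K U ∧ ∀ i, Y i ∈ B')
    (hA' : ∀ V ∈ B', ∃ d : ℕ, ∀ T ∈ K V, ∃ (ι : Type u) (Y : ι → D) (g : ∀ i, Y i ⟶ V),
      (∀ i, T.arrows (g i)) ∧ Sieve.ofArrows Y g ∈ K V ∧
      ∀ (i : ι) (F : ModSite.Mod O_C), A F → ∀ k : ℕ, d < k →
        Subsingleton (ModSite.HU O_C F k (f.fn.obj (Y i)))) :
    (∀ Y : DerivedCategory (ModSite.Mod O_D), WSerre.cohIn A' Y →
      WSerre.cohIn A ((SiteCmp.pullD f).obj Y) ∧ IsIso (adj.unit.app Y)) ∧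
    (∀ X : DerivedCategory (ModSite.Mod O_C), WSerre.cohIn A X →
      WSerre.cohIn A' ((SiteCmp.RpushD f).obj X) ∧ IsIso (adj.counit.app X)) := by
  haveI := Groth.Agent.Lib.Helper8.SheafModGroth.enoughInjectives J (ModSite.ringSh O_C)
  haveI := Groth.Agent.Lib.Helper8.SheafModGroth.enoughInjectives K (ModSite.ringSh O_D)
  haveI : HasExt.{u} (ModSite.Mod O_C) := hasExt_of_enoughInjectives _
  haveI : HasExt.{u} (ModSite.Mod O_D) := hasExt_of_enoughInjectives _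
  refine main' f adj A A' h2a h2b h2c h3 B hB hA (fun X t _ hK hconst L a hL j =>
    Groth.Agent.Lib.Helper8.ModEvConst.main' O_D X t A' B' hB' (fun V hV => ?_) hK hconst L a hL j)
  obtain ⟨d, hd⟩ := hA' V hV
  refine ⟨d, fun T hT => ?_⟩
  obtain ⟨ι, Y, g, h1, h2, h3'⟩ := hd T hT
  refine ⟨ι, Y, g, h1, h2, fun i F' hF' k hk => ?_⟩
  apply Groth.Agent.Lib.Helper8.ExtTransfer.ext_subsingleton f.pull adj A' A h2a h3
    (ModSite.freeOn O_D (Y i)) F' hF' k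
  apply Groth.Agent.Lib.Helper8.ModExtFree.subsingleton_ext_of_iso
    (Groth.Agent.Lib.Helper1.ModSiteFree.pullFreeOnIso f (Y i)).symm
  exact Groth.Agent.Lib.Helper8.ModExtFree.subsingleton_ext_freeOn O_C (f.fn.obj (Y i))
    (f.pull.obj F') k (h3' i _ (h2a F' hF') k hk)

end Groth.Agent.Lib.Helper8.SiteCmpUnb
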