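import Groth.Prelude.Def_ModSite
import Groth.Prelude.Def_CohCx
import Groth.Agent.Lib.Helper1.FreeOnMap
import Groth.Agent.Lib.Helper8.DSingleHom

/-!
# Helper8 — `U ↦ Hom_{D(O)}(j_! O_U, K[q])` sheafifies to `H^q(K)` (module version of SheafifyHDU)
-/

universe w u

open CategoryTheory CategoryTheory.Limits Opposite

namespace Groth.Agent.Lib.Helper8.ModHDU

open Groth.Agent.Lib.Helper8 DSingleHom Groth.Agent.Lib.Helper1

variable {C : Type u} [SmallCategory C] {J : GrothendieckTopology C}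
  (O : Sheaf J CommRingCat.{u})

/-- an epimorphism onto `j_! O_U` locally admits sections -/
lemma exists_local_sections {U : C} {P' : ModSite.Mod O}
    (π : P' ⟶ ModSite.freeOn O U) [Epi π] :
    ∃ R ∈ J U, ∀ ⦃V : C⦄ (f : V ⟶ U), R.arrows f →
      ∃ p : ModSite.freeOn O V ⟶ P', p ≫ π = FreeOnMap.map O f := by
  obtain ⟨S, hS, hSf⟩ := FreeOnMap.exists_local_lift O π (FreeOnMap.gen O U)
  refine ⟨S, hS, fun V f hf => ?_⟩
  obtain ⟨t, ht⟩ := hSf f hf
  refine ⟨FreeOnMap.ofSec O t, ?_⟩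
  rw [FreeOnMap.ofSec_comp, ht]
  rfl

variable [HasDerivedCategory.{w} (ModSite.Mod O)]

/-- `Hom_{D(O)}(j_! O_U [0], K[q])` -/
abbrev HDUM (K : DerivedCategory (ModSite.Mod O)) (q : ℤ) (U : C) : Type w :=
  (DerivedCategory.singleFunctor (ModSite.Mod O) 0).obj (ModSite.freeOn O U) ⟶
    (shiftFunctor (DerivedCategory (ModSite.Mod O)) q).obj K

/-- the cohomology sheaf of modules -/
noncomputable abbrev HM (K : DerivedCategory (ModSite.Mod O)) (q : ℤ) : ModSite.Mod O :=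
  (DerivedCategory.homologyFunctor (ModSite.Mod O) q).obj K

/-- restriction of classes -/
noncomputable abbrev res (K : DerivedCategory (ModSite.Mod O)) (q : ℤ) {U V : C} (f : V ⟶ U)
    (φ : HDUM O K q U) : HDUM O K q V :=
  (DerivedCategory.singleFunctor (ModSite.Mod O) 0).map (FreeOnMap.map O f) ≫ φ

variable (K : DerivedCategory (ModSite.Mod O)) (q : ℤ)

/-- `H⁰(K⟦q⟧) ≅ H^q(K)` -/
noncomputable def sh : (DerivedCategory.homologyFunctor (ModSite.Mod O) 0).obj (K⟦q⟧) ≅ HM O K q :=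
  ((DerivedCategory.homologyFunctor (ModSite.Mod O) 0).shiftIso q 0 q (add_zero q)).app K

lemma sh_naturality {K K' : DerivedCategory (ModSite.Mod O)} (κ : K ⟶ K') (q : ℤ) :
    (DerivedCategory.homologyFunctor (ModSite.Mod O) 0).map (κ⟦q⟧') ≫ (sh O K' q).hom =
      (sh O K q).hom ≫ (DerivedCategory.homologyFunctor (ModSite.Mod O) q).map κ :=
  ((DerivedCategory.homologyFunctor (ModSite.Mod O) 0).shiftIso q 0 q
    (add_zero q)).hom.naturality κ

/-- `Hom(P_U[0], K⟦q⟧) → Hom(P_U, H^q K)` -/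
noncomputable def θq (U : C) (φ : HDUM O K q U) : ModSite.freeOn O U ⟶ HM O K q :=
  θ (P := ModSite.freeOn O U) φ ≫ (sh O K q).hom

lemma θq_add (U : C) (φ ψ : HDUM O K q U) : θq O K q U (φ + ψ) = θq O K q U φ + θq O K q U ψ := by
  unfold θq
  rw [← Preadditive.add_comp]
  congr 1
  exact θ_add (P := ModSite.freeOn O U) φ ψ

lemma θq_res {U V : C} (f : V ⟶ U) (φ : HDUM O K q U) :
    θq O K q V (res O K q f φ) = FreeOnMap.map O f ≫ θq O K q U φ := by
  unfold θq
  rw [← Category.assoc]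
  congr 1
  exact θ_precomp (FreeOnMap.map O f) (P := ModSite.freeOn O U) φ

lemma θq_eq_zero_iff (U : C) (φ : HDUM O K q U) :
    θq O K q U φ = 0 ↔ θ (P := ModSite.freeOn O U) φ = 0 := by
  unfold θq
  constructor
  · intro h
    rw [← cancel_mono (sh O K q).hom, h, zero_comp]
  · intro h
    rw [h, zero_comp]

lemma θq_natural {K K' : DerivedCategory (ModSite.Mod O)} (κ : K ⟶ K') (q : ℤ) (U : C)
    (φ : HDUM O K q U) :
    θq O K' q U (φ ≫ κ⟦q⟧') =
      θq O K q U φ ≫ (DerivedCategory.homologyFunctor (ModSite.Mod O) q).map κ := by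
  unfold θq
  let φ' : DerivedCategory.Q.obj (sg (ModSite.freeOn O U)) ⟶ K⟦q⟧ := φ
  have : θ (φ' ≫ κ⟦q⟧') = θ φ' ≫ _ := θ_comp φ' (κ⟦q⟧')
  rw [Category.assoc, ← sh_naturality, ← Category.assoc]
  congr 1

/-- the comparison map on sections -/
noncomputable def αU (U : C) (φ : HDUM O K q U) : (HM O K q).val.obj (op U) :=
  ModSiteFree.homEquiv O U (HM O K q) (θq O K q U φ)

lemma αU_res {U V : C} (f : V ⟶ U) (φ : HDUM O K q U) :
    αU O K q V (res O K q f φ) = (HM O K q).val.map f.op (αU O K q U φ) := by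
  unfold αU
  rw [θq_res, FreeOnMap.homEquiv_map_comp]

lemma αU_natural {K K' : DerivedCategory (ModSite.Mod O)} (κ : K ⟶ K') (q : ℤ) (U : C)
    (φ : HDUM O K q U) :
    αU O K' q U (φ ≫ κ⟦q⟧') =
      ((DerivedCategory.homologyFunctor (ModSite.Mod O) q).map κ).val.app (op U)
        (αU O K q U φ) := by
  unfold αU
  rw [θq_natural, ModSiteFree.homEquiv_comp]

omit [HasDerivedCategory.{w} (ModSite.Mod O)] in
lemma homEquiv_zero (U : C) (M : ModSite.Mod O) :
    ModSiteFree.homEquiv O U M 0 = 0 := by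
  rw [FreeOnMap.homEquiv_eq]
  rfl

lemma αU_zero (U : C) : αU O K q U 0 = 0 := by
  unfold αU
  have : θq O K q U 0 = 0 := by
    have := θq_add O K q U 0 0
    rw [add_zero] at this
    exact left_eq_add.mp this
  rw [this, homEquiv_zero]

lemma θq_eq_zero_of_αU (U : C) (φ : HDUM O K q U) (h : αU O K q U φ = 0) :
    θq O K q U φ = 0 := by
  apply (ModSiteFree.homEquiv O U (HM O K q)).injective
  rw [homEquiv_zero]
  exact h

lemma locally_zero (U : C) (φ : HDUM O K q U) (h : αU O K q U φ = 0) :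
    ∃ R ∈ J U, ∀ ⦃V : C⦄ (f : V ⟶ U), R.arrows f → res O K q f φ = 0 := by
  have h1 := θq_eq_zero_of_αU O K q U φ h
  rw [θq_eq_zero_iff] at h1
  let φ' : DerivedCategory.Q.obj (sg (ModSite.freeOn O U)) ⟶ K⟦q⟧ := φ
  obtain ⟨P', π, hπ, hz⟩ := exists_epi_comp_eq_zero φ' h1
  obtain ⟨R, hR, hRf⟩ := exists_local_sections O π
  refine ⟨R, hR, fun V f hf => ?_⟩
  obtain ⟨p, hp⟩ := hRf f hf
  have key : DerivedCategory.Q.map (sgMap (p ≫ π)) ≫ φ' = 0 := by
    have e : sgMap (p ≫ π) = sgMap p ≫ sgMap π := Functor.map_comp _ _ _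
    rw [e, Functor.map_comp, Category.assoc, hz, comp_zero]
  rw [hp] at key
  exact key

lemma locally_surj (U : C) (s : (HM O K q).val.obj (op U)) :
    ∃ R ∈ J U, ∀ ⦃V : C⦄ (f : V ⟶ U), R.arrows f →
      ∃ ψ : HDUM O K q V, αU O K q V ψ = (HM O K q).val.map f.op s := by
  let t : ModSite.freeOn O U ⟶
      (DerivedCategory.homologyFunctor (ModSite.Mod O) 0).obj (K⟦q⟧) :=
    FreeOnMap.ofSec O s ≫ (sh O K q).inv
  obtain ⟨P', π, hπ, φ', hφ'⟩ := exists_epi_lift t
  obtain ⟨R, hR, hRf⟩ := exists_local_sections O π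
  refine ⟨R, hR, fun V f hf => ?_⟩
  obtain ⟨p, hp⟩ := hRf f hf
  let φV : HDUM O K q V := DerivedCategory.Q.map (sgMap p) ≫ φ'
  refine ⟨φV, ?_⟩
  have h1 : θq O K q V φV = FreeOnMap.map O f ≫ FreeOnMap.ofSec O s := by
    unfold θq
    have : θ (P := ModSite.freeOn O V) φV = p ≫ π ≫ t := by
      rw [← hφ']
      exact θ_precomp p φ'
    rw [this, ← Category.assoc p, hp]
    simp only [t, Category.assoc, Iso.inv_hom_id, Category.comp_id]
  unfold αU
  rw [h1, FreeOnMap.map_ofSec, Equiv.apply_symm_apply]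

end Groth.Agent.Lib.Helper8.ModHDU
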