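import Groth.Prelude.Def_ModSite
import Groth.Prelude.Def_WeakSerre
import Groth.Agent.Lib.Helper8.ModHDU
import Groth.Agent.Lib.Helper8.ModSectInj
import Groth.Agent.Lib.Helper8.ModEvConst
import Groth.Agent.Lib.Helper8.RlimTrM
import Groth.Agent.Lib.Helper8.AdjWayOut2

/-!
# Helper8 — the unit `F' ⟶ R Φ F'` is an isomorphism for a module `F'` on a ringed site when `Φ` is
fully faithful on maps from free modules to `F'` and `Ext^k(Φ j_!O_V, Φ F') = 0` (`k > 0`) on a covering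
class (the vanishing of `R^p ε_*`, S9071)
-/

set_option autoImplicit false
set_option linter.unusedSectionVars false

universe w₁ w₂ w' u

open CategoryTheory CategoryTheory.Limits Pretriangulated DerivedCategory Opposite

namespace Groth.Agent.Lib.Helper8.UnitSingle

open Groth.Agent.Lib.Helper8.ModHDU Groth.Agent.Lib.Helper1 Groth.Agent.Lib.Helper8.AdjWayOut

variable {C : Type u} [SmallCategory C] {J : GrothendieckTopology C}
  (O : Sheaf J CommRingCat.{u})

lemma freeOnMap_comp {U V W : C} (f : V ⟶ U) (g : W ⟶ V) :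
    FreeOnMap.map O (g ≫ f) = FreeOnMap.map O g ≫ FreeOnMap.map O f := by
  apply (ModSiteFree.homEquiv O W (ModSite.freeOn O U)).injective
  rw [FreeOnMap.homEquiv_map_comp]
  unfold FreeOnMap.map
  rw [Equiv.apply_symm_apply, Equiv.apply_symm_apply]
  exact Groth.Agent.Lib.Helper8.ModSectInj.map_comp_apply' O _ f g _

lemma top_cover (U : C) : ∃ (ι : Type u) (Y : ι → C) (f : ∀ i, Y i ⟶ U),
    Sieve.ofArrows Y f ∈ J U ∧ ∀ i, Y i ∈ (Set.univ : Set C) := by
  refine ⟨PUnit, fun _ => U, fun _ => 𝟙 U, ?_, fun _ => trivial⟩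
  refine J.superset_covering ?_ (J.top_mem U)
  intro V f _
  exact ⟨U, f, 𝟙 U, Presieve.ofArrows.mk PUnit.unit, by simp⟩

/-- a morphism of modules inducing bijections on `Hom(j_! O_U, -)` is an isomorphism -/
lemma isIso_of_bijective_freeOn {F G : ModSite.Mod O} (g : F ⟶ G)
    (h : ∀ U : C, Function.Bijective (fun φ : ModSite.freeOn O U ⟶ F => φ ≫ g)) : IsIso g := by
  have key : ∀ (U : C) (m : F.val.obj (op U)),
      g.val.app (op U) m = ModSiteFree.homEquiv O U G (FreeOnMap.ofSec O m ≫ g) := by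
    intro U m
    rw [ModSiteFree.homEquiv_comp, Equiv.apply_symm_apply]
  haveI : Mono g := by
    apply Groth.Agent.Lib.Helper8.RlimTrM.mono_of_injective_on O Set.univ (top_cover (J := J))
    intro V _ m m' hm
    rw [key, key] at hm
    have := (h V).1 ((ModSiteFree.homEquiv O V G).injective hm)
    exact (ModSiteFree.homEquiv O V F).symm.injective this
  haveI : Epi g := by
    apply Groth.Agent.Lib.Helper8.ModEvConst.epi_of_locally_surjective O
    intro U s
    refine ⟨⊤, J.top_mem U, fun W f _ => ?_⟩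
    obtain ⟨φ, hφ⟩ := (h W).2 (FreeOnMap.ofSec O (G.val.map f.op s))
    refine ⟨ModSiteFree.homEquiv O W F φ, ?_⟩
    rw [← ModSiteFree.homEquiv_comp]
    have hφ' : φ ≫ g = FreeOnMap.ofSec O (G.val.map f.op s) := hφ
    rw [hφ', Equiv.apply_symm_apply]
  exact isIso_of_mono_of_epi g

variable [HasDerivedCategory.{w₁} (ModSite.Mod O)]

/-- a cohomology sheaf all of whose local classes are locally zero vanishes -/
lemma isZero_HM_of_locally_zero (K : DerivedCategory (ModSite.Mod O)) (q : ℤ)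
    (h : ∀ (U : C) (φ : HDUM O K q U), ∃ R ∈ J U, ∀ ⦃V : C⦄ (f : V ⟶ U), R.arrows f →
      res O K q f φ = 0) : IsZero (HM O K q) := by
  have hs : ∀ (U : C) (s : (HM O K q).val.obj (op U)), s = 0 := by
    intro U s
    obtain ⟨R₁, hR₁, h₁⟩ := locally_surj O K q U s
    refine FreeOnMap.sec_ext O _ R₁ hR₁ _ _ (fun V f hf => ?_)
    obtain ⟨ψ, hψ⟩ := h₁ f hf
    obtain ⟨R₂, hR₂, h₂⟩ := h V ψ
    refine FreeOnMap.sec_ext O _ R₂ hR₂ _ _ (fun W g hg => ?_)
    have z1 : (HM O K q).val.map f.op (0 : (HM O K q).val.obj (op U)) = 0 :=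
      map_zero ((HM O K q).val.map f.op).hom
    have z2 : (HM O K q).val.map g.op (0 : (HM O K q).val.obj (op V)) = 0 :=
      map_zero ((HM O K q).val.map g.op).hom
    rw [← hψ, ← αU_res, h₂ g hg, αU_zero]
    exact (Eq.trans (congrArg _ z1) z2).symm
  rw [IsZero.iff_id_eq_zero]
  apply SheafOfModules.hom_ext
  apply PresheafOfModules.hom_ext
  intro U
  ext x
  exact (hs U.unop x).trans (hs U.unop _).symm

variable {ℬ : Type (u + 1)} [Category.{u} ℬ] [Abelian ℬ] [HasDerivedCategory.{w₂} ℬ]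
  (Φ : ModSite.Mod O ⥤ ℬ) [Φ.Additive] [PreservesFiniteLimits Φ] [PreservesFiniteColimits Φ]
  {R : DerivedCategory ℬ ⥤ DerivedCategory (ModSite.Mod O)} (adj : Φ.mapDerivedCategory ⊣ R)
  [HasExt.{w'} ℬ]

include adj in
lemma subsingleton_HDUM (F' : ModSite.Mod O) (V : C) (k : ℕ)
    (hV : Subsingleton (Abelian.Ext.{w'} (Φ.obj (ModSite.freeOn O V)) (Φ.obj F') k)) :
    Subsingleton (HDUM O (R.obj (Φ.mapDerivedCategory.obj
      ((singleFunctor (ModSite.Mod O) 0).obj F'))) (k : ℤ) V) := by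
  letI := adj.rightAdjointCommShift ℤ
  let Y : DerivedCategory ℬ := Φ.mapDerivedCategory.obj ((singleFunctor (ModSite.Mod O) 0).obj F')
  let P : DerivedCategory (ModSite.Mod O) :=
    (singleFunctor (ModSite.Mod O) 0).obj (ModSite.freeOn O V)
  let e₁ : Φ.mapDerivedCategory.obj P ≅ (singleFunctor ℬ 0).obj (Φ.obj (ModSite.freeOn O V)) :=
    (Φ.mapDerivedCategorySingleFunctor 0).app _
  let e₂ : Y⟦(k : ℤ)⟧ ≅ ((singleFunctor ℬ 0).obj (Φ.obj F'))⟦(k : ℤ)⟧ :=
    (shiftFunctor _ (k : ℤ)).mapIso ((Φ.mapDerivedCategorySingleFunctor 0).app F')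
  let e₃ : R.obj (Y⟦(k : ℤ)⟧) ≅ (R.obj Y)⟦(k : ℤ)⟧ := (R.commShiftIso (k : ℤ)).app Y
  have hS : Subsingleton (Φ.mapDerivedCategory.obj P ⟶ Y⟦(k : ℤ)⟧) := by
    refine ⟨fun x y => ?_⟩
    have h1 := hV.elim (Abelian.Ext.homEquiv.symm (e₁.inv ≫ x ≫ e₂.hom))
      (Abelian.Ext.homEquiv.symm (e₁.inv ≫ y ≫ e₂.hom))
    have h2 := Abelian.Ext.homEquiv.symm.injective h1
    rw [cancel_epi] at h2
    exact (cancel_mono e₂.hom).1 h2
  refine ⟨fun x y => ?_⟩
  have h1 := hS.elim ((adj.homEquiv P (Y⟦(k : ℤ)⟧)).symm (x ≫ e₃.inv))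
    ((adj.homEquiv P (Y⟦(k : ℤ)⟧)).symm (y ≫ e₃.inv))
  have h2 := (adj.homEquiv P (Y⟦(k : ℤ)⟧)).symm.injective h1
  exact (cancel_mono e₃.inv).1 h2

include adj in
/-- postcomposition with the unit is bijective on maps from `j_! O_U` -/
lemma bijective_comp_unit (F' : ModSite.Mod O) (U : C)
    (ha : Function.Bijective (fun φ : ModSite.freeOn O U ⟶ F' => Φ.map φ)) :
    Function.Bijective (fun ψ : (singleFunctor (ModSite.Mod O) 0).obj (ModSite.freeOn O U) ⟶
      (singleFunctor (ModSite.Mod O) 0).obj F' =>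
        ψ ≫ adj.unit.app ((singleFunctor (ModSite.Mod O) 0).obj F')) := by
  let ν := Φ.mapDerivedCategorySingleFunctor 0
  have hν : ∀ φ : ModSite.freeOn O U ⟶ F',
      Φ.mapDerivedCategory.map ((singleFunctor (ModSite.Mod O) 0).map φ) =
        ν.hom.app _ ≫ (singleFunctor ℬ 0).map (Φ.map φ) ≫ ν.inv.app _ := by
    intro φ
    have := ν.hom.naturality φ
    simp only [Functor.comp_obj, Functor.comp_map] at this
    rw [← Category.assoc, ← this, Category.assoc, Iso.hom_inv_id_app]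
    exact (Category.comp_id _).symm
  have hunit : ∀ ψ : (singleFunctor (ModSite.Mod O) 0).obj (ModSite.freeOn O U) ⟶
      (singleFunctor (ModSite.Mod O) 0).obj F',
      ψ ≫ adj.unit.app ((singleFunctor (ModSite.Mod O) 0).obj F') =
        adj.homEquiv _ _ (Φ.mapDerivedCategory.map ψ) := by
    intro ψ
    rw [Adjunction.homEquiv_unit]
    exact adj.unit.naturality ψ
  constructor
  · intro ψ ψ' hψ
    have hψ' : ψ ≫ adj.unit.app ((singleFunctor (ModSite.Mod O) 0).obj F') =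
      ψ' ≫ adj.unit.app ((singleFunctor (ModSite.Mod O) 0).obj F') := hψ
    rw [hunit, hunit] at hψ'
    have h1 := (adj.homEquiv _ _).injective hψ'
    obtain ⟨φ, rfl⟩ := (singleFunctor (ModSite.Mod O) 0).map_surjective ψ
    obtain ⟨φ', rfl⟩ := (singleFunctor (ModSite.Mod O) 0).map_surjective ψ'
    rw [hν, hν, cancel_epi, cancel_mono] at h1
    have h2 := (singleFunctor ℬ 0).map_injective h1
    rw [ha.1 h2]
  · intro χ
    let ξ := (adj.homEquiv _ _).symm χ
    obtain ⟨β, hβ⟩ := (singleFunctor ℬ 0).map_surjective (ν.inv.app _ ≫ ξ ≫ ν.hom.app _)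
    obtain ⟨φ, hφ⟩ := ha.2 β
    have hφ' : Φ.map φ = β := hφ
    refine ⟨(singleFunctor (ModSite.Mod O) 0).map φ, ?_⟩
    change (singleFunctor (ModSite.Mod O) 0).map φ ≫
      adj.unit.app ((singleFunctor (ModSite.Mod O) 0).obj F') = χ
    rw [hunit, hν, hφ', hβ]
    simp only [Category.assoc, Iso.hom_inv_id_app, Iso.hom_inv_id_app_assoc]
    erw [Category.comp_id]
    exact (adj.homEquiv _ _).apply_symm_apply χ

include adj in
theorem isIso_unit_single (F' : ModSite.Mod O)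
    (ha : ∀ U : C, Function.Bijective (fun φ : ModSite.freeOn O U ⟶ F' => Φ.map φ))
    (B : Set C)
    (hB : ∀ U : C, ∃ (ι : Type u) (Y : ι → C) (g : ∀ i, Y i ⟶ U),
      Sieve.ofArrows Y g ∈ J U ∧ ∀ i, Y i ∈ B)
    (hb : ∀ V ∈ B, ∀ k : ℕ, 0 < k →
      Subsingleton (Abelian.Ext.{w'} (Φ.obj (ModSite.freeOn O V)) (Φ.obj F') k)) :
    IsIso (adj.unit.app ((singleFunctor (ModSite.Mod O) 0).obj F')) := by
  let X0 : DerivedCategory (ModSite.Mod O) := (singleFunctor (ModSite.Mod O) 0).obj F'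
  let Y : DerivedCategory ℬ := Φ.mapDerivedCategory.obj X0
  let K : DerivedCategory (ModSite.Mod O) := R.obj Y
  haveI hGE : K.IsGE 0 := isGE_right adj (hLle Φ) Y 0 (hLge Φ X0 0 inferInstance)
  have hpos : ∀ q : ℤ, 0 < q → IsZero (HM O K q) := by
    intro q hq
    obtain ⟨k, rfl⟩ : ∃ k : ℕ, q = k := ⟨q.toNat, by omega⟩
    apply isZero_HM_of_locally_zero
    intro U φ
    obtain ⟨ι, Z, g, hcov, hZ⟩ := hB U
    refine ⟨Sieve.ofArrows Z g, hcov, ?_⟩
    rintro V f ⟨W, a, b, ⟨i⟩, rfl⟩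
    haveI := subsingleton_HDUM O Φ adj F' (Z i) k (hb _ (hZ i) k (by omega))
    have h0 : res O K k (g i) φ = 0 := Subsingleton.elim _ _
    change (singleFunctor (ModSite.Mod O) 0).map (FreeOnMap.map O (a ≫ g i)) ≫ φ = 0
    rw [freeOnMap_comp, Functor.map_comp, Category.assoc]
    change _ ≫ res O K k (g i) φ = 0
    rw [h0, comp_zero]
  haveI hLE : K.IsLE 0 := (isLE_iff K 0).2 (fun i hi => hpos i hi)
  obtain ⟨G', ⟨e⟩⟩ := exists_iso_singleFunctor_obj_of_isGE_of_isLE K 0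
  let η := adj.unit.app X0
  obtain ⟨g, hg⟩ := (singleFunctor (ModSite.Mod O) 0).map_surjective (η ≫ e.hom)
  suffices IsIso g by
    have : η = (singleFunctor (ModSite.Mod O) 0).map g ≫ e.inv := by
      rw [hg, Category.assoc, Iso.hom_inv_id, Category.comp_id]
    change IsIso η
    rw [this]
    infer_instance
  apply isIso_of_bijective_freeOn
  intro U
  have hb2 := bijective_comp_unit O Φ adj F' U (ha U)
  constructor
  · intro φ φ' h
    have h' : φ ≫ g = φ' ≫ g := h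
    have h1 := congrArg (singleFunctor (ModSite.Mod O) 0).map h'
    rw [Functor.map_comp, Functor.map_comp, hg, ← Category.assoc, ← Category.assoc,
      cancel_mono] at h1
    exact (singleFunctor (ModSite.Mod O) 0).map_injective (hb2.1 h1)
  · intro χ
    obtain ⟨ψ, hψ⟩ := hb2.2 ((singleFunctor (ModSite.Mod O) 0).map χ ≫ e.inv)
    obtain ⟨φ, rfl⟩ := (singleFunctor (ModSite.Mod O) 0).map_surjective ψ
    refine ⟨φ, ?_⟩
    apply (singleFunctor (ModSite.Mod O) 0).map_injective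
    have hψ' : (singleFunctor (ModSite.Mod O) 0).map φ ≫ η =
      (singleFunctor (ModSite.Mod O) 0).map χ ≫ e.inv := hψ
    change (singleFunctor (ModSite.Mod O) 0).map (φ ≫ g) = _
    rw [Functor.map_comp, hg, ← Category.assoc, hψ', Category.assoc, Iso.inv_hom_id,
      Category.comp_id]

end Groth.Agent.Lib.Helper8.UnitSingle
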