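import Groth.Prelude.Def_SiteCmp
import Groth.Prelude.Def_WeakSerre
import Groth.Agent.Lib.Helper8.SiteCmpUnb
import Groth.Agent.Lib.Helper8.EpsFF
import Groth.Agent.Lib.Helper8.EpsAb
import Groth.Agent.Lib.Helper8.EpsEpi
import Groth.Agent.Lib.Helper8.UnitSingle

/-!
# Helper8 — comparison of two topologies: `ε^*`, `Rε_*` are inverse equivalences `D_A(O_τ') ≃ D_A(O_τ)`
(S9071)
-/

set_option autoImplicit false

universe u

open CategoryTheory CategoryTheory.Limits Opposite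

attribute [local instance] HasDerivedCategory.standard

namespace Groth.Agent.Lib.Helper8.EpsMain

open Groth.Agent.Lib.Helper8

theorem main {C : Type u} [SmallCategory C] {J J' : GrothendieckTopology C} (h : J' ≤ J)
    (O : Sheaf J CommRingCat.{u})
    [PreservesFiniteLimits (SiteCmp.eps h O).pull] [SiteCmp.HasRpushD (SiteCmp.eps h O)]
    (adj : SiteCmp.pullD (SiteCmp.eps h O) ⊣ SiteCmp.RpushD (SiteCmp.eps h O))
    (A : ObjectProperty (ModSite.Mod O)) [WSerre.IsWeakSerre A] (B : Set C)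
    (h3 : ∀ U : C, ∃ (ι : Type u) (Y : ι → C) (g : ∀ i, Y i ⟶ U),
      Sieve.ofArrows Y g ∈ J' U ∧ ∀ i, Y i ∈ B)
    (h4 : ∀ U ∈ B, ∀ F : ModSite.Mod O, A F → ∀ p : ℕ, 0 < p →
      Subsingleton (ModSite.HU O F p U)) :
    WSerre.IsWeakSerre (A.map (SiteCmp.eps h O).push) ∧
    (∀ Y : DerivedCategory (ModSite.Mod (SiteCmp.epsRing h O)),
      WSerre.cohIn (A.map (SiteCmp.eps h O).push) Y →
      WSerre.cohIn A ((SiteCmp.pullD (SiteCmp.eps h O)).obj Y) ∧ IsIso (adj.unit.app Y)) ∧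
    (∀ X : DerivedCategory (ModSite.Mod O), WSerre.cohIn A X →
      WSerre.cohIn (A.map (SiteCmp.eps h O).push) ((SiteCmp.RpushD (SiteCmp.eps h O)).obj X) ∧
      IsIso (adj.counit.app X)) := by
  haveI := SheafModGroth.enoughInjectives J (ModSite.ringSh O)
  haveI : HasExt.{u} (ModSite.Mod O) := hasExt_of_enoughInjectives _
  have hepi : ∀ S : ShortComplex (ModSite.Mod O), S.ShortExact → A S.X₁ → A S.X₂ → A S.X₃ →
      Epi ((SiteCmp.eps h O).push.map S.g) := fun S hS h1 _ _ =>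
    EpsEpi.epi_push h O B h3 S hS (fun U hU => h4 U hU S.X₁ h1 1 one_pos)
  haveI hWS : WSerre.IsWeakSerre (A.map (SiteCmp.eps h O).push) :=
    EpsAb.isWeakSerre_map (SiteCmp.eps h O).adj A hepi
  refine ⟨hWS, ?_⟩
  have h2a := EpsAb.h2a (SiteCmp.eps h O).adj A
  have h2b := EpsAb.h2b (SiteCmp.eps h O).adj A
  have h2c := EpsAb.h2c (SiteCmp.eps h O).adj A
  have hB : ∀ U : C, ∃ (ι : Type u) (Y : ι → C) (g : ∀ i, Y i ⟶ U),
      Sieve.ofArrows Y g ∈ J U ∧ ∀ i, Y i ∈ B := fun U => by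
    obtain ⟨ι, Y, g, hc, hY⟩ := h3 U
    exact ⟨ι, Y, g, h _ hc, hY⟩
  have hK : ∀ F' : ModSite.Mod (SiteCmp.epsRing h O), (A.map (SiteCmp.eps h O).push) F' →
      IsIso (adj.unit.app (SiteCmp.inD (SiteCmp.epsRing h O) F')) := by
    intro F' hF'
    refine UnitSingle.isIso_unit_single.{u+1, u+1, u, u} (SiteCmp.epsRing h O) (SiteCmp.eps h O).pull adj
      F' (fun U => ?_) B h3 (fun V hV k hk => ?_)
    · haveI := EpsAb.isIso_unit (SiteCmp.eps h O).adj A F' hF'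
      exact EpsAb.bijective_map_of_isIso_unit (SiteCmp.eps h O).adj _ F'
    · apply ModExtFree.subsingleton_ext_of_iso
        (Groth.Agent.Lib.Helper1.ModSiteFree.pullFreeOnIso (SiteCmp.eps h O) V).symm
      exact ModExtFree.subsingleton_ext_freeOn O V ((SiteCmp.eps h O).pull.obj F') k
        (h4 V hV _ (h2a F' hF') k hk)
  refine SiteCmpUnb.main_up (SiteCmp.eps h O) adj A (A.map (SiteCmp.eps h O).push) h2a h2b h2c hK
    B B hB (fun V _ => ⟨0, fun T hT => ?_⟩) h3 (fun V _ => ⟨0, fun T hT => ?_⟩)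
  · obtain ⟨ι, Y, f, hT', hc, hY⟩ := RlimTrM.exists_refinement B hB V T hT
    exact ⟨ι, Y, f, hT', hc, fun i F hF k hk => h4 _ (hY i) F hF k hk⟩
  · obtain ⟨ι, Y, f, hT', hc, hY⟩ := RlimTrM.exists_refinement B h3 V T hT
    exact ⟨ι, Y, f, hT', hc, fun i F hF k hk => h4 _ (hY i) F hF k hk⟩

end Groth.Agent.Lib.Helper8.EpsMain
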