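import Groth.Prelude.Def_W4stkcategoriessitesEss
import Mathlib.CategoryTheory.Limits.Types.Filtered
import Mathlib.CategoryTheory.Yoneda

/-!
# Essentially constant ind-objects from hom-colimit bijections
-/

set_option linter.style.haveILetI false
set_option linter.unusedSectionVars false

namespace Groth.Agent.Lib.Helper8.EssConstInd

open CategoryTheory Category Limits Opposite

universe v u

variable {I : Type v} [SmallCategory I] [IsFiltered I] {C : Type u} [Category.{v} C]
  (M : I ⥤ C) (c : Cocone M)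

lemma desc_ι (W : C) (i : I) (f : W ⟶ M.obj i) :
    colimit.desc (M ⋙ coyoneda.obj (op W)) ((coyoneda.obj (op W)).mapCocone c)
      (colimit.ι (M ⋙ coyoneda.obj (op W)) i f) = f ≫ c.ι.app i := by
  simp

theorem main
    (h : ∀ W : C, Function.Bijective (colimit.desc (M ⋙ coyoneda.obj (op W))
      ((coyoneda.obj (op W)).mapCocone c))) :
    CatLim.IsEssConstInd M c := by
  obtain ⟨x, hx⟩ := (h c.pt).2 (𝟙 c.pt)
  obtain ⟨i, s, rfl⟩ := Types.jointly_surjective' x
  have hs : s ≫ c.ι.app i = 𝟙 c.pt := by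
    rw [← desc_ι M c c.pt i s]; exact hx
  refine ⟨i, s, hs, fun j => ?_⟩
  have heq : colimit.ι (M ⋙ coyoneda.obj (op (M.obj j))) j (𝟙 (M.obj j)) =
      colimit.ι (M ⋙ coyoneda.obj (op (M.obj j))) i (c.ι.app j ≫ s) := by
    apply (h (M.obj j)).1
    rw [desc_ι, desc_ι, assoc, hs]
    simp
  obtain ⟨k, b, a, hk⟩ := (Types.FilteredColimit.colimit_eq_iff _).1 heq
  refine ⟨k, a, b, ?_⟩
  simpa using hk

end Groth.Agent.Lib.Helper8.EssConstInd
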