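import Groth.Agent.Lib.Helper8.EssRes

/-!
# Helper8: S11161, part 2 (extension to `ℤ`-indexed complexes and the derived category)
-/

namespace Groth.Agent.Lib.Helper8.EssRes2

open CategoryTheory Limits HomologicalComplex

section ExtendMap

variable {C D : Type*} [Category C] [Category D] [Preadditive C] [Preadditive D]
  [HasZeroObject C] [HasZeroObject D] (F : C ⥤ D) [F.Additive]
  {ι ι' : Type*} {c : ComplexShape ι} {c' : ComplexShape ι'}
  (K : HomologicalComplex C c) (e : c.Embedding c')

/-- the comparison isomorphisms on the terms of an extension -/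
noncomputable def mapXIso :
    ∀ o : Option ι, F.obj (extend.X K o) ≅ extend.X ((F.mapHomologicalComplex c).obj K) o
  | none => F.mapZeroObject
  | some _ => Iso.refl _

lemma map_d_mapXIso (o o' : Option ι) :
    (mapXIso F K o).hom ≫ extend.d ((F.mapHomologicalComplex c).obj K) o o' =
      F.map (extend.d K o o') ≫ (mapXIso F K o').hom := by
  rcases o with _ | i
  · have h1 : extend.d K none o' = 0 := rfl
    have h2 : extend.d ((F.mapHomologicalComplex c).obj K) none o' = 0 := rfl
    rw [h1, h2, F.map_zero, zero_comp, comp_zero]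
  · rcases o' with _ | j
    · have h1 : extend.d K (some i) none = 0 := rfl
      have h2 : extend.d ((F.mapHomologicalComplex c).obj K) (some i) none = 0 := rfl
      rw [h1, h2, F.map_zero, zero_comp, comp_zero]
    · have h1 : extend.d K (some i) (some j) = K.d i j := rfl
      have h2 : extend.d ((F.mapHomologicalComplex c).obj K) (some i) (some j) =
        F.map (K.d i j) := rfl
      rw [h1, h2]
      exact (Category.id_comp _).trans (Category.comp_id _).symm

/-- extension of complexes commutes with additive functors -/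
noncomputable def extendMapIso :
    (F.mapHomologicalComplex c').obj (K.extend e) ≅
      ((F.mapHomologicalComplex c).obj K).extend e :=
  Hom.isoOfComponents (fun i' => mapXIso F K (e.r i'))
    (fun i' j' _ => map_d_mapXIso F K (e.r i') (e.r j'))

end ExtendMap

section Homology

variable {A : Type*} [Category A] [Abelian A] (L : CochainComplex A ℕ)

/-- `Z⁰` of an `ℕ`-indexed cochain complex as a kernel -/
noncomputable def cyclesZeroIso : L.cycles 0 ≅ kernel (L.d 0 1) where
  hom := kernel.lift _ (L.iCycles 0) (L.iCycles_d 0 1)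
  inv := L.liftCycles (kernel.ι _) 1 (by simp) (kernel.condition _)
  hom_inv_id := by rw [← cancel_mono (L.iCycles 0)]; simp
  inv_hom_id := by rw [← cancel_mono (kernel.ι _)]; simp

/-- `H⁰` of an `ℕ`-indexed cochain complex as a kernel -/
noncomputable def homologyZeroIso : L.homology 0 ≅ kernel (L.d 0 1) :=
  (L.isoHomologyπ 0 0 (by simp) (L.shape _ _ (by simp))).symm ≪≫ cyclesZeroIso L

/-- `Hⁿ⁺¹` of an `ℕ`-indexed cochain complex as the explicit kernel of the map from the cokernel -/
noncomputable def homologySuccIso (n : ℕ) : L.homology (n + 1) ≅ EssRes.Hc L n :=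
  L.homologyIsoSc' n (n + 1) (n + 1 + 1) (by simp) (by simp) ≪≫
    (ShortComplex.RightHomologyData.ofHasCokernelOfHasKernel
      (L.sc' n (n + 1) (n + 1 + 1))).homologyIso

end Homology

section Main

universe w' w v' v u' u

variable {A' : Type u'} [Category.{v'} A'] [Abelian A'] [HasDerivedCategory.{w'} A']
    {A : Type u} [Category.{v} A] [Abelian A] [HasDerivedCategory.{w} A]
    (ι : A' ⥤ A) [ι.Additive] [PreservesFiniteLimits ι] [PreservesFiniteColimits ι]
    [ι.Full] [ι.Faithful]

open DerivedCategory EssRes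

theorem exists_resolution
    (hext : ∀ S : ShortComplex A, S.ShortExact → ι.essImage S.X₁ → ι.essImage S.X₃ →
      ι.essImage S.X₂)
    (hinj : ∀ X' : A', ∃ (Y' : A') (i : X' ⟶ Y'), Mono i ∧ Injective (ι.obj Y'))
    (Z : DerivedCategory A) (a : ℤ) [Z.IsGE a]
    (hZ : ∀ i : ℤ, ι.essImage ((DerivedCategory.homologyFunctor A i).obj Z)) :
    ∃ (I : CochainComplex A' ℤ), I.IsStrictlyGE a ∧ (∀ n : ℤ, Injective (ι.obj (I.X n))) ∧
      Nonempty (ι.mapDerivedCategory.obj (DerivedCategory.Q.obj I) ≅ Z) := by
  obtain ⟨K, _, ⟨e₀⟩⟩ := DerivedCategory.exists_iso_Q_obj_of_isGE Z a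
  have hKa : K.IsGE a := inferInstance
  have hq : QuasiIso (K.πTruncGE a) := (K.quasiIso_πTruncGE_iff a).2 hKa
  let e := ComplexShape.embeddingUpIntGE a
  let L : CochainComplex A ℕ := K.truncGE' e
  have hL : ∀ k : ℕ, ι.essImage (L.homology k) := fun k => by
    have i1 : (DerivedCategory.homologyFunctor A (e.f k)).obj Z ≅ K.homology (e.f k) :=
      (DerivedCategory.homologyFunctor A (e.f k)).mapIso e₀ ≪≫
        (DerivedCategory.homologyFunctorFactors A (e.f k)).app K
    have i2 : K.homology (e.f k) ≅ (K.truncGE a).homology (e.f k) :=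
      isoOfQuasiIsoAt (K.πTruncGE a) (e.f k)
    have i3 : (K.truncGE a).homology (e.f k) ≅ L.homology k := L.extendHomologyIso e rfl
    exact Functor.essImage.ofIso (i1 ≪≫ i2 ≪≫ i3) (hZ (e.f k))
  let D : Input ι :=
    { L := L
      hext := hext
      hinj := hinj
      h0 := Functor.essImage.ofIso (homologyZeroIso L) (hL 0)
      hH := fun n => Functor.essImage.ofIso (homologySuccIso L n) (hL (n + 1)) }
  refine ⟨(Ic D).extend e, ?_, ?_, ?_⟩
  · infer_instance
  · intro n
    by_cases hn : n < a
    · have hz : IsZero (((Ic D).extend e).X n) :=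
        CochainComplex.isZero_of_isStrictlyGE ((Ic D).extend e) a n hn
      exact (ι.map_isZero hz).injective
    · obtain ⟨k, rfl⟩ : ∃ k : ℕ, n = a + k := ⟨(n - a).toNat, by omega⟩
      have i1 : ((Ic D).extend e).X (a + k) ≅ Ix D k := (Ic D).extendXIso e rfl
      exact Injective.of_iso (ι.mapIso i1).symm (injective_Ix D k)
  · have j1 : ι.mapDerivedCategory.obj (Q.obj ((Ic D).extend e)) ≅
        Q.obj ((ι.mapHomologicalComplex (ComplexShape.up ℤ)).obj ((Ic D).extend e)) :=
      ι.mapDerivedCategoryFactors.app _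
    have j2 : Q.obj ((ι.mapHomologicalComplex (ComplexShape.up ℤ)).obj ((Ic D).extend e)) ≅
        Q.obj ((JC D).extend e) := Q.mapIso (extendMapIso ι (Ic D) e)
    have j3 : Q.obj (L.extend e) ≅ Q.obj ((JC D).extend e) :=
      asIso (Q.map (extendMap (φc D) e))
    have hq' : IsIso (Q.map (K.πTruncGE a)) := (isIso_Q_map_iff_quasiIso A _).2 hq
    have j4 : Q.obj K ≅ Q.obj (K.truncGE a) := asIso (Q.map (K.πTruncGE a))
    have j4' : Q.obj K ≅ Q.obj (L.extend e) := j4
    exact ⟨j1 ≪≫ j2 ≪≫ j3.symm ≪≫ j4'.symm ≪≫ e₀.symm⟩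

end Main

end Groth.Agent.Lib.Helper8.EssRes2
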