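import Mathlib
import Groth.Agent.Lib.Helper8.Ex1
import Groth.Agent.Lib.Helper8.Bid8

/-! # Helper8 — Ex2: localizations of rings with dualizing complexes (`isDualizing_ε_of_isLocalization`);
algebras essentially of finite type over a ring with a dualizing complex have one (S0377). -/

set_option autoImplicit false

universe u

open CategoryTheory CategoryTheory.Limits CategoryTheory.Pretriangulated Opposite DerivedCategory

attribute [local instance] HasDerivedCategory.standard

namespace Groth.Agent.Lib.Helper8.Bidual

open Groth.Agent.Lib.Helper8 Groth.Agent.Lib.Helper16.FlatBC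

section Loc

variable {C B : Type u} [CommRing C] [CommRing B] [Algebra C B] [IsNoetherianRing C]
  [Module.Flat C B]

/-- a localization of a ring with a dualizing complex has a dualizing complex -/
theorem isDualizing_ε_of_isLocalization (M : Submonoid C) [IsLocalization M B]
    (ω : Dual.D C) (hω : Dual.IsDualizing C ω) :
    Dual.IsDualizing B ((ε (algebraMap C B)).obj ω) := by
  haveI : IsNoetherianRing B := IsLocalization.isNoetherianRing M B inferInstance
  refine EFB.isDualizing_ε_of_maximal_extended (fun n _ => ⟨n.comap (algebraMap C B), ?_⟩) ω hω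
  exact IsLocalization.map_under M B n

end Loc

section Ess

variable (A : Type u) [CommRing A] [IsNoetherianRing A]

/-- S0377 -/
theorem exists_isDualizing_of_essFiniteType (ω : Dual.D A) (hω : Dual.IsDualizing A ω)
    (B : Type u) [CommRing B] [Algebra A B] [Algebra.EssFiniteType A B] :
    ∃ ω' : Dual.D B, Dual.IsDualizing B ω' := by
  obtain ⟨n, f, hf⟩ := Algebra.FiniteType.iff_quotient_mvPolynomial''.1
    (inferInstance : Algebra.FiniteType A (Algebra.EssFiniteType.subalgebra A B))
  have hP := isDualizing_ε_mvPolynomial ω hω n
  let _ : Algebra (MvPolynomial (Fin n) A) (Algebra.EssFiniteType.subalgebra A B) :=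
    f.toRingHom.toAlgebra
  haveI : Module.Finite (MvPolynomial (Fin n) A) (Algebra.EssFiniteType.subalgebra A B) :=
    Module.Finite.of_surjective
      (Algebra.linearMap (MvPolynomial (Fin n) A) (Algebra.EssFiniteType.subalgebra A B)) hf
  haveI : IsNoetherianRing (Algebra.EssFiniteType.subalgebra A B) :=
    isNoetherianRing_of_surjective (MvPolynomial (Fin n) A) _ f.toRingHom hf
  obtain ⟨ωC, hωC⟩ := exists_isDualizing_of_finite
    (B := Algebra.EssFiniteType.subalgebra A B) _ hP
  haveI : Module.Flat (Algebra.EssFiniteType.subalgebra A B) B :=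
    IsLocalization.flat B (Algebra.EssFiniteType.submonoid A B)
  exact ⟨_, isDualizing_ε_of_isLocalization (Algebra.EssFiniteType.submonoid A B) ωC hωC⟩

end Ess

end Groth.Agent.Lib.Helper8.Bidual
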