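import Mathlib
import Groth.Agent.Lib.Helper8.Compact2
import Groth.Agent.Lib.Helper8.CoprodTri
import Groth.Agent.Lib.Helper8.DTrunc
import Groth.Agent.Lib.Helper1.DCompactSingle

/-!
# Helper8 — way-out induction for maps into coproducts of uniformly bounded below families in `D(A)`
(for S0936, S0872)
-/

set_option autoImplicit false
set_option linter.unusedSectionVars false

universe w v u

open CategoryTheory CategoryTheory.Limits CategoryTheory.Pretriangulated DerivedCategory

namespace Groth.Agent.Lib.Helper8.WayOutCoprod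

open Groth.Agent.Lib.Helper8.Compact Groth.Agent.Lib.Helper8.DTrunc

section Pre

variable {D : Type u} [Category.{v} D] [Preadditive D] {κ : Type v} {X Y : κ → D}
  [HasCoproduct X] [HasCoproduct Y]

lemma map_cS (f : ∀ i, X i ⟶ Y i) (S : Finset κ) :
    Limits.Sigma.map f ≫ cS Y S = cS X S ≫ Limits.Sigma.map f := by
  classical
  apply Sigma.hom_ext
  intro j
  rw [Sigma.ι_map_assoc, ι_cS, ι_cS_assoc]
  split_ifs
  · simp
  · simp

lemma isIso_sigmaMap (e : ∀ i, X i ≅ Y i) : IsIso (Limits.Sigma.map (fun i => (e i).hom)) :=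
  ⟨⟨Limits.Sigma.map (fun i => (e i).inv), by
    apply Sigma.hom_ext; intro j; simp, by
    apply Sigma.hom_ext; intro j; simp⟩⟩

end Pre

variable {A : Type u} [Category.{v} A] [Abelian A] [HasDerivedCategory.{w} A]
  [∀ κ : Type w, HasColimitsOfShape (Discrete κ) A]
  [∀ κ : Type w, HasExactColimitsOfShape (Discrete κ) A]

section Coprod

variable {κ : Type w} (M : κ → DerivedCategory A) [HasCoproduct M]

lemma isZero_homology_coprod (q : ℤ) (h : ∀ i, IsZero ((homologyFunctor A q).obj (M i))) :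
    IsZero ((homologyFunctor A q).obj (∐ M)) := by
  haveI : PreservesColimitsOfShape (Discrete κ) (homologyFunctor A q) :=
    Groth.Agent.Lib.Helper1.DCompactSingle.preservesCoprod_homologyFunctor q
  have hc := isColimitOfPreserves (homologyFunctor A q) (coproductIsCoproduct M)
  rw [IsZero.iff_id_eq_zero]
  apply hc.hom_ext
  rintro ⟨j⟩
  exact (h j).eq_of_src _ _

lemma isGE_coprod (b : ℤ) (h : ∀ i, (M i).IsGE b) : (∐ M).IsGE b :=
  (isGE_iff _ b).2 (fun q hq => isZero_homology_coprod M q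
    (fun i => (isGE_iff (M i) b).1 (h i) q hq))

lemma isLE_coprod (b : ℤ) (h : ∀ i, (M i).IsLE b) : (∐ M).IsLE b :=
  (isLE_iff _ b).2 (fun q hq => isZero_homology_coprod M q
    (fun i => (isLE_iff (M i) b).1 (h i) q hq))

end Coprod

variable [HasCoproducts.{w} (DerivedCategory A)] (K : DerivedCategory A)

/-- maps from `K` to coproducts of families in `D^{≥ b}` have finite support -/
def FinSupp (b : ℤ) : Prop :=
  ∀ (κ : Type w) (M : κ → DerivedCategory A), (∀ i, (M i).IsGE b) →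
    ∀ φ : K ⟶ ∐ M, ∃ S : Finset κ, φ ≫ cS M S = 0

/-- the same for families concentrated in degree `b` -/
def FinSuppAt (b : ℤ) : Prop :=
  ∀ (κ : Type w) (N : κ → DerivedCategory A), (∀ i, (N i).IsGE b) → (∀ i, (N i).IsLE b) →
    ∀ ψ : K ⟶ ∐ N, ∃ S : Finset κ, ψ ≫ cS N S = 0

variable [K.IsLE 0]

theorem finSupp_of_pos (b : ℤ) (hb : 0 < b) : FinSupp K b := by
  intro κ M hM φ
  haveI := isGE_coprod M b hM
  refine ⟨∅, ?_⟩
  have h0 : φ = 0 := tt.zero_of_isLE_of_isGE φ 0 b hb inferInstance inferInstance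
  rw [h0, zero_comp]

theorem finSupp_step (b : ℤ) (hH : FinSuppAt K b) (ih : FinSupp K (b + 1)) : FinSupp K b := by
  classical
  intro κ M hM φ
  haveI := hM
  let T : κ → DerivedCategory A := fun i => (tt.truncLT (b + 1)).obj (M i)
  let G : κ → DerivedCategory A := fun i => (tt.truncGE (b + 1)).obj (M i)
  let ι' : ∀ i, T i ⟶ M i := fun i => (tt.truncLTι (b + 1)).app (M i)
  let π' : ∀ i, M i ⟶ G i := fun i => (tt.truncGEπ (b + 1)).app (M i)
  let δ' : ∀ i, G i ⟶ (T i)⟦(1 : ℤ)⟧ := fun i => (tt.truncGEδLT (b + 1)).app (M i)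
  have hdist := CoprodTri.coproduct_distinguished T M G ι' π' δ'
    (fun i => tt.triangleLTGE_distinguished (b + 1) (M i))
  obtain ⟨S₁, hS₁⟩ := ih κ G
    (fun i => (inferInstance : tt.IsGE ((tt.truncGE (b + 1)).obj (M i)) (b + 1)))
    (φ ≫ Limits.Sigma.map π')
  have h1 : (φ ≫ cS M S₁) ≫ Limits.Sigma.map π' = 0 := by
    rw [Category.assoc, ← map_cS, ← Category.assoc, hS₁]
  obtain ⟨ψ₀, hψ⟩ := Triangle.coyoneda_exact₂ _ hdist (φ ≫ cS M S₁) h1
  let ψ : K ⟶ ∐ T := ψ₀
  have hT1 : ∀ i, (T i).IsGE b := fun i =>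
    (inferInstance : tt.IsGE ((tt.truncLT (b + 1)).obj (M i)) b)
  have hT2 : ∀ i, (T i).IsLE b := fun i => by
    have h3 : tt.IsLE ((tt.truncLT (b + 1)).obj (M i)) (b + 1 - 1) := inferInstance
    exact tt.isLE_of_le _ (b + 1 - 1) b (by omega)
  obtain ⟨S₂, hS₂⟩ := hH κ T hT1 hT2 ψ
  refine ⟨S₁ ∪ S₂, ?_⟩
  have hψ' : φ ≫ cS M S₁ = ψ ≫ Limits.Sigma.map ι' := hψ
  rw [← cS_comp_cS, ← Category.assoc, hψ', Category.assoc, map_cS, ← Category.assoc, hS₂,
    zero_comp]

theorem finSupp_of_finSuppAt (hH : ∀ b : ℤ, FinSuppAt K b) : ∀ (n : ℕ) (b : ℤ), 1 ≤ b + n →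
    FinSupp K b := by
  intro n
  induction n with
  | zero =>
    intro b hb
    exact finSupp_of_pos K b (by push_cast at hb; omega)
  | succ n ih =>
    intro b hb
    exact finSupp_step K b (hH b) (ih (b + 1) (by push_cast at hb ⊢; omega))

theorem finSupp (hH : ∀ b : ℤ, FinSuppAt K b) (b : ℤ) : FinSupp K b :=
  finSupp_of_finSuppAt K hH (1 - b).toNat b (by omega)

omit [K.IsLE 0] in
/-- it suffices to treat families of single objects -/
theorem finSuppAt_of_single (b : ℤ)
    (hG : ∀ (κ : Type w) (F : κ → A)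
      (x : K ⟶ ∐ (fun i => (singleFunctor A b).obj (F i))),
      ∃ S : Finset κ, x ≫ cS (fun i => (singleFunctor A b).obj (F i)) S = 0) :
    FinSuppAt K b := by
  intro κ N h1 h2 ψ
  haveI := h1
  haveI := h2
  choose F e using fun i => exists_iso_singleFunctor_obj_of_isGE_of_isLE (N i) b
  let e' : ∀ i, N i ≅ (singleFunctor A b).obj (F i) := fun i => (e i).some
  obtain ⟨S, hS⟩ := hG κ F (ψ ≫ Limits.Sigma.map (fun i => (e' i).hom))
  refine ⟨S, ?_⟩
  haveI := isIso_sigmaMap e'
  rw [Category.assoc, map_cS, ← Category.assoc] at hS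
  exact (cancel_mono (Limits.Sigma.map (fun i => (e' i).hom))).1 (hS.trans zero_comp.symm)

/-- bijectivity of the comparison map from finite support -/
theorem bijective_of_finSupp (b : ℤ) (h : FinSupp K b) {κ : Type w} (M : κ → DerivedCategory A)
    [HasCoproduct M] (hM : ∀ i, (M i).IsGE b) :
    Function.Bijective (CohDer.homSumToHomCoprod K M) := by
  classical
  refine ⟨homSumToHomCoprod_injective K M, fun φ => ?_⟩
  obtain ⟨S, hS⟩ := h κ M hM φ
  exact ⟨_, (homSumToHomCoprod_sum K M φ S).trans (eq_comp_eS_of_comp_cS_eq_zero M φ S hS)⟩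

end Groth.Agent.Lib.Helper8.WayOutCoprod
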