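import Mathlib
import Groth.Agent.Lib.Helper8.WayOutCoprod

/-!
# Helper8 — finite support of `Ext^d(P, ∐ F)` classes by dimension shifting

If `Hom(P, -)` classes into coproducts have finite support and `Ext^{d+1}(P, ∐ E) = 0` for families
of injectives `E`, then all `Ext^d(P, ∐ F)` classes have finite support.
-/

set_option autoImplicit false

universe w v u

open CategoryTheory CategoryTheory.Limits Abelian

namespace Groth.Agent.Lib.Helper8.ExtCoprodInd

open Groth.Agent.Lib.Helper8.Compact Groth.Agent.Lib.Helper8.WayOutCoprod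

variable {A : Type u} [Category.{w} A] [Abelian A]
  [∀ κ : Type w, HasColimitsOfShape (Discrete κ) A]
  [∀ κ : Type w, HasExactColimitsOfShape (Discrete κ) A]

section SES

variable {κ : Type w} (S : κ → ShortComplex A)

/-- the coproduct of a family of short complexes -/
noncomputable def sigmaSC : ShortComplex A :=
  ShortComplex.mk (Limits.Sigma.map fun j => (S j).f) (Limits.Sigma.map fun j => (S j).g) (by
    apply Sigma.hom_ext
    intro j
    simp)

lemma mono_sigmaMap {X Y : κ → A}
    (f : ∀ i, X i ⟶ Y i) [∀ i, Mono (f i)] : Mono (Limits.Sigma.map f) := by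
  have : ∀ j, Mono ((Discrete.natTrans (fun i : Discrete κ => f i.as) :
      Discrete.functor X ⟶ Discrete.functor Y).app j) := by
    intro j
    dsimp
    infer_instance
  have := NatTrans.mono_of_mono_app (Discrete.natTrans (fun i : Discrete κ => f i.as) :
      Discrete.functor X ⟶ Discrete.functor Y)
  exact inferInstanceAs (Mono ((colim : (Discrete κ ⥤ A) ⥤ A).map
    (Discrete.natTrans (fun i : Discrete κ => f i.as) :
      Discrete.functor X ⟶ Discrete.functor Y)))

lemma sigmaSC_shortExact (hS : ∀ j, (S j).ShortExact) : (sigmaSC S).ShortExact := by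
  haveI : ∀ j, Mono (S j).f := fun j => (hS j).mono_f
  haveI : ∀ j, Epi (S j).g := fun j => (hS j).epi_g
  haveI : Mono (sigmaSC S).f := mono_sigmaMap (fun j => (S j).f)
  haveI : Epi (sigmaSC S).g := by
    constructor
    intro Z a b hab
    apply Sigma.hom_ext
    intro j
    have h1 := congrArg (fun t => Sigma.ι _ j ≫ t) hab
    dsimp [sigmaSC] at h1
    rw [Sigma.ι_map_assoc, Sigma.ι_map_assoc] at h1
    exact (cancel_epi (S j).g).1 h1
  refine ShortComplex.ShortExact.mk ?_
  apply ShortComplex.exact_of_g_is_cokernel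
  refine CokernelCofork.IsColimit.ofπ _ _
    (fun {Z} t ht => Sigma.desc fun j => (hS j).exact.desc
      (Sigma.ι (fun j => (S j).X₂) j ≫ t) ?_) ?_ ?_
  · have h1 := congrArg (fun s => Sigma.ι _ j ≫ s) ht
    dsimp [sigmaSC] at h1
    rw [Sigma.ι_map_assoc] at h1
    exact h1.trans comp_zero
  · intro Z t ht
    apply Sigma.hom_ext
    intro j
    dsimp [sigmaSC]
    rw [Sigma.ι_map_assoc, Sigma.ι_desc, ShortComplex.Exact.g_desc]
  · intro Z t ht m hm
    apply Sigma.hom_ext
    intro j
    rw [Sigma.ι_desc]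
    rw [← cancel_epi (S j).g, ShortComplex.Exact.g_desc, ← hm]
    dsimp [sigmaSC]
    rw [Sigma.ι_map_assoc]

end SES

variable [EnoughInjectives A] [HasExt.{v} A] (P : A)
  (hBase : ∀ (κ : Type w) (F : κ → A) (e : Ext.{v} P (∐ F) 0),
    ∃ S : Finset κ, e.comp (Ext.mk₀ (cS F S)) (add_zero 0) = 0)
  (hV : ∀ (κ : Type w) (E : κ → A), (∀ j, Injective (E j)) → ∀ (d : ℕ)
    (e : Ext.{v} P (∐ E) (d + 1)), e = 0)

include hBase hV in
theorem hExt (d : ℕ) : ∀ (κ : Type w) (F : κ → A) (e : Ext.{v} P (∐ F) d),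
    ∃ S : Finset κ, e.comp (Ext.mk₀ (cS F S)) (add_zero d) = 0 := by
  induction d with
  | zero => exact hBase
  | succ d ih =>
    intro κ F e
    let Sj : κ → ShortComplex A := fun j =>
      ShortComplex.mk _ _ (cokernel.condition (Injective.ι (F j)))
    have hSj : ∀ j, (Sj j).ShortExact := fun j =>
      { exact := ShortComplex.exact_of_g_is_cokernel _ (cokernelIsCokernel (Sj j).f) }
    have hSc := sigmaSC_shortExact Sj hSj
    have hz : e.comp (Ext.mk₀ (sigmaSC Sj).f) (add_zero (d + 1)) = 0 :=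
      hV κ (fun j => Injective.under (F j)) (fun j => inferInstance) d _
    obtain ⟨e', he'⟩ := Ext.covariant_sequence_exact₁ P hSc e hz rfl
    obtain ⟨S, hS⟩ := ih κ (fun j => (Sj j).X₃) e'
    refine ⟨S, ?_⟩
    let φ : sigmaSC Sj ⟶ sigmaSC Sj :=
      { τ₁ := cS _ S
        τ₂ := cS _ S
        τ₃ := cS _ S
        comm₁₂ := (map_cS (fun j => (Sj j).f) S).symm
        comm₂₃ := (map_cS (fun j => (Sj j).g) S).symm }
    have nat := ShortComplex.ShortExact.extClass_naturality hSc hSc φ
    have nat' : hSc.extClass.comp (Ext.mk₀ (cS (fun j => (Sj j).X₁) S)) (add_zero 1) =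
        (Ext.mk₀ (cS (fun j => (Sj j).X₃) S)).comp hSc.extClass (zero_add 1) := nat
    have a1 := Ext.comp_assoc e' hSc.extClass (Ext.mk₀ (cS (fun j => (Sj j).X₁) S)) rfl
      (add_zero 1) (show d + 1 + 0 = d + 1 by omega)
    have a2 := Ext.comp_assoc e' (Ext.mk₀ (cS (fun j => (Sj j).X₃) S)) hSc.extClass
      (add_zero d) (zero_add 1) (show d + 0 + 1 = d + 1 by omega)
    rw [nat'] at a1
    have a4 := congrArg (fun z => z.comp hSc.extClass (rfl : d + 1 = d + 1)) hS
    have a5 : (0 : Ext.{v} P (sigmaSC Sj).X₃ d).comp hSc.extClass (rfl : d + 1 = d + 1) = 0 :=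
      Ext.zero_comp _ _ _ _ _
    rw [← he']
    exact (a1.trans a2.symm).trans (a4.trans a5)

end Groth.Agent.Lib.Helper8.ExtCoprodInd
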