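import Mathlib
import Groth.Agent.Lib.Helper26.KInjAdjH

/-!
# Helper8 — full faithfulness of `F.mapDerivedCategory` for an exact functor `F` with a right
adjoint `G`, invertible unit, such that `G` sends suitable K-injective resolutions of complexes in
the image of `F` to quasi-isomorphisms
-/

set_option autoImplicit false
set_option maxHeartbeats 400000

universe w w' v v' u u'

open CategoryTheory CategoryTheory.Limits

namespace Groth.Agent.Lib.Helper8.FFDerived

variable {A : Type u} {B : Type u'} [Category.{v} A] [Category.{v'} B] [Abelian A] [Abelian B]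
  [IsGrothendieckAbelian.{v'} B] [HasDerivedCategory.{w} A] [HasDerivedCategory.{w'} B]
  (F : A ⥤ B) (G : B ⥤ A) (adj : F ⊣ G) [F.Additive] [G.Additive]
  [PreservesFiniteLimits F] [PreservesFiniteColimits F]

include adj in
theorem fullyFaithful [IsIso adj.unit]
    (hres : ∀ X : CochainComplex A ℤ, ∃ (I : CochainComplex B ℤ)
      (r : (F.mapHomologicalComplex (ComplexShape.up ℤ)).obj X ⟶ I),
      I.IsKInjective ∧ QuasiIso r ∧ QuasiIso ((G.mapHomologicalComplex (ComplexShape.up ℤ)).map r)) :
    Nonempty F.mapDerivedCategory.FullyFaithful := by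
  let W₁ := HomotopyCategory.quasiIso A (ComplexShape.up ℤ)
  let W₂ := HomotopyCategory.quasiIso B (ComplexShape.up ℤ)
  let F' := G.mapHomotopyCategory (ComplexShape.up ℤ) ⋙ DerivedCategory.Qh
  haveI : F'.HasRightDerivedFunctor W₂ :=
    Groth.Agent.Lib.Helper8.KInjDer.hasRightDerivedFunctor
      (Groth.Agent.Lib.Helper26.KInjAdjH.hK (B := B)) F'
  let RG := F'.totalRightDerived DerivedCategory.Qh W₂
  let α : F' ⟶ DerivedCategory.Qh ⋙ RG := F'.totalRightDerivedUnit DerivedCategory.Qh W₂
  let β : DerivedCategory.Qh ⋙ F.mapDerivedCategory ⟶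
      F.mapHomotopyCategory (ComplexShape.up ℤ) ⋙ DerivedCategory.Qh :=
    F.mapDerivedCategoryFactorsh.hom
  have hinv : W₁.IsInvertedBy (F.mapHomotopyCategory (ComplexShape.up ℤ) ⋙ DerivedCategory.Qh) :=
    (MorphismProperty.IsInvertedBy.iff_of_iso W₁ F.mapDerivedCategoryFactorsh).1
      (MorphismProperty.IsInvertedBy.of_comp _ _ (Localization.inverts DerivedCategory.Qh W₁) _)
  have hβ : IsIso β := inferInstance
  have i1 : F.mapDerivedCategory.IsLeftDerivedFunctor β W₁ :=
    (Functor.isLeftDerivedFunctor_iff_of_inverts _ β hinv).2 hβ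
  have i2 : (F.mapDerivedCategory ⋙ RG).IsLeftDerivedFunctor
      ((Functor.associator _ _ _).inv ≫ Functor.whiskerRight β RG) W₁ :=
    (Functor.isLeftDerivedFunctor_iff_of_inverts _ _
      (MorphismProperty.IsInvertedBy.of_comp _ _ hinv _)).2 inferInstance
  have := Groth.Agent.Lib.Helper8.KInjDer.isRightDerivabilityStructure
    (Groth.Agent.Lib.Helper26.KInjAdjH.hK (B := B))
  have hα : ∀ X : (Groth.Agent.Lib.Helper8.KInjDer.kinj (A := B)).FullSubcategory,
      IsIso (α.app (Groth.Agent.Lib.Helper8.KInjDer.Φ.functor.obj X)) := fun X =>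
    (Groth.Agent.Lib.Helper8.KInjDer.derives F').isIso_of_isRightDerivedFunctor α X
  have i3 : (RG ⋙ F.mapDerivedCategory).IsRightDerivedFunctor
      (Functor.whiskerRight α F.mapDerivedCategory ≫ (Functor.associator _ _ _).hom) W₂ :=
    (Groth.Agent.Lib.Helper8.KInjDer.derives _).isRightDerivedFunctor_of_isIso _ (fun X => by
      have := hα X
      dsimp
      infer_instance)
  let adjH := Groth.Agent.Lib.Helper6.DerivedAdj.adjH adj (ComplexShape.up ℤ)
  let adj' : F.mapDerivedCategory ⊣ RG := adjH.derived W₁ W₂ β α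
  -- the unit is an isomorphism
  have hunit : IsIso adj'.unit := by
    rw [Adjunction.derived_unit, NatTrans.isIso_iff_isIso_app]
    intro Y
    rw [NatTrans.isIso_app_iff_of_iso _ (DerivedCategory.Qh.objObjPreimageIso Y).symm]
    set X := DerivedCategory.Qh.objPreimage Y
    have h1 := adjH.derivedη_fac_app W₁ β α X
    -- `Qh (unit)` is an isomorphism
    have hu : IsIso (adjH.unit.app X) := by
      have : ∀ i, IsIso (((Groth.Agent.Lib.Helper6.DerivedAdj.unitCx adj (ComplexShape.up ℤ)).app
          X.as).f i) := fun i => by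
        rw [Groth.Agent.Lib.Helper6.DerivedAdj.unitCx_app_f]
        exact NatIso.isIso_app_of_isIso adj.unit _
      have h' : IsIso ((Groth.Agent.Lib.Helper6.DerivedAdj.unitCx adj (ComplexShape.up ℤ)).app
          X.as) := HomologicalComplex.Hom.isIso_of_components _
      exact ((HomotopyCategory.quotient A (ComplexShape.up ℤ)).mapIso
        (@asIso _ _ _ _ _ h')).isIso_hom
    -- `α` at `F X` is an isomorphism
    have hαX : IsIso (α.app ((F.mapHomotopyCategory (ComplexShape.up ℤ)).obj X)) := by
      obtain ⟨I, r, hI, hr, hGr⟩ := hres X.as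
      let qr : (F.mapHomotopyCategory (ComplexShape.up ℤ)).obj X ⟶
          (HomotopyCategory.quotient B (ComplexShape.up ℤ)).obj I :=
        (HomotopyCategory.quotient B (ComplexShape.up ℤ)).map r
      have nat := α.naturality qr
      have hαI : IsIso (α.app ((HomotopyCategory.quotient B (ComplexShape.up ℤ)).obj I)) :=
        hα ⟨(HomotopyCategory.quotient B (ComplexShape.up ℤ)).obj I, hI⟩
      have h2 : IsIso (F'.map qr) := by
        change IsIso (DerivedCategory.Q.map ((G.mapHomologicalComplex (ComplexShape.up ℤ)).map r))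
        rw [DerivedCategory.isIso_Q_map_iff_quasiIso]
        exact hGr
      have h3 : IsIso ((DerivedCategory.Qh ⋙ RG).map qr) := by
        have : IsIso (DerivedCategory.Qh.map qr) := by
          change IsIso (DerivedCategory.Q.map r)
          rw [DerivedCategory.isIso_Q_map_iff_quasiIso]
          exact hr
        change IsIso (RG.map (DerivedCategory.Qh.map qr))
        infer_instance
      have h4 : IsIso (α.app ((F.mapHomotopyCategory (ComplexShape.up ℤ)).obj X) ≫
          (DerivedCategory.Qh ⋙ RG).map qr) := by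
        rw [← nat]
        infer_instance
      exact IsIso.of_isIso_comp_right _ ((DerivedCategory.Qh ⋙ RG).map qr)
    have h5 : IsIso ((adjH.derivedη W₁ β α).app (DerivedCategory.Qh.obj X) ≫
        RG.map (β.app X)) := by
      rw [h1]
      infer_instance
    exact IsIso.of_isIso_comp_right _ (RG.map (β.app X))
  exact ⟨adj'.fullyFaithfulLOfIsIsoUnit⟩

end Groth.Agent.Lib.Helper8.FFDerived
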