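import Groth.Prelude.Def_FilD
import Mathlib

/-!
# Helper8: finite filtered objects of an abelian category: basics and strictness
-/

universe v u

open CategoryTheory CategoryTheory.Limits Opposite

namespace Groth.Agent.Lib.Helper8.Fil1

open FilD

set_option linter.unusedSectionVars false

variable {A : Type u} [Category.{v} A] [Abelian A]

section Functors

variable (F G : ℤᵒᵖ ⥤ A)

/-- the transition map `F_q ⟶ F_p` for `p ≤ q` -/
noncomputable abbrev trF {p q : ℤ} (h : p ≤ q) : F.obj (op q) ⟶ F.obj (op p) := F.map (homOfLE h).op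

lemma trF_refl (p : ℤ) : trF F (le_refl p) = 𝟙 _ := by
  have : (homOfLE (le_refl p)).op = 𝟙 (op p) := rfl
  change F.map (homOfLE (le_refl p)).op = _
  rw [this, F.map_id]

lemma trF_comp {p q r : ℤ} (h₁ : p ≤ q) (h₂ : q ≤ r) :
    trF F h₂ ≫ trF F h₁ = trF F (h₁.trans h₂) := by
  change F.map _ ≫ F.map _ = F.map _
  rw [← F.map_comp]
  rfl

lemma trF_step (p : ℤ) : F.map (stepHom p) = trF F (Int.le_add_one le_rfl : p ≤ p + 1) := rfl

variable {F G}

lemma trF_naturality (α : F ⟶ G) {p q : ℤ} (h : p ≤ q) :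
    trF F h ≫ α.app (op p) = α.app (op q) ≫ trF G h := α.naturality _

/-- natural transformations from compatibility with the steps -/
noncomputable def natTransOfSteps (g : ∀ p : ℤ, F.obj (op p) ⟶ G.obj (op p))
    (hg : ∀ p : ℤ, F.map (stepHom p) ≫ g p = g (p + 1) ≫ G.map (stepHom p)) : F ⟶ G where
  app X := g X.unop
  naturality := by
    rintro ⟨q⟩ ⟨p⟩ f
    have hpq : p ≤ q := leOfHom f.unop
    have hf : f = (homOfLE hpq).op := Subsingleton.elim _ _
    subst hf
    change trF F hpq ≫ g p = g q ≫ trF G hpq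
    induction q, hpq using Int.leInduction with
    | base => rw [trF_refl, trF_refl, Category.id_comp, Category.comp_id]
    | succ n hmn ih =>
      rw [← trF_comp F hmn (Int.le_add_one le_rfl), ← trF_comp G hmn (Int.le_add_one le_rfl),
        Category.assoc, ih, ← Category.assoc, ← trF_step, hg, Category.assoc, trF_step]

@[simp]
lemma natTransOfSteps_app (g : ∀ p : ℤ, F.obj (op p) ⟶ G.obj (op p))
    (hg : ∀ p : ℤ, F.map (stepHom p) ≫ g p = g (p + 1) ≫ G.map (stepHom p)) (p : ℤ) :
    (natTransOfSteps g hg).app (op p) = g p := rfl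

/-- the projection to the graded piece -/
noncomputable abbrev grπ (F : ℤᵒᵖ ⥤ A) (p : ℤ) : F.obj (op p) ⟶ (gr A p).obj F :=
  cokernel.π (F.map (stepHom p))

lemma step_grπ (F : ℤᵒᵖ ⥤ A) (p : ℤ) : F.map (stepHom p) ≫ grπ F p = 0 := cokernel.condition _

lemma grπ_map (α : F ⟶ G) (p : ℤ) : grπ F p ≫ (gr A p).map α = α.app (op p) ≫ grπ G p := by
  exact cokernel.π_desc _ _ _

end Functors

section FilF

/-- the level `p` of a filtered object -/
noncomputable abbrev lv (X : FilF A) (p : ℤ) : A := X.obj.obj (op p)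

/-- the transition map -/
noncomputable abbrev tr (X : FilF A) {p q : ℤ} (h : p ≤ q) : lv X q ⟶ lv X p := trF X.obj h

instance (X : FilF A) {p q : ℤ} (h : p ≤ q) : Mono (tr X h) := X.property.1 _

/-- the step map -/
noncomputable abbrev st (X : FilF A) (p : ℤ) : lv X (p + 1) ⟶ lv X p := X.obj.map (stepHom p)

instance (X : FilF A) (p : ℤ) : Mono (st X p) := X.property.1 _

/-- the components of a morphism -/
noncomputable abbrev cp {X Y : FilF A} (φ : X ⟶ Y) (p : ℤ) : lv X p ⟶ lv Y p := φ.hom.app (op p)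

lemma cp_tr {X Y : FilF A} (φ : X ⟶ Y) {p q : ℤ} (h : p ≤ q) :
    tr X h ≫ cp φ p = cp φ q ≫ tr Y h := trF_naturality φ.hom h

lemma cp_st {X Y : FilF A} (φ : X ⟶ Y) (p : ℤ) :
    st X p ≫ cp φ p = cp φ (p + 1) ≫ st Y p := φ.hom.naturality _

lemma cp_comp {X Y Z : FilF A} (φ : X ⟶ Y) (ψ : Y ⟶ Z) (p : ℤ) :
    cp (φ ≫ ψ) p = cp φ p ≫ cp ψ p := rfl

/-- strictness in terms of generalized elements -/
def Str {X Y : FilF A} (φ : X ⟶ Y) : Prop :=
  ∀ (p q : ℤ) (h : p ≤ q) ⦃T : A⦄ (x : T ⟶ lv X p) (y : T ⟶ lv Y q),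
    x ≫ cp φ p = y ≫ tr Y h →
      ∃ (T' : A) (π : T' ⟶ T) (_ : Epi π) (x' : T' ⟶ lv X q), x' ≫ cp φ q = π ≫ y

/-- a subobject contains another one if it does so after an epimorphic cover -/
lemma subobject_le_of_epi_factors {Z : A} (S S' : Subobject Z) {T : A} (π : T ⟶ (S : A)) [Epi π]
    (w : T ⟶ (S' : A)) (hw : w ≫ S'.arrow = π ≫ S.arrow) : S ≤ S' := by
  haveI : StrongEpi π := strongEpi_of_epi π
  have sq : CommSq w π S'.arrow S.arrow := ⟨hw⟩
  exact Subobject.le_of_comm sq.lift sq.fac_right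

theorem isStrict_iff {X Y : FilF A} (φ : X ⟶ Y) : IsStrict φ ↔ Str φ := by
  constructor
  · intro hφ p q h T x y hxy
    have hY : Mono (tr Y h) := inferInstance
    let I' := imageSubobject (cp φ q ≫ tr Y h)
    have h1 : (imageSubobject (cp φ p)).Factors (x ≫ cp φ p) :=
      imageSubobject_factors_comp_self (cp φ p) x
    have h2 : (Subobject.mk (tr Y h)).Factors (x ≫ cp φ p) := by
      rw [hxy]
      exact Subobject.factors_of_factors_right _ (Subobject.mk_factors_self _)
    have h3 : I'.Factors (x ≫ cp φ p) := by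
      have := (Subobject.inf_factors (x ≫ cp φ p)).2 ⟨h1, h2⟩
      rwa [← hφ p q h] at this
    obtain ⟨T', π, hπ, x', hx'⟩ := surjective_up_to_refinements_of_epi
      (factorThruImageSubobject (cp φ q ≫ tr Y h)) (I'.factorThru _ h3)
    refine ⟨T', π, hπ, x', ?_⟩
    rw [← cancel_mono (tr Y h), Category.assoc, Category.assoc, ← hxy]
    have h4 := congrArg (fun k => k ≫ I'.arrow) hx'
    simpa [I'] using h4.symm
  · intro hφ p q h
    apply le_antisymm
    · apply le_inf
      · exact imageSubobject_le _ (tr X h ≫ factorThruImageSubobject (cp φ p)) (by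
          rw [Category.assoc, imageSubobject_arrow_comp, cp_tr])
      · exact imageSubobject_le _ (cp φ q ≫ (Subobject.underlyingIso (tr Y h)).inv) (by
          rw [Category.assoc, Subobject.underlyingIso_arrow])
    · let S : Subobject (lv Y p) := imageSubobject (cp φ p) ⊓ Subobject.mk (tr Y h)
      have hS1 : (imageSubobject (cp φ p)).Factors S.arrow :=
        Subobject.factors_of_le _ inf_le_left (Subobject.factors_self _) 
      have hS2 : (Subobject.mk (tr Y h)).Factors S.arrow :=
        Subobject.factors_of_le _ inf_le_right (Subobject.factors_self _)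
      let s₁ := (imageSubobject (cp φ p)).factorThru _ hS1
      let s₂ := (Subobject.mk (tr Y h)).factorThru _ hS2
      have hs₁ : s₁ ≫ (imageSubobject (cp φ p)).arrow = S.arrow := Subobject.factorThru_arrow _ _ _
      have hs₂ : s₂ ≫ (Subobject.mk (tr Y h)).arrow = S.arrow := Subobject.factorThru_arrow _ _ _
      obtain ⟨y, hy⟩ : ∃ y : (S : A) ⟶ lv Y q, y ≫ tr Y h = S.arrow :=
        ⟨s₂ ≫ (Subobject.underlyingIso (tr Y h)).hom, by
          rw [Category.assoc, Subobject.underlyingIso_hom_comp_eq_mk, hs₂]⟩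
      obtain ⟨T₁, π₁, hπ₁, x, hx⟩ := surjective_up_to_refinements_of_epi
        (factorThruImageSubobject (cp φ p)) s₁
      have hx' : x ≫ cp φ p = (π₁ ≫ y) ≫ tr Y h := by
        rw [Category.assoc, hy, ← hs₁, ← Category.assoc, hx, Category.assoc,
          imageSubobject_arrow_comp]
      obtain ⟨T₂, π₂, hπ₂, x', hx''⟩ := hφ p q h x (π₁ ≫ y) hx'
      refine subobject_le_of_epi_factors S _ (π₂ ≫ π₁)
        (x' ≫ factorThruImageSubobject (cp φ q ≫ tr Y h)) ?_
      rw [Category.assoc, imageSubobject_arrow_comp, ← Category.assoc, hx'', Category.assoc,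
        Category.assoc, Category.assoc, hy]

end FilF

end Groth.Agent.Lib.Helper8.Fil1
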