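import Groth.Agent.Lib.Helper8.Fil9

/-!
# Helper8: strict monomorphisms into filtered injective objects (S1081)
-/

universe v u

open CategoryTheory CategoryTheory.Limits Opposite

namespace Groth.Agent.Lib.Helper8.Fil10

open FilD Fil1 Fil2 Fil3 Fil4 Fil5 Fil6 Fil7 Fil8 Fil9

set_option linter.unusedSectionVars false

variable {A : Type u} [Category.{v} A] [Abelian A]

attribute [local instance] CategoryTheory.Abelian.hasFiniteBiproducts

/-- a finite filtered object all of whose levels are injective is filtered injective -/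
theorem filteredInjective_of_lv (I : FilF A) (h : ∀ p, Injective (lv I p)) :
    IsFilteredInjective I := by
  intro p
  have := h (p + 1)
  let r : lv I p ⟶ lv I (p + 1) := Injective.factorThru (𝟙 _) (st I p)
  have hr : st I p ≫ r = 𝟙 _ := Injective.comp_factorThru _ _
  let s : cokernel (st I p) ⟶ lv I p := cokernel.desc (st I p) (𝟙 _ - r ≫ st I p) (by
    rw [Preadditive.comp_sub, Category.comp_id, ← Category.assoc, hr, Category.id_comp, sub_self])
  have hs : s ≫ cokernel.π (st I p) = 𝟙 _ := by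
    rw [← cancel_epi (cokernel.π (st I p)), ← Category.assoc, cokernel.π_desc,
      Preadditive.sub_comp, Category.id_comp, Category.assoc, cokernel.condition, comp_zero,
      sub_zero, Category.comp_id]
  have := h p
  exact (Retract.mk s (cokernel.π (st I p)) hs).injective

section Construct

variable (a b : ℤ) (J : ℤ → A)

/-- the index type for level `q` -/
abbrev Idx (q : ℤ) : Type := {r : ℤ // a < r ∧ q < r ∧ r ≤ b}

instance (q : ℤ) : Finite (Idx a b q) :=
  Finite.of_injective (fun j : Idx a b q => (⟨j.1, j.2.1, j.2.2.2⟩ : Set.Ioc a b))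
    (fun x y h => by
      have h' : x.1 = y.1 := Subtype.mk.inj h
      exact Subtype.ext h')

/-- the level `q` object -/
noncomputable abbrev lvI (q : ℤ) : A := ⨁ (fun j : Idx a b q => J j.1)

/-- the transition maps -/
noncomputable def trI {q q' : ℤ} (_ : q ≤ q') : lvI a b J q' ⟶ lvI a b J q :=
  biproduct.lift (fun j : Idx a b q =>
    if hj : q' < j.1 then biproduct.π (fun j : Idx a b q' => J j.1) ⟨j.1, j.2.1, hj, j.2.2.2⟩
    else 0)

lemma trI_π {q q' : ℤ} (h : q ≤ q') (j : Idx a b q) :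
    trI a b J h ≫ biproduct.π (fun j : Idx a b q => J j.1) j =
      if hj : q' < j.1 then biproduct.π (fun j : Idx a b q' => J j.1) ⟨j.1, j.2.1, hj, j.2.2.2⟩
      else 0 :=
  biproduct.lift_π _ _

lemma trI_π_pos {q q' : ℤ} (h : q ≤ q') (j : Idx a b q) (hj : q' < j.1) :
    trI a b J h ≫ biproduct.π (fun j : Idx a b q => J j.1) j =
      biproduct.π (fun j : Idx a b q' => J j.1) ⟨j.1, j.2.1, hj, j.2.2.2⟩ := by
  rw [trI_π, dif_pos hj]

lemma trI_π_neg {q q' : ℤ} (h : q ≤ q') (j : Idx a b q) (hj : ¬ q' < j.1) :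
    trI a b J h ≫ biproduct.π (fun j : Idx a b q => J j.1) j = 0 := by
  rw [trI_π, dif_neg hj]

lemma trI_refl (q : ℤ) : trI a b J (le_refl q) = 𝟙 _ := by
  refine biproduct.hom_ext _ _ (fun j => ?_)
  rw [trI_π_pos a b J _ j j.2.2.1, Category.id_comp]

lemma trI_comp {q q' q'' : ℤ} (h : q ≤ q') (h' : q' ≤ q'') :
    trI a b J h' ≫ trI a b J h = trI a b J (h.trans h') := by
  refine biproduct.hom_ext _ _ (fun j => ?_)
  rw [Category.assoc]
  by_cases h1 : q'' < j.1
  · have h2 : q' < j.1 := lt_of_le_of_lt h' h1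
    rw [trI_π_pos a b J h j h2, trI_π_pos a b J _ j h1]
    exact trI_π_pos a b J h' ⟨j.1, j.2.1, h2, j.2.2.2⟩ h1
  · rw [trI_π_neg a b J _ j h1]
    by_cases h2 : q' < j.1
    · rw [trI_π_pos a b J h j h2]
      exact trI_π_neg a b J h' ⟨j.1, j.2.1, h2, j.2.2.2⟩ h1
    · rw [trI_π_neg a b J h j h2, comp_zero]

/-- the functor -/
noncomputable abbrev bigF : ℤᵒᵖ ⥤ A where
  obj q := lvI a b J q.unop
  map f := trI a b J (leOfHom f.unop)
  map_id q := trI_refl a b J q.unop
  map_comp f g := (trI_comp a b J (leOfHom g.unop) (leOfHom f.unop)).symm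

lemma mono_trI {q q' : ℤ} (h : q ≤ q') : Mono (trI a b J h) := by
  rw [Preadditive.mono_iff_cancel_zero]
  intro T t ht
  refine biproduct.hom_ext _ _ (fun j' => ?_)
  have e := trI_π_pos a b J h ⟨j'.1, j'.2.1, lt_of_le_of_lt h j'.2.2.1, j'.2.2.2⟩ j'.2.2.1
  have e' : t ≫ biproduct.π (fun j : Idx a b q' => J j.1) j' =
      (t ≫ trI a b J h) ≫ biproduct.π (fun j : Idx a b q => J j.1)
        ⟨j'.1, j'.2.1, lt_of_le_of_lt h j'.2.2.1, j'.2.2.2⟩ := by
    rw [Category.assoc, e]
  rw [e', ht, zero_comp, zero_comp]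

lemma isZero_lvI (q : ℤ) (hq : b ≤ q) : IsZero (lvI a b J q) := by
  rw [IsZero.iff_id_eq_zero]
  refine biproduct.hom_ext _ _ (fun j => ?_)
  exact absurd (lt_of_lt_of_le j.2.2.1 (j.2.2.2.trans hq)) (lt_irrefl _)

lemma isIso_trI {q q' : ℤ} (h : q ≤ q') (hq' : q' ≤ a) : IsIso (trI a b J h) := by
  refine ⟨biproduct.lift (fun j' : Idx a b q' => biproduct.π (fun j : Idx a b q => J j.1)
    ⟨j'.1, j'.2.1, lt_of_le_of_lt h j'.2.2.1, j'.2.2.2⟩), ?_, ?_⟩
  · refine biproduct.hom_ext _ _ (fun j' => ?_)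
    rw [Category.assoc, biproduct.lift_π, Category.id_comp]
    exact trI_π_pos a b J h ⟨j'.1, j'.2.1, lt_of_le_of_lt h j'.2.2.1, j'.2.2.2⟩ j'.2.2.1
  · refine biproduct.hom_ext _ _ (fun j => ?_)
    have hj : q' < j.1 := lt_of_le_of_lt hq' j.2.1
    rw [Category.assoc, trI_π_pos a b J h j hj, Category.id_comp]
    exact biproduct.lift_π _ _

lemma isFinFil_bigF : IsFinFil A (bigF a b J) := by
  refine ⟨?_, ⟨b, fun p hp => isZero_lvI a b J p hp⟩, ⟨a, ?_⟩⟩
  · intro q' q f
    exact mono_trI a b J (leOfHom f.unop)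
  · intro q' q f hq'
    exact isIso_trI a b J (leOfHom f.unop) hq'

/-- the filtered object -/
noncomputable abbrev bigI : FilF A := ⟨bigF a b J, isFinFil_bigF a b J⟩

lemma filteredInjective_bigI (hJ : ∀ r, Injective (J r)) :
    IsFilteredInjective (bigI a b J) := by
  apply filteredInjective_of_lv
  intro p
  have : ∀ j : Idx a b p, Injective (J j.1) := fun j => hJ j.1
  exact inferInstanceAs (Injective (⨁ (fun j : Idx a b p => J j.1)))

end Construct

section Map

variable (X : FilF A) (a b : ℤ)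
  (ha : ∀ ⦃p q : ℤᵒᵖ⦄ (f : p ⟶ q), p.unop ≤ a → IsIso (X.obj.map f))
  (hb : ∀ p : ℤ, b ≤ p → IsZero (lv X p)) (hab : a < b)

/-- the map from level `q` to the total object `X a` -/
noncomputable def kk (q : ℤ) : lv X q ⟶ lv X a :=
  tr X (min_le_left q a) ≫ @inv _ _ _ _ (tr X (min_le_right q a)) (ha _ (le_refl a))

lemma kk_comp (q : ℤ) : kk X a ha q ≫ tr X (min_le_right q a) = tr X (min_le_left q a) := by
  have : IsIso (tr X (min_le_right q a)) := ha _ (le_refl a)
  unfold kk
  rw [Category.assoc, IsIso.inv_hom_id, Category.comp_id]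

instance mono_kk (q : ℤ) : Mono (kk X a ha q) := by
  have : IsIso (tr X (min_le_right q a)) := ha _ (le_refl a)
  unfold kk
  infer_instance

lemma tr_kk {q q' : ℤ} (h : q ≤ q') : tr X h ≫ kk X a ha q = kk X a ha q' := by
  have : IsIso (tr X (min_le_right q a)) := ha _ (le_refl a)
  have hm : min q a ≤ min q' a := min_le_min_right a h
  rw [← cancel_mono (tr X (min_le_right q a)), Category.assoc, kk_comp]
  have e1 : tr X (min_le_right q a) = tr X (min_le_right q' a) ≫ tr X hm := (trF_comp _ _ _).symm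
  rw [e1, ← Category.assoc (kk X a ha q'), kk_comp]
  exact (trF_comp _ _ _).trans (trF_comp _ _ _).symm

/-- elements of level `q` dying in `X a / X r` come from level `r` -/
lemma exists_lift_of_kk {q r : ℤ} (h : q ≤ r) {T : A} (x : T ⟶ lv X q)
    (hx : x ≫ kk X a ha q ≫ cokernel.π (kk X a ha r) = 0) :
    ∃ x' : T ⟶ lv X r, x' ≫ tr X h = x := by
  refine ⟨Abelian.monoLift (kk X a ha r) (x ≫ kk X a ha q) (by rwa [Category.assoc]), ?_⟩
  rw [← cancel_mono (kk X a ha q), Category.assoc, tr_kk, Abelian.monoLift_comp]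

variable [EnoughInjectives A]

/-- the injective objects -/
noncomputable abbrev JJ (r : ℤ) : A := Injective.under (cokernel (kk X a ha r))

/-- the maps to the injective objects -/
noncomputable def cc (r : ℤ) : lv X a ⟶ JJ X a ha r :=
  cokernel.π (kk X a ha r) ≫ Injective.ι _

lemma kk_cc {q r : ℤ} (h : r ≤ q) : kk X a ha q ≫ cc X a ha r = 0 := by
  unfold cc
  rw [← tr_kk X a ha h, Category.assoc, cokernel.condition_assoc, zero_comp, comp_zero]

lemma exists_lift_of_cc {q r : ℤ} (h : q ≤ r) {T : A} (x : T ⟶ lv X q)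
    (hx : x ≫ kk X a ha q ≫ cc X a ha r = 0) :
    ∃ x' : T ⟶ lv X r, x' ≫ tr X h = x := by
  apply exists_lift_of_kk X a ha h x
  unfold cc at hx
  rw [← cancel_mono (Injective.ι (cokernel (kk X a ha r))), zero_comp]
  simpa only [Category.assoc] using hx

/-- the components of the morphism -/
noncomputable def uApp (q : ℤ) : lv X q ⟶ lvI a b (JJ X a ha) q :=
  biproduct.lift (fun j : Idx a b q => kk X a ha q ≫ cc X a ha j.1)

lemma uApp_π (q : ℤ) (j : Idx a b q) :
    uApp X a b ha q ≫ biproduct.π (fun j : Idx a b q => JJ X a ha j.1) j =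
      kk X a ha q ≫ cc X a ha j.1 :=
  biproduct.lift_π _ _

lemma uApp_naturality {q q' : ℤ} (h : q ≤ q') :
    tr X h ≫ uApp X a b ha q = uApp X a b ha q' ≫ trI a b (JJ X a ha) h := by
  refine biproduct.hom_ext _ _ (fun j => ?_)
  rw [Category.assoc, Category.assoc, uApp_π, ← Category.assoc, tr_kk]
  by_cases hj : q' < j.1
  · rw [trI_π_pos a b _ h j hj, uApp_π]
  · rw [trI_π_neg a b _ h j hj, comp_zero]
    exact kk_cc X a ha (not_lt.1 hj)

/-- the morphism into the filtered injective object -/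
noncomputable def uu : X ⟶ bigI a b (JJ X a ha) :=
  ObjectProperty.homMk
    { app := fun q => uApp X a b ha q.unop
      naturality := fun _ _ f => uApp_naturality X a b ha (leOfHom f.unop) }

lemma cp_uu (q : ℤ) : cp (uu X a b ha) q = uApp X a b ha q := rfl

include hb hab in
lemma mono_cp_uu (q : ℤ) : Mono (cp (uu X a b ha) q) := by
  rw [cp_uu, Preadditive.mono_iff_cancel_zero]
  intro T x hx
  by_cases hq : b ≤ q
  · exact (hb q hq).eq_of_tgt _ _
  · have hq' : q < b := not_le.1 hq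
    have h1 : x ≫ kk X a ha q ≫ cc X a ha b = 0 := by
      rw [← uApp_π X a b ha q ⟨b, hab, hq', le_refl b⟩, ← Category.assoc, hx, zero_comp]
    obtain ⟨x', rfl⟩ := exists_lift_of_cc X a ha hq'.le x h1
    rw [(hb b (le_refl b)).eq_of_tgt x' 0, zero_comp]

include hb hab in
lemma mono_uu : Mono (uu X a b ha) := by
  apply (IsFinFil A).ι.mono_of_mono_map
  haveI : ∀ q : ℤᵒᵖ, Mono (((IsFinFil A).ι.map (uu X a b ha)).app q) :=
    fun ⟨q⟩ => mono_cp_uu X a b ha hb hab q
  exact NatTrans.mono_of_mono_app _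

include hb in
lemma str_uu : Str (uu X a b ha) := by
  intro p q h T x y hxy
  have key : ∀ x' : T ⟶ lv X q, x' ≫ tr X h = x →
      ∃ (T' : A) (π : T' ⟶ T) (_ : Epi π) (x' : T' ⟶ lv X q),
        x' ≫ cp (uu X a b ha) q = π ≫ y := by
    intro x' hx'
    refine ⟨T, 𝟙 T, inferInstance, x', ?_⟩
    have : Mono (tr (bigI a b (JJ X a ha)) h) := (bigI a b (JJ X a ha)).property.1 _
    rw [Category.id_comp, ← cancel_mono (tr (bigI a b (JJ X a ha)) h), ← hxy, ← hx',
      Category.assoc, Category.assoc, cp_tr]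
  by_cases hqa : q ≤ a
  · haveI : IsIso (tr X h) := ha _ hqa
    exact key (x ≫ inv (tr X h)) (by rw [Category.assoc, IsIso.inv_hom_id, Category.comp_id])
  · have hqa' : a < q := not_le.1 hqa
    by_cases hqb : q ≤ b
    · rcases eq_or_lt_of_le h with rfl | hpq
      · exact key x (by rw [show tr X h = 𝟙 _ from trF_refl _ _, Category.comp_id])
      · have h1 : x ≫ kk X a ha p ≫ cc X a ha q = 0 := by
          have e1 : x ≫ kk X a ha p ≫ cc X a ha q =
              (x ≫ cp (uu X a b ha) p) ≫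
                biproduct.π (fun j : Idx a b p => JJ X a ha j.1) ⟨q, hqa', hpq, hqb⟩ := by
            rw [Category.assoc, cp_uu, uApp_π]
          have e2 : tr (bigI a b (JJ X a ha)) h ≫
              biproduct.π (fun j : Idx a b p => JJ X a ha j.1) ⟨q, hqa', hpq, hqb⟩ = 0 :=
            trI_π_neg a b _ h ⟨q, hqa', hpq, hqb⟩ (lt_irrefl q)
          rw [e1, hxy, Category.assoc, e2, comp_zero]
        obtain ⟨x', hx'⟩ := exists_lift_of_cc X a ha h x h1
        exact key x' hx'
    · have hz : IsZero (lv (bigI a b (JJ X a ha)) q) := isZero_lvI a b _ q (not_le.1 hqb).le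
      exact ⟨T, 𝟙 T, inferInstance, 0, hz.eq_of_tgt _ _⟩

end Map

/-- S1081 -/
theorem exists_strictMono [EnoughInjectives A] (X : FilF A) :
    ∃ (I : FilF A) (u : X ⟶ I), IsFilteredInjective I ∧ Mono u ∧ IsStrict u := by
  obtain ⟨b, hb⟩ := X.property.2.1
  obtain ⟨a₀, ha₀⟩ := X.property.2.2
  have ha : ∀ ⦃p q : ℤᵒᵖ⦄ (f : p ⟶ q), p.unop ≤ min a₀ (b - 1) → IsIso (X.obj.map f) :=
    fun p q f hp => ha₀ f (hp.trans (min_le_left _ _))
  have hab : min a₀ (b - 1) < b := lt_of_le_of_lt (min_le_right _ _) (by omega)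
  refine ⟨bigI (min a₀ (b - 1)) b (JJ X _ ha), uu X _ b ha, ?_, ?_, ?_⟩
  · exact filteredInjective_bigI _ _ _ (fun r => inferInstance)
  · exact mono_uu X _ b ha hb hab
  · exact (isStrict_iff _).2 (str_uu X _ b ha hb)

end Groth.Agent.Lib.Helper8.Fil10
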