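import Groth.Agent.Lib.Helper8.Fil10

/-!
# Helper8: cokernels of strict morphisms, graded exactness from levelwise exactness
-/

universe v u

open CategoryTheory CategoryTheory.Limits Opposite

namespace Groth.Agent.Lib.Helper8.Fil11

open FilD Fil1 Fil2 Fil3 Fil4 Fil5 Fil6 Fil7 Fil8 Fil9 Fil10

set_option linter.unusedSectionVars false

variable {A : Type u} [Category.{v} A] [Abelian A]

section Cokernel

variable {F G : ℤᵒᵖ ⥤ A} (α : F ⟶ G)

/-- the levelwise cokernel projection -/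
noncomputable abbrev cπ (p : ℤ) : G.obj (op p) ⟶ (cokernel α).obj (op p) :=
  (cokernel.π α).app (op p)

lemma comp_cπ (p : ℤ) : α.app (op p) ≫ cπ α p = 0 := by
  rw [← NatTrans.comp_app, cokernel.condition]
  rfl

instance (p : ℤ) : Epi (cπ α p) := by
  have : Epi (cokernel.π α) := inferInstance
  exact (NatTrans.epi_iff_epi_app (cokernel.π α)).1 this (op p)

/-- the levelwise cokernel is a cokernel -/
noncomputable def cπIsCokernel (p : ℤ) :
    IsColimit (CokernelCofork.ofπ (cπ α p) (comp_cπ α p)) :=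
  (CokernelCofork.ofπ (cokernel.π α) (cokernel.condition α)).mapIsColimit (cokernelIsCokernel α)
    ((evaluation ℤᵒᵖ A).obj (op p))

lemma cπ_naturality {p q : ℤ} (h : p ≤ q) :
    trF G h ≫ cπ α p = cπ α q ≫ trF (cokernel α) h := (cokernel.π α).naturality _

/-- levelwise exactness at the middle term -/
lemma exists_lift_of_comp_cπ (p : ℤ) {T : A} (y : T ⟶ G.obj (op p)) (hy : y ≫ cπ α p = 0) :
    ∃ (T' : A) (π : T' ⟶ T) (_ : Epi π) (x : T' ⟶ F.obj (op p)), π ≫ y = x ≫ α.app (op p) := by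
  have hex : (ShortComplex.mk (α.app (op p)) (cπ α p) (comp_cπ α p)).Exact :=
    ShortComplex.exact_of_g_is_cokernel _ (cπIsCokernel α p)
  exact hex.exact_up_to_refinements y hy

end Cokernel

section CokerFil

variable {X Y : FilF A} (φ : X ⟶ Y) (hφ : Str φ)

include hφ in
lemma mono_cokernel_map {q q' : ℤ} (h : q ≤ q') : Mono (trF (cokernel φ.hom) h) := by
  rw [Preadditive.mono_iff_cancel_zero]
  intro T t ht
  obtain ⟨T₁, π₁, hπ₁, y, hy⟩ := surjective_up_to_refinements_of_epi (cπ φ.hom q') t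
  have h1 : (y ≫ tr Y h) ≫ cπ φ.hom q = 0 := by
    rw [Category.assoc, cπ_naturality, ← Category.assoc, ← hy, Category.assoc, ht, comp_zero]
  obtain ⟨T₂, π₂, hπ₂, x, hx⟩ := exists_lift_of_comp_cπ φ.hom q _ h1
  obtain ⟨T₃, π₃, hπ₃, x', hx'⟩ := hφ q q' h x (π₂ ≫ y) (by rw [← hx, Category.assoc])
  have h2 : (π₃ ≫ π₂ ≫ π₁) ≫ t = 0 := by
    rw [Category.assoc, Category.assoc, hy, ← Category.assoc π₂, ← Category.assoc π₃, ← hx',
      Category.assoc]
    exact (congrArg (fun k => x' ≫ k) (comp_cπ φ.hom q')).trans comp_zero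
  exact (cancel_epi (π₃ ≫ π₂ ≫ π₁)).1 (h2.trans comp_zero.symm)

include hφ in
/-- the levelwise cokernel of a strict morphism is a finite filtered object -/
lemma isFinFil_cokernel : IsFinFil A (cokernel φ.hom) := by
  refine ⟨?_, ?_, ?_⟩
  · rintro ⟨q'⟩ ⟨q⟩ f
    exact mono_cokernel_map φ hφ (leOfHom f.unop)
  · obtain ⟨b, hb⟩ := Y.property.2.1
    exact ⟨b, fun p hp => IsZero.of_epi (cπ φ.hom p) (hb p hp)⟩
  · obtain ⟨a₂, ha₂⟩ := Y.property.2.2
    refine ⟨a₂, ?_⟩
    rintro ⟨q'⟩ ⟨q⟩ f hq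
    have i2 : IsIso (Y.obj.map f) := ha₂ f hq
    have hm : Mono ((cokernel φ.hom).map f) := mono_cokernel_map φ hφ (leOfHom f.unop)
    have hnat : Y.obj.map f ≫ cπ φ.hom q = cπ φ.hom q' ≫ (cokernel φ.hom).map f :=
      (cokernel.π φ.hom).naturality f
    have he : Epi ((cokernel φ.hom).map f) := by
      have : Epi (cπ φ.hom q' ≫ (cokernel φ.hom).map f) := by
        rw [← hnat]
        infer_instance
      exact epi_of_epi (cπ φ.hom q') _
    exact isIso_of_mono_of_epi _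

/-- the cokernel of a strict morphism -/
noncomputable def cokerF : FilF A := ⟨cokernel φ.hom, isFinFil_cokernel φ hφ⟩

/-- the projection to the cokernel -/
noncomputable def cokerπ : Y ⟶ cokerF φ hφ := ObjectProperty.homMk (cokernel.π φ.hom)

lemma cp_cokerπ (p : ℤ) : cp (cokerπ φ hφ) p = cπ φ.hom p := rfl

instance epi_cp_cokerπ (p : ℤ) : Epi (cp (cokerπ φ hφ) p) :=
  inferInstanceAs (Epi (cπ φ.hom p))

lemma comp_cokerπ : φ ≫ cokerπ φ hφ = 0 := by
  apply ObjectProperty.hom_ext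
  exact cokernel.condition φ.hom

lemma exists_lift_of_comp_cokerπ (p : ℤ) {T : A} (y : T ⟶ lv Y p)
    (hy : y ≫ cp (cokerπ φ hφ) p = 0) :
    ∃ (T' : A) (π : T' ⟶ T) (_ : Epi π) (x : T' ⟶ lv X p), π ≫ y = x ≫ cp φ p :=
  exists_lift_of_comp_cπ φ.hom p y hy

end CokerFil

section Graded

variable {X Y Z : FilF A} (f : X ⟶ Y) (g : Y ⟶ Z) (hfg : f ≫ g = 0)

include hfg in
/-- levelwise exactness and strictness of the second map imply exactness of graded pieces -/
theorem gr_exact_of_lvExact (hg : Str g) (hex : ∀ p, LvExact f g p) (p : ℤ) :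
    (ShortComplex.mk ((gr A p).map f.hom) ((gr A p).map g.hom) (by
      rw [← Functor.map_comp, ← ObjectProperty.FullSubcategory.comp_hom, hfg]
      exact (gr A p).map_zero _ _)).Exact := by
  rw [ShortComplex.exact_iff_exact_up_to_refinements]
  intro T (ybar : T ⟶ (gr A p).obj Y.obj) (hybar : ybar ≫ (gr A p).map g.hom = 0)
  obtain ⟨T₁, π₁, hπ₁, y, hy⟩ := surjective_up_to_refinements_of_epi (grπ Y.obj p) ybar
  have h1 : (y ≫ cp g p) ≫ grπ Z.obj p = 0 := by
    rw [Category.assoc, ← grπ_map, ← Category.assoc, ← hy, Category.assoc, hybar, comp_zero]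
  obtain ⟨z, hz⟩ := exists_lift_of_grπ_eq_zero Z.obj (y ≫ cp g p) h1
  obtain ⟨T₂, π₂, hπ₂, y', hy'⟩ := hg p (p + 1) (Int.le_add_one le_rfl) y z hz.symm
  have h2 : (π₂ ≫ y - y' ≫ st Y p) ≫ cp g p = 0 := by
    rw [Preadditive.sub_comp, Category.assoc, Category.assoc, cp_st, ← Category.assoc y', hy',
      ← hz, Category.assoc, sub_self]
  obtain ⟨T₃, π₃, hπ₃, x, hx⟩ := hex p _ h2
  have key : (π₃ ≫ π₂ ≫ π₁) ≫ ybar = (x ≫ grπ X.obj p) ≫ (gr A p).map f.hom := by
    have e1 : (x ≫ grπ X.obj p) ≫ (gr A p).map f.hom = (x ≫ cp f p) ≫ grπ Y.obj p := by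
      rw [Category.assoc, grπ_map, Category.assoc]
    have e2 : (y' ≫ st Y p) ≫ grπ Y.obj p = 0 := by
      rw [Category.assoc]
      exact (congrArg (fun t => y' ≫ t) (step_grπ Y.obj p)).trans comp_zero
    have e3 : (π₃ ≫ (π₂ ≫ y - y' ≫ st Y p)) ≫ grπ Y.obj p = π₃ ≫ π₂ ≫ y ≫ grπ Y.obj p := by
      rw [Category.assoc, Preadditive.sub_comp, e2, sub_zero, Category.assoc]
    rw [e1, ← hx, e3, ← hy]
    simp only [Category.assoc]
  exact ⟨T₃, π₃ ≫ π₂ ≫ π₁, inferInstance, x ≫ grπ X.obj p, key⟩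

/-- a strict levelwise monomorphism induces monomorphisms on graded pieces -/
theorem mono_gr_of_str (hf : Str f) (hm : ∀ p, Mono (cp f p)) (p : ℤ) :
    Mono ((gr A p).map f.hom) := by
  rw [Preadditive.mono_iff_cancel_zero]
  intro T (xbar : T ⟶ (gr A p).obj X.obj) (hxbar : xbar ≫ (gr A p).map f.hom = 0)
  obtain ⟨T₁, π₁, hπ₁, x, hx⟩ := surjective_up_to_refinements_of_epi (grπ X.obj p) xbar
  have h1 : (x ≫ cp f p) ≫ grπ Y.obj p = 0 := by
    rw [Category.assoc, ← grπ_map, ← Category.assoc, ← hx, Category.assoc, hxbar, comp_zero]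
  obtain ⟨y, hy⟩ := exists_lift_of_grπ_eq_zero Y.obj (x ≫ cp f p) h1
  obtain ⟨T₂, π₂, hπ₂, x', hx'⟩ := hf p (p + 1) (Int.le_add_one le_rfl) x y hy.symm
  have := hm p
  have h2 : π₂ ≫ x = x' ≫ st X p := by
    rw [← cancel_mono (cp f p), Category.assoc, Category.assoc, cp_st, ← Category.assoc x', hx',
      Category.assoc]
    exact congrArg (fun t => π₂ ≫ t) hy.symm
  have h3 : (π₂ ≫ π₁) ≫ xbar = 0 := by
    rw [Category.assoc, hx, ← Category.assoc, h2, Category.assoc]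
    exact (congrArg (fun t => x' ≫ t) (step_grπ X.obj p)).trans comp_zero
  exact (cancel_epi (π₂ ≫ π₁)).1 (h3.trans comp_zero.symm)

end Graded

end Groth.Agent.Lib.Helper8.Fil11
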