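import Groth.Agent.Lib.Helper8.Fil11
import Groth.Agent.Lib.Helper8.CE3

/-!
# Helper8: filtered injective resolutions of a single object (S1089)
-/

universe v u

open CategoryTheory CategoryTheory.Limits Opposite

namespace Groth.Agent.Lib.Helper8.Fil12

open FilD Fil1 Fil2 Fil3 Fil4 Fil5 Fil6 Fil7 Fil8 Fil9 Fil10 Fil11

set_option linter.unusedSectionVars false

section General

variable {B : Type u} [Category.{v} B] [Abelian B]

/-- a criterion for a map from a complex concentrated in degree `0` to be a quasi-isomorphism -/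
lemma quasiIso_of_resolution {S C : CochainComplex B ℤ} (f : S ⟶ C)
    (hS : ∀ q : ℤ, q ≠ 0 → S.ExactAt q) (hC : ∀ q : ℤ, q ≠ 0 → C.ExactAt q)
    (hS1 : S.d (-1) 0 = 0) (hS2 : S.d 0 1 = 0) (hC1 : C.d (-1) 0 = 0)
    (hm : Mono (f.f 0))
    (h0 : (ShortComplex.mk (f.f 0) (C.d 0 1) (by rw [f.comm, hS2, zero_comp])).Exact) :
    QuasiIso f := by
  refine ⟨fun n => ?_⟩
  by_cases hn : n = 0
  · subst hn
    rw [quasiIsoAt_iff' f (-1) 0 1 (by simp) (by simp),
      ShortComplex.quasiIso_iff_of_zeros _ hS1 hS2 hC1]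
    exact ⟨h0, hm⟩
  · rw [quasiIsoAt_iff_exactAt f n (hS n hn)]
    exact hC n hn

lemma exact_of_iso_comp {X₀ X₁ X₂ X₃ : B} (i : X₀ ⟶ X₁) [IsIso i] (f : X₁ ⟶ X₂) (g : X₂ ⟶ X₃)
    (w : f ≫ g = 0) (h : (ShortComplex.mk f g w).Exact) (w' : (i ≫ f) ≫ g = 0) :
    (ShortComplex.mk (i ≫ f) g w').Exact :=
  have e : ShortComplex.mk f g w ≅ ShortComplex.mk (i ≫ f) g w' :=
    ShortComplex.isoMk (asIso i).symm (Iso.refl _) (Iso.refl _) (by simp) (by simp)
  ShortComplex.exact_of_iso e h

end General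

variable {A : Type u} [Category.{v} A] [Abelian A] [EnoughInjectives A]

section Hull

/-- a chosen filtered injective object containing `C` -/
noncomputable def hullObj (C : FilF A) : FilF A := (exists_strictMono C).choose

/-- the chosen strict monomorphism -/
noncomputable def hullMap (C : FilF A) : C ⟶ hullObj C := (exists_strictMono C).choose_spec.choose

lemma hull_inj (C : FilF A) : IsFilteredInjective (hullObj C) :=
  (exists_strictMono C).choose_spec.choose_spec.1

instance hull_mono (C : FilF A) : Mono (hullMap C) :=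
  (exists_strictMono C).choose_spec.choose_spec.2.1

lemma hull_str (C : FilF A) : Str (hullMap C) :=
  (isStrict_iff _).1 (exists_strictMono C).choose_spec.choose_spec.2.2

instance hull_mono_cp (C : FilF A) (p : ℤ) : Mono (cp (hullMap C) p) := mono_cp _ p

/-- the cokernel of the chosen strict monomorphism -/
noncomputable def nextC (C : FilF A) : FilF A := cokerF (hullMap C) (hull_str C)

/-- the projection -/
noncomputable def nextπ (C : FilF A) : hullObj C ⟶ nextC C := cokerπ (hullMap C) (hull_str C)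

instance (C : FilF A) (p : ℤ) : Epi (cp (nextπ C) p) := epi_cp_cokerπ _ _ p

lemma hullMap_nextπ (C : FilF A) : hullMap C ≫ nextπ C = 0 := comp_cokerπ _ _

lemma lvExact_hull (C : FilF A) (p : ℤ) : LvExact (hullMap C) (nextπ C) p :=
  fun _ y hy => exists_lift_of_comp_cokerπ (hullMap C) (hull_str C) p y hy

/-- the differential -/
noncomputable def dd (C : FilF A) : hullObj C ⟶ hullObj (nextC C) := nextπ C ≫ hullMap (nextC C)

lemma hullMap_dd (C : FilF A) : hullMap C ≫ dd C = 0 := by
  unfold dd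
  rw [← Category.assoc, hullMap_nextπ, zero_comp]

lemma dd_dd (C : FilF A) : dd C ≫ dd (nextC C) = 0 := by
  unfold dd
  rw [Category.assoc, ← Category.assoc (hullMap (nextC C)), hullMap_nextπ, zero_comp, comp_zero]

lemma str_dd (C : FilF A) : Str (dd C) := by
  intro p q h T x z hxz
  have h1 : (x ≫ cp (nextπ C) p) ≫ cp (hullMap (nextC C)) p = z ≫ tr _ h := by
    rw [Category.assoc]
    exact hxz
  obtain ⟨T₁, π₁, hπ₁, c, hc⟩ := hull_str (nextC C) p q h _ z h1
  obtain ⟨T₂, π₂, hπ₂, x', hx'⟩ := surjective_up_to_refinements_of_epi (cp (nextπ C) q) c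
  refine ⟨T₂, π₂ ≫ π₁, inferInstance, x', ?_⟩
  have e : cp (dd C) q = cp (nextπ C) q ≫ cp (hullMap (nextC C)) q := rfl
  rw [e, ← Category.assoc, ← hx', Category.assoc, hc, Category.assoc]

lemma lvExact_hull_dd (C : FilF A) (p : ℤ) : LvExact (hullMap C) (dd C) p := by
  intro T y hy
  have h1 : y ≫ cp (nextπ C) p = 0 := by
    rw [← cancel_mono (cp (hullMap (nextC C)) p), zero_comp, Category.assoc]
    exact hy
  exact lvExact_hull C p y h1

lemma lvExact_dd_dd (C : FilF A) (p : ℤ) : LvExact (dd C) (dd (nextC C)) p := by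
  intro T y hy
  obtain ⟨T₁, π₁, hπ₁, c, hc⟩ := lvExact_hull_dd (nextC C) p y hy
  obtain ⟨T₂, π₂, hπ₂, x, hx⟩ := surjective_up_to_refinements_of_epi (cp (nextπ C) p) c
  refine ⟨T₂, π₂ ≫ π₁, inferInstance, x, ?_⟩
  have e : cp (dd C) p = cp (nextπ C) p ≫ cp (hullMap (nextC C)) p := rfl
  rw [e, ← Category.assoc, ← hx, Category.assoc, Category.assoc, hc]

end Hull

section Seq

variable (X : FilF A)

/-- the successive cokernels -/
noncomputable def Cs : ℕ → FilF A
  | 0 => X
  | n + 1 => nextC (Cs n)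

/-- the terms of the resolution -/
noncomputable def Js (n : ℕ) : FilF A := hullObj (Cs X n)

/-- the differentials of the resolution -/
noncomputable def dJ (n : ℕ) : Js X n ⟶ Js X (n + 1) := dd (Cs X n)

lemma dJ_comp (n : ℕ) : dJ X n ≫ dJ X (n + 1) = 0 := dd_dd (Cs X n)

/-- the resolution, as an `ℕ`-indexed complex -/
noncomputable def Jc : CochainComplex (FilF A) ℕ := CochainComplex.of (Js X) (dJ X) (dJ_comp X)

lemma Jc_d (n : ℕ) : (Jc X).d n (n + 1) = dJ X n := CochainComplex.of_d (Js X) (dJ X) n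

/-- the augmentation -/
noncomputable def aug : X ⟶ (Jc X).X 0 := hullMap X

lemma aug_d : aug X ≫ (Jc X).d 0 1 = 0 := by
  have e : (Jc X).d 0 1 = dd X := Jc_d X 0
  rw [e]
  exact hullMap_dd X

lemma isRes_gr (p : ℤ) :
    CE1.IsRes (((grF A p).mapHomologicalComplex _).obj (Jc X)) ((grF A p).obj X)
      ((grF A p).map (aug X)) where
  w := by
    have key : (grF A p).map (aug X) ≫ (grF A p).map ((Jc X).d 0 1) = 0 := by
      rw [← Functor.map_comp, aug_d, Functor.map_zero]
    exact key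
  inj n := hull_inj (Cs X n) p
  exact_succ n := by
    rw [HomologicalComplex.exactAt_iff' _ n (n + 1) (n + 1 + 1) (by simp) (by simp)]
    have key : ∀ (d1 : Js X n ⟶ Js X (n + 1)) (d2 : Js X (n + 1) ⟶ Js X (n + 1 + 1))
        (_ : d1 = dJ X n) (_ : d2 = dJ X (n + 1))
        (w : (grF A p).map d1 ≫ (grF A p).map d2 = 0),
        (ShortComplex.mk ((grF A p).map d1) ((grF A p).map d2) w).Exact := by
      intro d1 d2 e1 e2 w
      subst e1 e2
      exact gr_exact_of_lvExact (dd (Cs X n)) (dd (Cs X (n + 1))) (dd_dd (Cs X n))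
        (str_dd (Cs X (n + 1))) (lvExact_dd_dd (Cs X n)) p
    exact key _ _ (Jc_d X n) (Jc_d X (n + 1)) _
  mono := mono_gr_of_str (hullMap X) (hull_str X) (fun q => hull_mono_cp X q) p
  exact₀ := by
    have key : ∀ (d1 : Js X 0 ⟶ Js X (0 + 1)) (_ : d1 = dJ X 0)
        (w : (grF A p).map (aug X) ≫ (grF A p).map d1 = 0),
        (ShortComplex.mk ((grF A p).map (aug X)) ((grF A p).map d1) w).Exact := by
      intro d1 e1 w
      subst e1
      exact gr_exact_of_lvExact (hullMap X) (dd X) (hullMap_dd X)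
        (str_dd X) (lvExact_hull_dd X) p
    exact key _ (Jc_d X 0) _

end Seq

section Final

variable (X : FilF A)

/-- the resolution, as a `ℤ`-indexed complex -/
noncomputable abbrev Jz : CochainComplex (FilF A) ℤ := CE3.ext (Jc X)

/-- the augmentation into degree zero -/
noncomputable def augz : X ⟶ (Jz X).X 0 := aug X ≫ (CE3.extIso₀ (Jc X)).inv

lemma isInjRes_gr (p : ℤ) :
    CE.IsInjResolutionVia (((grF A p).mapHomologicalComplex _).obj (Jz X)) ((grF A p).obj X)
      ((grF A p).map (augz X)) :=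
  CE3.extF (grF A p) (Jc X) (aug X) (isRes_gr X p)

lemma augz_d (k : ℤ) : augz X ≫ (Jz X).d 0 k = 0 := by
  by_cases hk : (0 : ℤ) + 1 = k
  · subst hk
    unfold augz
    have e : (Jz X).d 0 (0 + 1) = (CE3.extIso₀ (Jc X)).hom ≫ (Jc X).d 0 1 ≫
        (CE3.extIso (Jc X) 1).inv := CE3.ext_d₀ (Jc X)
    rw [e, Category.assoc, Iso.inv_hom_id_assoc, ← Category.assoc, aug_d, zero_comp]
  · rw [(Jz X).shape 0 k hk, comp_zero]

/-- the resolution map -/
noncomputable def resMap :
    (HomologicalComplex.single (FilF A) (ComplexShape.up ℤ) (0 : ℤ)).obj X ⟶ Jz X :=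
  HomologicalComplex.mkHomFromSingle (augz X) (fun k _ => augz_d X k)

lemma isStrictlyGE_Jz : (Jz X).IsStrictlyGE 0 := by
  rw [CochainComplex.isStrictlyGE_iff]
  intro q hq
  exact CE3.isZero_ext (Jc X) q hq

lemma filteredInjective_Jz (n : ℤ) : IsFilteredInjective ((Jz X).X n) := by
  intro p
  by_cases hn : n < 0
  · exact ((grF A p).map_isZero (CE3.isZero_ext (Jc X) n hn)).injective
  · obtain ⟨k, rfl⟩ := Int.eq_ofNat_of_zero_le (not_lt.1 hn)
    have := hull_inj (Cs X k) p
    exact Injective.of_iso ((grF A p).mapIso (CE3.extIso (Jc X) k)).symm this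

theorem filteredQuasiIso_resMap : IsFilteredQuasiIso (resMap X) := by
  intro p
  obtain ⟨w, hge, -, hex, hm, h0⟩ := isInjRes_gr X p
  have hz : ∀ q : ℤ, q ≠ 0 →
      IsZero (((HomologicalComplex.single (FilF A) (ComplexShape.up ℤ) (0 : ℤ)).obj X).X q) :=
    fun q hq => HomologicalComplex.isZero_single_obj_X (ComplexShape.up ℤ) 0 X q hq
  have hf0 : ((grCx p).map (resMap X)).f 0 =
      ((grF A p).mapIso (HomologicalComplex.singleObjXSelf (ComplexShape.up ℤ) (0 : ℤ) X)).hom ≫
        (grF A p).map (augz X) := by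
    have e : ((grCx p).map (resMap X)).f 0 = (grF A p).map ((resMap X).f 0) := rfl
    rw [e, Functor.mapIso_hom, ← Functor.map_comp]
    unfold resMap
    rw [HomologicalComplex.mkHomFromSingle_f]
  have hmono : Mono (((grF A p).mapIso (HomologicalComplex.singleObjXSelf (ComplexShape.up ℤ)
      (0 : ℤ) X)).hom ≫ (grF A p).map (augz X)) := by
    have : Mono ((grF A p).map (augz X)) := hm
    exact mono_comp _ _
  have hexact : ∀ (w' : (((grF A p).mapIso (HomologicalComplex.singleObjXSelf (ComplexShape.up ℤ)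
      (0 : ℤ) X)).hom ≫ (grF A p).map (augz X)) ≫
        (((grF A p).mapHomologicalComplex (ComplexShape.up ℤ)).obj (Jz X)).d 0 1 = 0),
      (ShortComplex.mk (((grF A p).mapIso (HomologicalComplex.singleObjXSelf (ComplexShape.up ℤ)
      (0 : ℤ) X)).hom ≫ (grF A p).map (augz X))
        ((((grF A p).mapHomologicalComplex (ComplexShape.up ℤ)).obj (Jz X)).d 0 1) w').Exact :=
    fun w' => exact_of_iso_comp _ _ _ w h0 w'
  refine quasiIso_of_resolution ((grCx p).map (resMap X)) ?_ hex ?_ ?_ ?_ ?_ ?_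
  · intro q hq
    exact HomologicalComplex.ExactAt.of_isZero ((grF A p).map_isZero (hz q hq))
  · have e : ((grCx p).obj ((HomologicalComplex.single (FilF A) (ComplexShape.up ℤ)
        (0 : ℤ)).obj X)).d (-1) 0 = (grF A p).map (((HomologicalComplex.single (FilF A)
        (ComplexShape.up ℤ) (0 : ℤ)).obj X).d (-1) 0) := rfl
    exact e.trans (by rw [HomologicalComplex.single_obj_d, Functor.map_zero]; rfl)
  · have e : ((grCx p).obj ((HomologicalComplex.single (FilF A) (ComplexShape.up ℤ)
        (0 : ℤ)).obj X)).d 0 1 = (grF A p).map (((HomologicalComplex.single (FilF A)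
        (ComplexShape.up ℤ) (0 : ℤ)).obj X).d 0 1) := rfl
    exact e.trans (by rw [HomologicalComplex.single_obj_d, Functor.map_zero]; rfl)
  · exact (CochainComplex.isZero_of_isStrictlyGE _ 0 (-1) (by simp)).eq_of_src _ _
  · rw [hf0]
    exact hmono
  · have key : ∀ (t : ((grCx p).obj ((HomologicalComplex.single (FilF A) (ComplexShape.up ℤ)
        (0 : ℤ)).obj X)).X 0 ⟶ ((grCx p).obj (Jz X)).X 0)
        (_ : t = ((grF A p).mapIso (HomologicalComplex.singleObjXSelf (ComplexShape.up ℤ)
          (0 : ℤ) X)).hom ≫ (grF A p).map (augz X))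
        (w' : t ≫ ((grCx p).obj (Jz X)).d 0 1 = 0),
        (ShortComplex.mk t (((grCx p).obj (Jz X)).d 0 1) w').Exact := by
      intro t ht w'
      subst ht
      exact hexact w'
    exact key _ hf0 _

/-- S1089 -/
theorem exists_resolution_single :
    ∃ (I : CochainComplex (FilF A) ℤ)
      (φ : (HomologicalComplex.single (FilF A) (ComplexShape.up ℤ) (0 : ℤ)).obj X ⟶ I),
      I.IsStrictlyGE 0 ∧ (∀ n, IsFilteredInjective (I.X n)) ∧ IsFilteredQuasiIso φ :=
  ⟨Jz X, resMap X, isStrictlyGE_Jz X, filteredInjective_Jz X, filteredQuasiIso_resMap X⟩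

end Final

end Groth.Agent.Lib.Helper8.Fil12
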