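import Groth.Agent.Lib.Helper8.Fil12
import Mathlib.Algebra.Homology.Refinements

/-!
# Helper8: quasi-isomorphism criteria by diagram chasing, more on cokernels in `Fil^f(A)`
-/

universe v u

open CategoryTheory CategoryTheory.Limits Opposite

namespace Groth.Agent.Lib.Helper8.Fil13

open FilD Fil1 Fil2 Fil3 Fil4 Fil5 Fil6 Fil7 Fil8 Fil9 Fil10 Fil11 Fil12

set_option linter.unusedSectionVars false

section General

variable {B : Type u} [Category.{v} B] [Abelian B]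

/-- a termwise epimorphism whose kernel is acyclic is a quasi-isomorphism -/
theorem quasiIso_of_epi_of_kernel_acyclic {K L : CochainComplex B ℤ} (φ : K ⟶ L)
    (hepi : ∀ n, Epi (φ.f n))
    (hker : ∀ (i j k : ℤ) (_ : i + 1 = j) (_ : j + 1 = k) ⦃T : B⦄ (x : T ⟶ K.X j),
      x ≫ φ.f j = 0 → x ≫ K.d j k = 0 →
      ∃ (T' : B) (π : T' ⟶ T) (_ : Epi π) (y : T' ⟶ K.X i),
        y ≫ φ.f i = 0 ∧ π ≫ x = y ≫ K.d i j) :
    QuasiIso φ := by
  refine ⟨fun n => ?_⟩
  rw [quasiIsoAt_iff_isIso_homologyMap]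
  have hm : Mono (HomologicalComplex.homologyMap φ n) := by
    rw [HomologicalComplex.mono_homologyMap_iff_up_to_refinements φ (n - 1) n (n + 1)
      (by simp) (by simp)]
    intro T x₂ hx₂ y₁ hy₁
    have := hepi (n - 1)
    obtain ⟨T₁, π₁, hπ₁, z, hz⟩ := surjective_up_to_refinements_of_epi (φ.f (n - 1)) y₁
    have h1 : (π₁ ≫ x₂ - z ≫ K.d (n - 1) n) ≫ φ.f n = 0 := by
      rw [Preadditive.sub_comp, Category.assoc, Category.assoc, hy₁, ← φ.comm, ← Category.assoc z,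
        ← hz, Category.assoc, sub_self]
    have h2 : (π₁ ≫ x₂ - z ≫ K.d (n - 1) n) ≫ K.d n (n + 1) = 0 := by
      rw [Preadditive.sub_comp, Category.assoc, Category.assoc, hx₂, K.d_comp_d, comp_zero,
        comp_zero, sub_zero]
    obtain ⟨T₂, π₂, hπ₂, y, -, hy⟩ := hker (n - 1) n (n + 1) (by omega) rfl _ h1 h2
    refine ⟨T₂, π₂ ≫ π₁, inferInstance, π₂ ≫ z + y, ?_⟩
    rw [Preadditive.add_comp, ← hy, Preadditive.comp_sub, Category.assoc, Category.assoc]
    abel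
  have he : Epi (HomologicalComplex.homologyMap φ n) := by
    rw [HomologicalComplex.epi_homologyMap_iff_up_to_refinements φ (n - 1) n (n + 1)
      (by simp) (by simp)]
    intro T y₂ hy₂
    have := hepi n
    obtain ⟨T₁, π₁, hπ₁, x, hx⟩ := surjective_up_to_refinements_of_epi (φ.f n) y₂
    have h1 : (x ≫ K.d n (n + 1)) ≫ φ.f (n + 1) = 0 := by
      rw [Category.assoc, ← φ.comm, ← Category.assoc, ← hx, Category.assoc, hy₂, comp_zero]
    have h2 : (x ≫ K.d n (n + 1)) ≫ K.d (n + 1) (n + 1 + 1) = 0 := by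
      rw [Category.assoc, K.d_comp_d, comp_zero]
    obtain ⟨T₂, π₂, hπ₂, y, hy0, hy⟩ := hker n (n + 1) (n + 1 + 1) rfl rfl _ h1 h2
    refine ⟨T₂, π₂ ≫ π₁, inferInstance, π₂ ≫ x - y, ?_, 0, ?_⟩
    · rw [Preadditive.sub_comp, Category.assoc, ← hy, sub_self]
    · rw [zero_comp, add_zero, Preadditive.sub_comp, hy0, sub_zero, Category.assoc, Category.assoc,
        hx]
  exact isIso_of_mono_of_epi _

/-- a termwise monomorphism whose cokernel is acyclic is a quasi-isomorphism -/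
theorem quasiIso_of_mono_of_cokernel_acyclic {K L : CochainComplex B ℤ} (φ : K ⟶ L)
    (hmono : ∀ n, Mono (φ.f n))
    (hcok : ∀ (i j k : ℤ) (_ : i + 1 = j) (_ : j + 1 = k) ⦃T : B⦄ (y : T ⟶ L.X j)
      (x : T ⟶ K.X k), y ≫ L.d j k = x ≫ φ.f k →
      ∃ (T' : B) (π : T' ⟶ T) (_ : Epi π) (y' : T' ⟶ L.X i) (x' : T' ⟶ K.X j),
        π ≫ y = y' ≫ L.d i j + x' ≫ φ.f j) :
    QuasiIso φ := by
  refine ⟨fun n => ?_⟩
  rw [quasiIsoAt_iff_isIso_homologyMap]
  have hm : Mono (HomologicalComplex.homologyMap φ n) := by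
    rw [HomologicalComplex.mono_homologyMap_iff_up_to_refinements φ (n - 1) n (n + 1)
      (by simp) (by simp)]
    intro T x₂ hx₂ y₁ hy₁
    -- `y₁ : T ⟶ L.X (n-1)` with `y₁ d = x₂ φ`
    obtain ⟨T₁, π₁, hπ₁, y', x', hy'⟩ := hcok (n - 1 - 1) (n - 1) n (by omega) (by omega) y₁ x₂
      hy₁.symm
    have := hmono n
    refine ⟨T₁, π₁, hπ₁, x', ?_⟩
    rw [← cancel_mono (φ.f n), Category.assoc, hy₁, ← Category.assoc, hy', Preadditive.add_comp,
      Category.assoc, L.d_comp_d, comp_zero, zero_add, Category.assoc, Category.assoc, φ.comm]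
  have he : Epi (HomologicalComplex.homologyMap φ n) := by
    rw [HomologicalComplex.epi_homologyMap_iff_up_to_refinements φ (n - 1) n (n + 1)
      (by simp) (by simp)]
    intro T y₂ hy₂
    obtain ⟨T₁, π₁, hπ₁, y', x', hy'⟩ := hcok (n - 1) n (n + 1) (by omega) rfl y₂ 0
      (by rw [hy₂, zero_comp])
    have := hmono (n + 1)
    refine ⟨T₁, π₁, hπ₁, x', ?_, y', ?_⟩
    · rw [← cancel_mono (φ.f (n + 1)), zero_comp, Category.assoc, ← φ.comm, ← Category.assoc]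
      have e : x' ≫ φ.f n = π₁ ≫ y₂ - y' ≫ L.d (n - 1) n := by rw [hy']; abel
      rw [e, Preadditive.sub_comp, Category.assoc, hy₂, comp_zero, Category.assoc, L.d_comp_d,
        comp_zero, sub_zero]
    · rw [hy']
      abel
  exact isIso_of_mono_of_epi _

end General

variable {A : Type u} [Category.{v} A] [Abelian A]

section Helpers

lemma cp_zero {X Y : FilF A} (p : ℤ) : cp (0 : X ⟶ Y) p = 0 := rfl

lemma str_of_epi_cp {Y Z : FilF A} (g : Y ⟶ Z) (h : ∀ p, Epi (cp g p)) : Str g := by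
  intro p q hpq T x y hxy
  have := h q
  exact ⟨pullback (cp g q) y, pullback.snd _ _, inferInstance, pullback.fst _ _,
    pullback.condition⟩

lemma str_comp_of_epi {W X Y : FilF A} (e : W ⟶ X) (he : ∀ p, Epi (cp e p)) (f : X ⟶ Y)
    (hf : Str f) : Str (e ≫ f) := by
  intro p q hpq T x y hxy
  obtain ⟨T₁, π₁, hπ₁, x', hx'⟩ := hf p q hpq (x ≫ cp e p) y (by
    rw [Category.assoc]
    exact hxy)
  have := he q
  obtain ⟨T₂, π₂, hπ₂, x'', hx''⟩ := surjective_up_to_refinements_of_epi (cp e q) x'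
  refine ⟨T₂, π₂ ≫ π₁, inferInstance, x'', ?_⟩
  have e1 : cp (e ≫ f) q = cp e q ≫ cp f q := rfl
  rw [e1, ← Category.assoc, ← hx'', Category.assoc, hx', Category.assoc]

lemma str_zero {X Y : FilF A} : Str (0 : X ⟶ Y) := by
  intro p q hpq T x y hxy
  refine ⟨T, 𝟙 T, inferInstance, 0, ?_⟩
  have hy : y = 0 := by
    rw [← cancel_mono (tr Y hpq), zero_comp, ← hxy, cp_zero, comp_zero]
  rw [hy, comp_zero, zero_comp]

lemma epi_gr_of_epi_cp {Y Z : FilF A} (g : Y ⟶ Z) (h : ∀ p, Epi (cp g p)) (p : ℤ) :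
    Epi ((gr A p).map g.hom) := by
  have := h p
  have e : grπ Y.obj p ≫ (gr A p).map g.hom = cp g p ≫ grπ Z.obj p := grπ_map g.hom p
  have : Epi (grπ Y.obj p ≫ (gr A p).map g.hom) := by
    rw [e]
    infer_instance
  exact epi_of_epi (grπ Y.obj p) _

variable {X Y Z : FilF A} (φ : X ⟶ Y) (hφ : Str φ)

/-- descent to the cokernel -/
noncomputable def cokerDesc (g : Y ⟶ Z) (w : φ ≫ g = 0) : cokerF φ hφ ⟶ Z :=
  ObjectProperty.homMk (cokernel.desc φ.hom g.hom (congrArg (fun k => k.hom) w))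

lemma cokerπ_desc (g : Y ⟶ Z) (w : φ ≫ g = 0) : cokerπ φ hφ ≫ cokerDesc φ hφ g w = g := by
  apply ObjectProperty.hom_ext
  exact cokernel.π_desc _ _ _

instance epi_cokerπ : Epi (cokerπ φ hφ) := by
  apply (IsFinFil A).ι.epi_of_epi_map
  have : ∀ q : ℤᵒᵖ, Epi (((IsFinFil A).ι.map (cokerπ φ hφ)).app q) :=
    fun ⟨q⟩ => epi_cp_cokerπ φ hφ q
  exact NatTrans.epi_of_epi_app _

lemma str_cokerπ : Str (cokerπ φ hφ) := str_of_epi_cp _ (fun p => epi_cp_cokerπ φ hφ p)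

end Helpers

end Groth.Agent.Lib.Helper8.Fil13
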