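import Groth.Agent.Lib.Helper8.Fil13

/-!
# Helper8: filtered truncation to a complex bounded below (S1087)
-/

universe v u

open CategoryTheory CategoryTheory.Limits Opposite

namespace Groth.Agent.Lib.Helper8.Fil14

open FilD Fil1 Fil2 Fil3 Fil4 Fil5 Fil6 Fil7 Fil8 Fil9 Fil10 Fil11 Fil12 Fil13

set_option linter.unusedSectionVars false

variable {A : Type u} [Category.{v} A] [Abelian A]

section QuotCx

variable (K : CochainComplex (FilF A) ℤ) (U : ℤ → FilF A) (u : ∀ n, U n ⟶ K.X n)
  (hu : ∀ n, Str (u n))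
  (hc : ∀ n, u n ≫ K.d n (n + 1) ≫ cokerπ (u (n + 1)) (hu (n + 1)) = 0)

/-- the terms of the quotient complex -/
noncomputable abbrev qX (n : ℤ) : FilF A := cokerF (u n) (hu n)

/-- the projections -/
noncomputable abbrev qπ (n : ℤ) : K.X n ⟶ qX K U u hu n := cokerπ (u n) (hu n)

instance (n : ℤ) : Epi (qπ K U u hu n) := epi_cokerπ _ _

/-- the differentials of the quotient complex -/
noncomputable def qd (n : ℤ) : qX K U u hu n ⟶ qX K U u hu (n + 1) :=
  cokerDesc (u n) (hu n) (K.d n (n + 1) ≫ qπ K U u hu (n + 1)) (hc n)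

lemma qπ_qd (n : ℤ) :
    qπ K U u hu n ≫ qd K U u hu hc n = K.d n (n + 1) ≫ qπ K U u hu (n + 1) :=
  cokerπ_desc _ _ _ _

lemma qd_qd (n : ℤ) : qd K U u hu hc n ≫ qd K U u hu hc (n + 1) = 0 := by
  rw [← cancel_epi (qπ K U u hu n), ← Category.assoc, qπ_qd, Category.assoc, qπ_qd,
    ← Category.assoc, K.d_comp_d, zero_comp, comp_zero]

/-- the quotient complex -/
noncomputable def qCx : CochainComplex (FilF A) ℤ :=
  CochainComplex.of (qX K U u hu) (qd K U u hu hc) (qd_qd K U u hu hc)

lemma qCx_d (n : ℤ) : (qCx K U u hu hc).d n (n + 1) = qd K U u hu hc n :=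
  CochainComplex.of_d (qX K U u hu) (qd K U u hu hc) n

/-- the projection to the quotient complex -/
noncomputable def qMap : K ⟶ qCx K U u hu hc where
  f n := qπ K U u hu n
  comm' i j hij := by
    obtain rfl : i + 1 = j := hij
    rw [qCx_d]
    exact qπ_qd K U u hu hc i

end QuotCx

section GrExact

variable (K : CochainComplex (FilF A) ℤ)

/-- exactness of the graded pieces, with explicit indices -/
lemma gr_exact_at (p : ℤ) (i j k : ℤ) (hij : i + 1 = j) (hjk : j + 1 = k)
    (h : ((grCx p).obj K).ExactAt j) :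
    (ShortComplex.mk ((gr A p).map (K.d i j).hom) ((gr A p).map (K.d j k).hom) (by
      rw [← Functor.map_comp, ← ObjectProperty.FullSubcategory.comp_hom, K.d_comp_d]
      exact (gr A p).map_zero _ _)).Exact := by
  subst hij hjk
  rw [HomologicalComplex.exactAt_iff' _ i (i + 1) (i + 1 + 1) (by simp) (by simp)] at h
  exact h

end GrExact

section Trunc

variable (K : CochainComplex (FilF A) ℤ) (a : ℤ)

/-- the source of the map whose cokernel is the truncation -/
noncomputable abbrev TU (n : ℤ) : FilF A := K.xPrev n ⊞ K.X n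

/-- the map whose cokernel is the truncation -/
noncomputable def tu (n : ℤ) : TU K n ⟶ K.X n :=
  if n < a then biprod.desc (K.dTo n) (𝟙 _) else if n = a then biprod.fst ≫ K.dTo n else 0

lemma tu_lt {n : ℤ} (h : n < a) : tu K a n = biprod.desc (K.dTo n) (𝟙 _) := if_pos h

lemma tu_eq : tu K a a = biprod.fst ≫ K.dTo a := by
  unfold tu
  rw [if_neg (lt_irrefl a), if_pos rfl]

lemma tu_gt {n : ℤ} (h : a < n) : tu K a n = 0 := by
  unfold tu
  rw [if_neg (by omega), if_neg (by omega)]

lemma inl_tu {n : ℤ} (h : n ≤ a) : biprod.inl ≫ tu K a n = K.dTo n := by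
  rcases lt_or_eq_of_le h with h | rfl
  · rw [tu_lt K a h, biprod.inl_desc]
  · rw [tu_eq, biprod.inl_fst_assoc]

lemma inr_tu {n : ℤ} (h : n < a) : biprod.inr ≫ tu K a n = 𝟙 _ := by
  rw [tu_lt K a h, biprod.inr_desc]

lemma epi_cp_of_split {X Y : FilF A} (f : X ⟶ Y) (s : Y ⟶ X) (h : s ≫ f = 𝟙 _) (p : ℤ) :
    Epi (cp f p) := by
  have e : cp s p ≫ cp f p = 𝟙 _ := by
    rw [← cp_comp, h]
    rfl
  exact epi_of_epi_fac e

variable (hK : ∀ (p n : ℤ), n < a → IsZero (((grCx p).obj K).homology n))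

include hK in
lemma exactAt_of_lt (p n : ℤ) (hn : n < a) : ((grCx p).obj K).ExactAt n := by
  rw [HomologicalComplex.exactAt_iff_isZero_homology]
  exact hK p n hn

include hK in
lemma str_d_pred (i : ℤ) (hi : i + 1 = a) : Str (K.d i a) := by
  subst hi
  exact str_g (K.d (i - 1) i) (K.d i (i + 1)) (K.d_comp_d _ _ _)
    (fun p => gr_exact_at K p (i - 1) i (i + 1) (by omega) rfl
      (exactAt_of_lt K (i + 1) hK p i (by omega)))

include hK in
lemma str_dTo : Str (K.dTo a) := by
  have r : (ComplexShape.up ℤ).Rel (a - 1) a := by simp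
  rw [K.dTo_eq r]
  refine str_comp_of_epi _ (fun p => ?_) _ (str_d_pred K a hK (a - 1) (by omega))
  exact epi_cp_of_split _ (K.xPrevIso r).inv (Iso.inv_hom_id _) p

include hK in
lemma str_tu (n : ℤ) : Str (tu K a n) := by
  rcases lt_trichotomy n a with h | rfl | h
  · exact str_of_epi_cp _ (fun p => epi_cp_of_split _ biprod.inr (inr_tu K a h) p)
  · rw [tu_eq]
    exact str_comp_of_epi _ (fun p => epi_cp_of_split _ biprod.inl biprod.inl_fst p) _
      (str_dTo K n hK)
  · rw [tu_gt K a h]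
    exact str_zero

include hK in
lemma tu_compat (n : ℤ) :
    tu K a n ≫ K.d n (n + 1) ≫ cokerπ (tu K a (n + 1)) (str_tu K a hK (n + 1)) = 0 := by
  by_cases h : n + 1 ≤ a
  · have r : (ComplexShape.up ℤ).Rel n (n + 1) := by simp
    have e : K.d n (n + 1) = (K.xPrevIso r).inv ≫ biprod.inl ≫ tu K a (n + 1) := by
      rw [inl_tu K a h, K.dTo_eq r, Iso.inv_hom_id_assoc]
    rw [e, Category.assoc, Category.assoc, comp_cokerπ, comp_zero, comp_zero, comp_zero]
  · rcases eq_or_lt_of_le (not_lt.1 (fun h' : n < a => h (by omega))) with rfl | h'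
    · rw [tu_eq, Category.assoc]
      have e : K.dTo a ≫ K.d a (a + 1) = 0 := K.d_comp_d _ _ _
      rw [reassoc_of% e, zero_comp, comp_zero]
    · rw [tu_gt K a h', zero_comp]

/-- the truncated complex -/
noncomputable def truncCx : CochainComplex (FilF A) ℤ :=
  qCx K (TU K) (tu K a) (str_tu K a hK) (tu_compat K a hK)

/-- the projection to the truncated complex -/
noncomputable def truncMap : K ⟶ truncCx K a hK :=
  qMap K (TU K) (tu K a) (str_tu K a hK) (tu_compat K a hK)

include hK in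
lemma isZero_truncX (n : ℤ) (hn : n < a) : IsZero (qX K (TU K) (tu K a) (str_tu K a hK) n) := by
  apply IsZero.of_epi_eq_zero (qπ K (TU K) (tu K a) (str_tu K a hK) n)
  have e : qπ K (TU K) (tu K a) (str_tu K a hK) n =
      biprod.inr ≫ tu K a n ≫ qπ K (TU K) (tu K a) (str_tu K a hK) n := by
    rw [← Category.assoc, inr_tu K a hn, Category.id_comp]
  rw [e, comp_cokerπ, comp_zero]

lemma isStrictlyGE_truncCx : (truncCx K a hK).IsStrictlyGE a := by
  rw [CochainComplex.isStrictlyGE_iff]
  intro n hn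
  exact isZero_truncX K a hK n hn

include hK in
lemma mono_cp_qπ_of_gt (n : ℤ) (hn : a < n) (p : ℤ) :
    Mono (cp (qπ K (TU K) (tu K a) (str_tu K a hK) n) p) := by
  rw [Preadditive.mono_iff_cancel_zero]
  intro T y hy
  obtain ⟨T', π, hπ, x, hx⟩ := exists_lift_of_comp_cokerπ (tu K a n) (str_tu K a hK n) p y hy
  rw [← cancel_epi π, comp_zero, hx, tu_gt K a hn, cp_zero, comp_zero]

theorem filteredQuasiIso_truncMap : IsFilteredQuasiIso (truncMap K a hK) := by
  intro p
  have hf : ∀ n, ((grCx p).map (truncMap K a hK)).f n =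
      (gr A p).map (qπ K (TU K) (tu K a) (str_tu K a hK) n).hom := fun n => rfl
  have hd : ∀ i j, ((grCx p).obj K).d i j = (gr A p).map (K.d i j).hom := fun i j => rfl
  refine quasiIso_of_epi_of_kernel_acyclic _ ?_ ?_
  · intro n
    rw [hf]
    exact epi_gr_of_epi_cp _ (fun q => epi_cp_cokerπ _ _ q) p
  · intro i j k hij hjk T (x : T ⟶ (gr A p).obj (K.X j).obj) hx1 hx2
    replace hx1 : x ≫ (gr A p).map (qπ K (TU K) (tu K a) (str_tu K a hK) j).hom = 0 := hx1
    replace hx2 : x ≫ (gr A p).map (K.d j k).hom = 0 := hx2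
    have hzero : ∀ (m : ℤ), m < a → ∀ {T' : A} (y : T' ⟶ ((grCx p).obj K).X m),
        y ≫ ((grCx p).map (truncMap K a hK)).f m = 0 := by
      intro m hm T' y
      have hz : IsZero (((grCx p).obj (truncCx K a hK)).X m) :=
        (grF A p).map_isZero (isZero_truncX K a hK m hm)
      exact hz.eq_of_tgt _ _
    rcases lt_trichotomy j a with h | rfl | h
    · obtain ⟨T', π, hπ, y, hy⟩ := (gr_exact_at K p i j k hij hjk
        (exactAt_of_lt K a hK p j h)).exact_up_to_refinements x hx2
      exact ⟨T', π, hπ, y, hzero i (by omega) y, hy⟩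
    · have hex := gr_exact_of_lvExact (tu K j j) (qπ K (TU K) (tu K j) (str_tu K j hK) j)
        (comp_cokerπ _ _) (str_cokerπ _ _)
        (fun q _ y hy => exists_lift_of_comp_cokerπ (tu K j j) (str_tu K j hK j) q y hy) p
      obtain ⟨T', π, hπ, y', hy'⟩ : ∃ (T' : A) (π : T' ⟶ T) (_ : Epi π)
          (y' : T' ⟶ (gr A p).obj (TU K j).obj), π ≫ x = y' ≫ (gr A p).map (tu K j j).hom :=
        hex.exact_up_to_refinements x hx1
      have r : (ComplexShape.up ℤ).Rel i j := hij
      have e : (gr A p).map (tu K j j).hom =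
          (gr A p).map (biprod.fst : TU K j ⟶ K.xPrev j).hom ≫
            (gr A p).map (K.xPrevIso r).hom.hom ≫ (gr A p).map (K.d i j).hom := by
        rw [← Functor.map_comp, ← Functor.map_comp, ← ObjectProperty.FullSubcategory.comp_hom,
          ← ObjectProperty.FullSubcategory.comp_hom, tu_eq, K.dTo_eq r]
      refine ⟨T', π, hπ, y' ≫ (gr A p).map (biprod.fst : TU K j ⟶ K.xPrev j).hom ≫
        (gr A p).map (K.xPrevIso r).hom.hom, hzero i (by omega) _, ?_⟩
      have key : π ≫ x = (y' ≫ (gr A p).map (biprod.fst : TU K j ⟶ K.xPrev j).hom ≫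
          (gr A p).map (K.xPrevIso r).hom.hom) ≫ (gr A p).map (K.d i j).hom := by
        rw [hy', e]
        simp only [Category.assoc]
      exact key
    · have hm : Mono ((gr A p).map (qπ K (TU K) (tu K a) (str_tu K a hK) j).hom) :=
        mono_gr_of_str _ (str_cokerπ _ _) (fun q => mono_cp_qπ_of_gt K a hK j h q) p
      have hx0 : x = 0 := (cancel_mono _).1 (hx1.trans zero_comp.symm)
      refine ⟨T, 𝟙 T, inferInstance, 0, zero_comp, ?_⟩
      have key : 𝟙 T ≫ x = 0 := by rw [hx0, comp_zero]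
      exact key.trans zero_comp.symm

include hK in
/-- S1087 -/
theorem exists_truncation :
    ∃ (L : CochainComplex (FilF A) ℤ) (φ : K ⟶ L), L.IsStrictlyGE a ∧ IsFilteredQuasiIso φ :=
  ⟨truncCx K a hK, truncMap K a hK, isStrictlyGE_truncCx K a hK, filteredQuasiIso_truncMap K a hK⟩

end Trunc

end Groth.Agent.Lib.Helper8.Fil14
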