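import Groth.Agent.Lib.Helper8.Fil14

/-!
# Helper8: filtered truncation to a complex bounded above (S1088)
-/

universe v u

open CategoryTheory CategoryTheory.Limits Opposite

namespace Groth.Agent.Lib.Helper8.Fil15

open FilD Fil1 Fil2 Fil3 Fil4 Fil5 Fil6 Fil7 Fil8 Fil9 Fil10 Fil11 Fil12 Fil13 Fil14

set_option linter.unusedSectionVars false

variable {A : Type u} [Category.{v} A] [Abelian A]

section KerFil

variable {X Y Z : FilF A} (φ : X ⟶ Y)

/-- the kernel of a morphism of finite filtered objects -/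
noncomputable def kerF : FilF A := ⟨kernel φ.hom, isFinFil_kernel φ⟩

/-- the inclusion of the kernel -/
noncomputable def kerι : kerF φ ⟶ X := ObjectProperty.homMk (kernel.ι φ.hom)

lemma cp_kerι (p : ℤ) : cp (kerι φ) p = kι φ.hom p := rfl

instance mono_cp_kerι (p : ℤ) : Mono (cp (kerι φ) p) := inferInstanceAs (Mono (kι φ.hom p))

lemma kerι_comp : kerι φ ≫ φ = 0 := by
  apply ObjectProperty.hom_ext
  exact kernel.condition φ.hom

/-- lifting to the kernel -/
noncomputable def kerLift (g : Z ⟶ X) (w : g ≫ φ = 0) : Z ⟶ kerF φ :=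
  ObjectProperty.homMk (kernel.lift φ.hom g.hom (congrArg (fun k => k.hom) w))

lemma kerLift_ι (g : Z ⟶ X) (w : g ≫ φ = 0) : kerLift φ g w ≫ kerι φ = g := by
  apply ObjectProperty.hom_ext
  exact kernel.lift_ι _ _ _

instance mono_kerι : Mono (kerι φ) := by
  apply (IsFinFil A).ι.mono_of_mono_map
  have : ∀ q : ℤᵒᵖ, Mono (((IsFinFil A).ι.map (kerι φ)).app q) :=
    fun ⟨q⟩ => mono_cp_kerι φ q
  exact NatTrans.mono_of_mono_app _

lemma exists_lift_kerι (p : ℤ) {T : A} (x : T ⟶ lv X p) (hx : x ≫ cp φ p = 0) :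
    ∃ k : T ⟶ lv (kerF φ) p, k ≫ cp (kerι φ) p = x :=
  exists_kernel_lift φ.hom p x hx

lemma str_kerι : Str (kerι φ) := by
  intro p q h T x y hxy
  have hy : y ≫ cp φ q = 0 := by
    rw [← cancel_mono (tr Y h), zero_comp, Category.assoc, ← cp_tr, ← Category.assoc, ← hxy,
      Category.assoc, ← cp_comp, kerι_comp, cp_zero, comp_zero]
  obtain ⟨k, hk⟩ := exists_lift_kerι φ q y hy
  exact ⟨T, 𝟙 T, inferInstance, k, by rw [hk, Category.id_comp]⟩

lemma lvExact_kerι (p : ℤ) : LvExact (kerι φ) φ p := by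
  intro T y hy
  obtain ⟨k, hk⟩ := exists_lift_kerι φ p y hy
  exact ⟨T, 𝟙 T, inferInstance, k, by rw [hk, Category.id_comp]⟩

lemma mono_gr_kerι (p : ℤ) : Mono ((gr A p).map (kerι φ).hom) :=
  mono_gr_of_str _ (str_kerι φ) (fun q => mono_cp_kerι φ q) p

/-- postcomposing a strict morphism with a split monomorphism gives a strict morphism -/
lemma str_comp_of_split_mono {W : FilF A} (f : X ⟶ Y) (hf : Str f) (m : Y ⟶ W) (ρ : W ⟶ Y)
    (h : m ≫ ρ = 𝟙 _) : Str (f ≫ m) := by
  intro p q hpq T x y hxy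
  have hxy' : (x ≫ cp f p) ≫ cp m p = y ≫ tr W hpq := by
    rw [Category.assoc]
    exact hxy
  have hmρ : ∀ r, cp m r ≫ cp ρ r = 𝟙 _ := fun r => by
    rw [← cp_comp, h]
    rfl
  have h1 : x ≫ cp f p = (y ≫ cp ρ q) ≫ tr Y hpq := by
    rw [Category.assoc, ← cp_tr, ← Category.assoc, ← hxy', Category.assoc, hmρ, Category.comp_id]
  have h2 : y = y ≫ cp ρ q ≫ cp m q := by
    have e1 : (y ≫ cp ρ q ≫ cp m q) ≫ tr W hpq = (y ≫ tr W hpq) ≫ cp ρ p ≫ cp m p := by
      have a1 : cp m q ≫ tr W hpq = tr Y hpq ≫ cp m p := (cp_tr m hpq).symm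
      have a2 : cp ρ q ≫ tr Y hpq = tr W hpq ≫ cp ρ p := (cp_tr ρ hpq).symm
      rw [Category.assoc, Category.assoc, a1, ← Category.assoc (cp ρ q), a2, Category.assoc,
        Category.assoc]
    have e2 : (y ≫ tr W hpq) ≫ cp ρ p ≫ cp m p = y ≫ tr W hpq := by
      rw [← hxy', Category.assoc, reassoc_of% (hmρ p)]
    rw [← cancel_mono (tr W hpq), e1, e2]
  obtain ⟨T', π, hπ, x', hx'⟩ := hf p q hpq x (y ≫ cp ρ q) h1
  refine ⟨T', π, hπ, x', ?_⟩
  have e : cp (f ≫ m) q = cp f q ≫ cp m q := rfl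
  rw [e, ← Category.assoc, hx', Category.assoc, Category.assoc, ← h2]

end KerFil

section SubCx

variable (K : CochainComplex (FilF A) ℤ) (V : ℤ → FilF A) (v : ∀ n, K.X n ⟶ V n)
  (hc : ∀ n, kerι (v n) ≫ K.d n (n + 1) ≫ v (n + 1) = 0)

/-- the terms of the subcomplex -/
noncomputable abbrev sX (n : ℤ) : FilF A := kerF (v n)

/-- the inclusions -/
noncomputable abbrev sι (n : ℤ) : sX K V v n ⟶ K.X n := kerι (v n)

/-- the differentials of the subcomplex -/
noncomputable def sd (n : ℤ) : sX K V v n ⟶ sX K V v (n + 1) :=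
  kerLift (v (n + 1)) (sι K V v n ≫ K.d n (n + 1)) (by
    rw [Category.assoc]
    exact hc n)

lemma sd_sι (n : ℤ) : sd K V v hc n ≫ sι K V v (n + 1) = sι K V v n ≫ K.d n (n + 1) :=
  kerLift_ι _ _ _

lemma sd_sd (n : ℤ) : sd K V v hc n ≫ sd K V v hc (n + 1) = 0 := by
  rw [← cancel_mono (sι K V v (n + 1 + 1)), Category.assoc, sd_sι, ← Category.assoc, sd_sι,
    Category.assoc, K.d_comp_d, comp_zero, zero_comp]

/-- the subcomplex -/
noncomputable def sCx : CochainComplex (FilF A) ℤ :=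
  CochainComplex.of (sX K V v) (sd K V v hc) (sd_sd K V v hc)

lemma sCx_d (n : ℤ) : (sCx K V v hc).d n (n + 1) = sd K V v hc n :=
  CochainComplex.of_d (sX K V v) (sd K V v hc) n

/-- the inclusion of the subcomplex -/
noncomputable def sMap : sCx K V v hc ⟶ K where
  f n := sι K V v n
  comm' i j hij := by
    obtain rfl : i + 1 = j := hij
    rw [sCx_d]
    exact (sd_sι K V v hc i).symm

end SubCx

section Trunc

variable (K : CochainComplex (FilF A) ℤ) (b : ℤ)

/-- the target of the map whose kernel is the truncation -/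
noncomputable abbrev TV (n : ℤ) : FilF A := K.X n ⊞ K.xNext n

/-- the map whose kernel is the truncation -/
noncomputable def tv (n : ℤ) : K.X n ⟶ TV K n :=
  if b < n then biprod.lift (𝟙 _) (K.dFrom n) else if n = b then K.dFrom n ≫ biprod.inr else 0

lemma tv_gt {n : ℤ} (h : b < n) : tv K b n = biprod.lift (𝟙 _) (K.dFrom n) := if_pos h

lemma tv_eq : tv K b b = K.dFrom b ≫ biprod.inr := by
  unfold tv
  rw [if_neg (lt_irrefl b), if_pos rfl]

lemma tv_lt {n : ℤ} (h : n < b) : tv K b n = 0 := by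
  unfold tv
  rw [if_neg (by omega), if_neg (by omega)]

lemma tv_snd {n : ℤ} (h : b ≤ n) : tv K b n ≫ biprod.snd = K.dFrom n := by
  rcases lt_or_eq_of_le h with h | rfl
  · rw [tv_gt K b h, biprod.lift_snd]
  · rw [tv_eq, Category.assoc, biprod.inr_snd, Category.comp_id]

lemma tv_fst {n : ℤ} (h : b < n) : tv K b n ≫ biprod.fst = 𝟙 _ := by
  rw [tv_gt K b h, biprod.lift_fst]

lemma tv_compat (n : ℤ) : kerι (tv K b n) ≫ K.d n (n + 1) ≫ tv K b (n + 1) = 0 := by
  have r : (ComplexShape.up ℤ).Rel n (n + 1) := by simp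
  by_cases h : b ≤ n
  · have e : K.d n (n + 1) = tv K b n ≫ biprod.snd ≫ (K.xNextIso r).hom := by
      rw [← Category.assoc, tv_snd K b h, K.dFrom_eq r, Category.assoc, Iso.inv_hom_id,
        Category.comp_id]
    rw [e, ← Category.assoc, ← Category.assoc, kerι_comp, zero_comp, zero_comp]
  · rcases eq_or_lt_of_le (show n + 1 ≤ b by omega) with h' | h'
    · have e : K.d n (n + 1) ≫ tv K b (n + 1) = 0 := by
        have e' : tv K b (n + 1) = K.dFrom (n + 1) ≫ biprod.inr := by
          rw [h']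
          exact tv_eq K b
        have e'' : K.d n (n + 1) ≫ K.dFrom (n + 1) = 0 := K.d_comp_d _ _ _
        rw [e', reassoc_of% e'', zero_comp]
      rw [e, comp_zero]
    · rw [tv_lt K b h', comp_zero, comp_zero]

/-- the truncated complex -/
noncomputable def truncCx : CochainComplex (FilF A) ℤ :=
  sCx K (TV K) (tv K b) (tv_compat K b)

/-- the inclusion of the truncated complex -/
noncomputable def truncMap : truncCx K b ⟶ K :=
  sMap K (TV K) (tv K b) (tv_compat K b)

lemma isZero_truncX (n : ℤ) (hn : b < n) : IsZero (sX K (TV K) (tv K b) n) := by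
  apply IsZero.of_mono_eq_zero (sι K (TV K) (tv K b) n)
  have e : sι K (TV K) (tv K b) n = (sι K (TV K) (tv K b) n ≫ tv K b n) ≫ biprod.fst := by
    rw [Category.assoc, tv_fst K b hn, Category.comp_id]
  rw [e, kerι_comp, zero_comp]

lemma isStrictlyLE_truncCx : (truncCx K b).IsStrictlyLE b := by
  rw [CochainComplex.isStrictlyLE_iff]
  intro n hn
  exact isZero_truncX K b n hn

lemma epi_cp_sι_of_lt (n : ℤ) (hn : n < b) (p : ℤ) : Epi (cp (sι K (TV K) (tv K b) n) p) := by
  rw [epi_iff_surjective_up_to_refinements]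
  intro T x
  obtain ⟨k, hk⟩ := exists_lift_kerι (tv K b n) p x (by rw [tv_lt K b hn, cp_zero, comp_zero])
  exact ⟨T, 𝟙 T, inferInstance, k, by rw [hk, Category.id_comp]⟩

variable (hK : ∀ (p n : ℤ), b < n → IsZero (((grCx p).obj K).homology n))

include hK in
lemma exactAt_of_gt (p n : ℤ) (hn : b < n) : ((grCx p).obj K).ExactAt n := by
  rw [HomologicalComplex.exactAt_iff_isZero_homology]
  exact hK p n hn

include hK in
lemma str_d_succ : Str (K.d b (b + 1)) :=
  str_f (K.d b (b + 1)) (K.d (b + 1) (b + 1 + 1)) (K.d_comp_d _ _ _)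
    (fun p => gr_exact_at K p b (b + 1) (b + 1 + 1) rfl rfl
      (exactAt_of_gt K b hK p (b + 1) (by omega)))

include hK in
lemma str_tv_eq : Str (tv K b b) := by
  have r : (ComplexShape.up ℤ).Rel b (b + 1) := by simp
  rw [tv_eq, K.dFrom_eq r, Category.assoc]
  refine str_comp_of_split_mono _ (str_d_succ K b hK) _ (biprod.snd ≫ (K.xNextIso r).hom) ?_
  rw [Category.assoc, biprod.inr_snd_assoc, Iso.inv_hom_id]

include hK in
theorem filteredQuasiIso_truncMap : IsFilteredQuasiIso (truncMap K b) := by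
  intro p
  refine quasiIso_of_mono_of_cokernel_acyclic _ ?_ ?_
  · intro n
    exact mono_gr_kerι (tv K b n) p
  · intro i j k hij hjk T (y : T ⟶ (gr A p).obj (K.X j).obj)
      (x : T ⟶ (gr A p).obj (sX K (TV K) (tv K b) k).obj) hyx
    replace hyx : y ≫ (gr A p).map (K.d j k).hom =
      x ≫ (gr A p).map (sι K (TV K) (tv K b) k).hom := hyx
    rcases lt_trichotomy j b with h | rfl | h
    · have he : Epi ((gr A p).map (sι K (TV K) (tv K b) j).hom) :=
        epi_gr_of_epi_cp _ (fun q => epi_cp_sι_of_lt K b j h q) p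
      obtain ⟨T', π, hπ, x', hx'⟩ := surjective_up_to_refinements_of_epi
        ((gr A p).map (sι K (TV K) (tv K b) j).hom) y
      refine ⟨T', π, hπ, 0, x', ?_⟩
      have key : π ≫ y = 0 ≫ (gr A p).map (K.d i j).hom +
          x' ≫ (gr A p).map (sι K (TV K) (tv K b) j).hom := by
        rw [zero_comp, zero_add, hx']
      exact key
    · have hz : IsZero ((gr A p).obj (sX K (TV K) (tv K j) k).obj) :=
        (grF A p).map_isZero (isZero_truncX K j k (by omega))
      have hy0 : y ≫ (gr A p).map (K.d j k).hom = 0 := by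
        rw [hyx, hz.eq_of_tgt x 0, zero_comp]
      have r : (ComplexShape.up ℤ).Rel j k := hjk
      have hy1 : y ≫ (gr A p).map (tv K j j).hom = 0 := by
        have e : (gr A p).map (tv K j j).hom = (gr A p).map (K.d j k).hom ≫
            (gr A p).map ((K.xNextIso r).inv ≫ biprod.inr : K.X k ⟶ TV K j).hom := by
          rw [← Functor.map_comp, ← ObjectProperty.FullSubcategory.comp_hom, tv_eq, K.dFrom_eq r,
            Category.assoc]
        rw [e, ← Category.assoc, hy0, zero_comp]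
      have hex := gr_exact_of_lvExact (kerι (tv K j j)) (tv K j j) (kerι_comp _)
        (str_tv_eq K j hK) (lvExact_kerι _) p
      obtain ⟨T', π, hπ, x', hx'⟩ : ∃ (T' : A) (π : T' ⟶ T) (_ : Epi π)
          (x' : T' ⟶ (gr A p).obj (kerF (tv K j j)).obj),
          π ≫ y = x' ≫ (gr A p).map (kerι (tv K j j)).hom :=
        hex.exact_up_to_refinements y hy1
      refine ⟨T', π, hπ, 0, x', ?_⟩
      have key : π ≫ y = 0 ≫ (gr A p).map (K.d i j).hom +
          x' ≫ (gr A p).map (sι K (TV K) (tv K j) j).hom := by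
        rw [zero_comp, zero_add, hx']
      exact key
    · have hz : IsZero ((gr A p).obj (sX K (TV K) (tv K b) k).obj) :=
        (grF A p).map_isZero (isZero_truncX K b k (by omega))
      have hy0 : y ≫ (gr A p).map (K.d j k).hom = 0 := by
        rw [hyx, hz.eq_of_tgt x 0, zero_comp]
      obtain ⟨T', π, hπ, y', hy'⟩ : ∃ (T' : A) (π : T' ⟶ T) (_ : Epi π)
          (y' : T' ⟶ (gr A p).obj (K.X i).obj), π ≫ y = y' ≫ (gr A p).map (K.d i j).hom :=
        (gr_exact_at K p i j k hij hjk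
          (exactAt_of_gt K b hK p j h)).exact_up_to_refinements y hy0
      refine ⟨T', π, hπ, y', 0, ?_⟩
      have key : π ≫ y = y' ≫ (gr A p).map (K.d i j).hom +
          0 ≫ (gr A p).map (sι K (TV K) (tv K b) j).hom := by
        rw [zero_comp, add_zero]
        exact hy'
      exact key

include hK in
/-- S1088 -/
theorem exists_truncation :
    ∃ (M : CochainComplex (FilF A) ℤ) (φ : M ⟶ K), M.IsStrictlyLE b ∧ IsFilteredQuasiIso φ :=
  ⟨truncCx K b, truncMap K b, isStrictlyLE_truncCx K b, filteredQuasiIso_truncMap K b hK⟩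

end Trunc

end Groth.Agent.Lib.Helper8.Fil15
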