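import Groth.Agent.Lib.Helper8.Fil15

/-!
# Helper8: pushouts along strict monomorphisms in `Fil^f(A)`, the resolution tower (S1082, part 1)
-/

universe v u

open CategoryTheory CategoryTheory.Limits Opposite

namespace Groth.Agent.Lib.Helper8.Fil16

open FilD Fil1 Fil2 Fil3 Fil4 Fil5 Fil6 Fil7 Fil8 Fil9 Fil10 Fil11 Fil12 Fil13 Fil14 Fil15

set_option linter.unusedSectionVars false

variable {A : Type u} [Category.{v} A] [Abelian A]

section StrictLemmas

variable {X Y Z : FilF A}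

lemma cp_add (f g : X ⟶ Y) (p : ℤ) : cp (f + g) p = cp f p + cp g p := rfl

lemma cp_neg (f : X ⟶ Y) (p : ℤ) : cp (-f) p = -cp f p := rfl

lemma cp_sub (f g : X ⟶ Y) (p : ℤ) : cp (f - g) p = cp f p - cp g p := rfl

lemma cp_id (p : ℤ) : cp (𝟙 X) p = 𝟙 _ := rfl

lemma gr_map_add (f g : X ⟶ Y) (p : ℤ) :
    (gr A p).map (f + g).hom = (gr A p).map f.hom + (gr A p).map g.hom :=
  (grF A p).map_add

lemma gr_map_neg (f : X ⟶ Y) (p : ℤ) :
    (gr A p).map (-f).hom = -(gr A p).map f.hom :=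
  (grF A p).map_neg

lemma gr_map_comp (f : X ⟶ Y) (g : Y ⟶ Z) (p : ℤ) :
    (gr A p).map (f ≫ g).hom = (gr A p).map f.hom ≫ (gr A p).map g.hom :=
  (grF A p).map_comp f g

lemma gr_map_id (p : ℤ) : (gr A p).map (𝟙 X : X ⟶ X).hom = 𝟙 _ :=
  (grF A p).map_id X

lemma gr_map_zero (p : ℤ) : (gr A p).map (0 : X ⟶ Y).hom = 0 :=
  (grF A p).map_zero X Y

/-- if `f ≫ r` is a strict levelwise monomorphism, then `f` is strict -/
lemma str_of_comp (f : X ⟶ Y) (r : Y ⟶ Z) (h : Str (f ≫ r)) (hm : ∀ p, Mono (cp (f ≫ r) p)) :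
    Str f := by
  intro p q hpq T x y hxy
  have h1 : x ≫ cp (f ≫ r) p = (y ≫ cp r q) ≫ tr Z hpq := by
    rw [cp_comp, ← Category.assoc, hxy, Category.assoc, Category.assoc, cp_tr]
  obtain ⟨T', π, hπ, x', hx'⟩ := h p q hpq x (y ≫ cp r q) h1
  refine ⟨T', π, hπ, x', ?_⟩
  have := hm p
  have h2 : x' ≫ tr X hpq = π ≫ x := by
    rw [← cancel_mono (cp (f ≫ r) p), Category.assoc, cp_tr, ← Category.assoc, hx',
      Category.assoc π x, h1]
    simp only [Category.assoc]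
  rw [← cancel_mono (tr Y hpq), Category.assoc, ← cp_tr, ← Category.assoc, h2, Category.assoc, hxy,
    Category.assoc]

lemma mono_cp_of_comp (f : X ⟶ Y) (r : Y ⟶ Z) (hm : ∀ p, Mono (cp (f ≫ r) p)) (p : ℤ) :
    Mono (cp f p) := by
  have : Mono (cp f p ≫ cp r p) := hm p
  exact mono_of_mono _ (cp r p)

/-- the composition of strict morphisms, the second being a levelwise monomorphism, is strict -/
lemma str_comp_mono (f : X ⟶ Y) (g : Y ⟶ Z) (hf : Str f) (hg : Str g) (hmg : ∀ p, Mono (cp g p)) :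
    Str (f ≫ g) := by
  intro p q hpq T x z hxz
  have h1 : (x ≫ cp f p) ≫ cp g p = z ≫ tr Z hpq := by
    rw [Category.assoc]
    exact hxz
  obtain ⟨T₁, π₁, hπ₁, y', hy'⟩ := hg p q hpq (x ≫ cp f p) z h1
  have := hmg p
  have h2 : (π₁ ≫ x) ≫ cp f p = y' ≫ tr Y hpq := by
    rw [← cancel_mono (cp g p), Category.assoc y', cp_tr, ← Category.assoc y', hy',
      Category.assoc π₁ z, ← h1]
    simp only [Category.assoc]
  obtain ⟨T₂, π₂, hπ₂, x', hx'⟩ := hf p q hpq (π₁ ≫ x) y' h2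
  refine ⟨T₂, π₂ ≫ π₁, inferInstance, x', ?_⟩
  have e : cp (f ≫ g) q = cp f q ≫ cp g q := rfl
  rw [e, ← Category.assoc, hx', Category.assoc, hy', Category.assoc]

lemma mono_cp_comp (f : X ⟶ Y) (g : Y ⟶ Z) (hf : ∀ p, Mono (cp f p)) (hg : ∀ p, Mono (cp g p))
    (p : ℤ) : Mono (cp (f ≫ g) p) := by
  have := hf p
  have := hg p
  exact inferInstanceAs (Mono (cp f p ≫ cp g p))

end StrictLemmas

section Pushout

lemma cp_total {X Y : FilF A} (p : ℤ) :
    cp (biprod.fst : X ⊞ Y ⟶ X) p ≫ cp (biprod.inl : X ⟶ X ⊞ Y) p +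
      cp (biprod.snd : X ⊞ Y ⟶ Y) p ≫ cp (biprod.inr : Y ⟶ X ⊞ Y) p = 𝟙 _ := by
  have := congrArg (fun k => cp k p) (biprod.total (X := X) (Y := Y))
  exact this

variable {P I K' : FilF A} (u : P ⟶ I) (e : P ⟶ K') (hu : Str u) (hmu : ∀ p, Mono (cp u p))

/-- the map whose cokernel is the pushout of `u` along `e` -/
noncomputable def θ : P ⟶ I ⊞ K' := biprod.lift u (-e)

lemma θ_fst : θ u e ≫ biprod.fst = u := biprod.lift_fst _ _

lemma θ_snd : θ u e ≫ biprod.snd = -e := biprod.lift_snd _ _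

include hu hmu in
lemma str_θ : Str (θ u e) :=
  str_of_comp (θ u e) biprod.fst (by rw [θ_fst]; exact hu) (fun p => by rw [θ_fst]; exact hmu p)

include hmu in
lemma mono_cp_θ (p : ℤ) : Mono (cp (θ u e) p) :=
  mono_cp_of_comp (θ u e) biprod.fst (fun p => by rw [θ_fst]; exact hmu p) p

/-- the pushout of the strict monomorphism `u` along `e` -/
noncomputable def po : FilF A := cokerF (θ u e) (str_θ u e hu hmu)

/-- the projection to the pushout -/
noncomputable def poπ : I ⊞ K' ⟶ po u e hu hmu := cokerπ (θ u e) (str_θ u e hu hmu)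

/-- the first inclusion into the pushout -/
noncomputable def poδ : I ⟶ po u e hu hmu := biprod.inl ≫ poπ u e hu hmu

/-- the second inclusion into the pushout -/
noncomputable def poj : K' ⟶ po u e hu hmu := biprod.inr ≫ poπ u e hu hmu

lemma θ_poπ : θ u e ≫ poπ u e hu hmu = 0 := comp_cokerπ _ _

instance epi_cp_poπ (p : ℤ) : Epi (cp (poπ u e hu hmu) p) := epi_cp_cokerπ _ _ p

lemma str_poπ : Str (poπ u e hu hmu) := str_cokerπ _ _

lemma lvExact_po (p : ℤ) : LvExact (θ u e) (poπ u e hu hmu) p :=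
  fun _ y hy => exists_lift_of_comp_cokerπ (θ u e) (str_θ u e hu hmu) p y hy

lemma po_sq : u ≫ poδ u e hu hmu = e ≫ poj u e hu hmu := by
  have h := θ_poπ u e hu hmu
  have e1 : θ u e = u ≫ biprod.inl + (-e) ≫ biprod.inr := biprod.lift_eq
  rw [e1, Preadditive.add_comp, Category.assoc, Category.assoc, Preadditive.neg_comp] at h
  exact add_neg_eq_zero.1 h

/-- descent from the pushout -/
noncomputable def poDesc {Z : FilF A} (a : I ⟶ Z) (b : K' ⟶ Z) (w : u ≫ a = e ≫ b) :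
    po u e hu hmu ⟶ Z :=
  cokerDesc (θ u e) (str_θ u e hu hmu) (biprod.desc a b) (by
    unfold θ
    rw [biprod.lift_desc, Preadditive.neg_comp, w, add_neg_cancel])

lemma poπ_desc {Z : FilF A} (a : I ⟶ Z) (b : K' ⟶ Z) (w : u ≫ a = e ≫ b) :
    poπ u e hu hmu ≫ poDesc u e hu hmu a b w = biprod.desc a b := cokerπ_desc _ _ _ _

lemma poδ_desc {Z : FilF A} (a : I ⟶ Z) (b : K' ⟶ Z) (w : u ≫ a = e ≫ b) :
    poδ u e hu hmu ≫ poDesc u e hu hmu a b w = a := by
  unfold poδ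
  rw [Category.assoc, poπ_desc, biprod.inl_desc]

lemma poj_desc {Z : FilF A} (a : I ⟶ Z) (b : K' ⟶ Z) (w : u ≫ a = e ≫ b) :
    poj u e hu hmu ≫ poDesc u e hu hmu a b w = b := by
  unfold poj
  rw [Category.assoc, poπ_desc, biprod.inr_desc]

instance epi_poπ : Epi (poπ u e hu hmu) := epi_cokerπ _ _

lemma cp_poj (p : ℤ) : cp (poj u e hu hmu) p =
    cp (biprod.inr : K' ⟶ I ⊞ K') p ≫ cp (poπ u e hu hmu) p := rfl

lemma cp_poδ (p : ℤ) : cp (poδ u e hu hmu) p =
    cp (biprod.inl : I ⟶ I ⊞ K') p ≫ cp (poπ u e hu hmu) p := rfl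

lemma mono_cp_poj (p : ℤ) : Mono (cp (poj u e hu hmu) p) := by
  rw [Preadditive.mono_iff_cancel_zero]
  intro T x hx
  have hx' : (x ≫ cp (biprod.inr : K' ⟶ I ⊞ K') p) ≫ cp (poπ u e hu hmu) p = 0 := by
    rw [Category.assoc]
    exact hx
  obtain ⟨T', π, hπ, z, hz⟩ := lvExact_po u e hu hmu p _ hx'
  have hz0 : z = 0 := by
    have := hmu p
    rw [← cancel_mono (cp u p), zero_comp]
    have e1 : z ≫ cp u p = (z ≫ cp (θ u e) p) ≫ cp (biprod.fst : I ⊞ K' ⟶ I) p := by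
      rw [Category.assoc, ← cp_comp, θ_fst]
    rw [e1, ← hz, Category.assoc, Category.assoc, ← cp_comp, biprod.inr_fst, cp_zero, comp_zero,
      comp_zero]
  have h3 : π ≫ x = 0 := by
    have e2 : π ≫ x = (π ≫ x ≫ cp (biprod.inr : K' ⟶ I ⊞ K') p) ≫
        cp (biprod.snd : I ⊞ K' ⟶ K') p := by
      rw [Category.assoc, Category.assoc, ← cp_comp, biprod.inr_snd, cp_id, Category.comp_id]
    rw [e2, hz, hz0, zero_comp, zero_comp]
  exact (cancel_epi π).1 (h3.trans comp_zero.symm)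

lemma str_poj : Str (poj u e hu hmu) := by
  intro p q hpq T x y hxy
  obtain ⟨T₁, π₁, hπ₁, w, hw⟩ := surjective_up_to_refinements_of_epi (cp (poπ u e hu hmu) q) y
  have h1 : (π₁ ≫ x ≫ cp (biprod.inr : K' ⟶ I ⊞ K') p - w ≫ tr (I ⊞ K') hpq) ≫
      cp (poπ u e hu hmu) p = 0 := by
    have a1 : (π₁ ≫ x ≫ cp (biprod.inr : K' ⟶ I ⊞ K') p) ≫ cp (poπ u e hu hmu) p =
        π₁ ≫ y ≫ tr _ hpq := by
      rw [Category.assoc, Category.assoc, ← cp_poj, hxy]
    have a2 : (w ≫ tr (I ⊞ K') hpq) ≫ cp (poπ u e hu hmu) p = π₁ ≫ y ≫ tr _ hpq := by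
      rw [Category.assoc, cp_tr, ← Category.assoc, ← hw, Category.assoc]
    rw [Preadditive.sub_comp, a1, a2, sub_self]
  obtain ⟨T₂, π₂, hπ₂, z, hz⟩ := lvExact_po u e hu hmu p _ h1
  have h2 : z ≫ cp u p = (-(π₂ ≫ w ≫ cp (biprod.fst : I ⊞ K' ⟶ I) q)) ≫ tr I hpq := by
    have e1 : z ≫ cp u p = (z ≫ cp (θ u e) p) ≫ cp (biprod.fst : I ⊞ K' ⟶ I) p := by
      rw [Category.assoc, ← cp_comp, θ_fst]
    have e2 : (x ≫ cp (biprod.inr : K' ⟶ I ⊞ K') p) ≫ cp (biprod.fst : I ⊞ K' ⟶ I) p = 0 := by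
      rw [Category.assoc, ← cp_comp, biprod.inr_fst, cp_zero, comp_zero]
    have e3 : (w ≫ tr (I ⊞ K') hpq) ≫ cp (biprod.fst : I ⊞ K' ⟶ I) p =
        (w ≫ cp (biprod.fst : I ⊞ K' ⟶ I) q) ≫ tr I hpq := by
      rw [Category.assoc, cp_tr, Category.assoc]
    rw [e1, ← hz, Category.assoc, Preadditive.sub_comp, Category.assoc π₁, e2, comp_zero, zero_sub,
      e3, Preadditive.comp_neg, Preadditive.neg_comp]
    simp only [Category.assoc]
  obtain ⟨T₃, π₃, hπ₃, z', hz'⟩ := hu p q hpq z _ h2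
  obtain ⟨w', hw'⟩ : ∃ w' : T₃ ⟶ lv (I ⊞ K') q, w' = π₃ ≫ π₂ ≫ w + z' ≫ cp (θ u e) q := ⟨_, rfl⟩
  have hw1 : w' ≫ cp (biprod.fst : I ⊞ K' ⟶ I) q = 0 := by
    rw [hw', Preadditive.add_comp, Category.assoc z', ← cp_comp, θ_fst, hz', Preadditive.comp_neg]
    simp only [Category.assoc]
    exact add_neg_cancel _
  have hw2 : w' ≫ cp (poπ u e hu hmu) q = (π₃ ≫ π₂ ≫ π₁) ≫ y := by
    rw [hw', Preadditive.add_comp, Category.assoc z', ← cp_comp, θ_poπ, cp_zero, comp_zero, add_zero]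
    simp only [Category.assoc]
    rw [hw]
  have hw3 : w' = (w' ≫ cp (biprod.snd : I ⊞ K' ⟶ K') q) ≫ cp (biprod.inr : K' ⟶ I ⊞ K') q := by
    have t := congrArg (fun k => w' ≫ k) (cp_total (X := I) (Y := K') q)
    simp only [Preadditive.comp_add, Category.comp_id] at t
    rw [← Category.assoc, hw1, zero_comp, zero_add] at t
    rw [Category.assoc]
    exact t.symm
  refine ⟨T₃, π₃ ≫ π₂ ≫ π₁, inferInstance, w' ≫ cp (biprod.snd : I ⊞ K' ⟶ K') q, ?_⟩
  rw [cp_poj, ← Category.assoc, ← hw3, hw2]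

/-- the pushout property on graded pieces -/
lemma po_gr_lift (p : ℤ) {T : A} (y : T ⟶ (gr A p).obj I.obj) (x : T ⟶ (gr A p).obj K'.obj)
    (h : y ≫ (gr A p).map (poδ u e hu hmu).hom = x ≫ (gr A p).map (poj u e hu hmu).hom) :
    ∃ (T' : A) (π : T' ⟶ T) (_ : Epi π) (z : T' ⟶ (gr A p).obj P.obj),
      z ≫ (gr A p).map u.hom = π ≫ y ∧ z ≫ (gr A p).map e.hom = π ≫ x := by
  have hex := gr_exact_of_lvExact (θ u e) (poπ u e hu hmu) (θ_poπ u e hu hmu) (str_poπ u e hu hmu)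
    (lvExact_po u e hu hmu) p
  obtain ⟨w, hwdef⟩ : ∃ w : T ⟶ (gr A p).obj (I ⊞ K').obj,
      w = y ≫ (gr A p).map (biprod.inl : I ⟶ I ⊞ K').hom -
        x ≫ (gr A p).map (biprod.inr : K' ⟶ I ⊞ K').hom := ⟨_, rfl⟩
  have hw : w ≫ (gr A p).map (poπ u e hu hmu).hom = 0 := by
    rw [hwdef, Preadditive.sub_comp, Category.assoc, Category.assoc, ← gr_map_comp, ← gr_map_comp]
    exact sub_eq_zero.2 h
  have hw1 : w ≫ (gr A p).map (biprod.fst : I ⊞ K' ⟶ I).hom = y := by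
    rw [hwdef, Preadditive.sub_comp, Category.assoc, Category.assoc, ← gr_map_comp, ← gr_map_comp,
      biprod.inl_fst, biprod.inr_fst, gr_map_id, gr_map_zero, comp_zero, sub_zero, Category.comp_id]
  have hw2 : w ≫ (gr A p).map (biprod.snd : I ⊞ K' ⟶ K').hom = -x := by
    rw [hwdef, Preadditive.sub_comp, Category.assoc, Category.assoc, ← gr_map_comp, ← gr_map_comp,
      biprod.inl_snd, biprod.inr_snd, gr_map_id, gr_map_zero, comp_zero, zero_sub, Category.comp_id]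
  obtain ⟨T', π, hπ, z, hz⟩ : ∃ (T' : A) (π : T' ⟶ T) (_ : Epi π)
      (z : T' ⟶ (gr A p).obj P.obj), π ≫ w = z ≫ (gr A p).map (θ u e).hom :=
    hex.exact_up_to_refinements w hw
  refine ⟨T', π, hπ, z, ?_, ?_⟩
  · have e1 : z ≫ (gr A p).map u.hom =
        (z ≫ (gr A p).map (θ u e).hom) ≫ (gr A p).map (biprod.fst : I ⊞ K' ⟶ I).hom := by
      rw [Category.assoc, ← gr_map_comp, θ_fst]
    rw [e1, ← hz, Category.assoc, hw1]
  · have e1 : z ≫ (gr A p).map (-e).hom =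
        (z ≫ (gr A p).map (θ u e).hom) ≫ (gr A p).map (biprod.snd : I ⊞ K' ⟶ K').hom := by
      rw [Category.assoc, ← gr_map_comp, θ_snd]
    rw [← hz, Category.assoc, hw2, gr_map_neg, Preadditive.comp_neg, Preadditive.comp_neg] at e1
    exact neg_injective e1

/-- graded pieces of the pushout are covered by those of the two summands -/
lemma po_gr_cover (p : ℤ) {T : A} (z : T ⟶ (gr A p).obj (po u e hu hmu).obj) :
    ∃ (T' : A) (π : T' ⟶ T) (_ : Epi π) (y' : T' ⟶ (gr A p).obj I.obj)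
      (x' : T' ⟶ (gr A p).obj K'.obj),
      π ≫ z = y' ≫ (gr A p).map (poδ u e hu hmu).hom + x' ≫ (gr A p).map (poj u e hu hmu).hom := by
  have := epi_gr_of_epi_cp (poπ u e hu hmu) (fun q => epi_cp_poπ u e hu hmu q) p
  obtain ⟨T', π, hπ, w, hw⟩ := surjective_up_to_refinements_of_epi
    ((gr A p).map (poπ u e hu hmu).hom) z
  refine ⟨T', π, hπ, w ≫ (gr A p).map (biprod.fst : I ⊞ K' ⟶ I).hom,
    w ≫ (gr A p).map (biprod.snd : I ⊞ K' ⟶ K').hom, ?_⟩
  have e1 : (gr A p).map (biprod.fst : I ⊞ K' ⟶ I).hom ≫ (gr A p).map (poδ u e hu hmu).hom +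
      (gr A p).map (biprod.snd : I ⊞ K' ⟶ K').hom ≫ (gr A p).map (poj u e hu hmu).hom =
      (gr A p).map (poπ u e hu hmu).hom := by
    rw [← gr_map_comp, ← gr_map_comp, ← gr_map_add]
    unfold poδ poj
    rw [← Category.assoc, ← Category.assoc, ← Preadditive.add_comp, biprod.total, Category.id_comp]
  rw [hw, ← e1, Preadditive.comp_add, Category.assoc, Category.assoc]

end Pushout

section Tower

variable [EnoughInjectives A] (L : CochainComplex (FilF A) ℕ)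

lemma str_id (X : FilF A) : Str (𝟙 X) := by
  intro p q hpq T x y hxy
  exact ⟨T, 𝟙 T, inferInstance, y, by rw [cp_id, Category.comp_id, Category.id_comp]⟩

/-- the data at stage `n` of the construction of the resolution -/
structure Stage (n : ℕ) where
  /-- the previous injective object -/
  Q : FilF A
  /-- the current pushout object -/
  P : FilF A
  /-- the map from the previous injective -/
  δ : Q ⟶ P
  /-- the map from the complex -/
  j : L.X n ⟶ P
  /-- the map to the next term of the complex -/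
  e : P ⟶ L.X (n + 1)
  j_e : j ≫ e = L.d n (n + 1)
  δ_e : δ ≫ e = 0
  e_d : e ≫ L.d (n + 1) (n + 1 + 1) = 0
  hj : Str j
  mj : ∀ p, Mono (cp j p)
  cover : ∀ (p : ℤ) ⦃T : A⦄ (z : T ⟶ (gr A p).obj P.obj),
    ∃ (T' : A) (π : T' ⟶ T) (_ : Epi π) (y' : T' ⟶ (gr A p).obj Q.obj)
      (x' : T' ⟶ (gr A p).obj (L.X n).obj),
      π ≫ z = y' ≫ (gr A p).map δ.hom + x' ≫ (gr A p).map j.hom

open ZeroObject in
/-- the initial stage -/
noncomputable def init : Stage L 0 where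
  Q := 0
  P := L.X 0
  δ := 0
  j := 𝟙 _
  e := L.d 0 1
  j_e := Category.id_comp _
  δ_e := zero_comp
  e_d := L.d_comp_d 0 1 2
  hj := str_id _
  mj := fun p => inferInstanceAs (Mono (𝟙 _))
  cover := fun p T z => ⟨T, 𝟙 T, inferInstance, 0, z, by
    rw [zero_comp, zero_add, gr_map_id, Category.comp_id, Category.id_comp]⟩

variable {L}

section Next

variable {n : ℕ} (s : Stage L n)

/-- the pushout object of the next stage -/
noncomputable def nP : FilF A := po (hullMap s.P) s.e (hull_str s.P) (hull_mono_cp s.P)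

/-- the map from the injective hull to the next pushout -/
noncomputable def nδ : hullObj s.P ⟶ nP s := poδ (hullMap s.P) s.e (hull_str s.P) (hull_mono_cp s.P)

/-- the map from the complex to the next pushout -/
noncomputable def nj : L.X (n + 1) ⟶ nP s := poj (hullMap s.P) s.e (hull_str s.P) (hull_mono_cp s.P)

/-- the projection to the next pushout -/
noncomputable def nπ : hullObj s.P ⊞ L.X (n + 1) ⟶ nP s :=
  poπ (hullMap s.P) s.e (hull_str s.P) (hull_mono_cp s.P)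

/-- the map from the next pushout to the complex -/
noncomputable def ne : nP s ⟶ L.X (n + 1 + 1) :=
  poDesc (hullMap s.P) s.e (hull_str s.P) (hull_mono_cp s.P) 0 (L.d (n + 1) (n + 1 + 1))
    (by rw [comp_zero, s.e_d])

lemma nj_ne : nj s ≫ ne s = L.d (n + 1) (n + 1 + 1) := poj_desc _ _ _ _ _ _ _

lemma nδ_ne : nδ s ≫ ne s = 0 := poδ_desc _ _ _ _ _ _ _

lemma nπ_ne : nπ s ≫ ne s = biprod.desc 0 (L.d (n + 1) (n + 1 + 1)) := poπ_desc _ _ _ _ _ _ _

instance : Epi (nπ s) := epi_poπ _ _ _ _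

lemma ne_d : ne s ≫ L.d (n + 1 + 1) (n + 1 + 1 + 1) = 0 := by
  rw [← cancel_epi (nπ s), comp_zero, ← Category.assoc, nπ_ne]
  apply biprod.hom_ext' <;> simp

lemma hullMap_nδ : hullMap s.P ≫ nδ s = s.e ≫ nj s := po_sq _ _ _ _

/-- the next stage -/
noncomputable def next : Stage L (n + 1) where
  Q := hullObj s.P
  P := nP s
  δ := nδ s
  j := nj s
  e := ne s
  j_e := nj_ne s
  δ_e := nδ_ne s
  e_d := ne_d s
  hj := str_poj _ _ _ _
  mj := mono_cp_poj _ _ _ _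
  cover := fun p _ z => po_gr_cover _ _ _ _ p z

/-- the differential out of the injective hull at stage `s` -/
noncomputable def d' : hullObj s.P ⟶ hullObj (nP s) := nδ s ≫ hullMap (nP s)

/-- the comparison map at stage `s` -/
noncomputable def φs : L.X n ⟶ hullObj s.P := s.j ≫ hullMap s.P

/-- the comparison map at the next stage -/
noncomputable def nφ : L.X (n + 1) ⟶ hullObj (nP s) := nj s ≫ hullMap (nP s)

lemma comp_hull_d' {X : FilF A} (a : X ⟶ s.P) (ha : a ≫ s.e = 0) : (a ≫ hullMap s.P) ≫ d' s = 0 := by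
  unfold d'
  rw [Category.assoc, ← Category.assoc (hullMap s.P), hullMap_nδ, Category.assoc,
    ← Category.assoc a, ha, zero_comp]

lemma d'_d' : d' s ≫ d' (next s) = 0 := comp_hull_d' (next s) (nδ s) (nδ_ne s)

lemma φs_d' : φs s ≫ d' s = L.d n (n + 1) ≫ nφ s := by
  unfold d' φs nφ
  rw [Category.assoc, ← Category.assoc (hullMap s.P), hullMap_nδ, Category.assoc,
    ← Category.assoc s.j, s.j_e]

lemma str_φs : Str (φs s) :=
  str_comp_mono _ _ s.hj (hull_str s.P) (hull_mono_cp s.P)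

lemma mono_cp_φs (p : ℤ) : Mono (cp (φs s) p) :=
  mono_cp_comp _ _ s.mj (hull_mono_cp s.P) p

/-- the key acyclicity property of the cokernel, at stage `s` -/
lemma acyc (p : ℤ) ⦃T : A⦄ (y : T ⟶ (gr A p).obj (hullObj s.P).obj)
    (x : T ⟶ (gr A p).obj (L.X (n + 1)).obj)
    (h : y ≫ (gr A p).map (d' s).hom = x ≫ (gr A p).map (nφ s).hom) :
    ∃ (T' : A) (π : T' ⟶ T) (_ : Epi π) (y' : T' ⟶ (gr A p).obj s.Q.obj)
      (x' : T' ⟶ (gr A p).obj (L.X n).obj),
      π ≫ y = y' ≫ (gr A p).map (s.δ ≫ hullMap s.P).hom + x' ≫ (gr A p).map (φs s).hom := by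
  have hm : Mono ((gr A p).map (hullMap (nP s)).hom) :=
    mono_gr_of_str _ (hull_str _) (hull_mono_cp _) p
  have h' : y ≫ (gr A p).map (nδ s).hom = x ≫ (gr A p).map (nj s).hom := by
    rw [← cancel_mono ((gr A p).map (hullMap (nP s)).hom), Category.assoc, Category.assoc,
      ← gr_map_comp, ← gr_map_comp]
    exact h
  obtain ⟨T₁, π₁, hπ₁, z, hz, -⟩ := po_gr_lift (hullMap s.P) s.e (hull_str s.P) (hull_mono_cp s.P)
    p y x h'
  obtain ⟨T₂, π₂, hπ₂, y', x', hyx⟩ := s.cover p z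
  refine ⟨T₂, π₂ ≫ π₁, inferInstance, y', x', ?_⟩
  unfold φs
  rw [gr_map_comp, gr_map_comp, ← Category.assoc, ← Category.assoc, ← Preadditive.add_comp, ← hyx,
    Category.assoc, Category.assoc, hz]

end Next

variable (L)

/-- the stages -/
noncomputable def stg : (n : ℕ) → Stage L n
  | 0 => init L
  | n + 1 => next (stg n)

/-- the terms of the resolution -/
noncomputable def Ix (n : ℕ) : FilF A := hullObj (stg L n).P

lemma inj_Ix (n : ℕ) : IsFilteredInjective (Ix L n) := hull_inj _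

/-- the differentials of the resolution -/
noncomputable def dI (n : ℕ) : Ix L n ⟶ Ix L (n + 1) := d' (stg L n)

lemma dI_comp (n : ℕ) : dI L n ≫ dI L (n + 1) = 0 := d'_d' (stg L n)

/-- the components of the resolution map -/
noncomputable def φx (n : ℕ) : L.X n ⟶ Ix L n := φs (stg L n)

lemma φx_dI (n : ℕ) : φx L n ≫ dI L n = L.d n (n + 1) ≫ φx L (n + 1) := φs_d' (stg L n)

lemma str_φx (n : ℕ) : Str (φx L n) := str_φs _

lemma mono_cp_φx (n : ℕ) (p : ℤ) : Mono (cp (φx L n) p) := mono_cp_φs _ p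

lemma acyc_zero (p : ℤ) ⦃T : A⦄ (y : T ⟶ (gr A p).obj (Ix L 0).obj)
    (x : T ⟶ (gr A p).obj (L.X 1).obj)
    (h : y ≫ (gr A p).map (dI L 0).hom = x ≫ (gr A p).map (φx L 1).hom) :
    ∃ (T' : A) (π : T' ⟶ T) (_ : Epi π) (x' : T' ⟶ (gr A p).obj (L.X 0).obj),
      π ≫ y = x' ≫ (gr A p).map (φx L 0).hom := by
  obtain ⟨T', π, hπ, y', x', hyx⟩ := acyc (init L) p y x h
  refine ⟨T', π, hπ, x', ?_⟩
  have e0 : (init L).δ ≫ hullMap (init L).P = 0 := zero_comp
  rw [e0, gr_map_zero, comp_zero, zero_add] at hyx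
  exact hyx

lemma acyc_succ (p : ℤ) (n : ℕ) ⦃T : A⦄ (y : T ⟶ (gr A p).obj (Ix L (n + 1)).obj)
    (x : T ⟶ (gr A p).obj (L.X (n + 1 + 1)).obj)
    (h : y ≫ (gr A p).map (dI L (n + 1)).hom = x ≫ (gr A p).map (φx L (n + 1 + 1)).hom) :
    ∃ (T' : A) (π : T' ⟶ T) (_ : Epi π) (y' : T' ⟶ (gr A p).obj (Ix L n).obj)
      (x' : T' ⟶ (gr A p).obj (L.X (n + 1)).obj),
      π ≫ y = y' ≫ (gr A p).map (dI L n).hom + x' ≫ (gr A p).map (φx L (n + 1)).hom :=
  acyc (next (stg L n)) p y x h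

/-- the resolution, as an `ℕ`-indexed complex -/
noncomputable def Ic : CochainComplex (FilF A) ℕ := CochainComplex.of (Ix L) (dI L) (dI_comp L)

lemma Ic_d (n : ℕ) : (Ic L).d n (n + 1) = dI L n := CochainComplex.of_d (Ix L) (dI L) n

/-- the resolution map -/
noncomputable def φc : L ⟶ Ic L where
  f n := φx L n
  comm' := by
    rintro i j (rfl : i + 1 = j)
    rw [Ic_d]
    exact φx_dI L i

lemma φc_f (n : ℕ) : (φc L).f n = φx L n := rfl

end Tower

end Groth.Agent.Lib.Helper8.Fil16
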