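import Groth.Agent.Lib.Helper8.Fil16

/-!
# Helper8: filtered injective resolutions of bounded below complexes (S1082, part 2)
-/

universe v u

open CategoryTheory CategoryTheory.Limits Opposite

namespace Groth.Agent.Lib.Helper8.Fil17

open FilD Fil1 Fil2 Fil3 Fil4 Fil5 Fil6 Fil7 Fil8 Fil9 Fil10 Fil11 Fil12 Fil13 Fil14 Fil15 Fil16

set_option linter.unusedSectionVars false

variable {A : Type u} [Category.{v} A] [Abelian A]

lemma mono_of_mono_cp {X Y : FilF A} (f : X ⟶ Y) (h : ∀ p, Mono (cp f p)) : Mono f := by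
  apply (IsFinFil A).ι.mono_of_mono_map
  have : ∀ q : ℤᵒᵖ, Mono (((IsFinFil A).ι.map f).app q) := fun ⟨q⟩ => h q
  exact NatTrans.mono_of_mono_app _

lemma str_of_isZero_src {X Y : FilF A} (f : X ⟶ Y) (h : IsZero X) : Str f := by
  have e : f = 0 := h.eq_of_src _ _
  rw [e]
  exact str_zero

lemma mono_cp_of_isZero_src {X Y : FilF A} (f : X ⟶ Y) (h : IsZero X) (p : ℤ) : Mono (cp f p) := by
  have hz : IsZero (lv X p) := ((IsFinFil A).ι ⋙ (evaluation ℤᵒᵖ A).obj (op p)).map_isZero h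
  exact ⟨fun g g' _ => hz.eq_of_tgt g g'⟩

lemma str_iso_comp {W X Y Z : FilF A} (α : W ≅ X) (f : X ⟶ Y) (β : Y ≅ Z) (hf : Str f) :
    Str (α.hom ≫ f ≫ β.hom) :=
  str_comp_of_epi _ (fun p => epi_cp_of_split _ α.inv (Iso.inv_hom_id _) p) _
    (str_comp_of_split_mono f hf β.hom β.inv (Iso.hom_inv_id _))

lemma mono_cp_iso_comp {W X Y Z : FilF A} (α : W ≅ X) (f : X ⟶ Y) (β : Y ≅ Z)
    (hf : ∀ p, Mono (cp f p)) (p : ℤ) : Mono (cp (α.hom ≫ f ≫ β.hom) p) := by
  have := hf p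
  have h1 : IsIso (cp α.hom p) := ⟨cp α.inv p, by
    rw [← cp_comp, Iso.hom_inv_id]; rfl, by rw [← cp_comp, Iso.inv_hom_id]; rfl⟩
  have h2 : IsIso (cp β.hom p) := ⟨cp β.inv p, by
    rw [← cp_comp, Iso.hom_inv_id]; rfl, by rw [← cp_comp, Iso.inv_hom_id]; rfl⟩
  exact inferInstanceAs (Mono (cp α.hom p ≫ cp f p ≫ cp β.hom p))

variable [EnoughInjectives A] (K : CochainComplex (FilF A) ℤ) (a : ℤ)

/-- the restriction of `K` to degrees `≥ a` -/
noncomputable abbrev Lr : CochainComplex (FilF A) ℕ :=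
  K.restriction (ComplexShape.embeddingUpIntGE a)

/-- the resolution -/
noncomputable def Iz : CochainComplex (FilF A) ℤ :=
  (Ic (Lr K a)).extend (ComplexShape.embeddingUpIntGE a)

instance : (Iz K a).IsStrictlyGE a := by
  unfold Iz
  infer_instance

/-- the comparison isomorphisms -/
noncomputable def xI (k : ℕ) : (Iz K a).X (a + k) ≅ Ix (Lr K a) k :=
  (Ic (Lr K a)).extendXIso (ComplexShape.embeddingUpIntGE a) rfl

lemma Iz_d (k : ℕ) : (Iz K a).d (a + k) (a + ((k + 1 : ℕ) : ℤ)) =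
    (xI K a k).hom ≫ dI (Lr K a) k ≫ (xI K a (k + 1)).inv := by
  have h := (Ic (Lr K a)).extend_d_eq (ComplexShape.embeddingUpIntGE a) (i := k) (j := k + 1)
    rfl rfl
  rw [Ic_d] at h
  exact h

lemma isZero_Iz (n : ℤ) (hn : n < a) : IsZero ((Iz K a).X n) :=
  (Iz K a).isZero_of_isStrictlyGE a n hn

lemma filteredInjective_Iz (n : ℤ) : IsFilteredInjective ((Iz K a).X n) := by
  intro p
  by_cases hn : n < a
  · exact ((grF A p).map_isZero (isZero_Iz K a n hn)).injective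
  · obtain ⟨k, rfl⟩ : ∃ k : ℕ, n = a + k := ⟨(n - a).toNat, by omega⟩
    have := inj_Ix (Lr K a) k p
    exact Injective.of_iso ((grF A p).mapIso (xI K a k)).symm this

variable [K.IsStrictlyGE a]

lemma hasLift : (ComplexShape.embeddingUpIntGE a).HasLift (φc (Lr K a)) := by
  intro j hj i' hi'
  have hlt : i' < a := by
    rw [ComplexShape.boundaryGE_embeddingUpIntGE_iff] at hj
    subst hj
    have h : i' + 1 = a + ((0 : ℕ) : ℤ) := hi'
    simp at h
    omega
  have hz : IsZero (K.X i') := K.isZero_of_isStrictlyGE a i' hlt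
  have e0 : K.d i' ((ComplexShape.embeddingUpIntGE a).f j) = 0 := hz.eq_of_src _ _
  exact (congrArg (fun t => t ≫ (φc (Lr K a)).f j) e0).trans zero_comp

/-- the resolution map -/
noncomputable def φz : K ⟶ Iz K a :=
  (ComplexShape.embeddingUpIntGE a).liftExtend (φc (Lr K a)) (hasLift K a)

lemma φz_f (k : ℕ) : (φz K a).f (a + k) = φx (Lr K a) k ≫ (xI K a k).inv := by
  have h := (ComplexShape.embeddingUpIntGE a).liftExtend_f (φc (Lr K a)) (hasLift K a)
    (i := k) (i' := a + k) rfl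
  exact h.trans (Category.id_comp _)

lemma str_φz_f (n : ℤ) : Str ((φz K a).f n) := by
  by_cases hn : n < a
  · exact str_of_isZero_src _ (K.isZero_of_isStrictlyGE a n hn)
  · obtain ⟨k, rfl⟩ : ∃ k : ℕ, n = a + k := ⟨(n - a).toNat, by omega⟩
    rw [φz_f]
    have := str_iso_comp (Iso.refl _) (φx (Lr K a) k) (xI K a k).symm (str_φx _ k)
    rw [Iso.refl_hom, Category.id_comp] at this
    exact this

lemma mono_cp_φz_f (n : ℤ) (p : ℤ) : Mono (cp ((φz K a).f n) p) := by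
  by_cases hn : n < a
  · exact mono_cp_of_isZero_src _ (K.isZero_of_isStrictlyGE a n hn) p
  · obtain ⟨k, rfl⟩ : ∃ k : ℕ, n = a + k := ⟨(n - a).toNat, by omega⟩
    rw [φz_f]
    have := mono_cp_iso_comp (Iso.refl _) (φx (Lr K a) k) (xI K a k).symm
      (fun q => mono_cp_φx _ k q) p
    rw [Iso.refl_hom, Category.id_comp] at this
    exact this

/-- the components of the resolution map, with explicit source -/
noncomputable def φk (k : ℕ) : K.X (a + k) ⟶ Ix (Lr K a) k := φx (Lr K a) k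

lemma φz_f' (k : ℕ) : (φz K a).f (a + k) = φk K a k ≫ (xI K a k).inv := φz_f K a k

lemma acyc_zero' (p : ℤ) ⦃T : A⦄ (y : T ⟶ (gr A p).obj (Ix (Lr K a) 0).obj)
    (x : T ⟶ (gr A p).obj (K.X (a + ((0 + 1 : ℕ) : ℤ))).obj)
    (h : y ≫ (gr A p).map (dI (Lr K a) 0).hom = x ≫ (gr A p).map (φk K a (0 + 1)).hom) :
    ∃ (T' : A) (π : T' ⟶ T) (_ : Epi π) (x' : T' ⟶ (gr A p).obj (K.X (a + ((0 : ℕ) : ℤ))).obj),
      π ≫ y = x' ≫ (gr A p).map (φk K a 0).hom :=
  acyc_zero (Lr K a) p y x h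

lemma acyc_succ' (p : ℤ) (n : ℕ) ⦃T : A⦄ (y : T ⟶ (gr A p).obj (Ix (Lr K a) (n + 1)).obj)
    (x : T ⟶ (gr A p).obj (K.X (a + ((n + 1 + 1 : ℕ) : ℤ))).obj)
    (h : y ≫ (gr A p).map (dI (Lr K a) (n + 1)).hom =
      x ≫ (gr A p).map (φk K a (n + 1 + 1)).hom) :
    ∃ (T' : A) (π : T' ⟶ T) (_ : Epi π) (y' : T' ⟶ (gr A p).obj (Ix (Lr K a) n).obj)
      (x' : T' ⟶ (gr A p).obj (K.X (a + ((n + 1 : ℕ) : ℤ))).obj),
      π ≫ y = y' ≫ (gr A p).map (dI (Lr K a) n).hom + x' ≫ (gr A p).map (φk K a (n + 1)).hom :=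
  acyc_succ (Lr K a) p n y x h

lemma gr_Iz_d (p : ℤ) (k : ℕ) :
    (gr A p).map ((Iz K a).d (a + k) (a + ((k + 1 : ℕ) : ℤ))).hom =
      (gr A p).map (xI K a k).hom.hom ≫ (gr A p).map (dI (Lr K a) k).hom ≫
        (gr A p).map (xI K a (k + 1)).inv.hom := by
  rw [← gr_map_comp, ← gr_map_comp, ← Iz_d]

lemma gr_φz_f (p : ℤ) (k : ℕ) :
    (gr A p).map ((φz K a).f (a + k)).hom =
      (gr A p).map (φk K a k).hom ≫ (gr A p).map (xI K a k).inv.hom := by
  rw [← gr_map_comp, ← φz_f']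

lemma gr_xI_inv_hom (p : ℤ) (k : ℕ) :
    (gr A p).map (xI K a k).inv.hom ≫ (gr A p).map (xI K a k).hom.hom = 𝟙 _ := by
  rw [← gr_map_comp, Iso.inv_hom_id, gr_map_id]

lemma gr_xI_hom_inv (p : ℤ) (k : ℕ) :
    (gr A p).map (xI K a k).hom.hom ≫ (gr A p).map (xI K a k).inv.hom = 𝟙 _ := by
  rw [← gr_map_comp, Iso.hom_inv_id, gr_map_id]

theorem filteredQuasiIso_φz : IsFilteredQuasiIso (φz K a) := by
  intro p
  refine quasiIso_of_mono_of_cokernel_acyclic _ ?_ ?_
  · intro n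
    have : Mono ((gr A p).map ((φz K a).f n).hom) :=
      mono_gr_of_str _ (str_φz_f K a n) (mono_cp_φz_f K a n) p
    exact this
  · intro i j k hij hjk T (y : T ⟶ (gr A p).obj ((Iz K a).X j).obj)
      (x : T ⟶ (gr A p).obj (K.X k).obj)
      (hyx : y ≫ (gr A p).map ((Iz K a).d j k).hom = x ≫ (gr A p).map ((φz K a).f k).hom)
    by_cases hj : j < a
    · have hz : IsZero ((gr A p).obj ((Iz K a).X j).obj) :=
        (grF A p).map_isZero (isZero_Iz K a j hj)
      exact ⟨T, 𝟙 T, inferInstance, 0, 0, hz.eq_of_tgt _ _⟩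
    · obtain ⟨n, rfl⟩ : ∃ n : ℕ, j = a + n := ⟨(j - a).toNat, by omega⟩
      obtain rfl : k = a + ((n + 1 : ℕ) : ℤ) := by push_cast; omega
      have h1 : (y ≫ (gr A p).map (xI K a n).hom.hom) ≫ (gr A p).map (dI (Lr K a) n).hom =
          x ≫ (gr A p).map (φk K a (n + 1)).hom := by
        have t : (y ≫ (gr A p).map ((Iz K a).d (a + n) (a + ((n + 1 : ℕ) : ℤ))).hom) ≫
            (gr A p).map (xI K a (n + 1)).hom.hom =
            (x ≫ (gr A p).map ((φz K a).f (a + ((n + 1 : ℕ) : ℤ))).hom) ≫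
              (gr A p).map (xI K a (n + 1)).hom.hom := by rw [hyx]
        rw [gr_Iz_d, gr_φz_f] at t
        simp only [Category.assoc] at t
        rw [gr_xI_inv_hom, Category.comp_id, Category.comp_id] at t
        rw [Category.assoc]
        exact t
      rcases n with _ | m
      · obtain ⟨T', π, hπ, x', hx'⟩ := acyc_zero' K a p _ x h1
        refine ⟨T', π, hπ, 0, x', ?_⟩
        have key : π ≫ y = 0 ≫ (gr A p).map ((Iz K a).d i (a + ((0 : ℕ) : ℤ))).hom +
            x' ≫ (gr A p).map ((φz K a).f (a + ((0 : ℕ) : ℤ))).hom := by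
          rw [zero_comp, zero_add, gr_φz_f, ← Category.assoc x', ← hx']
          simp only [Category.assoc]
          rw [gr_xI_hom_inv, Category.comp_id]
        exact key
      · obtain rfl : i = a + (m : ℕ) := by push_cast at hij; omega
        obtain ⟨T', π, hπ, y', x', hyx'⟩ := acyc_succ' K a p m _ x h1
        refine ⟨T', π, hπ, y' ≫ (gr A p).map (xI K a m).inv.hom, x', ?_⟩
        have key : π ≫ y = (y' ≫ (gr A p).map (xI K a m).inv.hom) ≫
            (gr A p).map ((Iz K a).d (a + (m : ℕ)) (a + ((m + 1 : ℕ) : ℤ))).hom +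
            x' ≫ (gr A p).map ((φz K a).f (a + ((m + 1 : ℕ) : ℤ))).hom := by
          have e1 : (y' ≫ (gr A p).map (xI K a m).inv.hom) ≫ (gr A p).map (xI K a m).hom.hom ≫
              (gr A p).map (dI (Lr K a) m).hom ≫ (gr A p).map (xI K a (m + 1)).inv.hom +
              x' ≫ (gr A p).map (φk K a (m + 1)).hom ≫ (gr A p).map (xI K a (m + 1)).inv.hom =
              (y' ≫ (gr A p).map (dI (Lr K a) m).hom + x' ≫ (gr A p).map (φk K a (m + 1)).hom) ≫
                (gr A p).map (xI K a (m + 1)).inv.hom := by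
            rw [Preadditive.add_comp]
            simp only [Category.assoc]
            rw [← Category.assoc ((gr A p).map (xI K a m).inv.hom), gr_xI_inv_hom,
              Category.id_comp]
          rw [gr_Iz_d, gr_φz_f, e1, ← hyx']
          simp only [Category.assoc]
          rw [gr_xI_hom_inv, Category.comp_id]
        exact key

include a in
/-- S1082 -/
theorem exists_filteredInjective_resolution :
    ∃ (I : CochainComplex (FilF A) ℤ) (a' : ℤ) (φ : K ⟶ I), I.IsStrictlyGE a' ∧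
      (∀ n, IsFilteredInjective (I.X n)) ∧ IsFilteredQuasiIso φ ∧
      ∀ n, Mono (φ.f n) ∧ IsStrict (φ.f n) :=
  ⟨Iz K a, a, φz K a, inferInstance, filteredInjective_Iz K a, filteredQuasiIso_φz K a,
    fun n => ⟨mono_of_mono_cp _ (mono_cp_φz_f K a n), (isStrict_iff _).2 (str_φz_f K a n)⟩⟩

end Groth.Agent.Lib.Helper8.Fil17
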