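import Groth.Agent.Lib.Helper8.Fil1

/-!
# Helper8: extension of morphisms into filtered injective objects along strict morphisms
-/

universe v u

open CategoryTheory CategoryTheory.Limits Opposite

namespace Groth.Agent.Lib.Helper8.Fil2

open FilD Fil1

set_option linter.unusedSectionVars false

variable {A : Type u} [Category.{v} A] [Abelian A]

/-- extension along a map whose kernel is killed -/
lemma exists_extension {W Y I : A} [Injective I] (α : W ⟶ Y) (β : W ⟶ I)
    (h : ∀ ⦃T : A⦄ (w : T ⟶ W), w ≫ α = 0 → w ≫ β = 0) : ∃ γ : Y ⟶ I, α ≫ γ = β := by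
  have h1 : kernel.ι (Abelian.factorThruImage α) ≫ β = 0 := by
    apply h
    have e : kernel.ι (Abelian.factorThruImage α) ≫ α =
        (kernel.ι (Abelian.factorThruImage α) ≫ Abelian.factorThruImage α) ≫
          Abelian.image.ι α := by rw [Category.assoc, Abelian.image.fac]
    rw [e, kernel.condition, zero_comp]
  let β' := Abelian.epiDesc (Abelian.factorThruImage α) β h1
  have hβ' : Abelian.factorThruImage α ≫ β' = β := Abelian.comp_epiDesc _ _ _
  refine ⟨Injective.factorThru β' (Abelian.image.ι α), ?_⟩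
  calc α ≫ Injective.factorThru β' (Abelian.image.ι α)
      = Abelian.factorThruImage α ≫ Abelian.image.ι α ≫
          Injective.factorThru β' (Abelian.image.ι α) := by
        rw [← Category.assoc, Abelian.image.fac]
    _ = β := by rw [Injective.comp_factorThru, hβ']

section Tower

variable (X Y I : ℕ → A) (iX : ∀ n, X n ⟶ X (n + 1)) (iY : ∀ n, Y n ⟶ Y (n + 1))
  (iI : ∀ n, I n ⟶ I (n + 1)) [∀ n, Mono (iY n)] [∀ n, Injective (I n)]
  (u : ∀ n, X n ⟶ Y n) (f : ∀ n, X n ⟶ I n)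
  (hu : ∀ n, iX n ≫ u (n + 1) = u n ≫ iY n) (hf : ∀ n, iX n ≫ f (n + 1) = f n ≫ iI n)
  (hstr : ∀ n ⦃T : A⦄ (x : T ⟶ X (n + 1)) (y : T ⟶ Y n), x ≫ u (n + 1) = y ≫ iY n →
    ∃ (T' : A) (π : T' ⟶ T) (_ : Epi π) (x' : T' ⟶ X n), x' ≫ u n = π ≫ y)
  (hker : ∀ n ⦃T : A⦄ (x : T ⟶ X n), x ≫ u n = 0 → x ≫ f n = 0)

include hu hf hstr hker in
theorem exists_tower_extension :
    ∃ g : ∀ n, Y n ⟶ I n, (∀ n, u n ≫ g n = f n) ∧ (∀ n, iY n ≫ g (n + 1) = g n ≫ iI n) := by
  have step : ∀ n (g : Y n ⟶ I n), u n ≫ g = f n →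
      ∃ g' : Y (n + 1) ⟶ I (n + 1), u (n + 1) ≫ g' = f (n + 1) ∧ iY n ≫ g' = g ≫ iI n := by
    intro n g hg
    let α : X (n + 1) ⊞ Y n ⟶ Y (n + 1) := biprod.desc (u (n + 1)) (iY n)
    let β : X (n + 1) ⊞ Y n ⟶ I (n + 1) := biprod.desc (f (n + 1)) (g ≫ iI n)
    have hαβ : ∀ ⦃T : A⦄ (w : T ⟶ X (n + 1) ⊞ Y n), w ≫ α = 0 → w ≫ β = 0 := by
      intro T w hw
      obtain ⟨x, y, rfl⟩ : ∃ (x : T ⟶ X (n + 1)) (y : T ⟶ Y n), w = biprod.lift x y :=
        ⟨w ≫ biprod.fst, w ≫ biprod.snd, by apply biprod.hom_ext <;> simp⟩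
      have h1 : x ≫ u (n + 1) + y ≫ iY n = 0 := by
        simpa [α, biprod.lift_desc] using hw
      have h2 : x ≫ u (n + 1) = (-y) ≫ iY n := by
        rw [Preadditive.neg_comp]
        exact eq_neg_of_add_eq_zero_left h1
      obtain ⟨T', π, hπ, x', hx'⟩ := hstr n x (-y) h2
      have h3 : (π ≫ x - x' ≫ iX n) ≫ u (n + 1) = 0 := by
        rw [Preadditive.sub_comp, Category.assoc, Category.assoc, hu, ← Category.assoc x', hx',
          h2, Category.assoc, sub_self]
      have h4 := hker (n + 1) _ h3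
      rw [Preadditive.sub_comp, Category.assoc, Category.assoc, hf, ← hg, ← Category.assoc x',
        ← Category.assoc x', hx', sub_eq_zero] at h4
      rw [← cancel_epi π, comp_zero]
      change π ≫ biprod.lift x y ≫ biprod.desc (f (n + 1)) (g ≫ iI n) = 0
      rw [biprod.lift_desc, Preadditive.comp_add, h4]
      simp
    obtain ⟨γ, hγ⟩ := exists_extension α β hαβ
    refine ⟨γ, ?_, ?_⟩
    · have := congrArg (fun k => biprod.inl ≫ k) hγ
      simpa [α, β] using this
    · have := congrArg (fun k => biprod.inr ≫ k) hγ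
      simpa [α, β] using this
  choose! nxt h1 h2 using step
  obtain ⟨g0, hg0⟩ := exists_extension (u 0) (f 0) (hker 0)
  let G : ∀ n, {g : Y n ⟶ I n // u n ≫ g = f n} := fun n =>
    Nat.rec (motive := fun n => {g : Y n ⟶ I n // u n ≫ g = f n}) ⟨g0, hg0⟩
      (fun n gn => ⟨nxt n gn.1, h1 n gn.1 gn.2⟩) n
  exact ⟨fun n => (G n).1, fun n => (G n).2, fun n => h2 n (G n).1 (G n).2⟩

end Tower

section Assemble

variable {F G : ℤᵒᵖ ⥤ A} (b : ℤ) (hG : ∀ p : ℤ, b ≤ p → IsZero (G.obj (op p)))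
  (g : ∀ n : ℕ, F.obj (op (b - n)) ⟶ G.obj (op (b - n)))
  (hg : ∀ n : ℕ, trF F (by omega : b - ((n + 1 : ℕ) : ℤ) ≤ b - (n : ℤ)) ≫ g (n + 1) =
    g n ≫ trF G (by omega : b - ((n + 1 : ℕ) : ℤ) ≤ b - (n : ℤ)))

/-- the components of the assembled natural transformation -/
noncomputable def asmApp (p : ℤ) : F.obj (op p) ⟶ G.obj (op p) :=
  if h : p ≤ b then
    trF F (by omega : b - ((b - p).toNat : ℤ) ≤ p) ≫ g (b - p).toNat ≫
      trF G (by omega : p ≤ b - ((b - p).toNat : ℤ))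
  else 0

lemma asmApp_eq (n : ℕ) (p : ℤ) (hp : p = b - n) :
    asmApp b g p = trF F (by omega : b - (n : ℤ) ≤ p) ≫ g n ≫ trF G (by omega : p ≤ b - (n : ℤ)) := by
  have hpb : p ≤ b := by omega
  unfold asmApp
  rw [dif_pos hpb]
  have hn : (b - p).toNat = n := by omega
  have key : ∀ (m : ℕ) (hm : m = n) (h₁ : b - (m : ℤ) ≤ p) (h₂ : p ≤ b - (m : ℤ)),
      trF F h₁ ≫ g m ≫ trF G h₂ =
        trF F (by omega : b - (n : ℤ) ≤ p) ≫ g n ≫ trF G (by omega : p ≤ b - (n : ℤ)) := by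
    rintro m rfl h₁ h₂
    rfl
  exact key _ hn _ _

include hG hg in
theorem exists_natTrans_of_tower :
    ∃ τ : F ⟶ G, ∀ n : ℕ, τ.app (op (b - n)) = g n := by
  refine ⟨natTransOfSteps (asmApp b g) (fun p => ?_), fun n => ?_⟩
  · by_cases hp : p + 1 ≤ b
    · obtain ⟨n, hn⟩ : ∃ n : ℕ, p + 1 = b - n := ⟨(b - (p + 1)).toNat, by omega⟩
      have hn' : p = b - ((n + 1 : ℕ) : ℤ) := by push_cast; omega
      rw [asmApp_eq b g n (p + 1) hn, asmApp_eq b g (n + 1) p hn', trF_step, trF_step]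
      subst hn'
      rw [trF_refl, trF_refl, Category.id_comp, Category.comp_id, Category.assoc, Category.assoc,
        trF_comp G]
      have e1 : trF F (Int.le_add_one le_rfl : b - ((n + 1 : ℕ) : ℤ) ≤ b - ((n + 1 : ℕ) : ℤ) + 1) =
          trF F (by omega : b - (n : ℤ) ≤ b - ((n + 1 : ℕ) : ℤ) + 1) ≫
            trF F (by omega : b - ((n + 1 : ℕ) : ℤ) ≤ b - (n : ℤ)) := (trF_comp F _ _).symm
      rw [e1, Category.assoc, hg]
    · exact (hG p (by omega)).eq_of_tgt _ _
  · rw [natTransOfSteps_app, asmApp_eq b g n (b - n) rfl, trF_refl, trF_refl, Category.id_comp,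
      Category.comp_id]

end Assemble

section Levels

/-- a level is injective if the next one and the graded piece are -/
lemma injective_lv_of_succ (I : FilF A) (p q : ℤ) (hq : q = p + 1) (h1 : Injective (lv I q))
    (h2 : Injective ((grF A p).obj I)) : Injective (lv I p) := by
  subst hq
  let S : ShortComplex A := ShortComplex.mk (st I p) (grπ I.obj p) (step_grπ I.obj p)
  have hS : S.Exact := ShortComplex.exact_of_g_is_cokernel _ (cokernelIsCokernel _)
  let r : lv I p ⟶ lv I (p + 1) := Injective.factorThru (𝟙 _) (st I p)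
  have hr : st I p ≫ r = 𝟙 _ := Injective.comp_factorThru _ _
  have hg : Epi S.g := inferInstanceAs (Epi (cokernel.π _))
  let sp : S.Splitting := ShortComplex.Splitting.ofExactOfRetraction S hS r hr hg
  have : Injective ((grF A p).obj I) := h2
  have : Injective (lv I (p + 1) ⊞ (grF A p).obj I) := inferInstance
  exact Injective.of_iso sp.isoBinaryBiproduct.symm this

/-- all levels of a filtered injective object are injective -/
theorem injective_lv (I : FilF A) (hI : IsFilteredInjective I) (p : ℤ) : Injective (lv I p) := by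
  obtain ⟨b, hb⟩ := I.property.2.1
  have hz : ∀ q : ℤ, b ≤ q → Injective (lv I q) := fun q hq =>
    Injective.of_iso (hb q hq).isoZero.symm inferInstance
  have hn : ∀ n : ℕ, Injective (lv I (b - n)) := by
    intro n
    induction n with
    | zero => exact hz _ (by simp)
    | succ n ih =>
      exact injective_lv_of_succ I _ (b - (n : ℤ)) (by push_cast; ring) ih (hI _)
  by_cases hp : b ≤ p
  · exact hz p hp
  · obtain ⟨n, rfl⟩ : ∃ n : ℕ, p = b - n := ⟨(b - p).toNat, by omega⟩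
    exact hn n

end Levels

section Ext

variable {X Y I : FilF A} (u : X ⟶ Y) (hu : Str u) (hI : IsFilteredInjective I) (f : X ⟶ I)
  (hker : ∀ (p : ℤ) ⦃T : A⦄ (x : T ⟶ lv X p), x ≫ cp u p = 0 → x ≫ cp f p = 0)

include hu hI hker in
/-- extension of a morphism into a filtered injective object along a strict morphism -/
theorem exists_ext : ∃ g : Y ⟶ I, u ≫ g = f := by
  obtain ⟨b, hb⟩ := I.property.2.1
  have hinj : ∀ n : ℕ, Injective (lv I (b - n)) := fun n => injective_lv I hI _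
  obtain ⟨g, hg1, hg2⟩ := exists_tower_extension
    (fun n : ℕ => lv X (b - n)) (fun n : ℕ => lv Y (b - n)) (fun n : ℕ => lv I (b - n))
    (fun n => tr X (by omega : b - ((n + 1 : ℕ) : ℤ) ≤ b - (n : ℤ)))
    (fun n => tr Y (by omega : b - ((n + 1 : ℕ) : ℤ) ≤ b - (n : ℤ)))
    (fun n => tr I (by omega : b - ((n + 1 : ℕ) : ℤ) ≤ b - (n : ℤ)))
    (fun n => cp u (b - n)) (fun n => cp f (b - n))
    (fun n => cp_tr u _) (fun n => cp_tr f _)
    (fun n T x y hxy => hu _ _ _ x y hxy)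
    (fun n T x hx => hker _ x hx)
  obtain ⟨τ, hτ⟩ := exists_natTrans_of_tower (F := Y.obj) (G := I.obj) b hb g hg2
  refine ⟨ObjectProperty.homMk τ, ?_⟩
  apply ObjectProperty.hom_ext
  apply NatTrans.ext
  funext ⟨p⟩
  change cp u p ≫ τ.app (op p) = cp f p
  by_cases hp : b ≤ p
  · exact (hb p hp).eq_of_tgt _ _
  · obtain ⟨n, rfl⟩ : ∃ n : ℕ, p = b - n := ⟨(b - p).toNat, by omega⟩
    rw [hτ]
    exact hg1 n

end Ext

end Groth.Agent.Lib.Helper8.Fil2
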