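import Groth.Agent.Lib.Helper8.Fil2

/-!
# Helper8: levelwise kernels of morphisms of filtered objects; monomorphisms
-/

universe v u

open CategoryTheory CategoryTheory.Limits Opposite

namespace Groth.Agent.Lib.Helper8.Fil3

open FilD Fil1 Fil2

set_option linter.unusedSectionVars false

variable {A : Type u} [Category.{v} A] [Abelian A]

section Kernel

variable {F G : ℤᵒᵖ ⥤ A} (α : F ⟶ G)

/-- the levelwise kernel inclusion -/
noncomputable abbrev kι (p : ℤ) : (kernel α).obj (op p) ⟶ F.obj (op p) := (kernel.ι α).app (op p)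

lemma kι_comp (p : ℤ) : kι α p ≫ α.app (op p) = 0 := by
  rw [← NatTrans.comp_app, kernel.condition]
  rfl

instance (p : ℤ) : Mono (kι α p) := by
  have : Mono (kernel.ι α) := inferInstance
  exact (NatTrans.mono_iff_mono_app (kernel.ι α)).1 this (op p)

/-- the levelwise kernel is a kernel -/
noncomputable def kιIsKernel (p : ℤ) :
    IsLimit (KernelFork.ofι (kι α p) (kι_comp α p)) :=
  (KernelFork.ofι (kernel.ι α) (kernel.condition α)).mapIsLimit (kernelIsKernel α)
    ((evaluation ℤᵒᵖ A).obj (op p))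

lemma exists_kernel_lift (p : ℤ) {T : A} (x : T ⟶ F.obj (op p)) (hx : x ≫ α.app (op p) = 0) :
    ∃ k : T ⟶ (kernel α).obj (op p), k ≫ kι α p = x :=
  ⟨(kιIsKernel α p).lift (KernelFork.ofι x hx), (kιIsKernel α p).fac _ WalkingParallelPair.zero⟩

lemma kι_naturality {p q : ℤ} (h : p ≤ q) :
    trF (kernel α) h ≫ kι α p = kι α q ≫ trF F h := (kernel.ι α).naturality _

end Kernel

section Mono

variable {X Y : FilF A} (φ : X ⟶ Y)

/-- the levelwise kernel of a morphism of finite filtered objects is a finite filtered object -/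
lemma isFinFil_kernel : IsFinFil A (kernel φ.hom) := by
  refine ⟨?_, ?_, ?_⟩
  · rintro ⟨q⟩ ⟨p⟩ f
    have hnat : (kernel φ.hom).map f ≫ kι φ.hom p = kι φ.hom q ≫ X.obj.map f :=
      (kernel.ι φ.hom).naturality f
    have : Mono (X.obj.map f) := X.property.1 f
    have : Mono ((kernel φ.hom).map f ≫ kι φ.hom p) := by
      rw [hnat]
      infer_instance
    exact mono_of_mono _ (kι φ.hom p)
  · obtain ⟨b, hb⟩ := X.property.2.1
    exact ⟨b, fun p hp => IsZero.of_mono (kι φ.hom p) (hb p hp)⟩
  · obtain ⟨a₁, ha₁⟩ := X.property.2.2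
    obtain ⟨a₂, ha₂⟩ := Y.property.2.2
    refine ⟨min a₁ a₂, ?_⟩
    rintro ⟨q⟩ ⟨p⟩ f hq
    have hq' : q ≤ min a₁ a₂ := hq
    have i1 : IsIso (X.obj.map f) := ha₁ f (le_trans hq' (min_le_left _ _))
    have i2 : IsIso (Y.obj.map f) := ha₂ f (le_trans hq' (min_le_right _ _))
    have hnat : (kernel φ.hom).map f ≫ kι φ.hom p = kι φ.hom q ≫ X.obj.map f :=
      (kernel.ι φ.hom).naturality f
    have hm : Mono ((kernel φ.hom).map f) := by
      have : Mono ((kernel φ.hom).map f ≫ kι φ.hom p) := by
        rw [hnat]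
        infer_instance
      exact mono_of_mono _ (kι φ.hom p)
    have he : Epi ((kernel φ.hom).map f) := by
      rw [epi_iff_surjective_up_to_refinements]
      intro T k
      have hx : (k ≫ kι φ.hom p ≫ inv (X.obj.map f)) ≫ φ.hom.app (op q) = 0 := by
        rw [← cancel_mono (Y.obj.map f), zero_comp, Category.assoc, Category.assoc, Category.assoc,
          ← φ.hom.naturality f, IsIso.inv_hom_id_assoc, kι_comp, comp_zero]
      obtain ⟨k', hk'⟩ := exists_kernel_lift φ.hom q _ hx
      refine ⟨T, 𝟙 T, inferInstance, k', ?_⟩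
      rw [Category.id_comp, ← cancel_mono (kι φ.hom p), Category.assoc, hnat, ← Category.assoc,
        hk', Category.assoc, Category.assoc, IsIso.inv_hom_id, Category.comp_id]
    exact isIso_of_mono_of_epi _

/-- a monomorphism of finite filtered objects is a monomorphism on every level -/
theorem mono_cp [Mono φ] (p : ℤ) : Mono (cp φ p) := by
  let K : FilF A := ⟨kernel φ.hom, isFinFil_kernel φ⟩
  let κ : K ⟶ X := ObjectProperty.homMk (kernel.ι φ.hom)
  have h1 : κ ≫ φ = 0 ≫ φ := by
    apply ObjectProperty.hom_ext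
    rw [zero_comp]
    exact kernel.condition φ.hom
  have h2 : κ = 0 := (cancel_mono φ).1 h1
  have h3 : kernel.ι φ.hom = 0 := congrArg (fun k => k.hom) h2
  have h4 : Mono φ.hom := Preadditive.mono_of_kernel_zero h3
  exact (NatTrans.mono_iff_mono_app φ.hom).1 h4 (op p)

end Mono

section Results

variable {X Y I : FilF A}

/-- S6605 -/
theorem exists_desc_along_strictMono (u : X ⟶ Y) [Mono u] (hu : IsStrict u)
    (hI : IsFilteredInjective I) (f : X ⟶ I) : ∃ g : Y ⟶ I, u ≫ g = f := by
  refine exists_ext u ((isStrict_iff u).1 hu) hI f (fun p T x hx => ?_)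
  have := mono_cp u p
  have hx0 : x = 0 := by rwa [← cancel_mono (cp u p), zero_comp]
  rw [hx0, zero_comp]

/-- S1080 -/
theorem strictMono_splits {I X : FilF A} (u : I ⟶ X) [Mono u] (hu : IsStrict u)
    (hI : IsFilteredInjective I) : ∃ r : X ⟶ I, u ≫ r = 𝟙 I :=
  exists_desc_along_strictMono u hu hI (𝟙 I)

end Results

end Groth.Agent.Lib.Helper8.Fil3
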