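import Groth.Agent.Lib.Helper8.Fil3

/-!
# Helper8: strictness and exactness of graded pieces
-/

universe v u

open CategoryTheory CategoryTheory.Limits Opposite

namespace Groth.Agent.Lib.Helper8.Fil4

open FilD Fil1 Fil2 Fil3

set_option linter.unusedSectionVars false

variable {A : Type u} [Category.{v} A] [Abelian A]

instance (F : ℤᵒᵖ ⥤ A) (p : ℤ) : Epi (grπ F p) :=
  inferInstanceAs (Epi (cokernel.π (F.map (stepHom p))))

/-- elements of level `p` which die in the graded piece come from level `p + 1` -/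
lemma exists_lift_of_grπ_eq_zero {p : ℤ} (F : ℤᵒᵖ ⥤ A) [Mono (F.map (stepHom p))] {T : A}
    (x : T ⟶ F.obj (op p)) (hx : x ≫ grπ F p = 0) :
    ∃ x' : T ⟶ F.obj (op (p + 1)), x' ≫ F.map (stepHom p) = x :=
  ⟨Abelian.monoLift (F.map (stepHom p)) x hx, Abelian.monoLift_comp _ _ _⟩

section S1086

variable {X Y : FilF A} (φ : X ⟶ Y)

/-- the short complex of graded pieces of the kernel -/
noncomputable abbrev grKer (p : ℤ) : ShortComplex A :=
  (ShortComplex.mk (kernel.ι φ.hom) φ.hom (kernel.condition φ.hom)).map (gr A p)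

lemma exact_grKer_of_str (h : Str φ) (p : ℤ) : (grKer φ p).Exact := by
  rw [ShortComplex.exact_iff_exact_up_to_refinements]
  intro T (xbar : T ⟶ (gr A p).obj X.obj) (hxbar : xbar ≫ (gr A p).map φ.hom = 0)
  obtain ⟨T₁, π₁, hπ₁, x, hx⟩ := surjective_up_to_refinements_of_epi (grπ X.obj p) xbar
  have h1 : (x ≫ cp φ p) ≫ grπ Y.obj p = 0 := by
    rw [Category.assoc, ← grπ_map, ← Category.assoc, ← hx, Category.assoc, hxbar, comp_zero]
  obtain ⟨y, hy⟩ := exists_lift_of_grπ_eq_zero Y.obj (x ≫ cp φ p) h1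
  obtain ⟨T₂, π₂, hπ₂, x', hx'⟩ := h p (p + 1) (Int.le_add_one le_rfl) x y hy.symm
  have h2 : (π₂ ≫ x - x' ≫ st X p) ≫ cp φ p = 0 := by
    rw [Preadditive.sub_comp, Category.assoc, Category.assoc, cp_st, ← Category.assoc x', hx',
      ← hy, Category.assoc, sub_self]
  obtain ⟨k, hk⟩ := exists_kernel_lift φ.hom p _ h2
  have key : (π₂ ≫ π₁) ≫ xbar =
      (k ≫ grπ (kernel φ.hom) p) ≫ (gr A p).map (kernel.ι φ.hom) := by
    have e1 : (k ≫ grπ (kernel φ.hom) p) ≫ (gr A p).map (kernel.ι φ.hom) =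
        (k ≫ kι φ.hom p) ≫ grπ X.obj p := by
      rw [Category.assoc, grπ_map, Category.assoc]
    have e2 : (x' ≫ st X p) ≫ grπ X.obj p = 0 := by
      rw [Category.assoc]
      exact (congrArg (fun t => x' ≫ t) (step_grπ X.obj p)).trans comp_zero
    rw [e1, hk, Preadditive.sub_comp, e2, sub_zero, Category.assoc, Category.assoc, hx]
  exact ⟨T₂, π₂ ≫ π₁, inferInstance, k ≫ grπ (kernel φ.hom) p, key⟩

lemma str_of_exact_grKer (h : ∀ p, (grKer φ p).Exact) : Str φ := by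
  intro p q hpq
  induction q, hpq using Int.leInduction with
  | base =>
    intro T x y hxy
    refine ⟨T, 𝟙 T, inferInstance, x, ?_⟩
    rw [Category.id_comp, hxy]
    change y ≫ trF Y.obj (le_refl p) = y
    rw [trF_refl, Category.comp_id]
  | succ q hpq ih =>
    intro T x y hxy
    have hxy' : x ≫ cp φ p = (y ≫ st Y q) ≫ tr Y hpq := by
      rw [hxy, Category.assoc]
      congr 1
      exact (trF_comp Y.obj hpq (Int.le_add_one le_rfl)).symm
    obtain ⟨T₁, π₁, hπ₁, x₁, hx₁⟩ := ih x (y ≫ st Y q) hxy'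
    have h1 : (x₁ ≫ grπ X.obj q) ≫ (gr A q).map φ.hom = 0 := by
      rw [Category.assoc, grπ_map, ← Category.assoc, hx₁, Category.assoc, Category.assoc,
        step_grπ, comp_zero, comp_zero]
    obtain ⟨T₂, π₂, hπ₂, kbar, hkbar'⟩ : ∃ (T₂ : A) (π₂ : T₂ ⟶ T₁) (_ : Epi π₂)
        (kbar : T₂ ⟶ (gr A q).obj (kernel φ.hom)),
        π₂ ≫ x₁ ≫ grπ X.obj q = kbar ≫ (gr A q).map (kernel.ι φ.hom) :=
      (h q).exact_up_to_refinements _ h1
    obtain ⟨T₃, π₃, hπ₃, k, hk⟩ :=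
      surjective_up_to_refinements_of_epi (grπ (kernel φ.hom) q) kbar
    have h2 : (π₃ ≫ π₂ ≫ x₁ - k ≫ kι φ.hom q) ≫ grπ X.obj q = 0 := by
      rw [Preadditive.sub_comp, Category.assoc, Category.assoc, Category.assoc, hkbar',
        ← grπ_map, ← Category.assoc k, ← hk, Category.assoc, sub_self]
    obtain ⟨x₂, hx₂⟩ := exists_lift_of_grπ_eq_zero X.obj _ h2
    refine ⟨T₃, π₃ ≫ π₂ ≫ π₁, inferInstance, x₂, ?_⟩
    rw [← cancel_mono (st Y q), Category.assoc, ← cp_st, ← Category.assoc, hx₂,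
      Preadditive.sub_comp, Category.assoc, Category.assoc, Category.assoc, kι_comp, comp_zero,
      sub_zero, hx₁]
    simp only [Category.assoc]

/-- S1086 -/
theorem isStrict_iff_gr_kernel_exact : IsStrict φ ↔ ∀ p : ℤ, (grKer φ p).Exact :=
  (isStrict_iff φ).trans ⟨exact_grKer_of_str φ, str_of_exact_grKer φ⟩

end S1086

section S1085

variable {X Y Z : FilF A} (f : X ⟶ Y) (g : Y ⟶ Z) (hfg : f ≫ g = 0)
  (hgr : ∀ p : ℤ, (ShortComplex.mk ((gr A p).map f.hom) ((gr A p).map g.hom) (by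
    rw [← Functor.map_comp, ← ObjectProperty.FullSubcategory.comp_hom, hfg]
    exact (gr A p).map_zero _ _)).Exact)

include hfg in
lemma cp_comp_zero (p : ℤ) : cp f p ≫ cp g p = 0 := by
  have := congrArg (fun k => cp k p) hfg
  exact this

/-- the levelwise exactness property, in terms of generalized elements -/
def LvExact (p : ℤ) : Prop :=
  ∀ ⦃T : A⦄ (y : T ⟶ lv Y p), y ≫ cp g p = 0 →
    ∃ (T' : A) (π : T' ⟶ T) (_ : Epi π) (x : T' ⟶ lv X p), π ≫ y = x ≫ cp f p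

include hfg hgr in
lemma lvExact_of_succ (p q : ℤ) (hq : q = p + 1) (h : LvExact f g q) : LvExact f g p := by
  subst hq
  intro T y hy
  have h1 : (y ≫ grπ Y.obj p) ≫ (gr A p).map g.hom = 0 := by
    rw [Category.assoc, grπ_map, ← Category.assoc, hy, zero_comp]
  obtain ⟨T₁, π₁, hπ₁, xbar, hxbar⟩ : ∃ (T₁ : A) (π₁ : T₁ ⟶ T) (_ : Epi π₁)
      (xbar : T₁ ⟶ (gr A p).obj X.obj), π₁ ≫ y ≫ grπ Y.obj p = xbar ≫ (gr A p).map f.hom :=
    (hgr p).exact_up_to_refinements _ h1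
  obtain ⟨T₂, π₂, hπ₂, x, hx⟩ := surjective_up_to_refinements_of_epi (grπ X.obj p) xbar
  have h2 : (π₂ ≫ π₁ ≫ y - x ≫ cp f p) ≫ grπ Y.obj p = 0 := by
    have e1 : (x ≫ cp f p) ≫ grπ Y.obj p = (x ≫ grπ X.obj p) ≫ (gr A p).map f.hom := by
      rw [Category.assoc, Category.assoc, grπ_map]
    rw [Preadditive.sub_comp, e1, ← hx, Category.assoc, Category.assoc, Category.assoc, hxbar,
      sub_self]
  obtain ⟨y', hy'⟩ := exists_lift_of_grπ_eq_zero Y.obj _ h2
  have h3 : y' ≫ cp g (p + 1) = 0 := by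
    rw [← cancel_mono (st Z p), zero_comp, Category.assoc, ← cp_st, ← Category.assoc]
    have e2 : y' ≫ st Y p = π₂ ≫ π₁ ≫ y - x ≫ cp f p := hy'
    rw [e2, Preadditive.sub_comp, Category.assoc, Category.assoc, Category.assoc, hy,
      cp_comp_zero f g hfg, comp_zero, comp_zero, comp_zero, sub_zero]
  obtain ⟨T₃, π₃, hπ₃, x', hx'⟩ := h y' h3
  refine ⟨T₃, π₃ ≫ π₂ ≫ π₁, inferInstance, π₃ ≫ x + x' ≫ st X p, ?_⟩
  have e2 : y' ≫ st Y p = π₂ ≫ π₁ ≫ y - x ≫ cp f p := hy'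
  have e3 : π₂ ≫ π₁ ≫ y = y' ≫ st Y p + x ≫ cp f p := by rw [e2]; abel
  rw [Preadditive.add_comp, Category.assoc, Category.assoc, Category.assoc, e3,
    Preadditive.comp_add, ← Category.assoc π₃ y', hx', Category.assoc, Category.assoc, cp_st]
  abel

include hfg hgr in
theorem lvExact (p : ℤ) : LvExact f g p := by
  obtain ⟨b, hb⟩ := Y.property.2.1
  have hz : ∀ q : ℤ, b ≤ q → LvExact f g q := by
    intro q hq T y _
    exact ⟨T, 𝟙 T, inferInstance, 0, (hb q hq).eq_of_tgt _ _⟩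
  have hn : ∀ n : ℕ, LvExact f g (b - n) := by
    intro n
    induction n with
    | zero => exact hz _ (by simp)
    | succ n ih =>
      exact lvExact_of_succ f g hfg hgr _ (b - (n : ℤ)) (by push_cast; ring) ih
  by_cases hp : b ≤ p
  · exact hz p hp
  · obtain ⟨n, rfl⟩ : ∃ n : ℕ, p = b - n := ⟨(b - p).toNat, by omega⟩
    exact hn n

include hfg hgr in
theorem str_f : Str f := by
  intro p q hpq T x y hxy
  have h1 : y ≫ cp g q = 0 := by
    rw [← cancel_mono (tr Z hpq), zero_comp, Category.assoc, ← cp_tr, ← Category.assoc, ← hxy,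
      Category.assoc, cp_comp_zero f g hfg, comp_zero]
  obtain ⟨T', π, hπ, x', hx'⟩ := lvExact f g hfg hgr q y h1
  exact ⟨T', π, hπ, x', hx'.symm⟩

include hfg hgr in
theorem str_g : Str g := by
  intro p q hpq
  induction q, hpq using Int.leInduction with
  | base =>
    intro T y z hyz
    refine ⟨T, 𝟙 T, inferInstance, y, ?_⟩
    rw [Category.id_comp, hyz]
    change z ≫ trF Z.obj (le_refl p) = z
    rw [trF_refl, Category.comp_id]
  | succ q hpq ih =>
    intro T y z hyz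
    have hyz' : y ≫ cp g p = (z ≫ st Z q) ≫ tr Z hpq := by
      rw [hyz, Category.assoc]
      congr 1
      exact (trF_comp Z.obj hpq (Int.le_add_one le_rfl)).symm
    obtain ⟨T₁, π₁, hπ₁, y₁, hy₁⟩ := ih y (z ≫ st Z q) hyz'
    have h1 : (y₁ ≫ grπ Y.obj q) ≫ (gr A q).map g.hom = 0 := by
      rw [Category.assoc, grπ_map, ← Category.assoc, hy₁, Category.assoc, Category.assoc,
        step_grπ, comp_zero, comp_zero]
    obtain ⟨T₂, π₂, hπ₂, xbar, hxbar⟩ : ∃ (T₂ : A) (π₂ : T₂ ⟶ T₁) (_ : Epi π₂)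
        (xbar : T₂ ⟶ (gr A q).obj X.obj),
        π₂ ≫ y₁ ≫ grπ Y.obj q = xbar ≫ (gr A q).map f.hom :=
      (hgr q).exact_up_to_refinements _ h1
    obtain ⟨T₃, π₃, hπ₃, x, hx⟩ := surjective_up_to_refinements_of_epi (grπ X.obj q) xbar
    have h2 : (π₃ ≫ π₂ ≫ y₁ - x ≫ cp f q) ≫ grπ Y.obj q = 0 := by
      have e1 : (x ≫ cp f q) ≫ grπ Y.obj q = (x ≫ grπ X.obj q) ≫ (gr A q).map f.hom := by
        rw [Category.assoc, Category.assoc, grπ_map]
      rw [Preadditive.sub_comp, e1, ← hx, Category.assoc, Category.assoc, Category.assoc, hxbar,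
        sub_self]
    obtain ⟨y₂, hy₂⟩ := exists_lift_of_grπ_eq_zero Y.obj _ h2
    refine ⟨T₃, π₃ ≫ π₂ ≫ π₁, inferInstance, y₂, ?_⟩
    have e2 : y₂ ≫ st Y q = π₃ ≫ π₂ ≫ y₁ - x ≫ cp f q := hy₂
    rw [← cancel_mono (st Z q), Category.assoc, ← cp_st, ← Category.assoc, e2,
      Preadditive.sub_comp, Category.assoc, Category.assoc, Category.assoc,
      cp_comp_zero f g hfg, comp_zero, sub_zero, hy₁]
    simp only [Category.assoc]

end S1085

/-- S1085 -/
theorem strict_and_exact_of_gr_exact (S : ShortComplex (FilF A))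
    (hS : ∀ p : ℤ, (S.map (grF A p)).Exact) :
    (∀ p : ℤ, (S.map ((IsFinFil A).ι ⋙ (evaluation ℤᵒᵖ A).obj (op p))).Exact) ∧
      IsStrict S.f ∧ IsStrict S.g := by
  refine ⟨fun p => ?_, (isStrict_iff _).2 (str_f S.f S.g S.zero hS),
    (isStrict_iff _).2 (str_g S.f S.g S.zero hS)⟩
  rw [ShortComplex.exact_iff_exact_up_to_refinements]
  intro T (y : T ⟶ lv S.X₂ p) (hy : y ≫ cp S.g p = 0)
  exact lvExact S.f S.g S.zero hS p y hy

end Groth.Agent.Lib.Helper8.Fil4
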