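import Groth.Agent.Lib.Helper8.Fil4

/-!
# Helper8: maps from filtered acyclic complexes to complexes of filtered injectives are nullhomotopic
-/

universe v u

open CategoryTheory CategoryTheory.Limits Opposite

namespace Groth.Agent.Lib.Helper8.Fil5

open FilD Fil1 Fil2 Fil3 Fil4

set_option linter.unusedSectionVars false

variable {A : Type u} [Category.{v} A] [Abelian A]

section Acyclic

variable (K : CochainComplex (FilF A) ℤ) (hK : IsFilteredAcyclic K)

include hK in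
/-- exactness of graded pieces at three consecutive terms -/
lemma gr_exact (j : ℤ) (p : ℤ) :
    (ShortComplex.mk ((gr A p).map (K.d j (j + 1)).hom) ((gr A p).map (K.d (j + 1) (j + 1 + 1)).hom)
      (by
        rw [← Functor.map_comp, ← ObjectProperty.FullSubcategory.comp_hom, K.d_comp_d]
        exact (gr A p).map_zero _ _)).Exact := by
  have h := hK p (j + 1)
  rw [HomologicalComplex.exactAt_iff' _ j (j + 1) (j + 1 + 1) (by simp) (by simp)] at h
  exact h

include hK in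
lemma str_d (j : ℤ) : Str (K.d (j + 1) (j + 1 + 1)) :=
  str_g (K.d j (j + 1)) (K.d (j + 1) (j + 1 + 1)) (K.d_comp_d _ _ _) (gr_exact K hK j)

include hK in
lemma lvExact_d (j : ℤ) (p : ℤ) : LvExact (K.d j (j + 1)) (K.d (j + 1) (j + 1 + 1)) p :=
  lvExact (K.d j (j + 1)) (K.d (j + 1) (j + 1 + 1)) (K.d_comp_d _ _ _) (gr_exact K hK j) p

end Acyclic

section Homotopy

variable (K I : CochainComplex (FilF A) ℤ) (hK : IsFilteredAcyclic K) (a : ℤ)
  (hIa : ∀ n : ℤ, n < a → IsZero (I.X n))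
  (hI : ∀ n, IsFilteredInjective (I.X n)) (φ : K ⟶ I)

/-- the invariant of the inductive construction -/
def Inv (j : ℤ) (H : K.X (j + 1) ⟶ I.X j) : Prop :=
  K.d j (j + 1) ≫ (φ.f (j + 1) - H ≫ I.d j (j + 1)) = 0

include hK hI in
lemma exists_next (j : ℤ) (H : K.X (j + 1) ⟶ I.X j) (hH : Inv K I φ j H) :
    ∃ H' : K.X (j + 1 + 1) ⟶ I.X (j + 1),
      φ.f (j + 1) = K.d (j + 1) (j + 1 + 1) ≫ H' + H ≫ I.d j (j + 1) ∧ Inv K I φ (j + 1) H' := by
  obtain ⟨H', hH'⟩ := exists_ext (K.d (j + 1) (j + 1 + 1)) (str_d K hK j) (hI (j + 1))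
    (φ.f (j + 1) - H ≫ I.d j (j + 1)) (by
      intro p T x hx
      obtain ⟨T', π, hπ, x', hx'⟩ := lvExact_d K hK j p x hx
      rw [← cancel_epi π, comp_zero, ← Category.assoc, hx', Category.assoc, ← cp_comp, hH]
      exact comp_zero)
  have e : φ.f (j + 1) = K.d (j + 1) (j + 1 + 1) ≫ H' + H ≫ I.d j (j + 1) := by
    rw [hH']
    abel
  refine ⟨H', e, ?_⟩
  unfold Inv
  rw [Preadditive.comp_sub, ← Category.assoc, hH', Preadditive.sub_comp, Category.assoc,
    I.d_comp_d, comp_zero, sub_zero, φ.comm, sub_self]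

end Homotopy

section Main

variable (K I : CochainComplex (FilF A) ℤ) (hK : IsFilteredAcyclic K) (a : ℤ)
  (hIa : ∀ n : ℤ, n < a → IsZero (I.X n))
  (hI : ∀ n, IsFilteredInjective (I.X n)) (φ : K ⟶ I)

include hK hIa hI in
/-- the family of maps of the homotopy -/
theorem exists_homotopy_family :
    ∃ H : ∀ j : ℤ, K.X (j + 1) ⟶ I.X j,
      ∀ j : ℤ, φ.f (j + 1) = K.d (j + 1) (j + 1 + 1) ≫ H (j + 1) + H j ≫ I.d j (j + 1) := by
  have step : ∀ (j : ℤ) (H : K.X (j + 1) ⟶ I.X j), Inv K I φ j H →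
      ∃ H' : K.X (j + 1 + 1) ⟶ I.X (j + 1),
        φ.f (j + 1) = K.d (j + 1) (j + 1 + 1) ≫ H' + H ≫ I.d j (j + 1) ∧ Inv K I φ (j + 1) H' :=
    fun j H hH => exists_next K I hK hI φ j H hH
  choose! nxt h1 h2 using step
  let j₀ : ℤ := a - 2
  have hbase : Inv K I φ j₀ 0 := by
    unfold Inv
    have hz : IsZero (I.X (j₀ + 1)) := hIa _ (by omega)
    exact hz.eq_of_tgt _ _
  let G : ∀ (j : ℤ) (hj : j₀ ≤ j), {H : K.X (j + 1) ⟶ I.X j // Inv K I φ j H} :=
    Int.leInduction (motive := fun j _ => {H : K.X (j + 1) ⟶ I.X j // Inv K I φ j H})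
      ⟨0, hbase⟩ (fun j _ Hj => ⟨nxt j Hj.1, h2 j Hj.1 Hj.2⟩)
  have hG : ∀ (j : ℤ) (hj : j₀ ≤ j),
      (G (j + 1) (Int.le_add_one hj)).1 = nxt j (G j hj).1 := by
    intro j hj
    have := Int.leInduction_add_one
      (motive := fun j _ => {H : K.X (j + 1) ⟶ I.X j // Inv K I φ j H})
      ⟨0, hbase⟩ (fun j _ Hj => ⟨nxt j Hj.1, h2 j Hj.1 Hj.2⟩) j hj
    exact congrArg Subtype.val this
  refine ⟨fun j => if hj : j₀ ≤ j then (G j hj).1 else 0, fun j => ?_⟩
  by_cases hj : j₀ ≤ j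
  · have hj' : j₀ ≤ j + 1 := Int.le_add_one hj
    dsimp only
    rw [dif_pos hj, dif_pos hj', hG j hj]
    exact h1 j (G j hj).1 (G j hj).2
  · have hz : IsZero (I.X (j + 1)) := hIa _ (by omega)
    exact hz.eq_of_tgt _ _

include hK hIa hI in
/-- S1083 -/
theorem nonempty_homotopy_zero : Nonempty (Homotopy φ 0) := by
  obtain ⟨H, hH⟩ := exists_homotopy_family K I hK a hIa hI φ
  let h : ∀ i j : ℤ, (ComplexShape.up ℤ).Rel j i → (K.X i ⟶ I.X j) := fun i j r => by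
    have r' : j + 1 = i := r
    subst r'
    exact H j
  have heq : φ = Homotopy.nullHomotopicMap' h := by
    refine HomologicalComplex.hom_ext _ _ (fun n => ?_)
    obtain ⟨m, rfl⟩ : ∃ m : ℤ, n = m + 1 := ⟨n - 1, by omega⟩
    rw [Homotopy.nullHomotopicMap'_f (k₂ := m) (k₁ := m + 1) (k₀ := m + 1 + 1) rfl rfl h]
    exact hH m
  exact ⟨(Homotopy.ofEq heq).trans (Homotopy.nullHomotopy' h)⟩

end Main

end Groth.Agent.Lib.Helper8.Fil5
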