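import Groth.Agent.Lib.Helper8.Fil5

/-!
# Helper8: `Fil^f(A)` has binary biproducts
-/

universe v u

open CategoryTheory CategoryTheory.Limits Opposite

namespace Groth.Agent.Lib.Helper8.Fil6

open FilD Fil1 Fil2 Fil3 Fil4 Fil5

set_option linter.unusedSectionVars false

variable {A : Type u} [Category.{v} A] [Abelian A]

instance : (IsFinFil A).IsClosedUnderLimitsOfShape (Discrete WalkingPair) where
  limitsOfShape_le := by
    rintro X ⟨h⟩
    obtain ⟨F, π, hc, hF⟩ : ∃ (F : Discrete WalkingPair ⥤ (ℤᵒᵖ ⥤ A))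
        (π : (Functor.const _).obj X ⟶ F) (_ : IsLimit (Cone.mk _ π)),
        ∀ j, IsFinFil A (F.obj j) := ⟨h.diag, h.π, h.isLimit, h.prop_diag_obj⟩
    -- the levelwise limit cones
    let c : Cone F := ⟨X, π⟩
    have hc' : IsLimit c := hc
    have hlv : ∀ p : ℤ, IsLimit (((evaluation ℤᵒᵖ A).obj (op p)).mapCone c) := fun p =>
      isLimitOfPreserves _ hc'
    have hext : ∀ (p : ℤ) {T : A} (s t : T ⟶ X.obj (op p)),
        (∀ j, s ≫ (π.app j).app (op p) = t ≫ (π.app j).app (op p)) → s = t := by
      intro p T s t h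
      exact (hlv p).hom_ext h
    have hnat : ∀ (j : Discrete WalkingPair) {q p : ℤᵒᵖ} (f : q ⟶ p),
        X.map f ≫ (π.app j).app p = (π.app j).app q ≫ (F.obj j).map f :=
      fun j q p f => (π.app j).naturality f
    refine ⟨?_, ?_, ?_⟩
    · rintro ⟨q⟩ ⟨p⟩ f
      rw [Preadditive.mono_iff_cancel_zero]
      intro T t ht
      apply hext q
      intro j
      have : Mono ((F.obj j).map f) := (hF j).1 f
      rw [zero_comp, ← cancel_mono ((F.obj j).map f), zero_comp, Category.assoc, ← hnat,
        ← Category.assoc, ht, zero_comp]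
    · obtain ⟨b₁, hb₁⟩ := (hF ⟨WalkingPair.left⟩).2.1
      obtain ⟨b₂, hb₂⟩ := (hF ⟨WalkingPair.right⟩).2.1
      refine ⟨max b₁ b₂, fun p hp => ?_⟩
      rw [IsZero.iff_id_eq_zero]
      apply hext p
      rintro ⟨j⟩
      cases j
      · exact (hb₁ p (le_trans (le_max_left _ _) hp)).eq_of_tgt _ _
      · exact (hb₂ p (le_trans (le_max_right _ _) hp)).eq_of_tgt _ _
    · obtain ⟨a₁, ha₁⟩ := (hF ⟨WalkingPair.left⟩).2.2
      obtain ⟨a₂, ha₂⟩ := (hF ⟨WalkingPair.right⟩).2.2
      refine ⟨min a₁ a₂, ?_⟩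
      rintro ⟨q⟩ ⟨p⟩ f hq
      have hq' : q ≤ min a₁ a₂ := hq
      have hiso : ∀ j : Discrete WalkingPair, IsIso ((F.obj j).map f) := by
        rintro ⟨j⟩
        cases j
        · exact ha₁ f (le_trans hq' (min_le_left _ _))
        · exact ha₂ f (le_trans hq' (min_le_right _ _))
      -- the inverse
      let s : Cone (F ⋙ (evaluation ℤᵒᵖ A).obj (op q)) :=
        { pt := X.obj (op p)
          π := Discrete.natTrans (fun j => (π.app j).app (op p) ≫ inv ((F.obj j).map f)) }
      let g : X.obj (op p) ⟶ X.obj (op q) := (hlv q).lift s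
      have hg : ∀ j, g ≫ (π.app j).app (op q) = (π.app j).app (op p) ≫ inv ((F.obj j).map f) :=
        fun j => (hlv q).fac s j
      refine ⟨g, ?_, ?_⟩
      · apply hext q
        intro j
        rw [Category.assoc, hg, ← Category.assoc, hnat, Category.assoc, IsIso.hom_inv_id,
          Category.comp_id, Category.id_comp]
      · apply hext p
        intro j
        rw [Category.assoc, hnat, ← Category.assoc, hg, Category.assoc, IsIso.inv_hom_id,
          Category.comp_id, Category.id_comp]

instance : HasBinaryProducts (FilF A) :=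
  inferInstanceAs (HasLimitsOfShape (Discrete WalkingPair) (IsFinFil A).FullSubcategory)

instance : HasBinaryBiproducts (FilF A) := HasBinaryBiproducts.of_hasBinaryProducts

end Groth.Agent.Lib.Helper8.Fil6
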