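import Groth.Agent.Lib.Helper8.Fil6

/-!
# Helper8: filtered quasi-isomorphisms and maps into complexes of filtered injectives
-/

universe v u

open CategoryTheory CategoryTheory.Limits Opposite CategoryTheory.Pretriangulated

namespace Groth.Agent.Lib.Helper8.Fil7

open FilD Fil1 Fil2 Fil3 Fil4 Fil5 Fil6

set_option linter.unusedSectionVars false

variable {A : Type u} [Category.{v} A] [Abelian A]

theorem exactAt_mappingCone_of_quasiIso {K I : CochainComplex A ℤ} (i : K ⟶ I) [QuasiIso i]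
    (n : ℤ) : (CochainComplex.mappingCone i).ExactAt n := by
  have h1 : HomotopyCategory.quasiIso A (.up ℤ) ((HomotopyCategory.quotient A (.up ℤ)).map i) := by
    rw [HomotopyCategory.quotient_map_mem_quasiIso_iff]
    exact (HomologicalComplex.mem_quasiIso_iff i).2 inferInstance
  rw [HomotopyCategory.quasiIso_eq_trW_subcategoryAcyclic] at h1
  have h2 := ((HomotopyCategory.subcategoryAcyclic A).trW_iff_of_distinguished _
    (HomotopyCategory.mappingCone_triangleh_distinguished i)).1 h1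
  exact (HomotopyCategory.quotient_obj_mem_subcategoryAcyclic_iff_exactAt _).1 h2 n

section Cone

variable {K L : CochainComplex (FilF A) ℤ} (α : K ⟶ L) (hα : IsFilteredQuasiIso α)

include hα in
lemma filteredAcyclic_mappingCone : IsFilteredAcyclic (CochainComplex.mappingCone α) := by
  intro p n
  have : QuasiIso ((grCx p).map α) := hα p
  have h := exactAt_mappingCone_of_quasiIso ((grCx p).map α) n
  exact HomologicalComplex.ExactAt.of_iso h
    (CochainComplex.mappingCone.mapHomologicalComplexIso α (grF A p)).symm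

end Cone

section Vanish

variable (C I : CochainComplex (FilF A) ℤ) (hC : IsFilteredAcyclic C) (a : ℤ)
  (hIa : ∀ n : ℤ, n < a → IsZero (I.X n)) (hI : ∀ n, IsFilteredInjective (I.X n))

include hC hIa hI in
lemma hom_eq_zero (g : (HomotopyCategory.quotient (FilF A) (.up ℤ)).obj C ⟶
    (HomotopyCategory.quotient (FilF A) (.up ℤ)).obj I) : g = 0 := by
  obtain ⟨f, rfl⟩ := (HomotopyCategory.quotient (FilF A) (.up ℤ)).map_surjective g
  obtain ⟨h⟩ := nonempty_homotopy_zero C I hC a hIa hI f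
  rw [HomotopyCategory.eq_of_homotopy _ _ h, Functor.map_zero]

end Vanish

section Main

variable (I : CochainComplex (FilF A) ℤ) (a : ℤ)
  (hIa : ∀ n : ℤ, n < a → IsZero (I.X n)) (hI : ∀ n, IsFilteredInjective (I.X n))
  {K L : CochainComplex (FilF A) ℤ} (α : K ⟶ L) (hα : IsFilteredQuasiIso α)

local notation "Qf" => HomotopyCategory.quotient (FilF A) (ComplexShape.up ℤ)

include hIa hI in
/-- maps from the desuspension of a filtered acyclic complex vanish as well -/
lemma hom_shift_eq_zero (C : CochainComplex (FilF A) ℤ) (hC : IsFilteredAcyclic C)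
    (f : ((Qf).obj C)⟦(-1 : ℤ)⟧ ⟶ (Qf).obj I) : f = 0 := by
  apply (shiftFunctor (HomotopyCategory (FilF A) (ComplexShape.up ℤ)) (1 : ℤ)).map_injective
  rw [Functor.map_zero]
  let e₁ : (Qf).obj C ≅ (((Qf).obj C)⟦(-1 : ℤ)⟧)⟦(1 : ℤ)⟧ :=
    ((shiftFunctorCompIsoId _ (-1 : ℤ) (1 : ℤ) (by simp)).app _).symm
  let e₂ : (Qf).obj (I⟦(1 : ℤ)⟧) ≅ ((Qf).obj I)⟦(1 : ℤ)⟧ := ((Qf).commShiftIso (1 : ℤ)).app I
  have h0 : e₁.hom ≫ f⟦(1 : ℤ)⟧' ≫ e₂.inv = 0 :=
    hom_eq_zero C (I⟦(1 : ℤ)⟧) hC (a - 1) (fun n hn => hIa (n + 1) (by omega))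
      (fun n => hI (n + 1)) _
  have h1 : f⟦(1 : ℤ)⟧' = e₁.inv ≫ (e₁.hom ≫ f⟦(1 : ℤ)⟧' ≫ e₂.inv) ≫ e₂.hom := by simp
  rw [h1, h0, zero_comp, comp_zero]

include hIa hI hα in
/-- S1084 -/
theorem precomp_bijective :
    Function.Bijective (fun β : (Qf).obj L ⟶ (Qf).obj I => (Qf).map α ≫ β) := by
  let T := CochainComplex.mappingCone.triangleh α
  have hT : T ∈ distTriang _ := HomotopyCategory.mappingCone_triangleh_distinguished α
  have hC := filteredAcyclic_mappingCone α hα
  constructor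
  · intro β₁ β₂ h
    dsimp only at h
    have h0 : (Qf).map α ≫ (β₁ - β₂) = 0 := by
      rw [Preadditive.comp_sub]
      exact sub_eq_zero.2 h
    obtain ⟨g, hg⟩ : ∃ g : (Qf).obj (CochainComplex.mappingCone α) ⟶ (Qf).obj I,
        β₁ - β₂ = T.mor₂ ≫ g := Triangle.yoneda_exact₂ T hT (β₁ - β₂) h0
    have hg0 : g = 0 := hom_eq_zero _ I hC a hIa hI g
    have hz : β₁ - β₂ = 0 := by
      rw [hg, hg0]
      exact comp_zero
    exact sub_eq_zero.1 hz
  · intro γ
    have hT' : T.invRotate ∈ distTriang _ := inv_rot_of_distTriang T hT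
    have h0 : T.invRotate.mor₁ ≫ γ = 0 := hom_shift_eq_zero I a hIa hI _ hC _
    obtain ⟨β, hβ⟩ := Triangle.yoneda_exact₂ T.invRotate hT' γ h0
    exact ⟨β, hβ.symm⟩

end Main

end Groth.Agent.Lib.Helper8.Fil7
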