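import Groth.Agent.Lib.Helper8.Fil7

/-!
# Helper8: maps between filtered injective resolutions (S1090)
-/

universe v u

open CategoryTheory CategoryTheory.Limits Opposite

namespace Groth.Agent.Lib.Helper8.Fil8

open FilD Fil1 Fil2 Fil3 Fil4 Fil5 Fil6 Fil7

set_option linter.unusedSectionVars false

section General

variable {C : Type u} [Category.{v} C] [Preadditive C] [HasZeroObject C]

/-- homotopic maps from a complex concentrated in degree 0 to a complex in degrees ≥ 0 are equal -/
lemma eq_of_homotopy_single (X : C) (J : CochainComplex C ℤ) [J.IsStrictlyGE 0]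
    (u w : (CochainComplex.singleFunctor C 0).obj X ⟶ J) (h : Homotopy u w) : u = w := by
  refine HomologicalComplex.hom_ext _ _ (fun n => ?_)
  by_cases hn : n = 0
  · subst hn
    have h1 := h.comm 0
    have h2 : dNext 0 h.hom = 0 := by
      rw [dNext_eq h.hom (show (ComplexShape.up ℤ).Rel 0 1 by simp)]
      have hz : IsZero (((CochainComplex.singleFunctor C 0).obj X).X 1) :=
        HomologicalComplex.isZero_single_obj_X (ComplexShape.up ℤ) 0 X 1 (by simp)
      rw [hz.eq_of_src (h.hom 1 0) 0, comp_zero]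
    have h3 : prevD 0 h.hom = 0 := by
      rw [prevD_eq h.hom (show (ComplexShape.up ℤ).Rel (-1) 0 by simp)]
      have hz : IsZero (J.X (-1)) := CochainComplex.isZero_of_isStrictlyGE J 0 (-1) (by simp)
      rw [hz.eq_of_tgt (h.hom 0 (-1)) 0, zero_comp]
    rw [h1, h2, h3, zero_add, zero_add]
  · have hz : IsZero (((CochainComplex.singleFunctor C 0).obj X).X n) :=
      HomologicalComplex.isZero_single_obj_X (ComplexShape.up ℤ) 0 X n hn
    exact hz.eq_of_src _ _

end General

variable {A : Type u} [Category.{v} A] [Abelian A]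

/-- S1090 -/
theorem resolution_map {X Y : FilF A} (f : X ⟶ Y)
    (I : CochainComplex (FilF A) ℤ) [I.IsStrictlyGE 0] (hI : ∀ n, IsFilteredInjective (I.X n))
    (a : (CochainComplex.singleFunctor (FilF A) 0).obj X ⟶ I) (ha : IsFilteredQuasiIso a)
    (J : CochainComplex (FilF A) ℤ) [J.IsStrictlyGE 0] (hJ : ∀ n, IsFilteredInjective (J.X n))
    (b : (CochainComplex.singleFunctor (FilF A) 0).obj Y ⟶ J) :
    ∃ φ : I ⟶ J, a ≫ φ = (CochainComplex.singleFunctor (FilF A) 0).map f ≫ b := by
  obtain ⟨β, hβ⟩ := (precomp_bijective J 0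
    (fun n hn => CochainComplex.isZero_of_isStrictlyGE J 0 n hn) hJ a ha).2
    ((HomotopyCategory.quotient (FilF A) (ComplexShape.up ℤ)).map
      ((CochainComplex.singleFunctor (FilF A) 0).map f ≫ b))
  obtain ⟨φ, rfl⟩ := (HomotopyCategory.quotient (FilF A) (ComplexShape.up ℤ)).map_surjective β
  refine ⟨φ, ?_⟩
  dsimp only at hβ
  rw [← Functor.map_comp] at hβ
  exact eq_of_homotopy_single X J _ _ (HomotopyCategory.homotopyOfEq _ _ hβ)

end Groth.Agent.Lib.Helper8.Fil8
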