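import Groth.Agent.Lib.Helper8.Fil8

/-!
# Helper8: horseshoe lemma for filtered injective resolutions (S1091)
-/

universe v u

open CategoryTheory CategoryTheory.Limits Opposite

namespace Groth.Agent.Lib.Helper8.Fil9

open FilD Fil1 Fil2 Fil3 Fil4 Fil5 Fil6 Fil7 Fil8

set_option linter.unusedSectionVars false

section Twist

variable {C : Type u} [Category.{v} C] [Preadditive C] [HasBinaryBiproducts C]
  (I J : CochainComplex C ℤ) (T : ∀ n : ℤ, J.X n ⟶ I.X (n + 1))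
  (hT : ∀ n : ℤ, J.d n (n + 1) ≫ T (n + 1) + T n ≫ I.d (n + 1) (n + 1 + 1) = 0)

/-- the differential of the twisted direct sum -/
noncomputable def twistD (n : ℤ) : I.X n ⊞ J.X n ⟶ I.X (n + 1) ⊞ J.X (n + 1) :=
  biprod.desc (I.d n (n + 1) ≫ biprod.inl) (T n ≫ biprod.inl + J.d n (n + 1) ≫ biprod.inr)

include hT in
lemma twistD_comp (n : ℤ) : twistD I J T n ≫ twistD I J T (n + 1) = 0 := by
  apply biprod.hom_ext'
  · simp [twistD]
  · simp only [twistD, biprod.inr_desc_assoc, Preadditive.add_comp, Category.assoc,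
      biprod.inl_desc, biprod.inr_desc, Preadditive.comp_add, comp_zero,
      HomologicalComplex.d_comp_d_assoc, zero_comp, add_zero]
    have e : T n ≫ I.d (n + 1) (n + 1 + 1) ≫ (biprod.inl : _ ⟶ I.X (n + 1 + 1) ⊞ J.X (n + 1 + 1)) +
        J.d n (n + 1) ≫ T (n + 1) ≫ biprod.inl =
        (J.d n (n + 1) ≫ T (n + 1) + T n ≫ I.d (n + 1) (n + 1 + 1)) ≫ biprod.inl := by
      rw [Preadditive.add_comp, Category.assoc, Category.assoc]
      exact add_comm _ _
    rw [e, hT, zero_comp]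

lemma inl_twistD (n : ℤ) :
    (biprod.inl : I.X n ⟶ I.X n ⊞ J.X n) ≫ twistD I J T n = I.d n (n + 1) ≫ biprod.inl := by
  simp [twistD]

lemma inr_twistD (n : ℤ) :
    (biprod.inr : J.X n ⟶ I.X n ⊞ J.X n) ≫ twistD I J T n =
      T n ≫ biprod.inl + J.d n (n + 1) ≫ biprod.inr := by
  simp [twistD]

lemma twistD_snd (n : ℤ) :
    twistD I J T n ≫ (biprod.snd : I.X (n + 1) ⊞ J.X (n + 1) ⟶ J.X (n + 1)) =
      biprod.snd ≫ J.d n (n + 1) := by
  apply biprod.hom_ext' <;> simp [twistD]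

/-- the twisted direct sum of two complexes -/
noncomputable def twist : CochainComplex C ℤ :=
  CochainComplex.of (fun n => I.X n ⊞ J.X n) (twistD I J T) (twistD_comp I J T hT)

lemma twist_d (n : ℤ) : (twist I J T hT).d n (n + 1) = twistD I J T n :=
  CochainComplex.of_d (fun n => I.X n ⊞ J.X n) (twistD I J T) n

/-- the inclusion of the first summand -/
noncomputable def twistInl : I ⟶ twist I J T hT where
  f n := (biprod.inl : I.X n ⟶ I.X n ⊞ J.X n)
  comm' i j hij := by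
    obtain rfl : i + 1 = j := hij
    rw [twist_d]
    exact inl_twistD I J T i

/-- the projection to the second summand -/
noncomputable def twistSnd : twist I J T hT ⟶ J where
  f n := (biprod.snd : I.X n ⊞ J.X n ⟶ J.X n)
  comm' i j hij := by
    obtain rfl : i + 1 = j := hij
    rw [twist_d]
    exact (twistD_snd I J T i).symm

end Twist

variable {A : Type u} [Category.{v} A] [Abelian A]

section SES

variable (S : ShortComplex (FilF A))
  (hS : ∀ p : ℤ, (S.map ((IsFinFil A).ι ⋙ (evaluation ℤᵒᵖ A).obj (op p))).ShortExact)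

include hS in
lemma mono_cp_f (p : ℤ) : Mono (cp S.f p) := (hS p).mono_f

include hS in
lemma epi_cp_g (p : ℤ) : Epi (cp S.g p) := (hS p).epi_g

include hS in
lemma exists_lift_f (p : ℤ) {T : A} (x : T ⟶ lv S.X₂ p) (hx : x ≫ cp S.g p = 0) :
    ∃ x' : T ⟶ lv S.X₁ p, x' ≫ cp S.f p = x := by
  have := (hS p).mono_f
  exact ⟨(hS p).exact.lift x hx, (hS p).exact.lift_f x hx⟩

include hS in
lemma str_f : Str S.f := by
  intro p q h T x y hxy
  have h0 : y ≫ cp S.g q = 0 := by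
    rw [← cancel_mono (tr S.X₃ h), zero_comp, Category.assoc, ← cp_tr, ← Category.assoc, ← hxy,
      Category.assoc, ← cp_comp, S.zero]
    exact comp_zero
  obtain ⟨x', hx'⟩ := exists_lift_f S hS q y h0
  exact ⟨T, 𝟙 T, inferInstance, x', by rw [hx', Category.id_comp]⟩

include hS in
lemma str_g : Str S.g := by
  intro p q h T x y hxy
  have := epi_cp_g S hS q
  exact ⟨pullback (cp S.g q) y, pullback.snd _ _, inferInstance, pullback.fst _ _,
    pullback.condition⟩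

end SES

section Main

local notation "Qf" => HomotopyCategory.quotient (FilF A) (ComplexShape.up ℤ)
local notation "sg" => HomologicalComplex.single (FilF A) (ComplexShape.up ℤ) (0 : ℤ)
local notation "sX" => HomologicalComplex.singleObjXSelf (ComplexShape.up ℤ) (0 : ℤ)

/-- the degree zero component of a map from a single complex -/
noncomputable def comp0 {X : FilF A} {I : CochainComplex (FilF A) ℤ} (a : (sg).obj X ⟶ I) :
    X ⟶ I.X 0 := (sX X).inv ≫ a.f 0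

lemma comp0_d {X : FilF A} {I : CochainComplex (FilF A) ℤ} (a : (sg).obj X ⟶ I) (k : ℤ) :
    comp0 a ≫ I.d 0 k = 0 := by
  unfold comp0
  rw [Category.assoc, a.comm 0 k, HomologicalComplex.single_obj_d, zero_comp, comp_zero]

lemma eq_of_comp0 {X : FilF A} {I : CochainComplex (FilF A) ℤ} (a b : (sg).obj X ⟶ I)
    (h : comp0 a = comp0 b) : a = b := by
  apply HomologicalComplex.from_single_hom_ext
  unfold comp0 at h
  exact (cancel_epi _).1 h

lemma comp0_comp {X : FilF A} {I M : CochainComplex (FilF A) ℤ} (a : (sg).obj X ⟶ I)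
    (φ : I ⟶ M) : comp0 (a ≫ φ) = comp0 a ≫ φ.f 0 := by
  unfold comp0
  rw [HomologicalComplex.comp_f, Category.assoc]

lemma comp0_map_comp {X Y : FilF A} {M : CochainComplex (FilF A) ℤ} (f : X ⟶ Y)
    (b : (sg).obj Y ⟶ M) : comp0 ((sg).map f ≫ b) = f ≫ comp0 b := by
  unfold comp0
  rw [HomologicalComplex.comp_f, HomologicalComplex.single_map_f_self]
  simp

lemma comp0_mk {X : FilF A} {M : CochainComplex (FilF A) ℤ} (φ : X ⟶ M.X 0)
    (hφ : ∀ k : ℤ, (ComplexShape.up ℤ).Rel 0 k → φ ≫ M.d 0 k = 0) :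
    comp0 (HomologicalComplex.mkHomFromSingle φ hφ) = φ := by
  unfold comp0
  rw [HomologicalComplex.mkHomFromSingle_f, Iso.inv_hom_id_assoc]

variable (S : ShortComplex (FilF A))
  (hS : ∀ p : ℤ, (S.map ((IsFinFil A).ι ⋙ (evaluation ℤᵒᵖ A).obj (op p))).ShortExact)
  (I : CochainComplex (FilF A) ℤ) [I.IsStrictlyGE 0] (hI : ∀ n, IsFilteredInjective (I.X n))
  (a : (HomologicalComplex.single (FilF A) (ComplexShape.up ℤ) (0 : ℤ)).obj S.X₁ ⟶ I)
  (J : CochainComplex (FilF A) ℤ) [J.IsStrictlyGE 0]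
  (c : (HomologicalComplex.single (FilF A) (ComplexShape.up ℤ) (0 : ℤ)).obj S.X₃ ⟶ J)
  (hc : IsFilteredQuasiIso c)

include hS in
lemma epi_g : Epi S.g := by
  apply (IsFinFil A).ι.epi_of_epi_map
  haveI : ∀ X : ℤᵒᵖ, Epi (((IsFinFil A).ι.map S.g).app X) := fun ⟨p⟩ => epi_cp_g S hS p
  exact NatTrans.epi_of_epi_app _

include hS hI in
/-- step 1 and 2: the extension `β0` and the class `ζ` -/
lemma exists_beta_zeta : ∃ (β0 : S.X₂ ⟶ I.X 0) (ζ : S.X₃ ⟶ I.X (0 + 1)),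
    S.f ≫ β0 = comp0 a ∧ S.g ≫ ζ = -(β0 ≫ I.d 0 (0 + 1)) ∧ ζ ≫ I.d (0 + 1) (0 + 1 + 1) = 0 := by
  obtain ⟨β0, hβ0⟩ : ∃ β0 : S.X₂ ⟶ I.X 0, S.f ≫ β0 = comp0 a :=
    exists_ext S.f (str_f S hS) (hI 0) (comp0 a) (by
      intro p T x hx
      have := mono_cp_f S hS p
      have hx0 : x = 0 := by rwa [← cancel_mono (cp S.f p), zero_comp]
      rw [hx0, zero_comp])
  obtain ⟨ζ, hζ⟩ : ∃ ζ : S.X₃ ⟶ I.X (0 + 1), S.g ≫ ζ = -(β0 ≫ I.d 0 (0 + 1)) :=
    exists_ext S.g (str_g S hS) (hI (0 + 1)) (-(β0 ≫ I.d 0 (0 + 1))) (by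
      intro p T x hx
      obtain ⟨x', rfl⟩ := exists_lift_f S hS p x hx
      have e : S.f ≫ (-(β0 ≫ I.d 0 (0 + 1))) = 0 := by
        rw [Preadditive.comp_neg, ← Category.assoc, hβ0, comp0_d, neg_zero]
      rw [Category.assoc, ← cp_comp, e]
      exact comp_zero)
  refine ⟨β0, ζ, hβ0, hζ, ?_⟩
  have := epi_g S hS
  rw [← cancel_epi S.g, comp_zero, ← Category.assoc, hζ, Preadditive.neg_comp, Category.assoc,
    I.d_comp_d, comp_zero, neg_zero]

/-- the identification of the terms of the shifted complex -/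
noncomputable def eX (n : ℤ) : (I⟦(1 : ℤ)⟧).X n ≅ I.X (n + 1) := Iso.refl _

lemma shift_d (n m : ℤ) :
    (I⟦(1 : ℤ)⟧).d n m = -((eX I n).hom ≫ I.d (n + 1) (m + 1) ≫ (eX I m).inv) := by
  show (1 : ℤ).negOnePow • I.d (n + 1) (m + 1) = -(𝟙 _ ≫ I.d (n + 1) (m + 1) ≫ 𝟙 _)
  rw [Int.negOnePow_one, Units.neg_smul, one_smul, Category.id_comp, Category.comp_id]

include hI hc in
lemma exists_tau (ζ : S.X₃ ⟶ I.X (0 + 1)) (hζ : ζ ≫ I.d (0 + 1) (0 + 1 + 1) = 0) :
    ∃ (T : ∀ n : ℤ, J.X n ⟶ I.X (n + 1)) (h : S.X₃ ⟶ I.X (-1 + 1)),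
      (∀ n : ℤ, J.d n (n + 1) ≫ T (n + 1) + T n ≫ I.d (n + 1) (n + 1 + 1) = 0) ∧
      comp0 c ≫ T 0 = ζ - h ≫ I.d (-1 + 1) (0 + 1) := by
  let ζc : (sg).obj S.X₃ ⟶ I⟦(1 : ℤ)⟧ :=
    HomologicalComplex.mkHomFromSingle (K := I⟦(1 : ℤ)⟧) (j := 0) (ζ ≫ (eX I 0).inv) (by
      intro k hk
      obtain rfl : 0 + 1 = k := hk
      rw [shift_d, Preadditive.comp_neg, Category.assoc, Iso.inv_hom_id_assoc, ← Category.assoc,
        hζ, zero_comp, neg_zero])
  obtain ⟨τq, hτq⟩ := (precomp_bijective (I⟦(1 : ℤ)⟧) (-1)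
    (fun n hn => CochainComplex.isZero_of_isStrictlyGE I 0 (n + 1) (by omega))
    (fun n => hI (n + 1)) c hc).2 ((Qf).map ζc)
  obtain ⟨τ, rfl⟩ := (Qf).map_surjective τq
  dsimp only at hτq
  rw [← Functor.map_comp] at hτq
  have hmtp : Homotopy (c ≫ τ) ζc := HomotopyCategory.homotopyOfEq _ _ hτq
  refine ⟨fun n => τ.f n ≫ (eX I n).hom,
    (sX S.X₃).inv ≫ hmtp.hom 0 (-1) ≫ (eX I (-1)).hom, ?_, ?_⟩
  · intro n
    have h1 := τ.comm n (n + 1)
    rw [shift_d, Preadditive.comp_neg] at h1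
    have h2 : J.d n (n + 1) ≫ τ.f (n + 1) ≫ (eX I (n + 1)).hom =
        -((τ.f n ≫ (eX I n).hom) ≫ I.d (n + 1) (n + 1 + 1)) := by
      rw [← Category.assoc, ← h1, Preadditive.neg_comp, Category.assoc, Category.assoc,
        Category.assoc, Iso.inv_hom_id, Category.comp_id, Category.assoc]
    dsimp only
    rw [h2]
    exact neg_add_cancel _
  · have h1 := hmtp.comm 0
    rw [dNext_eq hmtp.hom (show (ComplexShape.up ℤ).Rel 0 1 by simp),
      prevD_eq hmtp.hom (show (ComplexShape.up ℤ).Rel (-1) 0 by simp),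
      HomologicalComplex.single_obj_d, zero_comp, zero_add, shift_d,
      HomologicalComplex.mkHomFromSingle_f, HomologicalComplex.comp_f] at h1
    unfold comp0
    dsimp only
    rw [Category.assoc, ← Category.assoc (c.f 0), h1, Preadditive.add_comp, Preadditive.comp_add,
      Preadditive.comp_neg, Preadditive.neg_comp, Preadditive.comp_neg]
    simp only [Category.assoc, Iso.inv_hom_id, Category.comp_id, Iso.inv_hom_id_assoc]
    abel

include hS hI hc in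
/-- S1091 -/
theorem horseshoe :
    ∃ (M : CochainComplex (FilF A) ℤ) (α : I ⟶ M) (β : M ⟶ J) (b : (sg).obj S.X₂ ⟶ M),
      (∀ n, ∃ (r : M.X n ⟶ I.X n) (s : J.X n ⟶ M.X n), α.f n ≫ r = 𝟙 _ ∧ s ≫ β.f n = 𝟙 _ ∧
        α.f n ≫ β.f n = 0 ∧ r ≫ α.f n + β.f n ≫ s = 𝟙 _) ∧
      a ≫ α = (sg).map S.f ≫ b ∧ b ≫ β = (sg).map S.g ≫ c := by
  obtain ⟨β0, ζ, hβ0, hζ, hζd⟩ := exists_beta_zeta S hS I hI a
  obtain ⟨T, h, hT, hh⟩ := exists_tau S I hI J c hc ζ hζd
  let h' : S.X₃ ⟶ I.X 0 := h ≫ (I.XIsoOfEq (by norm_num : (-1 : ℤ) + 1 = 0)).hom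
  have hh' : comp0 c ≫ T 0 = ζ - h' ≫ I.d 0 (0 + 1) := by
    rw [hh, Category.assoc, HomologicalComplex.XIsoOfEq_hom_comp_d]
  let b0 : S.X₂ ⟶ I.X 0 ⊞ J.X 0 := biprod.lift (β0 + S.g ≫ h') (S.g ≫ comp0 c)
  have hb0 : b0 ≫ twistD I J T 0 = 0 := by
    have e1 : b0 ≫ twistD I J T 0 =
        (β0 + S.g ≫ h') ≫ I.d 0 (0 + 1) ≫ biprod.inl +
          (S.g ≫ comp0 c) ≫ (T 0 ≫ biprod.inl + J.d 0 (0 + 1) ≫ biprod.inr) :=
      biprod.lift_desc
    rw [e1, Preadditive.comp_add, Category.assoc, Category.assoc, ← Category.assoc (comp0 c) (T 0),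
      hh', ← Category.assoc (comp0 c) (J.d 0 (0 + 1)), comp0_d, zero_comp, comp_zero, add_zero,
      Preadditive.add_comp, Preadditive.sub_comp, Preadditive.comp_sub, ← Category.assoc S.g ζ,
      hζ]
    simp only [Category.assoc, Preadditive.neg_comp]
    abel
  let M := twist I J T hT
  let b : (sg).obj S.X₂ ⟶ M :=
    HomologicalComplex.mkHomFromSingle (K := M) (j := 0) b0 (by
      intro k hk
      obtain rfl : 0 + 1 = k := hk
      rw [twist_d]
      exact hb0)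
  have hb : comp0 b = b0 := comp0_mk (M := M) b0 _
  refine ⟨M, twistInl I J T hT, twistSnd I J T hT, b, ?_, ?_, ?_⟩
  · intro n
    exact ⟨(biprod.fst : I.X n ⊞ J.X n ⟶ I.X n), (biprod.inr : J.X n ⟶ I.X n ⊞ J.X n),
      biprod.inl_fst, biprod.inr_snd, biprod.inl_snd, biprod.total⟩
  · apply eq_of_comp0
    rw [comp0_comp, comp0_map_comp, hb]
    show comp0 a ≫ (biprod.inl : I.X 0 ⟶ I.X 0 ⊞ J.X 0) = S.f ≫ b0
    apply biprod.hom_ext
    · rw [Category.assoc, Category.assoc, biprod.lift_fst, biprod.inl_fst, Category.comp_id,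
        Preadditive.comp_add, hβ0, ← Category.assoc, S.zero, zero_comp, add_zero]
    · rw [Category.assoc, Category.assoc, biprod.lift_snd, biprod.inl_snd, comp_zero,
        ← Category.assoc, S.zero, zero_comp]
  · apply eq_of_comp0
    rw [comp0_comp, comp0_map_comp, hb]
    show b0 ≫ (biprod.snd : I.X 0 ⊞ J.X 0 ⟶ J.X 0) = S.g ≫ comp0 c
    exact biprod.lift_snd _ _

end Main

end Groth.Agent.Lib.Helper8.Fil9
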