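import Mathlib
import Groth.Prelude.Def_CohCx
import Groth.Prelude.Def_CohDer
import Groth.Agent.Lib.Helper8.WayOutCoprod
import Groth.Agent.Lib.Helper8.DCoprod3
import Groth.Agent.Lib.Helper8.DCoprod2

/-!
# Helper8 — the free abelian sheaf `ℤ_U` is compact for uniformly bounded below families when
`H^p(U, -)` commutes with direct sums (S0936)
-/

set_option autoImplicit false
set_option linter.unusedSectionVars false

universe w v u

open CategoryTheory CategoryTheory.Limits CategoryTheory.Pretriangulated DerivedCategory Opposite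

namespace Groth.Agent.Lib.Helper8.FreeCompact

open Groth.Agent.Lib.Helper8.Compact Groth.Agent.Lib.Helper8.DTrunc
  Groth.Agent.Lib.Helper8.WayOutCoprod

/-- elements of a coproduct of abelian groups have finite support -/
lemma ab_finite_support {κ : Type*} {Y : κ → AddCommGrpCat.{w}} (c : Cofan Y)
    (hc : IsColimit c) (x : c.pt) :
    ∃ S : Finset κ, ∀ {N : AddCommGrpCat.{w}} (g : c.pt ⟶ N),
      (∀ j ∈ S, c.inj j ≫ g = 0) → g.hom x = 0 := by
  classical
  let T : AddSubgroup c.pt := ⨆ j, (c.inj j).hom.range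
  have hT : T = ⊤ := by
    let q : c.pt ⟶ AddCommGrpCat.of (c.pt ⧸ T) := AddCommGrpCat.ofHom (QuotientAddGroup.mk' T)
    have hq : q = 0 := by
      apply Cofan.IsColimit.hom_ext hc
      intro j
      ext y
      change QuotientAddGroup.mk' T ((c.inj j).hom y) = 0
      rw [QuotientAddGroup.mk'_apply, QuotientAddGroup.eq_zero_iff]
      exact AddSubgroup.mem_iSup_of_mem j ⟨y, rfl⟩
    rw [eq_top_iff]
    intro z _
    have h1 := congrArg (fun f => f.hom z) hq
    change QuotientAddGroup.mk' T z = 0 at h1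
    rwa [QuotientAddGroup.mk'_apply, QuotientAddGroup.eq_zero_iff] at h1
  have hx : x ∈ ⨆ j, (c.inj j).hom.range := by
    change x ∈ T
    rw [hT]
    exact AddSubgroup.mem_top x
  refine AddSubgroup.iSup_induction (fun j => (c.inj j).hom.range)
    (C := fun x => ∃ S : Finset κ, ∀ {N : AddCommGrpCat.{w}} (g : c.pt ⟶ N),
      (∀ j ∈ S, c.inj j ≫ g = 0) → g.hom x = 0) hx ?_ ?_ ?_
  · rintro j _ ⟨y, rfl⟩
    refine ⟨{j}, fun g hg => ?_⟩
    have h1 := hg j (Finset.mem_singleton_self j)
    exact congrArg (fun f => f.hom y) h1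
  · exact ⟨∅, fun g _ => map_zero _⟩
  · rintro a b ⟨S, hS⟩ ⟨S', hS'⟩
    refine ⟨S ∪ S', fun g hg => ?_⟩
    rw [map_add, hS g (fun j hj => hg j (Finset.mem_union_left _ hj)),
      hS' g (fun j hj => hg j (Finset.mem_union_right _ hj)), add_zero]

section Q

variable {A : Type u} [Category.{v} A] [Abelian A] [HasDerivedCategory.{w} A]
  {κ : Type w} [HasColimitsOfShape (Discrete κ) A] [HasExactColimitsOfShape (Discrete κ) A]

/-- `Q` preserves coproducts -/
lemma preservesCoprod_Q :
    PreservesColimitsOfShape (Discrete κ) (Q : CochainComplex A ℤ ⥤ DerivedCategory A) := by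
  constructor
  intro Kf
  let K : κ → CochainComplex A ℤ := fun j => Kf.obj ⟨j⟩
  let e : Discrete.functor K ≅ Kf := Discrete.natIso (fun ⟨j⟩ => Iso.refl _)
  suffices PreservesColimit (Discrete.functor K) Q from preservesColimit_of_iso_diagram _ e
  apply preservesColimit_of_preserves_colimit_cocone (coproductIsCoproduct K)
  exact (isColimitMapCoconeCofanMkEquiv Q K (Sigma.ι K)).symm (DCoprod3.isColimitCofanQ K)

/-- the single functors preserve coproducts -/
lemma preservesCoprod_single (b : ℤ) :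
    PreservesColimitsOfShape (Discrete κ) (singleFunctor A b) := by
  haveI := preservesCoprod_Q (A := A) (κ := κ)
  haveI : PreservesColimitsOfShape (Discrete κ) (CochainComplex.singleFunctor A b) :=
    (inferInstance : PreservesColimitsOfShape (Discrete κ)
      (HomologicalComplex.single A (ComplexShape.up ℤ) b))
  haveI : PreservesColimitsOfShape (Discrete κ) (CochainComplex.singleFunctor A b ⋙ Q) :=
    inferInstance
  exact preservesColimitsOfShape_of_natIso (singleFunctorIsoCompQ A b).symm

end Q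

section Ext

variable {A : Type u} [Category.{w} A] [Abelian A] [HasDerivedCategory.{w} A] [HasExt.{v} A]
  [∀ κ : Type w, HasColimitsOfShape (Discrete κ) A]
  [∀ κ : Type w, HasExactColimitsOfShape (Discrete κ) A]
  [HasCoproducts.{w} (DerivedCategory A)]

lemma sigmaComparison_comp_map_cS {D : Type*} [Category.{w} D] [Preadditive D]
    (G : A ⥤ D) [G.PreservesZeroMorphisms] {κ : Type w} (Y : κ → A)
    [HasCoproduct fun j => G.obj (Y j)] (S : Finset κ) :
    sigmaComparison G Y ≫ G.map (cS Y S) = cS (fun j => G.obj (Y j)) S ≫ sigmaComparison G Y := by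
  classical
  apply Sigma.hom_ext
  intro j
  rw [ι_comp_sigmaComparison_assoc, ← G.map_comp, ι_cS, ι_cS_assoc]
  split_ifs
  · simp
  · simp

variable (P : A)
  (hExt : ∀ (d : ℕ) (κ : Type w) (F : κ → A) (e : Abelian.Ext.{v} P (∐ F) d),
    ∃ S : Finset κ, e.comp (Abelian.Ext.mk₀ (cS F S)) (add_zero d) = 0)

include hExt in
theorem single_finSuppAt (b : ℤ) : FinSuppAt ((singleFunctor A 0).obj P) b := by
  apply finSuppAt_of_single
  intro κ F x
  by_cases hb : 0 < b
  · haveI : (∐ fun i => (singleFunctor A b).obj (F i)).IsGE b :=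
      isGE_coprod _ b (fun i => inferInstance)
    refine ⟨∅, ?_⟩
    rw [tt.zero_of_isLE_of_isGE x 0 b hb inferInstance inferInstance, zero_comp]
  · obtain ⟨d, hd⟩ : ∃ d : ℕ, (d : ℤ) = -b := ⟨(-b).toNat, by omega⟩
    haveI := preservesCoprod_single (A := A) (κ := κ) b
    let σ := sigmaComparison (singleFunctor A b) F
    haveI : IsIso σ := inferInstance
    let sh := (singleFunctors A).shiftIso (d : ℤ) b 0 (by omega)
    let y : ShiftedHom ((singleFunctor A 0).obj P) ((singleFunctor A 0).obj (∐ F)) (d : ℤ) :=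
      x ≫ σ ≫ sh.inv.app (∐ F)
    obtain ⟨S, hS⟩ := hExt d κ F (Abelian.Ext.homEquiv.symm y)
    refine ⟨S, ?_⟩
    have h1 := congrArg Abelian.Ext.hom hS
    rw [Abelian.Ext.comp_hom, Abelian.Ext.mk₀_hom, Abelian.Ext.zero_hom,
      ShiftedHom.comp_mk₀] at h1
    have h2 : (Abelian.Ext.homEquiv.symm y).hom = y := Equiv.apply_symm_apply _ _
    rw [h2] at h1
    have nat := sh.inv.naturality (cS F S)
    have h3 : (x ≫ cS _ S) ≫ σ ≫ sh.inv.app (∐ F) = 0 := by
      rw [Category.assoc, ← Category.assoc (cS _ S), ← sigmaComparison_comp_map_cS,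
        Category.assoc, nat]
      have h1' : (x ≫ σ ≫ sh.inv.app (∐ F)) ≫ (shiftFunctor (DerivedCategory A) (d : ℤ)).map
          ((singleFunctor A 0).map (cS F S)) = 0 := h1
      rw [Category.assoc, Category.assoc] at h1'
      exact h1'
    have h4 : IsIso (σ ≫ sh.inv.app (∐ F)) := inferInstance
    exact (cancel_mono (σ ≫ sh.inv.app (∐ F))).1 (h3.trans zero_comp.symm)

include hExt in
/-- bijectivity of the comparison map for uniformly bounded below families -/
theorem bijective_of_ext {κ : Type w} (M : κ → DerivedCategory A) [HasCoproduct M] (a : ℤ)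
    (hM : ∀ i, (M i).IsGE a) :
    Function.Bijective (CohDer.homSumToHomCoprod ((singleFunctor A 0).obj P) M) :=
  bijective_of_finSupp _ a (finSupp _ (single_finSuppAt P hExt) a) M hM

end Ext

section Site

variable {C : Type u} [SmallCategory C] (J : GrothendieckTopology C) (U : C)

instance ab4_sheaf : AB4OfSize.{u} (Sheaf J AddCommGrpCat.{u}) := by
  have := Abelian.hasFiniteBiproducts (C := Sheaf J AddCommGrpCat.{u})
  exact AB4.of_AB5 _

variable (h : ∀ (p : ℕ) (ι : Type u), PreservesColimitsOfShape (Discrete ι)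
      ((Sheaf.cohomologyPresheafFunctor J p).flip.obj (op U)))

include h in
lemma hExt_of_preserves (d : ℕ) (κ : Type u) (F : κ → Sheaf J AddCommGrpCat.{u})
    (e : Abelian.Ext (CohCx.freeSheaf J U) (∐ F) d) :
    ∃ S : Finset κ, e.comp (Abelian.Ext.mk₀ (cS F S)) (add_zero d) = 0 := by
  let Hd := (Sheaf.cohomologyPresheafFunctor J d).flip.obj (op U)
  haveI := h d κ
  let c' : Cofan (fun j => Hd.obj (F j)) :=
    Cofan.mk (Hd.obj (∐ F)) (fun j => Hd.map (Sigma.ι F j))
  have hc' : IsColimit c' :=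
    (isColimitMapCoconeCofanMkEquiv Hd F (Sigma.ι F))
      (isColimitOfPreserves Hd (coproductIsCoproduct F))
  obtain ⟨S, hS⟩ := ab_finite_support c' hc' e
  refine ⟨S, ?_⟩
  have hz : ∀ j, Hd.map (0 : F j ⟶ ∐ F) = 0 := by
    intro j
    ext α
    change Abelian.Ext.comp α (Abelian.Ext.mk₀ 0) (add_zero d) = 0
    rw [Abelian.Ext.mk₀_zero, Abelian.Ext.comp_zero]
  have h1 : ∀ j ∈ S, c'.inj j ≫ Hd.map (cS F S) = 0 := by
    intro j hj
    change Hd.map (Sigma.ι F j) ≫ Hd.map (cS F S) = 0
    rw [← Hd.map_comp, ι_cS, if_pos hj, hz]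
  exact hS (Hd.map (cS F S)) h1

variable [HasDerivedCategory.{u} (Sheaf J AddCommGrpCat.{u})]

include h in
/-- the statement of S0936 -/
theorem main {I : Type u} (M : I → DerivedCategory (Sheaf J AddCommGrpCat.{u})) [HasCoproduct M]
    (a : ℤ) (hM : ∀ i, (M i).IsGE a) :
    Function.Bijective (CohDer.homSumToHomCoprod
      ((DerivedCategory.singleFunctor (Sheaf J AddCommGrpCat.{u}) 0).obj (CohCx.freeSheaf J U))
      M) := by
  haveI : HasCoproducts.{u} (DerivedCategory (Sheaf J AddCommGrpCat.{u})) :=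
    Groth.Agent.Lib.Helper8.DCoprod.hasCoproducts
  exact bijective_of_ext (CohCx.freeSheaf J U) (hExt_of_preserves J U h) M a hM

end Site

end Groth.Agent.Lib.Helper8.FreeCompact
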