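import Mathlib
import Groth.Agent.Lib.Helper8.DSingleHom
import Groth.Agent.Lib.Helper26.KInjMain
import Groth.Agent.Lib.Helper26.DProdK2

/-!
# Helper8 — vanishing of `Hom_D(P[0], Z)` for `Z ∈ D^{≤ -d-1}` (unbounded) when `Ext^p(P, -) = 0`
for `p > d`: K-injective resolutions with injective terms and dimension shifting on cycles (S0872)
-/

set_option autoImplicit false
set_option linter.unusedSectionVars false

universe w w' v u

open CategoryTheory CategoryTheory.Limits HomologicalComplex DerivedCategory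

namespace Groth.Agent.Lib.Helper8.HomVanishCD

open Groth.Agent.Lib.Helper8.DSingleHom

section Cycles

variable {A : Type u} [Category.{v} A] [Abelian A]

/-- `0 ⟶ Z^m ⟶ C^m ⟶ Z^{m+1} ⟶ 0`. -/
noncomputable def cyclesSC (C : CochainComplex A ℤ) (m m' : ℤ) (hm : m + 1 = m') :
    ShortComplex A :=
  ShortComplex.mk (C.iCycles m) (C.toCycles m m') (by
    rw [← cancel_mono (C.iCycles m'), Category.assoc, toCycles_i, iCycles_d, zero_comp])

lemma epi_toCycles_of_exactAt (C : CochainComplex A ℤ) (i j : ℤ)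
    (hij : (ComplexShape.up ℤ).prev j = i) (h : C.ExactAt j) : Epi (C.toCycles i j) := by
  subst hij
  exact (ShortComplex.exact_iff_epi_toCycles _).1 h

lemma cyclesSC_shortExact (C : CochainComplex A ℤ) (m m' : ℤ) (hm : m + 1 = m')
    (h : C.ExactAt m') : (cyclesSC C m m' hm).ShortExact where
  mono_f := inferInstanceAs (Mono (C.iCycles m))
  epi_g := epi_toCycles_of_exactAt C m m' (by subst hm; simp) h
  exact := by
    let S₂ : ShortComplex A := ShortComplex.mk (C.iCycles m) (C.d m m') (C.iCycles_d m m')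
    let φ : cyclesSC C m m' hm ⟶ S₂ :=
      { τ₁ := 𝟙 _
        τ₂ := 𝟙 _
        τ₃ := C.iCycles m'
        comm₁₂ := by simp [cyclesSC, S₂]
        comm₂₃ := by simp [cyclesSC, S₂] }
    have : Epi φ.τ₁ := inferInstanceAs (Epi (𝟙 _))
    have : IsIso φ.τ₂ := inferInstanceAs (IsIso (𝟙 _))
    have : Mono φ.τ₃ := inferInstanceAs (Mono (C.iCycles m'))
    rw [ShortComplex.exact_iff_of_epi_of_isIso_of_mono φ]
    exact ShortComplex.exact_of_f_is_kernel _ (C.cyclesIsKernel m m' (by subst hm; simp))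

end Cycles

section ExtShift

open Abelian

variable {A : Type u} [Category.{v} A] [Abelian A] [HasExt.{w'} A] (P : A)
  (I : CochainComplex A ℤ) [∀ n, Injective (I.X n)]

lemma ext_cycles_step (q q' : ℤ) (hq' : q + 1 = q') (hq : I.ExactAt q') (p : ℕ)
    (h : Subsingleton (Ext P (I.cycles q) (p + 2))) :
    Subsingleton (Ext P (I.cycles q') (p + 1)) := by
  have hS := cyclesSC_shortExact I q q' hq' hq
  suffices h0 : ∀ x : Ext P (I.cycles q') (p + 1), x = 0 from
    ⟨fun a b => by rw [h0 a, h0 b]⟩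
  intro x
  haveI : Subsingleton (Ext P (cyclesSC I q q' hq').X₁ (p + 2)) := h
  obtain ⟨x₂, hx₂⟩ := Ext.covariant_sequence_exact₃ P hS x (n₁ := p + 2) rfl
    (Subsingleton.elim _ _)
  haveI : Injective (cyclesSC I q q' hq').X₂ := inferInstanceAs (Injective (I.X q))
  have h2 : x₂ = 0 := Ext.eq_zero_of_injective x₂
  rw [← hx₂, h2, Ext.zero_comp]
  rfl

variable (d : ℕ) (hP : ∀ (F : A) (p : ℕ), d < p → Subsingleton (Ext P F p))

include hP in
lemma ext_cycles_vanish : ∀ (k n : ℕ), n + k = d + 1 → 1 ≤ n → ∀ (q : ℤ),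
    (∀ j : ℤ, q < j → j ≤ q + k → I.ExactAt j) →
    Subsingleton (Ext P (I.cycles (q + k)) n) := by
  intro k
  induction k with
  | zero =>
    intro n hn _ q _
    exact hP _ n (by omega)
  | succ k ih =>
    intro n hn hn1 q hex
    obtain ⟨p, rfl⟩ : ∃ p, n = p + 1 := ⟨n - 1, by omega⟩
    have h1 := ih (p + 2) (by omega) (by omega) q (fun j h1 h2 => hex j h1 (by push_cast; omega))
    exact ext_cycles_step P I (q + k) (q + ((k + 1 : ℕ) : ℤ)) (by push_cast; ring)
      (hex _ (by push_cast; omega) le_rfl) p h1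

include hP in
theorem exists_lift_boundary (hex : ∀ j : ℤ, -(d : ℤ) ≤ j → j ≤ 0 → I.ExactAt j)
    (z : P ⟶ I.X 0) (hz : z ≫ I.d 0 1 = 0) : ∃ y : P ⟶ I.X (-1), z = y ≫ I.d (-1) 0 := by
  have hsub : Subsingleton (Ext P (I.cycles (-1)) 1) := by
    have h1 := ext_cycles_vanish P I d hP d 1 (by omega) le_rfl (-(d : ℤ) - 1)
      (fun j h1 h2 => hex j (by omega) (by omega))
    have e : (-(d : ℤ) - 1 + d) = -1 := by ring
    rwa [e] at h1
  have hS := cyclesSC_shortExact I (-1) 0 (by norm_num) (hex 0 (by omega) le_rfl)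
  let g : P ⟶ I.cycles 0 := I.liftCycles z 1 (by simp) hz
  haveI : Subsingleton (Ext P (cyclesSC I (-1) 0 (by norm_num)).X₁ 1) := hsub
  obtain ⟨x₂, hx₂⟩ := Ext.covariant_sequence_exact₃ P hS (Ext.mk₀ g) (n₁ := 1) rfl
    (Subsingleton.elim _ _)
  obtain ⟨y, rfl⟩ := (Ext.mk₀_bijective P (I.X (-1))).2 x₂
  refine ⟨y, ?_⟩
  have h3 : Ext.mk₀ (y ≫ I.toCycles (-1) 0) = Ext.mk₀ g := by
    rw [← Ext.mk₀_comp_mk₀]
    exact hx₂
  have h4 : y ≫ I.toCycles (-1) 0 = g := (Ext.mk₀_bijective _ _).1 h3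
  have h5 := congrArg (fun t => t ≫ I.iCycles 0) h4
  simp only [Category.assoc, toCycles_i, g, liftCycles_i] at h5
  exact h5.symm

end ExtShift

section Main

open Abelian

variable {A : Type u} [Category.{v} A] [Abelian A] [IsGrothendieckAbelian.{v} A]
  [HasDerivedCategory.{w} A] [HasExt.{w'} A] (P : A) (d : ℕ)
  (hP : ∀ (F : A) (p : ℕ), d < p → Subsingleton (Ext P F p))

include hP in
theorem hom_eq_zero (Z : DerivedCategory A) (hZ : Z.IsLE (-(d : ℤ) - 1))
    (φ : Q.obj (sg P) ⟶ Z) : φ = 0 := by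
  let M := Q.objPreimage Z
  let i : Q.obj M ≅ Z := Q.objObjPreimageIso Z
  obtain ⟨I, f, hI, hf, -, hinj⟩ := Groth.Agent.Lib.Helper26.KInjMain.main M
  haveI := hI
  haveI := hf
  haveI := hinj
  haveI : IsIso (Q.map f) := (isIso_Q_map_iff_quasiIso A f).2 hf
  let j : Z ≅ Q.obj I := i.symm ≪≫ asIso (Q.map f)
  obtain ⟨g, hg⟩ := Groth.Agent.Lib.Helper26.DProdK2.exists_Q_map_eq (φ ≫ j.hom)
  have hex : ∀ k : ℤ, -(d : ℤ) ≤ k → k ≤ 0 → I.ExactAt k := by
    intro k hk _
    rw [HomologicalComplex.exactAt_iff_isZero_homology]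
    have h1 : IsZero ((homologyFunctor A k).obj Z) := (isLE_iff Z _).1 hZ k (by omega)
    exact (h1.of_iso ((homologyFunctor A k).mapIso j.symm)).of_iso
      ((homologyFunctorFactors A k).app I).symm
  obtain ⟨y, hy⟩ := exists_lift_boundary P I d hP hex (zOf g) (zOf_d g)
  have hh : Homotopy g 0 := nullHomotopy g y hy
  have h0 : Q.map g = 0 := by rw [Q_map_eq_of_homotopy A hh, Functor.map_zero]
  rw [← cancel_mono j.hom, ← hg, h0, zero_comp]

end Main

end Groth.Agent.Lib.Helper8.HomVanishCD
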