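import Mathlib
import Groth.Prelude.Def_CohCx
import Groth.Prelude.Def_CohDer
import Groth.Agent.Lib.Helper8.FreeCompact
import Groth.Agent.Lib.Helper8.HomVanishCD

/-!
# Helper8 — the free abelian sheaf `ℤ_U` is a compact object of `D(Ab(C, J))` when `U` has finite
cohomological dimension and `H^p(U, -)` commutes with direct sums (S0872)
-/

set_option autoImplicit false
set_option linter.unusedSectionVars false

universe w v u

open CategoryTheory CategoryTheory.Limits CategoryTheory.Pretriangulated DerivedCategory Opposite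

namespace Groth.Agent.Lib.Helper8.FreeCompact2

open Groth.Agent.Lib.Helper8.Compact Groth.Agent.Lib.Helper8.DTrunc
  Groth.Agent.Lib.Helper8.WayOutCoprod Groth.Agent.Lib.Helper8.FreeCompact

section Abs

variable {A : Type u} [Category.{w} A] [Abelian A] [IsGrothendieckAbelian.{w} A]
  [HasDerivedCategory.{w} A] [HasExt.{v} A]
  [HasCoproducts.{w} (DerivedCategory A)] (P : A) (d : ℕ)
  (hP : ∀ (F : A) (p : ℕ), d < p → Subsingleton (Abelian.Ext.{v} P F p))
  (hExt : ∀ (d : ℕ) (κ : Type w) (F : κ → A) (e : Abelian.Ext.{v} P (∐ F) d),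
    ∃ S : Finset κ, e.comp (Abelian.Ext.mk₀ (cS F S)) (add_zero d) = 0)

include hP hExt in
theorem isCompactObject : CohDer.IsCompactObject ((singleFunctor A 0).obj P) := by
  classical
  intro κ X
  refine ⟨homSumToHomCoprod_injective _ X, fun φ => ?_⟩
  suffices h : ∃ S : Finset κ, φ ≫ cS X S = 0 by
    obtain ⟨S, hS⟩ := h
    exact ⟨_, (homSumToHomCoprod_sum _ X φ S).trans (eq_comp_eS_of_comp_cS_eq_zero X φ S hS)⟩
  have hfs : FinSupp ((singleFunctor A 0).obj P) (-(d : ℤ)) :=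
    finSupp _ (single_finSuppAt P hExt) _
  let T : κ → DerivedCategory A := fun i => (tt.truncLT (-(d : ℤ))).obj (X i)
  let G : κ → DerivedCategory A := fun i => (tt.truncGE (-(d : ℤ))).obj (X i)
  let ι' : ∀ i, T i ⟶ X i := fun i => (tt.truncLTι (-(d : ℤ))).app (X i)
  let π' : ∀ i, X i ⟶ G i := fun i => (tt.truncGEπ (-(d : ℤ))).app (X i)
  let δ' : ∀ i, G i ⟶ (T i)⟦(1 : ℤ)⟧ := fun i => (tt.truncGEδLT (-(d : ℤ))).app (X i)
  have hdist := CoprodTri.coproduct_distinguished T X G ι' π' δ'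
    (fun i => tt.triangleLTGE_distinguished (-(d : ℤ)) (X i))
  obtain ⟨S₁, hS₁⟩ := hfs κ G
    (fun i => (inferInstance : tt.IsGE ((tt.truncGE (-(d : ℤ))).obj (X i)) (-(d : ℤ))))
    (φ ≫ Limits.Sigma.map π')
  have h1 : (φ ≫ cS X S₁) ≫ Limits.Sigma.map π' = 0 := by
    rw [Category.assoc, ← map_cS, ← Category.assoc, hS₁]
  obtain ⟨ψ₀, hψ⟩ := Triangle.coyoneda_exact₂ _ hdist (φ ≫ cS X S₁) h1
  let ψ : (singleFunctor A 0).obj P ⟶ ∐ T := ψ₀
  have hT : (∐ T).IsLE (-(d : ℤ) - 1) := isLE_coprod T (-(d : ℤ) - 1)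
    (fun i => (inferInstance : tt.IsLE ((tt.truncLT (-(d : ℤ))).obj (X i)) (-(d : ℤ) - 1)))
  have hψ0 : ψ = 0 := HomVanishCD.hom_eq_zero P d hP (∐ T) hT ψ
  refine ⟨S₁, ?_⟩
  have hψ' : φ ≫ cS X S₁ = ψ ≫ Limits.Sigma.map ι' := hψ
  rw [hψ', hψ0, zero_comp]

end Abs

section Site

variable {C : Type u} [SmallCategory C] (J : GrothendieckTopology C) (U : C)
  [HasDerivedCategory.{u} (Sheaf J AddCommGrpCat.{u})]
  [HasCoproducts.{u} (DerivedCategory (Sheaf J AddCommGrpCat.{u}))]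

/-- the statement of S0872 -/
theorem main (d : ℕ)
    (h1 : ∀ (F : Sheaf J AddCommGrpCat.{u}) (p : ℕ), d < p → Subsingleton (CohSite.HU F p U))
    (h2 : ∀ (p : ℕ) (ι : Type u), PreservesColimitsOfShape (Discrete ι)
      ((Sheaf.cohomologyPresheafFunctor J p).flip.obj (op U))) :
    CohDer.IsCompactObject ((DerivedCategory.singleFunctor (Sheaf J AddCommGrpCat.{u}) 0).obj
      (CohCx.freeSheaf J U)) :=
  isCompactObject (CohCx.freeSheaf J U) d h1 (hExt_of_preserves J U h2)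

end Site

end Groth.Agent.Lib.Helper8.FreeCompact2
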