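import Groth.Agent.Lib.Helper8.G0Smooth
import Groth.Agent.Lib.Helper8.LowDeg
import Groth.Agent.Lib.Helper13.SepClosedSch
import Groth.Agent.Lib.Helper22.SmoothGeomRed
import Groth.Agent.Lib.helper19.SmCodepth

/-! # Helper8 — a geometrically integral proper curve of genus zero over a separably closed field is the projective line -/
set_option autoImplicit false
universe u
open CategoryTheory CategoryTheory.Limits AlgebraicGeometry Opposite TopologicalSpace
noncomputable section

namespace Groth.Agent.Lib.Helper8.G0Sep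

open Groth.Agent.Lib.Helper8.EulerK Groth.Agent.Lib.Helper28 Groth.Agent.Lib.Helper8.PointDeg
  Groth.Agent.Lib.Helper8.Descend

variable (k : Type u) [Field k] (X : Scheme.{u}) [X.Over (Spec (CommRingCat.of k))]

/-- a section of a separated structure morphism over a field hits a closed point -/
theorem isClosed_of_section [IsSeparated (X ↘ Spec (CommRingCat.of k))]
    (y : Spec (CommRingCat.of k) ⟶ X) (hy : y ≫ (X ↘ Spec (CommRingCat.of k)) = 𝟙 _)
    (pt : Spec (CommRingCat.of k)) : IsClosed ({y pt} : Set X) := by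
  haveI : IsClosedImmersion (y ≫ (X ↘ Spec (CommRingCat.of k))) := by rw [hy]; infer_instance
  haveI : IsClosedImmersion y := IsClosedImmersion.of_comp y (X ↘ Spec (CommRingCat.of k))
  have h := y.isClosedEmbedding.isClosed_range
  have hr : Set.range y = {y pt} := by
    ext z
    constructor
    · rintro ⟨q, rfl⟩
      rw [Subsingleton.elim q pt]; rfl
    · rintro rfl
      exact ⟨pt, rfl⟩
  rwa [hr] at h

/-- the residue field at the image of a section is the ground field -/
theorem resMap_surjective_of_section
    (y : Spec (CommRingCat.of k) ⟶ X) (hy : y ≫ (X ↘ Spec (CommRingCat.of k)) = 𝟙 _)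
    (pt : Spec (CommRingCat.of k)) : Function.Surjective (Curv2.resMap k X (y pt)) := by
  intro t
  let S := Spec (CommRingCat.of k)
  let β : X.residueField (y pt) →+* S.residueField pt := (y.residueFieldMap pt).hom
  have hβ : Function.Injective β := RingHom.injective β
  -- `k → κ(pt)` is surjective
  have hα : ∀ u : S.residueField pt, ∃ c : k,
      (S.Γevaluation pt).hom ((Scheme.ΓSpecIso (CommRingCat.of k)).inv.hom c) = u := by
    intro u
    obtain ⟨u', rfl⟩ := IsLocalRing.residue_surjective (R := S.presheaf.stalk pt) u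
    haveI := Groth.Agent.Lib.Helper22.SmoothGeomRed.isIso_germ_top_spec_field k pt
    have hbij : Function.Bijective (S.presheaf.germ ⊤ pt trivial).hom :=
      ConcreteCategory.bijective_of_isIso (S.presheaf.germ ⊤ pt trivial)
    obtain ⟨s, rfl⟩ := hbij.2 u'
    refine ⟨(Scheme.ΓSpecIso (CommRingCat.of k)).hom.hom s, ?_⟩
    have : (Scheme.ΓSpecIso (CommRingCat.of k)).inv.hom
        ((Scheme.ΓSpecIso (CommRingCat.of k)).hom.hom s) = s := by
      have := congrArg (fun φ => φ.hom s) (Scheme.ΓSpecIso (CommRingCat.of k)).hom_inv_id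
      exact this
    rw [this]
    rfl
  obtain ⟨c, hc⟩ := hα (β t)
  refine ⟨c, ?_⟩
  apply hβ
  rw [← hc]
  have h := Scheme.Γevaluation_naturality_apply y pt
    (Coh.toGlobal (X ↘ Spec (CommRingCat.of k)) c)
  refine h.trans ?_
  congr 1
  have h2 : y.appTop.hom ((X ↘ Spec (CommRingCat.of k)).appTop.hom
      ((Scheme.ΓSpecIso (CommRingCat.of k)).inv.hom c)) =
      (Scheme.ΓSpecIso (CommRingCat.of k)).inv.hom c := by
    have := congrArg (fun φ => φ.appTop.hom ((Scheme.ΓSpecIso (CommRingCat.of k)).inv.hom c)) hy
    simpa using this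
  exact h2

attribute [local instance] Curv2.resAlgebra in
theorem finrank_residueField_of_section
    (y : Spec (CommRingCat.of k) ⟶ X) (hy : y ≫ (X ↘ Spec (CommRingCat.of k)) = 𝟙 _)
    (pt : Spec (CommRingCat.of k)) : Module.finrank k (X.residueField (y pt)) = 1 := by
  have hbij : Function.Bijective (algebraMap k (X.residueField (y pt))) :=
    ⟨RingHom.injective _, resMap_surjective_of_section k X y hy pt⟩
  rw [← (LinearEquiv.ofBijective (Algebra.linearMap k (X.residueField (y pt))) hbij).finrank_eq,
    Module.finrank_self]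

/-- **a geometrically integral proper curve of genus zero over a separably closed field is the
projective line** -/
theorem exists_iso_P1 [IsSepClosed k] [IsProper (X ↘ Spec (CommRingCat.of k))]
    [GeometricallyIntegral (X ↘ Spec (CommRingCat.of k))]
    (hdim : topologicalKrullDim X = 1) (hg : Curv2.genus k X = 0) :
    ∃ e : X ≅ CohB1.ProjSpace 1 k,
      e.hom ≫ CohB1.ProjSpace.toSpec 1 k = X ↘ Spec (CommRingCat.of k) := by
  haveI : IsIntegral X :=
    GeometricallyIntegral.isIntegral_of_subsingleton (X ↘ Spec (CommRingCat.of k))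
  haveI : IsLocallyNoetherian X := isLocallyNoetherian k X
  let f := X ↘ Spec (CommRingCat.of k)
  have hdense := Groth.Agent.Lib.Helper22.SmoothGeomRed.dense_smoothLocus_of_geometricallyReduced
    k X inferInstance
  have hne : (f.smoothLocus : Set X).Nonempty := hdense.nonempty
  -- the structure map restricted to the smooth locus is smooth
  haveI : Smooth (f.smoothLocus.ι ≫ f) := by
    rw [← Scheme.Hom.smoothLocus_eq_top_iff, ← Scheme.Hom.preimage_smoothLocus_eq]
    ext z
    simp only [Opens.coe_top, Set.mem_univ, iff_true]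
    exact z.2
  obtain ⟨y₀, hy₀, -⟩ := Groth.Agent.Lib.Helper13.SepClosedSch.exists_section_mem_open
    (f.smoothLocus.ι ≫ f) ⊤ ⟨⟨hne.some, hne.some_mem⟩, trivial⟩
  let y : Spec (CommRingCat.of k) ⟶ X := y₀ ≫ f.smoothLocus.ι
  have hy : y ≫ f = 𝟙 _ := by rw [Category.assoc]; exact hy₀
  let pt : Spec (CommRingCat.of k) := (inferInstance : Nonempty (Spec (CommRingCat.of k))).some
  let x : X := y pt
  have hxs : x ∈ f.smoothLocus := by
    show (y₀ ≫ f.smoothLocus.ι) pt ∈ f.smoothLocus
    rw [Scheme.Hom.comp_apply]
    exact (y₀ pt).2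
  have hx : IsClosed ({x} : Set X) := isClosed_of_section k X y hy pt
  have hreg : IsRegularLocalRing (X.presheaf.stalk x) :=
    Groth.Agent.Lib.Helper19.SmCodepth.regular_stalk_of_mem_smoothLocus k X f x hxs
  obtain ⟨h1, h2⟩ := Groth.Agent.Lib.Helper8.LowDeg.maximalIdeal_isPrincipal_of_regular hdim.le x
    (Groth.Agent.Lib.Helper8.NormalPt.ne_genericPoint_of_isClosed hdim x hx) hreg
  have hE := Groth.Agent.Lib.Helper8.PointCartier.isEffCartierIdeal_vanishingIdeal_singleton
    x hx h1 h2
  have hQ : Module.finrank k (Coh.HH X (ClSub.quotMod (ptI x hx)) 0) = 1 := by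
    rw [finrank_quotMod_eq_finrank_residueField]
    exact finrank_residueField_of_section k X y hy pt
  obtain ⟨hA, hAD⟩ := Groth.Agent.Lib.Helper8.PointBundle.exists_inverse X _ hE
  have hdegA := Groth.Agent.Lib.Helper8.PointBundle.deg_inverse k X _ (fun z hz => by
      have hz' : z ∈ ((Scheme.IdealSheafData.vanishingIdeal ⟨{x}, hx⟩).support : Set X) := hz
      rw [Scheme.IdealSheafData.coe_support_vanishingIdeal] at hz'
      have : z = x := hz'
      rw [this]; exact hx) _ hA hAD
  rw [hQ] at hdegA
  have hcO := Groth.Agent.Lib.Helper6.K0Op.isCoh_of_isInvertible _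
    (AmpleUnit.isInvertible_structureModule X)
  haveI := finite_HH k X _ hcO 1
  have h1' : Subsingleton (Coh.HH X (Coh.structureModule X) 1) :=
    Groth.Agent.Lib.Helper8.CurveRR.subsingleton_of_finrank_eq_zero k hg
  exact Groth.Agent.S6541.result k X hdim h1' _ hA (by simpa using hdegA)

end Groth.Agent.Lib.Helper8.G0Sep
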