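import Mathlib.Algebra.Homology.Refinements
import Mathlib.Algebra.Homology.HomologicalComplexAbelian

/-!
# Helper8: homology classes of generalized cycles in a cochain complex (for S0899/S0897)
-/

universe v u

open CategoryTheory CategoryTheory.Limits HomologicalComplex

namespace Groth.Agent.Lib.Helper8.GCls

variable {𝒜 : Type u} [Category.{v} 𝒜] [Abelian 𝒜]

/-- the class of a generalized cycle -/
noncomputable def gcls (K : CochainComplex 𝒜 ℤ) {j : ℤ} {P : 𝒜} (x : P ⟶ K.X j)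
    (hx : x ≫ K.d j (j + 1) = 0) : P ⟶ K.homology j :=
  K.liftCycles x (j + 1) (by simp) hx ≫ K.homologyπ j

variable {K L : CochainComplex 𝒜 ℤ} {j : ℤ} {P : 𝒜}

lemma gcls_congr {x x' : P ⟶ K.X j} (h : x = x') (hx : x ≫ K.d j (j + 1) = 0) :
    gcls K x hx = gcls K x' (h ▸ hx) := by
  subst h
  rfl

lemma gcls_comp_homologyMap (φ : K ⟶ L) (x : P ⟶ K.X j) (hx : x ≫ K.d j (j + 1) = 0) :
    gcls K x hx ≫ homologyMap φ j =
      gcls L (x ≫ φ.f j) (by rw [Category.assoc, φ.comm, reassoc_of% hx, zero_comp]) := by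
  unfold gcls
  rw [Category.assoc, homologyπ_naturality, ← Category.assoc, liftCycles_comp_cyclesMap]

lemma precomp_gcls {P' : 𝒜} (α : P' ⟶ P) (x : P ⟶ K.X j) (hx : x ≫ K.d j (j + 1) = 0) :
    α ≫ gcls K x hx = gcls K (α ≫ x) (by rw [Category.assoc, hx, comp_zero]) := by
  unfold gcls
  rw [← Category.assoc, comp_liftCycles]

lemma gcls_add (x y : P ⟶ K.X j) (hx : x ≫ K.d j (j + 1) = 0) (hy : y ≫ K.d j (j + 1) = 0) :
    gcls K (x + y) (by rw [Preadditive.add_comp, hx, hy, add_zero]) = gcls K x hx + gcls K y hy := by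
  unfold gcls
  have h : K.liftCycles (x + y) (j + 1) (by simp)
      (by rw [Preadditive.add_comp, hx, hy, add_zero]) =
      K.liftCycles x (j + 1) (by simp) hx + K.liftCycles y (j + 1) (by simp) hy := by
    rw [← cancel_mono (K.iCycles j)]
    simp
  rw [h, Preadditive.add_comp]

lemma gcls_boundary (i : ℤ) (y : P ⟶ K.X i) :
    gcls K (y ≫ K.d i j) (by rw [Category.assoc, K.d_comp_d, comp_zero]) = 0 :=
  K.liftCycles_homologyπ_eq_zero_of_boundary _ _ _ y rfl

lemma exists_gcls_refinement (γ : P ⟶ K.homology j) :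
    ∃ (P' : 𝒜) (π : P' ⟶ P) (_ : Epi π) (x : P' ⟶ K.X j) (hx : x ≫ K.d j (j + 1) = 0),
      π ≫ γ = gcls K x hx :=
  K.eq_liftCycles_homologyπ_up_to_refinements γ (j + 1) (by simp)

lemma gcls_eq_zero_iff (i : ℤ) (hi : i + 1 = j) (x : P ⟶ K.X j) (hx : x ≫ K.d j (j + 1) = 0) :
    gcls K x hx = 0 ↔
      ∃ (P' : 𝒜) (π : P' ⟶ P) (_ : Epi π) (y : P' ⟶ K.X i), π ≫ x = y ≫ K.d i j :=
  K.liftCycles_comp_homologyπ_eq_zero_iff_up_to_refinements i j (j + 1) (by simp [← hi]) (by simp)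
    x hx

end Groth.Agent.Lib.Helper8.GCls
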