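import Groth.Agent.Lib.Helper8.KillC
import Groth.Agent.Lib.Helper17.GGStalk
import Groth.Agent.Lib.Helper6.DevPow
import Groth.Agent.Lib.Helper7.StalkFree
import Groth.Agent.S0020

/-! # Helper8 — finite generation of globally generated coherent modules on quasi-compact schemes -/
set_option autoImplicit false
universe u
open CategoryTheory CategoryTheory.Limits AlgebraicGeometry Opposite TopologicalSpace Abelian
noncomputable section

namespace Groth.Agent.Lib.Helper8.GGFin

open Groth.Agent.Lib.Helper16.Stk Groth.Agent.Lib.Helper17.GGStalk Groth.Agent.Lib.Helper28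
  Groth.Agent.Lib.Helper28.QCohLoc Groth.Agent.Lib.Helper8.KillC Groth.Agent.Lib.Helper28.GenLocus
  Groth.Agent.Lib.Helper28.TwistAmple

/-- a spanning family of a finite module has a finite spanning subfamily -/
theorem exists_finset_span_eq_top {R M ι : Type*} [Ring R] [AddCommGroup M] [Module R M] [Module.Finite R M]
    (v : ι → M) (h : Submodule.span R (Set.range v) = ⊤) :
    ∃ T : Finset ι, Submodule.span R (v '' (T : Set ι)) = ⊤ := by
  have hc : IsCompactElement (⊤ : Submodule R M) :=
    (Submodule.fg_iff_compact ⊤).1 Module.Finite.fg_top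
  have h1 : (⊤ : Submodule R M) ≤ ⨆ i, Submodule.span R {v i} := by
    rw [← Submodule.span_range_eq_iSup, h]
  obtain ⟨T, hT⟩ := CompleteLattice.IsCompactElement.exists_finset_of_le_iSup _ hc _ h1
  refine ⟨T, eq_top_iff.2 (hT.trans ?_)⟩
  refine iSup₂_le fun i hi => Submodule.span_mono ?_
  rw [Set.singleton_subset_iff]
  exact ⟨i, hi, rfl⟩

variable {X : Scheme.{u}}

/-- if the germs at `x` of the sections `σ j` span the stalk, the map `O^n ⟶ E` they define is an epimorphism on
stalks at `x` -/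
theorem epi_stk_of_span {E : X.Modules} {n : ℕ} (σ : Fin n → (Coh.structureModule X ⟶ E)) (x : X)
    (h : Submodule.span (X.presheaf.stalk x)
      (Set.range fun j : Fin n => germAt E x ⊤ trivial (secOf (σ j))) = ⊤) :
    Epi ((stk x).map (Sigma.desc σ : FlatMod.freeMod X n ⟶ E)) := by
  apply Preadditive.epi_of_cancel_zero
  intro Z g hg
  ext b
  have hb : b ∈ Submodule.span (X.presheaf.stalk x)
      (Set.range fun j : Fin n => germAt E x ⊤ trivial (secOf (σ j))) := by rw [h]; trivial
  show g.hom b = 0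
  induction hb using Submodule.span_induction with
  | mem b hb =>
    obtain ⟨j, rfl⟩ := hb
    have h1 : (stk x).map (σ j) ≫ g = 0 := by
      have : σ j = Sigma.ι (fun _ : Fin n => Coh.structureModule X) j ≫ Sigma.desc σ :=
        (Sigma.ι_desc _ _).symm
      rw [this, (stk x).map_comp, Category.assoc, hg, comp_zero]
    have h2 := congrArg (fun φ => φ.hom (germAt (Coh.structureModule X) x ⊤ trivial (oneSec X ⊤))) h1
    simp only [ModuleCat.hom_comp, LinearMap.comp_apply] at h2
    rw [stk_map_germAt] at h2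
    exact h2
  | zero => exact map_zero _
  | add a a' _ _ ih ih' => rw [map_add, ih, ih', add_zero]
  | smul r a _ ih => rw [map_smul, ih, smul_zero]

section fin

variable {ι : Type u} {E : X.Modules} (p : (SheafOfModules.free ι : X.Modules) ⟶ E)

/-- the map `O^{|T|} ⟶ E` given by the sections `p ∘ e_j`, `j ∈ T` -/
def phi (T : Finset ι) : FlatMod.freeMod X T.card ⟶ E :=
  Sigma.desc (fun i : Fin T.card => sect p ((T.equivFin.symm i).1))

theorem phi_mono_fac {T T' : Finset ι} (h : T ⊆ T') :
    ∃ m : FlatMod.freeMod X T.card ⟶ FlatMod.freeMod X T'.card, m ≫ phi p T' = phi p T := by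
  refine ⟨Sigma.desc (fun i : Fin T.card => Sigma.ι (fun _ : Fin T'.card => Coh.structureModule X)
    (T'.equivFin ⟨(T.equivFin.symm i).1, h (T.equivFin.symm i).2⟩)), ?_⟩
  apply Sigma.hom_ext
  intro i
  unfold phi
  rw [Sigma.ι_desc_assoc, Sigma.ι_desc, Sigma.ι_desc]
  simp

theorem epi_stk_phi_of_subset {T T' : Finset ι} (h : T ⊆ T') (y : X)
    (hy : Epi ((stk y).map (phi p T))) : Epi ((stk y).map (phi p T')) := by
  obtain ⟨m, hm⟩ := phi_mono_fac p h
  rw [← hm, (stk y).map_comp] at hy
  exact epi_of_epi ((stk y).map m) _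

theorem exists_epi_stk_phi (hE : Coh.IsCoh E) (hp : Epi p) (x : X) :
    ∃ T : Finset ι, Epi ((stk x).map (phi p T)) := by
  haveI : Module.Finite (X.presheaf.stalk x) ((stk x).obj E) :=
    Groth.Agent.Lib.Helper7.StalkFree.finite_stalk_of_isCoh X E hE x
  obtain ⟨T, hT⟩ := exists_finset_span_eq_top (R := X.presheaf.stalk x) (M := ((stk x).obj E : Type u))
    (fun j : ι => germAt E x ⊤ trivial (secOf (sect p j))) (span_germs_eq_top p hp x)
  refine ⟨T, epi_stk_of_span _ x ?_⟩
  rw [eq_top_iff, ← hT]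
  apply Submodule.span_mono
  rintro _ ⟨j, hj, rfl⟩
  exact ⟨T.equivFin ⟨j, hj⟩, by simp⟩

end fin

/-- **a globally generated coherent module on a quasi-compact locally Noetherian scheme is generated by finitely
many global sections** -/
theorem exists_fin_epi [IsLocallyNoetherian X] [CompactSpace X] {E : X.Modules} (hE : Coh.IsCoh E)
    (hgg : Curv2.IsGloballyGenerated E) :
    ∃ (n : ℕ) (q : FlatMod.freeMod X n ⟶ E), Epi q := by
  classical
  obtain ⟨ι, p, hp⟩ := hgg
  have hcO : Coh.IsCoh (Coh.structureModule X) := Groth.Agent.Lib.Helper6.DevRed.isCoh_structureModule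
  have hcoh : ∀ T : Finset ι, Coh.IsCoh (cokernel (phi p T)) := fun T =>
    Groth.Agent.Lib.Helper6.DevCore.isCoh_cokernel _
      (Groth.Agent.Lib.Helper6.DevPow.isCoh_sigma_fin _ _ (fun _ => hcO)) hE
  choose Tx hTx using exists_epi_stk_phi p hE hp
  let U : X → Set X := fun x => (CohB1.support (cokernel (phi p (Tx x))))ᶜ
  have hUo : ∀ x, IsOpen (U x) := fun x =>
    (Groth.Agent.S0020.result X _ (hcoh (Tx x)).2).isOpen_compl
  have hxU : ∀ x, x ∈ U x := fun x => (epi_stk_iff _ x).1 (hTx x)
  obtain ⟨t, ht⟩ := isCompact_univ.elim_finite_subcover U hUo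
    (fun x _ => Set.mem_iUnion.2 ⟨x, hxU x⟩)
  refine ⟨_, phi p (t.biUnion Tx), ?_⟩
  apply epi_of_forall_stalk
  intro y
  obtain ⟨x, hx⟩ := Set.mem_iUnion.1 (ht (Set.mem_univ y))
  obtain ⟨hxt, hyU⟩ := Set.mem_iUnion.1 hx
  exact epi_stk_phi_of_subset p (Finset.subset_biUnion_of_mem Tx hxt) y ((epi_stk_iff _ y).2 hyU)

end Groth.Agent.Lib.Helper8.GGFin
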