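import Groth.Agent.S6433
import Mathlib

/-!
# Helper8: Gabriel–Zisman: localization functors for left calculus of fractions preserve finite colimits
-/

universe v u v' u'

open CategoryTheory CategoryTheory.Limits

namespace Groth.Agent.Lib.Helper8.GZ1

variable {C : Type u} [Category.{v} C] {D : Type u'} [Category.{v'} D]
  (W : MorphismProperty C) (L : C ⥤ D) [L.IsLocalization W] [W.HasLeftCalculusOfFractions]

/-- a finite family of parallel pairs identified by `L` is equalized by a single map in `W` -/
theorem exists_equalizer_of_finite (ι : Type) [Finite ι] :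
    ∀ (X : ι → C) (Y : C) (a b : ∀ i, X i ⟶ Y) (_ : ∀ i, L.map (a i) = L.map (b i)),
    ∃ (Y' : C) (s : Y ⟶ Y') (_ : W s), ∀ i, a i ≫ s = b i ≫ s := by
  induction ι using Finite.induction_empty_option with
  | of_equiv e ih =>
    intro X Y a b h
    obtain ⟨Y', s, hs, h'⟩ := ih (fun i => X (e i)) Y (fun i => a (e i)) (fun i => b (e i))
      (fun i => h (e i))
    exact ⟨Y', s, hs, e.surjective.forall.mpr h'⟩
  | h_empty =>
    intro X Y a b _
    exact ⟨Y, 𝟙 Y, W.id_mem Y, fun i => i.elim⟩
  | h_option ih =>
    intro X Y a b h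
    obtain ⟨Y₁, s₁, hs₁, h₁⟩ := ih (fun i => X (some i)) Y (fun i => a (some i))
      (fun i => b (some i)) (fun i => h (some i))
    have h2 : L.map (a none ≫ s₁) = L.map (b none ≫ s₁) := by
      rw [L.map_comp, L.map_comp, h none]
    obtain ⟨Y₂, s₂, hs₂, h₂⟩ := (MorphismProperty.map_eq_iff_postcomp L W _ _).1 h2
    refine ⟨Y₂, s₁ ≫ s₂, W.comp_mem _ _ hs₁ hs₂, ?_⟩
    intro i
    cases i with
    | none => simpa using h₂
    | some i => rw [← Category.assoc, h₁ i, Category.assoc]

section

variable {J : Type} [SmallCategory J] [FinCategory J] {K : J ⥤ C} {c : Cocone K}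
  (hc : IsColimit c)

include hc W in
lemma exists_desc (Y : C) (g : ∀ j, L.obj (K.obj j) ⟶ L.obj Y)
    (hg : ∀ (j j' : J) (u : j ⟶ j'), L.map (K.map u) ≫ g j' = g j) :
    ∃ m : L.obj c.pt ⟶ L.obj Y, ∀ j, L.map (c.ι.app j) ≫ m = g j := by
  obtain ⟨Y', s, hs, f, hf⟩ := Groth.Agent.S6433.result W L (fun j => K.obj j) Y g
  have := Localization.inverts L W s hs
  -- compatibility after a further map
  obtain ⟨Y'', s', hs', h'⟩ := exists_equalizer_of_finite W L
    (Σ (j : J) (j' : J), (j ⟶ j')) (fun x => K.obj x.1) Y'
    (fun x => K.map x.2.2 ≫ f x.2.1) (fun x => f x.1) (by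
      rintro ⟨j, j', u⟩
      dsimp
      rw [L.map_comp, ← hf, ← hf, ← Category.assoc, hg])
  have := Localization.inverts L W s' hs'
  let c' : Cocone K :=
    { pt := Y''
      ι := { app := fun j => f j ≫ s'
             naturality := fun j j' u => by
               have := h' ⟨j, j', u⟩
               dsimp at this ⊢
               rw [Category.comp_id, ← Category.assoc, this] } }
  refine ⟨L.map (hc.desc c') ≫ inv (L.map s') ≫ inv (L.map s), fun j => ?_⟩
  rw [← Category.assoc, ← L.map_comp, hc.fac]
  dsimp [c']
  rw [L.map_comp, Category.assoc, IsIso.hom_inv_id_assoc, ← hf, Category.assoc,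
    IsIso.hom_inv_id, Category.comp_id]

include hc W in
lemma hom_ext (Y : C) (m m' : L.obj c.pt ⟶ L.obj Y)
    (h : ∀ j, L.map (c.ι.app j) ≫ m = L.map (c.ι.app j) ≫ m') : m = m' := by
  obtain ⟨Y', s, hs, f, hf⟩ := Groth.Agent.S6433.result W L (fun _ : Bool => c.pt) Y
    (fun b => if b then m else m')
  have := Localization.inverts L W s hs
  have h1 : m ≫ L.map s = L.map (f true) := by simpa using hf true
  have h2 : m' ≫ L.map s = L.map (f false) := by simpa using hf false
  obtain ⟨Y'', s', hs', h'⟩ := exists_equalizer_of_finite W L J (fun j => K.obj j) Y'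
    (fun j => c.ι.app j ≫ f true) (fun j => c.ι.app j ≫ f false) (by
      intro j
      dsimp
      rw [L.map_comp, L.map_comp, ← h1, ← h2, ← Category.assoc, ← Category.assoc, h j])
  have := Localization.inverts L W s' hs'
  have h3 : f true ≫ s' = f false ≫ s' := by
    apply hc.hom_ext
    intro j
    simpa using h' j
  have h4 : L.map (f true) = L.map (f false) := by
    rw [← cancel_mono (L.map s'), ← L.map_comp, ← L.map_comp, h3]
  rw [← cancel_mono (L.map s), h1, h2, h4]

include hc W in
/-- the image of a finite colimit cocone is a colimit cocone -/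
lemma nonempty_isColimit_mapCocone : Nonempty (IsColimit (L.mapCocone c)) := by
  have hess := Localization.essSurj L W
  have key : ∀ t : Cocone (K ⋙ L), ∃ m : L.obj c.pt ⟶ t.pt,
      ∀ j, L.map (c.ι.app j) ≫ m = t.ι.app j := by
    intro t
    let e : L.obj (L.objPreimage t.pt) ≅ t.pt := L.objObjPreimageIso t.pt
    obtain ⟨m, hm⟩ := exists_desc W L hc (L.objPreimage t.pt) (fun j => t.ι.app j ≫ e.inv)
      (fun j j' u => by
        have := t.w u
        dsimp at this
        rw [← Category.assoc, this])
    refine ⟨m ≫ e.hom, fun j => ?_⟩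
    rw [← Category.assoc, hm, Category.assoc, Iso.inv_hom_id, Category.comp_id]
  choose desc hdesc using key
  refine ⟨{ desc := desc, fac := fun t j => hdesc t j, uniq := fun t m hm => ?_ }⟩
  let e : L.obj (L.objPreimage t.pt) ≅ t.pt := L.objObjPreimageIso t.pt
  rw [← cancel_mono e.inv]
  apply hom_ext W L hc
  intro j
  have h1 := hm j
  have h2 := hdesc t j
  dsimp at h1
  rw [← Category.assoc, ← Category.assoc, h1, h2]

end

include W in
theorem preservesFiniteColimits : PreservesFiniteColimits L where
  preservesFiniteColimits _ _ _ :=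
    { preservesColimit :=
        { preserves := fun hc => nonempty_isColimit_mapCocone W L hc } }

end Groth.Agent.Lib.Helper8.GZ1
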