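import Groth.Agent.Lib.Helper8.GZ1

/-!
# Helper8: Gabriel–Zisman: the localization of an abelian category with respect to a
multiplicative system is abelian, and the localization functor is exact
-/

universe v u v' u'

open CategoryTheory CategoryTheory.Limits ZeroObject

namespace Groth.Agent.Lib.Helper8.GZ2

variable {A : Type u} [Category.{v} A] [Abelian A] (W : MorphismProperty A)
  {D : Type u'} [Category.{v'} D] (L : A ⥤ D) [L.IsLocalization W]

include W in
lemma preservesFiniteLimits [W.HasRightCalculusOfFractions] : PreservesFiniteLimits L := by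
  have : PreservesFiniteColimits L.op := GZ1.preservesFiniteColimits W.op L.op
  exact preservesFiniteLimits_of_op L

section

variable [Preadditive D] [L.Additive] [PreservesFiniteLimits L] [PreservesFiniteColimits L]

/-- the kernel of `L` -/
def P : ObjectProperty A := fun X => IsZero (L.obj X)

instance : (P L).IsSerreClass where
  exists_zero := ⟨0, isZero_zero A, L.map_isZero (isZero_zero A)⟩
  prop_of_mono {X Y} f _ hY := by
    have : Mono (L.map f) := inferInstance
    exact IsZero.of_mono (L.map f) hY
  prop_of_epi {X Y} f _ hX := by
    have : Epi (L.map f) := inferInstance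
    exact IsZero.of_epi (L.map f) hX
  prop_X₂_of_shortExact {S} hS h₁ h₃ := by
    have hk := (KernelFork.ofι S.f S.zero).mapIsLimit hS.fIsKernel L
    have h0 : L.map S.g = 0 := h₃.eq_of_tgt _ _
    have := KernelFork.IsLimit.isIso_ι _ hk h0
    have : IsIso (L.map S.f) := this
    exact IsZero.of_iso h₁ (asIso (L.map S.f)).symm

lemma isIso_map_of_isoModSerre {X Y : A} (f : X ⟶ Y) (hf : (P L).isoModSerre f) :
    IsIso (L.map f) := by
  obtain ⟨h1, h2⟩ := hf
  -- the coimage projection
  have hc := (CokernelCofork.ofπ (cokernel.π (kernel.ι f)) (cokernel.condition _)).mapIsColimit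
    (cokernelIsCokernel (kernel.ι f)) L
  have h0 : L.map (kernel.ι f) = 0 := IsZero.eq_of_src h1 _ _
  have i1 : IsIso (L.map (Abelian.coimage.π f)) := CokernelCofork.IsColimit.isIso_π _ hc h0
  -- the image inclusion
  have hk := (KernelFork.ofι (kernel.ι (cokernel.π f)) (kernel.condition _)).mapIsLimit
    (kernelIsKernel (cokernel.π f)) L
  have h0' : L.map (cokernel.π f) = 0 := IsZero.eq_of_tgt h2 _ _
  have i2 : IsIso (L.map (Abelian.image.ι f)) := KernelFork.IsLimit.isIso_ι _ hk h0'
  rw [← Abelian.coimage_image_factorisation f, L.map_comp, L.map_comp]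
  infer_instance

lemma isoModSerre_of_isIso_map {X Y : A} (f : X ⟶ Y) (hf : IsIso (L.map f)) :
    (P L).isoModSerre f := by
  constructor
  · have hk := (KernelFork.ofι (kernel.ι f) (kernel.condition _)).mapIsLimit
      (kernelIsKernel f) L
    exact KernelFork.IsLimit.isZero_of_mono hk
  · have hc := (CokernelCofork.ofπ (cokernel.π f) (cokernel.condition _)).mapIsColimit
      (cokernelIsCokernel f) L
    exact CokernelCofork.IsColimit.isZero_of_epi hc

include W in
lemma isLocalization_isoModSerre : L.IsLocalization (P L).isoModSerre := by
  have h : (L ⋙ 𝟭 D).IsLocalization (P L).isoModSerre := by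
    have : (𝟭 D).IsLocalization (⊥ : MorphismProperty D) :=
      Functor.IsLocalization.for_id _ bot_le
    refine Functor.IsLocalization.comp L (𝟭 D) W ⊥ _ ?_ ?_ bot_le
    · intro X Y f hf
      exact isIso_map_of_isoModSerre L f hf
    · intro X Y f hf
      exact isoModSerre_of_isIso_map L f (Localization.inverts L W f hf)
  exact Functor.IsLocalization.of_iso _ L.rightUnitor

end

include W in
theorem main [W.HasLeftCalculusOfFractions] [W.HasRightCalculusOfFractions] :
    Nonempty (Abelian D) ∧ PreservesFiniteLimits L ∧ PreservesFiniteColimits L := by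
  have hcolim := GZ1.preservesFiniteColimits W L
  have hlim := preservesFiniteLimits W L
  let _ : Preadditive D := Localization.preadditive L W
  have : L.Additive := Localization.functor_additive L W
  have := isLocalization_isoModSerre W L
  exact ⟨⟨ObjectProperty.SerreClassLocalization.abelian L (P L)⟩, hlim, hcolim⟩

end Groth.Agent.Lib.Helper8.GZ2
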