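import Groth.Agent.Lib.Helper8.Vanish
import Groth.Agent.Lib.Helper8.DegVan
import Groth.Agent.Lib.Helper8.H0Field

/-! # Helper8 — Weierstrass gaps at a point of a curve over an algebraically closed field: there are exactly `g` of them -/
set_option autoImplicit false
universe u
open CategoryTheory CategoryTheory.Limits AlgebraicGeometry Opposite TopologicalSpace
noncomputable section

namespace Groth.Agent.Lib.Helper8.Gaps

section comb

/-- counting the flat steps of a sequence with increments `0` or `1` -/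
theorem card_flat_add (a : ℕ → ℕ) (h : ∀ n, a n ≤ a (n + 1) ∧ a (n + 1) ≤ a n + 1) (N : ℕ) :
    ((Finset.range N).filter (fun i => a (i + 1) = a i)).card + a N = N + a 0 := by
  induction N with
  | zero => simp
  | succ N ih =>
    rw [Finset.range_add_one, Finset.filter_insert]
    obtain ⟨h1, h2⟩ := h N
    by_cases hN : a (N + 1) = a N
    · rw [if_pos hN, Finset.card_insert_of_notMem (by simp)]
      omega
    · rw [if_neg hN]
      omega

/-- the set of gaps of a sequence with increments `0` or `1` which is eventually `n + 1 - g` -/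
theorem gaps (a : ℕ → ℕ) (g : ℕ) (h : ∀ n, a n ≤ a (n + 1) ∧ a (n + 1) ≤ a n + 1) (h0 : a 0 = 1)
    (hbig : ∀ n : ℕ, 2 * g ≤ n + 1 → a n + g = n + 1) :
    {n : ℕ | 1 ≤ n ∧ a n = a (n - 1)}.Finite ∧ {n : ℕ | 1 ≤ n ∧ a n = a (n - 1)}.ncard = g := by
  have hset : {n : ℕ | 1 ≤ n ∧ a n = a (n - 1)} =
      ↑(((Finset.range (2 * g)).filter (fun i => a (i + 1) = a i)).image (· + 1)) := by
    ext n
    simp only [Set.mem_ofPred_eq, Finset.coe_image, Finset.coe_filter, Finset.mem_range, Set.mem_image]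
    constructor
    · rintro ⟨hn, hg⟩
      refine ⟨n - 1, ⟨?_, ?_⟩, by omega⟩
      · by_contra hlt
        have e1 := hbig n (by omega)
        have e2 := hbig (n - 1) (by omega)
        omega
      · rw [show n - 1 + 1 = n by omega]
        exact hg
    · rintro ⟨i, ⟨-, hi⟩, rfl⟩
      exact ⟨by omega, by simpa using hi⟩
  rw [hset]
  refine ⟨Finset.finite_toSet _, ?_⟩
  rw [Set.ncard_coe_finset, Finset.card_image_of_injective _ (add_left_injective 1)]
  have hc := card_flat_add a h (2 * g)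
  have e := hbig (2 * g) (by omega)
  omega

end comb


section geom
open Groth.Agent.Lib.Helper8.EulerK Groth.Agent.Lib.Helper28 Groth.Agent.Lib.Helper8.PointDeg
  Groth.Agent.Lib.Helper8.Vanish Groth.Agent.Lib.Helper8.Descend
  Groth.Agent.Lib.Helper6.DevCore Groth.Agent.Lib.Helper6.DevRed

variable (k : Type u) [Field k] (X : Scheme.{u}) [X.Over (Spec (CommRingCat.of k))]
  [IsIntegral X] [IsProper (X ↘ Spec (CommRingCat.of k))]

/-- `h⁰(L ⊗ O_x) = 1` for a closed point `x` of degree one -/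
theorem hh_twist_quot (L : X.Modules) (hL : PicF.IsInvertible L) (x : X)
    (hx : IsClosed ({x} : Set X))
    (hQ : Module.finrank k (Coh.HH X (ClSub.quotMod (ptI x hx)) 0) = 1) :
    hh k (CohB1.tensorMod L (ClSub.quotMod (ptI x hx))) 0 = 1 := by
  haveI : IsLocallyNoetherian X := isLocallyNoetherian k X
  obtain ⟨-, -, -, c3, hχ3⟩ := twist_data k X L hL x hx hQ
  have hLc := Groth.Agent.Lib.Helper6.K0Op.isCoh_of_isInvertible L hL
  have hcQ : Coh.IsCoh (ClSub.quotMod (ptI x hx)) := isCoh_quotMod _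
  have hsuppQ : CohB1.support (ClSub.quotMod (ptI x hx)) = {x} :=
    support_quotMod_vanishingIdeal (Z := ⟨{x}, hx⟩)
  have hsupp3 : CohB1.support (CohB1.tensorMod L (ClSub.quotMod (ptI x hx))) ⊆ {x} := by
    rw [← hsuppQ]
    exact Groth.Agent.Lib.Helper6.K0Op.support_tensorMod_subset L _ hLc hcQ
  have hcl3 : ∀ z ∈ CohB1.support (CohB1.tensorMod L (ClSub.quotMod (ptI x hx))),
      IsClosed ({z} : Set X) := fun z hz => by
    have : z = x := hsupp3 hz
    rw [this]; exact hx
  have h := euler_eq_sum k X (CohB1.tensorMod L (ClSub.quotMod (ptI x hx))) 1 (fun p hp => by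
    obtain ⟨q, rfl⟩ : ∃ q, p = q + 1 := ⟨p - 1, by omega⟩
    exact Groth.Agent.Lib.Helper8.CurveDeg.subsingleton_HH_succ _ c3 hcl3 q)
  rw [hχ3] at h
  simp at h
  unfold hh
  exact_mod_cast h.symm

/-- consecutive powers of `O(p)`: `h⁰` grows by `0` or `1` -/
theorem hh_tensorPow_step (p : X) (hp : IsClosed ({p} : Set X))
    (hQ : Module.finrank k (Coh.HH X (ClSub.quotMod (ptI p hp)) 0) = 1)
    (L : X.Modules) (hL : PicF.IsInvertible L)
    (hLp : ClSub.IsInverseOf L (ClSub.idealMod (ptI p hp))) (n : ℕ) :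
    hh k (CohB1.tensorPow L n) 0 ≤ hh k (CohB1.tensorPow L (n + 1)) 0 ∧
      hh k (CohB1.tensorPow L (n + 1)) 0 ≤ hh k (CohB1.tensorPow L n) 0 + 1 := by
  have hP := GenLocus.isInvertible_tensorPow hL (n + 1)
  obtain ⟨hS, c1, c2, c3, -⟩ := twist_data k X _ hP p hp hQ
  have h3 := hh_twist_quot k X _ hP p hp hQ
  set S := (Groth.Agent.Lib.Helper17.Serre.idealSES (ptI p hp)).map
    (DCoh.tensorBi.obj (CohB1.tensorPow L (n + 1))) with hSdef
  have c1' : Coh.IsCoh S.X₁ := c1
  have c2' : Coh.IsCoh S.X₂ := c2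
  have c3' : Coh.IsCoh S.X₃ := c3
  have h3' : hh k S.X₃ 0 = 1 := h3
  obtain ⟨i⟩ := hLp
  obtain ⟨u1⟩ := AmpleUnit.nonempty_tensor_unit_iso (CohB1.tensorPow L n)
  obtain ⟨u2⟩ := AmpleUnit.nonempty_tensor_unit_iso (CohB1.tensorPow L (n + 1))
  have e1 : S.X₁ ≅ CohB1.tensorPow L n :=
    Groth.Agent.Lib.Helper16.TA.assocIso (CohB1.tensorPow L n) L (ClSub.idealMod (ptI p hp)) ≪≫
      (DCoh.tensorBi.obj (CohB1.tensorPow L n)).mapIso i ≪≫ u1
  have e2 : S.X₂ ≅ CohB1.tensorPow L (n + 1) := u2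
  have a1 := hh₁_zero_le k S hS c2'
  have a2 := hh₂_le k S hS c1' c2' c3' 0
  rw [hh_congr k e1 0, hh_congr k e2 0] at a1
  rw [hh_congr k e1 0, hh_congr k e2 0, h3'] at a2
  exact ⟨a1, a2⟩

/-- `h⁰(O(np)) = n + 1 - g` for `n ≥ 2g - 1` -/
theorem hh_tensorPow_large [IsAlgClosed k] (hdim : topologicalKrullDim X = 1)
    (p : X) (hp : IsClosed ({p} : Set X)) (L : X.Modules) (hL : PicF.IsInvertible L)
    (hLp : ClSub.IsInverseOf L (ClSub.idealMod (ptI p hp))) (n : ℕ)
    (hn : 2 * Curv2.genus k X ≤ n + 1) :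
    hh k (CohB1.tensorPow L n) 0 + Curv2.genus k X = n + 1 := by
  haveI : IsLocallyNoetherian X := isLocallyNoetherian k X
  have hQ := finrank_quotMod_of_isAlgClosed p hp k
  have hdegL := Groth.Agent.Lib.Helper8.PointBundle.deg_inverse k X (ptI p hp) (fun z hz => by
      have hz' : z ∈ ((Scheme.IdealSheafData.vanishingIdeal ⟨{p}, hp⟩).support : Set X) := hz
      rw [Scheme.IdealSheafData.coe_support_vanishingIdeal] at hz'
      have : z = p := hz'
      rw [this]; exact hp) L hL hLp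
  rw [hQ] at hdegL
  have hP := GenLocus.isInvertible_tensorPow hL n
  have hPc := Groth.Agent.Lib.Helper6.K0Op.isCoh_of_isInvertible _ hP
  have hd := Groth.Agent.Lib.Helper8.KillE.deg_tensorPow k X hdim.le hL n
  rw [hdegL] at hd
  have h1 := Groth.Agent.Lib.Helper8.DegVan.hh_one_eq_zero k X hdim _ hP (by
    rw [hd]; push_cast; omega)
  obtain ⟨⟨M, hM, a0, -⟩, -⟩ := exists_h0_h1 k X hdim
  have hO0 := Groth.Agent.Lib.Helper8.H0Field.finrank_H0_eq_one (X := X) (k := k) M 0 a0
  have hcO := Groth.Agent.Lib.Helper6.K0Op.isCoh_of_isInvertible _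
    (AmpleUnit.isInvertible_structureModule X)
  have eP := Groth.Agent.Lib.Helper8.CurveRR.euler_eq_sub k X hdim.le _ hPc.1
  have eO := Groth.Agent.Lib.Helper8.CurveRR.euler_eq_sub k X hdim.le _ hcO.1
  unfold Curv2.deg at hd
  unfold hh at h1 ⊢
  have hg' : Module.finrank k (Coh.HH X (Coh.structureModule X) 1) = Curv2.genus k X := rfl
  rw [eP, eO, h1, hO0, hg'] at hd
  push_cast at hd
  omega

/-- **the Weierstrass gap theorem**: the gaps at `p` form a finite set with `g` elements -/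
theorem gaps_ncard [IsAlgClosed k] (hdim : topologicalKrullDim X = 1)
    (p : X) (hp : IsClosed ({p} : Set X)) (L : X.Modules) (hL : PicF.IsInvertible L)
    (hLp : ClSub.IsInverseOf L (ClSub.idealMod (ptI p hp))) :
    {n : ℕ | 1 ≤ n ∧ hh k (CohB1.tensorPow L n) 0 = hh k (CohB1.tensorPow L (n - 1)) 0}.Finite ∧
      {n : ℕ | 1 ≤ n ∧ hh k (CohB1.tensorPow L n) 0 =
        hh k (CohB1.tensorPow L (n - 1)) 0}.ncard = Curv2.genus k X := by
  have hQ := finrank_quotMod_of_isAlgClosed p hp k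
  refine gaps (fun n => hh k (CohB1.tensorPow L n) 0) (Curv2.genus k X)
    (fun n => hh_tensorPow_step k X p hp hQ L hL hLp n) ?_
    (fun n hn => hh_tensorPow_large k X hdim p hp L hL hLp n hn)
  obtain ⟨⟨M, hM, a0, -⟩, -⟩ := exists_h0_h1 k X hdim
  exact Groth.Agent.Lib.Helper8.H0Field.finrank_H0_eq_one (X := X) (k := k) M 0 a0

end geom

end Groth.Agent.Lib.Helper8.Gaps
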