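import Mathlib
import Groth.Agent.Lib.Helper8.WayOut2

/-!
# Helper8 — Ghost1: the ghost lemma in `D(A)` (composites of maps killing low cohomology).
-/

open CategoryTheory CategoryTheory.Limits CategoryTheory.Pretriangulated DerivedCategory

namespace Groth.Agent.Lib.Helper8.Ghost

open Groth.Agent.Lib.Helper8.DTrunc Groth.Agent.Lib.Helper8.PAmp Groth.Agent.Lib.Helper8.WayOut

universe w v u

variable {A : Type u} [Category.{v} A] [Abelian A] [HasDerivedCategory.{w} A]

/-- a map from `D^{≤ b}` to `D^{≥ b}` is determined by `H^b`. -/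
theorem eq_zero_of_isLE_of_isGE {U V : DerivedCategory A} (b : ℤ) [U.IsLE b] [V.IsGE b]
    (h : U ⟶ V) (hh : (homologyFunctor A b).map h = 0) : h = 0 := by
  -- factor through `τ_{<b+1} V`
  have h1 : h ≫ (tt.truncGEπ (b + 1)).app V = 0 := tt.zero _ b (b + 1) (by omega)
  obtain ⟨h', hh'⟩ : ∃ h' : U ⟶ (tt.truncLT (b + 1)).obj V, h = h' ≫ (tt.truncLTι (b + 1)).app V :=
    Triangle.coyoneda_exact₂ _ (tt.triangleLTGE_distinguished (b + 1) V) h h1
  have : ((tt.truncLT (b + 1)).obj V).IsLE b := (inferInstance : tt.IsLE ((tt.truncLT (b + 1)).obj V) b)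
  have : ((tt.truncLT (b + 1)).obj V).IsGE b := (inferInstance : tt.IsGE ((tt.truncLT (b + 1)).obj V) b)
  have hι := isIso_homologyMap_truncLTι V (b + 1) b (by omega)
  have h2 : (homologyFunctor A b).map h' = 0 := by
    rw [← cancel_mono ((homologyFunctor A b).map ((tt.truncLTι (b + 1)).app V)), ← Functor.map_comp,
      ← hh', hh, zero_comp]
  -- factor through `τ_{≥b} U`
  have h3 : (tt.truncLTι b).app U ≫ h' = 0 := tt.zero _ (b - 1) b (by omega)
  obtain ⟨h'', hh''⟩ : ∃ h'' : (tt.truncGE b).obj U ⟶ (tt.truncLT (b + 1)).obj V,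
      h' = (tt.truncGEπ b).app U ≫ h'' :=
    Triangle.yoneda_exact₂ _ (tt.triangleLTGE_distinguished b U) h' h3
  have : ((tt.truncGE b).obj U).IsLE b := (inferInstance : tt.IsLE ((tt.truncGE b).obj U) b)
  have : ((tt.truncGE b).obj U).IsGE b := (inferInstance : tt.IsGE ((tt.truncGE b).obj U) b)
  have hπ := epi_homologyMap_truncGEπ U b
  have h4 : (homologyFunctor A b).map h'' = 0 := by
    rw [← cancel_epi ((homologyFunctor A b).map ((tt.truncGEπ b).app U)), ← Functor.map_comp,
      ← hh'', h2, comp_zero]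
  have h5 : h'' = 0 := eq_zero_of_homologyMap_eq_zero b h'' h4
  rw [hh', hh'', h5, comp_zero, zero_comp]

/-- a map out of `D^{≤ b}` killing `H^b` factors through `τ_{<b}`. -/
theorem exists_factor_truncLT {X Y : DerivedCategory A} (b : ℤ) [X.IsLE b] (f : X ⟶ Y)
    (hf : (homologyFunctor A b).map f = 0) :
    ∃ f' : X ⟶ (tt.truncLT b).obj Y, f = f' ≫ (tt.truncLTι b).app Y := by
  have : ((tt.truncGE b).obj Y).IsGE b := (inferInstance : tt.IsGE ((tt.truncGE b).obj Y) b)
  have h1 : f ≫ (tt.truncGEπ b).app Y = 0 := by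
    apply eq_zero_of_isLE_of_isGE b
    rw [Functor.map_comp, hf, zero_comp]
  exact Triangle.coyoneda_exact₂ _ (tt.triangleLTGE_distinguished b Y) f h1

/-- `Chain a m n g`: `g` is a composite of `n` maps, each killing `H^p` for `p < m`, through
objects of `D^{≥ a}`. -/
inductive Chain (a m : ℤ) : ℕ → ∀ {X Z : DerivedCategory A}, (X ⟶ Z) → Prop
  | nil {X Z : DerivedCategory A} (g : X ⟶ Z) : Chain a m 0 g
  | cons {X Y Z : DerivedCategory A} {n : ℕ} (f : X ⟶ Y) (g : Y ⟶ Z) : Y.IsGE a →
      (∀ p : ℤ, p < m → (homologyFunctor A p).map f = 0) → Chain a m n g → Chain a m (n + 1) (f ≫ g)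

lemma Chain.precomp {a m : ℤ} {n : ℕ} {Y Z : DerivedCategory A} {g : Y ⟶ Z} (hg : Chain a m n g)
    {W : DerivedCategory A} (w : W ⟶ Y) : Chain a m n (w ≫ g) := by
  cases hg with
  | nil g => exact Chain.nil _
  | cons f g' hY hf hg' =>
    rw [← Category.assoc]
    exact Chain.cons (w ≫ f) g' hY (fun p hp => by rw [Functor.map_comp, hf p hp, comp_zero]) hg'

/-- the ghost lemma. -/
theorem Chain.eq_zero {a m : ℤ} : ∀ (n : ℕ) {X Z : DerivedCategory A} (g : X ⟶ Z),
    Chain a m n g → X.IsGE a → X.IsLE (a + n - 1) → a + n ≤ m → g = 0 := by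
  intro n
  induction n with
  | zero =>
    intro X Z g _ hGE hLE _
    have : X.IsLE (a - 1) := by simpa using hLE
    exact (tt.isZero X (a - 1) a (by omega)).eq_of_src _ _
  | succ n ih =>
    intro X Z g hg hGE hLE hm
    cases hg with
    | cons f g' hY hf hg' =>
      rename_i Y
      have hLE' : X.IsLE (a + n) := by
        have : a + ((n + 1 : ℕ) : ℤ) - 1 = a + n := by push_cast; ring
        rw [this] at hLE
        exact hLE
      obtain ⟨f', hf'⟩ := exists_factor_truncLT (a + n) f (hf _ (by push_cast at hm; omega))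
      rw [hf', Category.assoc]
      have h1 : ((tt.truncLT (a + n)).obj Y).IsGE a :=
        (inferInstance : tt.IsGE ((tt.truncLT (a + n)).obj Y) a)
      have h2 : ((tt.truncLT (a + n)).obj Y).IsLE (a + n - 1) :=
        (inferInstance : tt.IsLE ((tt.truncLT (a + n)).obj Y) (a + n - 1))
      rw [ih _ (hg'.precomp ((tt.truncLTι (a + n)).app Y)) h1 h2 (by push_cast at hm; omega),
        comp_zero]

end Groth.Agent.Lib.Helper8.Ghost
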