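import Mathlib
import Groth.Agent.Lib.Helper8.Ghost1
import Groth.Agent.Lib.Helper8.IAmp2

/-!
# Helper8 — Ghost2: a chain of maps killing low cohomology factors through the top cohomology (S3731).
-/

open CategoryTheory CategoryTheory.Limits CategoryTheory.Pretriangulated DerivedCategory

namespace Groth.Agent.Lib.Helper8.Ghost

open Groth.Agent.Lib.Helper8.DTrunc Groth.Agent.Lib.Helper8.PAmp Groth.Agent.Lib.Helper8.IAmp

universe w v u

variable {A : Type u} [Category.{v} A] [Abelian A] [HasDerivedCategory.{w} A]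

theorem chain_factors_through_top_homology (k : ℕ)
    (K : ComposableArrows (DerivedCategory A) (2 * k))
    (hK : ∀ (i : ℕ) (hi : i ≤ 2 * k) (p : ℤ), p < 0 ∨ (k : ℤ) < p →
      IsZero ((DerivedCategory.homologyFunctor A p).obj (K.obj' i)))
    (hf : ∀ (i : ℕ) (hi : i < 2 * k) (p : ℤ), p < (k : ℤ) →
      (DerivedCategory.homologyFunctor A p).map (K.map' i (i + 1)) = 0)
    (π : K.obj' 0 ⟶ (DerivedCategory.singleFunctor A (k : ℤ)).obj
      ((DerivedCategory.homologyFunctor A (k : ℤ)).obj (K.obj' 0)))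
    (hπ : (DerivedCategory.homologyFunctor A (k : ℤ)).map π ≫
      (DerivedCategory.singleFunctorCompHomologyFunctorIso A (k : ℤ)).hom.app
        ((DerivedCategory.homologyFunctor A (k : ℤ)).obj (K.obj' 0)) = 𝟙 _) :
    ∃ φ : (DerivedCategory.singleFunctor A (k : ℤ)).obj
        ((DerivedCategory.homologyFunctor A (k : ℤ)).obj (K.obj' 0)) ⟶ K.obj' (2 * k),
      K.map' 0 (2 * k) = π ≫ φ := by
  have hGE : ∀ (i : ℕ) (hi : i ≤ 2 * k), (K.obj' i).IsGE 0 := fun i hi =>
    (isGE_iff _ 0).2 (fun p hp => hK i hi p (Or.inl hp))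
  have hchain : ∀ (n i j : ℕ) (hij : i + n = j) (hj : j ≤ 2 * k),
      Chain 0 (k : ℤ) n (K.map' i j) := by
    intro n
    induction n with
    | zero => intro i j hij hj; exact Chain.nil _
    | succ n ih =>
      intro i j hij hj
      rw [K.map'_comp i (i + 1) j]
      exact Chain.cons _ _ (hGE (i + 1) (by omega)) (hf i (by omega)) (ih (i + 1) j (by omega) hj)
  obtain ⟨C, c, δ, hT⟩ := distinguished_cocone_triangle₁ π
  have hπiso : IsIso ((homologyFunctor A (k : ℤ)).map π) := by
    have h1 : (homologyFunctor A (k : ℤ)).map π = inv ((DerivedCategory.singleFunctorCompHomologyFunctorIso A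
        (k : ℤ)).hom.app ((DerivedCategory.homologyFunctor A (k : ℤ)).obj (K.obj' 0))) := by
      rw [← cancel_mono ((DerivedCategory.singleFunctorCompHomologyFunctorIso A
        (k : ℤ)).hom.app ((DerivedCategory.homologyFunctor A (k : ℤ)).obj (K.obj' 0))), hπ,
        IsIso.inv_hom_id]
    rw [h1]
    infer_instance
  have hSz : ∀ p : ℤ, p ≠ k → IsZero ((homologyFunctor A p).obj
      ((DerivedCategory.singleFunctor A (k : ℤ)).obj
        ((DerivedCategory.homologyFunctor A (k : ℤ)).obj (K.obj' 0)))) := fun p hp =>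
    PAmp.isZero_homology_single (k : ℤ) _ p hp
  have hCz : ∀ p : ℤ, p < 0 ∨ (k : ℤ) ≤ p → IsZero ((homologyFunctor A p).obj C) := by
    intro p hp
    refine isZero_homology_obj₁ _ hT (p - 1) p (by omega) ?_ ?_
    · by_cases h : p - 1 = k
      · have : Epi ((homologyFunctor A (p - 1)).map π) := by rw [h]; infer_instance
        exact this
      · exact ⟨fun _ _ _ => (hSz (p - 1) h).eq_of_src _ _⟩
    · by_cases h : p = k
      · have : Mono ((homologyFunctor A p).map π) := by rw [h]; infer_instance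
        exact this
      · exact ⟨fun _ _ _ => (hK 0 (by omega) p (by omega)).eq_of_tgt _ _⟩
  have hCGE : C.IsGE 0 := (isGE_iff _ 0).2 (fun p hp => hCz p (Or.inl hp))
  have hCLE : C.IsLE (0 + (k : ℤ) - 1) := (isLE_iff _ _).2 (fun p hp => hCz p (Or.inr (by omega)))
  have h0 : c ≫ K.map' 0 k = 0 :=
    Chain.eq_zero k _ ((hchain k 0 k (by omega) (by omega)).precomp c) hCGE hCLE (by omega)
  have h1 : c ≫ K.map' 0 (2 * k) = 0 := by
    rw [K.map'_comp 0 k (2 * k), ← Category.assoc, h0, zero_comp]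
  exact Triangle.yoneda_exact₂ _ hT (K.map' 0 (2 * k)) h1

end Groth.Agent.Lib.Helper8.Ghost
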