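import Groth.Agent.Lib.Helper8.GrTrans1

/-!
# Helper8: objects of a Grothendieck category as directed unions of small subobjects
-/

universe w u₂

open CategoryTheory CategoryTheory.Limits

namespace Groth.Agent.Lib.Helper8.GrTrans2

variable {B : Type u₂} [Category.{w} B] [Abelian B] [IsGrothendieckAbelian.{w} B]
  {ι : Type w} (s : ι → B)

/-- a countable sum of copies of all the `s i` -/
noncomputable def V : B := ∐ (fun x : ℕ × ι => s x.2)

/-- inclusion of a summand -/
noncomputable def inc (n : ℕ) (i : ι) : s i ⟶ V s := Sigma.ι (fun x : ℕ × ι => s x.2) (n, i)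

lemma V_hom_ext {Z : B} {f g : V s ⟶ Z} (h : ∀ n i, inc s n i ≫ f = inc s n i ≫ g) : f = g :=
  Sigma.hom_ext _ _ (fun x => h x.1 x.2)

/-- maps out of `V` -/
noncomputable def Vdesc {Z : B} (f : ∀ (n : ℕ) (i : ι), s i ⟶ Z) : V s ⟶ Z :=
  Sigma.desc (fun x : ℕ × ι => f x.1 x.2)

@[reassoc (attr := simp)]
lemma inc_Vdesc {Z : B} (f : ∀ (n : ℕ) (i : ι), s i ⟶ Z) (n : ℕ) (i : ι) :
    inc s n i ≫ Vdesc s f = f n i :=
  Sigma.ι_desc (fun x : ℕ × ι => f x.1 x.2) (n, i)

open Classical in
/-- projection onto `s i` -/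
noncomputable def pr (i : ι) : V s ⟶ s i :=
  Vdesc s (fun _ i' => if h : i' = i then eqToHom (by rw [h]) else 0)

lemma inc_pr (n : ℕ) (i : ι) : inc s n i ≫ pr s i = 𝟙 _ := by
  simp [pr]

instance epi_pr (i : ι) : Epi (pr s i) := (IsSplitEpi.mk' ⟨inc s 0 i, inc_pr s 0 i⟩).epi

/-- the `k`-th "half" of `V` -/
noncomputable def e (k : ℕ) : V s ⟶ V s := Vdesc s (fun n i => inc s (2 * n + k) i)

/-- retraction onto the `k`-th half -/
noncomputable def r (k : ℕ) : V s ⟶ V s :=
  Vdesc s (fun n i => if n % 2 = k then inc s (n / 2) i else 0)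

lemma e_r (k : ℕ) (hk : k < 2) : e s k ≫ r s k = 𝟙 _ := by
  apply V_hom_ext
  intro n i
  simp only [e, r, inc_Vdesc_assoc, inc_Vdesc, Category.comp_id]
  have h1 : (2 * n + k) % 2 = k := by omega
  have h2 : (2 * n + k) / 2 = n := by omega
  rw [if_pos h1, h2]

lemma e_r_ne (k k' : ℕ) (hk : k < 2) (hkk' : k ≠ k') : e s k ≫ r s k' = 0 := by
  apply V_hom_ext
  intro n i
  simp only [e, r, inc_Vdesc_assoc, inc_Vdesc, comp_zero]
  have h1 : ¬ (2 * n + k) % 2 = k' := by omega
  rw [if_neg h1]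

/-- `V ⟶ V ⊞ V` -/
noncomputable def ρ : V s ⟶ V s ⊞ V s := biprod.lift (r s 0) (r s 1)

instance epi_ρ : Epi (ρ s) := by
  have h : biprod.desc (e s 0) (e s 1) ≫ ρ s = 𝟙 _ := by
    apply biprod.hom_ext'
    · apply biprod.hom_ext
      · simp [ρ, e_r s 0 (by omega)]
      · simp [ρ, e_r_ne s 0 1 (by omega) (by omega)]
    · apply biprod.hom_ext
      · simp [ρ, e_r_ne s 1 0 (by omega) (by omega)]
      · simp [ρ, e_r s 1 (by omega)]
  exact (IsSplitEpi.mk' ⟨_, h⟩).epi

section Directed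

variable (N : ObjectProperty B) (Y : B)

/-- the subobjects we take the union of -/
def PY (b : Subobject Y) : Prop := N (b : B) ∧ ∃ π : V s ⟶ (b : B), Epi π

variable {s N Y}

lemma PY_sup (hN_epi : ∀ {X Y : B} (p : X ⟶ Y) [Epi p], N X → N Y)
    (hN_biprod : ∀ {X Y : B}, N X → N Y → N (X ⊞ Y)) {b b' : Subobject Y}
    (h : PY s N Y b) (h' : PY s N Y b') : PY s N Y (b ⊔ b') := by
  obtain ⟨hb, π, hπ⟩ := h
  obtain ⟨hb', π', hπ'⟩ := h'
  obtain ⟨φ, hφ⟩ := GrTrans1.exists_epi_biprod_sup b b'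
  refine ⟨hN_epi φ (hN_biprod hb hb'), ρ s ≫ biprod.map π π' ≫ φ, ?_⟩
  have : Epi (biprod.map π π') := by
    rw [show biprod.map π π' = biprod.desc (π ≫ biprod.inl) (π' ≫ biprod.inr) by
      apply biprod.hom_ext' <;> simp]
    constructor
    intro Z g g' hgg'
    apply biprod.hom_ext'
    · rw [← cancel_epi π]
      simpa using congrArg (fun f => biprod.inl ≫ f) hgg'
    · rw [← cancel_epi π']
      simpa using congrArg (fun f => biprod.inr ≫ f) hgg'
  infer_instance

lemma PY_image (hN_epi : ∀ {X Y : B} (p : X ⟶ Y) [Epi p], N X → N Y)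
    (hN_s : ∀ i, N (s i)) (i : ι) (u : s i ⟶ Y) : PY s N Y (imageSubobject u) :=
  ⟨hN_epi (factorThruImageSubobject u) (hN_s i), pr s i ≫ factorThruImageSubobject u,
    inferInstance⟩

lemma iSup_PY (hsep : ∀ ⦃X Y : B⦄ (f g : X ⟶ Y), (∀ (i : ι) (h : s i ⟶ X), h ≫ f = h ≫ g) → f = g)
    (hN_epi : ∀ {X Y : B} (p : X ⟶ Y) [Epi p], N X → N Y) (hN_s : ∀ i, N (s i)) :
    (⨆ b : {b : Subobject Y // PY s N Y b}, b.1) = ⊤ := by
  set b₀ : Subobject Y := ⨆ b : {b : Subobject Y // PY s N Y b}, b.1 with hb₀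
  have hepi : Epi b₀.arrow := by
    constructor
    intro Z g g' hgg'
    apply hsep
    intro i u
    have h1 : imageSubobject u ≤ b₀ :=
      le_iSup (fun b : {b : Subobject Y // PY s N Y b} => b.1)
        ⟨imageSubobject u, PY_image hN_epi hN_s i u⟩
    obtain ⟨t, ht⟩ : ∃ t : s i ⟶ (b₀ : B), t ≫ b₀.arrow = u :=
      ⟨factorThruImageSubobject u ≫ Subobject.ofLE _ _ h1, by
        rw [Category.assoc, Subobject.ofLE_arrow, imageSubobject_arrow_comp]⟩
    rw [← ht, Category.assoc, Category.assoc, hgg']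
  have : IsIso b₀.arrow := isIso_of_mono_of_epi _
  exact Subobject.eq_top_of_isIso_arrow b₀

end Directed

/-- the hypotheses on the generating family and the class `N` -/
structure Hyp (s : ι → B) (N : ObjectProperty B) : Prop where
  sep : ∀ ⦃X Y : B⦄ (f g : X ⟶ Y), (∀ (i : ι) (h : s i ⟶ X), h ≫ f = h ≫ g) → f = g
  epi : ∀ {X Y : B} (p : X ⟶ Y) [Epi p], N X → N Y
  biprod : ∀ {X Y : B}, N X → N Y → N (X ⊞ Y)
  zero : ∀ {Z : B}, IsZero Z → N Z
  gen : ∀ i, N (s i)

section Colimit

variable (N : ObjectProperty B) (Y : B)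

/-- the index set -/
def J : Type w := Shrink.{w} {b : Subobject Y // PY s N Y b}

noncomputable instance : PartialOrder (J s N Y) where
  le a b := (equivShrink {b : Subobject Y // PY s N Y b}).symm a ≤
    (equivShrink {b : Subobject Y // PY s N Y b}).symm b
  le_refl a := le_refl _
  le_trans a b c := le_trans
  le_antisymm a b h h' := (equivShrink {b : Subobject Y // PY s N Y b}).symm.injective
    (le_antisymm h h')

/-- the subobject attached to an index -/
noncomputable def sub (j : J s N Y) : Subobject Y :=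
  ((equivShrink {b : Subobject Y // PY s N Y b}).symm j).1

lemma sub_prop (j : J s N Y) : PY s N Y (sub s N Y j) :=
  ((equivShrink {b : Subobject Y // PY s N Y b}).symm j).2

lemma sub_monotone : Monotone (sub s N Y) := fun _ _ h => h

/-- the index of a subobject -/
noncomputable def idx (b : Subobject Y) (hb : PY s N Y b) : J s N Y :=
  equivShrink {b : Subobject Y // PY s N Y b} ⟨b, hb⟩

@[simp]
lemma sub_idx (b : Subobject Y) (hb : PY s N Y b) : sub s N Y (idx s N Y b hb) = b := by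
  simp [sub, idx]

variable {s N}

lemma isDirected_J (h : Hyp s N) : IsDirected (J s N Y) (· ≤ ·) where
  directed a b := by
    refine ⟨idx s N Y (sub s N Y a ⊔ sub s N Y b)
      (PY_sup h.epi h.biprod (sub_prop s N Y a) (sub_prop s N Y b)), ?_, ?_⟩
    · change sub s N Y a ≤ sub s N Y (idx s N Y _ _)
      rw [sub_idx]
      exact le_sup_left
    · change sub s N Y b ≤ sub s N Y (idx s N Y _ _)
      rw [sub_idx]
      exact le_sup_right

lemma nonempty_J (h : Hyp s N) : Nonempty (J s N Y) := by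
  have hz : IsZero ((⊥ : Subobject Y) : B) := by
    have := Subobject.botCoeIsoZero (B := Y)
    exact IsZero.of_iso (isZero_zero B) this
  exact ⟨idx s N Y ⊥ ⟨h.zero hz, 0, ⟨fun _ _ _ => hz.eq_of_src _ _⟩⟩⟩

lemma iSup_sub (h : Hyp s N) : (⨆ j : J s N Y, sub s N Y j) = ⊤ := by
  rw [← iSup_PY (Y := Y) h.sep h.epi h.gen]
  exact (equivShrink {b : Subobject Y // PY s N Y b}).symm.iSup_comp
    (g := fun b : {b : Subobject Y // PY s N Y b} => b.1)

variable (s N)

/-- the diagram of subobjects -/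
noncomputable def Φ : J s N Y ⥤ MonoOver Y :=
  (sub_monotone s N Y).functor ⋙ Subobject.representative

lemma Φ_obj_hom (j : J s N Y) : ((Φ s N Y).obj j).obj.hom = (sub s N Y j).arrow := rfl

/-- the cocone with point `Y` -/
noncomputable def cY : Cocone (Φ s N Y ⋙ MonoOver.forget Y) where
  pt := Over.mk (𝟙 Y)
  ι :=
    { app := fun j => Over.homMk ((sub s N Y j).arrow) (Category.comp_id _)
      naturality := fun j j' h => by
        apply Over.OverMorphism.ext
        have := Over.w ((MonoOver.forget Y).map ((Φ s N Y).map h))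
        dsimp at this ⊢
        rw [Category.comp_id]
        exact this }

variable {s N}

/-- `Y` is the colimit of its small subobjects -/
noncomputable def isColimitCY (h : Hyp s N) :
    haveI := isDirected_J Y h
    haveI := nonempty_J Y h
    IsColimit ((Over.forget Y).mapCocone (cY s N Y)) := by
  haveI := isDirected_J Y h
  haveI := nonempty_J Y h
  haveI : Mono (cY s N Y).pt.hom := by
    dsimp [cY]
    infer_instance
  apply IsGrothendieckAbelian.isColimitMapCoconeOfSubobjectMkEqISup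
  have h1 : ∀ j, Subobject.mk ((Φ s N Y).obj j).obj.hom = sub s N Y j := fun j =>
    Subobject.mk_arrow (sub s N Y j)
  simp only [h1, iSup_sub Y h]
  dsimp [cY]
  exact (Subobject.top_eq_id Y).symm

end Colimit

end Groth.Agent.Lib.Helper8.GrTrans2
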