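import Groth.Agent.Lib.Helper8.GrTrans2

/-!
# Helper8: transfer of generators along a faithful exact left adjoint
-/

universe w u₁ u₂

open CategoryTheory CategoryTheory.Limits

namespace Groth.Agent.Lib.Helper8.GrTrans3

open Groth.Agent.Lib.Helper8.GrTrans2

attribute [local instance] IsFiltered.isConnected

set_option linter.unusedSectionVars false

section Generic

variable {C : Type u₂} [Category.{w} C] [Abelian C]

/-- a quotient of `V` is the cokernel of a subobject of `V` -/
lemma exists_subobject_cokernel_iso {V b : C} (π : V ⟶ b) [Epi π] :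
    ∃ K : Subobject V, Nonempty (cokernel K.arrow ≅ b) := by
  refine ⟨Subobject.mk (kernel.ι π), ⟨?_⟩⟩
  have hK : (Subobject.mk (kernel.ι π)).arrow =
      (Subobject.underlyingIso (kernel.ι π)).hom ≫ kernel.ι π :=
    (Subobject.underlyingIso_hom_comp_eq_mk _).symm
  exact cokernelIsoOfEq hK ≪≫ cokernelEpiComp _ _ ≪≫
    (colimit.isColimit _).coconePointUniqueUpToIso
      (Abelian.epiIsCokernelOfKernel _ (limit.isLimit _))

end Generic

section Sub

variable {A : Type u₁} [Category.{w} A] [Abelian A]
  {B : Type u₂} [Category.{w} B] [Abelian B]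
  (F : A ⥤ B) [F.Additive] [F.Faithful] [PreservesFiniteLimits F] [PreservesFiniteColimits F]

/-- `F` induces an order embedding on subobjects -/
lemma subobject_le_of_map_le {a : A} (S S' : Subobject a)
    (h : Subobject.mk (F.map S.arrow) ≤ Subobject.mk (F.map S'.arrow)) : S ≤ S' := by
  have h1 : S.arrow ≫ cokernel.π S'.arrow = 0 := by
    apply F.map_injective
    rw [F.map_comp, F.map_zero, ← Subobject.ofMkLEMk_comp h, Category.assoc, ← F.map_comp,
      cokernel.condition, F.map_zero, comp_zero]
  exact Subobject.le_of_comm (Abelian.monoLift S'.arrow S.arrow h1) (Abelian.monoLift_comp _ _ _)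

include F in
lemma small_subobject [WellPowered.{w} B] (a : A) : Small.{w} (Subobject a) := by
  refine small_of_injective (β := Subobject (F.obj a))
    (f := fun S => Subobject.mk (F.map S.arrow)) ?_
  intro S S' h
  exact le_antisymm (subobject_le_of_map_le F S S' h.le) (subobject_le_of_map_le F S' S h.ge)

include F in
lemma wellPowered [WellPowered.{w} B] : WellPowered.{w} A := ⟨fun a => small_subobject F a⟩

lemma isNoetherianObject_of_map (a : A) [IsNoetherianObject (F.obj a)] : IsNoetherianObject a := by
  rw [isNoetherianObject_iff_monotone_chain_condition]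
  intro f
  have hmono : Monotone (fun n => Subobject.mk (F.map (f n).arrow)) := by
    intro n m hnm
    have hle : f n ≤ f m := f.monotone hnm
    exact Subobject.mk_le_mk_of_comm (F.map (Subobject.ofLE _ _ hle)) (by
      rw [← F.map_comp, Subobject.ofLE_arrow])
  obtain ⟨n, hn⟩ := monotone_chain_condition_of_isNoetherianObject
    (⟨_, hmono⟩ : ℕ →o Subobject (F.obj a))
  refine ⟨n, fun m hm => ?_⟩
  have := hn m hm
  exact le_antisymm (subobject_le_of_map_le F _ _ this.le) (subobject_le_of_map_le F _ _ this.ge)

end Sub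

section Main

variable {A : Type u₁} [Category.{w} A] [Abelian A] [HasColimitsOfSize.{w, w} A]
  {B : Type u₂} [Category.{w} B] [Abelian B] [IsGrothendieckAbelian.{w} B]
  (F : A ⥤ B) (G : B ⥤ A) (adj : F ⊣ G) [F.Additive] [F.Faithful]
  [PreservesFiniteLimits F] [PreservesFiniteColimits F]
  [PreservesFilteredColimitsOfSize.{w, w} G]

include adj in
omit [F.Additive] [PreservesFiniteColimits F] [PreservesFilteredColimitsOfSize.{w, w} G] in
lemma ab5 : AB5OfSize.{w, w} A := ⟨fun J _ _ => by
  haveI : PreservesColimitsOfShape J F :=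
    adj.leftAdjoint_preservesColimits.preservesColimitsOfShape
  exact HasExactColimitsOfShape.domain_of_functor J F⟩

variable {ι : Type w} {s : ι → B} {N : ObjectProperty B} (h : Hyp s N) (X : A)

/-- the subobjects `X_j` of `X` -/
noncomputable abbrev Xj (j : J s N (F.obj X)) : A :=
  pullback (G.map (sub s N (F.obj X) j).arrow) (adj.unit.app X)

include adj in
omit [HasColimitsOfSize.{w, w} A] [IsGrothendieckAbelian.{w} B] [F.Additive] [F.Faithful]
  [PreservesFiniteLimits F] [PreservesFiniteColimits F]
  [PreservesFilteredColimitsOfSize.{w, w} G] in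
lemma mono_G_map {Z Z' : B} (f : Z ⟶ Z') [Mono f] : Mono (G.map f) := by
  haveI : PreservesLimitsOfSize.{0, 0} G := adj.rightAdjoint_preservesLimits
  infer_instance

/-- the cocone `G b_j ⟶ G F X` -/
noncomputable abbrev cG : Cocone (((Φ s N (F.obj X) ⋙ MonoOver.forget (F.obj X)) ⋙
    Over.forget (F.obj X)) ⋙ G) :=
  G.mapCocone ((Over.forget (F.obj X)).mapCocone (cY s N (F.obj X)))

lemma cG_ι_app (j : J s N (F.obj X)) :
    (cG F G (s := s) (N := N) X).ι.app j = G.map (sub s N (F.obj X) j).arrow := rfl

/-- the colimit presentation of `X` -/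
noncomputable def presentation : ColimitPresentation (J s N (F.obj X)) X where
  diag := pullback (cG F G (s := s) (N := N) X).ι ((Functor.const _).map (adj.unit.app X))
  ι := pullback.snd _ _
  isColimit := by
    haveI := isDirected_J (F.obj X) h
    haveI := nonempty_J (F.obj X) h
    haveI := ab5 F G adj
    exact (isColimitOfPreserves G (isColimitCY (F.obj X) h)).pullbackOfHasExactColimitsOfShape
      (adj.unit.app X)

/-- the terms of the presentation -/
noncomputable def diagIso (j : J s N (F.obj X)) :
    (presentation F G adj h X).diag.obj j ≅ Xj F G adj X j :=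
  pullbackObjIso _ _ j

lemma diagIso_inv_ι (j : J s N (F.obj X)) :
    (diagIso F G adj h X j).inv ≫ (presentation F G adj h X).ι.app j =
      pullback.snd (G.map (sub s N (F.obj X) j).arrow) (adj.unit.app X) :=
  pullbackObjIso_inv_comp_snd _ _ j

/-- `F X_j ⟶ b_j` -/
noncomputable def toSub (j : J s N (F.obj X)) :
    F.obj (Xj F G adj X j) ⟶ (sub s N (F.obj X) j : B) :=
  F.map (pullback.fst _ _) ≫ adj.counit.app _

lemma toSub_arrow (j : J s N (F.obj X)) :
    toSub F G adj X j ≫ (sub s N (F.obj X) j).arrow =
      F.map (pullback.snd (G.map (sub s N (F.obj X) j).arrow) (adj.unit.app X)) := by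
  have h1 := adj.counit.naturality (sub s N (F.obj X) j).arrow
  have h2 : F.map (adj.unit.app X) ≫ adj.counit.app (F.obj X) = 𝟙 _ :=
    adj.left_triangle_components X
  dsimp at h1
  dsimp only [toSub]
  rw [Category.assoc, ← h1, ← Category.assoc, ← F.map_comp, pullback.condition, F.map_comp,
    Category.assoc, h2, Category.comp_id]

instance mono_snd (j : J s N (F.obj X)) :
    Mono (pullback.snd (G.map (sub s N (F.obj X) j).arrow) (adj.unit.app X)) := by
  haveI := mono_G_map F G adj (sub s N (F.obj X) j).arrow
  infer_instance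

instance mono_toSub (j : J s N (F.obj X)) : Mono (toSub F G adj X j) := by
  have : Mono (toSub F G adj X j ≫ (sub s N (F.obj X) j).arrow) := by
    rw [toSub_arrow]
    infer_instance
  exact mono_of_mono _ (sub s N (F.obj X) j).arrow

section Family

variable (s) (N' : ObjectProperty A)

/-- the (large) index set of the generating family -/
def Idx₀ : Type (max u₁ u₂ w) :=
  {x : Σ K : Subobject (V s), Subobject (G.obj (cokernel K.arrow)) // N' (x.2 : A)}

include F in
lemma small_Idx₀ : Small.{w} (Idx₀ G s N') := by
  haveI : WellPowered.{w} A := wellPowered F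
  change Small.{w} {x : Σ K : Subobject (V s), Subobject (G.obj (cokernel K.arrow)) //
    N' (x.2 : A)}
  infer_instance

/-- the small index set -/
def κ : Type w := @Shrink (Idx₀ G s N') (small_Idx₀ F G s N')

/-- the equivalence with the small index set -/
noncomputable def equivκ : Idx₀ G s N' ≃ κ F G s N' := @equivShrink _ (small_Idx₀ F G s N')

/-- the underlying objects -/
noncomputable def t₀ (x : Idx₀ G s N') : A := (x.1.2 : A)

lemma t₀_prop (x : Idx₀ G s N') : N' (t₀ G s N' x) := x.2

/-- the generating family -/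
noncomputable def t (k : κ F G s N') : A := t₀ G s N' ((equivκ F G s N').symm k)

lemma t_prop (k : κ F G s N') : N' (t F G s N' k) := t₀_prop G s N' _

lemma t_equivκ (x : Idx₀ G s N') : t F G s N' (equivκ F G s N' x) = t₀ G s N' x :=
  congrArg (t₀ G s N') (Equiv.symm_apply_apply _ x)

variable {s N'}

lemma exists_iso_t [N'.IsClosedUnderIsomorphisms] (j : J s N (F.obj X))
    (hX : N' (Xj F G adj X j)) : ∃ k : κ F G s N', Nonempty (t F G s N' k ≅ Xj F G adj X j) := by
  obtain ⟨-, π, hπ⟩ := sub_prop s N (F.obj X) j
  obtain ⟨K, ⟨α⟩⟩ := exists_subobject_cokernel_iso π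
  let m : Xj F G adj X j ⟶ G.obj (cokernel K.arrow) := pullback.fst _ _ ≫ G.map α.inv
  have hm : Mono m := by
    dsimp only [m]
    infer_instance
  let S : Subobject (G.obj (cokernel K.arrow)) := Subobject.mk m
  have e : (S : A) ≅ Xj F G adj X j := Subobject.underlyingIso m
  have hS : N' (S : A) := N'.prop_of_iso e.symm hX
  let x : Idx₀ G s N' := ⟨⟨K, S⟩, hS⟩
  exact ⟨equivκ F G s N' x, ⟨eqToIso (t_equivκ F G s N' x) ≪≫ e⟩⟩

include h in
theorem separating [N'.IsClosedUnderIsomorphisms]
    (hN' : ∀ (X : A) (j : J s N (F.obj X)), N' (Xj F G adj X j)) ⦃X Y : A⦄ (f g : X ⟶ Y)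
    (hfg : ∀ (k : κ F G s N') (u : t F G s N' k ⟶ X), u ≫ f = u ≫ g) : f = g := by
  refine (presentation F G adj h X).isColimit.hom_ext (fun j => ?_)
  obtain ⟨k, ⟨e⟩⟩ := exists_iso_t F G adj X j (hN' X j)
  have h1 := hfg k (e.hom ≫ pullback.snd _ _)
  rw [Category.assoc, Category.assoc, cancel_epi] at h1
  have h2 : (presentation F G adj h X).ι.app j = (diagIso F G adj h X j).hom ≫
      pullback.snd (G.map (sub s N (F.obj X) j).arrow) (adj.unit.app X) := by
    rw [← diagIso_inv_ι, Iso.hom_inv_id_assoc]
  change (presentation F G adj h X).ι.app j ≫ f = (presentation F G adj h X).ι.app j ≫ g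
  rw [h2, Category.assoc, Category.assoc, h1]

end Family

end Main

end Groth.Agent.Lib.Helper8.GrTrans3
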