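import Groth.Agent.Lib.Helper8.GrTrans3

/-!
# Helper8: Grothendieck categories along faithful exact left adjoints
-/

universe w u₁ u₂

open CategoryTheory CategoryTheory.Limits

namespace Groth.Agent.Lib.Helper8.GrTrans4

open Groth.Agent.Lib.Helper8.GrTrans2 Groth.Agent.Lib.Helper8.GrTrans3

set_option linter.unusedSectionVars false

section Groth

variable {A : Type u₁} [Category.{w} A] [Abelian A] [HasColimitsOfSize.{w, w} A]
  {B : Type u₂} [Category.{w} B] [Abelian B] [IsGrothendieckAbelian.{w} B]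
  (F : A ⥤ B) (G : B ⥤ A) (adj : F ⊣ G) [F.Additive] [F.Faithful]
  [PreservesFiniteLimits F] [PreservesFiniteColimits F]
  [PreservesFilteredColimitsOfSize.{w, w} G]

lemma hyp_top : Hyp (fun _ : PUnit.{w + 1} => separator B) (fun _ : B => True) where
  sep X Y f g hfg := (isSeparator_def _).1 (isSeparator_separator B) f g (fun u => hfg ⟨⟩ u)
  epi _ _ _ := trivial
  biprod _ _ := trivial
  zero _ := trivial
  gen _ := trivial

include adj in
theorem isGrothendieckAbelian : IsGrothendieckAbelian.{w} A := by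
  haveI := ab5 F G adj
  have hsep := separating F G adj (hyp_top (B := B)) (N' := (⊤ : ObjectProperty A))
    (fun _ _ => trivial)
  let t := t F G (fun _ : PUnit.{w + 1} => separator B) (⊤ : ObjectProperty A)
  have h1 : ObjectProperty.IsSeparating (ObjectProperty.ofObj t) := by
    intro X Y f g hfg
    exact hsep f g (fun k u => hfg _ ⟨k⟩ u)
  haveI : HasSeparator A := ⟨⟨∐ t, h1.isSeparator_coproduct⟩⟩
  exact {}

end Groth

section Noeth

variable {B : Type u₂} [Category.{w} B] [Abelian B]
  {ι : Type w} (s : ι → B)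

lemma grothB [HasColimitsOfSize.{w, w} B] [AB5OfSize.{w, w} B]
    (hsep : ∀ ⦃X Y : B⦄ (f g : X ⟶ Y), (∀ (i : ι) (h : s i ⟶ X), h ≫ f = h ≫ g) → f = g) :
    IsGrothendieckAbelian.{w} B := by
  have h1 : ObjectProperty.IsSeparating (ObjectProperty.ofObj s) := by
    intro X Y f g hfg
    exact hsep f g (fun i u => hfg _ ⟨i⟩ u)
  haveI : HasSeparator B := ⟨⟨∐ s, h1.isSeparator_coproduct⟩⟩
  exact {}

lemma hyp_noeth [IsGrothendieckAbelian.{w} B] (hsN : ∀ i, IsNoetherianObject (s i))
    (hsep : ∀ ⦃X Y : B⦄ (f g : X ⟶ Y), (∀ (i : ι) (h : s i ⟶ X), h ≫ f = h ≫ g) → f = g) :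
    Hyp s (isNoetherianObject (C := B)) where
  sep := hsep
  epi {X Y} p _ hX := by
    haveI : IsNoetherianObject X := ⟨hX⟩
    exact (GrTrans1.isNoetherianObject_of_epi p).prop
  biprod {X Y} hX hY := by
    haveI : IsNoetherianObject X := ⟨hX⟩
    haveI : IsNoetherianObject Y := ⟨hY⟩
    exact (GrTrans1.isNoetherianObject_biprod X Y).prop
  zero hZ := (isNoetherianObject_of_isZero hZ).prop
  gen i := (hsN i).prop

variable {A : Type u₁} [Category.{w} A] [Abelian A] [HasColimitsOfSize.{w, w} A]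
  [IsGrothendieckAbelian.{w} B]
  (F : A ⥤ B) (G : B ⥤ A) (adj : F ⊣ G) [F.Additive] [F.Faithful]
  [PreservesFiniteLimits F] [PreservesFiniteColimits F]
  [PreservesFilteredColimitsOfSize.{w, w} G]
  (h : Hyp s (isNoetherianObject (C := B)))

include h in
lemma isNoetherianObject_Xj (X : A) (j : J s (isNoetherianObject (C := B)) (F.obj X)) :
    IsNoetherianObject (Xj F G adj X j) := by
  haveI : IsNoetherianObject (sub s (isNoetherianObject (C := B)) (F.obj X) j : B) :=
    ⟨(sub_prop s _ (F.obj X) j).1⟩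
  haveI : IsNoetherianObject (F.obj (Xj F G adj X j)) :=
    isNoetherianObject_of_mono (toSub F G adj X j)
  exact isNoetherianObject_of_map F _

include adj h in
theorem exists_noeth_family :
    ∃ (κ : Type w) (t : κ → A), (∀ k, IsNoetherianObject (t k)) ∧
      ∀ ⦃X Y : A⦄ (f g : X ⟶ Y), (∀ (k : κ) (u : t k ⟶ X), u ≫ f = u ≫ g) → f = g := by
  refine ⟨κ F G s (isNoetherianObject (C := A)), t F G s (isNoetherianObject (C := A)),
    fun k => ⟨t_prop F G s _ k⟩, ?_⟩
  exact separating F G adj h (N' := isNoetherianObject (C := A))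
    (fun X j => (isNoetherianObject_Xj s F G adj h X j).prop)

include adj h in
theorem isNoetherianObject_map (a : A) [IsNoetherianObject a] :
    IsNoetherianObject (F.obj a) := by
  haveI := isDirected_J (F.obj a) h
  haveI := nonempty_J (F.obj a) h
  let P := presentation F G adj h a
  let m : ∀ j : J s (isNoetherianObject (C := B)) (F.obj a), Xj F G adj a j ⟶ a :=
    fun j => pullback.snd _ _
  let S : J s (isNoetherianObject (C := B)) (F.obj a) → Subobject a := fun j => Subobject.mk (m j)
  have hι : ∀ j, P.ι.app j = (diagIso F G adj h a j).hom ≫ m j := fun j =>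
    (Iso.inv_comp_eq _).1 (diagIso_inv_ι F G adj h a j)
  have hnat : ∀ {j j' : J s (isNoetherianObject (C := B)) (F.obj a)} (g : j ⟶ j'),
      P.diag.map g ≫ P.ι.app j' = P.ι.app j := fun g => by
    have := P.ι.naturality g
    rw [this]
    exact Category.comp_id _
  have hS : Monotone S := by
    intro j j' hjj'
    refine Subobject.mk_le_mk_of_comm ((diagIso F G adj h a j).inv ≫ P.diag.map (homOfLE hjj') ≫
      (diagIso F G adj h a j').hom) ?_
    rw [Category.assoc, Category.assoc, ← hι, hnat, hι, Iso.inv_hom_id_assoc]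
  obtain ⟨j0, hj0⟩ : ∃ j0, ∀ j, ¬ S j0 < S j := by
    have hwf : WellFounded ((· > ·) : Subobject a → Subobject a → Prop) :=
      (inferInstance : WellFoundedGT (Subobject a)).wf
    obtain ⟨_, ⟨j0, rfl⟩, hmin⟩ := hwf.has_min (Set.range S) (Set.range_nonempty S)
    exact ⟨j0, fun j hlt => hmin (S j) ⟨j, rfl⟩ hlt⟩
  have hle : ∀ j, S j ≤ S j0 := by
    intro j
    obtain ⟨j', hj, hj0'⟩ := exists_ge_ge j j0
    have h1 : S j0 ≤ S j' := hS hj0'
    have h2 : S j' = S j0 := by
      by_contra hne
      exact hj0 j' (lt_of_le_of_ne h1 (Ne.symm hne))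
    exact (hS hj).trans h2.le
  let f : ∀ j, Xj F G adj a j ⟶ Xj F G adj a j0 := fun j => Subobject.ofMkLEMk _ _ (hle j)
  have hf : ∀ j, f j ≫ m j0 = m j := fun j => Subobject.ofMkLEMk_comp (hle j)
  let c : Cocone P.diag :=
    { pt := Xj F G adj a j0
      ι :=
        { app := fun j => (diagIso F G adj h a j).hom ≫ f j
          naturality := fun j j' g => by
            rw [← cancel_mono (m j0)]
            dsimp
            rw [Category.comp_id, Category.assoc, Category.assoc, Category.assoc, hf, hf,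
              ← hι, ← hι, hnat] } }
  let φ := P.isColimit.desc c
  have hφ : φ ≫ m j0 = 𝟙 a := by
    refine P.isColimit.hom_ext (fun j => ?_)
    have h1 : P.ι.app j ≫ φ = (diagIso F G adj h a j).hom ≫ f j := P.isColimit.fac c j
    calc P.ι.app j ≫ φ ≫ m j0 = (P.ι.app j ≫ φ) ≫ m j0 := (Category.assoc _ _ _).symm
      _ = ((diagIso F G adj h a j).hom ≫ f j) ≫ m j0 := by rw [h1]
      _ = (diagIso F G adj h a j).hom ≫ m j := by rw [Category.assoc, hf]
      _ = P.ι.app j := (hι j).symm
      _ = P.ι.app j ≫ 𝟙 a := (Category.comp_id _).symm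
  haveI : IsIso (m j0) := by
    haveI : IsSplitEpi (m j0) := IsSplitEpi.mk' ⟨φ, hφ⟩
    exact isIso_of_mono_of_isSplitEpi _
  haveI : IsNoetherianObject (sub s (isNoetherianObject (C := B)) (F.obj a) j0 : B) :=
    ⟨(sub_prop s _ (F.obj a) j0).1⟩
  exact isNoetherianObject_of_mono (inv (F.map (m j0)) ≫ toSub F G adj a j0)

end Noeth

end Groth.Agent.Lib.Helper8.GrTrans4
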