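import Mathlib

/-!
# Helper8: homology commutes with colimits of shape `J` when `colim` is exact
-/

universe w w' v u

open CategoryTheory CategoryTheory.Limits

namespace Groth.Agent.Lib.Helper8.HColim

variable {A : Type u} [Category.{v} A] [Abelian A] {J : Type w} [Category.{w'} J]
  [HasColimitsOfShape J A]

/-- the natural transformation `ev_j ⟶ colim` -/
noncomputable def ιNat (j : J) : (evaluation J A).obj j ⟶ (colim : (J ⥤ A) ⥤ A) where
  app F := colimit.ι F j
  naturality F G α := by simp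

instance : (colim : (J ⥤ A) ⥤ A).Additive := by
  have : (colim : (J ⥤ A) ⥤ A).IsLeftAdjoint := ⟨_, ⟨colimConstAdj⟩⟩
  infer_instance

/-- a colimit cocone for a functor, re-typed -/
noncomputable def isColimitAux (F : J ⥤ A) (F' : J ⥤ A) (e : F' ≅ F) (c : Cocone F')
    (i : c.pt ≅ colimit F) (hι : ∀ j, c.ι.app j ≫ i.hom = e.hom.app j ≫ colimit.ι F j) :
    IsColimit c := by
  refine IsColimit.ofIsoColimit ((IsColimit.precomposeHomEquiv e _).symm (colimit.isColimit F)) ?_
  refine Cocone.ext i.symm (fun j => ?_)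
  dsimp
  rw [← hι j, Category.assoc, Iso.hom_inv_id, Category.comp_id]

section

variable (𝒮 : ShortComplex (J ⥤ A))

/-- the family of short complexes associated to a short complex of functors -/
noncomputable abbrev G : J ⥤ ShortComplex A := (ShortComplex.functorEquivalence J A).functor.obj 𝒮

/-- the legs of the cocone -/
noncomputable def leg (j : J) : (G 𝒮).obj j ⟶ 𝒮.map colim := 𝒮.mapNatTrans (ιNat j)

lemma leg_τ₁ (j : J) : (leg 𝒮 j).τ₁ = colimit.ι 𝒮.X₁ j := rfl
lemma leg_τ₂ (j : J) : (leg 𝒮 j).τ₂ = colimit.ι 𝒮.X₂ j := rfl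
lemma leg_τ₃ (j : J) : (leg 𝒮 j).τ₃ = colimit.ι 𝒮.X₃ j := rfl

lemma G_map_τ₁ {j j' : J} (u : j ⟶ j') : ((G 𝒮).map u).τ₁ = 𝒮.X₁.map u := rfl
lemma G_map_τ₂ {j j' : J} (u : j ⟶ j') : ((G 𝒮).map u).τ₂ = 𝒮.X₂.map u := rfl
lemma G_map_τ₃ {j j' : J} (u : j ⟶ j') : ((G 𝒮).map u).τ₃ = 𝒮.X₃.map u := rfl

lemma leg_w {j j' : J} (u : j ⟶ j') : (G 𝒮).map u ≫ leg 𝒮 j' = leg 𝒮 j := by
  ext
  · exact colimit.w 𝒮.X₁ u
  · exact colimit.w 𝒮.X₂ u
  · exact colimit.w 𝒮.X₃ u

/-- the cocone with point `𝒮.map colim` -/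
noncomputable def coc : Cocone (G 𝒮) where
  pt := 𝒮.map colim
  ι :=
    { app := fun j => leg 𝒮 j
      naturality := fun j j' u => (leg_w 𝒮 u).trans (Category.comp_id _).symm }

noncomputable def isColimitCoc : IsColimit (coc 𝒮) := by
  refine ShortComplex.isColimitOfIsColimitπ _ ?_ ?_ ?_
  · exact isColimitAux 𝒮.X₁ _ (NatIso.ofComponents (fun j => Iso.refl _) (by
      intro j j' u
      exact (Category.comp_id _).trans (Category.id_comp _).symm)) _ (Iso.refl _)
      (fun j => (Category.comp_id _).trans (Category.id_comp _).symm)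
  · exact isColimitAux 𝒮.X₂ _ (NatIso.ofComponents (fun j => Iso.refl _) (by
      intro j j' u
      exact (Category.comp_id _).trans (Category.id_comp _).symm)) _ (Iso.refl _)
      (fun j => (Category.comp_id _).trans (Category.id_comp _).symm)
  · exact isColimitAux 𝒮.X₃ _ (NatIso.ofComponents (fun j => Iso.refl _) (by
      intro j j' u
      exact (Category.comp_id _).trans (Category.id_comp _).symm)) _ (Iso.refl _)
      (fun j => (Category.comp_id _).trans (Category.id_comp _).symm)

variable [HasExactColimitsOfShape J A]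

/-- the pointwise homology -/
noncomputable def θ (j : J) :
    ((G 𝒮).obj j).homology ≅ 𝒮.homology.obj j :=
  𝒮.mapHomologyIso ((evaluation J A).obj j)

lemma θ_naturality {j j' : J} (u : j ⟶ j') :
    ShortComplex.homologyMap ((G 𝒮).map u) ≫ (θ 𝒮 j').hom = (θ 𝒮 j).hom ≫ 𝒮.homology.map u := by
  have := ShortComplex.homologyMap_mapNatTrans 𝒮 ((evaluation J A).map u)
  have h2 : ShortComplex.homologyMap (𝒮.mapNatTrans ((evaluation J A).map u)) ≫
      (𝒮.mapHomologyIso ((evaluation J A).obj j')).hom =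
      (𝒮.mapHomologyIso ((evaluation J A).obj j)).hom ≫
        ((evaluation J A).map u).app 𝒮.homology := by
    rw [this, Category.assoc, Category.assoc, Iso.inv_hom_id, Category.comp_id]
  exact h2

lemma θ_inv_naturality {j j' : J} (u : j ⟶ j') :
    𝒮.homology.map u ≫ (θ 𝒮 j').inv = (θ 𝒮 j).inv ≫ ShortComplex.homologyMap ((G 𝒮).map u) := by
  rw [← cancel_mono (θ 𝒮 j').hom, Category.assoc, Category.assoc, Iso.inv_hom_id,
    Category.comp_id, θ_naturality, Iso.inv_hom_id_assoc]

/-- the homology of the colimit -/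
noncomputable def e : (𝒮.map colim).homology ≅ colimit 𝒮.homology :=
  𝒮.mapHomologyIso colim

lemma homologyMap_leg (j : J) :
    ShortComplex.homologyMap (leg 𝒮 j) =
      (θ 𝒮 j).hom ≫ colimit.ι 𝒮.homology j ≫ (e 𝒮).inv :=
  ShortComplex.homologyMap_mapNatTrans 𝒮 (ιNat (A := A) j)

section

variable {𝒮} (s : Cocone (G 𝒮 ⋙ ShortComplex.homologyFunctor A))

/-- typed legs of a cocone -/
def sι (j : J) : ((G 𝒮).obj j).homology ⟶ s.pt := s.ι.app j

lemma sι_w {j j' : J} (u : j ⟶ j') :
    ShortComplex.homologyMap ((G 𝒮).map u) ≫ sι s j' = sι s j := s.w u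

/-- the cocone induced on the pointwise homology -/
noncomputable def s' : Cocone 𝒮.homology where
  pt := s.pt
  ι :=
    { app := fun j => (θ 𝒮 j).inv ≫ sι s j
      naturality := fun j j' u => by
        refine Eq.trans ?_ (Category.comp_id _).symm
        rw [← Category.assoc, θ_inv_naturality, Category.assoc, sι_w] }

/-- the induced map from the colimit of the pointwise homology -/
noncomputable def desc' : colimit 𝒮.homology ⟶ s.pt := colimit.desc 𝒮.homology (s' s)

lemma ι_desc' (j : J) : colimit.ι 𝒮.homology j ≫ desc' s = (θ 𝒮 j).inv ≫ sι s j :=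
  colimit.ι_desc _ _

lemma fac_aux (j : J) :
    ShortComplex.homologyMap (leg 𝒮 j) ≫ (e 𝒮).hom ≫ desc' s = sι s j := by
  rw [homologyMap_leg, Category.assoc, Category.assoc, Iso.inv_hom_id_assoc, ι_desc',
    Iso.hom_inv_id_assoc]

lemma uniq_aux (m : (𝒮.map colim).homology ⟶ s.pt)
    (hm : ∀ j, ShortComplex.homologyMap (leg 𝒮 j) ≫ m = sι s j) :
    m = (e 𝒮).hom ≫ desc' s := by
  rw [← cancel_epi (e 𝒮).inv, Iso.inv_hom_id_assoc]
  apply colimit.hom_ext
  intro j
  rw [ι_desc', ← hm j, homologyMap_leg, Category.assoc, Category.assoc, Iso.inv_hom_id_assoc]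

end

/-- the homology functor maps the colimit cocone `coc 𝒮` to a colimit cocone -/
noncomputable def isColimitMapCoc :
    IsColimit ((ShortComplex.homologyFunctor A).mapCocone (coc 𝒮)) where
  desc s := (e 𝒮).hom ≫ desc' s
  fac s j := fac_aux s j
  uniq s m hm := uniq_aux s m hm

end

variable [HasExactColimitsOfShape J A]

instance : PreservesColimitsOfShape J (ShortComplex.homologyFunctor A) where
  preservesColimit {F} := by
    let 𝒮 := (ShortComplex.functorEquivalence J A).inverse.obj F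
    have : PreservesColimit (G 𝒮) (ShortComplex.homologyFunctor A) :=
      preservesColimit_of_preserves_colimit_cocone (isColimitCoc 𝒮) (isColimitMapCoc 𝒮)
    have e : G 𝒮 ≅ F := (ShortComplex.functorEquivalence J A).counitIso.app F
    exact preservesColimit_of_iso_diagram _ e

end Groth.Agent.Lib.Helper8.HColim
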