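import Mathlib
import Groth.Agent.Lib.Helper8.RGam9
import Groth.Agent.Lib.Helper8.RGam7
import Groth.Agent.Lib.Helper8.Res6
import Groth.Agent.Lib.Helper8.Gor1
import Groth.Agent.Lib.Helper26.HullCriterion
import Groth.Agent.Lib.Helper26.MatlisComplete
import Groth.Agent.S0302

/-! # Helper8 — LocDual1: **local cohomology of a normalized dualizing complex** (S1718): `H^0_m(ω) ≅ E` and
`H^i_m(ω) = 0` for `i ≠ 0` (`HDI_of_normalized`). Route: `H^q_m(ω) = H^q(RΓ_m ω)` (RGam3), vanishing from S1749,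
so `RΓ_m ω ≅ H[0]`; `Hom_A(A/m^n, H) ≃ Hom_D(A/m^n, RΓ_m ω) ≃ Hom_D(A/m^n, ω) ≃ Hom_A(A/m^n, E)` (RΓ adjunction RGam7
+ S1749), so `H` is an injective hull of `κ` by helper26's length criterion; uniqueness of hulls (S0302).
Also: `subsingleton_colimit_of_subsingleton`, `homSingleEquiv`, `torsCoh_inD`. -/

set_option autoImplicit false

universe u w v' u'

open CategoryTheory CategoryTheory.Limits CategoryTheory.Pretriangulated Opposite DerivedCategory

attribute [local instance] HasDerivedCategory.standard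

namespace Groth.Agent.Lib.Helper8.Bidual

open Groth.Agent.Lib.Helper8 Groth.Agent.Lib.Helper8.RGam

section Gen

variable {A : Type u} [CommRing A]

/-- a colimit of zero modules is zero -/
lemma subsingleton_colimit_of_subsingleton {J : Type u'} [Category.{v'} J]
    (F : J ⥤ ModuleCat.{w} A) [HasColimit F] (h : ∀ j, Subsingleton (F.obj j)) :
    Subsingleton (colimit F : ModuleCat.{w} A) := by
  have hz : IsZero (colimit F) := by
    rw [IsZero.iff_id_eq_zero]
    apply colimit.hom_ext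
    intro j
    have : IsZero (F.obj j) := ModuleCat.isZero_of_subsingleton _
    exact this.eq_of_src _ _
  exact ModuleCat.subsingleton_of_isZero hz

/-- `Hom_A(N, H) ≃ₗ Hom_D(N[0], H[0])` -/
noncomputable def homSingleEquiv (N H : Type u) [AddCommGroup N] [Module A N] [AddCommGroup H]
    [Module A H] : (N →ₗ[A] H) ≃ₗ[A] (Dual.inD A N ⟶ Dual.inD A H) :=
  (ModuleCat.homLinearEquiv (S := A) (M := ModuleCat.of A N) (N := ModuleCat.of A H)).symm.trans
    (LinearEquiv.ofBijective
      ((singleFunctor (ModuleCat.{u} A) 0).mapLinearMap A (X := ModuleCat.of A N)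
        (Y := ModuleCat.of A H))
      ⟨(singleFunctor (ModuleCat.{u} A) 0).map_injective,
        (singleFunctor (ModuleCat.{u} A) 0).map_surjective⟩)

/-- a power torsion module has power torsion cohomology -/
lemma torsCoh_inD (I : Ideal A) (N : Type u) [AddCommGroup N] [Module A N]
    (hN : LocCoh.IsPowerTorsion I N) : TorsCoh I (Dual.inD A N) := by
  intro i
  by_cases hi : i = 0
  · subst hi
    let e : Dual.HD A (Dual.inD A N) 0 ≃ₗ[A] N :=
      ((singleFunctorCompHomologyFunctorIso (ModuleCat.{u} A) 0).app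
        (ModuleCat.of A N)).toLinearEquiv
    intro x
    obtain ⟨n, hn⟩ := hN (e x)
    refine ⟨n, fun a ha => e.injective ?_⟩
    rw [map_smul, hn a ha, map_zero]
  · haveI := ModuleCat.subsingleton_of_isZero (isZero_HD_inD (A := A) N i hi)
    intro x
    exact ⟨0, fun a _ => Subsingleton.elim _ _⟩

end Gen

section Main

variable {A : Type u} [CommRing A] [IsLocalRing A] [IsNoetherianRing A]

/-- **S1718**: for a normalized dualizing complex `ω` over a noetherian local ring,
`H^0_m(ω) ≅ E` and `H^i_m(ω) = 0` for `i ≠ 0` -/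
theorem HDI_of_normalized (ω : Dual.D A) (hω : Dual.IsDualizing A ω)
    (hn : Dual.IsNormalized A ω) (E : Type u) [AddCommGroup E] [Module A E]
    (f : IsLocalRing.ResidueField A →ₗ[A] E) (hf : InjHull.IsInjectiveHull f) :
    Nonempty (Dual2.HDI A (IsLocalRing.maximalIdeal A) ω 0 ≃ₗ[A] E) ∧
      ∀ i : ℤ, i ≠ 0 → Subsingleton (Dual2.HDI A (IsLocalRing.maximalIdeal A) ω i) := by
  haveI : DRing.HasRgammaI (IsLocalRing.maximalIdeal A) := hasRgammaI _
  have hfl : ∀ n : ℕ, IsFiniteLength A (A ⧸ IsLocalRing.maximalIdeal A ^ n) :=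
    Groth.Agent.Lib.Helper26.Matlis.isFiniteLength_quotient_pow
  -- vanishing outside degree `0`
  have h2 : ∀ i : ℤ, i ≠ 0 → Subsingleton (Dual2.HDI A (IsLocalRing.maximalIdeal A) ω i) := by
    intro i hi
    apply subsingleton_colimit_of_subsingleton
    intro j
    exact (ext_finiteLength_normalized ω hω hn E f hf
      (A ⧸ IsLocalRing.maximalIdeal A ^ j.unop.unop) (hfl _)).1 i hi
  refine ⟨?_, h2⟩
  set G : Dual.D A := (DRing.RgammaI (IsLocalRing.maximalIdeal A)).obj ω with hG
  have eHD : ∀ q : ℤ, Nonempty (Dual.HD A G q ≃ₗ[A]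
      Dual2.HDI A (IsLocalRing.maximalIdeal A) ω q) :=
    fun q => nonempty_HD_RgammaI_equiv_HDI (IsLocalRing.maximalIdeal A) q ω
  have hz : ∀ q : ℤ, q ≠ 0 → IsZero ((homologyFunctor (ModuleCat.{u} A) q).obj G) := by
    intro q hq
    obtain ⟨e⟩ := eHD q
    haveI := h2 q hq
    haveI : Subsingleton (Dual.HD A G q) := e.toEquiv.subsingleton
    exact ModuleCat.isZero_of_subsingleton _
  haveI : G.IsGE 0 := (isGE_iff G 0).2 (fun i hi => hz i (by omega))
  haveI : G.IsLE 0 := (isLE_iff G 0).2 (fun i hi => hz i (by omega))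
  obtain ⟨e1⟩ := Groth.Agent.Lib.Helper16.DerT.nonempty_iso_single_homology G 0
  have htors : LocCoh.IsPowerTorsion (IsLocalRing.maximalIdeal A) (Dual.HD A G 0) :=
    torsCoh_RgammaI (IsLocalRing.maximalIdeal A) ω 0
  have hlen : ∀ n : ℕ, Module.length A (A ⧸ IsLocalRing.maximalIdeal A ^ n) =
      Module.length A ((A ⧸ IsLocalRing.maximalIdeal A ^ n) →ₗ[A] Dual.HD A G 0) := by
    intro n
    have hL : TorsCoh (IsLocalRing.maximalIdeal A)
        (Dual.inD A (A ⧸ IsLocalRing.maximalIdeal A ^ n)) := by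
      apply torsCoh_inD
      intro x
      refine ⟨n, fun a ha => ?_⟩
      obtain ⟨y, rfl⟩ := Ideal.Quotient.mk_surjective x
      change (Ideal.Quotient.mk (IsLocalRing.maximalIdeal A ^ n)) (a * y) = 0
      rw [Ideal.Quotient.eq_zero_iff_mem]
      exact Ideal.mul_mem_right _ _ ha
    let c1 := homSingleEquiv (A := A) (A ⧸ IsLocalRing.maximalIdeal A ^ n) (Dual.HD A G 0)
    let c2 : (Dual.inD A (A ⧸ IsLocalRing.maximalIdeal A ^ n) ⟶ Dual.inD A (Dual.HD A G 0)) ≃ₗ[A]
        (Dual.inD A (A ⧸ IsLocalRing.maximalIdeal A ^ n) ⟶ G) := postcompEquivLin e1.symm _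
    let c3 : (Dual.inD A (A ⧸ IsLocalRing.maximalIdeal A ^ n) ⟶ G) ≃ₗ[A]
        (Dual.inD A (A ⧸ IsLocalRing.maximalIdeal A ^ n) ⟶ ω) :=
      LinearEquiv.ofBijective (Linear.rightComp A _
        ((DRing.RgammaIε (IsLocalRing.maximalIdeal A)).app ω))
        (bijective_comp_ε (IsLocalRing.maximalIdeal A) _ hL ω)
    obtain ⟨c4⟩ := (ext_finiteLength_normalized ω hω hn E f hf
      (A ⧸ IsLocalRing.maximalIdeal A ^ n) (hfl n)).2
    rw [(c1.trans (c2.trans (c3.trans c4))).length_eq,
      Groth.Agent.Lib.Helper26.Matlis.length_linearMap hf _ (hfl n)]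
  obtain ⟨f', hf'⟩ := Groth.Agent.Lib.Helper26.HullCriterion.exists_hull_of_lengths A
    (Dual.HD A G 0) htors hlen
  obtain ⟨e, -⟩ := Groth.Agent.S0302.result A (IsLocalRing.ResidueField A) (Dual.HD A G 0) E
    f' hf' f hf
  obtain ⟨e0⟩ := eHD 0
  exact ⟨e0.symm.trans e⟩

end Main

end Groth.Agent.Lib.Helper8.Bidual
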