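import Mathlib
import Groth.Prelude.Def_DualLC
import Groth.Prelude.Def_DRing3
import Groth.Agent.Lib.Helper8.RGam7
import Groth.Agent.Lib.Helper8.DCmpF
import Groth.Agent.Lib.Helper8.DCmpE

/-!
# Helper8 — RGam8: Greenlees–May duality over a Noetherian ring: `RΓ_I(K^) ≅ RΓ_I(K)` and
`(RΓ_I K)^ ≅ K^`
-/

set_option autoImplicit false
set_option linter.unusedSectionVars false

universe u

open CategoryTheory CategoryTheory.Limits DerivedCategory CochainComplex

attribute [local instance] HasDerivedCategory.standard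

namespace Groth.Agent.Lib.Helper8.RGam

open Groth.Agent.Lib.Helper2.LCCech1 Groth.Agent.Lib.Helper2.LCCech3 Groth.Agent.Lib.Helper2.LCCech4
  Groth.Agent.Lib.Helper2.LCInj1 Groth.Agent.Lib.Helper2.LCInj2 DerCA
  Groth.Agent.Lib.Helper8.DCmpA Groth.Agent.Lib.Helper8.DCmpB Groth.Agent.Lib.Helper8.DCmpC
  Groth.Agent.Lib.Helper8.DCmpE

variable {A : Type u} [CommRing A] (I : Ideal A)

/-- `RΓ_I` kills the objects on which some `f ∈ I` acts invertibly -/
theorem isZero_RgammaI_of_isLoc [DRing.HasRgammaI I] (Y : Dual.D A) (f : A) (hf : f ∈ I)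
    (hY : IsLoc f Y) : IsZero ((DRing.RgammaI I).obj Y) := by
  obtain ⟨J, hJ, ⟨e⟩⟩ := KInjM.exists_kinj_rep Y
  haveI := hJ
  have hJl : IsLoc f (Q.obj J : Dual.D A) := hY.of_iso e.symm
  have h0 : (f • 𝟙 (Q.obj J : Dual.D A)) = Q.map (f • 𝟙 J) := by
    rw [Functor.map_smul, CategoryTheory.Functor.map_id]
  have h4 : QuasiIso (f • 𝟙 J) := by
    rw [← isIso_Q_map_iff_quasiIso, ← h0]
    exact hJl
  obtain ⟨e', he⟩ := (IsKInjective.quasiIso_iff (f • 𝟙 J)).1 h4
  let e'' := (DRing.gammaI I).mapHomotopyEquiv e'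
  have h5 : QuasiIso (((DRing.gammaI I).mapHomologicalComplex (ComplexShape.up ℤ)).map
      (f • 𝟙 J)) := by
    rw [← he]
    exact (inferInstance : QuasiIso e''.hom)
  have h6 : ((DRing.gammaI I).mapHomologicalComplex (ComplexShape.up ℤ)).map (f • 𝟙 J) =
      f • 𝟙 (gammaCx I J) := by
    ext n x
    rfl
  rw [h6] at h5
  have h7 : (gammaCx I J).Acyclic :=
    acyclic_of_quasiIso_smul _ f (fun q z => exists_pow_smul_eq_zero hf (J.X q) z)
  obtain ⟨e1⟩ := nonempty_rgammaIso I J
  exact ((isZero_Q_obj_of_acyclic _ h7).of_iso e1).of_iso ((DRing.RgammaI I).mapIso e.symm)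

section Noeth

variable [IsNoetherianRing A] [DRing.HasRgammaI I]

lemma hom_eq_zero_of_torsCoh_of_isLoc (L : Dual.D A) (hL : TorsCoh I L) (Y : Dual.D A) (f : A)
    (hf : f ∈ I) (hY : IsLoc f Y) (φ : L ⟶ Y) : φ = 0 := by
  haveI := isIso_RgammaIε_of_torsion I L hL
  have h1 := (DRing.RgammaIε I).naturality φ
  have h2 : (DRing.RgammaI I).map φ = 0 := (isZero_RgammaI_of_isLoc I Y f hf hY).eq_of_tgt _ _
  rw [h2, zero_comp] at h1
  exact (cancel_epi ((DRing.RgammaIε I).app L)).1 (h1.symm.trans comp_zero.symm)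

/-- along a chain of one-element completions, maps from objects with torsion cohomology
correspond bijectively -/
lemma bijective_comp_of_isChain (L : Dual.D A) (hL : TorsCoh I L) {fs : List A}
    {X Y : Dual.D A} {η : X ⟶ Y} (h : IsChain fs X Y η) (hfs : ∀ f ∈ fs, f ∈ I) :
    Function.Bijective (fun ψ : L ⟶ X => ψ ≫ η) := by
  induction h with
  | nil X =>
    exact ⟨fun ψ ψ' h => by simpa using h, fun ψ => ⟨ψ, Category.comp_id ψ⟩⟩
  | cons f fs X Y η c _ ih =>
    have hf : f ∈ I := hfs f List.mem_cons_self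
    have h2 := ih (fun g hg => hfs g (List.mem_cons_of_mem _ hg))
    have hT := Pretriangulated.rot_of_distTriang _ c.dist₂
    have h1 := bijective_comp_of_triangle _ hT L
      (fun φ => hom_eq_zero_of_torsCoh_of_isLoc I L hL _ f hf (c.isLoc_T₀.shift 1) φ)
      (fun φ => hom_eq_zero_of_torsCoh_of_isLoc I L hL _ f hf ((c.isLoc_T₀.shift 1).shift (-1)) φ)
    have : (fun ψ : L ⟶ X => ψ ≫ η ≫ c.η) =
        (fun ψ : L ⟶ Y => ψ ≫ c.η) ∘ (fun ψ : L ⟶ X => ψ ≫ η) := by
      funext ψ
      exact (Category.assoc _ _ _).symm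
    rw [this]
    exact h1.comp h2

/-- a Yoneda-type criterion -/
lemma isIso_of_bijective_comp {C : Type*} [Category C] {X Y : C} (f : X ⟶ Y)
    (hX : Function.Injective (fun ψ : X ⟶ X => ψ ≫ f))
    (hY : Function.Surjective (fun ψ : Y ⟶ X => ψ ≫ f)) : IsIso f := by
  obtain ⟨g, hg⟩ := hY (𝟙 Y)
  refine ⟨g, ?_, hg⟩
  apply hX
  simp only [Category.assoc, Category.id_comp]
  have : g ≫ f = 𝟙 Y := hg
  rw [this, Category.comp_id]

/-- `RΓ_I` inverts a map which is bijective on maps from objects with torsion cohomology -/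
lemma isIso_RgammaI_map {X Y : Dual.D A} (η : X ⟶ Y)
    (h : ∀ L : Dual.D A, TorsCoh I L → Function.Bijective (fun ψ : L ⟶ X => ψ ≫ η)) :
    IsIso ((DRing.RgammaI I).map η) := by
  have key : ∀ L : Dual.D A, TorsCoh I L →
      Function.Bijective (fun ψ : L ⟶ (DRing.RgammaI I).obj X => ψ ≫ (DRing.RgammaI I).map η) := by
    intro L hL
    have h1 := bijective_comp_ε I L hL X
    have h2 := bijective_comp_ε I L hL Y
    have h3 := h L hL
    have hc : (fun ψ : L ⟶ (DRing.RgammaI I).obj Y => ψ ≫ (DRing.RgammaIε I).app Y) ∘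
        (fun ψ : L ⟶ (DRing.RgammaI I).obj X => ψ ≫ (DRing.RgammaI I).map η) =
        (fun ψ : L ⟶ X => ψ ≫ η) ∘
          (fun ψ : L ⟶ (DRing.RgammaI I).obj X => ψ ≫ (DRing.RgammaIε I).app X) := by
      funext ψ
      have := (DRing.RgammaIε I).naturality η
      simp only [Function.comp_apply, Category.assoc]
      rw [this]
      rfl
    have h4 : Function.Bijective ((fun ψ : L ⟶ (DRing.RgammaI I).obj Y =>
        ψ ≫ (DRing.RgammaIε I).app Y) ∘
        (fun ψ : L ⟶ (DRing.RgammaI I).obj X => ψ ≫ (DRing.RgammaI I).map η)) := by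
      rw [hc]
      exact h3.comp h1
    exact (Function.Bijective.of_comp_iff' h2 _).1 h4
  exact isIso_of_bijective_comp _ (key _ (torsCoh_RgammaI I X)).1 (key _ (torsCoh_RgammaI I Y)).2

/-- dual of `bijective_comp_of_triangle` -/
lemma bijective_precomp_of_triangle (T : Pretriangulated.Triangle (Dual.D A))
    (hT : T ∈ distTriang _) (L : Dual.D A)
    (h3 : ∀ φ : T.obj₃ ⟶ L, φ = 0) (h3' : ∀ φ : T.obj₃⟦(-1 : ℤ)⟧ ⟶ L, φ = 0) :
    Function.Bijective (fun g : T.obj₂ ⟶ L => T.mor₁ ≫ g) := by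
  constructor
  · intro g g' h
    rw [← sub_eq_zero]
    have h0 : T.mor₁ ≫ (g - g') = 0 := by
      rw [Preadditive.comp_sub]
      exact sub_eq_zero.2 h
    obtain ⟨k, hk⟩ := Pretriangulated.Triangle.yoneda_exact₂ _ hT (g - g') h0
    rw [hk, h3 k, comp_zero]
  · intro g
    have h0 : T.invRotate.mor₁ ≫ g = 0 := h3' _
    obtain ⟨k, hk⟩ := Pretriangulated.Triangle.yoneda_exact₂ _
      (Pretriangulated.inv_rot_of_distTriang _ hT) g h0
    exact ⟨k, hk.symm⟩

/-- maps from `J` to a derived complete object are determined by their restriction to the torsion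
subcomplexes -/
theorem bijective_precomp_tincl (J : DRing.Cx A) (hJ : Div J) (L : Dual.D A)
    (hL : DRing.IsDerivedComplete I L) :
    ∀ l : List A, (∀ g ∈ l, g ∈ I) →
      Function.Bijective (fun g : (Q.obj J : Dual.D A) ⟶ L => Q.map (tincl l J) ≫ g)
  | [] => fun _ => by
    have : IsIso (tincl [] J) := isIso_subCxι_nil J
    have : IsIso (Q.map (tincl [] J) : (Q.obj _ : Dual.D A) ⟶ _) := inferInstance
    exact ⟨fun ψ ψ' h => (cancel_epi _).1 h, fun ψ => ⟨inv (Q.map (tincl [] J)) ≫ ψ, by simp⟩⟩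
  | f :: l => fun hl => by
    have ih := bijective_precomp_tincl J hJ L hL l (fun g hg => hl g (List.mem_cons_of_mem _ hg))
    have hf : f ∈ I := hl f List.mem_cons_self
    have hS := torSC_shortExact hJ f l
    have hT := DerivedCategory.triangleOfSES_distinguished hS
    have hW : IsLoc f (Q.obj ((locCx (Submonoid.powers f)).obj (torL l J)) : Dual.D A) :=
      isLoc_toD_of_bijective _ f (bijSmul_locCx f (torL l J))
    have hLf : IsCompl f L := (isDerivedComplete_iff_forall_isCompl I L).1 hL f hf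
    have h1 := bijective_precomp_of_triangle _ hT L (fun φ => hLf _ hW φ)
      (fun φ => hLf _ (hW.shift (-1)) φ)
    have h4 : tincl (f :: l) J = torIncl f l J ≫ tincl l J := by
      ext n x
      rfl
    have h5 : (fun g : (Q.obj J : Dual.D A) ⟶ L => Q.map (tincl (f :: l) J) ≫ g) =
        (fun g : (Q.obj (torL l J) : Dual.D A) ⟶ L => Q.map (torIncl f l J) ≫ g) ∘
          (fun g : (Q.obj J : Dual.D A) ⟶ L => Q.map (tincl l J) ≫ g) := by
      funext g
      simp only [Function.comp_apply, h4, Functor.map_comp, Category.assoc]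
    rw [h5]
    exact h1.comp ih

/-- precomposition with `ε_K` is bijective on maps to derived complete objects -/
theorem bijective_precomp_ε (K L : Dual.D A) (hL : DRing.IsDerivedComplete I L) :
    Function.Bijective (fun g : K ⟶ L => (DRing.RgammaIε I).app K ≫ g) := by
  obtain ⟨fs, hfs⟩ := exists_list_span I
  subst hfs
  obtain ⟨J, hJ, hJ', ⟨e⟩⟩ := KInjM.exists_kinj_rep_inj K
  haveI := hJ
  have h1 := bijective_precomp_tincl (Ideal.span {y | y ∈ fs}) J (div_of_injective J hJ') L hL fs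
    (fun g hg => Ideal.subset_span (show g ∈ {y | y ∈ fs} from hg))
  obtain ⟨θ, hθ⟩ := exists_iso_comp_tincl fs J
  have h3 : (DRing.RgammaIε (Ideal.span {y | y ∈ fs})).app K =
      (DRing.RgammaI _).map e.inv ≫ (DRing.RgammaIε _).app (Q.obj J) ≫ e.hom :=
    app_eq_conj _ e
  have h4 : (fun g : K ⟶ L => (DRing.RgammaIε (Ideal.span {y | y ∈ fs})).app K ≫ g) =
      (fun g : Q.obj (torL fs J) ⟶ L => ((DRing.RgammaI _).map e.inv ≫ θ.hom) ≫ g) ∘
      (fun g : (Q.obj J : Dual.D A) ⟶ L => Q.map (tincl fs J) ≫ g) ∘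
      (fun g : K ⟶ L => e.hom ≫ g) := by
    funext g
    simp only [Function.comp_apply, h3, hθ, Category.assoc]
  rw [h4]
  refine Function.Bijective.comp ?_ (Function.Bijective.comp h1 ?_)
  · exact ⟨fun χ χ' h => (cancel_epi _).1 h,
      fun χ => ⟨inv ((DRing.RgammaI (Ideal.span {y | y ∈ fs})).map e.inv ≫ θ.hom) ≫ χ, by simp⟩⟩
  · exact ⟨fun χ χ' h => (cancel_epi e.hom).1 h, fun χ => ⟨e.inv ≫ χ, by simp⟩⟩

variable [DRing.HasDerivedCompletion I]

/-- **S1814** (Greenlees–May over a Noetherian ring) -/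
theorem greenlees_may (K : Dual.D A) :
    Nonempty ((DRing.RgammaI I).obj ((DRing.derivedCompletion I).obj K).obj ≅
      (DRing.RgammaI I).obj K) ∧
    Nonempty ((DRing.derivedCompletion I).obj ((DRing.RgammaI I).obj K) ≅
      (DRing.derivedCompletion I).obj K) := by
  constructor
  · obtain ⟨fs, hfs⟩ := exists_list_span I
    subst hfs
    obtain ⟨Y, η, hch⟩ := exists_chain fs K
    have hYc : DRing.IsDerivedComplete (Ideal.span {y | y ∈ fs}) Y :=
      (isDerivedComplete_iff_isCompl _ Y).2 hch.isCompl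
    have hB : ∀ L : Dual.D A, DRing.IsDerivedComplete (Ideal.span {y | y ∈ fs}) L →
        Function.Bijective (fun g : Y ⟶ L => η ≫ g) :=
      fun L hL => hch.bijective L ((isDerivedComplete_iff_isCompl _ L).1 hL)
    obtain ⟨e, -⟩ := exists_iso_of_reflection _ K Y η hYc hB
    haveI := isIso_RgammaI_map (Ideal.span {y | y ∈ fs}) η (fun L hL =>
      bijective_comp_of_isChain _ L hL hch
        (fun f hf => Ideal.subset_span (show f ∈ {y | y ∈ fs} from hf)))
    exact ⟨(DRing.RgammaI _).mapIso e ≪≫ (asIso ((DRing.RgammaI _).map η)).symm⟩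
  · let C := (DRing.derivedCompletion I).obj K
    have hC : DRing.IsDerivedComplete I C.obj := C.property
    have hB : ∀ L : Dual.D A, DRing.IsDerivedComplete I L →
        Function.Bijective (fun g : C.obj ⟶ L =>
          ((DRing.RgammaIε I).app K ≫ DRing.toDerivedCompletion I K) ≫ g) := by
      intro L hL
      have h1 := bijective_unit_comp I K L hL
      have h2 := bijective_precomp_ε I K L hL
      have : (fun g : C.obj ⟶ L =>
          ((DRing.RgammaIε I).app K ≫ DRing.toDerivedCompletion I K) ≫ g) =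
          (fun g : K ⟶ L => (DRing.RgammaIε I).app K ≫ g) ∘
            (fun g : C.obj ⟶ L => DRing.toDerivedCompletion I K ≫ g) := by
        funext g
        exact Category.assoc _ _ _
      rw [this]
      exact h2.comp h1
    obtain ⟨e, -⟩ := exists_iso_of_reflection I ((DRing.RgammaI I).obj K) C.obj _ hC hB
    exact ⟨(DRing.IsDerivedComplete I).isoMk e⟩

end Noeth

end Groth.Agent.Lib.Helper8.RGam
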