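import Mathlib
import Groth.Agent.Lib.Helper8.LocDual1
import Groth.Agent.Lib.Helper8.PAmp5
import Groth.Agent.Lib.Helper8.RGam8
import Groth.Agent.Lib.Helper8.Gor2
import Groth.Agent.Lib.Helper8.PCNoeth
import Groth.Agent.S7048
import Groth.Agent.S7054

/-! # Helper8 — LocDual2: **local duality over a complete noetherian local ring** (S1761):
`Hom_D(K, ω[-i]) ≃ₗ Hom_A(H^i_m(K), E)` for every `K` in `D(A)` (`nonempty_hom_equiv_dual_HDI`), via
`Hom_A(H^i(RΓ_m K), E) ≃ Hom_D(RΓ_m K[i], E[0]) ≃ Hom_D(RΓ_m K[i], RΓ_m ω) ≃ Hom_D(RΓ_m K[i], ω)` (RΓ adjunction, RGam7)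
`≃ Hom_D(K, ω[-i])` (Greenlees–May, RGam8; `ω[-i]` is derived complete by S7048/S7054).
Tools: `eq_zero_of_homologyMap_eq_zero_of_injective`, `exists_hom_to_injective`, `homToInjEquiv`
(`Hom_D(X, E[0]) ≃ₗ Hom_A(H^0 X, E)` for `E` injective), `torsCoh_shift`, `nonempty_RgammaI_normalized_iso`
(`RΓ_m ω ≅ E[0]`). -/

set_option autoImplicit false

universe u w v' u'

open CategoryTheory CategoryTheory.Limits CategoryTheory.Pretriangulated Opposite DerivedCategory

attribute [local instance] HasDerivedCategory.standard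

namespace Groth.Agent.Lib.Helper8.Bidual

open Groth.Agent.Lib.Helper8 Groth.Agent.Lib.Helper8.RGam Groth.Agent.Lib.Helper8.DTrunc

section Gen

variable {C : Type u'} [Category.{v'} C] [Abelian C] [HasDerivedCategory.{w} C]

/-- for `N` injective, a map `X ⟶ N[-n]` inducing zero on `H^n` vanishes -/
theorem eq_zero_of_homologyMap_eq_zero_of_injective (n : ℤ) (N : C) [Injective N]
    (X : DerivedCategory C) (ξ : X ⟶ (singleFunctor C n).obj N)
    (h : (homologyFunctor C n).map ξ = 0) : ξ = 0 := by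
  have hT := tt.triangleLTGE_distinguished n X
  have : tt.IsLE ((tt.truncLT n).obj X) (n - 1) := inferInstance
  have : tt.IsGE ((singleFunctor C n).obj N) n := inferInstanceAs (((singleFunctor C n).obj N).IsGE n)
  have h1 : (tt.truncLTι n).app X ≫ ξ = 0 := tt.zero _ (n - 1) n (by omega)
  obtain ⟨(ξ' : (tt.truncGE n).obj X ⟶ (singleFunctor C n).obj N), hξ'⟩ :=
    Triangle.yoneda_exact₂ _ hT ξ h1
  have hξ'2 : ξ = (tt.truncGEπ n).app X ≫ ξ' := hξ'
  have hepi := epi_homologyMap_truncGEπ X n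
  have h2 : (homologyFunctor C n).map ξ' = 0 := by
    rw [← cancel_epi ((homologyFunctor C n).map ((tt.truncGEπ n).app X)), ← Functor.map_comp,
      ← hξ'2, h, comp_zero]
  have hKge : tt.IsGE ((tt.truncGE n).obj X) n := inferInstance
  have hT2 := tt.triangleLTGE_distinguished (n + 1) ((tt.truncGE n).obj X)
  have hA : tt.IsGE ((tt.truncLT (n + 1)).obj ((tt.truncGE n).obj X)) n := inferInstance
  have hB : tt.IsLE ((tt.truncLT (n + 1)).obj ((tt.truncGE n).obj X)) n := inferInstance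
  have h3 : (tt.truncLTι (n + 1)).app ((tt.truncGE n).obj X) ≫ ξ' = 0 := by
    haveI : ((tt.truncLT (n + 1)).obj ((tt.truncGE n).obj X)).IsGE n := hA
    haveI : ((tt.truncLT (n + 1)).obj ((tt.truncGE n).obj X)).IsLE n := hB
    apply eq_zero_of_homologyMap_eq_zero n
    have h5 : (homologyFunctor C n).map ((tt.truncLTι (n + 1)).app ((tt.truncGE n).obj X) ≫ ξ') =
        (homologyFunctor C n).map ((tt.truncLTι (n + 1)).app ((tt.truncGE n).obj X)) ≫
          (homologyFunctor C n).map ξ' := Functor.map_comp _ _ _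
    rw [h5, h2]
    exact comp_zero
  obtain ⟨(ξ'' : (tt.truncGE (n + 1)).obj ((tt.truncGE n).obj X) ⟶ (singleFunctor C n).obj N),
    hξ''⟩ := Triangle.yoneda_exact₂ _ hT2 ξ' h3
  have hξ''2 : ξ' = (tt.truncGEπ (n + 1)).app ((tt.truncGE n).obj X) ≫ ξ'' := hξ''
  have hC : tt.IsGE ((tt.truncGE (n + 1)).obj ((tt.truncGE n).obj X)) (n + 1) := inferInstance
  haveI : ((tt.truncGE (n + 1)).obj ((tt.truncGE n).obj X)).IsGE (n + 1) := hC
  have h4 : ξ'' = 0 := PAmp.hom_single_injective_eq_zero n N _ (n + 1) (by omega) ξ''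
  rw [hξ'2, hξ''2, h4]
  have h6 : (tt.truncGEπ (n + 1)).app ((tt.truncGE n).obj X) ≫
      (0 : (tt.truncGE (n + 1)).obj ((tt.truncGE n).obj X) ⟶ (singleFunctor C n).obj N) = 0 :=
    comp_zero
  rw [h6]
  exact comp_zero

/-- for `N` injective, every map `H^n(X) ⟶ N` is induced by a map `X ⟶ N[-n]` -/
theorem exists_hom_to_injective (n : ℤ) (N : C) [Injective N] (X : DerivedCategory C)
    (φ : (homologyFunctor C n).obj X ⟶ N) :
    ∃ ξ : X ⟶ (singleFunctor C n).obj N,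
      (homologyFunctor C n).map ξ = φ ≫ (singleFunctorCompHomologyFunctorIso C n).inv.app N := by
  have hiso := DRing4.isIso_homologyMap_truncGEπ X n
  set K := (tt.truncGE n).obj X with hK
  have hKge : tt.IsGE K n := inferInstance
  haveI : K.IsGE n := hKge
  obtain ⟨ξ', hξ'⟩ := PAmp.exists_extend_to_injective n N K
    (inv ((homologyFunctor C n).map ((tt.truncGEπ n).app X)) ≫ φ)
  refine ⟨(tt.truncGEπ n).app X ≫ ξ', ?_⟩
  rw [Functor.map_comp, hξ', Category.assoc, IsIso.hom_inv_id_assoc]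

end Gen

section Lin

variable {A : Type u} [CommRing A]

/-- `Hom_D(X, E[0]) → Hom_A(H^0(X), E)` -/
noncomputable def homToInjLin (X : Dual.D A) (E : Type u) [AddCommGroup E] [Module A E] :
    (X ⟶ Dual.inD A E) →ₗ[A] (Dual.HD A X 0 →ₗ[A] E) :=
  (ModuleCat.homLinearEquiv (S := A) (M := (homologyFunctor (ModuleCat.{u} A) 0).obj X)
      (N := ModuleCat.of A E)).toLinearMap ∘ₗ
    (Linear.rightComp A ((homologyFunctor (ModuleCat.{u} A) 0).obj X)
      ((singleFunctorCompHomologyFunctorIso (ModuleCat.{u} A) 0).hom.app (ModuleCat.of A E))) ∘ₗ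
    ((homologyFunctor (ModuleCat.{u} A) 0).mapLinearMap A (X := X) (Y := Dual.inD A E))

lemma homToInjLin_apply (X : Dual.D A) (E : Type u) [AddCommGroup E] [Module A E]
    (ξ : X ⟶ Dual.inD A E) :
    homToInjLin X E ξ = ((homologyFunctor (ModuleCat.{u} A) 0).map ξ ≫
      (singleFunctorCompHomologyFunctorIso (ModuleCat.{u} A) 0).hom.app (ModuleCat.of A E)).hom :=
  rfl

lemma homToInjLin_bijective (X : Dual.D A) (E : Type u) [AddCommGroup E] [Module A E]
    [Module.Injective A E] : Function.Bijective (homToInjLin X E) := by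
  haveI : Injective (ModuleCat.of A E) := Module.injective_object_of_injective_module A E
  constructor
  · rw [← LinearMap.ker_eq_bot, LinearMap.ker_eq_bot']
    intro ξ hξ
    rw [homToInjLin_apply] at hξ
    have h1 : (homologyFunctor (ModuleCat.{u} A) 0).map ξ ≫
        (singleFunctorCompHomologyFunctorIso (ModuleCat.{u} A) 0).hom.app (ModuleCat.of A E) = 0 :=
      ModuleCat.hom_ext hξ
    have h2 : (homologyFunctor (ModuleCat.{u} A) 0).map ξ = 0 := by
      have h3 : (homologyFunctor (ModuleCat.{u} A) 0).map ξ =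
          ((homologyFunctor (ModuleCat.{u} A) 0).map ξ ≫
            (singleFunctorCompHomologyFunctorIso (ModuleCat.{u} A) 0).hom.app (ModuleCat.of A E)) ≫
            (singleFunctorCompHomologyFunctorIso (ModuleCat.{u} A) 0).inv.app (ModuleCat.of A E) := by
        rw [Category.assoc, Iso.hom_inv_id_app]
        exact (Category.comp_id _).symm
      rw [h3, h1]
      exact zero_comp
    exact eq_zero_of_homologyMap_eq_zero_of_injective 0 (ModuleCat.of A E) X ξ h2
  · intro φ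
    obtain ⟨ξ, hξ⟩ := exists_hom_to_injective 0 (ModuleCat.of A E) X (ModuleCat.ofHom φ)
    refine ⟨ξ, ?_⟩
    rw [homToInjLin_apply, hξ, Category.assoc, Iso.inv_hom_id_app]
    rfl

/-- for an injective module `E`: `Hom_D(X, E[0]) ≃ₗ Hom_A(H^0(X), E)` -/
noncomputable def homToInjEquiv (X : Dual.D A) (E : Type u) [AddCommGroup E] [Module A E]
    [Module.Injective A E] : (X ⟶ Dual.inD A E) ≃ₗ[A] (Dual.HD A X 0 →ₗ[A] E) :=
  LinearEquiv.ofBijective (homToInjLin X E) (homToInjLin_bijective X E)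

end Lin

section LD

variable {A : Type u} [CommRing A]

/-- shifts preserve torsion cohomology -/
lemma torsCoh_shift (I : Ideal A) {L : Dual.D A} (hL : TorsCoh I L) (n : ℤ) :
    TorsCoh I (L⟦n⟧) := by
  intro i x
  let φ := (RAdj.HDShiftIso L n i).toLinearEquiv
  obtain ⟨k, hk⟩ := hL (n + i) (φ x)
  refine ⟨k, fun a ha => φ.injective ?_⟩
  rw [map_smul, hk a ha, map_zero]

variable [IsLocalRing A] [IsNoetherianRing A]

/-- `RΓ_m ω ≅ E[0]` for a normalized dualizing complex -/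
theorem nonempty_RgammaI_normalized_iso [DRing.HasRgammaI (IsLocalRing.maximalIdeal A)]
    (ω : Dual.D A) (hω : Dual.IsDualizing A ω)
    (hn : Dual.IsNormalized A ω) (E : Type u) [AddCommGroup E] [Module A E]
    (f : IsLocalRing.ResidueField A →ₗ[A] E) (hf : InjHull.IsInjectiveHull f) :
    Nonempty ((DRing.RgammaI (IsLocalRing.maximalIdeal A)).obj ω ≅ Dual.inD A E) := by
  obtain ⟨⟨e⟩, h2⟩ := HDI_of_normalized ω hω hn E f hf
  set G : Dual.D A := (DRing.RgammaI (IsLocalRing.maximalIdeal A)).obj ω with hG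
  have eHD : ∀ q : ℤ, Nonempty (Dual.HD A G q ≃ₗ[A]
      Dual2.HDI A (IsLocalRing.maximalIdeal A) ω q) :=
    fun q => nonempty_HD_RgammaI_equiv_HDI (IsLocalRing.maximalIdeal A) q ω
  have hz : ∀ q : ℤ, q ≠ 0 → IsZero ((homologyFunctor (ModuleCat.{u} A) q).obj G) := by
    intro q hq
    obtain ⟨e'⟩ := eHD q
    haveI := h2 q hq
    haveI : Subsingleton (Dual.HD A G q) := e'.toEquiv.subsingleton
    exact ModuleCat.isZero_of_subsingleton _
  haveI : G.IsGE 0 := (isGE_iff G 0).2 (fun i hi => hz i (by omega))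
  haveI : G.IsLE 0 := (isLE_iff G 0).2 (fun i hi => hz i (by omega))
  obtain ⟨e1⟩ := Groth.Agent.Lib.Helper16.DerT.nonempty_iso_single_homology G 0
  obtain ⟨e0⟩ := eHD 0
  exact ⟨e1 ≪≫ (singleFunctor (ModuleCat.{u} A) 0).mapIso (e0.trans e).toModuleIso⟩

/-- **local duality over a complete local ring** (S1761): `Hom_D(K, ω[-i]) ≃ Hom_A(H^i_m(K), E)`
for every `K` in `D(A)` -/
theorem nonempty_hom_equiv_dual_HDI [IsAdicComplete (IsLocalRing.maximalIdeal A) A]
    (ω : Dual.D A) (hω : Dual.IsDualizing A ω)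
    (hn : Dual.IsNormalized A ω) (E : Type u) [AddCommGroup E] [Module A E]
    (f : IsLocalRing.ResidueField A →ₗ[A] E) (hf : InjHull.IsInjectiveHull f)
    (K : Dual.D A) (i : ℤ) :
    Nonempty ((K ⟶ ω⟦(-i)⟧) ≃ₗ[A]
      (Dual2.HDI A (IsLocalRing.maximalIdeal A) K i →ₗ[A] E)) := by
  haveI : DRing.HasRgammaI (IsLocalRing.maximalIdeal A) := hasRgammaI _
  set R : Dual.D A := (DRing.RgammaI (IsLocalRing.maximalIdeal A)).obj K with hR
  -- `ω[-i]` is derived complete
  obtain ⟨a, b, hab⟩ := hω.finite_injective_dimension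
  have hbdd := EFB.hbdd_of_hinj ω a b hab
  have hpc : DRing.IsPseudoCoherent' A ω :=
    PCNoeth.isPseudoCoherent'_of_finite_homology ω ⟨b, fun j hj => hbdd j (Or.inr hj)⟩
      hω.finite_cohomology
  have hcomp : DRing.IsDerivedComplete (IsLocalRing.maximalIdeal A) (ω⟦(-i)⟧) :=
    DCmpE.isDerivedComplete_shift _ (Groth.Agent.S7054.result _
      (Groth.Agent.S7048.result (IsLocalRing.maximalIdeal A) A) ω hpc) (-i)
  let c1 : (K ⟶ ω⟦(-i)⟧) ≃ₗ[A] (R ⟶ ω⟦(-i)⟧) :=
    LinearEquiv.ofBijective (Linear.leftComp A (ω⟦(-i)⟧)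
      ((DRing.RgammaIε (IsLocalRing.maximalIdeal A)).app K))
      (bijective_precomp_ε (IsLocalRing.maximalIdeal A) K _ hcomp)
  let z : (ω⟦(-i)⟧)⟦i⟧ ≅ ω := (shiftFunctorCompIsoId (Dual.D A) (-i) i (by omega)).app ω
  let c2 : (R ⟶ ω⟦(-i)⟧) ≃ₗ[A] (R⟦i⟧ ⟶ ω) :=
    (EFB.shiftEquivLin i R (ω⟦(-i)⟧)).trans (postcompEquivLin z (R⟦i⟧))
  have hL : TorsCoh (IsLocalRing.maximalIdeal A) (R⟦i⟧) :=
    torsCoh_shift _ (torsCoh_RgammaI (IsLocalRing.maximalIdeal A) K) i
  let c3 : (R⟦i⟧ ⟶ (DRing.RgammaI (IsLocalRing.maximalIdeal A)).obj ω) ≃ₗ[A] (R⟦i⟧ ⟶ ω) :=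
    LinearEquiv.ofBijective (Linear.rightComp A _
      ((DRing.RgammaIε (IsLocalRing.maximalIdeal A)).app ω))
      (bijective_comp_ε (IsLocalRing.maximalIdeal A) _ hL ω)
  obtain ⟨j⟩ := nonempty_RgammaI_normalized_iso ω hω hn E f hf
  let c4 : (R⟦i⟧ ⟶ (DRing.RgammaI (IsLocalRing.maximalIdeal A)).obj ω) ≃ₗ[A]
      (R⟦i⟧ ⟶ Dual.inD A E) := postcompEquivLin j (R⟦i⟧)
  haveI : Module.Injective A E := hf.isInjective
  let c5 := homToInjEquiv (R⟦i⟧) E
  obtain ⟨e0⟩ := nonempty_HD_RgammaI_equiv_HDI (IsLocalRing.maximalIdeal A) i K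
  let c6 : Dual.HD A (R⟦i⟧) 0 ≃ₗ[A] Dual2.HDI A (IsLocalRing.maximalIdeal A) K i :=
    (RAdj.HDShiftIso R i 0).toLinearEquiv.trans ((HDCongr R (by omega)).trans e0)
  exact ⟨c1.trans (c2.trans (c3.symm.trans (c4.trans (c5.trans (LinearEquiv.congrLeft E A c6)))))⟩

end LD

end Groth.Agent.Lib.Helper8.Bidual
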