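import Mathlib
import Groth.Agent.Lib.Helper8.LocDual2
import Groth.Agent.Lib.Helper2.LCCech4

/-! # Helper8 — LocDual3: Mathlib's local cohomology of a module is `HDI` of the module in degree `0`
(`nonempty_localCohomology_equiv_HDI`, through helper2's Čech description and RGam9), `HDI` is invariant under
isomorphism (`nonempty_HDI_congr`), and **Grothendieck local duality over a complete local ring** for modules (S0374):
`Hom_D(M[0], ω[-i]) ≃ₗ Hom_A(H^i_m(M), E)` (`nonempty_ext_equiv_dual_localCohomology`). -/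

set_option autoImplicit false

universe u

open CategoryTheory CategoryTheory.Limits CategoryTheory.Pretriangulated Opposite DerivedCategory

attribute [local instance] HasDerivedCategory.standard

namespace Groth.Agent.Lib.Helper8.Bidual

open Groth.Agent.Lib.Helper8 Groth.Agent.Lib.Helper8.RGam Groth.Agent.Lib.Helper2.LCCech1
  Groth.Agent.Lib.Helper2.LCCech4 DerCA

section Bridge

variable {A : Type u} [CommRing A]

/-- `HDI` is invariant under isomorphisms -/
lemma nonempty_HDI_congr (I : Ideal A) {K K' : Dual.D A} (e : K ≅ K') (q : ℤ) :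
    Nonempty (Dual2.HDI A I K q ≃ₗ[A] Dual2.HDI A I K' q) := by
  let e4 : colimit (hdiDiag I q K) ≅ colimit (hdiDiag I q K') :=
    HasColimit.isoOfNatIso (Functor.isoWhiskerLeft _
      ((linearYoneda A (Dual.D A)).mapIso ((CategoryTheory.shiftFunctor (Dual.D A) q).mapIso e)))
  exact ⟨e4.toLinearEquiv⟩

variable [IsNoetherianRing A]

/-- Mathlib's local cohomology of a module is the `HDI` of the module placed in degree `0` -/
theorem nonempty_localCohomology_equiv_HDI (I : Ideal A) (M : Type u) [AddCommGroup M]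
    [Module A M] (n : ℕ) :
    Nonempty (LocCoh.H I n M ≃ₗ[A] Dual2.HDI A I (Dual.inD A M) (n : ℤ)) := by
  obtain ⟨fs, rfl⟩ := exists_list_span I
  obtain ⟨e1⟩ := extCechH_equiv fs (ModuleCat.of A M) n
  have key : ∀ K : DRing.Cx A, K = cechCx
      ((HomologicalComplex.single (ModuleCat.{u} A) (ComplexShape.up ℤ) 0).obj
        (ModuleCat.of A M)) fs →
      Nonempty (K.homology (n : ℤ) ≃ₗ[A]
        (Dual2.HDI A (Ideal.span {y | y ∈ fs})
          (Q.obj ((HomologicalComplex.single (ModuleCat.{u} A) (ComplexShape.up ℤ) 0).obj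
            (ModuleCat.of A M))) (n : ℤ) : ModuleCat.{u + 1} A)) := by
    intro K hK
    subst hK
    exact nonempty_HDI_equiv_cech fs _ (n : ℤ)
  obtain ⟨e2⟩ := key _ (extCech_eq (ModuleCat.of A M) fs)
  obtain ⟨e3⟩ := nonempty_HDI_congr (Ideal.span {y | y ∈ fs})
    ((singleFunctorIsoCompQ (ModuleCat.{u} A) 0).app (ModuleCat.of A M)).symm (n : ℤ)
  exact ⟨e1.symm.trans (e2.trans e3)⟩

end Bridge

section LD

variable {A : Type u} [CommRing A] [IsLocalRing A] [IsNoetherianRing A]

/-- **S0374**: Grothendieck local duality over a complete local ring, for finite modules -/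
theorem nonempty_ext_equiv_dual_localCohomology [IsAdicComplete (IsLocalRing.maximalIdeal A) A]
    (ω : Dual.D A) (hω : Dual.IsDualizing A ω)
    (hn : Dual.IsNormalized A ω) (E : Type u) [AddCommGroup E] [Module A E]
    (f : IsLocalRing.ResidueField A →ₗ[A] E) (hf : InjHull.IsInjectiveHull f)
    (M : Type u) [AddCommGroup M] [Module A M] (i : ℕ) :
    Nonempty ((Dual.inD A M ⟶ ω⟦(-(i : ℤ))⟧) ≃ₗ[A]
      (LocCoh.H (IsLocalRing.maximalIdeal A) i M →ₗ[A] E)) := by
  obtain ⟨c⟩ := nonempty_hom_equiv_dual_HDI ω hω hn E f hf (Dual.inD A M) (i : ℤ)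
  obtain ⟨b⟩ := nonempty_localCohomology_equiv_HDI (IsLocalRing.maximalIdeal A) M i
  exact ⟨c.trans (LinearEquiv.congrLeft E A b.symm)⟩

end LD

end Groth.Agent.Lib.Helper8.Bidual
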