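import Mathlib
import Groth.Prelude.Def_DRing4
import Groth.Agent.Lib.Helper8.RHomK3

/-!
# Helper8 — RHomK4: `Hom•(P, -)` preserves quasi-isomorphisms for `P` K-projective; consequently
`RHom(P, L) = Hom•(P, L)` (S6996).
-/

set_option autoImplicit false

universe u

open CategoryTheory CategoryTheory.Limits DerivedCategory
  CochainComplex CochainComplex.HomComplex

attribute [local instance] HasDerivedCategory.standard

namespace Groth.Agent.Lib.Helper8.RHomK

section General

variable {C : Type*} [Category C] [Abelian C]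

lemma acyclic_shift {X : CochainComplex C ℤ} (hX : X.Acyclic) (n : ℤ) : (X⟦n⟧).Acyclic := by
  rw [← HomotopyCategory.quotient_obj_mem_subcategoryAcyclic_iff_acyclic] at hX ⊢
  exact ObjectProperty.prop_of_iso _
    (((HomotopyCategory.quotient C (.up ℤ)).commShiftIso n).symm.app X)
    ((HomotopyCategory.subcategoryAcyclic C).le_shift n _ hX)

/-- a cocycle from a K-projective complex to an acyclic complex is a coboundary -/
lemma eq_δ_of_cocycle_of_isKProjective {P X : CochainComplex C ℤ} {n : ℤ}
    (z : Cocycle P X n) [P.IsKProjective] (hX : X.Acyclic) (m : ℤ) (hm : m + 1 = n) :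
    ∃ (α : Cochain P X m), δ m n α = z.1 := by
  obtain ⟨φ, hφ⟩ := (Cocycle.equivHom ..).surjective (z.rightShift n 0 (zero_add n))
  rw [Cocycle.ext_iff] at hφ
  have hφ' : Cochain.ofHom φ = z.1.rightShift n 0 (zero_add n) := hφ
  obtain ⟨h⟩ := IsKProjective.nonempty_homotopy_zero φ (acyclic_shift hX n)
  obtain ⟨f, hf⟩ := Cochain.equivHomotopy _ _ h
  simp only [Int.reduceNeg, Cochain.ofHom_zero, add_zero] at hf
  refine ⟨n.negOnePow • Cochain.rightUnshift f m (by lia), ?_⟩
  apply (Cochain.rightShiftAddEquiv _ _ _ n 0 (by simp)).injective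
  change (δ m n (n.negOnePow • Cochain.rightUnshift f m (by lia))).rightShift n 0 (by simp) =
    z.1.rightShift n 0 (by simp)
  rw [← hφ', hf, δ_units_smul, Cochain.rightShift_units_smul,
    Cochain.δ_rightUnshift _ _ _ _ 0 (by simp)]
  simp [smul_smul]

/-- A morphism of cochain complexes is a quasi-isomorphism iff its mapping cone is acyclic. -/
theorem quasiIso_iff_acyclic_mappingCone {K L : CochainComplex C ℤ} (φ : K ⟶ L) :
    QuasiIso φ ↔ (mappingCone φ).Acyclic := by
  rw [← HomologicalComplex.mem_quasiIso_iff, ← HomotopyCategory.quotient_map_mem_quasiIso_iff,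
    HomotopyCategory.quasiIso_eq_trW_subcategoryAcyclic,
    ← HomotopyCategory.quotient_obj_mem_subcategoryAcyclic_iff_acyclic]
  exact (HomotopyCategory.subcategoryAcyclic C).trW_iff_of_distinguished
    (mappingCone.triangleh φ) (HomotopyCategory.mappingCone_triangleh_distinguished φ)

end General

variable {A : Type u} [CommRing A]

lemma acyclic_homCx_of_isKProjective (P : DRing.Cx A) [P.IsKProjective] (X : DRing.Cx A)
    (hX : X.Acyclic) : (DRing.homCx P X).Acyclic := by
  intro n
  rw [HomologicalComplex.exactAt_iff' _ (n - 1) n (n + 1) (by simp) (by simp),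
    ShortComplex.moduleCat_exact_iff]
  intro (w : Cochain P X n) (hw : δ n (n + 1) w = 0)
  obtain ⟨α, hα⟩ := eq_δ_of_cocycle_of_isKProjective (Cocycle.mk w (n + 1) rfl hw) hX (n - 1)
    (by omega)
  exact ⟨α, hα⟩

lemma quasiIso_homCxMap_of_isKProjective (P : DRing.Cx A) [P.IsKProjective] {L L' : DRing.Cx A}
    (j : L ⟶ L') [hj : QuasiIso j] : QuasiIso (DRing.homCxMap P j) := by
  rw [quasiIso_iff_acyclic_mappingCone] at hj ⊢
  have h := acyclic_homCx_of_isKProjective P _ hj
  intro n
  exact (h n).of_iso (coneIso P j)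

variable (P : DRing.Cx A) [DRing.HasRHomCx P]

/-- `RHom(P, L) ≅ Hom•(P, L)` for `P` K-projective -/
theorem nonempty_rhom_iso_of_isKProjective [P.IsKProjective] (L : DRing.Cx A) :
    Nonempty ((DRing.RHomCx P).obj (Q.obj L) ≅ Q.obj (DRing.homCx P L)) := by
  obtain ⟨I, j, hI, hj⟩ := KInjM.exists_kinj L
  have h1 : QuasiIso (DRing.homCxMap P j) := quasiIso_homCxMap_of_isKProjective P j
  have h2 : IsIso (Q.map j) := by rw [isIso_Q_map_iff_quasiIso]; exact hj
  have h3 : IsIso (Q.map (DRing.homCxMap P j)) := by rw [isIso_Q_map_iff_quasiIso]; exact h1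
  exact ⟨(DRing.RHomCx P).mapIso (asIso (Q.map j)) ≪≫ rhomIso P I ≪≫
    (asIso (Q.map (DRing.homCxMap P j))).symm⟩

end Groth.Agent.Lib.Helper8.RHomK
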