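import Mathlib
import Groth.Prelude.Def_DRing4
import Groth.Agent.Lib.Helper8.RHomK7
import Groth.Agent.Lib.Helper8.RHomK4
import Groth.Agent.Lib.Helper8.PAmp1

/-!
# Helper8 — RHomK11: `RHom(E, -)` can be computed from a K-projective model `P → E` of the first
variable: `RHom(E, L) ≅ Hom•(P, L)`.
-/

set_option autoImplicit false

universe u

open CategoryTheory CategoryTheory.Limits DerivedCategory
  CochainComplex CochainComplex.HomComplex

attribute [local instance] HasDerivedCategory.standard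

namespace Groth.Agent.Lib.Helper8.RHomK

variable {A : Type u} [CommRing A]

/-- `Hom•(Z, J)` is acyclic for `Z` acyclic and `J` K-injective -/
lemma acyclic_homCx_of_isKInjective (Z : DRing.Cx A) (hZ : Z.Acyclic) (J : DRing.Cx A)
    [J.IsKInjective] : (DRing.homCx Z J).Acyclic := by
  intro n
  rw [HomologicalComplex.exactAt_iff' _ (n - 1) n (n + 1) (by simp) (by simp),
    ShortComplex.moduleCat_exact_iff]
  intro (w : Cochain Z J n) (hw : δ n (n + 1) w = 0)
  obtain ⟨α, hα⟩ := IsKInjective.eq_δ_of_cocycle (Cocycle.mk w (n + 1) rfl hw) hZ (n - 1)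
    (by omega)
  exact ⟨α, hα⟩

/-- precomposition with a quasi-isomorphism is a quasi-isomorphism on Hom complexes into a
K-injective complex -/
lemma quasiIso_preMap_of_isKInjective {P E : DRing.Cx A} (u : P ⟶ E) [hu : QuasiIso u]
    (J : DRing.Cx A) [J.IsKInjective] : QuasiIso (preMap J u) := by
  rw [quasiIso_iff_acyclic_mappingCone] at hu ⊢
  have h1 : (mappingCocone u).Acyclic := acyclic_shift hu (-1)
  have h2 := acyclic_homCx_of_isKInjective _ h1 J
  intro n
  exact (h2 n).of_iso (coconeIso u J)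

/-- a K-projective complex isomorphic to `E` in the derived category maps quasi-isomorphically
to `E` -/
lemma exists_quasiIso_of_iso (P : DRing.Cx A) [P.IsKProjective] (E : DRing.Cx A)
    (e : (Q.obj P : Dual.D A) ≅ Q.obj E) : ∃ u : P ⟶ E, QuasiIso u ∧ Q.map u = e.hom := by
  obtain ⟨u, hu⟩ := PAmp.exists_Q_map_of_isKProjective P E e.hom
  refine ⟨u, ?_, hu.symm⟩
  rw [← isIso_Q_map_iff_quasiIso, ← hu]
  infer_instance

/-- `RHom(E, L) ≅ Hom•(P, L)` for a K-projective model `P → E` -/
theorem nonempty_rhom_iso_of_model (E : DRing.Cx A) [DRing.HasRHomCx E] (P : DRing.Cx A)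
    [P.IsKProjective] (u : P ⟶ E) [QuasiIso u] (L : DRing.Cx A) :
    Nonempty ((DRing.RHomCx E).obj (Q.obj L) ≅ Q.obj (DRing.homCx P L)) := by
  obtain ⟨J, j, hJ, hj⟩ := KInjM.exists_kinj L
  haveI := hJ
  have h1 : QuasiIso (DRing.homCxMap P j) := quasiIso_homCxMap_of_isKProjective P j
  have h2 : IsIso (Q.map j) := by rw [isIso_Q_map_iff_quasiIso]; exact hj
  have h3 : IsIso (Q.map (DRing.homCxMap P j)) := by rw [isIso_Q_map_iff_quasiIso]; exact h1
  have h4 : IsIso (Q.map (preMap J u)) := by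
    rw [isIso_Q_map_iff_quasiIso]
    exact quasiIso_preMap_of_isKInjective u J
  exact ⟨(DRing.RHomCx E).mapIso (asIso (Q.map j)) ≪≫ rhomIso E J ≪≫
    asIso (Q.map (preMap J u)) ≪≫ (asIso (Q.map (DRing.homCxMap P j))).symm⟩

end Groth.Agent.Lib.Helper8.RHomK
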