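import Mathlib
import Groth.Prelude.Def_DRing4
import Groth.Agent.Lib.Helper8.RHomK4
import Groth.Agent.Lib.Helper8.DCmpF

/-!
# Helper8 — RHomK5: `RHom(K, -)` is additive, `A`-linear, weakly exact and commutes with countable
products (all through K-injective models).
-/

set_option autoImplicit false

universe u

open CategoryTheory CategoryTheory.Limits CategoryTheory.Pretriangulated DerivedCategory
  CochainComplex CochainComplex.HomComplex

attribute [local instance] HasDerivedCategory.standard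

namespace Groth.Agent.Lib.Helper8.RHomK

variable {A : Type u} [CommRing A]

section ChainLevel

variable (K : DRing.Cx A) {L L' : DRing.Cx A}

lemma homCxMap_add (a b : L ⟶ L') :
    DRing.homCxMap K (a + b) = DRing.homCxMap K a + DRing.homCxMap K b := by
  ext i w
  change w.comp (Cochain.ofHom (a + b)) (add_zero i) =
    w.comp (Cochain.ofHom a) (add_zero i) + w.comp (Cochain.ofHom b) (add_zero i)
  rw [Cochain.ofHom_add, Cochain.comp_add]

lemma homCxMap_smul (c : A) (a : L ⟶ L') :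
    DRing.homCxMap K (c • a) = c • DRing.homCxMap K a := by
  ext i w
  change w.comp (Cochain.ofHom (c • a)) (add_zero i) = c • w.comp (Cochain.ofHom a) (add_zero i)
  have : Cochain.ofHom (c • a) = c • Cochain.ofHom a := by
    ext p
    simp
  rw [this, Cochain.comp_smul]

lemma homCxMap_comp {L'' : DRing.Cx A} (a : L ⟶ L') (b : L' ⟶ L'') :
    DRing.homCxMap K (a ≫ b) = DRing.homCxMap K a ≫ DRing.homCxMap K b :=
  (DRing.homCxFunctor K).map_comp a b

end ChainLevel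

section Prod

variable (K : DRing.Cx A) (L : ℕ → DRing.Cx A)

/-- lift into a degree of the product complex -/
noncomputable def liftEval (q : ℤ) {T : ModuleCat.{u} A} (f : ∀ n, T ⟶ (L n).X q) :
    T ⟶ (∏ᶜ L).X q :=
  (DProd.isLimitEval L q).lift (Cone.mk T (Discrete.natTrans fun ⟨n⟩ => f n))

lemma liftEval_π (q : ℤ) {T : ModuleCat.{u} A} (f : ∀ n, T ⟶ (L n).X q) (n : ℕ) :
    liftEval L q f ≫ (Pi.π L n).f q = f n :=
  (DProd.isLimitEval L q).fac _ ⟨n⟩

/-- the comparison `Hom•(K, ∏ L)ᵐ ⟶ ∏ Hom•(K, L_n)ᵐ` -/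
noncomputable def prodLin (m : ℤ) : Cochain K (∏ᶜ L) m →ₗ[A] (∀ n, Cochain K (L n) m) where
  toFun w n := w.comp (Cochain.ofHom (Pi.π L n)) (add_zero m)
  map_add' w w' := by funext n; simp
  map_smul' a w := by funext n; simp

lemma prodLin_apply (m : ℤ) (w : Cochain K (∏ᶜ L) m) (n : ℕ) :
    prodLin K L m w n = w.comp (Cochain.ofHom (Pi.π L n)) (add_zero m) := rfl

lemma prodLin_bijective (m : ℤ) : Function.Bijective (prodLin K L m) := by
  constructor
  · rw [injective_iff_map_eq_zero]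
    intro w hw
    refine Cochain.ext _ _ (fun p q hpq => ?_)
    apply DProd.hom_ext_eval L q
    intro n
    have := Cochain.congr_v (congr_fun hw n) p q hpq
    rw [prodLin_apply, Cochain.comp_zero_cochain_v, Cochain.ofHom_v] at this
    rw [this, Cochain.zero_v, Limits.zero_comp]
    rfl
  · intro ws
    refine ⟨Cochain.mk (fun p q hpq => liftEval L q (fun n => (ws n).v p q hpq)), ?_⟩
    funext n
    refine Cochain.ext _ _ (fun p q hpq => ?_)
    rw [prodLin_apply, Cochain.comp_zero_cochain_v, Cochain.ofHom_v, Cochain.mk_v, liftEval_π]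

/-- the comparison as a linear equivalence -/
noncomputable def prodEquiv (m : ℤ) : Cochain K (∏ᶜ L) m ≃ₗ[A] (∀ n, Cochain K (L n) m) :=
  LinearEquiv.ofBijective (prodLin K L m) (prodLin_bijective K L m)

/-- the fan `Hom•(K, ∏ L) ⟶ Hom•(K, L_n)` -/
noncomputable abbrev homCxFan : Fan (fun n => DRing.homCx K (L n)) :=
  Fan.mk (DRing.homCx K (∏ᶜ L)) (fun n => DRing.homCxMap K (Pi.π L n))

/-- degreewise, `Hom•(K, ∏ L)` is the product -/
noncomputable def isLimitEvalHomCx (m : ℤ) :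
    IsLimit ((HomologicalComplex.eval _ _ m).mapCone (homCxFan K L)) where
  lift t := ModuleCat.ofHom ((prodEquiv K L m).symm.toLinearMap ∘ₗ
    LinearMap.pi (fun n => (t.π.app ⟨n⟩).hom))
  fac t := by
    rintro ⟨n⟩
    ext x
    change prodLin K L m ((prodEquiv K L m).symm (fun n => (t.π.app ⟨n⟩).hom x)) n = _
    have := (prodEquiv K L m).apply_symm_apply (fun n => (t.π.app ⟨n⟩).hom x)
    exact congr_fun this n
  uniq t g hg := by
    ext x
    apply (prodEquiv K L m).injective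
    change _ = (prodEquiv K L m) ((prodEquiv K L m).symm (fun n => (t.π.app ⟨n⟩).hom x))
    rw [LinearEquiv.apply_symm_apply]
    funext n
    have := congr_arg (fun φ => φ.hom x) (hg ⟨n⟩)
    exact this

/-- `Hom•(K, ∏ L)` is the product of the `Hom•(K, L_n)` -/
noncomputable def isLimitHomCxFan : IsLimit (homCxFan K L) :=
  HomologicalComplex.isLimitOfEval _ _ (isLimitEvalHomCx K L)

end Prod

/-- transport of limit fans along isomorphisms -/
noncomputable def isLimitFanOfIso {J : Type*} {C : Type*} [Category C] {F F' : J → C} (c : Fan F)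
    (hc : IsLimit c) (Z : C) (p : ∀ j, Z ⟶ F' j) (e : Z ≅ c.pt) (ε : ∀ j, F j ≅ F' j)
    (h : ∀ j, p j = e.hom ≫ c.proj j ≫ (ε j).hom) : IsLimit (Fan.mk Z p) :=
  Fan.IsLimit.mk _ (fun s => Fan.IsLimit.lift hc (fun j => s.proj j ≫ (ε j).inv) ≫ e.inv)
    (fun s j => by
      change (_ ≫ e.inv) ≫ p j = _
      rw [h, Category.assoc, e.inv_hom_id_assoc, ← Category.assoc]
      erw [Fan.IsLimit.fac hc]
      rw [Category.assoc, (ε j).inv_hom_id, Category.comp_id])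
    (fun s m hm => by
      rw [← cancel_mono e.hom, Category.assoc, e.inv_hom_id, Category.comp_id]
      apply Fan.IsLimit.hom_ext hc
      intro j
      erw [Fan.IsLimit.fac hc]
      rw [← hm j]
      change _ = (m ≫ p j) ≫ _
      rw [h]
      simp)

section Models

variable (K : DRing.Cx A) [DRing.HasRHomCx K]

/-- naturality of `rhomIso` -/
lemma rhomIso_naturality {I I' : DRing.Cx A} [I.IsKInjective] [I'.IsKInjective] (a : I ⟶ I') :
    (DRing.RHomCx K).map (Q.map a) ≫ (rhomIso K I').hom =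
      (rhomIso K I).hom ≫ Q.map (DRing.homCxMap K a) := by
  let uI : Q.obj (DRing.homCx K I) ⟶ (DRing.RHomCx K).obj (Q.obj I) :=
    ((DRing.homCxQ K).totalRightDerivedUnit Q (W A)).app I
  let uI' : Q.obj (DRing.homCx K I') ⟶ (DRing.RHomCx K).obj (Q.obj I') :=
    ((DRing.homCxQ K).totalRightDerivedUnit Q (W A)).app I'
  have hI : IsIso uI := isIso_unit K I
  have hI' : IsIso uI' := isIso_unit K I'
  have hnat : Q.map (DRing.homCxMap K a) ≫ uI' = uI ≫ (DRing.RHomCx K).map (Q.map a) :=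
    ((DRing.homCxQ K).totalRightDerivedUnit Q (W A)).naturality a
  have h1 : (rhomIso K I).hom = inv uI := rfl
  have h2 : (rhomIso K I').hom = inv uI' := rfl
  rw [h1, h2, IsIso.comp_inv_eq, Category.assoc, IsIso.eq_inv_comp]
  exact hnat.symm

/-- computing `RHom(K, φ)` on models -/
lemma map_eq {X Y : Dual.D A} (φ : X ⟶ Y) {I I' : DRing.Cx A} [I.IsKInjective] [I'.IsKInjective]
    (eX : Q.obj I ≅ X) (eY : Q.obj I' ≅ Y) (a : I ⟶ I') (ha : Q.map a = eX.hom ≫ φ ≫ eY.inv) :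
    (DRing.RHomCx K).map φ = (DRing.RHomCx K).map eX.inv ≫ (rhomIso K I).hom ≫
      Q.map (DRing.homCxMap K a) ≫ (rhomIso K I').inv ≫ (DRing.RHomCx K).map eY.hom := by
  have h1 : φ = eX.inv ≫ Q.map a ≫ eY.hom := by rw [ha]; simp
  conv_lhs => rw [h1]
  rw [Functor.map_comp, Functor.map_comp, ← reassoc_of% (rhomIso_naturality K a),
    Iso.hom_inv_id_assoc]

/-- existence of models for a pair of parallel morphisms -/
lemma exists_models {X Y : Dual.D A} (φ ψ : X ⟶ Y) :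
    ∃ (I I' : DRing.Cx A) (_ : I.IsKInjective) (_ : I'.IsKInjective) (eX : Q.obj I ≅ X)
      (eY : Q.obj I' ≅ Y) (a b : I ⟶ I'),
      Q.map a = eX.hom ≫ φ ≫ eY.inv ∧ Q.map b = eX.hom ≫ ψ ≫ eY.inv := by
  obtain ⟨I, hI, ⟨eX⟩⟩ := KInjM.exists_kinj_rep X
  obtain ⟨I', hI', ⟨eY⟩⟩ := KInjM.exists_kinj_rep Y
  obtain ⟨a, ha⟩ := DProd.exists_Q_map_of_isKInjective I I' (eX.hom ≫ φ ≫ eY.inv)
  obtain ⟨b, hb⟩ := DProd.exists_Q_map_of_isKInjective I I' (eX.hom ≫ ψ ≫ eY.inv)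
  exact ⟨I, I', hI, hI', eX, eY, a, b, ha.symm, hb.symm⟩

instance additive_RHomCx : (DRing.RHomCx K).Additive where
  map_add {X Y φ ψ} := by
    obtain ⟨I, I', hI, hI', eX, eY, a, b, ha, hb⟩ := exists_models φ ψ
    have hab : Q.map (a + b) = eX.hom ≫ (φ + ψ) ≫ eY.inv := by
      rw [Functor.map_add, ha, hb]
      simp
    rw [map_eq K (φ + ψ) eX eY (a + b) hab, map_eq K φ eX eY a ha, map_eq K ψ eX eY b hb,
      homCxMap_add, Functor.map_add]
    simp

lemma RHomCx_map_smul (c : A) {X Y : Dual.D A} (φ : X ⟶ Y) :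
    (DRing.RHomCx K).map (c • φ) = c • (DRing.RHomCx K).map φ := by
  obtain ⟨I, I', hI, hI', eX, eY, a, -, ha, -⟩ := exists_models φ φ
  have hca : Q.map (c • a) = eX.hom ≫ (c • φ) ≫ eY.inv := by
    rw [Functor.map_smul, ha]
    simp
  rw [map_eq K (c • φ) eX eY (c • a) hca, map_eq K φ eX eY a ha, homCxMap_smul, Functor.map_smul]
  simp

/-- `RHom(K, -)` sends distinguished triangles to triangles which can be completed to
distinguished triangles -/
theorem RHomCx_tri (Tr : Triangle (Dual.D A)) (hTr : Tr ∈ distTriang (Dual.D A)) :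
    ∃ w, Triangle.mk ((DRing.RHomCx K).map Tr.mor₁) ((DRing.RHomCx K).map Tr.mor₂) w ∈
      distTriang (Dual.D A) := by
  obtain ⟨I₁, h₁, ⟨e₁⟩⟩ := KInjM.exists_kinj_rep Tr.obj₁
  obtain ⟨I₂, h₂, ⟨e₂⟩⟩ := KInjM.exists_kinj_rep Tr.obj₂
  obtain ⟨a, ha⟩ := DProd.exists_Q_map_of_isKInjective I₁ I₂ (e₁.hom ≫ Tr.mor₁ ≫ e₂.inv)
  let Tc := Q.mapTriangle.obj (mappingCone.triangle a)
  have hTc : Tc ∈ distTriang (Dual.D A) := mappingCone_triangle_distinguished a
  let E : Tc ≅ Tr := isoTriangleOfIso₁₂ Tc Tr hTc hTr e₁ e₂ (by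
    change Q.map a ≫ e₂.hom = e₁.hom ≫ Tr.mor₁
    rw [← ha]
    simp)
  let e₃ : Q.obj (mappingCone a) ≅ Tr.obj₃ := Triangle.π₃.mapIso E
  have hcomm₂ : Q.map (mappingCone.inr a) ≫ e₃.hom = e₂.hom ≫ Tr.mor₂ := by
    have := E.hom.comm₂
    have h2 : E.hom.hom₂ = e₂.hom := by simp [E]
    rw [h2] at this
    exact this
  have : (mappingCone a).IsKInjective := KInjM.isKInjective_mappingCone a
  let ψ := DRing.homCxMap K a
  let Tψ := Q.mapTriangle.obj (mappingCone.triangle ψ)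
  have hTψ : Tψ ∈ distTriang (Dual.D A) := mappingCone_triangle_distinguished ψ
  let G := DRing.RHomCx K
  let r₁ : G.obj Tr.obj₁ ≅ Q.obj (DRing.homCx K I₁) := G.mapIso e₁.symm ≪≫ rhomIso K I₁
  let r₂ : G.obj Tr.obj₂ ≅ Q.obj (DRing.homCx K I₂) := G.mapIso e₂.symm ≪≫ rhomIso K I₂
  let r₃ : G.obj Tr.obj₃ ≅ Q.obj (mappingCone ψ) :=
    G.mapIso e₃.symm ≪≫ rhomIso K (mappingCone a) ≪≫ Q.mapIso (coneIso K a)
  let w : G.obj Tr.obj₃ ⟶ (G.obj Tr.obj₁)⟦(1 : ℤ)⟧ := r₃.hom ≫ Tψ.mor₃ ≫ r₁.inv⟦(1 : ℤ)⟧'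
  refine ⟨w, isomorphic_distinguished _ hTψ _ (Triangle.isoMk _ _ r₁ r₂ r₃ ?_ ?_ ?_)⟩
  · change G.map Tr.mor₁ ≫ G.map e₂.inv ≫ (rhomIso K I₂).hom =
      (G.map e₁.inv ≫ (rhomIso K I₁).hom) ≫ Q.map ψ
    have h1 : Tr.mor₁ ≫ e₂.inv = e₁.inv ≫ Q.map a := by rw [← ha]; simp
    rw [← G.map_comp_assoc, h1, G.map_comp_assoc, rhomIso_naturality K a, Category.assoc]
  · change G.map Tr.mor₂ ≫ G.map e₃.inv ≫ (rhomIso K (mappingCone a)).hom ≫
      Q.map (coneIso K a).hom = (G.map e₂.inv ≫ (rhomIso K I₂).hom) ≫ Q.map (mappingCone.inr ψ)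
    have h1 : Tr.mor₂ ≫ e₃.inv = e₂.inv ≫ Q.map (mappingCone.inr a) := by
      rw [← cancel_mono e₃.hom, Category.assoc, Category.assoc, e₃.inv_hom_id, Category.comp_id,
        hcomm₂, e₂.inv_hom_id_assoc]
    rw [← G.map_comp_assoc, h1, G.map_comp_assoc,
      reassoc_of% (rhomIso_naturality K (mappingCone.inr a)), ← Q.map_comp,
      homCxMap_inr_coneIso, Category.assoc]
  · change (r₃.hom ≫ Tψ.mor₃ ≫ r₁.inv⟦(1 : ℤ)⟧') ≫ r₁.hom⟦(1 : ℤ)⟧' = r₃.hom ≫ Tψ.mor₃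
    have h : r₁.inv⟦(1 : ℤ)⟧' ≫ r₁.hom⟦(1 : ℤ)⟧' = 𝟙 _ :=
      ((CategoryTheory.shiftFunctor (Dual.D A) (1 : ℤ)).mapIso r₁).inv_hom_id
    rw [Category.assoc, Category.assoc]
    erw [h, Category.comp_id]
    rfl

open Groth.Agent.Lib.Helper8.DCmpA in
/-- `RHom(K, -)` commutes with countable powers -/
theorem RHomCx_prod (X : Dual.D A) :
    Nonempty (IsLimit (Fan.mk ((DRing.RHomCx K).obj (∏ᶜ (Kc X)))
      (fun n => (DRing.RHomCx K).map (Pi.π (Kc X) n)))) := by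
  obtain ⟨I, hI, ⟨eX⟩⟩ := KInjM.exists_kinj_rep X
  let Ic : ℕ → DRing.Cx A := fun _ => I
  have hIc : ∀ n, (Ic n).IsKInjective := fun _ => hI
  have hP : (∏ᶜ Ic).IsKInjective := DProd.isKInjective_pi Ic
  let G := DRing.RHomCx K
  let hlim := DProd.isLimitFan (Kc X) Ic (fun _ => eX)
  let ρ : ∏ᶜ (Kc X) ≅ Q.obj (∏ᶜ Ic) := (productIsProduct (Kc X)).conePointUniqueUpToIso hlim
  have hρ : ∀ n, ρ.hom ≫ Q.map (Pi.π Ic n) ≫ eX.hom = Pi.π (Kc X) n := fun n =>
    (productIsProduct (Kc X)).conePointUniqueUpToIso_hom_comp hlim ⟨n⟩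
  let θ : DRing.homCx K (∏ᶜ Ic) ≅ ∏ᶜ (fun n => DRing.homCx K (Ic n)) :=
    (isLimitHomCxFan K Ic).conePointUniqueUpToIso (productIsProduct _)
  have hθ : ∀ n, θ.hom ≫ Pi.π (fun n => DRing.homCx K (Ic n)) n =
      DRing.homCxMap K (Pi.π Ic n) := fun n =>
    (isLimitHomCxFan K Ic).conePointUniqueUpToIso_hom_comp (productIsProduct _) ⟨n⟩
  refine ⟨isLimitFanOfIso (DProdU.fanQ (fun n => DRing.homCx K (Ic n)))
    (DProdU.isLimitFanQ _) _ _
    (G.mapIso ρ ≪≫ rhomIso K (∏ᶜ Ic) ≪≫ Q.mapIso θ)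
    (fun _ => (rhomIso K I).symm ≪≫ G.mapIso eX) (fun n => ?_)⟩
  change G.map (Pi.π (Kc X) n) = (G.map ρ.hom ≫ (rhomIso K (∏ᶜ Ic)).hom ≫ Q.map θ.hom) ≫
    Q.map (Pi.π (fun n => DRing.homCx K (Ic n)) n) ≫ (rhomIso K I).inv ≫ G.map eX.hom
  have h1 : Q.map θ.hom ≫ Q.map (Pi.π (fun n => DRing.homCx K (Ic n)) n) =
      Q.map (DRing.homCxMap K (Pi.π Ic n)) := by rw [← Q.map_comp, hθ]
  have h2 := rhomIso_naturality K (Pi.π Ic n)
  rw [← hρ n, G.map_comp, G.map_comp]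
  simp only [Category.assoc]
  rw [reassoc_of% h1, ← reassoc_of% h2, Iso.hom_inv_id_assoc]

open Groth.Agent.Lib.Helper8.DCmpA in
/-- `RHom(K, -)` is a linear weakly exact functor commuting with countable powers -/
theorem wExact_RHomCx : WExact (A := A) (DRing.RHomCx K) where
  lin c _ _ φ := RHomCx_map_smul K c φ
  tri Tr hTr := RHomCx_tri K Tr hTr
  prod X := RHomCx_prod K X

end Models

end Groth.Agent.Lib.Helper8.RHomK
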