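import Mathlib
import Groth.Prelude.Def_DRing3
import Groth.Prelude.Def_DRing4
import Groth.Agent.Lib.Helper8.RHomK5
import Groth.Agent.Lib.Helper8.DCmpC

/-!
# Helper8 — RHomK6: `RHom(K, L^∧)` is the derived completion of `RHom(K, L)` (S7101), and the
general statement for linear weakly exact functors commuting with countable powers.
-/

set_option autoImplicit false

universe u

open CategoryTheory CategoryTheory.Limits CategoryTheory.Pretriangulated DerivedCategory

attribute [local instance] HasDerivedCategory.standard

namespace Groth.Agent.Lib.Helper8.RHomK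

open Groth.Agent.Lib.Helper8.DCmpA Groth.Agent.Lib.Helper8.DCmpB Groth.Agent.Lib.Helper8.DCmpC

variable {A : Type u} [CommRing A]

/-- a linear weakly exact functor commuting with countable powers commutes with derived
completion -/
theorem completion_of_wExact (G : Dual.D A ⥤ Dual.D A) [G.Additive] (hG : WExact (A := A) G)
    (I : Ideal A) (hI : I.FG) [DRing.HasDerivedCompletion I] (L : Dual.D A) :
    DRing.IsDerivedComplete I (G.obj ((DRing.derivedCompletion I).obj L).obj) ∧
      ∀ E : Dual.D A, DRing.IsDerivedComplete I E →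
        Function.Bijective (fun φ : G.obj ((DRing.derivedCompletion I).obj L).obj ⟶ E =>
          G.map (DRing.toDerivedCompletion I L) ≫ φ) := by
  obtain ⟨s, rfl⟩ := hI
  obtain ⟨Y, η, hch⟩ := exists_chain (T := Dual.D A) s.toList L
  have hmem : ∀ f, f ∈ s.toList ↔ f ∈ (s : Set A) := fun f => by simp
  have hY : DRing.IsDerivedComplete (Ideal.span (s : Set A)) Y :=
    (isDerivedComplete_iff_isCompl _ Y).2 (fun f hf => hch.isCompl f ((hmem f).2 hf))
  have hB : ∀ E : Dual.D A, DRing.IsDerivedComplete (Ideal.span (s : Set A)) E →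
      Function.Bijective (fun g : Y ⟶ E => η ≫ g) := fun E hE =>
    hch.bijective E (fun f hf => (isDerivedComplete_iff_isCompl _ E).1 hE f ((hmem f).1 hf))
  obtain ⟨e, he⟩ := exists_iso_of_reflection (Ideal.span (s : Set A)) L Y η hY hB
  have hch' := hch.map hG
  have hGY : DRing.IsDerivedComplete (Ideal.span (s : Set A)) (G.obj Y) :=
    (isDerivedComplete_iff_isCompl _ _).2 (fun f hf => hch'.isCompl f ((hmem f).2 hf))
  constructor
  · rw [isDerivedComplete_iff_isCompl] at hGY ⊢
    exact fun f hf => (hGY f hf).of_iso (G.mapIso e.symm)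
  · intro E hE
    have h1 := hch'.bijective E
      (fun f hf => (isDerivedComplete_iff_isCompl _ E).1 hE f ((hmem f).1 hf))
    have h2 : (fun φ : G.obj ((DRing.derivedCompletion (Ideal.span (s : Set A))).obj L).obj ⟶ E =>
        G.map (DRing.toDerivedCompletion (Ideal.span (s : Set A)) L) ≫ φ) =
        (fun g : G.obj Y ⟶ E => G.map η ≫ g) ∘
          (fun φ : G.obj ((DRing.derivedCompletion (Ideal.span (s : Set A))).obj L).obj ⟶ E =>
            G.map e.inv ≫ φ) := by
      funext φ
      dsimp only [Function.comp]
      rw [← he, ← G.map_comp_assoc, Category.assoc, e.hom_inv_id, Category.comp_id]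
    rw [h2]
    refine h1.comp ⟨fun φ φ' h => ?_, fun g => ⟨G.map e.hom ≫ g, ?_⟩⟩
    · exact (cancel_epi (G.map e.inv)).1 h
    · dsimp only
      rw [← G.map_comp_assoc, e.inv_hom_id, G.map_id, Category.id_comp]

/-- **S7101** -/
theorem rhom_completion (I : Ideal A) (hI : I.FG) [DRing.HasDerivedCompletion I]
    (K : DRing.Cx A) [DRing.HasRHomCx K] (L : Dual.D A) :
    DRing.IsDerivedComplete I ((DRing.RHomCx K).obj ((DRing.derivedCompletion I).obj L).obj) ∧
      ∀ E : Dual.D A, DRing.IsDerivedComplete I E →
        Function.Bijective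
          (fun φ : (DRing.RHomCx K).obj ((DRing.derivedCompletion I).obj L).obj ⟶ E =>
            (DRing.RHomCx K).map (DRing.toDerivedCompletion I L) ≫ φ) :=
  completion_of_wExact (DRing.RHomCx K) (wExact_RHomCx K) I hI L

end Groth.Agent.Lib.Helper8.RHomK
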