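import Mathlib
import Groth.Agent.Lib.Helper8.LocDual3
import Groth.Agent.Lib.Helper8.RHomK11
import Groth.Agent.Lib.Helper8.RHomK6
import Groth.Agent.Lib.Helper16.KPR4

/-! # Helper8 — LocDual4: **derived completion of `RHom(K, ω)` is `RHom(RΓ_m K, E[0])`** (S1818).
Tools: `acyclic_homCx_of_subsingleton_hom` (`Hom•(Z, J)` acyclic if `Hom_D(Z, J[n]) = 0`, `J` K-injective),
`isZero_RHomCx_of_subsingleton_hom`, shift lemmas `injective_comp_shift`/`surjective_precomp_shift`,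
`hom_cone_eq_zero`/`hom_fibre_eq_zero` (vanishing of maps into a cone / out of a fibre),
`isIso_rhom_map_ε` (`RHom(G, RΓ_I L) ≅ RHom(G, L)` for `G` torsion), `nonempty_rhom_iso_of_rgamma`
(`RHom(K, L) ≅ RHom(RΓ_I K, L)` for `L` derived complete). -/

set_option autoImplicit false

universe u v' u'

open CategoryTheory CategoryTheory.Limits CategoryTheory.Pretriangulated Opposite DerivedCategory
  CochainComplex CochainComplex.HomComplex

attribute [local instance] HasDerivedCategory.standard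

namespace Groth.Agent.Lib.Helper8.Bidual

open Groth.Agent.Lib.Helper8 Groth.Agent.Lib.Helper8.RGam Groth.Agent.Lib.Helper8.RHomK

section Acyc

variable {A : Type u} [CommRing A]

/-- `Hom•(Z, J)` is acyclic when all maps `Z ⟶ J[n]` in the derived category vanish
(`J` K-injective) -/
lemma acyclic_homCx_of_subsingleton_hom (Z J : DRing.Cx A) [J.IsKInjective]
    (h : ∀ n : ℤ, Subsingleton ((Q.obj Z : Dual.D A) ⟶ (Q.obj J)⟦n⟧)) :
    (DRing.homCx Z J).Acyclic := by
  intro n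
  rw [HomologicalComplex.exactAt_iff' _ (n - 1) n (n + 1) (by simp) (by simp),
    ShortComplex.moduleCat_exact_iff]
  intro (w : Cochain Z J n) (hw : δ n (n + 1) w = 0)
  let z : Cocycle Z J n := Cocycle.mk w (n + 1) rfl hw
  have hz : z ∈ coboundaries Z J n := by
    rw [← CohomologyClass.toHom_mk_eq_zero_iff]
    apply (CochainComplex.IsKInjective.Qh_map_bijective _ (J⟦n⟧)).1
    rw [Functor.map_zero]
    set t := CohomologyClass.toHom (CohomologyClass.mk z) with ht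
    let iZ := (quotientCompQhIso (ModuleCat.{u} A)).app Z
    let iJ := (quotientCompQhIso (ModuleCat.{u} A)).app (J⟦n⟧)
    let c := (Q.commShiftIso n).app J
    have h0 : iZ.inv ≫ Qh.map t ≫ iJ.hom ≫ c.hom = 0 := (h n).elim _ _
    have h1 : Qh.map t = iZ.hom ≫ (iZ.inv ≫ Qh.map t ≫ iJ.hom ≫ c.hom) ≫ c.inv ≫ iJ.inv := by
      simp
    rw [h1, h0, zero_comp, comp_zero]
  obtain ⟨α, hα⟩ := (mem_coboundaries_iff z (n - 1) (by omega)).1 hz
  exact ⟨α, hα⟩

/-- `RHom(G, C) = 0` when all maps `G ⟶ C[n]` in the derived category vanish -/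
lemma isZero_RHomCx_of_subsingleton_hom (G : DRing.Cx A) [DRing.HasRHomCx G] (C : Dual.D A)
    (h : ∀ n : ℤ, Subsingleton ((Q.obj G : Dual.D A) ⟶ C⟦n⟧)) :
    IsZero ((DRing.RHomCx G).obj C) := by
  obtain ⟨J, hJ, ⟨e⟩⟩ := KInjM.exists_kinj_rep C
  haveI := hJ
  have hac : (DRing.homCx G J).Acyclic := acyclic_homCx_of_subsingleton_hom G J (fun n =>
    (Iso.homCongr (Iso.refl (Q.obj G : Dual.D A))
      ((CategoryTheory.shiftFunctor (Dual.D A) n).mapIso e)).subsingleton_congr.2 (h n))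
  exact ((isZero_Q_obj_of_acyclic _ hac).of_iso (rhomIso G J)).of_iso
    ((DRing.RHomCx G).mapIso e.symm)

end Acyc

section Tri

variable {C : Type u'} [Category.{v'} C] [Preadditive C] [HasZeroObject C] [HasShift C ℤ]
  [∀ n : ℤ, (CategoryTheory.shiftFunctor C n).Additive] [Pretriangulated C]

lemma injective_comp_shift {L X Y : C} (φ : X ⟶ Y) (a b : ℤ) (h : a + b = 0)
    (hinj : Function.Injective (fun ψ : L⟦a⟧ ⟶ X => ψ ≫ φ)) :
    Function.Injective (fun ψ : L ⟶ X⟦b⟧ => ψ ≫ φ⟦b⟧') := by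
  intro ψ ψ' e
  apply (shiftHomEquiv L X a b h).symm.injective
  apply hinj
  have h1 := (shiftEquiv' C a b h).toAdjunction.homEquiv_naturality_right_symm ψ φ
  have h2 := (shiftEquiv' C a b h).toAdjunction.homEquiv_naturality_right_symm ψ' φ
  exact h1.symm.trans ((congrArg _ e).trans h2)

lemma surjective_precomp_shift {X Y Z : C} (φ : X ⟶ Y) (a b : ℤ) (h : a + b = 0)
    (hs : Function.Surjective (fun g : Y ⟶ Z⟦b⟧ => φ ≫ g)) :
    Function.Surjective (fun g : Y⟦a⟧ ⟶ Z => φ⟦a⟧' ≫ g) := by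
  intro k
  obtain ⟨g₀, hg₀⟩ := hs (shiftHomEquiv X Z a b h k)
  refine ⟨(shiftHomEquiv Y Z a b h).symm g₀, ?_⟩
  have h1 := (shiftEquiv' C a b h).toAdjunction.homEquiv_naturality_left_symm φ g₀
  apply (shiftHomEquiv X Z a b h).injective
  refine Eq.trans ?_ hg₀
  exact (congrArg (shiftHomEquiv X Z a b h) h1.symm).trans (Equiv.apply_symm_apply _ _)

/-- maps from a class of objects stable under `[-1]` to the cone of `mor₁` vanish when the class
sees `mor₁` as a bijection -/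
lemma hom_cone_eq_zero (T : Triangle C) (hT : T ∈ distTriang C) (S : C → Prop)
    (hS : ∀ L, S L → S (L⟦(-1 : ℤ)⟧))
    (hb : ∀ L, S L → Function.Bijective (fun ψ : L ⟶ T.obj₁ => ψ ≫ T.mor₁))
    (L : C) (hL : S L) (f : L ⟶ T.obj₃) : f = 0 :=
  hom_obj₃_eq_zero T hT L
    (fun g => by
      obtain ⟨g', hg'⟩ := (hb L hL).2 g
      exact ⟨g', hg'.symm⟩)
    (fun h hh => injective_comp_shift T.mor₁ (-1) 1 (by omega) (hb _ (hS L hL)).1
      (hh.trans zero_comp.symm)) f

/-- dual statement: maps from the fibre of `mor₂` to `Z` vanish when `Z` and `Z[1]` see `mor₂`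
as a bijection -/
lemma hom_fibre_eq_zero (T : Triangle C) (hT : T ∈ distTriang C) (Z : C)
    (hsurj : Function.Surjective (fun g : T.obj₃ ⟶ Z => T.mor₂ ≫ g))
    (hinj : Function.Injective (fun g : T.obj₃ ⟶ Z⟦(1 : ℤ)⟧ => T.mor₂ ≫ g))
    (f : T.obj₁ ⟶ Z) : f = 0 := by
  have h1 : T.mor₃ ≫ f⟦(1 : ℤ)⟧' = 0 := by
    apply hinj
    dsimp only
    rw [comp_zero, ← Category.assoc, comp_distTriang_mor_zero₂₃ _ hT, zero_comp]
  obtain ⟨k, hk⟩ := Triangle.yoneda_exact₂ _ (rot_of_distTriang _ (rot_of_distTriang _ hT))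
    (f⟦(1 : ℤ)⟧') h1
  obtain ⟨k₀, rfl⟩ := (CategoryTheory.shiftFunctor C (1 : ℤ)).map_surjective k
  obtain ⟨k₁, rfl⟩ := hsurj k₀
  apply (CategoryTheory.shiftFunctor C (1 : ℤ)).map_injective
  rw [hk, Functor.map_zero]
  change (-T.mor₁⟦(1 : ℤ)⟧') ≫ (T.mor₂ ≫ k₁)⟦(1 : ℤ)⟧' = 0
  rw [Preadditive.neg_comp, ← Functor.map_comp, ← Category.assoc,
    comp_distTriang_mor_zero₁₂ _ hT, zero_comp, Functor.map_zero, neg_zero]

end Tri

section Main

variable {A : Type u} [CommRing A] [IsNoetherianRing A] (I : Ideal A) [DRing.HasRgammaI I]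

/-- for `G` with `I`-power torsion cohomology, `RHom(G, RΓ_I L) ⟶ RHom(G, L)` is an isomorphism -/
theorem isIso_rhom_map_ε (G : DRing.Cx A) [DRing.HasRHomCx G] (hG : TorsCoh I (DRing.toD G))
    (L : Dual.D A) : IsIso ((DRing.RHomCx G).map ((DRing.RgammaIε I).app L)) := by
  obtain ⟨C, f, g, hT⟩ := distinguished_cocone_triangle ((DRing.RgammaIε I).app L)
  obtain ⟨w, hw⟩ := RHomCx_tri G _ hT
  have hz : IsZero ((DRing.RHomCx G).obj C) := by
    apply isZero_RHomCx_of_subsingleton_hom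
    intro n
    have hs : Subsingleton (((Q.obj G : Dual.D A))⟦-n⟧ ⟶ C) := by
      refine ⟨fun φ φ' => ?_⟩
      have key := hom_cone_eq_zero _ hT (TorsCoh I) (fun L hL => torsCoh_shift I hL (-1))
        (fun L' hL' => bijective_comp_ε I L' hL' L) ((Q.obj G : Dual.D A)⟦-n⟧)
        (torsCoh_shift I hG (-n))
      exact (key φ).trans (key φ').symm
    exact (shiftHomEquiv (Q.obj G : Dual.D A) C (-n) n (by omega)).symm.subsingleton
  exact (Triangle.isZero₃_iff_isIso₁ _ hw).1 hz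

/-- **Greenlees–May in the first variable of `RHom`**: `RHom(K, L) ≅ RHom(RΓ_I K, L)` for `L` derived
complete -/
theorem nonempty_rhom_iso_of_rgamma (K G : DRing.Cx A) [DRing.HasRHomCx K] [DRing.HasRHomCx G]
    (hG : DRing.toD G ≅ (DRing.RgammaI I).obj (DRing.toD K)) (L : Dual.D A)
    (hL : DRing.IsDerivedComplete I L) :
    Nonempty ((DRing.RHomCx K).obj L ≅ (DRing.RHomCx G).obj L) := by
  obtain ⟨PK, uK, hPK, -, huK⟩ := Groth.Agent.Lib.Helper16.KPR.exists_kprojective_quasiIso K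
  obtain ⟨PG, uG, hPG, -, huG⟩ := Groth.Agent.Lib.Helper16.KPR.exists_kprojective_quasiIso G
  obtain ⟨J, hJ, ⟨e⟩⟩ := KInjM.exists_kinj_rep L
  haveI := hPK
  haveI := hPG
  haveI := hJ
  haveI : IsIso (Q.map uK : (Q.obj PK : Dual.D A) ⟶ Q.obj K) := by
    rw [isIso_Q_map_iff_quasiIso]; exact huK
  haveI : IsIso (Q.map uG : (Q.obj PG : Dual.D A) ⟶ Q.obj G) := by
    rw [isIso_Q_map_iff_quasiIso]; exact huG
  let α : (Q.obj PG : Dual.D A) ⟶ Q.obj PK :=
    Q.map uG ≫ hG.hom ≫ (DRing.RgammaIε I).app (DRing.toD K) ≫ inv (Q.map uK)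
  obtain ⟨a, ha⟩ := PAmp.exists_Q_map_of_isKProjective PG PK α
  -- precomposition with `a` is bijective on maps to derived complete objects
  have key : ∀ Z : Dual.D A, DRing.IsDerivedComplete I Z →
      Function.Bijective (fun g : (Q.obj PK : Dual.D A) ⟶ Z => Q.map a ≫ g) := by
    intro Z hZ
    have h1 := bijective_precomp_ε I (DRing.toD K) Z hZ
    have h2 : (fun g : (Q.obj PK : Dual.D A) ⟶ Z => Q.map a ≫ g) =
        (fun g : (DRing.RgammaI I).obj (DRing.toD K) ⟶ Z => (Q.map uG ≫ hG.hom) ≫ g) ∘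
        (fun g : DRing.toD K ⟶ Z => (DRing.RgammaIε I).app (DRing.toD K) ≫ g) ∘
        (fun g : (Q.obj PK : Dual.D A) ⟶ Z => inv (Q.map uK) ≫ g) := by
      funext g
      simp only [Function.comp_apply, ← ha, α, Category.assoc]
    rw [h2]
    refine Function.Bijective.comp ?_ (Function.Bijective.comp h1 ?_)
    · exact ⟨fun χ χ' h => (cancel_epi _).1 h,
        fun χ => ⟨inv (Q.map uG ≫ hG.hom) ≫ χ, by simp⟩⟩
    · exact ⟨fun χ χ' h => (cancel_epi _).1 h, fun χ => ⟨Q.map uK ≫ χ, by simp⟩⟩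
  have hJc : ∀ n : ℤ, DRing.IsDerivedComplete I ((Q.obj J : Dual.D A)⟦n⟧) := fun n =>
    DCmpE.isDerivedComplete_shift I (DNak.isDerivedComplete_of_iso I e.symm hL) n
  have hac : (DRing.homCx (mappingCocone a) J).Acyclic := by
    apply acyclic_homCx_of_subsingleton_hom
    intro n
    refine ⟨fun φ φ' => ?_⟩
    have hT := mappingCocone_triangle_distinguished a
    have hc' : DRing.IsDerivedComplete I (((Q.obj J : Dual.D A)⟦n⟧)⟦(1 : ℤ)⟧) :=
      DCmpE.isDerivedComplete_shift I (hJc n) 1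
    have hz := hom_fibre_eq_zero _ hT ((Q.obj J : Dual.D A)⟦n⟧) (key _ (hJc n)).2 (key _ hc').1
    exact (hz φ).trans (hz φ').symm
  have hq : QuasiIso (preMap J a) := by
    rw [quasiIso_iff_acyclic_mappingCone]
    intro n
    exact (hac n).of_iso (coconeIso a J)
  haveI : IsIso (Q.map (preMap J a) : (Q.obj _ : Dual.D A) ⟶ _) := by
    rw [isIso_Q_map_iff_quasiIso]; exact hq
  obtain ⟨r1⟩ := nonempty_rhom_iso_of_model K PK uK J
  obtain ⟨r2⟩ := nonempty_rhom_iso_of_model G PG uG J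
  exact ⟨(DRing.RHomCx K).mapIso e.symm ≪≫ r1 ≪≫ asIso (Q.map (preMap J a)) ≪≫ r2.symm ≪≫
    (DRing.RHomCx G).mapIso e⟩

end Main

section Final

variable {A : Type u} [CommRing A] [IsLocalRing A] [IsNoetherianRing A]

/-- **S1818**: the derived completion of `RHom(K, ω)` is `RHom(RΓ_m K, E[0])` -/
theorem nonempty_derivedCompletion_rhom_iso (ω : Dual.D A) (hω : Dual.IsDualizing A ω)
    (hn : Dual.IsNormalized A ω) (E : Type u) [AddCommGroup E] [Module A E]
    (f : IsLocalRing.ResidueField A →ₗ[A] E) (hf : InjHull.IsInjectiveHull f)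
    [DRing.HasRgammaI (IsLocalRing.maximalIdeal A)]
    [DRing.HasDerivedCompletion (IsLocalRing.maximalIdeal A)]
    (K : DRing.Cx A) [DRing.HasRHomCx K] (G : DRing.Cx A) [DRing.HasRHomCx G]
    (hG : Nonempty (DRing.toD G ≅
      (DRing.RgammaI (IsLocalRing.maximalIdeal A)).obj (DRing.toD K))) :
    Nonempty (((DRing.derivedCompletion (IsLocalRing.maximalIdeal A)).obj
      ((DRing.RHomCx K).obj ω)).obj ≅ (DRing.RHomCx G).obj (Dual.inD A E)) := by
  obtain ⟨hG⟩ := hG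
  have hm : (IsLocalRing.maximalIdeal A).FG :=
    (isNoetherianRing_iff_ideal_fg A).1 inferInstance _
  obtain ⟨hc, hB⟩ := rhom_completion (IsLocalRing.maximalIdeal A) hm K ω
  obtain ⟨e1, -⟩ := DCmpC.exists_iso_of_reflection (IsLocalRing.maximalIdeal A)
    ((DRing.RHomCx K).obj ω) _
    ((DRing.RHomCx K).map (DRing.toDerivedCompletion (IsLocalRing.maximalIdeal A) ω)) hc hB
  have hωc : DRing.IsDerivedComplete (IsLocalRing.maximalIdeal A)
      ((DRing.derivedCompletion (IsLocalRing.maximalIdeal A)).obj ω).obj :=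
    ((DRing.derivedCompletion (IsLocalRing.maximalIdeal A)).obj ω).property
  obtain ⟨e2⟩ := nonempty_rhom_iso_of_rgamma (IsLocalRing.maximalIdeal A) K G hG _ hωc
  have hGt : TorsCoh (IsLocalRing.maximalIdeal A) (DRing.toD G) :=
    torsCoh_of_iso _ hG.symm (torsCoh_RgammaI _ _)
  haveI := isIso_rhom_map_ε (IsLocalRing.maximalIdeal A) G hGt
    ((DRing.derivedCompletion (IsLocalRing.maximalIdeal A)).obj ω).obj
  obtain ⟨e4⟩ := (greenlees_may (IsLocalRing.maximalIdeal A) ω).1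
  obtain ⟨e5⟩ := nonempty_RgammaI_normalized_iso ω hω hn E f hf
  exact ⟨e1 ≪≫ e2 ≪≫
    (asIso ((DRing.RHomCx G).map ((DRing.RgammaIε (IsLocalRing.maximalIdeal A)).app
      ((DRing.derivedCompletion (IsLocalRing.maximalIdeal A)).obj ω).obj))).symm ≪≫
    (DRing.RHomCx G).mapIso e4 ≪≫ (DRing.RHomCx G).mapIso e5⟩

end Final

end Groth.Agent.Lib.Helper8.Bidual
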