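import Mathlib
import Groth.Agent.Lib.Helper26.PlusBridge
import Groth.Agent.Lib.Helper26.KInjAdjH
import Groth.Agent.Lib.Helper8.KInjDer

/-!
# Helper8 — the bounded-below derived functor `R⁺G` agrees with the unbounded total derived functor
(K-injective resolutions) on bounded below complexes
-/

set_option autoImplicit false
set_option linter.unusedSectionVars false

universe w w' v v' u u'

open CategoryTheory CategoryTheory.Limits

namespace Groth.Agent.Lib.Helper8.PlusCompare

variable {A : Type u} [Category.{v} A] [Abelian A] [IsGrothendieckAbelian.{v} A]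
  [HasDerivedCategory.{w} A]
  {B : Type u'} [Category.{v'} B] [Abelian B] [HasDerivedCategory.{w'} B] (G : A ⥤ B) [G.Additive]

theorem compare
    [(G.mapHomotopyCategory (ComplexShape.up ℤ) ⋙ DerivedCategory.Qh).HasRightDerivedFunctor
      (HomotopyCategory.quasiIso A (ComplexShape.up ℤ))]
    (K : CochainComplex.Plus A) :
    Nonempty ((G.rightDerivedFunctorPlus.obj
        (DerivedCategory.Plus.Qh.obj ((HomotopyCategory.Plus.quotient A).obj K))).obj ≅
      ((G.mapHomotopyCategory (ComplexShape.up ℤ) ⋙ DerivedCategory.Qh).totalRightDerived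
        DerivedCategory.Qh (HomotopyCategory.quasiIso A (ComplexShape.up ℤ))).obj
        (DerivedCategory.Q.obj K.obj)) := by
  let E := DerivedCategory.Plus.Qh.obj ((HomotopyCategory.Plus.quotient A).obj K)
  obtain ⟨L, n, hn, hinj, ⟨e₁⟩, ⟨e₂⟩⟩ := Groth.Agent.Lib.Helper26.PlusBridge.bridge G E
  haveI := hn
  haveI := hinj
  have hL : L.IsKInjective := CochainComplex.isKInjective_of_injective L n
  let F' := G.mapHomotopyCategory (ComplexShape.up ℤ) ⋙ DerivedCategory.Qh
  let RG := F'.totalRightDerived DerivedCategory.Qh (HomotopyCategory.quasiIso A (ComplexShape.up ℤ))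
  let α := F'.totalRightDerivedUnit DerivedCategory.Qh
    (HomotopyCategory.quasiIso A (ComplexShape.up ℤ))
  haveI : IsIso (α.app ((HomotopyCategory.quotient A (ComplexShape.up ℤ)).obj L)) :=
    KInjDer.isIso_unit (Groth.Agent.Lib.Helper26.KInjAdjH.hK (B := A)) F' _ hL
  let e₀ : E.obj ≅ DerivedCategory.Q.obj K.obj := Groth.Agent.Lib.Helper6.RDPlus.eIso K
  let i1 : DerivedCategory.Q.obj ((G.mapHomologicalComplex (ComplexShape.up ℤ)).obj L) ≅
      F'.obj ((HomotopyCategory.quotient A (ComplexShape.up ℤ)).obj L) :=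
    (DerivedCategory.quotientCompQhIso B).symm.app _ ≪≫
      DerivedCategory.Qh.mapIso ((G.mapHomotopyCategoryFactors (ComplexShape.up ℤ)).symm.app L)
  let i2 : (DerivedCategory.Qh ⋙ RG).obj ((HomotopyCategory.quotient A (ComplexShape.up ℤ)).obj L) ≅
      RG.obj (DerivedCategory.Q.obj L) :=
    RG.mapIso ((DerivedCategory.quotientCompQhIso A).app L)
  exact ⟨e₂ ≪≫ i1 ≪≫ asIso (α.app _) ≪≫ i2 ≪≫ RG.mapIso (e₁.symm ≪≫ e₀)⟩

end Groth.Agent.Lib.Helper8.PlusCompare
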