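import Groth.Prelude.Def_CohCx
import Groth.Prelude.Def_FreeSh
import Mathlib.CategoryTheory.Sites.Pullback

/-!
# Helper8 — inverse image of the free abelian sheaf `ℤ_V` along a continuous functor `u` is `ℤ_{uV}`
-/

set_option autoImplicit false

universe u

open CategoryTheory CategoryTheory.Limits Opposite

namespace Groth.Agent.Lib.Helper8.PullFree

variable {C D : Type u} [SmallCategory C] [SmallCategory D]
  {J : GrothendieckTopology C} {K' : GrothendieckTopology D} (u : D ⥤ C) [u.IsContinuous K' J]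
  {Φ : Sheaf K' AddCommGrpCat.{u} ⥤ Sheaf J AddCommGrpCat.{u}}
  (adjab : Φ ⊣ u.sheafPushforwardContinuous AddCommGrpCat.{u} K' J)

/-- evaluation of abelian sheaves at an object -/
noncomputable def evalAt (U : C) : Sheaf J AddCommGrpCat.{u} ⥤ Type u where
  obj F := F.obj.obj (op U)
  map p := ↾(fun m => (p.hom.app (op U)).hom m)

/-- `ℤ_U` corepresents evaluation at `U` -/
noncomputable def corep (U : C) : (evalAt (J := J) U).CorepresentableBy (CohCx.freeSheaf J U) where
  homEquiv {F} := (CohFree.homEquivSect J U F).toEquiv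
  homEquiv_comp _ _ := rfl

/-- `Φ ℤ_V` corepresents evaluation at `u V` -/
noncomputable def corepPull (V : D) :
    (evalAt (J := J) (u.obj V)).CorepresentableBy (Φ.obj (CohCx.freeSheaf K' V)) where
  homEquiv {F} := (adjab.homEquiv _ F).trans (CohFree.homEquivSect K' V _).toEquiv
  homEquiv_comp g f := by
    simp only [Equiv.trans_apply]
    rw [Adjunction.homEquiv_naturality_right]
    rfl

/-- `Φ ℤ_V ≅ ℤ_{uV}` -/
noncomputable def iso (V : D) : Φ.obj (CohCx.freeSheaf K' V) ≅ CohCx.freeSheaf J (u.obj V) :=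
  (corepPull u adjab V).uniqueUpToIso (corep (u.obj V))

lemma homEquiv_iso_hom_comp (V : D) (F : Sheaf J AddCommGrpCat.{u})
    (φ : CohCx.freeSheaf J (u.obj V) ⟶ F) :
    adjab.homEquiv _ _ ((iso u adjab V).hom ≫ φ) =
      CohFree.ofSect K' V ((u.sheafPushforwardContinuous AddCommGrpCat.{u} K' J).obj F)
        (CohFree.evalGen J (u.obj V) F φ) := by
  have h := (corepPull u adjab V).homEquiv_comp φ (iso u adjab V).hom
  have h0 : (corepPull u adjab V).homEquiv (iso u adjab V).hom =
      (corep (J := J) (u.obj V)).homEquiv (𝟙 _) := by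
    unfold iso
    rw [Functor.CorepresentableBy.uniqueUpToIso_hom]
    exact Equiv.apply_symm_apply _ _
  rw [h0, ← (corep (J := J) (u.obj V)).homEquiv_comp, Category.id_comp] at h
  apply (CohFree.homEquivSect K' V _).injective
  refine Eq.trans h ?_
  exact (CohFree.evalGen_ofSect K' V
    ((u.sheafPushforwardContinuous AddCommGrpCat.{u} K' J).obj F) _).symm

lemma iso_naturality {V' V : D} (g : V' ⟶ V) :
    Φ.map (CohCx.freeSheafMap K' g) ≫ (iso u adjab V).hom =
      (iso u adjab V').hom ≫ CohCx.freeSheafMap J (u.map g) := by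
  apply (adjab.homEquiv _ _).injective
  rw [Adjunction.homEquiv_naturality_left, homEquiv_iso_hom_comp]
  have h1 := homEquiv_iso_hom_comp u adjab V _ (𝟙 (CohCx.freeSheaf J (u.obj V)))
  rw [Category.comp_id] at h1
  rw [h1]
  apply (CohFree.homEquivSect K' V' _).injective
  rw [CohFree.homEquivSect_apply, CohFree.homEquivSect_apply, CohFree.evalGen_freeSheafMap_comp,
    CohFree.evalGen_ofSect, CohFree.evalGen_ofSect]
  have h2 := CohFree.evalGen_freeSheafMap_comp J (u.map g) _ (𝟙 (CohCx.freeSheaf J (u.obj V)))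
  rw [Category.comp_id] at h2
  rw [h2]
  rfl

end Groth.Agent.Lib.Helper8.PullFree
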