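import Mathlib
import Groth.Prelude.Def_CohCx
import Groth.Prelude.Def_FreeSh
import Groth.Agent.Lib.Helper8.PullFree
import Groth.Agent.Lib.Helper8.AbHDU
import Groth.Agent.Lib.Helper8.DSingleBij
import Groth.Agent.Lib.Helper8.AdjWayOut2

/-!
# Helper8 — negative vanishing on a basis propagates, and `V ↦ H^0(uV, K)` is a sheaf
(site form of S0883): `u : D ⥤ C` continuous with exact inverse image `Φ` on abelian sheaves and a
right adjoint `RG` of `Φ` on derived categories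
-/

set_option autoImplicit false
set_option linter.unusedSectionVars false

universe w u

open CategoryTheory CategoryTheory.Limits Opposite Pretriangulated DerivedCategory

namespace Groth.Agent.Lib.Helper8.PushBasis

open Groth.Agent.Lib.Helper8 DSingleHom Groth.Agent.Lib.Helper8.AdjWayOut

variable {C D : Type u} [SmallCategory C] [SmallCategory D]
  {J : GrothendieckTopology C} {K' : GrothendieckTopology D} (u : D ⥤ C) [u.IsContinuous K' J]
  {Φ : Sheaf K' AddCommGrpCat.{u} ⥤ Sheaf J AddCommGrpCat.{u}}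
  (adjab : Φ ⊣ u.sheafPushforwardContinuous AddCommGrpCat.{u} K' J)
  [Φ.Additive] [PreservesFiniteLimits Φ] [PreservesFiniteColimits Φ]
  [HasDerivedCategory.{w} (Sheaf K' AddCommGrpCat.{u})]
  [HasDerivedCategory.{u} (Sheaf J AddCommGrpCat.{u})]
  {RG : DerivedCategory (Sheaf J AddCommGrpCat.{u}) ⥤ DerivedCategory (Sheaf K' AddCommGrpCat.{u})}
  (adjD : Φ.mapDerivedCategory ⊣ RG)

/-- `Φ_D (ℤ_V[0]) ≅ ℤ_{uV}[0]` -/
noncomputable def jIso (V : D) :
    Φ.mapDerivedCategory.obj ((singleFunctor _ 0).obj (CohCx.freeSheaf K' V)) ≅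
      (singleFunctor _ 0).obj (CohCx.freeSheaf J (u.obj V)) :=
  (Φ.mapDerivedCategorySingleFunctor 0).app _ ≪≫
    (singleFunctor _ 0).mapIso (PullFree.iso u adjab V)

lemma jIso_naturality {V' V : D} (g : V' ⟶ V) :
    Φ.mapDerivedCategory.map ((singleFunctor _ 0).map (CohCx.freeSheafMap K' g)) ≫
        (jIso u adjab V).hom =
      (jIso u adjab V').hom ≫ (singleFunctor _ 0).map (CohCx.freeSheafMap J (u.map g)) := by
  unfold jIso
  simp only [Iso.trans_hom, Iso.app_hom, Functor.mapIso_hom]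
  have h1 := (Φ.mapDerivedCategorySingleFunctor 0).hom.naturality (CohCx.freeSheafMap K' g)
  simp only [Functor.comp_obj, Functor.comp_map] at h1
  rw [← Category.assoc, h1, Category.assoc, Category.assoc, ← Functor.map_comp,
    ← Functor.map_comp, PullFree.iso_naturality]

include adjab adjD in
/-- vanishing upstairs gives vanishing downstairs -/
lemma subsingleton_down (Kx : DerivedCategory (Sheaf J AddCommGrpCat.{u})) (V : D) (i : ℤ)
    (h : Subsingleton (CohCx.HDU Kx i (u.obj V))) :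
    Subsingleton (CohCx.HDU (RG.obj Kx) i V) := by
  letI := adjD.rightAdjointCommShift ℤ
  let e₃ : RG.obj (Kx⟦i⟧) ≅ (RG.obj Kx)⟦i⟧ := (RG.commShiftIso i).app Kx
  refine ⟨fun x y => ?_⟩
  have h1 := h.elim ((jIso u adjab V).inv ≫ (adjD.homEquiv _ _).symm (x ≫ e₃.inv))
    ((jIso u adjab V).inv ≫ (adjD.homEquiv _ _).symm (y ≫ e₃.inv))
  rw [cancel_epi] at h1
  have h2 := (adjD.homEquiv _ _).symm.injective h1
  exact (cancel_mono e₃.inv).1 h2

include adjab adjD in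
/-- vanishing downstairs gives vanishing upstairs -/
lemma subsingleton_up (Kx : DerivedCategory (Sheaf J AddCommGrpCat.{u})) (V : D) (i : ℤ)
    (h : Subsingleton (CohCx.HDU (RG.obj Kx) i V)) :
    Subsingleton (CohCx.HDU Kx i (u.obj V)) := by
  letI := adjD.rightAdjointCommShift ℤ
  let e₃ : RG.obj (Kx⟦i⟧) ≅ (RG.obj Kx)⟦i⟧ := (RG.commShiftIso i).app Kx
  refine ⟨fun x y => ?_⟩
  have h1 := h.elim (adjD.homEquiv _ _ ((jIso u adjab V).hom ≫ x) ≫ e₃.hom)
    (adjD.homEquiv _ _ ((jIso u adjab V).hom ≫ y) ≫ e₃.hom)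
  rw [cancel_mono] at h1
  have h2 := (adjD.homEquiv _ _).injective h1
  exact (cancel_epi _).1 h2

lemma HDUres_comp {A : Type u} [SmallCategory A] {T : GrothendieckTopology A}
    [HasDerivedCategory.{w} (Sheaf T AddCommGrpCat.{u})]
    (L : DerivedCategory (Sheaf T AddCommGrpCat.{u})) (q : ℤ) {U V W : A} (f : V ⟶ U) (g : W ⟶ V)
    (φ : CohCx.HDU L q U) :
    CohCx.HDUres L q (g ≫ f) φ = CohCx.HDUres L q g (CohCx.HDUres L q f φ) := by
  change (singleFunctor _ 0).map (CohCx.freeSheafMap T (g ≫ f)) ≫ φ =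
    (singleFunctor _ 0).map (CohCx.freeSheafMap T g) ≫
      (singleFunctor _ 0).map (CohCx.freeSheafMap T f) ≫ φ
  rw [CohFree.freeSheafMap_comp, Functor.map_comp, Category.assoc]

variable (B : Set D)
  (hB : ∀ V : D, ∃ (ι : Type u) (Y : ι → D) (g : ∀ i, Y i ⟶ V),
    Sieve.ofArrows Y g ∈ K' V ∧ ∀ i, Y i ∈ B)
  (Kx : DerivedCategory (Sheaf J AddCommGrpCat.{u}))
  (h : ∀ V ∈ B, ∀ i : ℤ, i < 0 → Subsingleton (CohCx.HDU Kx i (u.obj V)))

include adjab adjD hB h in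
/-- `RG K` lies in `D^{≥0}` -/
lemma isGE_RG : (RG.obj Kx).IsGE 0 := by
  refine (isGE_iff _ 0).2 (fun i hi => ?_)
  apply AbHDU.isZero_HD_of_locally_zero
  intro U φ
  obtain ⟨ι, Z, g, hcov, hZ⟩ := hB U
  refine ⟨Sieve.ofArrows Z g, hcov, ?_⟩
  rintro V f ⟨W, a, b, ⟨j⟩, rfl⟩
  haveI := subsingleton_down u adjab adjD Kx (Z j) i (h _ (hZ j) i hi)
  rw [HDUres_comp, Subsingleton.elim (CohCx.HDUres (RG.obj Kx) i (g j) φ) 0, map_zero]

include adjab adjD hB h in
theorem vanishing (V : D) (i : ℤ) (hi : i < 0) : Subsingleton (CohCx.HDU Kx i (u.obj V)) := by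
  haveI := isGE_RG u adjab adjD B hB Kx h
  exact subsingleton_up u adjab adjD Kx V i
    (RlimTrB.subsingleton_hom_shift_of_lt (CohCx.freeSheaf K' V) (RG.obj Kx) 0 i hi)

/-- the comparison map `H^0(uV, K) → H^0(RG(K[0]))(V)` -/
noncomputable def tauV (V : D) (φ : CohCx.HDU Kx 0 (u.obj V)) :
    (CohCx.HD (RG.obj (Kx⟦(0 : ℤ)⟧)) 0).obj.obj (op V) :=
  CohFree.evalGen K' V _ (θ (P := CohCx.freeSheaf K' V)
    (adjD.homEquiv _ _ ((jIso u adjab V).hom ≫ φ)))

lemma tauV_naturality {V' V : D} (g : V' ⟶ V) (φ : CohCx.HDU Kx 0 (u.obj V)) :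
    tauV u adjab adjD Kx V' (CohCx.HDUres Kx 0 (u.map g) φ) =
      ((CohCx.HD (RG.obj (Kx⟦(0 : ℤ)⟧)) 0).obj.map g.op).hom (tauV u adjab adjD Kx V φ) := by
  unfold tauV
  rw [← CohFree.evalGen_freeSheafMap_comp]
  congr 1
  have key : (jIso u adjab V').hom ≫
      (singleFunctor _ 0).map (CohCx.freeSheafMap J (u.map g)) ≫ φ =
      Φ.mapDerivedCategory.map ((singleFunctor _ 0).map (CohCx.freeSheafMap K' g)) ≫
        (jIso u adjab V).hom ≫ φ := by
    rw [← Category.assoc, ← jIso_naturality, Category.assoc]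
  have h2 : adjD.homEquiv _ _ ((jIso u adjab V').hom ≫
      (singleFunctor _ 0).map (CohCx.freeSheafMap J (u.map g)) ≫ φ) =
      (singleFunctor _ 0).map (CohCx.freeSheafMap K' g) ≫
        adjD.homEquiv _ _ ((jIso u adjab V).hom ≫ φ) := by
    rw [key, Adjunction.homEquiv_naturality_left]
  exact (congrArg (fun x => θ (P := CohCx.freeSheaf K' V') x) h2).trans
    (θ_precomp (CohCx.freeSheafMap K' g) _)

include adjab hB h in
lemma tauV_bijective (V : D) : Function.Bijective (tauV u adjab adjD Kx V) := by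
  haveI h0 : (RG.obj Kx).IsGE 0 := isGE_RG u adjab adjD B hB Kx h
  let e0 : RG.obj Kx ≅ RG.obj (Kx⟦(0 : ℤ)⟧) := RG.mapIso ((shiftFunctorZero _ ℤ).app Kx).symm
  haveI : (RG.obj (Kx⟦(0 : ℤ)⟧)).IsGE 0 := DerivedCategory.TStructure.t.isGE_of_iso e0 0
  have b1 : Function.Bijective (fun φ : CohCx.HDU Kx 0 (u.obj V) =>
      adjD.homEquiv _ _ ((jIso u adjab V).hom ≫ φ)) := by
    refine (adjD.homEquiv _ _).bijective.comp ⟨fun a b hab => ?_, fun c => ?_⟩
    · exact (cancel_epi (jIso u adjab V).hom).1 hab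
    · exact ⟨(jIso u adjab V).inv ≫ c, by simp⟩
  have b2 := DSingleBij.θ_bijective (CohCx.freeSheaf K' V) (RG.obj (Kx⟦(0 : ℤ)⟧))
  have b3 : Function.Bijective (CohFree.evalGen K' V (CohCx.HD (RG.obj (Kx⟦(0 : ℤ)⟧)) 0)) :=
    (CohFree.homEquivSect K' V _).bijective
  exact b3.comp (b2.comp b1)

include adjab adjD hB h in
theorem isSheaf : Presheaf.IsSheaf K' (u.op ⋙ CohCx.HDUPresheaf Kx 0) := by
  rw [Presheaf.isSheaf_iff_isSheaf_forget K' _ (forget AddCommGrpCat.{u}),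
    isSheaf_iff_isSheaf_of_type]
  let F₂ : Dᵒᵖ ⥤ Type u := (CohCx.HD (RG.obj (Kx⟦(0 : ℤ)⟧)) 0).obj ⋙ forget AddCommGrpCat.{u}
  have hF₂ : Presieve.IsSheaf K' F₂ :=
    (isSheaf_iff_isSheaf_of_type _ _).1
      ((Presheaf.isSheaf_iff_isSheaf_forget K' _ (forget AddCommGrpCat.{u})).1
        (CohCx.HD (RG.obj (Kx⟦(0 : ℤ)⟧)) 0).property)
  let e : (u.op ⋙ CohCx.HDUPresheaf Kx 0) ⋙ forget AddCommGrpCat.{u} ≅ F₂ :=
    NatIso.ofComponents
      (fun V => (Equiv.ofBijective _ (tauV_bijective u adjab adjD B hB Kx h V.unop)).toIso)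
      (by
        rintro ⟨V⟩ ⟨V'⟩ ⟨g⟩
        ext φ
        exact tauV_naturality u adjab adjD Kx g φ)
  exact Presieve.isSheaf_iso K' e.symm hF₂

end Groth.Agent.Lib.Helper8.PushBasis
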