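import Mathlib
import Groth.Prelude.Def_CohCx
import Groth.Prelude.Def_FreeSh
import Groth.Agent.Lib.Helper8.PushBasis
import Groth.Agent.Lib.Helper8.SheafifyHDU

/-!
# Helper8 — `H^p(RG K)` is the sheafification of `V ↦ H^p(uV, K)` (site form, for S8351)
-/

set_option autoImplicit false
set_option linter.unusedSectionVars false

universe u

open CategoryTheory CategoryTheory.Limits Opposite Pretriangulated DerivedCategory

namespace Groth.Agent.Lib.Helper8.PushHDU

open Groth.Agent.Lib.Helper8 DSingleHom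

variable {C D : Type u} [SmallCategory C] [SmallCategory D]
  {J : GrothendieckTopology C} {K' : GrothendieckTopology D} (u : D ⥤ C) [u.IsContinuous K' J]
  {Φ : Sheaf K' AddCommGrpCat.{u} ⥤ Sheaf J AddCommGrpCat.{u}}
  (adjab : Φ ⊣ u.sheafPushforwardContinuous AddCommGrpCat.{u} K' J)
  [Φ.Additive] [PreservesFiniteLimits Φ] [PreservesFiniteColimits Φ]
  [HasDerivedCategory.{u} (Sheaf K' AddCommGrpCat.{u})]
  [HasDerivedCategory.{u} (Sheaf J AddCommGrpCat.{u})]
  {RG : DerivedCategory (Sheaf J AddCommGrpCat.{u}) ⥤ DerivedCategory (Sheaf K' AddCommGrpCat.{u})}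
  (adjD : Φ.mapDerivedCategory ⊣ RG)
  (Kx : DerivedCategory (Sheaf J AddCommGrpCat.{u})) (p : ℤ)

/-- a fixed isomorphism `RG(K⟦p⟧) ≅ (RG K)⟦p⟧` -/
noncomputable def e₃ : RG.obj (Kx⟦p⟧) ≅ (RG.obj Kx)⟦p⟧ :=
  letI := adjD.rightAdjointCommShift ℤ
  (RG.commShiftIso p).app Kx

/-- the adjunction map on classes -/
noncomputable def σ (V : D) : CohCx.HDU Kx p (u.obj V) →+ CohCx.HDU (RG.obj Kx) p V :=
  AddMonoidHom.mk' (fun φ => adjD.homEquiv _ _ ((PushBasis.jIso u adjab V).hom ≫ φ) ≫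
    (e₃ adjD Kx p).hom) (by
    intro a b
    rw [Preadditive.comp_add, Adjunction.homAddEquiv_add, Preadditive.add_comp])

lemma σ_apply (V : D) (φ : CohCx.HDU Kx p (u.obj V)) :
    σ u adjab adjD Kx p V φ = adjD.homEquiv _ _ ((PushBasis.jIso u adjab V).hom ≫ φ) ≫
      (e₃ adjD Kx p).hom := rfl

lemma σ_bijective (V : D) : Function.Bijective (σ u adjab adjD Kx p V) := by
  constructor
  · intro a b hab
    rw [σ_apply, σ_apply, cancel_mono] at hab
    have h2 := (adjD.homEquiv _ _).injective hab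
    exact (cancel_epi _).1 h2
  · intro c
    refine ⟨(PushBasis.jIso u adjab V).inv ≫ (adjD.homEquiv _ _).symm (c ≫ (e₃ adjD Kx p).inv), ?_⟩
    rw [σ_apply, Iso.hom_inv_id_assoc, Equiv.apply_symm_apply, Category.assoc, Iso.inv_hom_id]
    exact Category.comp_id _

lemma σ_naturality {V' V : D} (g : V' ⟶ V) (φ : CohCx.HDU Kx p (u.obj V)) :
    σ u adjab adjD Kx p V' (CohCx.HDUres Kx p (u.map g) φ) =
      CohCx.HDUres (RG.obj Kx) p g (σ u adjab adjD Kx p V φ) := by
  rw [σ_apply, σ_apply]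
  have key : (PushBasis.jIso u adjab V').hom ≫
      (singleFunctor _ 0).map (CohCx.freeSheafMap J (u.map g)) ≫ φ =
      Φ.mapDerivedCategory.map ((singleFunctor _ 0).map (CohCx.freeSheafMap K' g)) ≫
        (PushBasis.jIso u adjab V).hom ≫ φ := by
    rw [← Category.assoc, ← PushBasis.jIso_naturality, Category.assoc]
  have h2 : adjD.homEquiv _ _ ((PushBasis.jIso u adjab V').hom ≫
      (singleFunctor _ 0).map (CohCx.freeSheafMap J (u.map g)) ≫ φ) =
      (singleFunctor _ 0).map (CohCx.freeSheafMap K' g) ≫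
        adjD.homEquiv _ _ ((PushBasis.jIso u adjab V).hom ≫ φ) := by
    rw [key, Adjunction.homEquiv_naturality_left]
  change adjD.homEquiv _ _ ((PushBasis.jIso u adjab V').hom ≫
      (singleFunctor _ 0).map (CohCx.freeSheafMap J (u.map g)) ≫ φ) ≫ _ =
    (singleFunctor _ 0).map (CohCx.freeSheafMap K' g) ≫ _ ≫ _
  rw [h2, Category.assoc]

/-- the isomorphism of presheaves `V ↦ H^p(uV, K)` and `V ↦ H^p(V, RG K)` -/
noncomputable def presheafIso : u.op ⋙ CohCx.HDUPresheaf Kx p ≅ CohCx.HDUPresheaf (RG.obj Kx) p :=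
  NatIso.ofComponents
    (fun V => (AddEquiv.ofBijective (σ u adjab adjD Kx p V.unop)
      (σ_bijective u adjab adjD Kx p V.unop)).toAddCommGrpIso)
    (by
      rintro ⟨V⟩ ⟨V'⟩ ⟨g⟩
      ext φ
      exact σ_naturality u adjab adjD Kx p g φ)

include adjab adjD in
theorem main : Nonempty (CohCx.HD (RG.obj Kx) p ≅
    (presheafToSheaf K' AddCommGrpCat.{u}).obj (u.op ⋙ CohCx.HDUPresheaf Kx p)) := by
  obtain ⟨e⟩ := SheafifyHDU.main (RG.obj Kx) p
  exact ⟨e.symm ≪≫ (presheafToSheaf K' AddCommGrpCat.{u}).mapIso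
    (presheafIso u adjab adjD Kx p).symm⟩

end Groth.Agent.Lib.Helper8.PushHDU
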