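import Mathlib
import Groth.Prelude.Def_CohCx
import Groth.Prelude.Def_CohSite
import Groth.Prelude.Def_CohTop
import Groth.Agent.Lib.Helper8.PushBasis
import Groth.Agent.Lib.Helper26.KInjAdjH

/-!
# Helper8 — S0883: negative vanishing on a basis and the sheaf `V ↦ H^0(f⁻¹V, K)`
-/

set_option autoImplicit false

universe u

open CategoryTheory CategoryTheory.Limits Opposite TopologicalSpace

namespace Groth.Agent.Lib.Helper8.TopBasis

open Groth.Agent.Lib.Helper8

lemma cover_of_basis {Y : TopCat.{u}} (B : Set (Opens Y)) (hB : Opens.IsBasis B) (V : Opens Y) :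
    ∃ (ι : Type u) (Z : ι → Opens Y) (g : ∀ i, Z i ⟶ V),
      Sieve.ofArrows Z g ∈ Opens.grothendieckTopology Y V ∧ ∀ i, Z i ∈ B := by
  refine ⟨{W : Opens Y // W ∈ B ∧ W ≤ V}, fun i => i.1, fun i => homOfLE i.2.2, ?_,
    fun i => i.2.1⟩
  intro x hx
  obtain ⟨W, hWB, hxW, hWV⟩ := Opens.isBasis_iff_nbhd.1 hB hx
  exact ⟨W, homOfLE hWV, Sieve.ofArrows_mk _ _ (⟨W, hWB, hWV⟩ : {W : Opens Y // W ∈ B ∧ W ≤ V}),
    hxW⟩

theorem main {X Y : TopCat.{u}} (f : X ⟶ Y)
    [HasDerivedCategory.{u} (CohTop.Ab X)] (B : Set (Opens Y)) (hB : Opens.IsBasis B)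
    (K : DerivedCategory (CohTop.Ab X))
    (h : ∀ V ∈ B, ∀ i : ℤ, i < 0 → Subsingleton (CohCx.HDU K i ((Opens.map f).obj V))) :
    (∀ (V : Opens Y) (i : ℤ), i < 0 → Subsingleton (CohCx.HDU K i ((Opens.map f).obj V))) ∧
    Presheaf.IsSheaf (Opens.grothendieckTopology Y)
      ((Opens.map f).op ⋙ CohCx.HDUPresheaf K 0) := by
  letI : HasDerivedCategory.{u + 1} (CohTop.Ab Y) := HasDerivedCategory.standard _
  let Φ : CohTop.Ab Y ⥤ CohTop.Ab X := TopCat.Sheaf.pullback AddCommGrpCat.{u} f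
  let G : CohTop.Ab X ⥤ CohTop.Ab Y := TopCat.Sheaf.pushforward AddCommGrpCat.{u} f
  let adjab : Φ ⊣ G := TopCat.Sheaf.pullbackPushforwardAdjunction AddCommGrpCat.{u} f
  haveI : G.Additive := (inferInstance : (CohTop.push f).Additive)
  haveI : Φ.Additive := adjab.left_adjoint_additive
  haveI : PreservesFiniteLimits Φ := by
    change PreservesFiniteLimits (TopCat.Sheaf.pullback AddCommGrpCat.{u} f)
    unfold TopCat.Sheaf.pullback
    exact CategoryTheory.Functor.SmallCategories.instPreservesFiniteLimitsSheafSheafPullbackOfRepresentablyFlat _ _ _ _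
  haveI : PreservesFiniteColimits Φ := by
    haveI := adjab.leftAdjoint_preservesColimits
    infer_instance
  haveI := KInjDer.hasRightDerivedFunctor (Groth.Agent.Lib.Helper26.KInjAdjH.hK (B := CohTop.Ab X))
    (G.mapHomotopyCategory (ComplexShape.up ℤ) ⋙ DerivedCategory.Qh)
  let RG : DerivedCategory (CohTop.Ab X) ⥤ DerivedCategory (CohTop.Ab Y) :=
    (G.mapHomotopyCategory (ComplexShape.up ℤ) ⋙ DerivedCategory.Qh).totalRightDerived
      DerivedCategory.Qh (HomotopyCategory.quasiIso (CohTop.Ab X) (ComplexShape.up ℤ))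
  obtain ⟨adjD⟩ := Groth.Agent.Lib.Helper26.KInjAdjH.derivedAdjH Φ G adjab RG
    ((G.mapHomotopyCategory (ComplexShape.up ℤ) ⋙ DerivedCategory.Qh).totalRightDerivedUnit
      DerivedCategory.Qh (HomotopyCategory.quasiIso (CohTop.Ab X) (ComplexShape.up ℤ)))
  exact ⟨fun V i hi => PushBasis.vanishing (Opens.map f) adjab adjD B (cover_of_basis B hB) K h V i hi,
    PushBasis.isSheaf (Opens.map f) adjab adjD B (cover_of_basis B hB) K h⟩

end Groth.Agent.Lib.Helper8.TopBasis
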