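import Mathlib
import Groth.Prelude.Def_CohCx
import Groth.Agent.Lib.Helper8.PushHDU
import Groth.Agent.Lib.Helper8.PlusCompare
import Groth.Agent.Lib.Helper8.TopBasis

/-!
# Helper8 — cohomology sheaves of `R⁺f_* K` as sheafified hypercohomology (S8351)
-/

set_option autoImplicit false
set_option linter.unusedSectionVars false

universe u

open CategoryTheory CategoryTheory.Limits Opposite TopologicalSpace

namespace Groth.Agent.Lib.Helper8.HyperPush

theorem main {X Y : TopCat.{u}} (f : X ⟶ Y)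
    [HasDerivedCategory.{u} (CohTop.Ab X)] [HasDerivedCategory.{u} (CohTop.Ab Y)]
    (K : CochainComplex.Plus (CohTop.Ab X)) (p : ℤ) :
    Nonempty ((DerivedCategory.Plus.homologyFunctor (CohTop.Ab Y) p).obj
        ((CohTop.push f).rightDerivedFunctorPlus.obj
          (DerivedCategory.Plus.Qh.obj ((HomotopyCategory.Plus.quotient (CohTop.Ab X)).obj K))) ≅
      (presheafToSheaf (Opens.grothendieckTopology Y) AddCommGrpCat.{u}).obj
        ((Opens.map f).op ⋙ CohCx.HDUPresheaf (DerivedCategory.Q.obj K.obj) p)) := by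
  let Φ : CohTop.Ab Y ⥤ CohTop.Ab X := TopCat.Sheaf.pullback AddCommGrpCat.{u} f
  let G : CohTop.Ab X ⥤ CohTop.Ab Y := TopCat.Sheaf.pushforward AddCommGrpCat.{u} f
  let adjab : Φ ⊣ G := TopCat.Sheaf.pullbackPushforwardAdjunction AddCommGrpCat.{u} f
  haveI : G.Additive := (inferInstance : (CohTop.push f).Additive)
  haveI : Φ.Additive := adjab.left_adjoint_additive
  haveI : PreservesFiniteLimits Φ := by
    change PreservesFiniteLimits (TopCat.Sheaf.pullback AddCommGrpCat.{u} f)
    unfold TopCat.Sheaf.pullback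
    exact CategoryTheory.Functor.SmallCategories.instPreservesFiniteLimitsSheafSheafPullbackOfRepresentablyFlat _ _ _ _
  haveI : PreservesFiniteColimits Φ := by
    haveI := adjab.leftAdjoint_preservesColimits
    infer_instance
  haveI := KInjDer.hasRightDerivedFunctor (Groth.Agent.Lib.Helper26.KInjAdjH.hK (B := CohTop.Ab X))
    (G.mapHomotopyCategory (ComplexShape.up ℤ) ⋙ DerivedCategory.Qh)
  let RG : DerivedCategory (CohTop.Ab X) ⥤ DerivedCategory (CohTop.Ab Y) :=
    (G.mapHomotopyCategory (ComplexShape.up ℤ) ⋙ DerivedCategory.Qh).totalRightDerived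
      DerivedCategory.Qh (HomotopyCategory.quasiIso (CohTop.Ab X) (ComplexShape.up ℤ))
  obtain ⟨adjD⟩ := Groth.Agent.Lib.Helper26.KInjAdjH.derivedAdjH Φ G adjab RG
    ((G.mapHomotopyCategory (ComplexShape.up ℤ) ⋙ DerivedCategory.Qh).totalRightDerivedUnit
      DerivedCategory.Qh (HomotopyCategory.quasiIso (CohTop.Ab X) (ComplexShape.up ℤ)))
  obtain ⟨c⟩ := PlusCompare.compare G K
  obtain ⟨m⟩ := PushHDU.main (Opens.map f) adjab adjD (DerivedCategory.Q.obj K.obj) p
  exact ⟨(DerivedCategory.homologyFunctor (CohTop.Ab Y) p).mapIso c ≪≫ m⟩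

end Groth.Agent.Lib.Helper8.HyperPush
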