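import Mathlib
import Groth.Prelude.Def_DRing2
import Groth.Agent.Lib.Helper8.IAmp5
import Groth.Agent.Lib.Helper8.Stupid1
import Groth.Agent.Lib.Helper8.Stupid2

/-!
# Helper8 — IAmp6: finite injective dimension of bounded objects (S7036).
-/

open CategoryTheory CategoryTheory.Limits DerivedCategory CategoryTheory.Pretriangulated

namespace Groth.Agent.Lib.Helper8.IAmp

open Groth.Agent.Lib.Helper8.DTrunc Groth.Agent.Lib.Helper8.PAmp Groth.Agent.Lib.Helper8.Stupid

universe w v u

section General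

variable {A : Type u} [Category.{v} A] [Abelian A] [HasDerivedCategory.{w} A]

/-- finite injective dimension. -/
def FinInj : ObjectProperty (DerivedCategory A) := fun K => ∃ a b : ℤ, HasInjAmp a b K

instance : (FinInj (A := A)).IsClosedUnderIsomorphisms where
  of_iso e h := by
    obtain ⟨a, b, h⟩ := h
    exact ⟨a, b, h.of_iso e⟩

lemma finInj_of_isZero (Z : DerivedCategory A) (hZ : IsZero Z) : FinInj Z :=
  ⟨0, 0, hasInjAmp_of_isZero hZ⟩

lemma finInj_ext (T : Triangle (DerivedCategory A)) (hT : T ∈ distTriang _)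
    (h1 : FinInj T.obj₁) (h3 : FinInj T.obj₃) : FinInj T.obj₂ := by
  obtain ⟨a₁, b₁, h1⟩ := h1
  obtain ⟨a₂, b₂, h3⟩ := h3
  exact ⟨min a₁ a₂, max b₁ b₂, HasInjAmp.of_triangle T hT h1 h3
    ⟨min_le_left _ _, min_le_right _ _⟩ ⟨le_max_left _ _, le_max_right _ _⟩⟩

lemma finInj_shift (K : DerivedCategory A) (h : FinInj K) (m : ℤ) : FinInj (K⟦m⟧) := by
  obtain ⟨a, b, h⟩ := h
  exact ⟨a - m, b - m, h.shift m _ _ (by omega) (by omega)⟩

lemma finInj_single (M : A) (h : FinInj ((singleFunctor A 0).obj M)) (i : ℤ) :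
    FinInj ((singleFunctor A i).obj M) :=
  (FinInj (A := A)).prop_of_iso (((singleFunctors A).shiftIso (-i) i 0 (by omega)).app M)
    (finInj_shift _ h (-i))

theorem finInj_of_homology (K : DerivedCategory A) (a b : ℤ)
    (hK : ∀ i : ℤ, i < a ∨ b < i → IsZero ((homologyFunctor A i).obj K))
    (h : ∀ i : ℤ, FinInj ((singleFunctor A 0).obj ((homologyFunctor A i).obj K))) : FinInj K := by
  have hLE : K.IsLE b := (isLE_iff K b).2 (fun i hi => hK i (Or.inr hi))
  have hGE : K.IsGE a := (isGE_iff K a).2 (fun i hi => hK i (Or.inl hi))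
  by_cases hab : a ≤ b + 1
  · obtain ⟨n, hn⟩ : ∃ n : ℕ, (n : ℤ) = b + 1 - a := ⟨(b + 1 - a).toNat, Int.toNat_of_nonneg (by omega)⟩
    have hGE' : K.IsGE (b + 1 - n) := by
      have : b + 1 - (n : ℤ) = a := by omega
      rw [this]; exact hGE
    exact induction_cohomology FinInj finInj_ext finInj_of_isZero n K b hLE hGE'
      (fun i => finInj_single _ (h i) i)
  · exact finInj_of_isZero _ (tt.isZero K b a (by omega))

theorem finInj_of_terms (K : CochainComplex A ℤ) (a b : ℤ)
    (hK : ∀ i : ℤ, i < a ∨ b < i → IsZero (K.X i))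
    (h : ∀ i : ℤ, FinInj ((singleFunctor A 0).obj (K.X i))) : FinInj (Q.obj K) := by
  refine induction_bounded FinInj finInj_ext finInj_of_isZero (b + 1 - a).toNat K a ?_
    (fun i => finInj_single _ (h i) i)
  intro i hi
  refine hK i ?_
  rcases hi with hi | hi
  · exact Or.inl hi
  · by_cases hab : a ≤ b + 1
    · rw [Int.toNat_of_nonneg (by omega)] at hi
      exact Or.inr (by omega)
    · rw [Int.toNat_of_nonpos (by omega)] at hi
      exact Or.inr (by omega)

end General

section Ring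

attribute [local instance] HasDerivedCategory.standard

variable {R : Type u} [CommRing R]

lemma hasFiniteInjDim_iff (K : Dual.D R) : DRing.HasFiniteInjDim R K ↔ FinInj K := by
  constructor
  · rintro ⟨a, b, h⟩
    exact ⟨a, b, (hasInjAmp_iff a b K).1 h⟩
  · rintro ⟨a, b, h⟩
    exact ⟨a, b, (hasInjAmp_iff a b K).2 h⟩

/-- S7036 -/
theorem hasFiniteInjDim_of_bounded :
    (∀ (K : Dual.D R), (∃ a b : ℤ, ∀ i : ℤ, (i < a ∨ b < i) → Subsingleton (Dual.HD R K i)) →
        (∀ i : ℤ, DRing.HasFiniteInjDim R (Dual.inD R (Dual.HD R K i))) → DRing.HasFiniteInjDim R K) ∧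
      (∀ (K : DRing.Cx R) (a b : ℤ), DRing.VanishesOutside K a b →
        (∀ i : ℤ, DRing.HasFiniteInjDim R (Dual.inD R (K.X i))) →
          DRing.HasFiniteInjDim R (DRing.toD K)) := by
  constructor
  · rintro K ⟨a, b, hK⟩ h
    rw [hasFiniteInjDim_iff]
    refine finInj_of_homology K a b (fun i hi => ?_) (fun i => (hasFiniteInjDim_iff _).1 (h i))
    have := hK i hi
    exact ModuleCat.isZero_of_subsingleton _
  · intro K a b hK h
    rw [hasFiniteInjDim_iff]
    exact finInj_of_terms K a b hK (fun i => (hasFiniteInjDim_iff _).1 (h i))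

end Ring

end Groth.Agent.Lib.Helper8.IAmp
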