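import Mathlib
import Groth.Agent.Lib.Helper8.IAmp4

/-!
# Helper8 — IAmp7: reformulations with `IsStrictlyGE/LE` (S11159, S11153).
-/

open CategoryTheory CategoryTheory.Limits DerivedCategory CategoryTheory.Pretriangulated

namespace Groth.Agent.Lib.Helper8.IAmp

open Groth.Agent.Lib.Helper8.DTrunc Groth.Agent.Lib.Helper8.PAmp

universe w v u

variable {A : Type u} [Category.{v} A] [Abelian A] [HasDerivedCategory.{w} A]

lemma hasInjAmp_iff_strict (b c : ℤ) (K : DerivedCategory A) :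
    HasInjAmp b c K ↔ ∃ I : CochainComplex A ℤ, I.IsStrictlyGE b ∧ I.IsStrictlyLE c ∧
        (∀ n : ℤ, Injective (I.X n)) ∧ Nonempty (K ≅ Q.obj I) := by
  constructor
  · rintro ⟨I, h1, h2, ⟨e⟩⟩
    refine ⟨I, ?_, ?_, h1, ⟨e.symm⟩⟩
    · rw [CochainComplex.isStrictlyGE_iff]
      exact fun i hi => h2 i (Or.inl hi)
    · rw [CochainComplex.isStrictlyLE_iff]
      exact fun i hi => h2 i (Or.inr hi)
  · rintro ⟨I, h1, h2, h3, ⟨e⟩⟩
    refine ⟨I, h3, ?_, ⟨e.symm⟩⟩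
    rintro i (hi | hi)
    · exact CochainComplex.isZero_of_isStrictlyGE I b i hi
    · exact CochainComplex.isZero_of_isStrictlyLE I c i hi

/-- S11159 -/
theorem exists_iso_bounded_injective_of_distTriang
    (T : Triangle (DerivedCategory A)) (hT : T ∈ distTriang (DerivedCategory A))
    (h₁ : (∃ (I : CochainComplex A ℤ) (b c : ℤ), I.IsStrictlyGE b ∧ I.IsStrictlyLE c ∧
        (∀ n : ℤ, Injective (I.X n)) ∧ Nonempty (T.obj₁ ≅ DerivedCategory.Q.obj I)))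
    (h₃ : (∃ (I : CochainComplex A ℤ) (b c : ℤ), I.IsStrictlyGE b ∧ I.IsStrictlyLE c ∧
        (∀ n : ℤ, Injective (I.X n)) ∧ Nonempty (T.obj₃ ≅ DerivedCategory.Q.obj I))) :
    (∃ (I : CochainComplex A ℤ) (b c : ℤ), I.IsStrictlyGE b ∧ I.IsStrictlyLE c ∧
        (∀ n : ℤ, Injective (I.X n)) ∧ Nonempty (T.obj₂ ≅ DerivedCategory.Q.obj I)) := by
  obtain ⟨I₁, b₁, c₁, h11, h12, h13, h14⟩ := h₁
  obtain ⟨I₃, b₃, c₃, h31, h32, h33, h34⟩ := h₃
  have H1 : HasInjAmp b₁ c₁ T.obj₁ := (hasInjAmp_iff_strict _ _ _).2 ⟨I₁, h11, h12, h13, h14⟩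
  have H3 : HasInjAmp b₃ c₃ T.obj₃ := (hasInjAmp_iff_strict _ _ _).2 ⟨I₃, h31, h32, h33, h34⟩
  have H2 : HasInjAmp (min b₁ b₃) (max c₁ c₃) T.obj₂ := HasInjAmp.of_triangle T hT H1 H3
    ⟨min_le_left _ _, min_le_right _ _⟩ ⟨le_max_left _ _, le_max_right _ _⟩
  obtain ⟨I, h1, h2, h3, h4⟩ := (hasInjAmp_iff_strict _ _ _).1 H2
  exact ⟨I, _, _, h1, h2, h3, h4⟩

/-- S11153 -/
theorem exists_quasiIso_bounded_injective_iff [EnoughInjectives A]
    (K : CochainComplex A ℤ) (a : ℤ) [K.IsStrictlyGE a] :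
    (∃ (I : CochainComplex A ℤ) (b c : ℤ) (f : K ⟶ I), I.IsStrictlyGE b ∧ I.IsStrictlyLE c ∧
        (∀ n : ℤ, Injective (I.X n)) ∧ QuasiIso f) ↔
      ∃ n₀ : ℤ, ∀ (Y : A) (i : ℤ), n₀ < i →
        ∀ φ : (DerivedCategory.singleFunctor A 0).obj Y ⟶ (DerivedCategory.Q.obj K)⟦i⟧, φ = 0 := by
  constructor
  · rintro ⟨I, b, c, f, h1, h2, h3, h4⟩
    have e : Q.obj K ≅ Q.obj I := asIso (Q.map f)
    have H : HasInjAmp b c (Q.obj K) := (hasInjAmp_iff_strict _ _ _).2 ⟨I, h1, h2, h3, ⟨e⟩⟩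
    exact ⟨c, fun Y i hi φ => H.hom_eq_zero Y i (Or.inr hi) φ⟩
  · rintro ⟨n₀, H⟩
    have hGE : (Q.obj K).IsGE a := inferInstance
    have H' : HasInjAmp a n₀ (Q.obj K) := by
      refine (extVanishing_iff_hasInjAmp (Q.obj K) a n₀).1 (fun F i hi φ => ?_)
      rcases hi with hi | hi
      · have : ((Q.obj K)⟦i⟧).IsGE (a - i) := tt.isGE_shift (Q.obj K) a i (a - i) (by omega)
        exact tt.zero φ 0 (a - i) (by omega)
      · exact H F i hi φ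
    obtain ⟨I, h1, h2, h3, ⟨e⟩⟩ := (hasInjAmp_iff_strict _ _ _).1 H'
    have : I.IsKInjective := CochainComplex.isKInjective_of_injective I a
    obtain ⟨f, hf⟩ := exists_Q_map_of_isKInjective K I e.hom
    have hf' : IsIso (Q.map f) := by rw [← hf]; infer_instance
    exact ⟨I, a, n₀, f, h1, h2, h3, (DerivedCategory.isIso_Q_map_iff_quasiIso (φ := f)).1 hf'⟩

end Groth.Agent.Lib.Helper8.IAmp
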