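import Groth.Prelude.Def_W4c5stacksedinertiaGpd
import Mathlib.GroupTheory.GroupAction.Quotient
import Mathlib.Algebra.BigOperators.Fin
import Mathlib.RingTheory.Polynomial.Pochhammer
import Mathlib.RingTheory.Polynomial.Basic
import Mathlib.LinearAlgebra.Eigenspace.Basic

set_option autoImplicit false

namespace Groth.Agent.Lib.Helper8.Inertia

open W4c5stacksedinertia

universe u v

section Basic

/-- The presentation `FinGrp.of G` is isomorphic to `G`. -/
noncomputable def ofEquiv (G : Type u) [Group G] [Finite G] : (FinGrp.of G).carrier ≃* G :=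
  letI e : Fin (Nat.card G) ≃ G := (Nat.equivFinOfCardPos (α := G) Nat.card_pos.ne').symm
  @MulEquiv.mk (FinGrp.of G).carrier G _ _ e (fun _ _ => e.apply_symm_apply _)

theorem of_eq_of_mulEquiv {G : Type u} {G' : Type v} [Group G] [Finite G] [Group G'] [Finite G']
    (e : G ≃* G') : Idx.of G = Idx.of G' :=
  Quotient.sound ⟨(ofEquiv G).trans (e.trans (ofEquiv G').symm)⟩

theorem of_rep (i : Idx) : Idx.of i.rep = i := by
  conv_rhs => rw [← Quotient.out_eq (s := FinGrp.setoid) i]
  exact Quotient.sound ⟨ofEquiv _⟩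

/-- The chosen representative of the class of `G` is isomorphic to `G`. -/
noncomputable def repEquiv (G : Type u) [Group G] [Finite G] : (Idx.of G).rep ≃* G :=
  (Classical.choice (Quotient.mk_out (s := FinGrp.setoid) (FinGrp.of G))).trans (ofEquiv G)

theorem card_of (G : Type u) [Group G] [Finite G] : (Idx.of G).card = Nat.card G :=
  Nat.card_congr (repEquiv G).toEquiv

theorem card_center_congr {G : Type u} {G' : Type v} [Group G] [Group G'] (e : G ≃* G') :
    Nat.card (Subgroup.center G) = Nat.card (Subgroup.center G') := by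
  refine Nat.card_congr (e.toEquiv.subtypeEquiv ?_)
  intro a
  simp only [Subgroup.mem_center_iff]
  constructor
  · intro h g
    obtain ⟨g, rfl⟩ := e.surjective g
    change e g * e a = e a * e g
    rw [← map_mul, ← map_mul, h g]
  · intro h g
    have := h (e g)
    change e g * e a = e a * e g at this
    rw [← map_mul, ← map_mul] at this
    exact e.injective this

theorem centerCard_of (G : Type u) [Group G] [Finite G] :
    (Idx.of G).centerCard = Nat.card (Subgroup.center G) :=
  card_center_congr (repEquiv G)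

theorem cl_eq_of_mulEquiv {G : Type u} {G' : Type v} [Group G] [Finite G] [Group G'] [Finite G']
    (e : G ≃* G') : cl G = cl G' := by
  unfold cl
  rw [of_eq_of_mulEquiv e]

theorem cl_rep (i : Idx) : cl i.rep = Finsupp.single i 1 := by
  unfold cl
  rw [of_rep]

end Basic

section Burnside

variable {G : Type u} [Group G]

/-- `Φ(S) = |C_G(S)| • [C_G(S)]`. -/
noncomputable def Phi [Finite G] (S : Set G) : K :=
  (Nat.card (Subgroup.centralizer S) : ℚ) • cl (Subgroup.centralizer S)

instance instFiniteCommTuple [Finite G] (r : ℕ) : Finite (CommTuple G r) := by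
  unfold CommTuple; infer_instance

instance instFiniteOrbit [Finite G] (r : ℕ) : Finite (CommTuple.Orbit G r) := by
  unfold CommTuple.Orbit; infer_instance

theorem commute_conj (g a b : G) (h : Commute a b) : Commute (g * a * g⁻¹) (g * b * g⁻¹) := by
  have hab : a * b = b * a := h
  change g * a * g⁻¹ * (g * b * g⁻¹) = g * b * g⁻¹ * (g * a * g⁻¹)
  calc g * a * g⁻¹ * (g * b * g⁻¹) = g * (a * b) * g⁻¹ := by group
    _ = g * (b * a) * g⁻¹ := by rw [hab]
    _ = g * b * g⁻¹ * (g * a * g⁻¹) := by group

instance instMulActionCommTuple (r : ℕ) : MulAction G (CommTuple G r) where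
  smul g s := ⟨fun i => g * s.1 i * g⁻¹, fun i j h => s.2.1 (by simpa using h),
    fun i j => commute_conj g _ _ (s.2.2 i j)⟩
  one_smul s := by
    apply Subtype.ext
    funext i
    change 1 * s.1 i * 1⁻¹ = s.1 i
    simp
  mul_smul g h s := by
    apply Subtype.ext
    funext i
    change (g * h) * s.1 i * (g * h)⁻¹ = g * (h * s.1 i * h⁻¹) * g⁻¹
    group

theorem smul_val {r : ℕ} (g : G) (s : CommTuple G r) (i : Fin r) :
    (g • s).1 i = g * s.1 i * g⁻¹ := rfl

theorem stabilizer_eq {r : ℕ} (s : CommTuple G r) :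
    MulAction.stabilizer G s = Subgroup.centralizer (Set.range s.1) := by
  ext g
  rw [MulAction.mem_stabilizer_iff, Subgroup.mem_centralizer_iff]
  constructor
  · rintro h _ ⟨i, rfl⟩
    have h1 : g * s.1 i * g⁻¹ = s.1 i := congrArg (fun t : CommTuple G r => t.1 i) h
    rw [mul_inv_eq_iff_eq_mul] at h1
    exact h1.symm
  · intro h
    apply Subtype.ext
    funext i
    have h1 := h (s.1 i) ⟨i, rfl⟩
    change g * s.1 i * g⁻¹ = s.1 i
    rw [mul_inv_eq_iff_eq_mul]
    exact h1.symm

theorem setoid_iff {r : ℕ} (s t : CommTuple G r) :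
    (CommTuple.setoid G r).r s t ↔ t ∈ MulAction.orbit G s := by
  rw [MulAction.mem_orbit_iff]
  constructor
  · rintro ⟨g, hg⟩
    exact ⟨g, Subtype.ext (funext hg)⟩
  · rintro ⟨g, hg⟩
    exact ⟨g, fun i => congrArg (fun t : CommTuple G r => t.1 i) hg⟩

theorem Phi_eq_of_mem_orbit [Finite G] {r : ℕ} (s t : CommTuple G r)
    (h : t ∈ MulAction.orbit G s) : Phi (Set.range t.1) = Phi (Set.range s.1) := by
  have e1 : MulAction.stabilizer G t ≃* MulAction.stabilizer G s :=
    MulAction.stabilizerEquivStabilizerOfOrbitRel h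
  have e : Subgroup.centralizer (Set.range t.1) ≃* Subgroup.centralizer (Set.range s.1) :=
    ((MulEquiv.subgroupCongr (stabilizer_eq t)).symm.trans e1).trans
      (MulEquiv.subgroupCongr (stabilizer_eq s))
  unfold Phi
  rw [cl_eq_of_mulEquiv e, Nat.card_congr e.toEquiv]

theorem card_orbit_mul_card_centralizer [Finite G] {r : ℕ} (s : CommTuple G r) :
    Nat.card (MulAction.orbit G s) * Nat.card (Subgroup.centralizer (Set.range s.1)) =
      Nat.card G := by
  rw [← stabilizer_eq s, ← Nat.card_prod]
  exact Nat.card_congr (MulAction.orbitProdStabilizerEquivGroup G s)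

/-- The orbit of a tuple. -/
def toOrbit {r : ℕ} (s : CommTuple G r) : CommTuple.Orbit G r :=
  Quotient.mk (CommTuple.setoid G r) s

theorem toOrbit_eq_iff {r : ℕ} (s : CommTuple G r) (O : CommTuple.Orbit G r) :
    toOrbit s = O ↔ s ∈ MulAction.orbit G (Quotient.out (s := CommTuple.setoid G r) O) := by
  have h : (Quotient.mk (CommTuple.setoid G r) s = O) ↔
      (CommTuple.setoid G r).r s (Quotient.out (s := CommTuple.setoid G r) O) :=
    Quotient.mk_eq_iff_out
  exact h.trans ((setoid_iff s _).trans MulAction.mem_orbit_symm)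

theorem burnside [Finite G] (r : ℕ) :
    (Nat.card G : ℚ) • inertiaROf r G = ∑ᶠ s : CommTuple G r, Phi (Set.range s.1) := by
  classical
  have := Fintype.ofFinite (CommTuple G r)
  have := Fintype.ofFinite (CommTuple.Orbit G r)
  unfold inertiaROf
  rw [finsum_eq_sum_of_fintype, finsum_eq_sum_of_fintype, Finset.smul_sum]
  rw [← Fintype.sum_fiberwise (toOrbit (G := G) (r := r)) (fun s => Phi (Set.range s.1))]
  refine Finset.sum_congr rfl ?_
  intro O _
  have hconst : ∀ s : {s : CommTuple G r // toOrbit s = O},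
      Phi (Set.range s.1.1) = Phi (Set.range (Quotient.out (s := CommTuple.setoid G r) O).1) :=
    fun s => Phi_eq_of_mem_orbit _ s.1 ((toOrbit_eq_iff s.1 O).1 s.2)
  rw [Finset.sum_congr rfl (fun s _ => hconst s), Finset.sum_const, Finset.card_univ,
    ← Nat.card_eq_fintype_card, Nat.card_congr (Equiv.subtypeEquivRight (fun s => toOrbit_eq_iff s O))]
  unfold Phi
  rw [← Nat.cast_smul_eq_nsmul ℚ, smul_smul, ← Nat.cast_mul]
  congr 2
  exact (card_orbit_mul_card_centralizer _).symm

end Burnside

section Iso

variable {G : Type u} [Group G] {G' : Type v} [Group G']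

/-- centralizers correspond under an isomorphism -/
noncomputable def centralizerCongr (e : G ≃* G') (S : Set G) :
    Subgroup.centralizer S ≃* Subgroup.centralizer (e '' S) :=
  (e.subgroupMap (Subgroup.centralizer S)).trans (MulEquiv.subgroupCongr (by
    ext y
    rw [Subgroup.mem_map, Subgroup.mem_centralizer_iff]
    constructor
    · rintro ⟨x, hx, rfl⟩ _ ⟨a, ha, rfl⟩
      have := Subgroup.mem_centralizer_iff.1 hx a ha
      change e a * e x = e x * e a
      rw [← map_mul, ← map_mul, this]
    · intro h
      refine ⟨e.symm y, ?_, by simp⟩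
      rw [Subgroup.mem_centralizer_iff]
      intro a ha
      apply e.injective
      rw [map_mul, map_mul, e.apply_symm_apply]
      exact h (e a) ⟨a, ha, rfl⟩))

theorem Phi_image [Finite G] [Finite G'] (e : G ≃* G') (S : Set G) :
    Phi (e '' S) = Phi S := by
  unfold Phi
  rw [cl_eq_of_mulEquiv (centralizerCongr e S), Nat.card_congr (centralizerCongr e S).toEquiv]

/-- transport of commuting tuples along an isomorphism -/
def commTupleCongr (e : G ≃* G') (r : ℕ) : CommTuple G r ≃ CommTuple G' r where
  toFun s := ⟨fun i => e (s.1 i), fun i j h => s.2.1 (e.injective h), fun i j => by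
    have h : s.1 i * s.1 j = s.1 j * s.1 i := s.2.2 i j
    change e (s.1 i) * e (s.1 j) = e (s.1 j) * e (s.1 i)
    rw [← map_mul, ← map_mul, h]⟩
  invFun s := ⟨fun i => e.symm (s.1 i), fun i j h => s.2.1 (e.symm.injective h), fun i j => by
    have h : s.1 i * s.1 j = s.1 j * s.1 i := s.2.2 i j
    change e.symm (s.1 i) * e.symm (s.1 j) = e.symm (s.1 j) * e.symm (s.1 i)
    rw [← map_mul, ← map_mul, h]⟩
  left_inv s := by
    apply Subtype.ext
    funext i
    simp
  right_inv s := by
    apply Subtype.ext
    funext i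
    simp

theorem inertiaROf_congr [Finite G] [Finite G'] (e : G ≃* G') (r : ℕ) :
    inertiaROf r G = inertiaROf r G' := by
  have h1 := burnside (G := G) r
  have h2 := burnside (G := G') r
  have hc : Nat.card G = Nat.card G' := Nat.card_congr e.toEquiv
  have hne : (Nat.card G : ℚ) ≠ 0 := by
    have : 0 < Nat.card G := Nat.card_pos
    positivity
  have h3 : ∑ᶠ s : CommTuple G r, Phi (Set.range s.1) =
      ∑ᶠ s : CommTuple G' r, Phi (Set.range s.1) := by
    rw [← finsum_comp_equiv (commTupleCongr e r)]
    apply finsum_congr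
    intro s
    have hr : Set.range ((commTupleCongr e r) s).1 = e '' Set.range s.1 := by
      change Set.range (fun i => e (s.1 i)) = _
      exact Set.range_comp e s.1
    rw [hr, Phi_image]
  rw [← h3, ← h1, ← hc] at h2
  exact (smul_right_injective K hne h2).symm

theorem inertiaR_cl (r : ℕ) (H : Type u) [Group H] [Finite H] :
    inertiaR r (cl H) = inertiaROf r H := by
  unfold inertiaR cl
  rw [Finsupp.linearCombination_single, one_smul]
  exact inertiaROf_congr (repEquiv H) r

theorem inertiaR_single (r : ℕ) (i : Idx) (c : ℚ) :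
    inertiaR r (Finsupp.single i c) = c • inertiaROf r i.rep := by
  unfold inertiaR
  rw [Finsupp.linearCombination_single]

end Iso

section Step

variable {G : Type u} [Group G]

/-- one-tuples are elements -/
def tuple1 (H : Type u) [Group H] : H ≃ CommTuple H 1 where
  toFun h := ⟨fun _ => h, fun i j _ => Subsingleton.elim i j, fun _ _ => Commute.refl h⟩
  invFun s := s.1 0
  left_inv h := rfl
  right_inv s := by
    apply Subtype.ext
    funext i
    have : i = 0 := Subsingleton.elim i 0
    rw [this]

theorem burnside_one (H : Type u) [Group H] [Finite H] :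
    (Nat.card H : ℚ) • inertiaROf 1 H = ∑ᶠ h : H, Phi ({h} : Set H) := by
  rw [burnside 1, ← finsum_comp_equiv (tuple1 H)]
  apply finsum_congr
  intro h
  congr 1
  exact Set.range_const

/-- the centralizer of `h` inside the centralizer of `S` is the centralizer of `insert h S` -/
def centralizerInsert (S : Set G) (h : Subgroup.centralizer S) :
    Subgroup.centralizer ({h} : Set (Subgroup.centralizer S)) ≃*
      Subgroup.centralizer (insert h.1 S) where
  toFun x := ⟨x.1.1, by
    rw [Subgroup.mem_centralizer_iff]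
    intro a ha
    rcases ha with rfl | ha
    · have := Subgroup.mem_centralizer_iff.1 x.2 h rfl
      exact congrArg Subtype.val this
    · exact Subgroup.mem_centralizer_iff.1 x.1.2 a ha⟩
  invFun y := ⟨⟨y.1, by
      rw [Subgroup.mem_centralizer_iff]
      intro a ha
      exact Subgroup.mem_centralizer_iff.1 y.2 a (Set.mem_insert_of_mem _ ha)⟩, by
    rw [Subgroup.mem_centralizer_iff]
    intro a ha
    rw [Set.mem_singleton_iff] at ha
    subst ha
    apply Subtype.ext
    exact Subgroup.mem_centralizer_iff.1 y.2 a.1 (Set.mem_insert _ _)⟩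
  left_inv x := rfl
  right_inv y := rfl
  map_mul' x y := rfl

theorem Phi_centralizer [Finite G] (S : Set G) (h : Subgroup.centralizer S) :
    Phi ({h} : Set (Subgroup.centralizer S)) = Phi (insert h.1 S) := by
  unfold Phi
  rw [cl_eq_of_mulEquiv (centralizerInsert S h), Nat.card_congr (centralizerInsert S h).toEquiv]

theorem inertia_Phi [Finite G] (S : Set G) :
    inertia (Phi S) = ∑ᶠ h : Subgroup.centralizer S, Phi (insert h.1 S) := by
  unfold Phi
  rw [map_smul, inertiaR_cl, burnside_one]
  apply finsum_congr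
  intro h
  exact Phi_centralizer S h

end Step

section Comb

variable {G : Type u} [Group G]

/-- prepend an element commuting with, and distinct from, all entries -/
def consT {r : ℕ} (h : G) (s : CommTuple G r)
    (hc : h ∈ Subgroup.centralizer (Set.range s.1)) (hn : h ∉ Set.range s.1) :
    CommTuple G (r + 1) :=
  ⟨Fin.cons h s.1, Fin.cons_injective_iff.2 ⟨hn, s.2.1⟩, by
    intro i j
    refine Fin.cases ?_ (fun i => ?_) i <;> refine Fin.cases ?_ (fun j => ?_) j
    · exact Commute.refl _
    · simp only [Fin.cons_zero, Fin.cons_succ]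
      exact (Subgroup.mem_centralizer_iff.1 hc (s.1 j) ⟨j, rfl⟩).symm
    · simp only [Fin.cons_zero, Fin.cons_succ]
      exact Subgroup.mem_centralizer_iff.1 hc (s.1 i) ⟨i, rfl⟩
    · simp only [Fin.cons_succ]
      exact s.2.2 i j⟩

/-- drop the first entry -/
def tailT {r : ℕ} (t : CommTuple G (r + 1)) : CommTuple G r :=
  ⟨Fin.tail t.1, fun _ _ h => Fin.succ_injective _ (t.2.1 h), fun i j => t.2.2 i.succ j.succ⟩

theorem head_mem {r : ℕ} (t : CommTuple G (r + 1)) :
    t.1 0 ∈ Subgroup.centralizer (Set.range (tailT t).1) := by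
  rw [Subgroup.mem_centralizer_iff]
  rintro _ ⟨i, rfl⟩
  exact t.2.2 i.succ 0

theorem head_not_mem {r : ℕ} (t : CommTuple G (r + 1)) : t.1 0 ∉ Set.range (tailT t).1 := by
  rintro ⟨i, hi⟩
  exact Fin.succ_ne_zero i (t.2.1 hi)

theorem range_eq_insert {r : ℕ} (t : CommTuple G (r + 1)) :
    Set.range t.1 = insert (t.1 0) (Set.range (tailT t).1) := by
  change _ = insert (t.1 0) (Set.range (Fin.tail t.1))
  rw [← Fin.range_cons, Fin.cons_self_tail]

theorem comb [Finite G] (r : ℕ) :
    ∑ᶠ s : CommTuple G r, ∑ᶠ h : Subgroup.centralizer (Set.range s.1),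
        Phi (insert h.1 (Set.range s.1)) =
      (∑ᶠ t : CommTuple G (r + 1), Phi (Set.range t.1)) +
        (r : ℚ) • ∑ᶠ s : CommTuple G r, Phi (Set.range s.1) := by
  classical
  have := Fintype.ofFinite G
  have := Fintype.ofFinite (CommTuple G r)
  have := Fintype.ofFinite (CommTuple G (r + 1))
  rw [finsum_eq_sum_of_fintype, finsum_eq_sum_of_fintype, finsum_eq_sum_of_fintype]
  have inner : ∀ s : CommTuple G r,
      ∑ᶠ h : Subgroup.centralizer (Set.range s.1), Phi (insert h.1 (Set.range s.1)) =
      (r : ℚ) • Phi (Set.range s.1) +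
        ∑ h ∈ Finset.univ.filter
          (fun h => h ∈ Subgroup.centralizer (Set.range s.1) ∧ h ∉ Set.range s.1),
          Phi (insert h (Set.range s.1)) := by
    intro s
    have : Fintype (Subgroup.centralizer (Set.range s.1)) := Fintype.ofFinite _
    rw [finsum_eq_sum_of_fintype]
    rw [← Finset.sum_subtype
      (Finset.univ.filter (fun h => h ∈ Subgroup.centralizer (Set.range s.1))) (by simp)
      (fun h => Phi (insert h (Set.range s.1)))]
    rw [← Finset.sum_filter_add_sum_filter_not _ (fun h => h ∈ Set.range s.1)]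
    congr 1
    · have hfil : (Finset.univ.filter (fun h => h ∈ Subgroup.centralizer (Set.range s.1))).filter
          (fun h => h ∈ Set.range s.1) = Finset.univ.image s.1 := by
        ext h
        simp only [Finset.mem_filter, Finset.mem_univ, true_and, Finset.mem_image, Set.mem_range]
        constructor
        · rintro ⟨_, i, rfl⟩
          exact ⟨i, rfl⟩
        · rintro ⟨i, rfl⟩
          refine ⟨?_, i, rfl⟩
          rw [Subgroup.mem_centralizer_iff]
          rintro _ ⟨j, rfl⟩
          exact s.2.2 j i
      rw [hfil, Finset.sum_image (fun _ _ _ _ h => s.2.1 h)]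
      have hc : ∀ i ∈ (Finset.univ : Finset (Fin r)),
          Phi (insert (s.1 i) (Set.range s.1)) = Phi (Set.range s.1) :=
        fun i _ => by rw [Set.insert_eq_of_mem (Set.mem_range_self i)]
      rw [Finset.sum_congr rfl hc]
      rw [Finset.sum_const, Finset.card_univ, Fintype.card_fin, Nat.cast_smul_eq_nsmul]
    · rw [Finset.filter_filter]
  rw [Finset.sum_congr rfl (fun s _ => inner s), Finset.sum_add_distrib, ← Finset.smul_sum,
    add_comm]
  congr 1
  rw [Finset.sum_sigma']
  symm
  refine Finset.sum_bij' (fun t _ => (⟨tailT t, t.1 0⟩ : Σ _ : CommTuple G r, G))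
    (fun x hx => consT x.2 x.1 (Finset.mem_filter.1 (Finset.mem_sigma.1 hx).2).2.1
      (Finset.mem_filter.1 (Finset.mem_sigma.1 hx).2).2.2) ?_ ?_ ?_ ?_ ?_
  · intro t _
    simp only [Finset.mem_sigma, Finset.mem_univ, Finset.mem_filter, true_and]
    exact ⟨head_mem t, head_not_mem t⟩
  · intro x _
    exact Finset.mem_univ _
  · intro t _
    apply Subtype.ext
    exact Fin.cons_self_tail t.1
  · intro x hx
    rfl
  · intro t _
    rw [range_eq_insert]

theorem card_ne_zero (G : Type u) [Group G] [Finite G] : (Nat.card G : ℚ) ≠ 0 := by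
  have : 0 < Nat.card G := Nat.card_pos
  positivity

theorem inertia_inertiaROf (G : Type u) [Group G] [Finite G] (r : ℕ) :
    inertia (inertiaROf r G) = inertiaROf (r + 1) G + (r : ℚ) • inertiaROf r G := by
  apply smul_right_injective K (card_ne_zero G)
  change (Nat.card G : ℚ) • inertia (inertiaROf r G) =
    (Nat.card G : ℚ) • (inertiaROf (r + 1) G + (r : ℚ) • inertiaROf r G)
  rw [← map_smul, burnside r, smul_add, smul_comm, burnside (r + 1), burnside r, ← comb r]
  have := (inertia : K →ₗ[ℚ] K).toAddMonoidHom.map_finsum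
    (f := fun s : CommTuple G r => Phi (Set.range s.1)) (Set.toFinite _)
  refine this.trans ?_
  apply finsum_congr
  intro s
  exact inertia_Phi (Set.range s.1)

theorem inertiaROf_zero (G : Type u) [Group G] [Finite G] : inertiaROf 0 G = cl G := by
  apply smul_right_injective K (card_ne_zero G)
  change (Nat.card G : ℚ) • inertiaROf 0 G = (Nat.card G : ℚ) • cl G
  rw [burnside 0]
  have e : Unit ≃ CommTuple G 0 :=
    { toFun := fun _ => ⟨Fin.elim0, fun i => i.elim0, fun i => i.elim0⟩
      invFun := fun _ => ()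
      left_inv := fun _ => rfl
      right_inv := fun s => Subtype.ext (funext fun i => i.elim0) }
  rw [← finsum_comp_equiv e, finsum_unique]
  have hr : Set.range (e default).1 = (∅ : Set G) := Set.range_eq_empty _
  rw [hr]
  unfold Phi
  have e2 : Subgroup.centralizer (∅ : Set G) ≃* G :=
    (MulEquiv.subgroupCongr (Subgroup.centralizer_eq_top_iff_subset.2 (Set.empty_subset _))).trans Subgroup.topEquiv
  rw [cl_eq_of_mulEquiv e2, Nat.card_congr e2.toEquiv]

end Comb

section Operators

theorem inertiaR_zero : inertiaR 0 = LinearMap.id := by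
  apply Finsupp.lhom_ext
  intro i c
  rw [inertiaR_single, inertiaROf_zero, cl_rep, Finsupp.smul_single, smul_eq_mul, mul_one]
  rfl

theorem inertia_comp_inertiaR (r : ℕ) (v : K) :
    inertia (inertiaR r v) = inertiaR (r + 1) v + (r : ℚ) • inertiaR r v := by
  have h : inertia ∘ₗ inertiaR r = inertiaR (r + 1) + (r : ℚ) • inertiaR r := by
    apply Finsupp.lhom_ext
    intro i c
    simp only [LinearMap.comp_apply, LinearMap.add_apply, LinearMap.smul_apply, inertiaR_single]
    rw [map_smul, inertia_inertiaROf, smul_add, smul_comm]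
  exact LinearMap.congr_fun h v

theorem inertiaR_succ_apply (r : ℕ) (v : K) :
    inertiaR (r + 1) v = inertia (inertiaR r v) - (r : ℚ) • inertiaR r v := by
  rw [inertia_comp_inertiaR]
  abel

theorem inertiaR_eq_aeval (r : ℕ) :
    inertiaR r = Polynomial.aeval (inertia : Module.End ℚ K) (descPochhammer ℚ r) := by
  induction r with
  | zero =>
    rw [inertiaR_zero, descPochhammer_zero, map_one]
    rfl
  | succ r ih =>
    apply LinearMap.ext
    intro v
    rw [inertiaR_succ_apply, descPochhammer_succ_right, mul_comm, map_mul, map_sub,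
      Polynomial.aeval_X, map_natCast, Module.End.mul_apply, ← ih, LinearMap.sub_apply,
      Module.End.natCast_apply, Nat.cast_smul_eq_nsmul]

end Operators

section Filtration

theorem Kge_antitone {a b : ℕ} (h : a ≤ b) : Kge b ≤ Kge a :=
  Finsupp.supported_mono (fun _ hj => le_trans h hj)

theorem cl_mem_Kge (H : Type u) [Group H] [Finite H] (k : ℕ)
    (h : k ≤ Nat.card (Subgroup.center H)) : cl H ∈ Kge k := by
  unfold cl Kge
  refine Finsupp.single_mem_supported ℚ 1 ?_
  change k ≤ (Idx.of H).centerCard
  rw [centerCard_of]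
  exact h

theorem cl_mem_Kle (H : Type u) [Group H] [Finite H] (n : ℕ) (h : Nat.card H ≤ n) :
    cl H ∈ Kle n := by
  unfold cl Kle
  refine Finsupp.single_mem_supported ℚ 1 ?_
  change (Idx.of H).card ≤ n
  rw [card_of]
  exact h

variable {G : Type u} [Group G]

theorem card_center_centralizer_lt (g : G) [Finite G] (hg : g ∉ Subgroup.center G) :
    Nat.card (Subgroup.center G) + 1 ≤
      Nat.card (Subgroup.center (Subgroup.centralizer ({g} : Set G))) := by
  rw [← Finite.card_option]
  have hself : g ∈ Subgroup.centralizer ({g} : Set G) := by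
    rw [Subgroup.mem_centralizer_iff]
    intro a ha
    rw [Set.mem_singleton_iff] at ha
    rw [ha]
  have hz : ∀ z : Subgroup.center G, z.1 ∈ Subgroup.centralizer ({g} : Set G) := by
    intro z
    rw [Subgroup.mem_centralizer_iff]
    intro a _
    exact Subgroup.mem_center_iff.1 z.2 a
  let φ : Option (Subgroup.center G) →
      Subgroup.center (Subgroup.centralizer ({g} : Set G)) := fun o =>
    match o with
    | none => ⟨⟨g, hself⟩, by
        rw [Subgroup.mem_center_iff]
        intro y
        apply Subtype.ext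
        exact (Subgroup.mem_centralizer_iff.1 y.2 g rfl).symm⟩
    | some z => ⟨⟨z.1, hz z⟩, by
        rw [Subgroup.mem_center_iff]
        intro y
        apply Subtype.ext
        exact Subgroup.mem_center_iff.1 z.2 y.1⟩
  refine Nat.card_le_card_of_injective φ ?_
  intro a b hab
  have h1 : ((φ a).1.1 : G) = (φ b).1.1 := by rw [hab]
  cases a with
  | none =>
    cases b with
    | none => rfl
    | some z =>
      exfalso
      change g = z.1 at h1
      exact hg (h1 ▸ z.2)
  | some z =>
    cases b with
    | none =>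
      exfalso
      change z.1 = g at h1
      exact hg (h1 ▸ z.2)
    | some z' =>
      change z.1 = z'.1 at h1
      rw [Subtype.ext h1]

theorem Phi_central [Finite G] (g : G) (hg : g ∈ Subgroup.center G) :
    Phi ({g} : Set G) = (Nat.card G : ℚ) • cl G := by
  have htop : Subgroup.centralizer ({g} : Set G) = ⊤ :=
    Subgroup.centralizer_eq_top_iff_subset.2 (Set.singleton_subset_iff.2 hg)
  have e : Subgroup.centralizer ({g} : Set G) ≃* G :=
    (MulEquiv.subgroupCongr htop).trans Subgroup.topEquiv
  unfold Phi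
  rw [cl_eq_of_mulEquiv e, Nat.card_congr e.toEquiv]

theorem Phi_noncentral_mem [Finite G] (g : G) (hg : g ∉ Subgroup.center G) :
    Phi ({g} : Set G) ∈ Kge (Nat.card (Subgroup.center G) + 1) := by
  unfold Phi
  exact Submodule.smul_mem _ _ (cl_mem_Kge _ _ (card_center_centralizer_lt g hg))

/-- Lemma M. -/
theorem inertiaROf_one_sub_mem (G : Type u) [Group G] [Finite G] :
    inertiaROf 1 G - (Nat.card (Subgroup.center G) : ℚ) • cl G ∈
      Kge (Nat.card (Subgroup.center G) + 1) := by
  classical
  have := Fintype.ofFinite G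
  rw [← Submodule.smul_mem_iff _ (card_ne_zero G), smul_sub, burnside_one,
    finsum_eq_sum_of_fintype,
    ← Finset.sum_filter_add_sum_filter_not Finset.univ (fun g => g ∈ Subgroup.center G)]
  have h1 : ∑ g ∈ Finset.univ.filter (fun g => g ∈ Subgroup.center G), Phi ({g} : Set G) =
      (Nat.card G : ℚ) • (Nat.card (Subgroup.center G) : ℚ) • cl G := by
    rw [Finset.sum_congr rfl (fun g hg => Phi_central g (Finset.mem_filter.1 hg).2),
      Finset.sum_const, ← Nat.cast_smul_eq_nsmul ℚ, smul_comm]
    congr 2
    rw [Nat.card_eq_fintype_card, Fintype.card_subtype]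
  rw [h1, add_sub_cancel_left]
  refine Submodule.sum_mem _ ?_
  intro g hg
  exact Phi_noncentral_mem g (Finset.mem_filter.1 hg).2

/-- P1 on basis vectors. -/
theorem inertia_single_sub_mem (i : Idx) (k : ℕ) (hk : k ≤ i.centerCard) :
    inertia (Finsupp.single i 1) - (k : ℚ) • Finsupp.single i 1 ∈ Kge (k + 1) := by
  rw [inertiaR_single, one_smul]
  have hM := inertiaROf_one_sub_mem i.rep
  rw [cl_rep] at hM
  change inertiaROf 1 i.rep - (i.centerCard : ℚ) • Finsupp.single i 1 ∈ Kge (i.centerCard + 1) at hM
  have h2 : ((i.centerCard : ℚ) - (k : ℚ)) • Finsupp.single i (1 : ℚ) ∈ Kge (k + 1) := by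
    rcases Nat.eq_or_lt_of_le hk with h | h
    · rw [h, sub_self, zero_smul]
      exact Submodule.zero_mem _
    · refine Submodule.smul_mem _ _ ?_
      exact Finsupp.single_mem_supported ℚ 1 h
  have h3 : inertiaROf 1 i.rep - (k : ℚ) • Finsupp.single i 1 =
      (inertiaROf 1 i.rep - (i.centerCard : ℚ) • Finsupp.single i 1) +
        ((i.centerCard : ℚ) - (k : ℚ)) • Finsupp.single i (1 : ℚ) := by
    rw [sub_smul]; abel
  rw [h3]
  exact Submodule.add_mem _ (Kge_antitone (by omega) hM) h2

/-- P1. -/
theorem inertia_sub_mem_Kge (k : ℕ) (v : K) (hv : v ∈ Kge k) :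
    inertia v - (k : ℚ) • v ∈ Kge (k + 1) := by
  have hle : (Kge k).map (inertia - (k : ℚ) • LinearMap.id) ≤ Kge (k + 1) := by
    unfold Kge
    rw [Finsupp.supported_eq_span_single, Submodule.map_span_le]
    rintro _ ⟨i, hi, rfl⟩
    exact inertia_single_sub_mem i k hi
  exact hle ⟨v, hv, rfl⟩

/-- P2. -/
theorem inertia_mem_Kge (k : ℕ) (v : K) (hv : v ∈ Kge k) : inertia v ∈ Kge k := by
  have h1 := Kge_antitone (Nat.le_succ k) (inertia_sub_mem_Kge k v hv)
  have h2 : inertia v = (inertia v - (k : ℚ) • v) + (k : ℚ) • v := by abel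
  rw [h2]
  exact Submodule.add_mem _ h1 (Submodule.smul_mem _ _ hv)

/-- P3. -/
theorem inertiaR_mem_Kge (r k : ℕ) (v : K) (hv : v ∈ Kge k) :
    inertiaR r v ∈ Kge k ∧
      inertiaR r v - ((k.descFactorial r : ℕ) : ℚ) • v ∈ Kge (k + 1) := by
  induction r with
  | zero =>
    rw [inertiaR_zero]
    refine ⟨hv, ?_⟩
    simp
  | succ r ih =>
    obtain ⟨ih1, ih2⟩ := ih
    rw [inertiaR_succ_apply]
    refine ⟨Submodule.sub_mem _ (inertia_mem_Kge k _ ih1) (Submodule.smul_mem _ _ ih1), ?_⟩
    obtain ⟨w, hw⟩ : ∃ w, w = inertiaR r v - ((k.descFactorial r : ℕ) : ℚ) • v := ⟨_, rfl⟩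
    have hIr : inertiaR r v = ((k.descFactorial r : ℕ) : ℚ) • v + w := by rw [hw]; abel
    have hw' : w ∈ Kge (k + 1) := hw ▸ ih2
    have hd : ((k.descFactorial (r + 1) : ℕ) : ℚ) =
        ((k.descFactorial r : ℕ) : ℚ) * ((k : ℚ) - (r : ℚ)) := by
      rw [Nat.descFactorial_succ]
      rcases le_or_gt r k with h | h
      · rw [Nat.cast_mul, Nat.cast_sub h, mul_comm]
      · rw [Nat.descFactorial_eq_zero_iff_lt.2 h]
        simp
    have key : inertia (inertiaR r v) - (r : ℚ) • inertiaR r v -
        ((k.descFactorial (r + 1) : ℕ) : ℚ) • v =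
        ((k.descFactorial r : ℕ) : ℚ) • (inertia v - (k : ℚ) • v) +
          (inertia w - (r : ℚ) • w) := by
      rw [hIr, hd, map_add, map_smul]
      module
    rw [key]
    exact Submodule.add_mem _ (Submodule.smul_mem _ _ (inertia_sub_mem_Kge k v hv))
      (Submodule.sub_mem _ (inertia_mem_Kge _ _ hw') (Submodule.smul_mem _ _ hw'))

end Filtration

end Groth.Agent.Lib.Helper8.Inertia
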