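import Groth.Agent.Lib.Helper8.Inertia
import Mathlib.LinearAlgebra.DFinsupp
import Mathlib.Algebra.Polynomial.RingDivision

set_option autoImplicit false

namespace Groth.Agent.Lib.Helper8.Inertia

open W4c5stacksedinertia Polynomial

universe u

section Eigen

theorem inertiaR_of_eigen (μ : ℚ) (v : K) (hv : inertia v = μ • v) (r : ℕ) :
    inertiaR r v = (descPochhammer ℚ r).eval μ • v := by
  induction r with
  | zero =>
    rw [inertiaR_zero, descPochhammer_zero, eval_one, one_smul]
    rfl
  | succ r ih =>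
    rw [inertiaR_succ_apply, ih, map_smul, hv, descPochhammer_succ_right, eval_mul, eval_sub,
      eval_X, eval_natCast]
    module

theorem inertiaR_of_eigen_nat (k : ℕ) (v : K) (hv : inertia v = (k : ℚ) • v) (r : ℕ) :
    inertiaR r v = ((k.descFactorial r : ℕ) : ℚ) • v := by
  rw [inertiaR_of_eigen (k : ℚ) v hv r, descPochhammer_eval_eq_descFactorial]

theorem coprime_dP (r : ℕ) (a : ℚ) (ha : ∀ j < r, (j : ℚ) ≠ a) :
    IsCoprime (descPochhammer ℚ r) (X - C a) := by
  induction r with
  | zero =>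
    rw [descPochhammer_zero]
    exact isCoprime_one_left
  | succ r ih =>
    rw [descPochhammer_succ_right]
    refine IsCoprime.mul_left (ih (fun j hj => ha j (Nat.lt_succ_of_lt hj))) ?_
    have h : ((r : ℕ) : ℚ[X]) = C (r : ℚ) := (map_natCast C r).symm
    rw [h]
    apply isCoprime_X_sub_C_of_isUnit_sub
    exact (sub_ne_zero.2 (ha r (Nat.lt_succ_self r))).isUnit

theorem ker_aeval_X_sub (k : ℕ) :
    LinearMap.ker (aeval (inertia : Module.End ℚ K) (X - C (k : ℚ))) =
      Module.End.eigenspace inertia (k : ℚ) := by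
  ext v
  rw [LinearMap.mem_ker, Module.End.mem_eigenspace_iff, map_sub, aeval_X, aeval_C,
    LinearMap.sub_apply, sub_eq_zero]
  rfl

theorem ker_inertiaR (r : ℕ) :
    LinearMap.ker (inertiaR r) = ⨆ k ∈ Finset.range r, Module.End.eigenspace inertia (k : ℚ) := by
  induction r with
  | zero =>
    rw [inertiaR_zero]
    simp
  | succ r ih =>
    rw [Finset.range_add_one, Finset.iSup_insert, ← ih, inertiaR_eq_aeval (r + 1),
      descPochhammer_succ_right]
    have h : ((r : ℕ) : ℚ[X]) = C (r : ℚ) := (map_natCast C r).symm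
    rw [h, ← sup_ker_aeval_eq_ker_aeval_mul_of_coprime _
      (coprime_dP r (r : ℚ) (fun j hj => by exact_mod_cast (Nat.ne_of_lt hj))),
      ker_aeval_X_sub, ← inertiaR_eq_aeval, sup_comm]

end Eigen

section Vanish

theorem inertiaROf_eq_zero (G : Type u) [Group G] [Finite G] (r : ℕ) (h : Nat.card G < r) :
    inertiaROf r G = 0 := by
  have hE : IsEmpty (CommTuple G r) := by
    refine ⟨fun s => ?_⟩
    have := Nat.card_le_card_of_injective s.1 s.2.1
    rw [Nat.card_eq_fintype_card, Fintype.card_fin] at this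
    omega
  have hO : IsEmpty (CommTuple.Orbit G r) := by
    refine ⟨fun O => ?_⟩
    exact hE.false (Quotient.out (s := CommTuple.setoid G r) O)
  unfold inertiaROf
  exact finsum_of_isEmpty _

theorem inertiaR_eq_zero_of_mem_Kle (n r : ℕ) (h : n < r) (v : K) (hv : v ∈ Kle n) :
    inertiaR r v = 0 := by
  have hle : Kle n ≤ LinearMap.ker (inertiaR r) := by
    unfold Kle
    rw [Finsupp.supported_eq_span_single, Submodule.span_le]
    rintro _ ⟨i, hi, rfl⟩
    rw [SetLike.mem_coe, LinearMap.mem_ker, inertiaR_single, one_smul]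
    exact inertiaROf_eq_zero i.rep r (lt_of_le_of_lt hi h)
  exact hle hv

theorem exists_mem_Kle (v : K) : ∃ n, v ∈ Kle n := by
  refine ⟨v.support.sup Idx.card, ?_⟩
  unfold Kle
  rw [Finsupp.mem_supported]
  intro i hi
  exact Finset.le_sup (f := Idx.card) hi

theorem mem_iSup_range_of_mem_Kle (n : ℕ) (v : K) (hv : v ∈ Kle n) :
    v ∈ ⨆ k ∈ Finset.range (n + 1), Module.End.eigenspace inertia (k : ℚ) := by
  rw [← ker_inertiaR, LinearMap.mem_ker]
  exact inertiaR_eq_zero_of_mem_Kle n (n + 1) (Nat.lt_succ_self n) v hv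

theorem iSup_eigenspace_eq_top :
    (⨆ n : ℕ, Module.End.eigenspace inertia (n : ℚ)) = ⊤ := by
  rw [eq_top_iff]
  intro v _
  obtain ⟨n, hn⟩ := exists_mem_Kle v
  have h := mem_iSup_range_of_mem_Kle n v hn
  refine (iSup_le fun k => iSup_le fun _ => ?_ :
    (⨆ k ∈ Finset.range (n + 1), Module.End.eigenspace inertia (k : ℚ)) ≤ _) h
  exact le_iSup (fun n : ℕ => Module.End.eigenspace inertia (n : ℚ)) k

end Vanish

end Groth.Agent.Lib.Helper8.Inertia
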