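import Mathlib.CategoryTheory.Abelian.GrothendieckCategory.EnoughInjectives
import Mathlib.CategoryTheory.Abelian.GrothendieckAxioms.Sheaf
import Mathlib.CategoryTheory.Abelian.GrothendieckAxioms.FunctorCategory
import Mathlib.CategoryTheory.Sites.Sheafification
import Mathlib.Algebra.Category.Grp.AB
import Mathlib.Algebra.Category.ModuleCat.Presheaf.Generator
import Mathlib.Algebra.Category.ModuleCat.Presheaf.Colimits
import Mathlib.Algebra.Category.ModuleCat.Presheaf.Limits
import Mathlib.CategoryTheory.Functor.ReflectsIso.Balanced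

/-!
# Functorial injective embeddings in Grothendieck abelian categories
-/

set_option linter.style.haveILetI false
set_option linter.unusedSectionVars false

namespace Groth.Agent.Lib.Helper8.InjEmb

open CategoryTheory Limits MorphismProperty ZeroObject

universe w v u

section Generic

variable (C : Type u) [Category.{v} C] [Abelian C]

/-- The functor `X ↦ (X ⟶ 0)`. -/
noncomputable def toZero : C ⥤ Arrow C where
  obj X := Arrow.mk (0 : X ⟶ 0)
  map f := Arrow.homMk f (𝟙 0) (by simp)

variable [IsGrothendieckAbelian.{w} C]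

theorem exists_functorial_injective_embedding :
    ∃ (J : C ⥤ C) (j : 𝟭 C ⟶ J), ∀ X : C, Injective (J.obj X) ∧ Mono (j.app X) := by
  let data := functorialFactorizationData (monomorphisms C) (monomorphisms C).rlp
  let j : ∀ X : C, X ⟶ data.Z.obj ((toZero C).obj X) := fun X => data.i.app ((toZero C).obj X)
  have hj : ∀ {X Y : C} (f : X ⟶ Y), f ≫ j Y = j X ≫ data.Z.map ((toZero C).map f) :=
    fun f => data.i.naturality ((toZero C).map f)
  refine ⟨toZero C ⋙ data.Z, { app X := j X, naturality := ?_ }, ?_⟩
  · intro X Y f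
    exact hj f
  · intro X
    constructor
    · exact inferInstanceAs
        (Injective (IsGrothendieckAbelian.monoMapFactorizationDataRlp (0 : X ⟶ 0)).Z)
    · exact inferInstanceAs
        (Mono (IsGrothendieckAbelian.monoMapFactorizationDataRlp (0 : X ⟶ 0)).i)

end Generic

section Presheaves

variable (C : Type u) [SmallCategory C]

instance presheafAb_isGrothendieckAbelian :
    IsGrothendieckAbelian.{u} (Cᵒᵖ ⥤ AddCommGrpCat.{u}) :=
  IsGrothendieckAbelian.of_equivalence (sheafBotEquivalence _)

theorem main_presheafAb :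
    ∃ (J : (Cᵒᵖ ⥤ AddCommGrpCat.{u}) ⥤ (Cᵒᵖ ⥤ AddCommGrpCat.{u})) (j : 𝟭 _ ⟶ J),
      ∀ F : Cᵒᵖ ⥤ AddCommGrpCat.{u}, Injective (J.obj F) ∧ Mono (j.app F) :=
  exists_functorial_injective_embedding.{u} _

end Presheaves

section PresheafOfModules

variable {C : Type u} [SmallCategory C] (O : Cᵒᵖ ⥤ RingCat.{u})

instance presheafOfModules_isGrothendieckAbelian :
    IsGrothendieckAbelian.{u} (PresheafOfModules.{u} O) where
  ab5OfSize := ⟨fun J _ _ =>
    have : ReflectsFiniteLimits (PresheafOfModules.toPresheaf O) :=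
      ⟨fun _ _ _ => reflectsLimitsOfShape_of_reflectsIsomorphisms⟩
    HasExactColimitsOfShape.domain_of_functor J (PresheafOfModules.toPresheaf O)⟩
  hasSeparator := ⟨_, ObjectProperty.IsSeparating.isSeparator_coproduct
    (f := (yoneda ⋙ PresheafOfModules.free O).obj) (PresheafOfModules.freeYoneda.isSeparating O)⟩

theorem main_presheafOfModules :
    ∃ (J : PresheafOfModules.{u} O ⥤ PresheafOfModules.{u} O) (j : 𝟭 _ ⟶ J),
      ∀ F : PresheafOfModules.{u} O, Injective (J.obj F) ∧ Mono (j.app F) :=
  exists_functorial_injective_embedding.{u} _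

end PresheafOfModules

end Groth.Agent.Lib.Helper8.InjEmb
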