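import Groth.Agent.Lib.Helper8.PRes3
import Groth.Agent.Lib.Helper8.InjEmb

/-!
# Helper8: functorial injective hull of complexes (S0918)
-/

universe v u

open CategoryTheory CategoryTheory.Limits ZeroObject HomologicalComplex

namespace Groth.Agent.Lib.Helper8.InjHullCx

open CochainComplex CochainComplex.HomComplex CochainComplex.mappingCone
open Groth.Agent.Lib.Helper8

variable {A : Type u} [Category.{v} A] [Abelian A]

section Generic

variable (J : CochainComplex A ℤ ⥤ CochainComplex A ℤ) (α : 𝟭 (CochainComplex A ℤ) ⟶ J)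

/-- the short complex of functors `𝟭 ⟶ J ⟶ coker` -/
noncomputable def SF : ShortComplex (CochainComplex A ℤ ⥤ CochainComplex A ℤ) :=
  ShortComplex.mk α (cokernel.π α) (cokernel.condition α)

/-- evaluated at a complex -/
noncomputable def SM (M : CochainComplex A ℤ) : ShortComplex (CochainComplex A ℤ) :=
  (SF J α).map ((evaluation _ _).obj M)

variable (hα : ∀ M n, Mono ((α.app M).f n))

include hα in
lemma SM_shortExact (M : CochainComplex A ℤ) : (SM J α M).ShortExact := by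
  have : ∀ M, Mono (α.app M) := fun M => by
    have := hα M
    exact HomologicalComplex.mono_of_mono_f _ inferInstance
  have : Mono α := NatTrans.mono_of_mono_app α
  have h : (SF J α).ShortExact :=
    { exact := ShortComplex.exact_cokernel α
      mono_f := this
      epi_g := by dsimp [SF]; infer_instance }
  exact h.map_of_exact _

/-- the cone map, cleanly typed -/
noncomputable def gM (M : CochainComplex A ℤ) : J.obj M ⟶ (cokernel α).obj M :=
  (cokernel.π α).app M ≫ 𝟙 _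

lemma gM_eq (M : CochainComplex A ℤ) : gM J α M = PRes3.g (SM J α M) (𝟙 _) := rfl

lemma gM_naturality {M M' : CochainComplex A ℤ} (f : M ⟶ M') :
    gM J α M ≫ (cokernel α).map f = J.map f ≫ gM J α M' := by
  dsimp only [gM]
  rw [Category.comp_id, Category.comp_id]
  exact ((cokernel.π α).naturality f).symm

/-- the cocone functor -/
noncomputable def N₀ : CochainComplex A ℤ ⥤ CochainComplex A ℤ where
  obj M := mappingCone (gM J α M)
  map {M M'} f := mappingCone.map (gM J α M) (gM J α M')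
    (J.map f) ((cokernel α).map f) (gM_naturality J α f)
  map_id M := by
    simp only [CategoryTheory.Functor.map_id]
    exact mappingCone.map_id _
  map_comp {M M' M''} f f' := by
    simp only [CategoryTheory.Functor.map_comp]
    exact mappingCone.map_comp _ _ _ _ _ _ _ _ _

/-- the map `M⟦1⟧ ⟶ N₀ M`, cleanly typed -/
noncomputable def uApp (M : CochainComplex A ℤ) :
    (CategoryTheory.shiftFunctor (CochainComplex A ℤ) (1 : ℤ)).obj M ⟶ (N₀ J α).obj M :=
  PRes3.u (SM J α M) (𝟙 _)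

/-- first factor of `uApp` -/
noncomputable def aM (M : CochainComplex A ℤ) (p : ℤ) :
    ((CategoryTheory.shiftFunctor (CochainComplex A ℤ) (1 : ℤ)).obj M).X p ⟶ (J.obj M).X (p + 1) :=
  (α.app M).f (p + 1)

/-- second factor of `uApp` -/
noncomputable def bM (M : CochainComplex A ℤ) (p : ℤ) :
    (J.obj M).X (p + 1) ⟶ ((N₀ J α).obj M).X p :=
  (inl (gM J α M)).v (p + 1) p (by omega)

lemma uApp_f (M : CochainComplex A ℤ) (p : ℤ) :
    (uApp J α M).f p = aM J α M p ≫ bM J α M p := rfl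

lemma bM_map {M M' : CochainComplex A ℤ} (f : M ⟶ M') (p : ℤ) :
    bM J α M p ≫ ((N₀ J α).map f).f p = (J.map f).f (p + 1) ≫ bM J α M' p := by
  simp [bM, N₀, mappingCone.map]

lemma aM_map {M M' : CochainComplex A ℤ} (f : M ⟶ M') (p : ℤ) :
    ((CategoryTheory.shiftFunctor (CochainComplex A ℤ) (1 : ℤ)).map f).f p ≫ aM J α M' p =
      aM J α M p ≫ (J.map f).f (p + 1) := by
  have h1 := congr_arg (fun φ => φ.f (p + 1)) (α.naturality f)
  exact h1

instance mono_bM (M : CochainComplex A ℤ) (p : ℤ) : Mono (bM J α M p) :=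
  mono_of_mono_fac (inl_v_fst_v (gM J α M) (p + 1) p (by omega))

/-- the natural map `M⟦1⟧ ⟶ N₀ M` -/
noncomputable def uNat : CategoryTheory.shiftFunctor (CochainComplex A ℤ) (1 : ℤ) ⟶ N₀ J α where
  app M := uApp J α M
  naturality {M M'} f := by
    ext p
    rw [HomologicalComplex.comp_f, HomologicalComplex.comp_f, uApp_f, uApp_f, Category.assoc,
      bM_map, ← Category.assoc, ← Category.assoc, aM_map]

include hα in
lemma mono_uApp_f (M : CochainComplex A ℤ) (p : ℤ) : Mono ((uApp J α M).f p) :=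
  PRes3.mono_uf (𝟙 _) (SM_shortExact J α hα M) p

include hα in
lemma quasiIso_uApp (M : CochainComplex A ℤ) : QuasiIso (uApp J α M) :=
  PRes3.quasiIso_u (𝟙 _) (SM_shortExact J α hα M)

/-- the hull functor -/
noncomputable def N : CochainComplex A ℤ ⥤ CochainComplex A ℤ :=
  CategoryTheory.shiftFunctor (CochainComplex A ℤ) (-1 : ℤ) ⋙ N₀ J α

/-- the iso `𝟭 ≅ ⟦-1⟧ ⋙ ⟦1⟧` -/
noncomputable def sIso : 𝟭 (CochainComplex A ℤ) ≅
    CategoryTheory.shiftFunctor (CochainComplex A ℤ) (-1 : ℤ) ⋙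
      CategoryTheory.shiftFunctor (CochainComplex A ℤ) (1 : ℤ) :=
  (shiftFunctorCompIsoId (CochainComplex A ℤ) (-1 : ℤ) 1 (by simp)).symm

/-- the natural transformation `𝟭 ⟶ N` -/
noncomputable def j : 𝟭 (CochainComplex A ℤ) ⟶ N J α :=
  (sIso (A := A)).hom ≫ Functor.whiskerLeft _ (uNat J α)

/-- `M⟦-1⟧` -/
abbrev sh (M : CochainComplex A ℤ) : CochainComplex A ℤ :=
  (CategoryTheory.shiftFunctor (CochainComplex A ℤ) (-1 : ℤ)).obj M

/-- `M ≅ M⟦-1⟧⟦1⟧`, cleanly typed -/
noncomputable def sIsoApp (M : CochainComplex A ℤ) :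
    M ≅ (CategoryTheory.shiftFunctor (CochainComplex A ℤ) (1 : ℤ)).obj (sh M) :=
  (sIso (A := A)).app M

/-- `j` at `M`, cleanly typed -/
noncomputable def jApp (M : CochainComplex A ℤ) : M ⟶ (N₀ J α).obj (sh M) :=
  (sIsoApp M).hom ≫ uApp J α (sh M)

lemma j_app (M : CochainComplex A ℤ) : (j J α).app M = jApp J α M := rfl

instance isIso_sIsoApp_f (M : CochainComplex A ℤ) (n : ℤ) : IsIso ((sIsoApp M).hom.f n) :=
  inferInstanceAs (IsIso ((HomologicalComplex.eval A _ n).map (sIsoApp M).hom))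

include hα in
lemma mono_jApp_f (M : CochainComplex A ℤ) (n : ℤ) : Mono ((jApp J α M).f n) := by
  dsimp only [jApp]
  rw [HomologicalComplex.comp_f]
  have := mono_uApp_f J α hα (sh M) n
  exact mono_comp _ _

include hα in
lemma quasiIso_jApp (M : CochainComplex A ℤ) : QuasiIso (jApp J α M) := by
  dsimp only [jApp]
  have := quasiIso_uApp J α hα (sh M)
  infer_instance

lemma jApp_fac (M : CochainComplex A ℤ) (n : ℤ) :
    ∃ (a : M.X n ⟶ (J.obj (sh M)).X (n + 1))
      (b : (J.obj (sh M)).X (n + 1) ⟶ ((N₀ J α).obj (sh M)).X n),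
      Mono b ∧ a ≫ b = (jApp J α M).f n := by
  refine ⟨(sIsoApp M).hom.f n ≫ aM J α (sh M) n, bM J α (sh M) n, inferInstance, ?_⟩
  dsimp only [jApp]
  rw [HomologicalComplex.comp_f, uApp_f, Category.assoc]

include hα in
theorem main_generic (hJ : ∀ M n, Injective ((J.obj M).X n)) :
    ∃ (N : CochainComplex A ℤ ⥤ CochainComplex A ℤ) (j : 𝟭 _ ⟶ N),
      ∀ M : CochainComplex A ℤ, (∀ n : ℤ, Mono ((j.app M).f n)) ∧ QuasiIso (j.app M) ∧
        ∀ n : ℤ, ∃ (I : A) (_ : Injective I) (a : M.X n ⟶ I) (b : I ⟶ (N.obj M).X n),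
          Mono b ∧ a ≫ b = (j.app M).f n := by
  refine ⟨N J α, j J α, fun M => ⟨fun n => mono_jApp_f J α hα M n, quasiIso_jApp J α hα M,
    fun n => ?_⟩⟩
  obtain ⟨a, b, hb, hab⟩ := jApp_fac J α M n
  exact ⟨_, hJ (sh M) (n + 1), a, b, hb, hab⟩

end Generic

section Concrete

variable (E : A ⥤ A) (ι : 𝟭 A ⟶ E)

/-- `ι`, cleanly typed -/
def ιA (X : A) : X ⟶ E.obj X := ι.app X

lemma ιA_naturality {X Y : A} (f : X ⟶ Y) : f ≫ ιA E ι Y = ιA E ι X ≫ E.map f :=
  ι.naturality f

/-- the terms of `J(M)` -/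
noncomputable abbrev JX (M : CochainComplex A ℤ) (n : ℤ) : A :=
  E.obj (M.X n) ⊞ E.obj (M.X (n + 1))

/-- the differential of `J(M)` -/
noncomputable def Jd (M : CochainComplex A ℤ) (n : ℤ) : JX E M n ⟶ JX E M (n + 1) :=
  biprod.snd ≫ biprod.inl

lemma Jd_sq (M : CochainComplex A ℤ) (n : ℤ) : Jd E M n ≫ Jd E M (n + 1) = 0 := by
  simp [Jd]

/-- the complex `J(M)` -/
noncomputable def JObj (M : CochainComplex A ℤ) : CochainComplex A ℤ :=
  CochainComplex.of (JX E M) (Jd E M) (Jd_sq E M)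

/-- the components of `J(f)` -/
noncomputable def Jmapf {M M' : CochainComplex A ℤ} (f : M ⟶ M') (n : ℤ) :
    JX E M n ⟶ JX E M' n :=
  biprod.map (E.map (f.f n)) (E.map (f.f (n + 1)))

lemma JObj_d (M : CochainComplex A ℤ) (n : ℤ) : (JObj E M).d n (n + 1) = Jd E M n :=
  CochainComplex.of_d _ _ _

lemma Jmapf_comm {M M' : CochainComplex A ℤ} (f : M ⟶ M') (n : ℤ) :
    Jmapf E f n ≫ Jd E M' n = Jd E M n ≫ Jmapf E f (n + 1) := by
  simp [Jd, Jmapf]

/-- `J(f)` -/
noncomputable def Jmap {M M' : CochainComplex A ℤ} (f : M ⟶ M') : JObj E M ⟶ JObj E M' where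
  f n := Jmapf E f n
  comm' n m h := by
    obtain rfl : n + 1 = m := h
    rw [JObj_d, JObj_d]
    exact Jmapf_comm E f n

lemma Jmap_f {M M' : CochainComplex A ℤ} (f : M ⟶ M') (n : ℤ) :
    (Jmap E f).f n = Jmapf E f n := rfl

lemma Jmapf_id (M : CochainComplex A ℤ) (n : ℤ) : Jmapf E (𝟙 M) n = 𝟙 _ := by
  dsimp only [Jmapf]
  rw [HomologicalComplex.id_f, HomologicalComplex.id_f, E.map_id, E.map_id]
  apply biprod.hom_ext <;> simp

lemma Jmapf_comp {M M' M'' : CochainComplex A ℤ} (f : M ⟶ M') (g : M' ⟶ M'') (n : ℤ) :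
    Jmapf E (f ≫ g) n = Jmapf E f n ≫ Jmapf E g n := by
  dsimp only [Jmapf]
  rw [HomologicalComplex.comp_f, HomologicalComplex.comp_f, E.map_comp, E.map_comp]
  apply biprod.hom_ext <;> simp

/-- the functor `J` -/
noncomputable def JFun : CochainComplex A ℤ ⥤ CochainComplex A ℤ where
  obj M := JObj E M
  map {M M'} f := Jmap E f
  map_id M := by
    ext n
    exact Jmapf_id E M n
  map_comp f g := by
    ext n
    exact Jmapf_comp E f g n

/-- the components of `M ⟶ J(M)` -/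
noncomputable def αf (M : CochainComplex A ℤ) (n : ℤ) : M.X n ⟶ JX E M n :=
  biprod.lift (ιA E ι (M.X n)) (M.d n (n + 1) ≫ ιA E ι (M.X (n + 1)))

lemma αf_comm (M : CochainComplex A ℤ) (n : ℤ) :
    αf E ι M n ≫ Jd E M n = M.d n (n + 1) ≫ αf E ι M (n + 1) := by
  dsimp only [αf, Jd]
  apply biprod.hom_ext
  · simp
  · simp

/-- the map `M ⟶ J(M)` -/
noncomputable def αApp (M : CochainComplex A ℤ) : M ⟶ JObj E M where
  f n := αf E ι M n
  comm' n m h := by
    obtain rfl : n + 1 = m := h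
    dsimp only [JObj]
    rw [CochainComplex.of_d]
    exact αf_comm E ι M n

lemma αApp_f (M : CochainComplex A ℤ) (n : ℤ) : (αApp E ι M).f n = αf E ι M n := rfl

lemma αf_naturality {M M' : CochainComplex A ℤ} (f : M ⟶ M') (n : ℤ) :
    f.f n ≫ αf E ι M' n = αf E ι M n ≫ Jmapf E f n := by
  dsimp only [αf, Jmapf]
  apply biprod.hom_ext
  · simp only [Category.assoc, biprod.lift_fst, biprod.map_fst, biprod.lift_fst_assoc]
    exact ιA_naturality E ι (f.f n)
  · simp only [Category.assoc, biprod.lift_snd, biprod.map_snd, biprod.lift_snd_assoc]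
    rw [← ιA_naturality E ι (f.f (n + 1)), ← Category.assoc, ← Category.assoc, f.comm]

/-- the natural transformation `𝟭 ⟶ J` -/
noncomputable def αNat : 𝟭 (CochainComplex A ℤ) ⟶ JFun E where
  app M := αApp E ι M
  naturality {M M'} f := by
    ext n
    exact αf_naturality E ι f n

lemma mono_αf [∀ X, Mono (ι.app X)] (M : CochainComplex A ℤ) (n : ℤ) :
    Mono (αf E ι M n) := by
  have h : αf E ι M n ≫ biprod.fst = ιA E ι (M.X n) := biprod.lift_fst _ _
  have : Mono (ιA E ι (M.X n)) := inferInstanceAs (Mono (ι.app (M.X n)))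
  exact mono_of_mono_fac h

end Concrete

/-- S0918 -/
theorem main [IsGrothendieckAbelian.{v} A] :
    ∃ (N : CochainComplex A ℤ ⥤ CochainComplex A ℤ) (j : 𝟭 _ ⟶ N),
      ∀ M : CochainComplex A ℤ, (∀ n : ℤ, Mono ((j.app M).f n)) ∧ QuasiIso (j.app M) ∧
        ∀ n : ℤ, ∃ (I : A) (_ : Injective I) (a : M.X n ⟶ I) (b : I ⟶ (N.obj M).X n),
          Mono b ∧ a ≫ b = (j.app M).f n := by
  obtain ⟨E, ι, hE⟩ := InjEmb.exists_functorial_injective_embedding.{v} A
  have : ∀ X, Mono (ι.app X) := fun X => (hE X).2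
  have : ∀ X, Injective (E.obj X) := fun X => (hE X).1
  refine main_generic (JFun E) (αNat E ι) (fun M n => mono_αf E ι M n) (fun M n => ?_)
  exact inferInstanceAs (Injective (E.obj (M.X n) ⊞ E.obj (M.X (n + 1))))

end Groth.Agent.Lib.Helper8.InjHullCx
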