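import Groth.Agent.Lib.Helper8.SheafModGroth
import Mathlib.Algebra.Category.ModuleCat.Presheaf.Generator

/-!
# Helper8: restriction maps of injective sheaves of modules along monomorphisms are surjective (S0856)
-/

universe v u

open CategoryTheory CategoryTheory.Limits Opposite

namespace Groth.Agent.Lib.Helper8.InjRestr

section Presheaf

variable {C : Type u} [Category.{v} C] {R : Cᵒᵖ ⥤ RingCat.{v}}

open PresheafOfModules

/-- the map `free(h_{U'}) ⟶ free(h_U)` -/
noncomputable def φ {U U' : C} (a : U' ⟶ U) :
    (free R).obj (yoneda.obj U') ⟶ (free R).obj (yoneda.obj U) :=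
  (free R).map (yoneda.map a)

lemma freeYonedaEquiv_φ_comp {U U' : C} (a : U' ⟶ U) (G : PresheafOfModules.{v} R)
    (m : (free R).obj (yoneda.obj U) ⟶ G) :
    freeYonedaEquiv (φ a ≫ m) = G.map a.op (freeYonedaEquiv m) := by
  have h1 : freeHomEquiv (φ a ≫ m) = yoneda.map a ≫ freeHomEquiv m := by
    have := (freeAdjunction R).homEquiv_naturality_left (yoneda.map a) m
    rw [freeAdjunction_homEquiv, freeAdjunction_homEquiv] at this
    exact this
  have h2 := yonedaEquiv_naturality (freeHomEquiv m) a
  change yonedaEquiv (freeHomEquiv (φ a ≫ m)) = _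
  rw [h1, ← h2]
  rfl

lemma mono_φ {U U' : C} (a : U' ⟶ U) [Mono a] : Mono (φ (R := R) a) := by
  apply PresheafOfModules.mono_of_injective
  intro X
  have hinj : Function.Injective ((yoneda.map a).app X) := by
    intro f g h
    exact (cancel_mono a).1 h
  exact Finsupp.mapDomain_injective hinj

end Presheaf

section Main

variable {C : Type u} [SmallCategory C] {J : GrothendieckTopology C} (O : Sheaf J RingCat.{u})
  (I : SheafOfModules.{u} O) [Injective I]

open PresheafOfModules

theorem main {U U' : C} (a : U' ⟶ U) [Mono a] : Function.Surjective (I.val.map a.op) := by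
  intro x'
  let adj := PresheafOfModules.sheafificationAdjunction (𝟙 O.obj)
  let G : PresheafOfModules.{u} O.obj := (SheafOfModules.forget O ⋙ restrictScalars (𝟙 O.obj)).obj I
  let m' : (free O.obj).obj (yoneda.obj U') ⟶ G := freeYonedaEquiv.symm x'
  let s' := (adj.homEquiv _ I).symm m'
  have : Mono (φ (R := O.obj) a) := mono_φ a
  have : Mono ((PresheafOfModules.sheafification (𝟙 O.obj)).map (φ (R := O.obj) a)) :=
    inferInstance
  let s := Injective.factorThru s' ((PresheafOfModules.sheafification (𝟙 O.obj)).map (φ a))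
  have hs : (PresheafOfModules.sheafification (𝟙 O.obj)).map (φ a) ≫ s = s' :=
    Injective.comp_factorThru _ _
  let m := adj.homEquiv _ I s
  have hm : φ a ≫ m = m' := by
    have := adj.homEquiv_naturality_left (φ a) s
    rw [hs] at this
    rw [← this]
    exact (adj.homEquiv _ I).apply_symm_apply m'
  refine ⟨freeYonedaEquiv m, ?_⟩
  have h1 := freeYonedaEquiv_φ_comp a G m
  rw [hm] at h1
  have h2 : freeYonedaEquiv m' = x' := Equiv.apply_symm_apply _ _
  rw [h2] at h1
  exact h1.symm

end Main

end Groth.Agent.Lib.Helper8.InjRestr
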