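import Mathlib.CategoryTheory.Endofunctor.Algebra
import Mathlib.CategoryTheory.Limits.Creates
import Mathlib.CategoryTheory.ObjectProperty.FullSubcategory

/-!
# The forgetful functor from iso-algebras of an endofunctor creates colimits
-/

set_option linter.style.haveILetI false
set_option linter.unusedSectionVars false
set_option linter.unusedVariables false

namespace Groth.Agent.Lib.Helper8.IsoAlgCreates

open CategoryTheory Category Limits

universe w w' v u

variable {C : Type u} [Category.{v} C] (T : C ⥤ C)

/-- The property of having an invertible structure map. -/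
abbrev P : ObjectProperty (Endofunctor.Algebra T) := fun A => IsIso A.str

/-- The forgetful functor. -/
abbrev G : (P T).FullSubcategory ⥤ C := (P T).ι ⋙ Endofunctor.Algebra.forget T

variable {T} {J : Type w} [Category.{w'} J] (K : J ⥤ (P T).FullSubcategory)

/-- The structure maps as a natural isomorphism. -/
noncomputable def α : (K ⋙ G T) ⋙ T ≅ K ⋙ G T :=
  NatIso.ofComponents (fun j => @asIso _ _ _ _ (K.obj j).obj.str (K.obj j).property)
    (fun {j j'} φ => (K.map φ).hom.h)

variable [PreservesColimitsOfShape J T] (c : Cocone (K ⋙ G T)) (t : IsColimit c)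

/-- The legs of the cocone, with a clean type. -/
def ιc (j : J) : (K.obj j).obj.a ⟶ c.pt := c.ι.app j

lemma ιc_naturality {j j' : J} (φ : j ⟶ j') : (K.map φ).hom.f ≫ ιc K c j' = ιc K c j :=
  c.w φ

include t in
lemma hom_ext_T {Z : C} {u v : T.obj c.pt ⟶ Z}
    (h : ∀ j, T.map (ιc K c j) ≫ u = T.map (ιc K c j) ≫ v) : u = v :=
  (isColimitOfPreserves T t).hom_ext h

include t in
lemma hom_ext_c {Z : C} {u v : c.pt ⟶ Z}
    (h : ∀ j, ιc K c j ≫ u = ιc K c j ≫ v) : u = v :=
  t.hom_ext h

/-- The structure isomorphism on the colimit. -/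
noncomputable def strIso : T.obj c.pt ≅ c.pt :=
  IsColimit.coconePointsIsoOfNatIso (isColimitOfPreserves T t) t (α K)

@[reassoc]
lemma map_ι_strIso_hom (j : J) :
    T.map (ιc K c j) ≫ (strIso K c t).hom = (K.obj j).obj.str ≫ ιc K c j :=
  IsColimit.comp_coconePointsIsoOfNatIso_hom (isColimitOfPreserves T t) t (α K) j

/-- The lifted algebra. -/
noncomputable def liftedAlg : Endofunctor.Algebra T := ⟨c.pt, (strIso K c t).hom⟩

/-- The lifted point. -/
noncomputable def liftedPt : (P T).FullSubcategory :=
  ⟨liftedAlg K c t, inferInstanceAs (IsIso (strIso K c t).hom)⟩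

/-- The legs of the lifted cocone. -/
noncomputable def liftedι (j : J) : K.obj j ⟶ liftedPt K c t :=
  ObjectProperty.homMk ⟨ιc K c j, map_ι_strIso_hom K c t j⟩

/-- The lifted cocone. -/
noncomputable def liftedCocone : Cocone K where
  pt := liftedPt K c t
  ι :=
    { app j := liftedι K c t j
      naturality j j' φ := by
        refine ObjectProperty.hom_ext _ (Endofunctor.Algebra.Hom.ext ?_)
        exact (ιc_naturality K c φ).trans (comp_id _).symm }

/-- The legs of a cocone, with a clean type. -/
def sι (s : Cocone K) (j : J) : (K.obj j).obj.a ⟶ s.pt.obj.a := (s.ι.app j).hom.f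

lemma sι_h (s : Cocone K) (j : J) :
    T.map (sι K s j) ≫ s.pt.obj.str = (K.obj j).obj.str ≫ sι K s j :=
  (s.ι.app j).hom.h

/-- The underlying morphism of the descent morphism. -/
noncomputable def descF (s : Cocone K) : c.pt ⟶ s.pt.obj.a := t.desc ((G T).mapCocone s)

@[reassoc]
lemma ι_descF (s : Cocone K) (j : J) : ιc K c j ≫ descF K c t s = sι K s j :=
  t.fac ((G T).mapCocone s) j

/-- The descent morphism of algebras. -/
noncomputable def descAlg (s : Cocone K) : liftedAlg K c t ⟶ s.pt.obj where
  f := descF K c t s
  h := by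
    apply hom_ext_T K c t
    intro j
    change T.map (ιc K c j) ≫ T.map (descF K c t s) ≫ s.pt.obj.str =
      T.map (ιc K c j) ≫ (strIso K c t).hom ≫ descF K c t s
    rw [← T.map_comp_assoc, ι_descF, map_ι_strIso_hom_assoc, ι_descF, sι_h]

/-- The descent morphism. -/
noncomputable def desc (s : Cocone K) : liftedPt K c t ⟶ s.pt :=
  ObjectProperty.homMk (descAlg K c t s)

/-- The lifted cocone is a colimit. -/
noncomputable def isColimitLifted : IsColimit (liftedCocone K c t) where
  desc s := desc K c t s
  fac s j := by
    refine ObjectProperty.hom_ext _ (Endofunctor.Algebra.Hom.ext ?_)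
    exact ι_descF K c t s j
  uniq s m hm := by
    refine ObjectProperty.hom_ext _ (Endofunctor.Algebra.Hom.ext ?_)
    apply hom_ext_c K c t
    intro j
    change ιc K c j ≫ m.hom.f = ιc K c j ≫ descF K c t s
    rw [ι_descF]
    exact congrArg (fun x : K.obj j ⟶ s.pt => x.hom.f) (hm j)

theorem main (T : C ⥤ C) (J : Type w) [Category.{w'} J] [PreservesColimitsOfShape J T] :
    Nonempty (CreatesColimitsOfShape J
      ((ObjectProperty.ι (fun A : Endofunctor.Algebra T => IsIso A.str)) ⋙
        Endofunctor.Algebra.forget T)) :=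
  ⟨{ CreatesColimit := fun {K} => createsColimitOfReflectsIso (fun c t =>
      { liftedCocone := liftedCocone K c t
        validLift := Cocone.ext (Iso.refl _) (fun j => comp_id _)
        makesColimit := isColimitLifted K c t }) }⟩

end Groth.Agent.Lib.Helper8.IsoAlgCreates
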