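import Mathlib

/-!
# Helper8: the short exact sequence `0 → A₃ → ker β / im α → C₁ → 0` (S15465)
-/

universe v u

open CategoryTheory CategoryTheory.Limits CategoryTheory.Category

namespace Groth.Agent.Lib.Helper8.KerModIm

variable {C : Type u} [Category.{v} C] [Abelian C] {A₁ A₂ A₃ B₂ C₁ C₂ C₃ : C}
    (i₁ : A₁ ⟶ A₂) (p₁ : A₂ ⟶ A₃) (wA : i₁ ≫ p₁ = 0) (hA : (ShortComplex.mk i₁ p₁ wA).ShortExact)
    (i₂ : A₂ ⟶ B₂) (π₂ : B₂ ⟶ C₂) (wB : i₂ ≫ π₂ = 0) (hB : (ShortComplex.mk i₂ π₂ wB).ShortExact)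
    (j : C₁ ⟶ C₂) (q : C₂ ⟶ C₃) (wC : j ≫ q = 0) (hC : (ShortComplex.mk j q wC).ShortExact)
    (w : (i₁ ≫ i₂) ≫ (π₂ ≫ q) = 0) (h₂ : i₂ ≫ (π₂ ≫ q) = 0) (h₃ : (i₁ ≫ i₂) ≫ π₂ = 0)
    (f : A₃ ⟶ (ShortComplex.mk (i₁ ≫ i₂) (π₂ ≫ q) w).homology)
    (g : (ShortComplex.mk (i₁ ≫ i₂) (π₂ ≫ q) w).homology ⟶ C₁)
    (hf : p₁ ≫ f = (ShortComplex.mk (i₁ ≫ i₂) (π₂ ≫ q) w).liftCycles i₂ h₂ ≫
      (ShortComplex.mk (i₁ ≫ i₂) (π₂ ≫ q) w).homologyπ)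
    (hg : g ≫ j = (ShortComplex.mk (i₁ ≫ i₂) (π₂ ≫ q) w).homologyι ≫
      (ShortComplex.mk (i₁ ≫ i₂) (π₂ ≫ q) w).descOpcycles π₂ h₃)

include hA hB hC hf hg in
theorem main : ∃ wfg : f ≫ g = 0, (ShortComplex.mk f g wfg).ShortExact := by
  obtain ⟨S, hS⟩ : ∃ S : ShortComplex C, S = ShortComplex.mk (i₁ ≫ i₂) (π₂ ≫ q) w := ⟨_, rfl⟩
  have hp₁ : Epi p₁ := hA.epi_g
  have hi₂ : Mono i₂ := hB.mono_f
  have hπ₂ : Epi π₂ := hB.epi_g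
  have hj : Mono j := hC.mono_f
  -- key composite
  have key : ∀ {T : C} (z : T ⟶ (ShortComplex.mk (i₁ ≫ i₂) (π₂ ≫ q) w).cycles),
      z ≫ (ShortComplex.mk (i₁ ≫ i₂) (π₂ ≫ q) w).homologyπ ≫ g ≫ j =
        z ≫ (ShortComplex.mk (i₁ ≫ i₂) (π₂ ≫ q) w).iCycles ≫ π₂ := by
    intro T z
    rw [hg, ShortComplex.homology_π_ι_assoc, ShortComplex.p_descOpcycles]
  have wfg : f ≫ g = 0 := by
    rw [← cancel_epi p₁, ← cancel_mono j, comp_zero, zero_comp, assoc, assoc, ← assoc p₁, hf,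
      assoc, key, ShortComplex.liftCycles_i_assoc, wB]
  refine ⟨wfg, ShortComplex.ShortExact.mk' ?_ ?_ ?_⟩
  · -- exactness
    rw [ShortComplex.exact_iff_exact_up_to_refinements]
    intro T h hh
    dsimp only at h hh
    obtain ⟨T₁, π₁, hπ₁, z, hz⟩ := surjective_up_to_refinements_of_epi
      (ShortComplex.mk (i₁ ≫ i₂) (π₂ ≫ q) w).homologyπ h
    have hb : (z ≫ (ShortComplex.mk (i₁ ≫ i₂) (π₂ ≫ q) w).iCycles) ≫ π₂ = 0 := by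
      rw [assoc, ← key, ← assoc, ← hz, assoc, ← assoc h, hh, zero_comp, comp_zero]
    obtain ⟨T₂, π₂', hπ₂', a, ha⟩ := hB.exact.exact_up_to_refinements _ hb
    dsimp only at a ha
    refine ⟨T₂, π₂' ≫ π₁, inferInstance, a ≫ p₁, ?_⟩
    dsimp only
    have hz' : π₂' ≫ z = a ≫ (ShortComplex.mk (i₁ ≫ i₂) (π₂ ≫ q) w).liftCycles i₂ h₂ := by
      rw [← cancel_mono (ShortComplex.mk (i₁ ≫ i₂) (π₂ ≫ q) w).iCycles, assoc, assoc,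
        ShortComplex.liftCycles_i, ha]
    rw [assoc, hz, ← assoc, hz', assoc, assoc, hf]
  · -- mono
    refine Preadditive.mono_of_cancel_zero _ (fun {T} a ha => ?_)
    obtain ⟨T₁, π₁, hπ₁, a', ha'⟩ := surjective_up_to_refinements_of_epi p₁ a
    have h1 : (ShortComplex.mk (i₁ ≫ i₂) (π₂ ≫ q) w).liftCycles (a' ≫ i₂)
        (by rw [assoc, h₂, comp_zero]) ≫
        (ShortComplex.mk (i₁ ≫ i₂) (π₂ ≫ q) w).homologyπ = 0 := by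
      have e1 : (ShortComplex.mk (i₁ ≫ i₂) (π₂ ≫ q) w).liftCycles (a' ≫ i₂)
          (by rw [assoc, h₂, comp_zero]) =
          a' ≫ (ShortComplex.mk (i₁ ≫ i₂) (π₂ ≫ q) w).liftCycles i₂ h₂ := by
        rw [← cancel_mono (ShortComplex.mk (i₁ ≫ i₂) (π₂ ≫ q) w).iCycles,
          ShortComplex.liftCycles_i, assoc, ShortComplex.liftCycles_i]
      rw [e1, assoc, ← hf, ← assoc, ← ha', assoc, ha, comp_zero]
    rw [ShortComplex.liftCycles_comp_homologyπ_eq_zero_iff_up_to_refinements] at h1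
    obtain ⟨T₂, π₂', hπ₂', x₁, hx₁⟩ := h1
    dsimp only at x₁ hx₁
    have h2 : π₂' ≫ a' = x₁ ≫ i₁ := by
      rw [← cancel_mono i₂, assoc, assoc, hx₁]
    have h3 : (π₂' ≫ π₁) ≫ a = 0 := by
      rw [assoc, ha', ← assoc, h2, assoc, wA, comp_zero]
    rw [← cancel_epi (π₂' ≫ π₁), h3, comp_zero]
  · -- epi
    rw [epi_iff_surjective_up_to_refinements]
    intro T c
    obtain ⟨T₁, π₁, hπ₁, b, hb⟩ := surjective_up_to_refinements_of_epi π₂ (c ≫ j)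
    have hb' : b ≫ (π₂ ≫ q) = 0 := by
      rw [← assoc, ← hb, assoc, assoc, wC, comp_zero, comp_zero]
    refine ⟨T₁, π₁, hπ₁, (ShortComplex.mk (i₁ ≫ i₂) (π₂ ≫ q) w).liftCycles b hb' ≫
      (ShortComplex.mk (i₁ ≫ i₂) (π₂ ≫ q) w).homologyπ, ?_⟩
    rw [← cancel_mono j, assoc, assoc, assoc, key, ShortComplex.liftCycles_i_assoc, hb]

end Groth.Agent.Lib.Helper8.KerModIm
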