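import Mathlib

/-!
# Helper8: morphisms with kernels in a pretriangulated category (S6594)
-/

universe v u

open CategoryTheory CategoryTheory.Limits CategoryTheory.Pretriangulated CategoryTheory.Category

namespace Groth.Agent.Lib.Helper8.KerSplit

variable {D : Type u} [Category.{v} D] [Preadditive D] [HasZeroObject D] [HasShift D ℤ]
  [∀ n : ℤ, (shiftFunctor D n).Additive] [Pretriangulated D]

/-- monomorphisms split in a pretriangulated category -/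
lemma exists_iso_biprod_of_mono {X Y : D} (f : X ⟶ Y) [Mono f] :
    ∃ (Q : D) (e : Y ≅ X ⊞ Q), f ≫ e.hom = biprod.inl := by
  obtain ⟨Q, g, h, hT⟩ := distinguished_cocone_triangle f
  have hz : (Triangle.mk f g h).mor₃ = 0 :=
    Triangle.mor₃_eq_zero_of_mono₁ _ hT (inferInstanceAs (Mono f))
  obtain ⟨e, he, -⟩ := exists_iso_binaryBiproduct_of_distTriang _ hT hz
  exact ⟨Q, e, he⟩

theorem hasKernel_of_split {X Y : D} (f : X ⟶ Y) (K Z Q : D) (e₁ : X ≅ K ⊞ Z) (e₂ : Y ≅ Z ⊞ Q)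
    (hf : f = e₁.hom ≫ biprod.snd ≫ biprod.inl ≫ e₂.inv) : HasKernel f := by
  have w : (biprod.inl ≫ e₁.inv : K ⟶ X) ≫ f = 0 := by
    rw [hf, assoc, e₁.inv_hom_id_assoc, biprod.inl_snd_assoc, zero_comp]
  have key : ∀ {W : D} (g : W ⟶ X), g ≫ f = 0 → g ≫ e₁.hom ≫ biprod.snd = 0 := by
    intro W g hg
    have : Mono (biprod.inl ≫ e₂.inv : Z ⟶ Y) := mono_comp _ _
    rw [← cancel_mono (biprod.inl ≫ e₂.inv : Z ⟶ Y), zero_comp, assoc, assoc, ← hf, hg]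
  refine HasLimit.mk ⟨KernelFork.ofι _ w, KernelFork.IsLimit.ofι _ w
    (fun g _ => g ≫ e₁.hom ≫ biprod.fst) ?_ ?_⟩
  · intro W g hg
    have h1 := key g hg
    have h2 : g ≫ e₁.hom = (g ≫ e₁.hom) ≫ (biprod.fst ≫ biprod.inl + biprod.snd ≫ biprod.inr) := by
      rw [biprod.total, comp_id]
    rw [Preadditive.comp_add, assoc, assoc, reassoc_of% h1, zero_comp, add_zero] at h2
    rw [assoc, assoc, ← assoc biprod.fst, ← assoc e₁.hom, ← assoc g, ← assoc g, assoc g, ← h2,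
      assoc, e₁.hom_inv_id, comp_id]
  · intro W g hg m hm
    rw [← hm]
    simp

theorem split_of_hasKernel {X Y : D} (f : X ⟶ Y) [HasKernel f] :
    ∃ (K Z Q : D) (e₁ : X ≅ K ⊞ Z) (e₂ : Y ≅ Z ⊞ Q),
      f = e₁.hom ≫ biprod.snd ≫ biprod.inl ≫ e₂.inv := by
  obtain ⟨Z, p, h, hT⟩ := distinguished_cocone_triangle (kernel.ι f)
  have hz : (Triangle.mk (kernel.ι f) p h).mor₃ = 0 :=
    Triangle.mor₃_eq_zero_of_mono₁ _ hT (inferInstanceAs (Mono (kernel.ι f)))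
  obtain ⟨e₁, he₁, hp⟩ : ∃ e₁ : X ≅ kernel f ⊞ Z, kernel.ι f ≫ e₁.hom = biprod.inl ∧
      p = e₁.hom ≫ biprod.snd := exists_iso_binaryBiproduct_of_distTriang _ hT hz
  obtain ⟨f', hf'⟩ : ∃ f' : Z ⟶ Y, f = p ≫ f' :=
    Triangle.yoneda_exact₂ _ hT f (kernel.condition f)
  have hm : Mono f' := by
    rw [Preadditive.mono_iff_cancel_zero]
    intro W g hg
    have h1 : (g ≫ biprod.inr ≫ e₁.inv) ≫ f = 0 := by
      have h0 : (g ≫ biprod.inr ≫ e₁.inv) ≫ p ≫ f' = 0 := by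
        rw [hp]
        simp only [assoc, Iso.inv_hom_id_assoc, biprod.inr_snd_assoc]
        exact hg
      exact (congrArg (fun t => (g ≫ biprod.inr ≫ e₁.inv) ≫ t) hf').trans h0
    have h2 : g ≫ biprod.inr ≫ e₁.inv = kernel.lift f _ h1 ≫ kernel.ι f := (kernel.lift_ι _ _ _).symm
    have h3 : g = (g ≫ biprod.inr ≫ e₁.inv) ≫ p := by
      rw [hp, assoc, assoc, e₁.inv_hom_id_assoc, biprod.inr_snd, comp_id]
    have h4 : kernel.ι f ≫ p = 0 := comp_distTriang_mor_zero₁₂ _ hT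
    rw [h3, h2, assoc, h4, comp_zero]
  obtain ⟨Q, e₂, he₂⟩ := exists_iso_biprod_of_mono f'
  refine ⟨kernel f, Z, Q, e₁, e₂, ?_⟩
  refine hf'.trans ?_
  rw [hp, assoc, ← he₂, assoc, e₂.hom_inv_id, comp_id]

theorem hasKernel_iff_split_form {X Y : D} (f : X ⟶ Y) :
    HasKernel f ↔ ∃ (K Z Q : D) (e₁ : X ≅ K ⊞ Z) (e₂ : Y ≅ Z ⊞ Q),
      f = e₁.hom ≫ biprod.snd ≫ biprod.inl ≫ e₂.inv :=
  ⟨fun _ => split_of_hasKernel f, fun ⟨K, Z, Q, e₁, e₂, hf⟩ => hasKernel_of_split f K Z Q e₁ e₂ hf⟩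

end Groth.Agent.Lib.Helper8.KerSplit
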