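import Groth.Agent.Lib.Helper8.PRes3
import Groth.Agent.Lib.Helper8.DCoprod2

/-!
# Helper8: functorial homotopy-killing embedding (S0917)
-/

universe v u

open CategoryTheory CategoryTheory.Limits ZeroObject HomologicalComplex

namespace Groth.Agent.Lib.Helper8.KillHtpy

open CochainComplex CochainComplex.HomComplex CochainComplex.mappingCone
open Groth.Agent.Lib.Helper8

variable {A : Type u} [Category.{v} A] [Abelian A]

section Cone

variable {K L : CochainComplex A ℤ} (φ : K ⟶ L)

/-- the connecting map of the cone, cleanly typed -/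
noncomputable def dlt : mappingCone φ ⟶
    (CategoryTheory.shiftFunctor (CochainComplex A ℤ) (1 : ℤ)).obj K :=
  (triangle φ).mor₃

/-- the identification `(K⟦1⟧).X p ≅ K.X (p+1)`, cleanly typed -/
noncomputable def sX (p : ℤ) :
    ((CategoryTheory.shiftFunctor (CochainComplex A ℤ) (1 : ℤ)).obj K).X p ≅ K.X (p + 1) :=
  K.shiftFunctorObjXIso 1 p (p + 1) (by omega)

lemma inl_v_dlt_f (p : ℤ) :
    (inl φ).v (p + 1) p (by omega) ≫ (dlt φ).f p = -(sX (K := K) p).inv :=
  inl_v_triangle_mor₃_f φ (p + 1) p (by omega)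

lemma inr_f_dlt_f (p : ℤ) : (inr φ).f p ≫ (dlt φ).f p = 0 :=
  inr_f_triangle_mor₃_f φ p

lemma dlt_f (p : ℤ) :
    (dlt φ).f p = (fst φ).1.v p (p + 1) rfl ≫ (-(sX (K := K) p).inv) := by
  rw [ext_from_iff φ (p + 1) p rfl]
  constructor
  · rw [inl_v_dlt_f, inl_v_fst_v_assoc]
  · rw [inr_f_dlt_f, inr_f_fst_v_assoc, zero_comp]

lemma inr_dlt : inr φ ≫ dlt φ = 0 := inr_triangleδ φ

/-- the short complex `L ⟶ cone φ ⟶ K⟦1⟧` -/
noncomputable def coneSC : ShortComplex (CochainComplex A ℤ) :=
  ShortComplex.mk (inr φ) (dlt φ) (inr_dlt φ)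

lemma exact_aux (p : ℤ) {W : A} (x : W ⟶ (mappingCone φ).X p) (hx : x ≫ (dlt φ).f p = 0) :
    x = (x ≫ (snd φ).v p p (add_zero p)) ≫ (inr φ).f p := by
  rw [ext_to_iff φ p (p + 1) rfl]
  constructor
  · rw [Category.assoc, Category.assoc, inr_f_fst_v, comp_zero, comp_zero]
    rw [dlt_f, Preadditive.comp_neg, Preadditive.comp_neg, neg_eq_zero, ← Category.assoc] at hx
    have := hx =≫ (sX (K := K) p).hom
    rw [Category.assoc, Iso.inv_hom_id, Category.comp_id, zero_comp] at this
    exact this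
  · rw [Category.assoc, Category.assoc, inr_f_snd_v, Category.comp_id]

lemma exact_deg (p : ℤ) :
    (ShortComplex.mk ((inr φ).f p) ((dlt φ).f p) (inr_f_dlt_f φ p)).Exact := by
  rw [ShortComplex.exact_iff_exact_up_to_refinements]
  intro W x hx
  refine ⟨W, 𝟙 W, inferInstance, x ≫ (snd φ).v p p (add_zero p), ?_⟩
  change 𝟙 W ≫ x = (x ≫ (snd φ).v p p (add_zero p)) ≫ (inr φ).f p
  rw [Category.id_comp]
  exact exact_aux φ p x hx

lemma mono_inr_f (p : ℤ) : Mono ((inr φ).f p) :=
  mono_of_mono_fac (inr_f_snd_v φ p)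

lemma epi_dlt_f (p : ℤ) : Epi ((dlt φ).f p) := by
  have h : (-(inl φ).v (p + 1) p (by omega)) ≫ (dlt φ).f p = (sX (K := K) p).inv := by
    rw [Preadditive.neg_comp, inl_v_dlt_f, neg_neg]
  exact epi_of_epi_fac h

lemma coneSC_shortExact : (coneSC φ).ShortExact := by
  rw [HomologicalComplex.shortExact_iff_degreewise_shortExact]
  intro p
  exact
    { exact := exact_deg φ p
      mono_f := mono_inr_f φ p
      epi_g := epi_dlt_f φ p }

lemma acyclic_shift_one (hK : K.Acyclic) :
    ((CategoryTheory.shiftFunctor (CochainComplex A ℤ) (1 : ℤ)).obj K).Acyclic := by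
  intro n
  rw [HomologicalComplex.exactAt_iff_isZero_homology]
  have e := (CochainComplex.ShiftSequence.shiftIso A 1 n (n + 1) (by omega)).app K
  exact IsZero.of_iso ((hK (n + 1)).isZero_homology) e

lemma quasiIso_inr_of_acyclic (hK : K.Acyclic) : QuasiIso (inr φ) :=
  PRes3.quasiIso_f_of_acyclic_X₃ (coneSC_shortExact φ) (acyclic_shift_one hK)

end Cone

section Coprod

variable [IsGrothendieckAbelian.{v} A] {T : Type v} (F : T → CochainComplex A ℤ)

lemma acyclic_sigma (hF : ∀ t, (F t).Acyclic) : (∐ F).Acyclic := by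
  intro n
  rw [HomologicalComplex.exactAt_iff_isZero_homology]
  let H := HomologicalComplex.homologyFunctor A (ComplexShape.up ℤ) n
  have hc : IsColimit (H.mapCocone (colimit.cocone (Discrete.functor F))) :=
    isColimitOfPreserves H (colimit.isColimit _)
  change IsZero (H.mapCocone (colimit.cocone (Discrete.functor F))).pt
  rw [IsZero.iff_id_eq_zero]
  apply hc.hom_ext
  rintro ⟨t⟩
  exact ((hF t n).isZero_homology).eq_of_src _ _

end Coprod

section Main

variable [IsGrothendieckAbelian.{v} A] {ι : Type v} (K : ι → CochainComplex A ℤ)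

/-- the index type -/
abbrev Idx (M : CochainComplex A ℤ) : Type v := Σ i : ι, (K i ⟶ M)

/-- the family -/
abbrev fam (M : CochainComplex A ℤ) : Idx K M → CochainComplex A ℤ := fun x => K x.1

/-- the coproduct functor -/
noncomputable def P : CochainComplex A ℤ ⥤ CochainComplex A ℤ where
  obj M := ∐ (fam K M)
  map {M M'} f := Sigma.desc (fun x => Sigma.ι (fam K M') ⟨x.1, x.2 ≫ f⟩)
  map_id M := by
    apply Sigma.hom_ext
    intro x
    rw [Sigma.ι_desc, Category.comp_id]
    simp
  map_comp {M M' M''} f g := by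
    apply Sigma.hom_ext
    intro x
    rw [Sigma.ι_desc, Sigma.ι_desc_assoc, Sigma.ι_desc, Category.assoc]

/-- evaluation -/
noncomputable def ev : P K ⟶ 𝟭 (CochainComplex A ℤ) where
  app M := Sigma.desc (fun x => x.2)
  naturality {M M'} f := by
    apply Sigma.hom_ext
    intro x
    dsimp [P]
    rw [Sigma.ι_desc_assoc, Sigma.ι_desc, Sigma.ι_desc_assoc]

/-- evaluation, cleanly typed -/
noncomputable def evM (M : CochainComplex A ℤ) : (P K).obj M ⟶ M := (ev K).app M

lemma evM_naturality {M M' : CochainComplex A ℤ} (f : M ⟶ M') :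
    evM K M ≫ f = (P K).map f ≫ evM K M' :=
  ((ev K).naturality f).symm

/-- the inclusions, cleanly typed -/
noncomputable def ιP (M : CochainComplex A ℤ) (x : Idx K M) : K x.1 ⟶ (P K).obj M :=
  Sigma.ι (fam K M) x

lemma ι_evM (M : CochainComplex A ℤ) (x : Idx K M) : ιP K M x ≫ evM K M = x.2 :=
  Sigma.ι_desc _ _

/-- the null-homotopy of `ev ≫ inr` -/
noncomputable def inrHtpy (M : CochainComplex A ℤ) :
    Homotopy (evM K M ≫ inr (evM K M)) 0 :=
  HomologicalComplex.homotopyCofiber.inrCompHomotopy (evM K M) (fun j => ⟨j - 1, by simp⟩)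

/-- the functor `N` -/
noncomputable def N : CochainComplex A ℤ ⥤ CochainComplex A ℤ where
  obj M := mappingCone (evM K M)
  map {M M'} f := mappingCone.map (evM K M) (evM K M') ((P K).map f) f (evM_naturality K f)
  map_id M := by
    simp only [CategoryTheory.Functor.map_id]
    exact mappingCone.map_id _
  map_comp {M M' M''} f f' := by
    simp only [CategoryTheory.Functor.map_comp]
    exact mappingCone.map_comp _ _ _ _ _ _ _ _ _

/-- `j` at `M`, cleanly typed -/
noncomputable def jApp (M : CochainComplex A ℤ) : M ⟶ (N K).obj M := inr (evM K M)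

/-- the natural transformation `𝟭 ⟶ N` -/
noncomputable def j : 𝟭 (CochainComplex A ℤ) ⟶ N K where
  app M := jApp K M
  naturality {M M'} f := by
    dsimp only [jApp, N, Functor.id_map, Functor.id_obj]
    simp [mappingCone.map]

lemma j_app (M : CochainComplex A ℤ) : (j K).app M = jApp K M := rfl

lemma mono_jApp_f (M : CochainComplex A ℤ) (n : ℤ) : Mono ((jApp K M).f n) :=
  mono_inr_f (evM K M) n

lemma quasiIso_jApp (hK : ∀ i, (K i).Acyclic) (M : CochainComplex A ℤ) :
    QuasiIso (jApp K M) :=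
  quasiIso_inr_of_acyclic (evM K M) (acyclic_sigma (fam K M) (fun x => hK x.1))

lemma homotopy_jApp (M : CochainComplex A ℤ) (i : ι) (w : K i ⟶ M) :
    Nonempty (Homotopy (w ≫ jApp K M) 0) := by
  have h1 : w ≫ jApp K M = ιP K M ⟨i, w⟩ ≫ (evM K M ≫ inr (evM K M)) := by
    rw [← Category.assoc, ι_evM]
    rfl
  rw [h1]
  exact ⟨((inrHtpy K M).compLeft _).trans (Homotopy.ofEq comp_zero)⟩

theorem main (hK : ∀ i (n : ℤ), IsZero ((K i).homology n)) :
    ∃ (N : CochainComplex A ℤ ⥤ CochainComplex A ℤ) (j : 𝟭 _ ⟶ N),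
      ∀ M : CochainComplex A ℤ, (∀ n : ℤ, Mono ((j.app M).f n)) ∧ QuasiIso (j.app M) ∧
        ∀ (i : ι) (w : K i ⟶ M), Nonempty (Homotopy (w ≫ j.app M) 0) := by
  have hK' : ∀ i, (K i).Acyclic := fun i n => by
    rw [HomologicalComplex.exactAt_iff_isZero_homology]
    exact hK i n
  exact ⟨N K, j K, fun M => ⟨fun n => mono_jApp_f K M n, quasiIso_jApp K hK' M,
    fun i w => homotopy_jApp K M i w⟩⟩

end Main

end Groth.Agent.Lib.Helper8.KillHtpy
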