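import Mathlib
import Groth.Prelude.Def_DTen6
import Groth.Agent.Lib.Helper16.LTM2
import Groth.Agent.Lib.Helper16.BC1

/-!
# Helper8 — LTM3: the mixed derived tensor product is computed on K-flat first arguments; the two
legs into the jointly derived mixed triple tensor product are isomorphisms (S14268)
(follows Helper16's LTM1/LTM2 closely)
-/

set_option autoImplicit false

open CategoryTheory CategoryTheory.Limits MonoidalCategory

namespace Groth.Agent.Lib.Helper8.LTM3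

universe u

open DerivedCategory Groth.Agent.Lib.Helper16 Groth.Agent.Lib.Helper16.KF

attribute [local instance] HasDerivedCategory.standard

variable {A B C : Type u} [CommRing A] [CommRing B] [CommRing C]

section Mix

variable (φ : A →+* B)

lemma isKFlat_extCx {K : Cx A} (hK : DRing.IsKFlat A K) :
    DRing.IsKFlat B ((DTen.extCx φ).obj K) :=
  BC.isKFlat_extendScalars φ K hK

lemma isKFlat_mixT {K : Cx A} {L : Cx B} (hK : DRing.IsKFlat A K) (hL : DRing.IsKFlat B L) :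
    DRing.IsKFlat B ((DTen.mixT φ).obj (K, L)) :=
  isKFlat_tensor (isKFlat_extCx φ hK) hL

/-- the mixed derived tensor product is computed by the complex-level functor as soon as the
first complex is K-flat. -/
theorem isIso_εMix_app_of_isKFlat [DTen.HasLTenMix φ] (K : Cx A) (L : Cx B)
    (hK : DRing.IsKFlat A K) : IsIso ((DTen.εMix φ).app (K, L)) := by
  obtain ⟨P, p, hPproj, -, hPflat, hp⟩ := exists_kprojective_kflat_quasiIso K
  obtain ⟨P', p', hP'proj, -, hP'flat, hp'⟩ := exists_kprojective_kflat_quasiIso L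
  haveI := hPproj
  haveI := hP'proj
  haveI := hp
  haveI := hp'
  haveI := isIso_εMix_app_of_isKProjective φ P P'
  haveI : IsIso (Q.map p) := by rw [isIso_Q_map_iff_quasiIso]; infer_instance
  haveI : IsIso (Q.map p') := by rw [isIso_Q_map_iff_quasiIso]; infer_instance
  have hnat := (DTen.εMix φ).naturality (X := (P, P')) (Y := (K, L)) (Prod.mkHom p p')
  haveI : IsIso ((DTen.QMix A B ⋙ DTen.LTenMix φ).map
      (X := (P, P')) (Y := (K, L)) (Prod.mkHom p p')) := by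
    haveI : IsIso ((DTen.QMix A B).map (X := (P, P')) (Y := (K, L)) (Prod.mkHom p p')) := by
      change IsIso (Prod.mkHom (Q.map p) (Q.map p'))
      rw [isIso_prod_iff]
      exact ⟨inferInstance, inferInstance⟩
    change IsIso ((DTen.LTenMix φ).map
      ((DTen.QMix A B).map (X := (P, P')) (Y := (K, L)) (Prod.mkHom p p')))
    infer_instance
  haveI : QuasiIso ((DTen.mixT φ).map (X := (P, P')) (Y := (K, L)) (Prod.mkHom p p')) := by
    haveI := quasiIso_extCx_map_of_isKFlat φ hPflat hK p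
    haveI := quasiIso_whiskerRight_of_isKFlat hP'flat ((DTen.extCx φ).map p)
    haveI := quasiIso_whiskerLeft_of_isKFlat (isKFlat_extCx φ hK) p'
    change QuasiIso (((DTen.extCx φ).map p ▷ P') ≫ ((DTen.extCx φ).obj K ◁ p'))
    infer_instance
  haveI : IsIso ((DTen.mix₂ φ).map (X := (P, P')) (Y := (K, L)) (Prod.mkHom p p')) := by
    change IsIso (Q.map ((DTen.mixT φ).map (X := (P, P')) (Y := (K, L)) (Prod.mkHom p p')))
    rw [isIso_Q_map_iff_quasiIso]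
    infer_instance
  have h' : (DTen.εMix φ).app (K, L) =
      inv ((DTen.QMix A B ⋙ DTen.LTenMix φ).map (X := (P, P')) (Y := (K, L)) (Prod.mkHom p p')) ≫
      (DTen.εMix φ).app (P, P') ≫
        (DTen.mix₂ φ).map (X := (P, P')) (Y := (K, L)) (Prod.mkHom p p') := by
    rw [← hnat, IsIso.inv_hom_id_assoc]
  rw [h']
  infer_instance

end Mix

section Triples

variable (φ : A →+* B) (ψ : B →+* C)

lemma small_QMix₃_hom (P₁ : Cx A) (P₂ : Cx B) (P₃ : Cx C) [P₁.IsKProjective] [P₂.IsKProjective]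
    [P₃.IsKProjective] (d : Dual.D A × (Dual.D B × Dual.D C)) :
    Small.{u} ((DTen.QMix₃ A B C).obj (P₁, (P₂, P₃)) ⟶ d) := by
  haveI := small_Q_hom P₁ d.1
  haveI := small_Q_hom P₂ d.2.1
  haveI := small_Q_hom P₃ d.2.2
  change Small.{u} ((Q.obj P₁ ⟶ d.1) × ((Q.obj P₂ ⟶ d.2.1) × (Q.obj P₃ ⟶ d.2.2)))
  infer_instance

/-- the mixed tensor functor of pairs preserves homotopies. -/
lemma mixT_map_homotopy {X Y : Cx A × Cx B} (f g : X ⟶ Y) (h₁ : Homotopy f.1 g.1)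
    (h₂ : Homotopy f.2 g.2) :
    Nonempty (Homotopy ((DTen.mixT φ).map f) ((DTen.mixT φ).map g)) :=
  tensorT_map_homotopy (A := B)
    (X := ((DTen.extCx φ).obj X.1, X.2)) (Y := ((DTen.extCx φ).obj Y.1, Y.2))
    ((DTen.extCx φ).map f.1, f.2) ((DTen.extCx φ).map g.1, g.2)
    ((ModuleCat.extendScalars.{u, u, u} φ).mapHomotopy h₁) h₂

/-- the jointly derived mixed triple tensor product is computed on triples of K-projective
complexes. -/
theorem isIso_εMix₃_app_of_isKProjective [DTen.HasLTenMix₃ φ ψ] (P₁ : Cx A) (P₂ : Cx B)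
    (P₃ : Cx C) [P₁.IsKProjective] [P₂.IsKProjective] [P₃.IsKProjective] :
    IsIso ((DTen.εMix₃ φ ψ).app (P₁, (P₂, P₃))) := by
  have : ∀ d : Dual.D A × (Dual.D B × Dual.D C),
      Small.{u} ((DTen.QMix₃ A B C).obj (P₁, (P₂, P₃)) ⟶ d) := small_QMix₃_hom P₁ P₂ P₃
  have := Functor.IsLeftDerivedFunctor.isRightKanExtension (DTen.LTenMix₃ φ ψ) (DTen.εMix₃ φ ψ)
    (DTen.qisMix₃ A B C)
  refine LDer.isIso_app_of_surjective.{u} _ (P₁, (P₂, P₃)) (fun Y φ' => ?_)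
    (fun Y f g hfg => ?_)
  · obtain ⟨f₁, h₁⟩ := KPR.exists_map_of_isKProjective P₁ Y.1 φ'.1
    obtain ⟨f₂, h₂⟩ := KPR.exists_map_of_isKProjective P₂ Y.2.1 φ'.2.1
    obtain ⟨f₃, h₃⟩ := KPR.exists_map_of_isKProjective P₃ Y.2.2 φ'.2.2
    exact ⟨(f₁, (f₂, f₃)), Prod.ext h₁ (Prod.ext h₂ h₃)⟩
  · have h₁ : Q.map f.1 = Q.map g.1 := congr_arg Prod.fst hfg
    have h₂ : Q.map f.2.1 = Q.map g.2.1 := congr_arg (fun x => x.2.1) hfg
    have h₃ : Q.map f.2.2 = Q.map g.2.2 := congr_arg (fun x => x.2.2) hfg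
    obtain ⟨H₁⟩ := homotopy_of_Q_map_eq _ _ h₁
    obtain ⟨H₂⟩ := homotopy_of_Q_map_eq _ _ h₂
    obtain ⟨H₃⟩ := homotopy_of_Q_map_eq _ _ h₃
    obtain ⟨H₁₂⟩ := mixT_map_homotopy φ (X := (P₁, P₂)) (Y := (Y.1, Y.2.1)) (f.1, f.2.1)
      (g.1, g.2.1) H₁ H₂
    obtain ⟨H⟩ := mixT_map_homotopy ψ (X := ((DTen.mixT φ).obj (P₁, P₂), P₃))
      (Y := ((DTen.mixT φ).obj (Y.1, Y.2.1), Y.2.2))
      ((DTen.mixT φ).map (X := (P₁, P₂)) (Y := (Y.1, Y.2.1)) (f.1, f.2.1), f.2.2)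
      ((DTen.mixT φ).map (X := (P₁, P₂)) (Y := (Y.1, Y.2.1)) (g.1, g.2.1), g.2.2) H₁₂ H₃
    exact Q_map_eq_of_homotopy _ H

end Triples

/-- **S14268**: both legs into the jointly derived mixed triple tensor product are
isomorphisms. -/
theorem isIso_leg₃L_app_and_isIso_leg₃R_app (φ : A →+* B) (ψ : B →+* C)
    [DTen.HasLTenMix φ] [DTen.HasLTenMix ψ] [DTen.HasLTenMix (ψ.comp φ)]
    [DTen.HasLTenMix₃ φ ψ] (E : Dual.D A) (F : Dual.D B) (G : Dual.D C) :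
    IsIso ((DTen.leg₃L φ ψ).app (E, (F, G))) ∧ IsIso ((DTen.leg₃R φ ψ).app (E, (F, G))) := by
  obtain ⟨P₁, hP₁, -, hp₁, ⟨e₁⟩⟩ := exists_kprojective_kflat E
  obtain ⟨P₂, hP₂, -, hp₂, ⟨e₂⟩⟩ := exists_kprojective_kflat F
  obtain ⟨P₃, hP₃, -, hp₃, ⟨e₃⟩⟩ := exists_kprojective_kflat G
  haveI := hP₁
  haveI := hP₂
  haveI := hP₃
  haveI := isIso_εMix₃_app_of_isKProjective φ ψ P₁ P₂ P₃
  have keyL : IsIso ((DTen.leg₃L φ ψ).app ((DTen.QMix₃ A B C).obj (P₁, (P₂, P₃)))) := by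
    have hfac := DTen.leg₃L_fac φ ψ (P₁, (P₂, P₃))
    haveI := isIso_εMix_app_of_isKProjective φ P₁ P₂
    haveI := isIso_εMix_app_of_isKFlat ψ ((DTen.mixT φ).obj (P₁, P₂)) P₃ (isKFlat_mixT φ hp₁ hp₂)
    haveI : IsIso (Prod.mkHom ((DTen.εMix φ).app (P₁, P₂)) (𝟙 (Q.obj P₃))) := by
      rw [isIso_prod_iff]
      exact ⟨inferInstance, inferInstance⟩
    haveI : IsIso ((DTen.β₃L φ ψ).app (P₁, (P₂, P₃))) := by
      change IsIso ((DTen.LTenMix ψ).map
        (Prod.mkHom ((DTen.εMix φ).app (P₁, P₂)) (𝟙 (Q.obj P₃))) ≫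
        (DTen.εMix ψ).app ((DTen.mixT φ).obj (P₁, P₂), P₃))
      infer_instance
    have h : (DTen.leg₃L φ ψ).app ((DTen.QMix₃ A B C).obj (P₁, (P₂, P₃))) =
        (DTen.β₃L φ ψ).app (P₁, (P₂, P₃)) ≫ inv ((DTen.εMix₃ φ ψ).app (P₁, (P₂, P₃))) := by
      rw [← hfac, Category.assoc, IsIso.hom_inv_id, Category.comp_id]
    rw [h]
    infer_instance
  have keyR : IsIso ((DTen.leg₃R φ ψ).app ((DTen.QMix₃ A B C).obj (P₁, (P₂, P₃)))) := by
    have hfac := DTen.leg₃R_fac φ ψ (P₁, (P₂, P₃))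
    haveI := isIso_εMix_app_of_isKProjective ψ P₂ P₃
    haveI := isIso_εMix_app_of_isKFlat (ψ.comp φ) P₁ ((DTen.mixT ψ).obj (P₂, P₃)) hp₁
    haveI : IsIso (Prod.mkHom (𝟙 (Q.obj P₁)) ((DTen.εMix ψ).app (P₂, P₃))) := by
      rw [isIso_prod_iff]
      exact ⟨inferInstance, inferInstance⟩
    haveI : IsIso ((DTen.β₃R φ ψ).app (P₁, (P₂, P₃))) := by
      change IsIso ((DTen.LTenMix (ψ.comp φ)).map
        (Prod.mkHom (𝟙 (Q.obj P₁)) ((DTen.εMix ψ).app (P₂, P₃))) ≫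
        (DTen.εMix (ψ.comp φ)).app (P₁, (DTen.mixT ψ).obj (P₂, P₃)) ≫
        Q.map ((DTen.θ₃ φ ψ).inv.app (P₁, (P₂, P₃))))
      infer_instance
    have h : (DTen.leg₃R φ ψ).app ((DTen.QMix₃ A B C).obj (P₁, (P₂, P₃))) =
        (DTen.β₃R φ ψ).app (P₁, (P₂, P₃)) ≫ inv ((DTen.εMix₃ φ ψ).app (P₁, (P₂, P₃))) := by
      rw [← hfac, Category.assoc, IsIso.hom_inv_id, Category.comp_id]
    rw [h]
    infer_instance
  let ee : (DTen.QMix₃ A B C).obj (P₁, (P₂, P₃)) ≅ (E, (F, G)) := Iso.prod e₁ (Iso.prod e₂ e₃)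
  constructor
  · have hnat := (DTen.leg₃L φ ψ).naturality ee.hom
    have h : (DTen.leg₃L φ ψ).app (E, (F, G)) = inv ((DTen.iterL φ ψ).map ee.hom) ≫
        (DTen.leg₃L φ ψ).app ((DTen.QMix₃ A B C).obj (P₁, (P₂, P₃))) ≫
          (DTen.LTenMix₃ φ ψ).map ee.hom := by
      rw [← hnat, IsIso.inv_hom_id_assoc]
    rw [h]
    infer_instance
  · have hnat := (DTen.leg₃R φ ψ).naturality ee.hom
    have h : (DTen.leg₃R φ ψ).app (E, (F, G)) = inv ((DTen.iterR φ ψ).map ee.hom) ≫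
        (DTen.leg₃R φ ψ).app ((DTen.QMix₃ A B C).obj (P₁, (P₂, P₃))) ≫
          (DTen.LTenMix₃ φ ψ).map ee.hom := by
      rw [← hnat, IsIso.inv_hom_id_assoc]
    rw [h]
    infer_instance

end Groth.Agent.Lib.Helper8.LTM3
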