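import Mathlib
import Groth.Agent.Lib.Helper8.Lift5

/-!
# Helper8 — Lift9: complexes with zero differentials, the cohomology complex, and reflecting
isomorphisms (preparations for S6972)
-/

set_option autoImplicit false

open CategoryTheory CategoryTheory.Limits ZeroObject

namespace Groth.Agent.Lib.Helper8.Lift

universe v v' u u'

variable {C : Type u} {D : Type u'} [Category.{v} C] [Category.{v'} D] [Abelian C] [Abelian D]

section ReflectIso

variable {F : C ⥤ D} [F.Additive] {Pc : ObjectProperty C} [Pc.IsClosedUnderIsomorphisms]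

/-- a morphism between objects of the class which becomes an isomorphism is an isomorphism. -/
lemma isIso_of_isIso_map (H : Hyp' F Pc) {X Z : C} (p : X ⟶ Z) (hX : Pc X) (hZ : Pc Z)
    (hp : IsIso (F.map p)) : IsIso p := by
  haveI : Epi p := H.epi X Z p hX hZ inferInstance
  haveI := H.proj Z hZ
  let σ : Z ⟶ X := Projective.factorThru (𝟙 Z) p
  have hσ : σ ≫ p = 𝟙 Z := Projective.factorThru_comp _ _
  let T : ShortComplex C := ShortComplex.mk (kernel.ι p) p (kernel.condition p)
  have hT : T.Exact := ShortComplex.exact_of_f_is_kernel _ (kernelIsKernel p)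
  let s : T.Splitting := ShortComplex.Splitting.ofExactOfSection T hT σ hσ
    (inferInstanceAs (Mono (kernel.ι p)))
  let e : X ≅ kernel p ⊞ Z := s.isoBinaryBiproduct
  have hk : Pc (kernel p) := H.sum Z (kernel p) hZ (Pc.prop_of_iso (e ≪≫ biprod.braiding _ _) hX)
  have hTF : (T.map F).ShortExact := (s.map F).shortExact
  have h0 : IsZero (F.obj (kernel p)) := by
    haveI : Mono (F.map (kernel.ι p)) := hTF.mono_f
    refine IsZero.of_mono_eq_zero (F.map (kernel.ι p)) ?_
    rw [← cancel_mono (F.map p), ← F.map_comp, kernel.condition, F.map_zero, zero_comp]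
  have hk0 : IsZero (kernel p) := H.zero _ hk h0
  haveI : Mono p := Preadditive.mono_of_kernel_zero (hk0.eq_of_src _ _)
  exact isIso_of_mono_of_epi p

end ReflectIso

section ZeroDiff

variable {A : Type*} [Category A] [Abelian A]

/-- for a complex with zero differentials, the homology is the term. -/
noncomputable def homologyIsoX (V : CochainComplex A ℤ) (hV : ∀ i j, V.d i j = 0) (i : ℤ) :
    V.homology i ≅ V.X i :=
  (V.isoHomologyπ (i - 1) i (by simp) (hV _ _)).symm ≪≫
    V.iCyclesIso i (i + 1) (by simp) (hV _ _)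

@[reassoc]
lemma homologyπ_homologyIsoX_hom (V : CochainComplex A ℤ) (hV : ∀ i j, V.d i j = 0) (i : ℤ) :
    V.homologyπ i ≫ (homologyIsoX V hV i).hom = V.iCycles i := by
  dsimp only [homologyIsoX, Iso.trans_hom, Iso.symm_hom]
  rw [HomologicalComplex.isoHomologyπ_hom_inv_id_assoc]
  rfl

lemma homologyIsoX_naturality {V W : CochainComplex A ℤ} (hV : ∀ i j, V.d i j = 0)
    (hW : ∀ i j, W.d i j = 0) (f : V ⟶ W) (i : ℤ) :
    (homologyIsoX V hV i).hom ≫ f.f i =
      HomologicalComplex.homologyMap f i ≫ (homologyIsoX W hW i).hom := by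
  rw [← cancel_epi (V.homologyπ i), homologyπ_homologyIsoX_hom_assoc,
    HomologicalComplex.homologyπ_naturality_assoc, homologyπ_homologyIsoX_hom,
    HomologicalComplex.cyclesMap_i]

lemma isIso_f_of_quasiIsoAt {V W : CochainComplex A ℤ} (hV : ∀ i j, V.d i j = 0)
    (hW : ∀ i j, W.d i j = 0) (f : V ⟶ W) (i : ℤ) (hf : QuasiIsoAt f i) : IsIso (f.f i) := by
  rw [quasiIsoAt_iff_isIso_homologyMap] at hf
  have : f.f i = (homologyIsoX V hV i).inv ≫ HomologicalComplex.homologyMap f i ≫
      (homologyIsoX W hW i).hom := by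
    rw [← homologyIsoX_naturality hV hW f i, Iso.inv_hom_id_assoc]
  rw [this]
  infer_instance

/-- the complex of cohomology objects, with zero differentials. -/
noncomputable def hCx (V : CochainComplex A ℤ) : CochainComplex A ℤ where
  X i := V.homology i
  d _ _ := 0
  shape _ _ _ := rfl
  d_comp_d' _ _ _ _ _ := zero_comp

lemma hCx_d (V : CochainComplex A ℤ) (i j : ℤ) : (hCx V).d i j = 0 := rfl

/-- the terms of the cohomology complex. -/
noncomputable def hCxXIso (V : CochainComplex A ℤ) (i : ℤ) : (hCx V).X i ≅ V.homology i :=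
  Iso.refl _

/-- a section of the projection from cycles to homology. -/
noncomputable def hSec (V : CochainComplex A ℤ) [∀ i, Projective (V.homology i)] (i : ℤ) :
    (hCx V).X i ⟶ V.cycles i :=
  (hCxXIso V i).hom ≫ Projective.factorThru (𝟙 (V.homology i)) (V.homologyπ i)

@[reassoc]
lemma hSec_homologyπ (V : CochainComplex A ℤ) [∀ i, Projective (V.homology i)] (i : ℤ) :
    hSec V i ≫ V.homologyπ i = (hCxXIso V i).hom := by
  dsimp only [hSec]
  rw [Category.assoc, Projective.factorThru_comp, Category.comp_id]

/-- a morphism from the cohomology complex, when the cohomology objects are projective. -/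
noncomputable def hCxMap (V : CochainComplex A ℤ) [∀ i, Projective (V.homology i)] :
    hCx V ⟶ V where
  f i := hSec V i ≫ V.iCycles i
  comm' i j _ := by
    rw [Category.assoc, V.iCycles_d, comp_zero, hCx_d, zero_comp]

lemma quasiIso_hCxMap (V : CochainComplex A ℤ) [∀ i, Projective (V.homology i)] :
    QuasiIso (hCxMap V) := by
  refine ⟨fun i => ?_⟩
  rw [quasiIsoAt_iff_isIso_homologyMap]
  have hc : HomologicalComplex.cyclesMap (hCxMap V) i = (hCx V).iCycles i ≫ hSec V i := by
    rw [← cancel_mono (V.iCycles i), HomologicalComplex.cyclesMap_i, Category.assoc]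
    rfl
  have : HomologicalComplex.homologyMap (hCxMap V) i =
      (homologyIsoX (hCx V) (hCx_d V) i).hom ≫ (hCxXIso V i).hom := by
    rw [← cancel_epi ((hCx V).homologyπ i), HomologicalComplex.homologyπ_naturality,
      homologyπ_homologyIsoX_hom_assoc (hCx V) (hCx_d V) i, hc, Category.assoc, hSec_homologyπ]
  rw [this]
  infer_instance

end ZeroDiff

end Groth.Agent.Lib.Helper8.Lift
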