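import Mathlib
import Groth.Prelude.Def_DRing2
import Groth.Prelude.Def_DDual2
import Groth.Agent.Lib.Helper8.Lift8
import Groth.Agent.Lib.Helper8.Lift9
import Groth.Agent.Lib.Helper16.KPR6

/-!
# Helper8 — Lift10: minimal free representatives over a local ring (S6972)
-/

set_option autoImplicit false

open CategoryTheory CategoryTheory.Limits TensorProduct DerivedCategory

namespace Groth.Agent.Lib.Helper8.Lift

universe u

attribute [local instance] HasDerivedCategory.standard

section VectorSpaces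

variable {κ : Type u} [CommRing κ] (hκ : IsField κ) (V : CochainComplex (ModuleCat.{u} κ) ℤ)

include hκ in
lemma finite_cycles (i : ℤ) [Module.Finite κ (V.X i)] : Module.Finite κ (V.cycles i) := by
  letI := hκ.toField
  exact Module.Finite.of_injective (V.iCycles i).hom
    ((ModuleCat.mono_iff_injective _).1 inferInstance)

include hκ in
lemma finite_homology (i : ℤ) [Module.Finite κ (V.X i)] : Module.Finite κ (V.homology i) := by
  haveI := finite_cycles hκ V i
  exact Module.Finite.of_surjective (V.homologyπ i).hom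
    ((ModuleCat.epi_iff_surjective _).1 inferInstance)

include hκ in
lemma free_of_isField (M : Type*) [AddCommGroup M] [Module κ M] : Module.Free κ M := by
  letI := hκ.toField
  infer_instance

include hκ in
/-- a complex of finite dimensional vector spaces whose cohomology has the dimension of the terms
has zero differentials. -/
lemma d_eq_zero_of_finrank_eq (hfin : ∀ i, Module.Finite κ (V.X i))
    (h : ∀ i, Module.finrank κ (V.homology i) = Module.finrank κ (V.X i)) (i j : ℤ) :
    V.d i j = 0 := by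
  letI := hκ.toField
  haveI := hfin i
  haveI := finite_cycles hκ V i
  have hinj : Function.Injective (V.iCycles i).hom :=
    (ModuleCat.mono_iff_injective _).1 inferInstance
  have hsurj : Function.Surjective (V.homologyπ i).hom :=
    (ModuleCat.epi_iff_surjective _).1 inferInstance
  have h1 := LinearMap.finrank_le_finrank_of_injective hinj
  have h2 := LinearMap.finrank_le_finrank_of_surjective hsurj
  have h3 : Module.finrank κ (V.cycles i) = Module.finrank κ (V.X i) :=
    le_antisymm h1 (by rw [← h i]; exact h2)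
  have hs : Function.Surjective (V.iCycles i).hom :=
    (LinearMap.injective_iff_surjective_of_finrank_eq_finrank h3).1 hinj
  haveI : Epi (V.iCycles i) := (ModuleCat.epi_iff_surjective _).2 hs
  rw [← cancel_epi (V.iCycles i), V.iCycles_d, comp_zero]

end VectorSpaces

section Local

variable {R : Type u} [CommRing R] [IsLocalRing R]

local notation "𝔪" => IsLocalRing.maximalIdeal R

lemma isField_quot : IsField (R ⧸ 𝔪) :=
  (Ideal.Quotient.maximal_ideal_iff_isField_quotient 𝔪).1 inferInstance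

/-- the termwise reduction of a complex. -/
noncomputable abbrev redCx (Q : DRing.Cx R) : DRing.Cx (R ⧸ 𝔪) :=
  ((Fq 𝔪).mapHomologicalComplex (ComplexShape.up ℤ)).obj Q

lemma finite_redCx_X (Q : DRing.Cx R) (i : ℤ) [Module.Finite R (Q.X i)] :
    Module.Finite (R ⧸ 𝔪) ((redCx Q).X i) :=
  inferInstanceAs (Module.Finite (R ⧸ 𝔪) ((R ⧸ 𝔪) ⊗[R] Q.X i))

lemma finrank_redCx_X (Q : DRing.Cx R) (i : ℤ) [Module.Free R (Q.X i)] :
    Module.finrank (R ⧸ 𝔪) ((redCx Q).X i) = Module.finrank R (Q.X i) := by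
  haveI : Nontrivial (R ⧸ 𝔪) := Ideal.Quotient.nontrivial_iff.2 (IsLocalRing.maximalIdeal.isMaximal R).ne_top
  exact Module.finrank_baseChange (R := R ⧸ 𝔪) (S := R) (M' := Q.X i)

/-- the cohomology of the derived reduction, computed on a K-projective representative. -/
noncomputable def hdIso [DRing.HasLBaseChange (Ideal.Quotient.mk 𝔪)] (K : Dual.D R) (Q : DRing.Cx R) [Q.IsKProjective]
    (eQ : DRing.toD Q ≅ K) (i : ℤ) :
    (DerivedCategory.homologyFunctor (ModuleCat.{u} (R ⧸ 𝔪)) i).obj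
      ((DRing.LBaseChange (Ideal.Quotient.mk 𝔪)).obj K) ≅ (redCx Q).homology i :=
  (DerivedCategory.homologyFunctor _ i).mapIso
    ((DRing.LBaseChange (Ideal.Quotient.mk 𝔪)).mapIso eQ.symm ≪≫
      Groth.Agent.Lib.Helper16.LDer.lBaseChangeIso (Ideal.Quotient.mk 𝔪) Q) ≪≫
    (DerivedCategory.homologyFunctorFactors _ i).app (redCx Q)

lemma jacobson_le : 𝔪 ≤ Ideal.jacobson (⊥ : Ideal R) :=
  le_of_eq (IsLocalRing.jacobson_eq_maximalIdeal ⊥ bot_ne_top).symm

/-- bounded above complexes of free modules are K-projective. -/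
lemma isKProjective_of_free (P : DRing.Cx R) (b : ℤ) (hP : DRing.VanishesAbove P b)
    (hfree : ∀ i, Module.Free R (P.X i)) : P.IsKProjective := by
  haveI : P.IsStrictlyLE b := by
    rw [CochainComplex.isStrictlyLE_iff]
    exact hP
  haveI : ∀ n, Projective (P.X n) := fun n => by
    haveI := hfree n
    exact ModuleCat.projective_of_categoryTheory_projective (P.X n)
  exact CochainComplex.isKProjective_of_projective P b

/-- the data of a minimal complex. -/
def IsMinimal [DRing.HasLBaseChange (Ideal.Quotient.mk 𝔪)] (K : Dual.D R) (P : DRing.Cx R) :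
    Prop :=
  (∃ b : ℤ, DRing.VanishesAbove P b) ∧
    (∀ i : ℤ, Module.Free R (P.X i) ∧ Module.Finite R (P.X i) ∧
      Module.finrank R (P.X i) = Module.finrank (R ⧸ 𝔪)
        (Dual.HD (R ⧸ 𝔪) ((DRing.LBaseChange (Ideal.Quotient.mk 𝔪)).obj K) i)) ∧
    Nonempty (DRing.toD P ≅ K)

/-- the reduction of a minimal complex has zero differentials. -/
lemma redCx_d_eq_zero [DRing.HasLBaseChange (Ideal.Quotient.mk 𝔪)] (K : Dual.D R)
    (P : DRing.Cx R) (hP : IsMinimal K P) (i j : ℤ) : (redCx P).d i j = 0 := by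
  obtain ⟨⟨b, hb⟩, hP2, ⟨eP⟩⟩ := hP
  haveI := isKProjective_of_free P b hb (fun i => (hP2 i).1)
  refine d_eq_zero_of_finrank_eq isField_quot (redCx P) (fun i => ?_) (fun i => ?_) i j
  · haveI := (hP2 i).2.1
    exact finite_redCx_X P i
  · haveI := (hP2 i).1
    rw [finrank_redCx_X, (hP2 i).2.2]
    exact ((hdIso K P eP i).toLinearEquiv.finrank_eq).symm

/-- **uniqueness of minimal complexes.** -/
theorem minimal_unique [DRing.HasLBaseChange (Ideal.Quotient.mk 𝔪)] (K : Dual.D R)
    (P P' : DRing.Cx R) (hP : IsMinimal K P) (hP' : IsMinimal K P') : Nonempty (P ≅ P') := by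
  have hd := redCx_d_eq_zero K P hP
  have hd' := redCx_d_eq_zero K P' hP'
  obtain ⟨⟨b, hb⟩, hP2, ⟨eP⟩⟩ := hP
  obtain ⟨⟨b', hb'⟩, hP2', ⟨eP'⟩⟩ := hP'
  haveI := isKProjective_of_free P b hb (fun i => (hP2 i).1)
  haveI := isKProjective_of_free P' b' hb' (fun i => (hP2' i).1)
  obtain ⟨g, hg⟩ := Groth.Agent.Lib.Helper16.KPR.exists_map_of_isKProjective P P'
    (eP.hom ≫ eP'.inv)
  have hgq : QuasiIso g := by
    rw [← isIso_Q_map_iff_quasiIso, hg]
    infer_instance
  obtain ⟨e, he⟩ := Groth.Agent.Lib.Helper16.KPR.exists_homotopyEquiv g hgq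
  let e' : HomotopyEquiv (redCx P) (redCx P') := (Fq 𝔪).mapHomotopyEquiv e
  have hq : QuasiIso e'.hom := inferInstance
  have he' : e'.hom = ((Fq 𝔪).mapHomologicalComplex (ComplexShape.up ℤ)).map g := by
    rw [← he]
    rfl
  have H := hyp'_sf (I := 𝔪) jacobson_le
  have hiso : ∀ i, IsIso (g.f i) := fun i => by
    haveI := (hP2 i).1
    haveI := (hP2 i).2.1
    haveI := (hP2' i).1
    haveI := (hP2' i).2.1
    refine isIso_of_isIso_map H (g.f i) (sfProp_of_free (P.X i)) (sfProp_of_free (P'.X i)) ?_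
    have := isIso_f_of_quasiIsoAt hd hd' e'.hom i inferInstance
    rw [he'] at this
    exact this
  haveI : IsIso g := HomologicalComplex.Hom.isIso_of_components g
  exact ⟨asIso g⟩

/-- **existence of minimal complexes**, together with the finiteness of the cohomology of the
derived reduction. -/
theorem exists_minimal [DRing.HasLBaseChange (Ideal.Quotient.mk 𝔪)] (K : Dual.D R)
    (hK : DRing.IsPseudoCoherent' R K) :
    (∀ i : ℤ, Module.Finite (R ⧸ 𝔪)
      (Dual.HD (R ⧸ 𝔪) ((DRing.LBaseChange (Ideal.Quotient.mk 𝔪)).obj K) i)) ∧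
    (∃ b : ℤ, ∀ i : ℤ, b < i → Subsingleton
      (Dual.HD (R ⧸ 𝔪) ((DRing.LBaseChange (Ideal.Quotient.mk 𝔪)).obj K) i)) ∧
    ∃ P : DRing.Cx R, IsMinimal K P := by
  obtain ⟨Q, c, hQc, hQff, ⟨eQ⟩⟩ := hK
  haveI := isKProjective_of_free Q c hQc (fun i => (hQff i).2)
  let V : DRing.Cx (R ⧸ 𝔪) := redCx Q
  have hVfin : ∀ i, Module.Finite (R ⧸ 𝔪) (V.X i) := fun i => by
    haveI := (hQff i).1
    exact finite_redCx_X Q i
  have hHfin : ∀ i, Module.Finite (R ⧸ 𝔪) (V.homology i) := fun i => by
    haveI := hVfin i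
    exact finite_homology (isField_quot (R := R)) V i
  let ε : ∀ i, Dual.HD (R ⧸ 𝔪) ((DRing.LBaseChange (Ideal.Quotient.mk 𝔪)).obj K) i ≃ₗ[R ⧸ 𝔪]
      V.homology i := fun i => (hdIso K Q eQ i).toLinearEquiv
  have h0 : ∀ i, c < i → IsZero (V.homology i) := fun i hi => by
    have : IsZero (V.X i) := (Fq 𝔪).map_isZero (hQc i hi)
    exact (HomologicalComplex.exactAt_iff_isZero_homology _ _).1
      (ShortComplex.exact_of_isZero_X₂ _ this)
  refine ⟨fun i => ?_, ⟨c, fun i hi => ?_⟩, ?_⟩
  · haveI := hHfin i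
    exact Module.Finite.equiv (ε i).symm
  · haveI := ModuleCat.subsingleton_of_isZero (h0 i hi)
    exact (ε i).toEquiv.subsingleton
  · haveI : ∀ i, Projective (V.homology i) := fun i => by
      haveI := free_of_isField (isField_quot (R := R)) (V.homology i)
      haveI : Module.Projective (R ⧸ 𝔪) (V.homology i) := Module.Projective.of_free
      exact ModuleCat.projective_of_categoryTheory_projective _
    let E : DRing.Cx (R ⧸ 𝔪) := hCx V
    have hq := quasiIso_hCxMap V
    haveI : IsIso (DerivedCategory.Q.map (hCxMap V)) := by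
      rw [isIso_Q_map_iff_quasiIso]
      exact hq
    have eE : DRing.toD E ≅ (DRing.LBaseChange (Ideal.Quotient.mk 𝔪)).obj K :=
      asIso (DerivedCategory.Q.map (hCxMap V)) ≪≫
        (Groth.Agent.Lib.Helper16.LDer.lBaseChangeIso (Ideal.Quotient.mk 𝔪) Q).symm ≪≫
        (DRing.LBaseChange (Ideal.Quotient.mk 𝔪)).mapIso eQ
    have hEb : DRing.VanishesAbove E c := fun i hi => h0 i hi
    have hEs : ∀ i, Module.Finite (R ⧸ 𝔪) (E.X i) ∧ Module.IsStablyFree (R ⧸ 𝔪) (E.X i) :=
      fun i => ⟨hHfin i, by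
        haveI := free_of_isField (isField_quot (R := R)) (E.X i)
        infer_instance⟩
    obtain ⟨P, b', hP0, hPs, hPK, ⟨ePE⟩, hPfree⟩ :=
      exists_stablyFree_representative_lifting jacobson_le K ⟨Q, c, hQc, hQff, ⟨eQ⟩⟩ E c hEb hEs
        ⟨eE⟩
    refine ⟨P, ⟨b', hP0⟩, fun i => ?_, hPK⟩
    haveI : Module.Free R (P.X i) := hPfree i (free_of_isField (isField_quot (R := R)) _)
    refine ⟨inferInstance, (hPs i).1, ?_⟩
    rw [← finrank_redCx_X P i]
    have e1 : (redCx P).X i ≅ E.X i :=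
      (HomologicalComplex.eval _ (ComplexShape.up ℤ) i).mapIso ePE
    rw [e1.toLinearEquiv.finrank_eq]
    exact (ε i).finrank_eq.symm

end Local

/-- **S6972** -/
theorem minimal_free_representative (R : Type u) [CommRing R] [IsLocalRing R]
    [DRing.HasLBaseChange (IsLocalRing.residue R)] (K : Dual.D R)
    (hK : DRing.IsPseudoCoherent' R K) :
    let κ := IsLocalRing.ResidueField R
    let Kκ := (DRing.LBaseChange (IsLocalRing.residue R)).obj K
    let Minimal := fun P : DRing.Cx R => (∃ b : ℤ, DRing.VanishesAbove P b) ∧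
      (∀ i : ℤ, Module.Free R (P.X i) ∧ Module.Finite R (P.X i) ∧
        Module.finrank R (P.X i) = Module.finrank κ (Dual.HD κ Kκ i)) ∧ Nonempty (DRing.toD P ≅ K)
    (∀ i : ℤ, Module.Finite κ (Dual.HD κ Kκ i)) ∧
      (∃ b : ℤ, ∀ i : ℤ, b < i → Subsingleton (Dual.HD κ Kκ i)) ∧
      (∃ P : DRing.Cx R, Minimal P) ∧
      ∀ P Q : DRing.Cx R, Minimal P → Minimal Q → Nonempty (P ≅ Q) := by
  intro κ Kκ Minimal
  haveI : DRing.HasLBaseChange (Ideal.Quotient.mk (IsLocalRing.maximalIdeal R)) :=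
    ‹DRing.HasLBaseChange (IsLocalRing.residue R)›
  obtain ⟨h1, h2, h3⟩ := exists_minimal K hK
  exact ⟨h1, h2, h3, fun P Q hP hQ => minimal_unique K P Q hP hQ⟩

end Groth.Agent.Lib.Helper8.Lift
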