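import Mathlib
import Groth.Prelude.Def_DRing2
import Groth.Prelude.Def_DDual2
import Groth.Agent.Lib.Helper8.Lift6
import Groth.Agent.Lib.Helper16.KPR8

/-!
# Helper8 — Lift7: lifting bounded above complexes of projective modules along a nilpotent
thickening (S6970)
-/

set_option autoImplicit false

open CategoryTheory CategoryTheory.Limits TensorProduct DerivedCategory

namespace Groth.Agent.Lib.Helper8.Lift

universe u

attribute [local instance] HasDerivedCategory.standard

section Nakayama

variable {R : Type u} [CommRing R] (I : Ideal R)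

/-- Nakayama's lemma for a nilpotent ideal. -/
lemma eq_top_of_sup_smul_eq_top_of_isNilpotent (hI : IsNilpotent I) {Y : Type*} [AddCommGroup Y]
    [Module R Y] (N : Submodule R Y) (h : N ⊔ I • (⊤ : Submodule R Y) = ⊤) : N = ⊤ := by
  obtain ⟨n, hn⟩ := hI
  have key : ∀ k : ℕ, N ⊔ (I ^ k) • (⊤ : Submodule R Y) = ⊤ := by
    intro k
    induction k with
    | zero => rw [pow_zero, Ideal.one_eq_top, Submodule.top_smul, sup_top_eq]
    | succ k ih =>
      rw [eq_top_iff]
      calc (⊤ : Submodule R Y) = N ⊔ I • (⊤ : Submodule R Y) := h.symm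
        _ = N ⊔ I • (N ⊔ (I ^ k) • (⊤ : Submodule R Y)) := by rw [ih]
        _ = N ⊔ (I • N ⊔ I • (I ^ k) • (⊤ : Submodule R Y)) := by rw [Submodule.smul_sup]
        _ ≤ N ⊔ (I ^ (k + 1)) • (⊤ : Submodule R Y) := by
          refine sup_le le_sup_left (sup_le (le_sup_of_le_left Submodule.smul_le_right) ?_)
          refine le_sup_of_le_right ?_
          rw [← Submodule.mul_smul, pow_succ']
  have := key n
  rw [hn, Ideal.zero_eq_bot, Submodule.bot_smul, sup_bot_eq] at this
  exact this

end Nakayama

section EndHom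

variable {C D : Type*} [Category C] [Category D] [Preadditive C] [Preadditive D]

/-- the ring homomorphism on endomorphism rings induced by an additive functor. -/
def mapEndRingHom (F : C ⥤ D) [F.Additive] (X : C) : End X →+* End (F.obj X) where
  toFun f := F.map f
  map_one' := F.map_id X
  map_mul' f g := F.map_comp g f
  map_zero' := F.map_zero _ _
  map_add' _ _ := F.map_add

end EndHom

section ProjLift

variable {R : Type u} [CommRing R] (I : Ideal R)

/-- an endomorphism which vanishes modulo `I` maps `J • ⊤` into `(J * I) • ⊤`. -/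
lemma map_mem_mul_smul_top {L : ModuleCat.{u} R} (x : L ⟶ L) (hx : (Fq I).map x = 0)
    (J : Ideal R) (l : L) (hl : l ∈ J • (⊤ : Submodule R L)) :
    x.hom l ∈ (J * I) • (⊤ : Submodule R L) := by
  have h0 : ∀ l : L, x.hom l ∈ I • (⊤ : Submodule R L) := by
    intro l
    apply mem_smul_top_of_ηq_eq_zero
    rw [← Fq_map_ηq, hx]
    rfl
  induction hl using Submodule.smul_induction_on' with
  | smul r hr m hm =>
    rw [map_smul, Submodule.mul_smul]
    exact Submodule.smul_mem_smul hr (h0 m)
  | add a ha b hb ha' hb' =>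
    rw [map_add]
    exact Submodule.add_mem _ ha' hb'

lemma isNilpotent_of_map_eq_zero (hI : IsNilpotent I) {L : ModuleCat.{u} R} (x : End L)
    (hx : (Fq I).map x = 0) : IsNilpotent x := by
  obtain ⟨n, hn⟩ := hI
  refine ⟨n, ?_⟩
  have key : ∀ (k : ℕ) (l : L), (x ^ k : End L).hom l ∈ (I ^ k) • (⊤ : Submodule R L) := by
    intro k
    induction k with
    | zero =>
      intro l
      rw [pow_zero, Ideal.one_eq_top, Submodule.top_smul]
      trivial
    | succ k ih =>
      intro l
      rw [pow_succ I, pow_succ' x]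
      exact map_mem_mul_smul_top I x hx (I ^ k) _ (ih l)
  apply ModuleCat.hom_ext
  ext l
  have := key n l
  rw [hn, Ideal.zero_eq_bot, Submodule.bot_smul, Submodule.mem_bot] at this
  exact this

/-- projective modules lift along a nilpotent thickening. -/
theorem exists_projective_lift_of_isNilpotent (hI : IsNilpotent I) (M : ModuleCat.{u} (R ⧸ I))
    [Module.Projective (R ⧸ I) M] :
    ∃ X : ModuleCat.{u} R, Module.Projective R X ∧ Nonempty ((Fq I).obj X ≅ M) := by
  let adj := ModuleCat.extendRestrictScalarsAdj.{u, u, u} (Ideal.Quotient.mk I)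
  let N : ModuleCat.{u} R := (ModuleCat.restrictScalars.{u} (Ideal.Quotient.mk I)).obj M
  let L : ModuleCat.{u} R := Projective.over N
  haveI : Module.Projective R L := ModuleCat.projective_of_module_projective L
  haveI : (Fq I).IsLeftAdjoint := ⟨_, ⟨adj⟩⟩
  let p : (Fq I).obj L ⟶ M := (Fq I).map (Projective.π N) ≫ adj.counit.app M
  haveI : Epi p := by dsimp only [p]; infer_instance
  haveI : Projective M := ModuleCat.projective_of_categoryTheory_projective M
  let s : M ⟶ (Fq I).obj L := Projective.factorThru (𝟙 M) p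
  have hs : s ≫ p = 𝟙 M := Projective.factorThru_comp _ _
  let ebar : End ((Fq I).obj L) := p ≫ s
  have hebar : IsIdempotentElem ebar := by
    change (p ≫ s) ≫ (p ≫ s) = p ≫ s
    rw [Category.assoc, reassoc_of% hs]
  obtain ⟨e₀, he₀⟩ := exists_map_eq I L L ebar
  obtain ⟨e₁, he, hee⟩ := exists_isIdempotentElem_eq_of_ker_isNilpotent
    (mapEndRingHom (Fq I) L) (fun x hx => isNilpotent_of_map_eq_zero I hI x hx) ebar
    ⟨e₀, he₀⟩ hebar
  let e : L ⟶ L := e₁
  have hee' : (Fq I).map e = p ≫ s := hee
  have he' : e ≫ e = e := he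
  -- splitting the idempotent
  let X : ModuleCat.{u} R := kernel (𝟙 L - e)
  let i : X ⟶ L := kernel.ι (𝟙 L - e)
  let q : L ⟶ X := kernel.lift (𝟙 L - e) e (by rw [Preadditive.comp_sub, Category.comp_id, he',
    sub_self])
  have hqi : q ≫ i = e := kernel.lift_ι _ _ _
  have hie : i ≫ e = i := by
    have := kernel.condition (𝟙 L - e)
    rw [Preadditive.comp_sub, Category.comp_id, sub_eq_zero] at this
    exact this.symm
  have hiq : i ≫ q = 𝟙 X := by
    rw [← cancel_mono i, Category.assoc, hqi, hie, Category.id_comp]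
  refine ⟨X, ?_, ⟨?_⟩⟩
  · refine Module.Projective.of_split i.hom q.hom ?_
    rw [← ModuleCat.hom_comp, hiq]
    rfl
  · refine ⟨(Fq I).map i ≫ p, s ≫ (Fq I).map q, ?_, ?_⟩
    · rw [Category.assoc, ← Category.assoc p, ← hee', ← Functor.map_comp, ← Functor.map_comp,
        ← hqi, Category.assoc, reassoc_of% hiq, hiq, CategoryTheory.Functor.map_id]
    · rw [Category.assoc, ← Category.assoc ((Fq I).map q), ← Functor.map_comp, hqi, hee',
        Category.assoc, hs, Category.comp_id, hs]

end ProjLift

section Main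

open Groth.Agent.Lib.Helper16.KPR Groth.Agent.Lib.Helper16.TorAmp Groth.Agent.Lib.Helper16.LDer
open MonoidalCategory

variable {R : Type u} [CommRing R] {I : Ideal R}

/-- the class of projective modules. -/
def projProp (R : Type u) [CommRing R] : ObjectProperty (ModuleCat.{u} R) :=
  fun X => Module.Projective R X

instance : (projProp R).IsClosedUnderIsomorphisms where
  of_iso {X Y} e hX := by
    haveI : Module.Projective R X := hX
    exact Module.Projective.of_equiv e.toLinearEquiv

/-- an object of `D(R)` whose derived reduction modulo a nilpotent ideal is bounded above is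
represented by a bounded above complex of projective modules. -/
theorem exists_bddAbove_projective_of_nilpotent (hI : IsNilpotent I)
    [DRing.HasLBaseChange (Ideal.Quotient.mk I)] (K : Dual.D R) (b : ℤ)
    (hb : ((DRing.LBaseChange (Ideal.Quotient.mk I)).obj K).IsLE b) :
    ∃ (F : DRing.Cx R), DRing.VanishesAbove F b ∧ (∀ i, Module.Projective R (F.X i)) ∧
      Nonempty (DRing.toD F ≅ K) := by
  have hφ : Function.Surjective (Ideal.Quotient.mk I) := Ideal.Quotient.mk_surjective
  have hnil : IsNilpotent (RingHom.ker (Ideal.Quotient.mk I)) := by rw [Ideal.mk_ker]; exact hI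
  obtain ⟨Pr, hPr, hproj, ⟨e⟩⟩ := exists_kprojective_module K
  haveI := hPr
  have hfl : DRing.TermwiseFlat Pr :=
    Groth.Agent.Lib.Helper16.TorAmp.termwiseFlat_of_projective Pr hproj
  have hEb : (Q.obj ((extCx (Ideal.Quotient.mk I)).obj Pr)).IsLE b :=
    (TStructure.t).isLE_of_iso
      ((DRing.LBaseChange (Ideal.Quotient.mk I)).mapIso e.symm ≪≫
        lBaseChangeIso (Ideal.Quotient.mk I) Pr) b
  have hex : ∀ i, b < i → ((tensCx (asMod (Ideal.Quotient.mk I))).obj Pr).ExactAt i := by
    intro i hi
    rw [← exactAt_extCx_iff]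
    rw [isLE_Q_obj_iff, CochainComplex.isLE_iff] at hEb
    exact hEb i hi
  obtain ⟨n, hn⟩ := hnil
  have hall : ∀ (M : ModuleCat.{u} R) (i : ℤ), b < i → ((tensCx M).obj Pr).ExactAt i := by
    intro M i hi
    refine exactAt_tensCx_of_pow_smul_eq_bot (Ideal.Quotient.mk I) hφ Pr hfl i
      (fun N'' => exactAt_tensCx_restrict_of_gt (Ideal.Quotient.mk I) Pr b hex N'' i hi) n M ?_
    rw [hn]
    exact Submodule.bot_smul _
  have hPb : (Q.obj Pr).IsLE b := by
    rw [isLE_Q_obj_iff, CochainComplex.isLE_iff]
    intro i hi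
    exact (hall (𝟙_ _) i hi).of_iso (tensCxUnitIso Pr)
  obtain ⟨F, he, hF, hFproj⟩ := exists_bddAbove_model Pr b hPb
  haveI : QuasiIso he.hom := inferInstance
  haveI : IsIso (Q.map he.hom) := by
    rw [isIso_Q_map_iff_quasiIso]
    infer_instance
  exact ⟨F, hF, hFproj, ⟨asIso (Q.map he.hom) ≪≫ e⟩⟩

/-- **S6970** -/
theorem exists_projective_representative_lifting_of_nilpotent (hI : IsNilpotent I)
    [DRing.HasLBaseChange (Ideal.Quotient.mk I)] (K : Dual.D R)
    (E : DRing.Cx (R ⧸ I)) (b : ℤ) (hEb : DRing.VanishesAbove E b)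
    (hEp : ∀ i : ℤ, Module.Projective (R ⧸ I) (E.X i))
    (hE : Nonempty (DRing.toD E ≅ (DRing.LBaseChange (Ideal.Quotient.mk I)).obj K)) :
    ∃ (P : DRing.Cx R) (b' : ℤ), DRing.VanishesAbove P b' ∧
      (∀ i : ℤ, Module.Projective R (P.X i)) ∧ Nonempty (DRing.toD P ≅ K) ∧
      Nonempty ((((ModuleCat.extendScalars (Ideal.Quotient.mk I)).mapHomologicalComplex
        (ComplexShape.up ℤ)).obj P) ≅ E) := by
  obtain ⟨eE⟩ := hE
  have hb : ((DRing.LBaseChange (Ideal.Quotient.mk I)).obj K).IsLE b := by
    haveI : (Q.obj E).IsLE b := by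
      rw [isLE_Q_obj_iff, CochainComplex.isLE_iff]
      intro i hi
      exact ShortComplex.exact_of_isZero_X₂ _ (hEb i hi)
    exact (TStructure.t).isLE_of_iso eE b
  obtain ⟨F, hF, hFproj, ⟨eF⟩⟩ := exists_bddAbove_projective_of_nilpotent hI K b hb
  refine exists_representative_lifting (projProp R) (fun X hX => hX) ?_ ?_ K
    ⟨F, b, hF, hFproj, ⟨eF⟩⟩ E b hEb ?_ ⟨eE⟩
  · intro X Y hX
    haveI : Module.Projective R X := hX
    constructor
    · intro hXY
      haveI : Module.Projective R (X × Y) := hXY
      exact Module.Projective.of_split (LinearMap.inr R X Y) (LinearMap.snd R X Y)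
        (by ext; simp)
    · intro hY
      haveI : Module.Projective R Y := hY
      exact (inferInstance : Module.Projective R (X × Y))
  · intro X Y f _ _ h
    rw [← LinearMap.range_eq_top]
    exact eq_top_of_sup_smul_eq_top_of_isNilpotent I hI _ h
  · intro i
    haveI := hEp i
    obtain ⟨X, hX, ⟨e⟩⟩ := exists_projective_lift_of_isNilpotent I hI (E.X i)
    exact ⟨X, hX, ⟨e.toLinearEquiv⟩⟩

end Main

end Groth.Agent.Lib.Helper8.Lift
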