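import Mathlib
import Groth.Agent.Lib.Helper8.PAmp1

/-!
# Lifting maps from bounded complexes of projectives along maps that are
isomorphisms on cohomology in high degrees
-/

set_option linter.style.haveILetI false
set_option linter.unusedSectionVars false

namespace Groth.Agent.Lib.Helper8.LiftProj

open CategoryTheory Category Limits DerivedCategory Pretriangulated

universe v u

variable {A : Type u} [Category.{v} A] [Abelian A]

section

variable [HasDerivedCategory.{max u v} A]

lemma map_Q_map_eq {K L : CochainComplex A ℤ} (α : K ⟶ L) (i : ℤ) :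
    (homologyFunctor A i).map (Q.map α) =
      (homologyFunctorFactors A i).hom.app K ≫
        (HomologicalComplex.homologyFunctor A (ComplexShape.up ℤ) i).map α ≫
        (homologyFunctorFactors A i).inv.app L := by
  have := (homologyFunctorFactors A i).hom.naturality α
  rw [← cancel_mono ((homologyFunctorFactors A i).hom.app L), assoc, assoc,
    Iso.inv_hom_id_app, comp_id]
  exact this

lemma epi_map_Q_map {K L : CochainComplex A ℤ} (α : K ⟶ L) (i : ℤ)
    [Epi (HomologicalComplex.homologyMap α i)] : Epi ((homologyFunctor A i).map (Q.map α)) := by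
  rw [map_Q_map_eq]
  have h : Epi ((HomologicalComplex.homologyFunctor A (ComplexShape.up ℤ) i).map α) :=
    ‹Epi (HomologicalComplex.homologyMap α i)›
  infer_instance

lemma mono_map_Q_map {K L : CochainComplex A ℤ} (α : K ⟶ L) (i : ℤ)
    [Mono (HomologicalComplex.homologyMap α i)] : Mono ((homologyFunctor A i).map (Q.map α)) := by
  rw [map_Q_map_eq]
  have h : Mono ((HomologicalComplex.homologyFunctor A (ComplexShape.up ℤ) i).map α) :=
    ‹Mono (HomologicalComplex.homologyMap α i)›
  infer_instance

end

theorem main (P E L : CochainComplex A ℤ) (β : P ⟶ L) (α : E ⟶ L) (n b : ℤ)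
    [P.IsStrictlyGE n] [P.IsStrictlyLE b]
    (hP : ∀ i : ℤ, Projective (P.X i))
    (hiso : ∀ i : ℤ, n < i → IsIso (HomologicalComplex.homologyMap α i))
    (hepi : Epi (HomologicalComplex.homologyMap α n)) :
    ∃ γ : P ⟶ E, Nonempty (Homotopy (γ ≫ α) β) := by
  letI : HasDerivedCategory.{max u v} A := HasDerivedCategory.standard A
  let T := Q.mapTriangle.obj (CochainComplex.mappingCone.triangle α)
  have hT : T ∈ distTriang _ := mappingCone_triangle_distinguished α
  have hepi' : ∀ i, n ≤ i → Epi ((homologyFunctor A i).map T.mor₁) := by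
    intro i hi
    rcases hi.eq_or_lt with rfl | hi
    · exact epi_map_Q_map α n
    · have := hiso i hi
      exact epi_map_Q_map α i
  have hmono' : ∀ i, n < i → Mono ((homologyFunctor A i).map T.mor₁) := by
    intro i hi
    have := hiso i hi
    exact mono_map_Q_map α i
  have hC : T.obj₃.IsLE (n - 1) := by
    rw [isLE_iff]
    intro i hi
    exact DRing4.isZero_homology_obj₃ T hT i (i + 1) rfl (hepi' i (by omega))
      (hmono' (i + 1) (by omega))
  have hamp : PAmp.HasProjAmp n b (Q.obj P) :=
    ⟨P, fun i hi => by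
      rcases hi with hi | hi
      · exact P.isZero_of_isStrictlyGE n i hi
      · exact P.isZero_of_isStrictlyLE b i hi, hP, ⟨Iso.refl _⟩⟩
  have h0 : Q.map β ≫ T.mor₂ = 0 := hamp.hom_eq_zero T.obj₃ (n - 1) (by omega) _
  obtain ⟨γ', hγ'⟩ := Triangle.coyoneda_exact₂ T hT (Q.map β) h0
  haveI := hP
  have : P.IsKProjective := CochainComplex.isKProjective_of_projective P b
  obtain ⟨γ, rfl⟩ := PAmp.exists_Q_map_of_isKProjective P E γ'
  refine ⟨γ, ⟨HomotopyCategory.homotopyOfEq _ _ ?_⟩⟩
  apply (CochainComplex.IsKProjective.Qh_map_bijective P _).injective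
  have h1 : Q.map (γ ≫ α) = Q.map β := by
    rw [Functor.map_comp]
    exact hγ'.symm
  exact h1

end Groth.Agent.Lib.Helper8.LiftProj
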