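import Groth.Prelude.Def_CohCx
import Groth.Prelude.Def_FreeSh
import Groth.Agent.Lib.Helper8.GCls
import Groth.Agent.Lib.Helper8.SheafifyHDU
import Mathlib.CategoryTheory.Sites.LocallyBijective
import Mathlib.CategoryTheory.Sites.Whiskering
import Mathlib.Algebra.Category.Grp.Limits

/-!
# Helper8: a local criterion for a map of complexes of abelian sheaves to induce an isomorphism
on the `m`-th cohomology sheaf (for S0899/S0897)
-/

universe u

open CategoryTheory CategoryTheory.Limits Opposite HomologicalComplex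

namespace Groth.Agent.Lib.Helper8.ShCohCrit

open Groth.Agent.Lib.Helper8 Groth.Agent.Lib.Helper8.GCls

variable {C : Type u} [SmallCategory C] {J : GrothendieckTopology C}

/-- sections of the degree `j` term -/
abbrev sec (K : CochainComplex (Sheaf J AddCommGrpCat.{u}) ℤ) (j : ℤ) (U : C) : Type u :=
  (K.X j).obj.obj (op U)

/-- differential on sections -/
abbrev dS (K : CochainComplex (Sheaf J AddCommGrpCat.{u}) ℤ) (i j : ℤ) (U : C) :
    sec K i U →+ sec K j U :=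
  ((K.d i j).hom.app (op U)).hom

/-- a map of complexes on sections -/
abbrev fS {K L : CochainComplex (Sheaf J AddCommGrpCat.{u}) ℤ} (φ : K ⟶ L) (j : ℤ) (U : C) :
    sec K j U →+ sec L j U :=
  ((φ.f j).hom.app (op U)).hom

lemma ofSect_comp {X : C} {A B : Sheaf J AddCommGrpCat.{u}} (p : A ⟶ B) (s : A.obj.obj (op X)) :
    CohFree.ofSect J X A s ≫ p = CohFree.ofSect J X B ((p.hom.app (op X)).hom s) := by
  apply (CohFree.homEquivSect J X B).injective
  rw [CohFree.homEquivSect_apply, CohFree.homEquivSect_apply, CohFree.evalGen_ofSect]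
  change (p.hom.app (op X)).hom (CohFree.evalGen J X A (CohFree.ofSect J X A s)) = _
  rw [CohFree.evalGen_ofSect]

lemma ofSect_zero {X : C} (A : Sheaf J AddCommGrpCat.{u}) :
    CohFree.ofSect J X A 0 = 0 := by
  apply (CohFree.homEquivSect J X A).injective
  rw [CohFree.homEquivSect_apply, CohFree.evalGen_ofSect, map_zero]

lemma evalGen_comp {X : C} {A B : Sheaf J AddCommGrpCat.{u}} (a : CohCx.freeSheaf J X ⟶ A)
    (p : A ⟶ B) :
    CohFree.evalGen J X B (a ≫ p) = (p.hom.app (op X)).hom (CohFree.evalGen J X A a) := rfl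

lemma eq_of_evalGen_eq {X : C} {A : Sheaf J AddCommGrpCat.{u}} (a b : CohCx.freeSheaf J X ⟶ A)
    (h : CohFree.evalGen J X A a = CohFree.evalGen J X A b) : a = b :=
  (CohFree.homEquivSect J X A).injective h

lemma res_eq_zero_of {F : Sheaf J AddCommGrpCat.{u}} {U Z : C} (h : Z ⟶ U) (s : F.obj.obj (op U))
    (hs : CohCx.freeSheafMap J h ≫ CohFree.ofSect J U F s = 0) : (F.obj.map h.op).hom s = 0 := by
  have := CohFree.evalGen_freeSheafMap_comp J h F (CohFree.ofSect J U F s)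
  rw [CohFree.evalGen_ofSect, hs, map_zero] at this
  exact this.symm

/-- locally a class is represented by a cycle -/
lemma loc_cycle (K : CochainComplex (Sheaf J AddCommGrpCat.{u}) ℤ) (m : ℤ) (U : C)
    (γ : CohCx.freeSheaf J U ⟶ K.homology m) :
    ∃ R ∈ J U, ∀ ⦃V : C⦄ (f : V ⟶ U), R.arrows f →
      ∃ (x : CohCx.freeSheaf J V ⟶ K.X m) (hx : x ≫ K.d m (m + 1) = 0),
        CohCx.freeSheafMap J f ≫ γ = gcls K x hx := by
  obtain ⟨P', π, hπ, x, hx, h⟩ := exists_gcls_refinement γ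
  obtain ⟨R, hR, hRf⟩ := SheafifyHDU.exists_local_sections π
  refine ⟨R, hR, fun V f hf => ?_⟩
  obtain ⟨p, hp⟩ := hRf f hf
  refine ⟨p ≫ x, by rw [Category.assoc, hx, comp_zero], ?_⟩
  rw [← hp, Category.assoc, h, precomp_gcls]

/-- a cycle with zero class is locally a boundary -/
lemma loc_bdry (L : CochainComplex (Sheaf J AddCommGrpCat.{u}) ℤ) (m : ℤ) (V : C)
    (x : CohCx.freeSheaf J V ⟶ L.X m) (hx : x ≫ L.d m (m + 1) = 0) (h : gcls L x hx = 0) :
    ∃ R ∈ J V, ∀ ⦃W : C⦄ (g : W ⟶ V), R.arrows g →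
      ∃ y : CohCx.freeSheaf J W ⟶ L.X (m - 1),
        CohCx.freeSheafMap J g ≫ x = y ≫ L.d (m - 1) m := by
  obtain ⟨P', π, hπ, y, hy⟩ := (gcls_eq_zero_iff (m - 1) (by omega) x hx).1 h
  obtain ⟨R, hR, hRf⟩ := SheafifyHDU.exists_local_sections π
  refine ⟨R, hR, fun W g hg => ?_⟩
  obtain ⟨p, hp⟩ := hRf g hg
  exact ⟨p ≫ y, by rw [← hp, Category.assoc, hy, Category.assoc]⟩

variable {K L : CochainComplex (Sheaf J AddCommGrpCat.{u}) ℤ} (φ : K ⟶ L) (m : ℤ) (B : Set C)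

/-- the sieve of arrows along which a map out of `ℤ_U` vanishes -/
def zeroSieve {U : C} {F : Sheaf J AddCommGrpCat.{u}} (γ : CohCx.freeSheaf J U ⟶ F) : Sieve U where
  arrows Z h := CohCx.freeSheafMap J h ≫ γ = 0
  downward_closed {Z Z'} h hh k := by
    change CohCx.freeSheafMap J (k ≫ h) ≫ γ = 0
    rw [CohFree.freeSheafMap_comp, Category.assoc, hh, comp_zero]

/-- the sieve of arrows along which a map out of `ℤ_U` lifts through `ψ` -/
def liftSieve {U : C} {F G : Sheaf J AddCommGrpCat.{u}} (ψ : F ⟶ G)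
    (γ : CohCx.freeSheaf J U ⟶ G) : Sieve U where
  arrows Z h := ∃ β : CohCx.freeSheaf J Z ⟶ F, β ≫ ψ = CohCx.freeSheafMap J h ≫ γ
  downward_closed {Z Z'} h hh k := by
    obtain ⟨β, hβ⟩ := hh
    refine ⟨CohCx.freeSheafMap J k ≫ β, ?_⟩
    rw [CohFree.freeSheafMap_comp, Category.assoc, Category.assoc, hβ]

section

variable (hB : ∀ U : C, ∃ (ι : Type u) (Y : ι → C) (f : ∀ i, Y i ⟶ U),
  Sieve.ofArrows Y f ∈ J U ∧ ∀ i, Y i ∈ B)
include hB

lemma zeroSieve_mem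
    (hinj : ∀ Y ∈ B, ∀ (x : CohCx.freeSheaf J Y ⟶ K.X m) (_ : x ≫ K.d m (m + 1) = 0),
      (∃ y : CohCx.freeSheaf J Y ⟶ L.X (m - 1), x ≫ φ.f m = y ≫ L.d (m - 1) m) →
      ∃ w : CohCx.freeSheaf J Y ⟶ K.X (m - 1), x = w ≫ K.d (m - 1) m)
    {U : C} (γ : CohCx.freeSheaf J U ⟶ K.homology m) (hγ : γ ≫ homologyMap φ m = 0) :
    zeroSieve γ ∈ J U := by
  obtain ⟨R, hR, hRf⟩ := loc_cycle K m U γ
  refine J.transitive hR _ (fun V f hf => ?_)
  obtain ⟨x, hx, hxγ⟩ := hRf f hf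
  have hxφ : (x ≫ φ.f m) ≫ L.d m (m + 1) = 0 := by
    rw [Category.assoc, φ.comm, reassoc_of% hx, zero_comp]
  have h0 : gcls L (x ≫ φ.f m) hxφ = 0 := by
    rw [← gcls_comp_homologyMap φ x hx, ← hxγ, Category.assoc, hγ, comp_zero]
  obtain ⟨R', hR', hRf'⟩ := loc_bdry L m V (x ≫ φ.f m) hxφ h0
  refine J.transitive hR' _ (fun W g hg => ?_)
  obtain ⟨y, hy⟩ := hRf' g hg
  obtain ⟨ι, Yc, a, hcov, hYB⟩ := hB W
  refine J.superset_covering ?_ hcov
  rintro Z _ ⟨Y', b, a', ⟨i⟩, rfl⟩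
  change CohCx.freeSheafMap J (((b ≫ a i) ≫ g) ≫ f) ≫ γ = 0
  have hxi : (CohCx.freeSheafMap J (a i) ≫ CohCx.freeSheafMap J g ≫ x) ≫ K.d m (m + 1) = 0 := by
    rw [Category.assoc, Category.assoc, hx, comp_zero, comp_zero]
  obtain ⟨w, hw⟩ := hinj (Yc i) (hYB i) _ hxi
    ⟨CohCx.freeSheafMap J (a i) ≫ y, by
      rw [Category.assoc, Category.assoc, Category.assoc, ← hy]⟩
  have h1 : gcls K (CohCx.freeSheafMap J (a i) ≫ CohCx.freeSheafMap J g ≫ x) hxi = 0 := by
    rw [gcls_congr hw]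
    exact gcls_boundary (m - 1) w
  rw [CohFree.freeSheafMap_comp, CohFree.freeSheafMap_comp, CohFree.freeSheafMap_comp,
    Category.assoc, Category.assoc, Category.assoc, hxγ, precomp_gcls, precomp_gcls]
  rw [h1, comp_zero]

lemma liftSieve_mem
    (hsurj : ∀ Y ∈ B, ∀ (z : CohCx.freeSheaf J Y ⟶ L.X m) (_ : z ≫ L.d m (m + 1) = 0),
      ∃ (x : CohCx.freeSheaf J Y ⟶ K.X m) (_ : x ≫ K.d m (m + 1) = 0)
        (y : CohCx.freeSheaf J Y ⟶ L.X (m - 1)), z = x ≫ φ.f m + y ≫ L.d (m - 1) m)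
    {U : C} (γ : CohCx.freeSheaf J U ⟶ L.homology m) :
    liftSieve (homologyMap φ m) γ ∈ J U := by
  obtain ⟨R, hR, hRf⟩ := loc_cycle L m U γ
  refine J.transitive hR _ (fun V f hf => ?_)
  obtain ⟨z, hz, hzγ⟩ := hRf f hf
  obtain ⟨ι, Yc, a, hcov, hYB⟩ := hB V
  refine J.superset_covering ?_ hcov
  rintro Z _ ⟨Y', b, a', ⟨i⟩, rfl⟩
  change (liftSieve (homologyMap φ m) γ).arrows ((b ≫ a i) ≫ f)
  rw [Category.assoc]
  apply (liftSieve (homologyMap φ m) γ).downward_closed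
  have hzi : (CohCx.freeSheafMap J (a i) ≫ z) ≫ L.d m (m + 1) = 0 := by
    rw [Category.assoc, hz, comp_zero]
  obtain ⟨x, hx, y, hxy⟩ := hsurj (Yc i) (hYB i) _ hzi
  refine ⟨gcls K x hx, ?_⟩
  have e1 : CohCx.freeSheafMap J (a i ≫ f) ≫ γ =
      gcls L (CohCx.freeSheafMap J (a i) ≫ z) hzi := by
    rw [CohFree.freeSheafMap_comp, Category.assoc, hzγ, precomp_gcls]
  have hxφ : (x ≫ φ.f m) ≫ L.d m (m + 1) = 0 := by
    rw [Category.assoc, φ.comm, reassoc_of% hx, zero_comp]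
  have hyd : (y ≫ L.d (m - 1) m) ≫ L.d m (m + 1) = 0 := by
    rw [Category.assoc, L.d_comp_d, comp_zero]
  have e2 : gcls L (CohCx.freeSheafMap J (a i) ≫ z) hzi =
      gcls L (x ≫ φ.f m) hxφ + gcls L (y ≫ L.d (m - 1) m) hyd := by
    rw [gcls_congr hxy]
    exact gcls_add _ _ hxφ hyd
  rw [e1, e2, gcls_boundary, add_zero, gcls_comp_homologyMap]

/-- the criterion, stated on sections -/
theorem isIso_homologyMap
    (hinj : ∀ Y ∈ B, ∀ x : sec K m Y, dS K m (m + 1) Y x = 0 →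
      (∃ y : sec L (m - 1) Y, fS φ m Y x = dS L (m - 1) m Y y) →
      ∃ w : sec K (m - 1) Y, dS K (m - 1) m Y w = x)
    (hsurj : ∀ Y ∈ B, ∀ z : sec L m Y, dS L m (m + 1) Y z = 0 →
      ∃ x : sec K m Y, dS K m (m + 1) Y x = 0 ∧
        ∃ y : sec L (m - 1) Y, z = fS φ m Y x + dS L (m - 1) m Y y) :
    IsIso (homologyMap φ m) := by
  have hinj' : ∀ Y ∈ B, ∀ (x : CohCx.freeSheaf J Y ⟶ K.X m) (_ : x ≫ K.d m (m + 1) = 0),
      (∃ y : CohCx.freeSheaf J Y ⟶ L.X (m - 1), x ≫ φ.f m = y ≫ L.d (m - 1) m) →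
      ∃ w : CohCx.freeSheaf J Y ⟶ K.X (m - 1), x = w ≫ K.d (m - 1) m := by
    intro Y hY x hx ⟨y, hy⟩
    obtain ⟨w, hw⟩ := hinj Y hY (CohFree.evalGen J Y _ x) (by
        have := congrArg (CohFree.evalGen J Y _) hx
        rw [evalGen_comp, map_zero] at this
        exact this)
      ⟨CohFree.evalGen J Y _ y, by
        have := congrArg (CohFree.evalGen J Y _) hy
        rw [evalGen_comp, evalGen_comp] at this
        exact this⟩
    refine ⟨CohFree.ofSect J Y _ w, ?_⟩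
    apply eq_of_evalGen_eq
    rw [evalGen_comp, CohFree.evalGen_ofSect]
    exact hw.symm
  have hsurj' : ∀ Y ∈ B, ∀ (z : CohCx.freeSheaf J Y ⟶ L.X m) (_ : z ≫ L.d m (m + 1) = 0),
      ∃ (x : CohCx.freeSheaf J Y ⟶ K.X m) (_ : x ≫ K.d m (m + 1) = 0)
        (y : CohCx.freeSheaf J Y ⟶ L.X (m - 1)), z = x ≫ φ.f m + y ≫ L.d (m - 1) m := by
    intro Y hY z hz
    obtain ⟨x, hx, y, hxy⟩ := hsurj Y hY (CohFree.evalGen J Y _ z) (by
        have := congrArg (CohFree.evalGen J Y _) hz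
        rw [evalGen_comp, map_zero] at this
        exact this)
    refine ⟨CohFree.ofSect J Y _ x, ?_, CohFree.ofSect J Y _ y, ?_⟩
    · apply eq_of_evalGen_eq
      rw [evalGen_comp, CohFree.evalGen_ofSect, map_zero]
      exact hx
    · apply eq_of_evalGen_eq
      rw [map_add, evalGen_comp, evalGen_comp, CohFree.evalGen_ofSect, CohFree.evalGen_ofSect]
      exact hxy
  refine (Sheaf.isLocallyBijective_iff_isIso (homologyMap φ m)).1 ⟨?_, ?_⟩
  · refine ⟨fun {X} x y hxy => ?_⟩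
    obtain ⟨U⟩ := X
    let x' : (K.homology m).obj.obj (op U) := x
    let y' : (K.homology m).obj.obj (op U) := y
    have hxy' : ((homologyMap φ m).hom.app (op U)).hom x' =
        ((homologyMap φ m).hom.app (op U)).hom y' := hxy
    have hs : ((homologyMap φ m).hom.app (op U)).hom (x' - y') = 0 := by
      rw [map_sub, sub_eq_zero]
      exact hxy'
    have hγ : CohFree.ofSect J U _ (x' - y') ≫ homologyMap φ m = 0 := by
      rw [ofSect_comp, hs, ofSect_zero]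
    refine J.superset_covering ?_ (zeroSieve_mem φ m B hB hinj' _ hγ)
    intro Z h hh
    have := res_eq_zero_of h (x' - y') hh
    rw [map_sub, sub_eq_zero] at this
    exact this
  · refine ⟨fun {U} s => ?_⟩
    let s' : (L.homology m).obj.obj (op U) := s
    refine J.superset_covering ?_ (liftSieve_mem φ m B hB hsurj' (CohFree.ofSect J U _ s'))
    intro Z h hh
    obtain ⟨β, hβ⟩ := hh
    refine ⟨CohFree.evalGen J Z _ β, ?_⟩
    have := congrArg (CohFree.evalGen J Z _) hβ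
    rw [evalGen_comp, CohFree.evalGen_freeSheafMap_comp, CohFree.evalGen_ofSect] at this
    exact this

end

end Groth.Agent.Lib.Helper8.ShCohCrit
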