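import Groth.Prelude.Def_CohCx
import Groth.Agent.Lib.Helper8.AbEl

/-!
# Helper8: towers of cochain complexes of abelian groups, `H^m` of the limit (for S0899/S0897)
-/

universe u

open CategoryTheory CategoryTheory.Limits HomologicalComplex

namespace Groth.Agent.Lib.Helper8.TowerCx

open Groth.Agent.Lib.Helper8.AbEl

variable (A : ℕ → CochainComplex AddCommGrpCat.{u} ℤ) (τ : ∀ n, A (n + 1) ⟶ A n) (m : ℤ) (n₀ : ℕ)

/-- transition on terms -/
abbrev t (n : ℕ) (j : ℤ) : (A (n + 1)).X j →+ (A n).X j := ((τ n).f j).hom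

/-- differential on terms -/
abbrev dd (n : ℕ) (i j : ℤ) : (A n).X i →+ (A n).X j := ((A n).d i j).hom

lemma t_dd (n : ℕ) (i j : ℤ) (x : (A (n + 1)).X i) :
    t A τ n j (dd A (n + 1) i j x) = dd A n i j (t A τ n i x) := by
  have := congrArg (fun f => f.hom x) ((τ n).comm i j)
  exact this.symm

lemma dd_dd (n : ℕ) (i j k : ℤ) (x : (A n).X i) : dd A n j k (dd A n i j x) = 0 := by
  have := congrArg (fun f => f.hom x) ((A n).d_comp_d i j k)
  exact this

lemma stepIso (hc : ∀ k : ℕ, IsIso (homologyMap (CohCx.transition A τ n₀ k) m)) (n : ℕ)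
    (hn : n₀ ≤ n) : IsIso (homologyMap (τ n) m) := by
  obtain ⟨k, rfl⟩ := Nat.exists_eq_add_of_le hn
  have h1 := hc (k + 1)
  have h2 := hc k
  have e : CohCx.transition A τ n₀ (k + 1) = τ (n₀ + k) ≫ CohCx.transition A τ n₀ k := rfl
  rw [e, homologyMap_comp] at h1
  exact IsIso.of_isIso_comp_right _ (homologyMap (CohCx.transition A τ n₀ k) m)

section

variable (hstep : ∀ n, n₀ ≤ n → IsIso (homologyMap (τ n) m))
include hstep

lemma step_inj (n : ℕ) (hn : n₀ ≤ n) (x : (A (n + 1)).X m) (hx : dd A (n + 1) m (m + 1) x = 0)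
    (h : ∃ y, dd A n (m - 1) m y = t A τ n m x) : ∃ y, dd A (n + 1) (m - 1) m y = x := by
  have hiso := hstep n hn
  have hx' : dd A n m (m + 1) (t A τ n m x) = 0 := by rw [← t_dd, hx, map_zero]
  have h0 : cls (A n) (t A τ n m x) hx' = 0 := (cls_eq_zero_iff (A n) (m - 1) (by omega) _ _).2 h
  have h1 : (homologyMap (τ n) m).hom (cls (A (n + 1)) x hx) = 0 := by
    rw [homologyMap_cls]
    exact h0
  have hinj : Function.Injective (homologyMap (τ n) m).hom :=
    ((ConcreteCategory.isIso_iff_bijective _).1 hiso).1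
  have h2 : cls (A (n + 1)) x hx = 0 := hinj (by rw [h1, map_zero])
  exact (cls_eq_zero_iff (A (n + 1)) (m - 1) (by omega) _ _).1 h2

end

/-- all members of a compatible family of cycles are boundaries if the `n₀`-th is -/
lemma all_boundaries (hstep : ∀ n, n₀ ≤ n → IsIso (homologyMap (τ n) m))
    (x : ∀ n, (A n).X m) (hx : ∀ n, dd A n m (m + 1) (x n) = 0)
    (hc : ∀ n, t A τ n m (x (n + 1)) = x n) (h0 : ∃ y, dd A n₀ (m - 1) m y = x n₀) :
    ∀ n, ∃ y, dd A n (m - 1) m y = x n := by
  have down : ∀ n, (∃ y, dd A (n + 1) (m - 1) m y = x (n + 1)) → ∃ y, dd A n (m - 1) m y = x n := by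
    rintro n ⟨y, hy⟩
    exact ⟨t A τ n (m - 1) y, by rw [← t_dd, hy, hc]⟩
  have le : ∀ d n, n + d = n₀ → ∃ y, dd A n (m - 1) m y = x n := by
    intro d
    induction d with
    | zero => intro n hn; obtain rfl : n = n₀ := by omega
              exact h0
    | succ d ih => intro n hn; exact down n (ih (n + 1) (by omega))
  have ge : ∀ n, n₀ ≤ n → ∃ y, dd A n (m - 1) m y = x n := by
    intro n hn
    induction n, hn using Nat.le_induction with
    | base => exact h0
    | succ n hn ih =>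
      exact step_inj A τ m n₀ hstep n hn (x (n + 1)) (hx (n + 1)) (by rw [hc]; exact ih)
  intro n
  by_cases hn : n ≤ n₀
  · exact le (n₀ - n) n (by omega)
  · exact ge n (by omega)

/-- `R¹lim` of the cycles in degree `m - 1` vanishes -/
lemma limOne_cycles
    (ha : CohCx.LimOneIsZero (fun n => (A n).X (m - 2)) (fun n => t A τ n (m - 2)))
    (hb : CohCx.LimOneIsZero (fun n => (A n).homology (m - 1))
      (fun n => (homologyMap (τ n) (m - 1)).hom))
    (w : ∀ n, (A n).X (m - 1)) (hw : ∀ n, dd A n (m - 1) (m - 1 + 1) (w n) = 0) :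
    ∃ c : ∀ n, (A n).X (m - 1), (∀ n, dd A n (m - 1) (m - 1 + 1) (c n) = 0) ∧
      ∀ n, c n - t A τ n (m - 1) (c (n + 1)) = w n := by
  obtain ⟨h, hh⟩ := hb (fun n => cls (A n) (w n) (hw n))
  have hrep : ∀ n, ∃ (c' : (A n).X (m - 1)) (hc' : dd A n (m - 1) (m - 1 + 1) c' = 0),
      cls (A n) c' hc' = h n := fun n => cls_surjective (A n) (h n)
  choose c' hc' hcls using hrep
  have hcyc : ∀ n, dd A n (m - 1) (m - 1 + 1) (c' n - t A τ n (m - 1) (c' (n + 1)) - w n) = 0 := by
    intro n
    rw [map_sub, map_sub, hc', hw, ← t_dd, hc', map_zero, sub_zero, sub_zero]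
  have hbd : ∀ n, ∃ e : (A n).X (m - 2),
      dd A n (m - 2) (m - 1) e = c' n - t A τ n (m - 1) (c' (n + 1)) - w n := by
    intro n
    apply (cls_eq_zero_iff (A n) (m - 2) (by omega) _ (hcyc n)).1
    have h1 := congr_fun hh n
    simp only at h1
    have hτc : dd A n (m - 1) (m - 1 + 1) (t A τ n (m - 1) (c' (n + 1))) = 0 := by
      rw [← t_dd, hc', map_zero]
    have e1 : cls (A n) (c' n - t A τ n (m - 1) (c' (n + 1)) - w n) (hcyc n) =
        cls (A n) (c' n) (hc' n) - cls (A n) (t A τ n (m - 1) (c' (n + 1))) hτc -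
          cls (A n) (w n) (hw n) := by
      have key : cls (A n) (c' n) (hc' n) =
          cls (A n) (c' n - t A τ n (m - 1) (c' (n + 1)) - w n) (hcyc n) +
            cls (A n) (w n) (hw n) + cls (A n) (t A τ n (m - 1) (c' (n + 1))) hτc := by
        rw [← cls_add, ← cls_add]
        congr 1
        abel
      rw [key]
      abel
    rw [e1, hcls, ← h1]
    have e2 : cls (A n) (t A τ n (m - 1) (c' (n + 1))) hτc =
        (homologyMap (τ n) (m - 1)).hom (h (n + 1)) := by
      rw [← hcls (n + 1), homologyMap_cls]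
    rw [e2]
    abel
  choose e he using hbd
  obtain ⟨g, hg⟩ := ha e
  refine ⟨fun n => c' n - dd A n (m - 2) (m - 1) (g n), fun n => ?_, fun n => ?_⟩
  · rw [map_sub, hc', dd_dd, sub_zero]
  · have hgn := congr_fun hg n
    simp only at hgn
    rw [map_sub, t_dd]
    have : dd A n (m - 2) (m - 1) (g n) - dd A n (m - 2) (m - 1) (t A τ n (m - 2) (g (n + 1))) =
        dd A n (m - 2) (m - 1) (e n) := by
      rw [← map_sub, hgn]
    rw [he] at this
    have h3 : c' n - dd A n (m - 2) (m - 1) (g n) -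
        (t A τ n (m - 1) (c' (n + 1)) - dd A n (m - 2) (m - 1) (t A τ n (m - 2) (g (n + 1)))) =
        (c' n - t A τ n (m - 1) (c' (n + 1))) -
          (dd A n (m - 2) (m - 1) (g n) -
            dd A n (m - 2) (m - 1) (t A τ n (m - 2) (g (n + 1)))) := by abel
    rw [h3, this]
    abel

lemma dd_eq_zero_of_eq (n : ℕ) (i j j' : ℤ) (h : j = j') (x : (A n).X i)
    (hx : dd A n i j x = 0) : dd A n i j' x = 0 := by
  subst h
  exact hx

/-- injectivity part -/
theorem inj_part (hstep : ∀ n, n₀ ≤ n → IsIso (homologyMap (τ n) m))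
    (ha : CohCx.LimOneIsZero (fun n => (A n).X (m - 2)) (fun n => t A τ n (m - 2)))
    (hb : CohCx.LimOneIsZero (fun n => (A n).homology (m - 1))
      (fun n => (homologyMap (τ n) (m - 1)).hom))
    (x : ∀ n, (A n).X m) (hx : ∀ n, dd A n m (m + 1) (x n) = 0)
    (hc : ∀ n, t A τ n m (x (n + 1)) = x n) (h0 : ∃ y, dd A n₀ (m - 1) m y = x n₀) :
    ∃ w : ∀ n, (A n).X (m - 1), (∀ n, t A τ n (m - 1) (w (n + 1)) = w n) ∧
      ∀ n, dd A n (m - 1) m (w n) = x n := by
  have hall := all_boundaries A τ m n₀ hstep x hx hc h0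
  choose y hy using hall
  have hw : ∀ n, dd A n (m - 1) (m - 1 + 1) (t A τ n (m - 1) (y (n + 1)) - y n) = 0 := by
    intro n
    apply dd_eq_zero_of_eq A n (m - 1) m (m - 1 + 1) (by omega)
    rw [map_sub, ← t_dd, hy, hy, hc, sub_self]
  obtain ⟨c, hc1, hc2⟩ := limOne_cycles A τ m ha hb _ hw
  refine ⟨fun n => y n + c n, fun n => ?_, fun n => ?_⟩
  · have := hc2 n
    rw [map_add]
    have h3 : t A τ n (m - 1) (y (n + 1)) + t A τ n (m - 1) (c (n + 1)) =
        (t A τ n (m - 1) (y (n + 1)) - y n) - (c n - t A τ n (m - 1) (c (n + 1))) + (y n + c n) := by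
      abel
    rw [h3, this, sub_self, zero_add]
  · rw [map_add, hy]
    have := dd_eq_zero_of_eq A n (m - 1) (m - 1 + 1) m (by omega) (c n) (hc1 n)
    rw [this, add_zero]

/-- compatible classes through a given class at level `n₀` -/
lemma exists_compatible_classes (hstep : ∀ n, n₀ ≤ n → IsIso (homologyMap (τ n) m)) :
    ∀ (c : (A n₀).homology m), ∃ h : ∀ n, (A n).homology m,
      (∀ n, (homologyMap (τ n) m).hom (h (n + 1)) = h n) ∧ h n₀ = c := by
  -- below `n₀`
  have below : ∀ (N : ℕ) (c : (A N).homology m), ∃ g : ∀ n, (A n).homology m,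
      (∀ n, n < N → (homologyMap (τ n) m).hom (g (n + 1)) = g n) ∧ g N = c := by
    intro N
    induction N with
    | zero =>
      intro c
      exact ⟨Function.update (fun _ => 0) 0 c, fun n hn => absurd hn (by omega),
        Function.update_self ..⟩
    | succ N ih =>
      intro c
      obtain ⟨g, hg1, hg2⟩ := ih ((homologyMap (τ N) m).hom c)
      refine ⟨Function.update g (N + 1) c, fun n hn => ?_, Function.update_self ..⟩
      by_cases hnN : n = N
      · subst hnN
        rw [Function.update_self, Function.update_of_ne (by omega), hg2]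
      · rw [Function.update_of_ne (by omega), Function.update_of_ne (by omega)]
        exact hg1 n (by omega)
  intro c
  obtain ⟨g, hg1, hg2⟩ := below n₀ c
  have hsurj : ∀ n, n₀ ≤ n → Function.Surjective (homologyMap (τ n) m).hom := fun n hn =>
    ((ConcreteCategory.isIso_iff_bijective _).1 (hstep n hn)).2
  let inv : ∀ n, (A n).homology m → (A (n + 1)).homology m := fun n c =>
    if hn : n₀ ≤ n then (hsurj n hn c).choose else 0
  have hinv : ∀ n, n₀ ≤ n → ∀ c, (homologyMap (τ n) m).hom (inv n c) = c := by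
    intro n hn c
    simp only [inv, dif_pos hn]
    exact (hsurj n hn c).choose_spec
  let h : ∀ n, (A n).homology m := fun n =>
    Nat.rec (motive := fun n => (A n).homology m) (g 0)
      (fun n hn => if n + 1 ≤ n₀ then g (n + 1) else inv n hn) n
  have h_zero : h 0 = g 0 := rfl
  have h_succ : ∀ n, h (n + 1) = if n + 1 ≤ n₀ then g (n + 1) else inv n (h n) := fun n => rfl
  have h_le : ∀ n, n ≤ n₀ → h n = g n := by
    intro n hn
    cases n with
    | zero => rfl
    | succ n => rw [h_succ, if_pos hn]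
  refine ⟨h, fun n => ?_, ?_⟩
  · by_cases hn : n + 1 ≤ n₀
    · rw [h_le (n + 1) hn, h_le n (by omega)]
      exact hg1 n (by omega)
    · rw [h_succ, if_neg hn]
      exact hinv n (by omega) _
  · rw [h_le n₀ le_rfl, hg2]

/-- surjectivity part -/
theorem surj_part (hstep : ∀ n, n₀ ≤ n → IsIso (homologyMap (τ n) m))
    (ha : CohCx.LimOneIsZero (fun n => (A n).X (m - 1)) (fun n => t A τ n (m - 1)))
    (z : (A n₀).X m) (hz : dd A n₀ m (m + 1) z = 0) :
    ∃ x : ∀ n, (A n).X m, (∀ n, dd A n m (m + 1) (x n) = 0) ∧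
      (∀ n, t A τ n m (x (n + 1)) = x n) ∧ ∃ y, z = x n₀ + dd A n₀ (m - 1) m y := by
  obtain ⟨h, hh1, hh2⟩ := exists_compatible_classes A τ m n₀ hstep (cls (A n₀) z hz)
  have hrep : ∀ n, ∃ (x' : (A n).X m) (hx' : dd A n m (m + 1) x' = 0),
      cls (A n) x' hx' = h n := fun n => cls_surjective (A n) (h n)
  choose x' hx' hcls using hrep
  have hcyc : ∀ n, dd A n m (m + 1) (t A τ n m (x' (n + 1)) - x' n) = 0 := by
    intro n
    rw [map_sub, ← t_dd, hx', hx', map_zero, sub_zero]
  have hbd : ∀ n, ∃ b : (A n).X (m - 1), dd A n (m - 1) m b = t A τ n m (x' (n + 1)) - x' n := by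
    intro n
    apply (cls_eq_zero_iff (A n) (m - 1) (by omega) _ (hcyc n)).1
    have hτ : dd A n m (m + 1) (t A τ n m (x' (n + 1))) = 0 := by rw [← t_dd, hx', map_zero]
    have key : cls (A n) (t A τ n m (x' (n + 1))) hτ =
        cls (A n) (t A τ n m (x' (n + 1)) - x' n) (hcyc n) + cls (A n) (x' n) (hx' n) := by
      rw [← cls_add]
      congr 1
      abel
    have e2 : cls (A n) (t A τ n m (x' (n + 1))) hτ = h n := by
      rw [← hh1 n, ← hcls (n + 1), homologyMap_cls]
    rw [e2, hcls] at key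
    have := key
    rw [eq_comm, add_eq_right] at this
    exact this
  choose b hb using hbd
  obtain ⟨a, haa⟩ := ha b
  have ha' : ∀ n, a n - t A τ n (m - 1) (a (n + 1)) = b n := fun n => congr_fun haa n
  refine ⟨fun n => x' n + dd A n (m - 1) m (a n), fun n => ?_, fun n => ?_, ?_⟩
  · rw [map_add, hx', dd_dd, add_zero]
  · rw [map_add, t_dd]
    have h1 : dd A n (m - 1) m (a n) - dd A n (m - 1) m (t A τ n (m - 1) (a (n + 1))) =
        t A τ n m (x' (n + 1)) - x' n := by
      rw [← map_sub, ha', hb]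
    have h2 : t A τ n m (x' (n + 1)) + dd A n (m - 1) m (t A τ n (m - 1) (a (n + 1))) =
        (t A τ n m (x' (n + 1)) - x' n) -
          (dd A n (m - 1) m (a n) - dd A n (m - 1) m (t A τ n (m - 1) (a (n + 1)))) +
          (x' n + dd A n (m - 1) m (a n)) := by abel
    rw [h2, h1, sub_self, zero_add]
  · have hcyc0 : dd A n₀ m (m + 1) (z - x' n₀) = 0 := by rw [map_sub, hz, hx', sub_zero]
    have h0 : cls (A n₀) (z - x' n₀) hcyc0 = 0 := by
      have key : cls (A n₀) z hz = cls (A n₀) (z - x' n₀) hcyc0 + cls (A n₀) (x' n₀) (hx' n₀) := by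
        rw [← cls_add]
        congr 1
        abel
      rw [hcls, hh2] at key
      have := key
      rw [eq_comm, add_eq_right] at this
      exact this
    obtain ⟨y, hy⟩ := (cls_eq_zero_iff (A n₀) (m - 1) (by omega) _ hcyc0).1 h0
    refine ⟨y - a n₀, ?_⟩
    show z = x' n₀ + dd A n₀ (m - 1) m (a n₀) + dd A n₀ (m - 1) m (y - a n₀)
    rw [map_sub, hy]
    abel

end Groth.Agent.Lib.Helper8.TowerCx
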