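import Groth.Prelude.Def_CohCx
import Groth.Agent.Lib.Helper8.TowerCx
import Groth.Agent.Lib.Helper8.ShCohCrit
import Mathlib.Algebra.Homology.HomologicalComplexLimits
import Mathlib.CategoryTheory.Sites.Limits
import Mathlib.Algebra.Category.Grp.Limits

/-!
# Helper8: the cohomology sheaf of a termwise limit of complexes of abelian sheaves (S0899/S0897)
-/

universe u

open CategoryTheory CategoryTheory.Limits Opposite HomologicalComplex

namespace Groth.Agent.Lib.Helper8.LimCxSh

open Groth.Agent.Lib.Helper8 Groth.Agent.Lib.Helper8.ShCohCrit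

variable {C : Type u} [SmallCategory C] (J : GrothendieckTopology C)
  (F : ℕ → CochainComplex (Sheaf J AddCommGrpCat.{u}) ℤ) (t : ∀ n, F (n + 1) ⟶ F n)

/-- the limit complex -/
noncomputable abbrev Kinf : CochainComplex (Sheaf J AddCommGrpCat.{u}) ℤ :=
  limit (CohCx.opSequence F t)

/-- the projections -/
noncomputable abbrev π (n : ℕ) : Kinf J F t ⟶ F n := limit.π (CohCx.opSequence F t) (op n)

lemma π_t (n : ℕ) : π J F t (n + 1) ≫ t n = π J F t n := by
  have := limit.w (CohCx.opSequence F t) (homOfLE (Nat.le_add_right n 1)).op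
  rw [Functor.ofOpSequence_map_homOfLE_succ] at this
  exact this

/-- projection on sections -/
noncomputable abbrev pr (n : ℕ) (j : ℤ) (Y : C) : sec (Kinf J F t) j Y →+ sec (F n) j Y :=
  fS (π J F t n) j Y

lemma t_pr (n : ℕ) (j : ℤ) (Y : C) (x : sec (Kinf J F t) j Y) :
    fS (t n) j Y (pr J F t (n + 1) j Y x) = pr J F t n j Y x := by
  have := congrArg (fun f => fS f j Y x) (π_t J F t n)
  exact this

lemma pr_d (n : ℕ) (i j : ℤ) (Y : C) (x : sec (Kinf J F t) i Y) :
    pr J F t n j Y (dS (Kinf J F t) i j Y x) = dS (F n) i j Y (pr J F t n i Y x) := by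
  have := congrArg (fun f => (f.hom.app (op Y)).hom x) ((π J F t n).comm i j)
  exact this.symm

/-- sections in degree `j` over `Y`, as a functor to types -/
noncomputable abbrev G (j : ℤ) (Y : C) : CochainComplex (Sheaf J AddCommGrpCat.{u}) ℤ ⥤ Type u :=
  HomologicalComplex.eval _ _ j ⋙ sheafToPresheaf J _ ⋙ (evaluation _ _).obj (op Y) ⋙
    forget AddCommGrpCat

/-- the limit cone on sections -/
noncomputable def isLim (j : ℤ) (Y : C) :
    IsLimit ((G J j Y).mapCone (limit.cone (CohCx.opSequence F t))) :=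
  isLimitOfPreserves _ (limit.isLimit _)

lemma pr_ext (j : ℤ) (Y : C) (x y : sec (Kinf J F t) j Y)
    (h : ∀ n, pr J F t n j Y x = pr J F t n j Y y) : x = y := by
  apply (Types.isLimitEquivSections (isLim J F t j Y)).injective
  ext n
  exact h n.unop

lemma map_compat (j : ℤ) (Y : C) (y : ∀ n, sec (F n) j Y)
    (hy : ∀ n, fS (t n) j Y (y (n + 1)) = y n) :
    ∀ (k b : ℕ) (f : (op (b + k) : ℕᵒᵖ) ⟶ op b),
      (CohCx.opSequence F t ⋙ G J j Y).map f (y (b + k)) = y b := by
  intro k
  induction k with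
  | zero =>
    intro b f
    obtain rfl : f = 𝟙 _ := Subsingleton.elim _ _
    rw [CategoryTheory.Functor.map_id]
    rfl
  | succ k ih =>
    intro b f
    have hf : f = (homOfLE (Nat.le_add_right (b + k) 1)).op ≫ (homOfLE (Nat.le_add_right b k)).op :=
      Subsingleton.elim _ _
    rw [hf, CategoryTheory.Functor.map_comp]
    have h1 : (CohCx.opSequence F t ⋙ G J j Y).map (homOfLE (Nat.le_add_right (b + k) 1)).op
        (y (b + k + 1)) = y (b + k) := by
      have e : (CohCx.opSequence F t).map (homOfLE (Nat.le_add_right (b + k) 1)).op = t (b + k) :=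
        Functor.ofOpSequence_map_homOfLE_succ _ _
      change (G J j Y).map ((CohCx.opSequence F t).map (homOfLE (Nat.le_add_right (b + k) 1)).op)
        (y (b + k + 1)) = y (b + k)
      rw [e]
      exact hy (b + k)
    change (CohCx.opSequence F t ⋙ G J j Y).map (homOfLE (Nat.le_add_right b k)).op
      ((CohCx.opSequence F t ⋙ G J j Y).map (homOfLE (Nat.le_add_right (b + k) 1)).op
        (y (b + k + 1))) = y b
    rw [h1]
    exact ih b _

lemma pr_surj (j : ℤ) (Y : C) (y : ∀ n, sec (F n) j Y)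
    (hy : ∀ n, fS (t n) j Y (y (n + 1)) = y n) :
    ∃ x : sec (Kinf J F t) j Y, ∀ n, pr J F t n j Y x = y n := by
  let s : (CohCx.opSequence F t ⋙ G J j Y).sections :=
    ⟨fun n => y n.unop, by
      intro a b f
      obtain ⟨a⟩ := a
      obtain ⟨b⟩ := b
      have h : b ≤ a := leOfHom f.unop
      obtain ⟨k, rfl⟩ := Nat.exists_eq_add_of_le h
      exact map_compat J F t j Y y hy k b f⟩
  refine ⟨(Types.isLimitEquivSections (isLim J F t j Y)).symm s, fun n => ?_⟩
  exact Types.isLimitEquivSections_symm_apply (isLim J F t j Y) s (op n)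

/-- the tower of complexes of sections -/
noncomputable abbrev A (Y : C) (n : ℕ) : CochainComplex AddCommGrpCat.{u} ℤ :=
  (CohCx.sectCx J Y).obj (F n)

/-- its transition maps -/
noncomputable abbrev τ (Y : C) (n : ℕ) : A J F Y (n + 1) ⟶ A J F Y n :=
  (CohCx.sectCx J Y).map (t n)

lemma map_transition {T T' : Type*} [Category T] [Category T'] (G : T ⥤ T') (K : ℕ → T)
    (t : ∀ n, K (n + 1) ⟶ K n) (n k : ℕ) :
    G.map (CohCx.transition K t n k) =
      CohCx.transition (fun n => G.obj (K n)) (fun n => G.map (t n)) n k := by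
  induction k with
  | zero => exact G.map_id _
  | succ k ih =>
    change G.map (t (n + k) ≫ CohCx.transition K t n k) =
      G.map (t (n + k)) ≫ CohCx.transition (fun n => G.obj (K n)) (fun n => G.map (t n)) n k
    rw [G.map_comp, ih]

theorem main (m : ℤ) (B : Set C)
    (hB : ∀ U : C, ∃ (ι : Type u) (Y : ι → C) (f : ∀ i, Y i ⟶ U),
      Sieve.ofArrows Y f ∈ J U ∧ ∀ i, Y i ∈ B)
    (n₀ : ℕ)
    (ha : ∀ U ∈ B, ∀ j : ℤ, (j = m - 2 ∨ j = m - 1) →
      CohCx.LimOneIsZero (fun n => ((F n).X j).obj.obj (op U))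
        (fun n => (((t n).f j).hom.app (op U)).hom))
    (hb : ∀ U ∈ B, CohCx.LimOneIsZero
      (fun n => ((CohCx.sectCx J U).obj (F n)).homology (m - 1))
      (fun n => (HomologicalComplex.homologyMap ((CohCx.sectCx J U).map (t n)) (m - 1)).hom))
    (hc : ∀ U ∈ B, ∀ k : ℕ, IsIso (HomologicalComplex.homologyMap
      ((CohCx.sectCx J U).map (CohCx.transition F t n₀ k)) m)) :
    IsIso (HomologicalComplex.homologyMap (limit.π (CohCx.opSequence F t) (op n₀)) m) := by
  have hstep : ∀ Y ∈ B, ∀ n, n₀ ≤ n → IsIso (homologyMap (τ J F t Y n) m) := by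
    intro Y hY n hn
    refine TowerCx.stepIso (A J F Y) (τ J F t Y) m n₀ ?_ n hn
    intro k
    have := hc Y hY k
    rw [map_transition] at this
    exact this
  apply ShCohCrit.isIso_homologyMap (π J F t n₀) m B hB
  · intro Y hY x hx ⟨y, hy⟩
    obtain ⟨w, hw1, hw2⟩ := TowerCx.inj_part (A J F Y) (τ J F t Y) m n₀ (hstep Y hY)
      (ha Y hY (m - 2) (Or.inl rfl)) (hb Y hY)
      (fun n => pr J F t n m Y x)
      (fun n => by
        have := pr_d J F t n m (m + 1) Y x
        rw [hx, map_zero] at this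
        exact this.symm)
      (fun n => t_pr J F t n m Y x) ⟨y, hy.symm⟩
    obtain ⟨ww, hww⟩ := pr_surj J F t (m - 1) Y w hw1
    refine ⟨ww, ?_⟩
    apply pr_ext J F t m Y
    intro n
    rw [pr_d, hww]
    exact hw2 n
  · intro Y hY z hz
    obtain ⟨x, hx1, hx2, y, hy⟩ := TowerCx.surj_part (A J F Y) (τ J F t Y) m n₀ (hstep Y hY)
      (ha Y hY (m - 1) (Or.inr rfl)) z hz
    obtain ⟨xx, hxx⟩ := pr_surj J F t m Y x hx2
    refine ⟨xx, ?_, y, ?_⟩
    · apply pr_ext J F t (m + 1) Y
      intro n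
      rw [pr_d, hxx, map_zero]
      exact hx1 n
    · rw [hy]
      congr 1
      exact (hxx n₀).symm

end Groth.Agent.Lib.Helper8.LimCxSh
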