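import Mathlib

/-!
# Helper8: towers of abelian groups: limits of surjective systems
-/

universe u

open CategoryTheory CategoryTheory.Limits Opposite

namespace Groth.Agent.Lib.Helper8.LimTower1

/-- towers of abelian groups -/
abbrev Tow := ℕᵒᵖ ⥤ AddCommGrpCat.{u}

/-- the transition map -/
abbrev tr (A : Tow.{u}) (n : ℕ) : A.obj (op (n + 1)) ⟶ A.obj (op n) :=
  A.map (homOfLE (n.le_add_right 1)).op

/-- a tower has surjective transition maps -/
def Surj (A : Tow.{u}) : Prop := ∀ n, Function.Surjective (tr A n)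

lemma tr_naturality {A B : Tow.{u}} (f : A ⟶ B) (n : ℕ) (a : A.obj (op (n + 1))) :
    f.app (op n) (tr A n a) = tr B n (f.app (op (n + 1)) a) := by
  have := f.naturality (homOfLE (n.le_add_right 1)).op
  exact congrArg (fun φ => φ a) this

/-- an element of the limit from a compatible sequence -/
lemma exists_limit_elem (A : Tow.{u}) (x : ∀ n, A.obj (op n)) (hx : ∀ n, tr A n (x (n + 1)) = x n) :
    ∃ z : ↑(limit A), ∀ n, limit.π A (op n) z = x n := by
  let pt : AddCommGrpCat.{u} := AddCommGrpCat.of (ULift.{u} ℤ)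
  let app : ∀ n : ℕ, pt ⟶ A.obj (op n) := fun n =>
    AddCommGrpCat.ofHom ((zmultiplesHom _ (x n)).comp AddEquiv.ulift.toAddMonoidHom)
  have happ : ∀ n (k : ULift.{u} ℤ), app n k = k.down • x n := fun n k => rfl
  let c : Cone A :=
    { pt := pt
      π := NatTrans.ofOpSequence (F := (Functor.const ℕᵒᵖ).obj pt) (G := A) app (fun n => by
        apply AddCommGrpCat.hom_ext
        apply AddMonoidHom.ext
        intro k
        change app n k = tr A n (app (n + 1) k)
        rw [happ, happ, map_zsmul, hx]) }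
  refine ⟨limit.lift A c (ULift.up 1 : ULift.{u} ℤ), fun n => ?_⟩
  have h1 : limit.lift A c ≫ limit.π A (op n) = app n := limit.lift_π c (op n)
  have h2 := congrArg (fun φ => φ (ULift.up 1 : ULift.{u} ℤ)) h1
  change limit.π A (op n) (limit.lift A c (ULift.up 1 : ULift.{u} ℤ)) = app n (ULift.up 1) at h2
  rw [h2, happ]
  exact one_zsmul _

/-- `lim` is right exact on short exact sequences whose kernel has surjective transition maps -/
theorem limMap_surjective {A' A A'' : Tow.{u}} (f : A' ⟶ A) (g : A ⟶ A'')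
    (hfg : ∀ n (a' : A'.obj (op n)), g.app (op n) (f.app (op n) a') = 0)
    (hex : ∀ n (a : A.obj (op n)), g.app (op n) a = 0 → ∃ a', f.app (op n) a' = a)
    (hg : ∀ n, Function.Surjective (g.app (op n)))
    (hsurj : Surj A') :
    Function.Surjective (limMap g) := by
  intro y
  let yn : ∀ n, A''.obj (op n) := fun n => limit.π A'' (op n) y
  have hyn : ∀ n, tr A'' n (yn (n + 1)) = yn n := fun n => by
    have h1 : limit.π A'' (op (n + 1)) ≫ tr A'' n = limit.π A'' (op n) := limit.w A'' _
    exact congrArg (fun φ => φ y) h1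
  -- the inductive step
  have step : ∀ n (x : A.obj (op n)), g.app (op n) x = yn n →
      ∃ x' : A.obj (op (n + 1)), g.app (op (n + 1)) x' = yn (n + 1) ∧ tr A n x' = x := by
    intro n x hxy
    obtain ⟨z, hz⟩ := hg (n + 1) (yn (n + 1))
    have h1 : g.app (op n) (tr A n z - x) = 0 := by
      rw [map_sub, tr_naturality, hz, hyn, hxy, sub_self]
    obtain ⟨a', ha'⟩ := hex n _ h1
    obtain ⟨a'', ha''⟩ := hsurj n a'
    refine ⟨z - f.app (op (n + 1)) a'', ?_, ?_⟩
    · rw [map_sub, hz, hfg, sub_zero]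
    · rw [map_sub, ← tr_naturality, ha'', ha']
      abel
  choose! nxt hnxt1 hnxt2 using step
  obtain ⟨x₀, hx₀⟩ := hg 0 (yn 0)
  let X : ∀ n, {x : A.obj (op n) // g.app (op n) x = yn n} := fun n =>
    Nat.rec (motive := fun n => {x : A.obj (op n) // g.app (op n) x = yn n}) ⟨x₀, hx₀⟩
      (fun n xn => ⟨nxt n xn.1, hnxt1 n xn.1 xn.2⟩) n
  have hX : ∀ n, tr A n (X (n + 1)).1 = (X n).1 := fun n => hnxt2 n (X n).1 (X n).2
  obtain ⟨z, hz⟩ := exists_limit_elem A (fun n => (X n).1) hX
  refine ⟨z, ?_⟩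
  apply Concrete.limit_ext
  rintro ⟨n⟩
  have h1 : limMap g ≫ limit.π A'' (op n) = limit.π A (op n) ≫ g.app (op n) := limMap_π g (op n)
  have h2 := congrArg (fun φ => φ z) h1
  change limit.π A'' (op n) (limMap g z) = g.app (op n) (limit.π A (op n) z) at h2
  rw [h2, hz]
  exact (X n).2

end Groth.Agent.Lib.Helper8.LimTower1
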