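import Groth.Agent.Lib.Helper8.LimTower1

/-!
# Helper8: injective towers of abelian groups have surjective transition maps
-/

universe u

open CategoryTheory CategoryTheory.Limits Opposite

namespace Groth.Agent.Lib.Helper8.LimTower2

open LimTower1

/-- the subgroup of `ℤ` which is everything up to level `n` and zero above -/
def Sg (n m : ℕ) : AddSubgroup (ULift.{u} ℤ) := if m ≤ n then ⊤ else ⊥

lemma Sg_of_le {n m : ℕ} (h : m ≤ n) : Sg.{u} n m = ⊤ := if_pos h

lemma Sg_of_not_le {n m : ℕ} (h : ¬ m ≤ n) : Sg.{u} n m = ⊥ := if_neg h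

lemma Sg_anti (n m : ℕ) : Sg.{u} n (m + 1) ≤ Sg.{u} n m := by
  by_cases h : m + 1 ≤ n
  · rw [Sg_of_le (by omega : m ≤ n)]
    exact le_top
  · rw [Sg_of_not_le h]
    exact bot_le

lemma Sg_mono (n m : ℕ) : Sg.{u} n m ≤ Sg.{u} (n + 1) m := by
  by_cases h : m ≤ n
  · rw [Sg_of_le (by omega : m ≤ n + 1)]
    exact le_top
  · rw [Sg_of_not_le h]
    exact bot_le

/-- the tower `ℤ ← ℤ ← ⋯ ← ℤ ← 0 ← 0 ⋯` with `ℤ` up to level `n` -/
noncomputable def P (n : ℕ) : Tow.{u} :=
  Functor.ofOpSequence (X := fun m => AddCommGrpCat.of ↥(Sg.{u} n m))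
    (fun m => AddCommGrpCat.ofHom (AddSubgroup.inclusion (Sg_anti n m)))

lemma P_tr (n m : ℕ) (k : ↥(Sg.{u} n (m + 1))) :
    tr (P.{u} n) m k = AddSubgroup.inclusion (Sg_anti n m) k := by
  have h : tr (P.{u} n) m = AddCommGrpCat.ofHom (AddSubgroup.inclusion (Sg_anti n m)) :=
    Functor.ofOpSequence_map_homOfLE_succ _ m
  rw [h]
  rfl

lemma P_tr_val (n m : ℕ) (k : ↥(Sg.{u} n (m + 1))) :
    (show ↥(Sg.{u} n m) from tr (P.{u} n) m k).1 = k.1 :=
  congrArg Subtype.val (P_tr n m k)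

/-- the inclusion `P n ⟶ P (n + 1)` -/
noncomputable def j (n : ℕ) : P.{u} n ⟶ P.{u} (n + 1) :=
  NatTrans.ofOpSequence
    (fun m => AddCommGrpCat.ofHom (AddSubgroup.inclusion (Sg_mono n m)))
    (fun m => by
      apply AddCommGrpCat.hom_ext
      apply AddMonoidHom.ext
      intro (k : ↥(Sg.{u} n (m + 1)))
      apply Subtype.ext
      have h1 := P_tr_val n m k
      have h2 := P_tr_val (n + 1) m (AddSubgroup.inclusion (Sg_mono n (m + 1)) k)
      exact h1.trans h2.symm)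

lemma j_app_val (n m : ℕ) (k : ↥(Sg.{u} n m)) :
    (show ↥(Sg.{u} (n + 1) m) from (j.{u} n).app (op m) k).1 = k.1 := rfl

instance (n : ℕ) : Mono (j.{u} n) := by
  have : ∀ X : ℕᵒᵖ, Mono ((j.{u} n).app X) := by
    rintro ⟨m⟩
    rw [AddCommGrpCat.mono_iff_injective]
    intro (k : ↥(Sg.{u} n m)) (k' : ↥(Sg.{u} n m)) h
    apply Subtype.ext
    have h1 := j_app_val n m k
    have h2 := j_app_val n m k'
    rw [← h1, ← h2]
    exact congrArg Subtype.val h
  exact NatTrans.mono_of_mono_app _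

section Phi

variable (A : Tow.{u}) {n : ℕ} (x : A.obj (op n))

/-- the components of the map `P n ⟶ A` classified by `x ∈ A_n` -/
noncomputable def φfun (m : ℕ) : ↥(Sg.{u} n m) →+ A.obj (op m) :=
  if h : m ≤ n then
    (zmultiplesHom _ (A.map (homOfLE h).op x)).comp
      (AddEquiv.ulift.toAddMonoidHom.comp (Sg.{u} n m).subtype)
  else 0

lemma φfun_of_le {m : ℕ} (h : m ≤ n) (k : ↥(Sg.{u} n m)) :
    φfun A x m k = k.1.down • A.map (homOfLE h).op x := by
  unfold φfun
  rw [dif_pos h]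
  rfl

lemma φfun_of_not_le {m : ℕ} (h : ¬ m ≤ n) : φfun A x m = 0 := by
  unfold φfun
  rw [dif_neg h]

/-- the map `P n ⟶ A` classified by `x ∈ A_n` -/
noncomputable def φ : P.{u} n ⟶ A :=
  NatTrans.ofOpSequence (fun m => AddCommGrpCat.ofHom (φfun A x m)) (fun m => by
    apply AddCommGrpCat.hom_ext
    apply AddMonoidHom.ext
    intro (k : ↥(Sg.{u} n (m + 1)))
    change φfun A x m (show ↥(Sg.{u} n m) from tr (P.{u} n) m k) = tr A m (φfun A x (m + 1) k)
    by_cases h : m + 1 ≤ n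
    · rw [φfun_of_le A x (by omega : m ≤ n), φfun_of_le A x h, map_zsmul, P_tr_val]
      congr 1
      have h1 : tr A m (A.map (homOfLE h).op x) =
          (A.map (homOfLE h).op ≫ A.map (homOfLE (m.le_add_right 1)).op) x := rfl
      rw [h1, ← A.map_comp]
      rfl
    · have hk : k = 0 := by
        have h0 : (k : ULift.{u} ℤ) ∈ (⊥ : AddSubgroup (ULift.{u} ℤ)) := (Sg_of_not_le h) ▸ k.2
        exact Subtype.ext ((AddSubgroup.mem_bot).1 h0)
      rw [φfun_of_not_le A x h]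
      have h2 : (show ↥(Sg.{u} n m) from tr (P.{u} n) m k) = 0 := by
        apply Subtype.ext
        rw [P_tr_val, hk]
        rfl
      rw [h2, map_zero]
      exact (map_zero _).symm)

lemma φ_app (m : ℕ) (k : ↥(Sg.{u} n m)) : (φ A x).app (op m) k = φfun A x m k := rfl

end Phi

/-- injective towers have surjective transition maps -/
theorem surj_of_injective (I : Tow.{u}) [Injective I] : Surj I := by
  intro n x
  let ψ : P.{u} (n + 1) ⟶ I := Injective.factorThru (φ I x) (j n)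
  have hψ : j n ≫ ψ = φ I x := Injective.comp_factorThru _ _
  have hmem1 : (ULift.up 1 : ULift.{u} ℤ) ∈ Sg.{u} (n + 1) (n + 1) := by
    rw [Sg_of_le le_rfl]; trivial
  have hmem0 : (ULift.up 1 : ULift.{u} ℤ) ∈ Sg.{u} n n := by
    rw [Sg_of_le le_rfl]; trivial
  let one1 : ↥(Sg.{u} (n + 1) (n + 1)) := ⟨ULift.up 1, hmem1⟩
  let one0 : ↥(Sg.{u} n n) := ⟨ULift.up 1, hmem0⟩
  refine ⟨ψ.app (op (n + 1)) one1, ?_⟩
  have h1 : tr I n (ψ.app (op (n + 1)) one1) = ψ.app (op n) (tr (P.{u} (n + 1)) n one1) :=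
    (tr_naturality ψ n one1).symm
  have h2 : (show ↥(Sg.{u} (n + 1) n) from tr (P.{u} (n + 1)) n one1) =
      (show ↥(Sg.{u} (n + 1) n) from (j.{u} n).app (op n) one0) := by
    apply Subtype.ext
    rw [P_tr_val, j_app_val]
  have h3 : ψ.app (op n) ((j.{u} n).app (op n) one0) = (φ I x).app (op n) one0 := by
    rw [← hψ]
    rfl
  have h4 : (φ I x).app (op n) one0 = x := by
    rw [φ_app, φfun_of_le I x le_rfl]
    have h5 : I.map (homOfLE (le_refl n)).op x = x := by
      have : (homOfLE (le_refl n)).op = 𝟙 (op n) := rfl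
      rw [this, I.map_id]
      rfl
    rw [h5]
    exact one_zsmul x
  rw [h1]
  exact (congrArg (fun k => ψ.app (op n) k) h2).trans (h3.trans h4)

end Groth.Agent.Lib.Helper8.LimTower2
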