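import Groth.Agent.Lib.Helper8.LimTower2
import Groth.Agent.Lib.Helper8.RDer5

/-!
# Helper8: `lim^i = 0` for `i ≥ 2` on towers of abelian groups
-/

universe u

open CategoryTheory CategoryTheory.Limits Opposite

namespace Groth.Agent.Lib.Helper8.LimTower3

open LimTower1 LimTower2

/-- quotients of towers with surjective transition maps have surjective transition maps -/
lemma surj_of_epi {A B : Tow.{u}} (π : A ⟶ B) [Epi π] (hA : Surj A) : Surj B := by
  intro n b
  have h1 : Epi (π.app (op n)) := (NatTrans.epi_iff_epi_app π).1 inferInstance (op n)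
  rw [AddCommGrpCat.epi_iff_surjective] at h1
  obtain ⟨a, rfl⟩ := h1 b
  obtain ⟨a', rfl⟩ := hA n a
  exact ⟨π.app (op (n + 1)) a', (tr_naturality π n a').symm⟩

/-- levelwise consequences of short exactness -/
lemma levelwise {S : ShortComplex Tow.{u}} (hS : S.ShortExact) :
    (∀ n (a' : S.X₁.obj (op n)), S.g.app (op n) (S.f.app (op n) a') = 0) ∧
    (∀ n (a : S.X₂.obj (op n)), S.g.app (op n) a = 0 → ∃ a', S.f.app (op n) a' = a) ∧
    (∀ n, Function.Surjective (S.g.app (op n))) := by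
  refine ⟨fun n a' => ?_, fun n a ha => ?_, fun n => ?_⟩
  · have h1 : S.f.app (op n) ≫ S.g.app (op n) = 0 := by
      rw [← NatTrans.comp_app, S.zero]
      rfl
    exact congrArg (fun φ => φ a') h1
  · have h2 := (hS.map_of_exact ((evaluation ℕᵒᵖ AddCommGrpCat.{u}).obj (op n))).exact
    rw [ShortComplex.ab_exact_iff] at h2
    exact h2 a ha
  · have := hS.epi_g
    have h1 : Epi (S.g.app (op n)) := (NatTrans.epi_iff_epi_app S.g).1 inferInstance (op n)
    rwa [AddCommGrpCat.epi_iff_surjective] at h1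

set_option linter.unusedSectionVars false

variable [EnoughInjectives Tow.{u}]
  [(lim : Tow.{u} ⥤ AddCommGrpCat.{u}).Additive]

/-- the embedding into an injective and its cokernel -/
noncomputable def sc (A : Tow.{u}) : ShortComplex Tow.{u} :=
  ShortComplex.mk (Injective.ι A) (cokernel.π (Injective.ι A)) (cokernel.condition _)

lemma sc_shortExact (A : Tow.{u}) : (sc A).ShortExact :=
  { exact := ShortComplex.exact_of_g_is_cokernel _ (cokernelIsCokernel _)
    mono_f := inferInstanceAs (Mono (Injective.ι A))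
    epi_g := inferInstanceAs (Epi (cokernel.π (Injective.ι A))) }

lemma surj_cokernel (A : Tow.{u}) : Surj (sc A).X₃ :=
  show Surj (cokernel (Injective.ι A)) from
    surj_of_epi (cokernel.π (Injective.ι A)) (surj_of_injective (Injective.under A))

/-- dimension shifting: vanishing of `R^{n+1}` follows from vanishing of `R^n` of the cokernel -/
lemma isZero_succ_of_isZero (A : Tow.{u}) (n : ℕ)
    (h : IsZero (((lim : Tow.{u} ⥤ AddCommGrpCat.{u}).rightDerived n).obj (sc A).X₃)) :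
    IsZero (((lim : Tow.{u} ⥤ AddCommGrpCat.{u}).rightDerived (n + 1)).obj A) := by
  obtain ⟨T⟩ := RDer4.nonempty_sesRes (sc_shortExact A)
  have hex := RDer5.exact₁ (lim : Tow.{u} ⥤ AddCommGrpCat.{u}) T n (n + 1) rfl
  have hI : IsZero (((lim : Tow.{u} ⥤ AddCommGrpCat.{u}).rightDerived (n + 1)).obj (sc A).X₂) :=
    Functor.isZero_rightDerived_obj_injective_succ _ n (Injective.under A)
  have hepi : Epi (T.delta (lim : Tow.{u} ⥤ AddCommGrpCat.{u}) n (n + 1) rfl) :=
    hex.epi_f (hI.eq_of_tgt _ _)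
  exact @IsZero.of_epi _ _ _ _ _ (T.delta (lim : Tow.{u} ⥤ AddCommGrpCat.{u}) n (n + 1) rfl) hepi h

/-- `lim¹` vanishes on towers with surjective transition maps -/
lemma isZero_one_of_surj (A : Tow.{u}) (hA : Surj A) :
    IsZero (((lim : Tow.{u} ⥤ AddCommGrpCat.{u}).rightDerived 1).obj A) := by
  obtain ⟨T⟩ := RDer4.nonempty_sesRes (sc_shortExact A)
  haveI : PreservesLimits (lim : Tow.{u} ⥤ AddCommGrpCat.{u}) :=
    constLimAdj.rightAdjoint_preservesLimits
  let e := (lim : Tow.{u} ⥤ AddCommGrpCat.{u}).rightDerivedZeroIsoSelf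
  have hg : Epi ((lim : Tow.{u} ⥤ AddCommGrpCat.{u}).map (sc A).g) := by
    rw [AddCommGrpCat.epi_iff_surjective]
    obtain ⟨h1, h2, h3⟩ := levelwise (sc_shortExact A)
    exact limMap_surjective (sc A).f (sc A).g h1 h2 h3 hA
  have hg0 : Epi (((lim : Tow.{u} ⥤ AddCommGrpCat.{u}).rightDerived 0).map (sc A).g) := by
    have hn : ((lim : Tow.{u} ⥤ AddCommGrpCat.{u}).rightDerived 0).map (sc A).g =
        e.hom.app _ ≫ (lim : Tow.{u} ⥤ AddCommGrpCat.{u}).map (sc A).g ≫ e.inv.app _ := by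
      rw [← Category.assoc, ← e.hom.naturality, Category.assoc, Iso.hom_inv_id_app,
        Category.comp_id]
    rw [hn]
    infer_instance
  have hδ0 : T.delta (lim : Tow.{u} ⥤ AddCommGrpCat.{u}) 0 1 rfl = 0 := by
    have h1 := RDer5.comp_δ (lim : Tow.{u} ⥤ AddCommGrpCat.{u}) T 0 1 rfl
    rw [← cancel_epi (((lim : Tow.{u} ⥤ AddCommGrpCat.{u}).rightDerived 0).map (sc A).g),
      comp_zero]
    exact h1
  have hex1 := RDer5.exact₁ (lim : Tow.{u} ⥤ AddCommGrpCat.{u}) T 0 1 rfl
  have hI : IsZero (((lim : Tow.{u} ⥤ AddCommGrpCat.{u}).rightDerived 1).obj (sc A).X₂) :=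
    Functor.isZero_rightDerived_obj_injective_succ _ 0 (Injective.under A)
  have hepi : Epi (T.delta (lim : Tow.{u} ⥤ AddCommGrpCat.{u}) 0 1 rfl) :=
    hex1.epi_f (hI.eq_of_tgt _ _)
  exact @IsZero.of_epi_eq_zero _ _ _ _ _ (T.delta (lim : Tow.{u} ⥤ AddCommGrpCat.{u}) 0 1 rfl)
    hepi hδ0

/-- `lim^i` vanishes for `i ≥ 1` on towers with surjective transition maps -/
lemma isZero_of_surj (i : ℕ) : ∀ (A : Tow.{u}), Surj A →
    IsZero (((lim : Tow.{u} ⥤ AddCommGrpCat.{u}).rightDerived (i + 1)).obj A) := by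
  induction i with
  | zero => exact fun A hA => isZero_one_of_surj A hA
  | succ i ih => exact fun A _ => isZero_succ_of_isZero A (i + 1) (ih _ (surj_cokernel A))

/-- `lim^i = 0` for `i ≥ 2` -/
theorem main (A : Tow.{u}) (i : ℕ) (hi : 2 ≤ i) :
    IsZero (((lim : Tow.{u} ⥤ AddCommGrpCat.{u}).rightDerived i).obj A) := by
  obtain ⟨k, rfl⟩ : ∃ k, i = k + 1 + 1 := ⟨i - 2, by omega⟩
  exact isZero_succ_of_isZero A (k + 1) (isZero_of_surj k _ (surj_cokernel A))

end Groth.Agent.Lib.Helper8.LimTower3
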