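import Mathlib
import Groth.Prelude.Def_DRing4
import Groth.Agent.Lib.Helper8.RHomK8

/-!
# Helper8 — RHomK12: the dual complex `Hom•(P, M[0])` and the evaluation morphism
`P ⟶ Hom•(Hom•(P, S), S)`.
-/

set_option autoImplicit false

universe u

open CategoryTheory CategoryTheory.Limits
  CochainComplex CochainComplex.HomComplex

namespace Groth.Agent.Lib.Helper8.RHomK

variable {A : Type u} [CommRing A]

section ToSingle

variable (P : DRing.Cx A) (M : ModuleCat.{u} A)

/-- cochains of degree `n` to `M[0]` are maps `P^p ⟶ M` for `p + n = 0` -/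
noncomputable def toSingleLin (n p : ℤ) (h : p + n = 0) :
    Cochain P (sgM M) n ≃ₗ[A] (P.X p ⟶ M) :=
  { Cochain.toSingleEquiv (X := M) (K := P) (p := p) (q := 0) (n := n) h with
    map_smul' := fun a w => by
      change (a • w).v p 0 h ≫ (HomologicalComplex.singleObjXSelf (.up ℤ) 0 M).hom =
        a • (w.v p 0 h ≫ (HomologicalComplex.singleObjXSelf (.up ℤ) 0 M).hom)
      rw [Cochain.smul_v, Linear.smul_comp] }

lemma toSingleLin_apply (n p : ℤ) (h : p + n = 0) (w : Cochain P (sgM M) n) :
    toSingleLin P M n p h w = w.v p 0 h ≫ (HomologicalComplex.singleObjXSelf (.up ℤ) 0 M).hom :=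
  rfl

lemma toSingleLin_symm_apply (n p : ℤ) (h : p + n = 0) (f : P.X p ⟶ M) :
    (toSingleLin P M n p h).symm f = Cochain.toSingleMk f h := rfl

/-- the terms of the dual complex -/
noncomputable def dualXEquiv (n p : ℤ) (h : p + n = 0) :
    (DRing.homCx P (sgM M)).X n ≃ₗ[A] (P.X p →ₗ[A] M) :=
  (toSingleLin P M n p h).trans (ModuleCat.homLinearEquiv (S := A))

end ToSingle

section Ev

variable (P S : DRing.Cx A)

/-- evaluation of a cochain at an element, with the Koszul sign -/
noncomputable def evComp (n : ℤ) (x : P.X n) (p q : ℤ) (hpq : p + n = q) :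
    Cochain P S p →ₗ[A] S.X q where
  toFun φ := (n * p).negOnePow • (φ.v n q (by omega)).hom x
  map_add' φ φ' := by
    rw [Cochain.add_v]
    change (n * p).negOnePow • ((φ.v n q _).hom x + (φ'.v n q _).hom x) = _
    rw [smul_add]
  map_smul' a φ := by
    rw [Cochain.smul_v]
    change (n * p).negOnePow • (a • (φ.v n q _).hom x) = a • ((n * p).negOnePow • (φ.v n q _).hom x)
    rw [smul_comm]

/-- the evaluation cochain of an element -/
noncomputable def evCochain (n : ℤ) (x : P.X n) : Cochain (DRing.homCx P S) S n :=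
  Cochain.mk fun p q hpq => ModuleCat.ofHom (evComp P S n x p q hpq)

lemma evCochain_v_apply (n : ℤ) (x : P.X n) (p q : ℤ) (hpq : p + n = q) (φ : Cochain P S p) :
    ((evCochain P S n x).v p q hpq).hom φ = (n * p).negOnePow • (φ.v n q (by omega)).hom x := rfl

/-- extensionality for cochains from a Hom complex -/
lemma cochain_ext₃ {K L S' : DRing.Cx A} {m : ℤ} {z z' : Cochain (DRing.homCx K L) S' m}
    (h : ∀ (p q : ℤ) (hpq : p + m = q) (w : Cochain K L p),
      (z.v p q hpq).hom w = (z'.v p q hpq).hom w) : z = z' := by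
  refine Cochain.ext _ _ (fun p q hpq => ?_)
  ext w
  exact h p q hpq w

/-- evaluation, as a linear map -/
noncomputable def evLin (n : ℤ) : P.X n →ₗ[A] Cochain (DRing.homCx P S) S n where
  toFun x := evCochain P S n x
  map_add' x y := by
    refine cochain_ext₃ (fun p q hpq φ => ?_)
    rw [Cochain.add_v]
    change (n * p).negOnePow • (φ.v n q _).hom (x + y) =
      (n * p).negOnePow • (φ.v n q _).hom x + (n * p).negOnePow • (φ.v n q _).hom y
    rw [map_add, smul_add]
  map_smul' a x := by
    refine cochain_ext₃ (fun p q hpq φ => ?_)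
    rw [Cochain.smul_v]
    change (n * p).negOnePow • (φ.v n q _).hom (a • x) =
      a • ((n * p).negOnePow • (φ.v n q _).hom x)
    rw [map_smul, smul_comm]

lemma evLin_d (n : ℤ) (x : P.X n) :
    evLin P S (n + 1) ((P.d n (n + 1)).hom x) = δ n (n + 1) (evLin P S n x) := by
  refine cochain_ext₃ (fun p q hpq φ => ?_)
  rw [δ_v n (n + 1) rfl _ p q hpq (q - 1) (p + 1) rfl rfl]
  change ((n + 1) * p).negOnePow • (φ.v (n + 1) q (by omega)).hom ((P.d n (n + 1)).hom x) =
    (S.d (q - 1) q).hom ((n * p).negOnePow • (φ.v n (q - 1) (by omega)).hom x) +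
      (n + 1).negOnePow • ((n * (p + 1)).negOnePow •
        ((δ p (p + 1) φ).v n q (by omega)).hom x)
  rw [δ_v p (p + 1) rfl φ n q (by omega) (q - 1) (n + 1) rfl rfl]
  set a := (φ.v (n + 1) q (by omega)).hom ((P.d n (n + 1)).hom x) with ha
  set b := (S.d (q - 1) q).hom ((φ.v n (q - 1) (by omega)).hom x) with hb
  have e1 : (S.d (q - 1) q).hom ((n * p).negOnePow • (φ.v n (q - 1) (by omega)).hom x) =
      (n * p).negOnePow • b := by
    rw [hb]
    exact map_zsmul_unit _ _ _
  have e2 : (φ.v n (q - 1) (by omega) ≫ S.d (q - 1) q +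
      (p + 1).negOnePow • P.d n (n + 1) ≫ φ.v (n + 1) q (by omega)).hom x =
      b + (p + 1).negOnePow • a := by
    rfl
  rw [e1, e2]
  have h1 : ((n + 1) * p).negOnePow = (n * p).negOnePow * p.negOnePow := by
    rw [add_mul, one_mul, Int.negOnePow_add]
  have h2 : (n + 1).negOnePow = -n.negOnePow := Int.negOnePow_succ n
  have h3 : (n * (p + 1)).negOnePow = (n * p).negOnePow * n.negOnePow := by
    rw [mul_add, mul_one, Int.negOnePow_add]
  have h4 : (p + 1).negOnePow = -p.negOnePow := Int.negOnePow_succ p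
  have h5 : (-n.negOnePow) * ((n * p).negOnePow * n.negOnePow) = -(n * p).negOnePow := by
    rw [neg_mul, mul_comm ((n * p).negOnePow), ← mul_assoc, Int.units_mul_self, one_mul]
  rw [h1, h2, h3, h4, smul_smul, h5, smul_add, smul_smul, neg_mul_neg, Units.neg_smul,
    ← add_assoc, add_neg_cancel, zero_add]

/-- the evaluation morphism `P ⟶ Hom•(Hom•(P, S), S)` -/
noncomputable def ev : P ⟶ DRing.homCx (DRing.homCx P S) S where
  f n := ModuleCat.ofHom (evLin P S n)
  comm' i j hij := by
    obtain rfl : i + 1 = j := hij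
    ext x
    exact (evLin_d P S i x).symm

lemma ev_f_apply (n : ℤ) (x : P.X n) : ((ev P S).f n).hom x = evCochain P S n x := rfl

end Ev

section Biduality

variable (P : DRing.Cx A) (M : ModuleCat.{u} A)

/-- the evaluation of `ev x` on `toSingleMk f` -/
lemma toSingleLin_ev (n : ℤ) (x : P.X n) (f : P.X n ⟶ M) :
    ((toSingleLin (DRing.homCx P (sgM M)) M n (-n) (by omega) (evCochain P (sgM M) n x)).hom
      ((toSingleLin P M (-n) n (by omega)).symm f) : M) = (n * -n).negOnePow • f.hom x := by
  rw [toSingleLin_apply, toSingleLin_symm_apply]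
  have h0 : n + -n = 0 := by omega
  have hv : (Cochain.toSingleMk (K := P) (X := M) f h0).v n 0 h0 =
      f ≫ (HomologicalComplex.singleObjXSelf (.up ℤ) 0 M).inv := Cochain.toSingleMk_v f h0
  change (HomologicalComplex.singleObjXSelf (.up ℤ) 0 M).hom.hom ((n * -n).negOnePow •
    ((Cochain.toSingleMk (K := P) (X := M) f h0).v n 0 h0).hom x) = _
  refine (map_zsmul_unit (HomologicalComplex.singleObjXSelf (.up ℤ) 0 M).hom.hom _ _).trans ?_
  congr 1
  have h1 := congrArg (fun t : P.X n ⟶ (sgM M).X 0 =>
    (HomologicalComplex.singleObjXSelf (.up ℤ) 0 M).hom.hom (t.hom x)) hv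
  refine h1.trans ?_
  exact congrArg (fun t : M ⟶ M => t.hom (f.hom x))
    (HomologicalComplex.singleObjXSelf (.up ℤ) 0 M).inv_hom_id

/-- the sign squares to one -/
lemma sign_smul_sign {X : Type*} [AddCommGroup X] (ε : ℤˣ) (y : X) : ε • ε • y = y := by
  rw [smul_smul, Int.units_mul_self, one_smul]

variable (A) in
/-- the ring as a module over itself -/
noncomputable abbrev Aone : ModuleCat.{u} A := ModuleCat.of A A

lemma bijective_ev_f (n : ℤ) [Module.Finite A (P.X n)] [Module.Projective A (P.X n)] :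
    Function.Bijective ((ev P (sgM (Aone A))).f n).hom := by
  let M := Aone A
  let H := DRing.homCx P (sgM M)
  let T := toSingleLin H M n (-n) (by omega)
  let U := toSingleLin P M (-n) n (by omega)
  let ε : ℤˣ := (n * -n).negOnePow
  have key : ∀ (x : P.X n) (f : P.X n ⟶ M),
      ((T (evCochain P (sgM M) n x)).hom (U.symm f) : M) = ε • f.hom x :=
    fun x f => toSingleLin_ev P M n x f
  constructor
  · intro x x' hxx
    have hxx' : evCochain P (sgM M) n x = evCochain P (sgM M) n x' := hxx
    apply (Module.evalEquiv A (P.X n)).injective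
    refine LinearMap.ext (fun g => ?_)
    rw [Module.evalEquiv_apply, Module.evalEquiv_apply, Module.Dual.eval_apply,
      Module.Dual.eval_apply]
    have h1 := key x (ModuleCat.ofHom g)
    have h2 := key x' (ModuleCat.ofHom g)
    rw [hxx'] at h1
    have h3 : ε • (g x : A) = ε • (g x' : A) := h1.symm.trans h2
    have h4 := congrArg (fun t : A => ε • t) h3
    simp only [sign_smul_sign] at h4
    exact h4
  · intro (c : Cochain H (sgM M) n)
    let g : H.X (-n) ⟶ M := T c
    let ξ : Module.Dual A (Module.Dual A (P.X n)) :=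
      (g.hom : ↑(H.X (-n)) →ₗ[A] A).comp
        ((U.symm.toLinearMap : (P.X n ⟶ M) →ₗ[A] ↑(H.X (-n))).comp
          (ModuleCat.homLinearEquiv (S := A) (M := P.X n) (N := M)).symm.toLinearMap)
    let x₀ : P.X n := (Module.evalEquiv A (P.X n)).symm ξ
    have hx : ∀ f : Module.Dual A (P.X n), f x₀ = ξ f :=
      fun f => Module.apply_evalEquiv_symm_apply A (P.X n) f ξ
    refine ⟨ε • x₀, ?_⟩
    change evCochain P (sgM M) n (ε • x₀) = c
    apply T.injective
    change T (evCochain P (sgM M) n (ε • x₀)) = g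
    ext φ
    obtain ⟨f, rfl⟩ := U.symm.surjective φ
    have h1 := key (ε • x₀) f
    refine h1.trans ?_
    have h2 : (f.hom (ε • x₀) : A) = ε • ξ f.hom := by
      rw [map_zsmul_unit, hx f.hom]
    rw [h2, sign_smul_sign]
    rfl

/-- `P ≅ P^∨∨` for termwise finite projective `P` -/
lemma isIso_ev (hP : DRing.TermwiseFiniteProjective P) : IsIso (ev P (sgM (Aone A))) := by
  apply isIso_of_bijective
  intro n
  haveI := (hP n).1
  haveI := (hP n).2
  exact bijective_ev_f P n

lemma dual_termwiseFiniteProjective (hP : DRing.TermwiseFiniteProjective P) :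
    DRing.TermwiseFiniteProjective (DRing.homCx P (sgM (Aone A))) := fun n => by
  haveI := (hP (-n)).1
  haveI := (hP (-n)).2
  let e := dualXEquiv P (Aone A) n (-n) (by omega)
  exact ⟨Module.Finite.equiv e.symm, Module.Projective.of_equiv e.symm⟩

lemma dual_vanishesOutside (a b : ℤ) (hP : DRing.VanishesOutside P a b) :
    DRing.VanishesOutside (DRing.homCx P (sgM M)) (-b) (-a) := fun n hn => by
  have hz : IsZero (P.X (-n)) := hP (-n) (by omega)
  haveI : Subsingleton (P.X (-n)) := ModuleCat.subsingleton_of_isZero hz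
  haveI : Subsingleton ((DRing.homCx P (sgM M)).X n) :=
    (dualXEquiv P M n (-n) (by omega)).toEquiv.subsingleton
  exact ModuleCat.isZero_of_subsingleton _

end Biduality

end Groth.Agent.Lib.Helper8.RHomK
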