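import Mathlib
import Groth.Prelude.Def_DRing2
import Groth.Prelude.Def_DRing4
import Groth.Agent.Lib.Helper8.RHomK11
import Groth.Agent.Lib.Helper8.RHomK12
import Groth.Agent.Lib.Helper8.PAmp2

/-!
# Helper8 — RHomK13: the dual of a perfect complex is perfect, and the double dual is the
original complex (S6963).
-/

set_option autoImplicit false

universe u

open CategoryTheory CategoryTheory.Limits DerivedCategory
  CochainComplex CochainComplex.HomComplex

attribute [local instance] HasDerivedCategory.standard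

namespace Groth.Agent.Lib.Helper8.RHomK

variable {A : Type u} [CommRing A]

lemma isKProjective_of_strictlyPerfect (P : DRing.Cx A) (a b : ℤ) (hv : DRing.VanishesOutside P a b)
    (hfp : DRing.TermwiseFiniteProjective P) : P.IsKProjective :=
  PAmp.isKProjective_of_hasProjAmp_data P b (fun i hi => hv i (Or.inr hi)) (fun i => by
    haveI := (hfp i).2
    exact ModuleCat.projective_of_categoryTheory_projective (P.X i))

theorem isPerfect_dual_and_double_dual (K : Dual.D A) (hK : DRing.IsPerfect A K)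
    (E : DRing.Cx A) (eK : DRing.toD E ≅ K) [DRing.HasRHomCx E] :
    DRing.IsPerfect A ((DRing.RHomCx E).obj (Dual.inD A A)) ∧
      ∀ (E' : DRing.Cx A) (_ : DRing.toD E' ≅ (DRing.RHomCx E).obj (Dual.inD A A))
        [DRing.HasRHomCx E'], Nonempty ((DRing.RHomCx E').obj (Dual.inD A A) ≅ K) := by
  obtain ⟨P, a, b, hv, hfp, ⟨eP⟩⟩ := hK
  let S : DRing.Cx A := sgM (Aone A)
  let eS : Dual.inD A A ≅ Q.obj S := (singleFunctorIsoCompQ (ModuleCat.{u} A) 0).app (Aone A)
  haveI hKP : P.IsKProjective := isKProjective_of_strictlyPerfect P a b hv hfp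
  obtain ⟨u, hu, -⟩ := exists_quasiIso_of_iso P E (eP ≪≫ eK.symm)
  haveI := hu
  obtain ⟨e1⟩ := nonempty_rhom_iso_of_model E P u S
  let Pd : DRing.Cx A := DRing.homCx P S
  have hvd : DRing.VanishesOutside Pd (-b) (-a) := dual_vanishesOutside P _ a b hv
  have hfpd : DRing.TermwiseFiniteProjective Pd := dual_termwiseFiniteProjective P hfp
  let e2 : (DRing.RHomCx E).obj (Dual.inD A A) ≅ Q.obj Pd := (DRing.RHomCx E).mapIso eS ≪≫ e1
  refine ⟨⟨Pd, -b, -a, hvd, hfpd, ⟨e2.symm⟩⟩, ?_⟩
  intro E' eK' _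
  haveI hKPd : Pd.IsKProjective := isKProjective_of_strictlyPerfect Pd (-b) (-a) hvd hfpd
  obtain ⟨u', hu', -⟩ := exists_quasiIso_of_iso Pd E' (e2.symm ≪≫ eK'.symm)
  haveI := hu'
  obtain ⟨e3⟩ := nonempty_rhom_iso_of_model E' Pd u' S
  haveI := isIso_ev P hfp
  let e4 : P ≅ DRing.homCx Pd S := asIso (ev P S)
  exact ⟨(DRing.RHomCx E').mapIso eS ≪≫ e3 ≪≫ (Q.mapIso e4).symm ≪≫ eP⟩

end Groth.Agent.Lib.Helper8.RHomK
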