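import Mathlib
import Groth.Agent.Lib.Helper8.LocDual5
import Groth.Agent.Lib.Helper8.DCmpI

/-! # Helper8 — LocDual7: the `m`-adic completion of `Ext^{-i}(M, ω)` is `Hom_A(H^i_m(M), E)` (S11176), from
S1818 (`RHom(K, ω)^ ≅ RHom(RΓ_m K, E[0])`), `nonempty_HD_RHomCx_equiv` and S7060 (`H^n(K^) = H^n(K)^`). -/

set_option autoImplicit false

universe u

open CategoryTheory CategoryTheory.Limits CategoryTheory.Pretriangulated Opposite DerivedCategory

attribute [local instance] HasDerivedCategory.standard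

namespace Groth.Agent.Lib.Helper8.Bidual

open Groth.Agent.Lib.Helper8 Groth.Agent.Lib.Helper8.RGam Groth.Agent.Lib.Helper8.RHomK

section Local

variable {A : Type u} [CommRing A] [IsLocalRing A] [IsNoetherianRing A]

/-- **S11176**: the `m`-adic completion of `Ext^{-i}(M, ω)` is the Matlis dual of `H^i_m(M)` -/
theorem nonempty_adicCompletion_ext_equiv_dual_localCohomology (ω : Dual.D A)
    (hω : Dual.IsDualizing A ω)
    (hn : Dual.IsNormalized A ω) (E : Type u) [AddCommGroup E] [Module A E]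
    (f : IsLocalRing.ResidueField A →ₗ[A] E) (hf : InjHull.IsInjectiveHull f)
    (M : Type u) [AddCommGroup M] [Module A M] [Module.Finite A M] (i : ℕ) :
    Nonempty (AdicCompletion (IsLocalRing.maximalIdeal A) (Dual.inD A M ⟶ ω⟦(-(i : ℤ))⟧) ≃ₗ[A]
      (LocCoh.H (IsLocalRing.maximalIdeal A) i M →ₗ[A] E)) := by
  haveI : DRing.HasRgammaI (IsLocalRing.maximalIdeal A) := hasRgammaI _
  have hm : (IsLocalRing.maximalIdeal A).FG :=
    (isNoetherianRing_iff_ideal_fg A).1 inferInstance _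
  haveI : DRing.HasDerivedCompletion (IsLocalRing.maximalIdeal A) :=
    DCmpB.hasDerivedCompletion_of_fg _ hm
  obtain ⟨PK, hPK, -, ⟨eK⟩⟩ := Groth.Agent.Lib.Helper16.KPR.exists_kprojective_module
    (Dual.inD A M)
  obtain ⟨PG, hPG, -, ⟨eG⟩⟩ := Groth.Agent.Lib.Helper16.KPR.exists_kprojective_module
    ((DRing.RgammaI (IsLocalRing.maximalIdeal A)).obj (DRing.toD PK))
  haveI := hPK
  haveI := hPG
  haveI := hasRHomCx_of_isKProjective PK
  haveI := hasRHomCx_of_isKProjective PG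
  obtain ⟨s⟩ := nonempty_derivedCompletion_rhom_iso ω hω hn E f hf PK PG ⟨eG⟩
  set X : Dual.D A := (DRing.RHomCx PK).obj ω with hX
  have hXe : ∀ n : ℤ, Nonempty (Dual.HD A X n ≃ₗ[A] (Dual.inD A M ⟶ ω⟦n⟧)) := fun n => by
    obtain ⟨c⟩ := nonempty_HD_RHomCx_equiv PK ω n
    exact ⟨c.trans (EFB.precompEquivLin eK.symm _)⟩
  have hfin : ∀ n : ℤ, Module.Finite A (Dual.HD A X n) := fun n => by
    obtain ⟨c⟩ := hXe n
    haveI := finite_hom_inD_of_isDualizing ω hω M n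
    exact Module.Finite.equiv c.symm
  obtain ⟨e7, -⟩ := DCmpI.homology_derivedCompletion_equiv (IsLocalRing.maximalIdeal A) X hfin
    (-(i : ℤ))
  obtain ⟨c0⟩ := hXe (-(i : ℤ))
  let a1 : AdicCompletion (IsLocalRing.maximalIdeal A) (Dual.inD A M ⟶ ω⟦(-(i : ℤ))⟧) ≃ₗ[A]
      AdicCompletion (IsLocalRing.maximalIdeal A) (Dual.HD A X (-(i : ℤ))) :=
    ((AdicCompletion.congr (IsLocalRing.maximalIdeal A) c0).restrictScalars A).symm
  -- the other side
  obtain ⟨c1⟩ := nonempty_HD_RHomCx_equiv PG (Dual.inD A E) (-(i : ℤ))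
  let R : Dual.D A := Q.obj PG
  let z : ((Dual.inD A E)⟦(-(i : ℤ))⟧)⟦(i : ℤ)⟧ ≅ Dual.inD A E :=
    (shiftFunctorCompIsoId (Dual.D A) (-(i : ℤ)) (i : ℤ) (by omega)).app (Dual.inD A E)
  let c2 : (R ⟶ (Dual.inD A E)⟦(-(i : ℤ))⟧) ≃ₗ[A] (R⟦(i : ℤ)⟧ ⟶ Dual.inD A E) :=
    (EFB.shiftEquivLin (i : ℤ) R ((Dual.inD A E)⟦(-(i : ℤ))⟧)).trans
      (postcompEquivLin z (R⟦(i : ℤ)⟧))
  haveI : Module.Injective A E := hf.isInjective
  let c3 := homToInjEquiv (R⟦(i : ℤ)⟧) E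
  let c4 : Dual.HD A (R⟦(i : ℤ)⟧) 0 ≃ₗ[A] Dual.HD A R (i : ℤ) :=
    (RAdj.HDShiftIso R (i : ℤ) 0).toLinearEquiv.trans (HDCongr R (by omega))
  let c5 : Dual.HD A R (i : ℤ) ≃ₗ[A]
      Dual.HD A ((DRing.RgammaI (IsLocalRing.maximalIdeal A)).obj (Dual.inD A M)) (i : ℤ) :=
    ((homologyFunctor (ModuleCat.{u} A) (i : ℤ)).mapIso
      (eG ≪≫ (DRing.RgammaI (IsLocalRing.maximalIdeal A)).mapIso eK)).toLinearEquiv
  obtain ⟨b1⟩ := nonempty_localCohomology_equiv_HDI (IsLocalRing.maximalIdeal A) M i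
  obtain ⟨b2⟩ := nonempty_HD_RgammaI_equiv_HDI (IsLocalRing.maximalIdeal A) (i : ℤ)
    (Dual.inD A M)
  let c6 : Dual.HD A R (i : ℤ) ≃ₗ[A] LocCoh.H (IsLocalRing.maximalIdeal A) i M :=
    c5.trans (b2.trans b1.symm)
  let s1 := ((homologyFunctor (ModuleCat.{u} A) (-(i : ℤ))).mapIso s).toLinearEquiv
  exact ⟨a1.trans (e7.symm.trans (s1.trans (c1.trans (c2.trans (c3.trans
    (LinearEquiv.congrLeft E A (c4.trans c6)))))))⟩

end Local

end Groth.Agent.Lib.Helper8.Bidual
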