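import Mathlib
import Groth.Agent.Lib.Helper8.LocDual7
import Groth.Agent.Lib.Helper8.Stupid2
import Groth.Agent.Lib.Helper8.LocDual6
import Groth.Agent.Lib.Helper8.Dim2

/-! # Helper8 — LocDual8: local duality for complexes and vanishing of Hom into a dualizing complex

`nonempty_adicCompletion_hom_equiv_dual_HD_RgammaI` : for `M` in `D(A)` with all `Hom(M, ω[n])`
finite, `(Hom(M, ω[j]))^ ≃ Hom_A(H^{-j}(RΓ_m M), E)`.
`hom_dualizing_vanishing_iff_RgammaI_vanishing` : S19135.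
-/
set_option autoImplicit false

universe u

open CategoryTheory CategoryTheory.Limits CategoryTheory.Pretriangulated Opposite DerivedCategory

attribute [local instance] HasDerivedCategory.standard

namespace Groth.Agent.Lib.Helper8.Bidual

open Groth.Agent.Lib.Helper8 Groth.Agent.Lib.Helper8.RGam Groth.Agent.Lib.Helper8.RHomK

section Local

variable {A : Type u} [CommRing A] [IsLocalRing A] [IsNoetherianRing A]

/-- complex version of S11176: for `M ∈ D(A)` with all `Hom(M, ω[n])` finite, the `m`-adic completion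
of `Hom(M, ω[j])` is the Matlis dual of `H^{-j}(RΓ_m M)` -/
theorem nonempty_adicCompletion_hom_equiv_dual_HD_RgammaI (ω : Dual.D A)
    (hω : Dual.IsDualizing A ω)
    (hn : Dual.IsNormalized A ω) (E : Type u) [AddCommGroup E] [Module A E]
    (f : IsLocalRing.ResidueField A →ₗ[A] E) (hf : InjHull.IsInjectiveHull f)
    [DRing.HasRgammaI (IsLocalRing.maximalIdeal A)]
    (M : Dual.D A) (hfinM : ∀ n : ℤ, Module.Finite A (M ⟶ ω⟦n⟧)) (j : ℤ) :
    Nonempty (AdicCompletion (IsLocalRing.maximalIdeal A) (M ⟶ ω⟦j⟧) ≃ₗ[A]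
      (Dual.HD A ((DRing.RgammaI (IsLocalRing.maximalIdeal A)).obj M) (-j) →ₗ[A] E)) := by
  have hm : (IsLocalRing.maximalIdeal A).FG :=
    (isNoetherianRing_iff_ideal_fg A).1 inferInstance _
  haveI : DRing.HasDerivedCompletion (IsLocalRing.maximalIdeal A) :=
    DCmpB.hasDerivedCompletion_of_fg _ hm
  obtain ⟨PK, hPK, -, ⟨eK⟩⟩ := Groth.Agent.Lib.Helper16.KPR.exists_kprojective_module M
  obtain ⟨PG, hPG, -, ⟨eG⟩⟩ := Groth.Agent.Lib.Helper16.KPR.exists_kprojective_module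
    ((DRing.RgammaI (IsLocalRing.maximalIdeal A)).obj (DRing.toD PK))
  haveI := hPK
  haveI := hPG
  haveI := hasRHomCx_of_isKProjective PK
  haveI := hasRHomCx_of_isKProjective PG
  obtain ⟨s⟩ := nonempty_derivedCompletion_rhom_iso ω hω hn E f hf PK PG ⟨eG⟩
  set X : Dual.D A := (DRing.RHomCx PK).obj ω with hX
  have hXe : ∀ n : ℤ, Nonempty (Dual.HD A X n ≃ₗ[A] (M ⟶ ω⟦n⟧)) := fun n => by
    obtain ⟨c⟩ := nonempty_HD_RHomCx_equiv PK ω n
    exact ⟨c.trans (EFB.precompEquivLin eK.symm _)⟩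
  have hfin : ∀ n : ℤ, Module.Finite A (Dual.HD A X n) := fun n => by
    obtain ⟨c⟩ := hXe n
    haveI := hfinM n
    exact Module.Finite.equiv c.symm
  obtain ⟨e7, -⟩ := DCmpI.homology_derivedCompletion_equiv (IsLocalRing.maximalIdeal A) X hfin j
  obtain ⟨c0⟩ := hXe j
  let a1 : AdicCompletion (IsLocalRing.maximalIdeal A) (M ⟶ ω⟦j⟧) ≃ₗ[A]
      AdicCompletion (IsLocalRing.maximalIdeal A) (Dual.HD A X j) :=
    ((AdicCompletion.congr (IsLocalRing.maximalIdeal A) c0).restrictScalars A).symm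
  -- the other side
  obtain ⟨c1⟩ := nonempty_HD_RHomCx_equiv PG (Dual.inD A E) j
  let R : Dual.D A := Q.obj PG
  let z : ((Dual.inD A E)⟦j⟧)⟦-j⟧ ≅ Dual.inD A E :=
    (shiftFunctorCompIsoId (Dual.D A) j (-j) (by omega)).app (Dual.inD A E)
  let c2 : (R ⟶ (Dual.inD A E)⟦j⟧) ≃ₗ[A] (R⟦-j⟧ ⟶ Dual.inD A E) :=
    (EFB.shiftEquivLin (-j) R ((Dual.inD A E)⟦j⟧)).trans
      (postcompEquivLin z (R⟦-j⟧))
  haveI : Module.Injective A E := hf.isInjective
  let c3 := homToInjEquiv (R⟦-j⟧) E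
  let c4 : Dual.HD A (R⟦-j⟧) 0 ≃ₗ[A] Dual.HD A R (-j) :=
    (RAdj.HDShiftIso R (-j) 0).toLinearEquiv.trans (HDCongr R (by omega))
  let c5 : Dual.HD A R (-j) ≃ₗ[A]
      Dual.HD A ((DRing.RgammaI (IsLocalRing.maximalIdeal A)).obj M) (-j) :=
    ((homologyFunctor (ModuleCat.{u} A) (-j)).mapIso
      (eG ≪≫ (DRing.RgammaI (IsLocalRing.maximalIdeal A)).mapIso eK)).toLinearEquiv
  let s1 := ((homologyFunctor (ModuleCat.{u} A) j).mapIso s).toLinearEquiv
  exact ⟨a1.trans (e7.symm.trans (s1.trans (c1.trans (c2.trans (c3.trans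
    (LinearEquiv.congrLeft E A (c4.trans c5)))))))⟩

end Local

section Perv

variable {A : Type u} [CommRing A] [IsLocalRing A] [IsNoetherianRing A]

lemma subsingleton_of_subsingleton_adicCompletion (I : Ideal A) (hI : I ≤ IsLocalRing.maximalIdeal A)
    (X : Type*) [AddCommGroup X] [Module A X] [Module.Finite A X]
    (h : Subsingleton (AdicCompletion I X)) : Subsingleton X := by
  haveI : IsHausdorff I X := IsHausdorff.of_le_jacobson I X
    (hI.trans (IsLocalRing.maximalIdeal_le_jacobson ⊥))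
  refine ⟨fun x y => ?_⟩
  apply AdicCompletion.of_injective (I := I) (M := X)
  exact Subsingleton.elim _ _

/-- per degree: `Hom(M, ω[j]) = 0 ↔ H^{-j}(RΓ_m M) = 0` -/
theorem subsingleton_hom_iff_subsingleton_HD_RgammaI (ω : Dual.D A) (hω : Dual.IsDualizing A ω)
    (hn : Dual.IsNormalized A ω) [DRing.HasRgammaI (IsLocalRing.maximalIdeal A)]
    (M : Dual.D A) (hfinM : ∀ n : ℤ, Module.Finite A (M ⟶ ω⟦n⟧)) (j : ℤ) :
    Subsingleton (M ⟶ ω⟦j⟧) ↔
      Subsingleton (Dual.HD A ((DRing.RgammaI (IsLocalRing.maximalIdeal A)).obj M) (-j)) := by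
  obtain ⟨E, _, _, f, hf⟩ := Groth.Agent.S0299.result A (IsLocalRing.ResidueField A)
  obtain ⟨c⟩ := nonempty_adicCompletion_hom_equiv_dual_HD_RgammaI ω hω hn E f hf M hfinM j
  haveI := hfinM j
  constructor
  · intro h
    haveI : Subsingleton (AdicCompletion (IsLocalRing.maximalIdeal A) (M ⟶ ω⟦j⟧)) := by
      refine ⟨fun x y => ?_⟩
      apply AdicCompletion.ext
      intro n
      exact Subsingleton.elim _ _
    haveI : Subsingleton
        (Dual.HD A ((DRing.RgammaI (IsLocalRing.maximalIdeal A)).obj M) (-j) →ₗ[A] E) :=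
      c.symm.toEquiv.subsingleton
    refine ⟨fun x y => ?_⟩
    by_contra hxy
    obtain ⟨φ, hφ⟩ := exists_linearMap_apply_ne_zero' E f hf (sub_ne_zero.2 hxy)
    exact hφ (by rw [Subsingleton.elim φ 0]; rfl)
  · intro h
    haveI : Subsingleton
        (Dual.HD A ((DRing.RgammaI (IsLocalRing.maximalIdeal A)).obj M) (-j) →ₗ[A] E) :=
      ⟨fun φ ψ => LinearMap.ext (fun x => by rw [Subsingleton.elim x 0, map_zero, map_zero])⟩
    haveI : Subsingleton (AdicCompletion (IsLocalRing.maximalIdeal A) (M ⟶ ω⟦j⟧)) :=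
      c.toEquiv.subsingleton
    exact subsingleton_of_subsingleton_adicCompletion (IsLocalRing.maximalIdeal A) le_rfl
      (M ⟶ ω⟦j⟧) inferInstance

/-- S19135 -/
theorem hom_dualizing_vanishing_iff_RgammaI_vanishing (ω : Dual.D A) (hω : Dual.IsDualizing A ω)
    (hn : Dual.IsNormalized A ω) [DRing.HasRgammaI (IsLocalRing.maximalIdeal A)] (M : Dual.D A)
    (hfin : ∀ i : ℤ, Module.Finite A (Dual.HD A M i))
    (hbd : ∃ a b : ℤ, ∀ i : ℤ, (i < a ∨ b < i) → Subsingleton (Dual.HD A M i)) :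
    ((∀ i : ℤ, i < 0 → Subsingleton (M ⟶ ω⟦i⟧)) ↔
      (∀ i : ℤ, 0 < i → Subsingleton
        (Dual.HD A ((DRing.RgammaI (IsLocalRing.maximalIdeal A)).obj M) i))) ∧
    ((∀ i : ℤ, 0 < i → Subsingleton (M ⟶ ω⟦i⟧)) ↔
      (∀ i : ℤ, i < 0 → Subsingleton
        (Dual.HD A ((DRing.RgammaI (IsLocalRing.maximalIdeal A)).obj M) i))) := by
  obtain ⟨a, b, hab⟩ := hbd
  have hfinM : ∀ n : ℤ, Module.Finite A (M ⟶ ω⟦n⟧) := fun n =>
    EFB.finite_hom_shift M ω ⟨b, fun i hi => hab i (Or.inr hi)⟩ hfin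
      (exists_isGE_of_isDualizing ω hω) hω.finite_cohomology n
  have key := subsingleton_hom_iff_subsingleton_HD_RgammaI ω hω hn M hfinM
  constructor
  · constructor
    · intro h i hi
      have := (key (-i)).1 (h (-i) (by omega))
      rwa [neg_neg] at this
    · intro h i hi
      exact (key i).2 (h (-i) (by omega))
  · constructor
    · intro h i hi
      have := (key (-i)).1 (h (-i) (by omega))
      rwa [neg_neg] at this
    · intro h i hi
      exact (key i).2 (h (-i) (by omega))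

end Perv

end Groth.Agent.Lib.Helper8.Bidual
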