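import Mathlib
import Groth.Prelude.Def_DDual2
import Groth.Agent.Lib.Helper8.DGen3
import Groth.Agent.Lib.Helper16.RestrictD3

/-!
# Helper8 — LocGen: restriction of scalars `D(B) ⥤ D(A)` preserves coproducts; consequences of
the generation of `D(B)` by `B[0]`
-/

set_option autoImplicit false

universe u

open CategoryTheory CategoryTheory.Limits CategoryTheory.Pretriangulated DerivedCategory

attribute [local instance] HasDerivedCategory.standard

namespace Groth.Agent.Lib.Helper8.LocGen

open Groth.Agent.Lib.Helper8.DSingleHom Groth.Agent.Lib.Helper8.DCoprod3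
  Groth.Agent.Lib.Helper8.DGen

variable {A B : Type u} [CommRing A] [CommRing B] (φ : A →+* B)

/-- restriction of scalars on complexes -/
noncomputable abbrev resCx : DRing.Cx B ⥤ DRing.Cx A :=
  (ModuleCat.restrictScalars.{u} φ).mapHomologicalComplex (ComplexShape.up ℤ)

instance preservesCoprod_resCx (J : Type u) :
    PreservesColimitsOfShape (Discrete J) (resCx φ) :=
  HomologicalComplex.preservesColimitsOfShape_of_eval _ (fun i => by
    have e : resCx φ ⋙ HomologicalComplex.eval _ _ i ≅
        HomologicalComplex.eval _ _ i ⋙ ModuleCat.restrictScalars.{u} φ :=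
      NatIso.ofComponents (fun K => Iso.refl _) (fun f => by
        exact (Category.comp_id _).trans (Category.id_comp _).symm)
    exact preservesColimitsOfShape_of_natIso e.symm)

lemma preservesCoprod_restrictD (J : Type u) :
    PreservesColimitsOfShape (Discrete J) (DRing.restrictD φ) := by
  constructor
  intro F
  let P : J → DRing.Cx B := fun n => Q.objPreimage (F.obj ⟨n⟩)
  let e : Discrete.functor (fun n => Q.obj (P n)) ≅ F :=
    Discrete.natIso (fun ⟨n⟩ => Q.objObjPreimageIso _)
  suffices PreservesColimit (Discrete.functor (fun n => Q.obj (P n))) (DRing.restrictD φ) from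
    preservesColimit_of_iso_diagram _ e
  apply preservesColimit_of_preserves_colimit_cocone (isColimitCofanQ P)
  let G := resCx φ
  let ν : Q ⋙ DRing.restrictD φ ≅ G ⋙ Q :=
    (ModuleCat.restrictScalars.{u} φ).mapDerivedCategoryFactors
  let c₁ : Cofan (fun n => Q.obj (G.obj (P n))) :=
    Cofan.mk (Q.obj (G.obj (∐ P))) (fun n => Q.map (G.map (Sigma.ι P n)))
  have hc₁ : IsColimit c₁ := by
    refine IsColimit.ofIsoColimit (isColimitCofanQ (fun n => G.obj (P n)))
      (Cofan.ext (Q.mapIso (PreservesCoproduct.iso G P).symm) (fun n => ?_))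
    change Q.map (Sigma.ι (fun n => G.obj (P n)) n) ≫ Q.map (PreservesCoproduct.iso G P).inv =
      Q.map (G.map (Sigma.ι P n))
    rw [← Q.map_comp]
    congr 1
    simp [PreservesCoproduct.iso]
  let α : (Discrete.functor (fun n => Q.obj (P n)) ⋙ DRing.restrictD φ) ≅
      Discrete.functor (fun n => Q.obj (G.obj (P n))) :=
    Discrete.natIso (fun ⟨n⟩ => ν.app (P n))
  refine IsColimit.ofIsoColimit ((IsColimit.precomposeHomEquiv α c₁).symm hc₁)
    (Cocone.ext (ν.app (∐ P)).symm ?_)
  rintro ⟨n⟩
  change (ν.hom.app (P n) ≫ Q.map (G.map (Sigma.ι P n))) ≫ ν.inv.app (∐ P) =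
    (DRing.restrictD φ).map (Q.map (Sigma.ι P n))
  have := ν.hom.naturality (Sigma.ι P n)
  dsimp at this
  rw [← this, Category.assoc, Iso.hom_inv_id_app]
  exact Category.comp_id _

section Orth

variable (K : Dual.D A)

/-- the class of objects of `D(B)` whose restrictions (and those of their shifts) have no nonzero
maps to `K` -/
def orth : ObjectProperty (Dual.D B) :=
  fun E => ∀ (n : ℤ) (g : (DRing.restrictD φ).obj (E⟦n⟧) ⟶ K), g = 0

lemma orth_of_retract {X Y : Dual.D B} (i : X ⟶ Y) (r : Y ⟶ X) (hir : i ≫ r = 𝟙 X)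
    (h : orth φ K Y) : orth φ K X := by
  intro n g
  have h1 : g = (DRing.restrictD φ).map (i⟦n⟧') ≫ (DRing.restrictD φ).map (r⟦n⟧') ≫ g := by
    rw [← Category.assoc, ← Functor.map_comp, ← Functor.map_comp, hir,
      CategoryTheory.Functor.map_id, CategoryTheory.Functor.map_id, Category.id_comp]
  have h2 := h n ((DRing.restrictD φ).map (r⟦n⟧') ≫ g)
  rw [h1, h2, comp_zero]

lemma isLocalizing_orth
    (hU : ∀ (n : ℤ) (g : (DRing.restrictD φ).obj ((Q.obj (sg (ModuleCat.of B B)))⟦n⟧) ⟶ K),
      g = 0) : IsLocalizing (orth φ K) where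
  iso e h := orth_of_retract φ K e.inv e.hom e.inv_hom_id h
  unit := hU
  shift E k h n g := by
    let e := (shiftFunctorAdd' (Dual.D B) k n (k + n) rfl).app E
    have h1 : g = (DRing.restrictD φ).map e.inv ≫ (DRing.restrictD φ).map e.hom ≫ g := by
      rw [← Category.assoc, ← Functor.map_comp, Iso.inv_hom_id, CategoryTheory.Functor.map_id,
        Category.id_comp]
    have h2 := h (k + n) ((DRing.restrictD φ).map e.hom ≫ g)
    rw [h1, h2, comp_zero]
  ext T hT h₁ h₃ n g := by
    have hTn := (DRing.restrictD φ).map_distinguished _ (Triangle.shift_distinguished _ hT n)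
    have h1 : ((DRing.restrictD φ).mapTriangle.obj ((Triangle.shiftFunctor _ n).obj T)).mor₁ ≫
        g = 0 := h₁ n _
    obtain ⟨g', hg'⟩ := Triangle.yoneda_exact₂ _ hTn g h1
    have h2 : g' = 0 := h₃ n g'
    exact hg'.trans ((congrArg (fun t => _ ≫ t) h2).trans comp_zero)
  retract i r hir h := orth_of_retract φ K i r hir h
  coprod J X c hc h n g := by
    let Fn := shiftFunctor (Dual.D B) n ⋙ DRing.restrictD φ
    haveI : PreservesColimitsOfShape (Discrete J) (DRing.restrictD φ) :=
      preservesCoprod_restrictD φ J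
    haveI : PreservesColimitsOfShape (Discrete J) Fn := by
      dsimp only [Fn]
      infer_instance
    have hc' : IsColimit (Cofan.mk (Fn.obj c.pt) (fun j => Fn.map (c.inj j))) :=
      (isColimitMapCoconeCofanMkEquiv Fn X c.inj) (isColimitOfPreserves Fn
        (IsColimit.ofIsoColimit hc (Cofan.ext (Iso.refl _) (fun j => by simp [Cofan.inj]))))
    refine Cofan.IsColimit.hom_ext hc' _ _ (fun j => ?_)
    change Fn.map (c.inj j) ≫ g = Fn.map (c.inj j) ≫ 0
    rw [comp_zero]
    exact h j n _

end Orth

section Main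

variable {A : Type u} [CommRing A] {B : Type u} [CommRing B] [Algebra A B]

/-- the restriction of `B[0]` is `B[0]` -/
noncomputable def restrictUnitIso :
    (DRing.restrictD (algebraMap A B)).obj (Q.obj (sg (ModuleCat.of B B))) ≅ Dual.inD A B :=
  Groth.Agent.Lib.Helper16.RestrictD.restrictQIso (algebraMap A B) (sg (ModuleCat.of B B)) ≪≫
    Q.mapIso ((HomologicalComplex.singleMapHomologicalComplex
      (ModuleCat.restrictScalars.{u} (algebraMap A B)) (ComplexShape.up ℤ) 0).app
        (ModuleCat.of B B)) ≪≫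
    Q.mapIso ((HomologicalComplex.single (ModuleCat.{u} A) (ComplexShape.up ℤ) 0).mapIso
      (Groth.Agent.Lib.Helper16.RestrictD.ofIsoRestrict (A := A) (B := B)).symm) ≪≫
    ((singleFunctorIsoCompQ (ModuleCat.{u} A) 0).app (ModuleCat.of A B)).symm

/-- the restriction of `B[n]` is `B[n]` -/
noncomputable def restrictUnitShiftIso (n : ℤ) :
    (DRing.restrictD (algebraMap A B)).obj ((Q.obj (sg (ModuleCat.of B B)))⟦n⟧) ≅
      (Dual.inD A B)⟦n⟧ :=
  ((DRing.restrictD (algebraMap A B)).commShiftIso n).app _ ≪≫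
    (shiftFunctor (Dual.D A) n).mapIso restrictUnitIso

lemma subsingleton_of_iso {X Y K : Dual.D A} (e : X ≅ Y) (h : Subsingleton (X ⟶ K)) :
    Subsingleton (Y ⟶ K) :=
  ⟨fun g g' => by
    have := h.elim (e.hom ≫ g) (e.hom ≫ g')
    exact (cancel_epi e.hom).1 this⟩

theorem main (K : Dual.D A) :
    (∀ n : ℤ, Subsingleton (Dual.inD A B ⟶ K⟦n⟧)) ↔
      ∀ E : Dual.D B, Subsingleton ((DRing.restrictD (algebraMap A B)).obj E ⟶ K) := by
  constructor
  · intro h
    have hU : ∀ (n : ℤ) (g : (DRing.restrictD (algebraMap A B)).obj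
        ((Q.obj (sg (ModuleCat.of B B)))⟦n⟧) ⟶ K), g = 0 := by
      intro n g
      have h1 : Subsingleton ((Dual.inD A B)⟦n⟧ ⟶ K) :=
        ((shiftEquiv' (Dual.D A) n (-n) (by omega)).toAdjunction.homEquiv
          (Dual.inD A B) K).subsingleton_congr.2 (h (-n))
      have h2 := subsingleton_of_iso (restrictUnitShiftIso (A := A) (B := B) n).symm h1
      exact h2.elim _ _
    have hloc := isLocalizing_orth (algebraMap A B) K hU
    intro E
    refine ⟨fun g g' => ?_⟩
    let e0 := (shiftFunctorZero (Dual.D B) ℤ).app E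
    have key : ∀ g : (DRing.restrictD (algebraMap A B)).obj E ⟶ K, g = 0 := by
      intro g
      have h1 : g = (DRing.restrictD (algebraMap A B)).map e0.inv ≫
          (DRing.restrictD (algebraMap A B)).map e0.hom ≫ g := by
        rw [← Category.assoc, ← Functor.map_comp, Iso.inv_hom_id, CategoryTheory.Functor.map_id,
          Category.id_comp]
      have h2 := hloc.all E 0 ((DRing.restrictD (algebraMap A B)).map e0.hom ≫ g)
      rw [h1, h2, comp_zero]
    rw [key g, key g']
  · intro h n
    have h1 := h ((Q.obj (sg (ModuleCat.of B B)))⟦-n⟧)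
    have h2 : Subsingleton ((Dual.inD A B)⟦-n⟧ ⟶ K) :=
      subsingleton_of_iso (restrictUnitShiftIso (A := A) (B := B) (-n)) h1
    exact ((shiftEquiv' (Dual.D A) (-n) n (by omega)).toAdjunction.homEquiv
      (Dual.inD A B) K).subsingleton_congr.1 h2

end Main

end Groth.Agent.Lib.Helper8.LocGen
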