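import Mathlib

/-!
# Helper8: objects killed by a localization of a (pre)triangulated category (S6603, S6604, S6621)
-/

universe v u v' u'

open CategoryTheory CategoryTheory.Limits CategoryTheory.Pretriangulated ZeroObject

namespace Groth.Agent.Lib.Helper8.LocZero

section Retract

variable {E : Type u'} [Category.{v'} E]

lemma isZero_of_retract {X Y : E} (i : X ⟶ Y) (r : Y ⟶ X) (h : i ≫ r = 𝟙 X) (hY : IsZero Y) :
    IsZero X := by
  refine ⟨fun T => ⟨⟨⟨i ≫ hY.to_ T⟩, fun f => ?_⟩⟩, fun T => ⟨⟨⟨hY.from_ T ≫ r⟩, fun f => ?_⟩⟩⟩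
  · calc f = (i ≫ r) ≫ f := by rw [h, Category.id_comp]
      _ = i ≫ hY.to_ T := by rw [Category.assoc, hY.eq_of_src (r ≫ f) (hY.to_ T)]
  · calc f = f ≫ i ≫ r := by rw [h, Category.comp_id]
      _ = hY.from_ T ≫ r := by rw [← Category.assoc, hY.eq_of_tgt (f ≫ i) (hY.from_ T)]

end Retract

section Transfer

variable {D : Type u} [Category.{v} D] (S : MorphismProperty D)
  {E : Type u'} [Category.{v'} E] (Q : D ⥤ E) [Q.IsLocalization S]

lemma isZero_iff_Q (Z : D) : IsZero (Q.obj Z) ↔ IsZero (S.Q.obj Z) := by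
  let e := Localization.uniq S.Q Q S
  let iso : S.Q ⋙ e.functor ≅ Q := Localization.compUniqFunctor S.Q Q S
  constructor
  · intro h
    have h1 : IsZero (e.functor.obj (S.Q.obj Z)) := h.of_iso (iso.app Z)
    exact IsZero.of_full_of_faithful_of_isZero e.functor _ h1
  · intro h
    have h1 : IsZero (e.inverse.obj (e.functor.obj (S.Q.obj Z))) :=
      h.of_iso (e.unitIso.symm.app _)
    have h2 : IsZero (e.functor.obj (S.Q.obj Z)) :=
      IsZero.of_full_of_faithful_of_isZero e.inverse _ h1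
    exact h2.of_iso (iso.symm.app Z)

lemma isIso_iff_Q {X Y : D} (f : X ⟶ Y) : IsIso (Q.map f) ↔ IsIso (S.Q.map f) := by
  let e := Localization.uniq S.Q Q S
  let iso : S.Q ⋙ e.functor ≅ Q := Localization.compUniqFunctor S.Q Q S
  rw [← NatIso.isIso_map_iff iso f]
  exact isIso_iff_of_reflects_iso (S.Q.map f) e.functor

end Transfer

section Preadd

variable {D : Type u} [Category.{v} D] [Preadditive D] [HasZeroObject D]
  (S : MorphismProperty D) [S.HasLeftCalculusOfFractions]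
  {E : Type u'} [Category.{v'} E] (Q : D ⥤ E) [Q.IsLocalization S]

include S

lemma isZero_obj_zero : IsZero (Q.obj (0 : D)) :=
  (isZero_iff_Q S Q 0).2 (S.Q.map_isZero (isZero_zero D))

lemma isZero_of_map_id_eq (Z : D) (h : Q.map (𝟙 Z) = Q.map (0 : Z ⟶ Z)) : IsZero (Q.obj Z) := by
  have e : (0 : Z ⟶ Z) = (0 : Z ⟶ (0 : D)) ≫ (0 : (0 : D) ⟶ Z) := by simp
  refine isZero_of_retract (Q.map (0 : Z ⟶ (0 : D))) (Q.map (0 : (0 : D) ⟶ Z)) ?_
    (isZero_obj_zero S Q)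
  rw [← Q.map_comp, ← e, ← h, Q.map_id]

theorem isZero_iff_exists_zero_to (Z : D) : IsZero (Q.obj Z) ↔ ∃ Z' : D, S (0 : Z ⟶ Z') := by
  constructor
  · intro h
    obtain ⟨Z', s, hs, fac⟩ := (MorphismProperty.map_eq_iff_postcomp Q S (𝟙 Z) 0).1
      (h.eq_of_src _ _)
    rw [Category.id_comp, zero_comp] at fac
    exact ⟨Z', fac ▸ hs⟩
  · rintro ⟨Z', hs⟩
    exact isZero_of_map_id_eq S Q Z
      ((MorphismProperty.map_eq_iff_postcomp Q S (𝟙 Z) 0).2 ⟨Z', 0, hs, by simp⟩)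

theorem isZero_iff_exists_zero_from [S.HasRightCalculusOfFractions] (Z : D) :
    IsZero (Q.obj Z) ↔ ∃ Z' : D, S (0 : Z' ⟶ Z) := by
  constructor
  · intro h
    obtain ⟨Z', s, hs, fac⟩ := (MorphismProperty.map_eq_iff_precomp Q S (𝟙 Z) 0).1
      (h.eq_of_src _ _)
    rw [Category.comp_id, comp_zero] at fac
    exact ⟨Z', fac ▸ hs⟩
  · rintro ⟨Z', hs⟩
    exact isZero_of_map_id_eq S Q Z
      ((MorphismProperty.map_eq_iff_precomp Q S (𝟙 Z) 0).2 ⟨Z', 0, hs, by simp⟩)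

end Preadd

section Pretri

variable {D : Type u} [Category.{v} D] [Preadditive D] [HasZeroObject D] [HasShift D ℤ]
  [∀ n : ℤ, (shiftFunctor D n).Additive] [Pretriangulated D]
  (S : MorphismProperty D) [S.HasLeftCalculusOfFractions] [S.IsCompatibleWithTriangulation]
  {E : Type u'} [Category.{v'} E] (Q : D ⥤ E) [Q.IsLocalization S]

include S

/-- the cone of a morphism in `S` is killed by the localization functor -/
lemma isZero_obj₃ (T : Triangle D) (hT : T ∈ distTriang D) (hf : S T.mor₁) :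
    IsZero (Q.obj T.obj₃) := by
  have hQf : IsIso (Q.map T.mor₁) := Localization.inverts Q S _ hf
  have h1 : Q.map T.mor₂ = Q.map (0 : T.obj₂ ⟶ T.obj₃) := by
    rw [← cancel_epi (Q.map T.mor₁), ← Q.map_comp, ← Q.map_comp, comp_distTriang_mor_zero₁₂ _ hT,
      comp_zero]
  obtain ⟨C', t, ht, fac⟩ := (MorphismProperty.map_eq_iff_postcomp Q S _ _).1 h1
  rw [zero_comp] at fac
  obtain ⟨t', ht'⟩ := Triangle.yoneda_exact₃ T hT t fac
  have hQf1 : IsIso (Q.map (T.mor₁⟦(1 : ℤ)⟧')) := Localization.inverts Q S _ (S.shift hf 1)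
  have h2 : Q.map T.mor₃ = Q.map (0 : T.obj₃ ⟶ T.obj₁⟦(1 : ℤ)⟧) := by
    rw [← cancel_mono (Q.map (T.mor₁⟦(1 : ℤ)⟧')), ← Q.map_comp, ← Q.map_comp,
      comp_distTriang_mor_zero₃₁ _ hT, zero_comp]
  have h3 : Q.map t = Q.map (0 : T.obj₃ ⟶ C') := by
    rw [ht', Q.map_comp, h2, ← Q.map_comp, zero_comp]
  obtain ⟨C'', t₂, ht₂, fac₂⟩ := (MorphismProperty.map_eq_iff_postcomp Q S _ _).1 h3
  rw [zero_comp] at fac₂
  exact (isZero_iff_exists_zero_to S Q _).2 ⟨C'', fac₂ ▸ S.comp_mem _ _ ht ht₂⟩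

omit S [S.HasLeftCalculusOfFractions] [S.IsCompatibleWithTriangulation] [Q.IsLocalization S] in
lemma isZero_of_isZero_biprod (Z Z' : D) (h : IsZero (Q.obj (Z ⊞ Z'))) : IsZero (Q.obj Z) := by
  refine isZero_of_retract (Q.map biprod.inl) (Q.map biprod.fst) ?_ h
  rw [← Q.map_comp, biprod.inl_fst, Q.map_id]

omit S [S.HasLeftCalculusOfFractions] [S.IsCompatibleWithTriangulation] [Q.IsLocalization S] in
set_option backward.isDefEq.respectTransparency false in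
lemma dist_aux (Y Z : D) : ∃ h : Z ⊞ Y ⟶ (Z⟦(-1 : ℤ)⟧)⟦(1 : ℤ)⟧,
    Triangle.mk (0 : Z⟦(-1 : ℤ)⟧ ⟶ Y) (biprod.inr : Y ⟶ Z ⊞ Y) h ∈ distTriang D := by
  refine ⟨(biprod.braiding Z Y).hom ≫ (binaryBiproductTriangle Y Z).invRotate.mor₃, ?_⟩
  refine isomorphic_distinguished _
    (inv_rot_of_distTriang _ (binaryBiproductTriangle_distinguished Y Z)) _ ?_
  refine Triangle.isoMk _ _ (Iso.refl _) (Iso.refl _) (biprod.braiding Z Y)
    (by simp) ?_ (by simp)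
  change (biprod.inr : Y ⟶ Z ⊞ Y) ≫ (biprod.braiding Z Y).hom = 𝟙 Y ≫ (biprod.inl : Y ⟶ Y ⊞ Z)
  rw [Category.id_comp]
  ext <;> simp

theorem isZero_iff_exists_triangle (Z : D) :
    IsZero (Q.obj Z) ↔ ∃ (Z' X Y : D) (f : X ⟶ Y) (g : Y ⟶ Z ⊞ Z')
      (h : Z ⊞ Z' ⟶ (shiftFunctor D (1 : ℤ)).obj X),
      Triangle.mk f g h ∈ distinguishedTriangles ∧ S f := by
  constructor
  · intro hZ
    obtain ⟨Z'', hs⟩ := (isZero_iff_exists_zero_to S Q Z).1 hZ
    have hs' : S (0 : Z⟦(-1 : ℤ)⟧ ⟶ Z''⟦(-1 : ℤ)⟧) := by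
      have := S.shift hs (-1 : ℤ)
      rwa [Functor.map_zero] at this
    obtain ⟨h, hh⟩ := dist_aux (Z''⟦(-1 : ℤ)⟧) Z
    exact ⟨Z''⟦(-1 : ℤ)⟧, Z⟦(-1 : ℤ)⟧, Z''⟦(-1 : ℤ)⟧, 0, biprod.inr, h, hh, hs'⟩
  · rintro ⟨Z', X, Y, f, g, h, hT, hf⟩
    exact isZero_of_isZero_biprod Q Z Z' (isZero_obj₃ S Q _ hT hf)

end Pretri

section Verdier

variable {D : Type u} [Category.{v} D] [Preadditive D] [HasZeroObject D] [HasShift D ℤ]
  [∀ n : ℤ, (shiftFunctor D n).Additive] [Pretriangulated D] [IsTriangulated D]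
  (B : ObjectProperty D) [B.IsTriangulated]
  {E : Type u'} [Category.{v'} E] (Q : D ⥤ E) [Q.IsLocalization B.trW]

theorem isZero_verdier_iff (Z : D) :
    IsZero (Q.obj Z) ↔ ∃ (Z' Y : D), B Y ∧ Nonempty (Z ⊞ Z' ≅ Y) := by
  constructor
  · intro hZ
    obtain ⟨Z'', hs⟩ := (isZero_iff_exists_zero_from B.trW Q Z).1 hZ
    obtain ⟨C, g, h, hT, hC⟩ := (B.trW_iff _).1 hs
    have hrot := rot_of_distTriang _ hT
    have hz : (Triangle.mk (0 : Z'' ⟶ Z) g h).rotate.mor₃ = 0 := by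
      change -(shiftFunctor D (1 : ℤ)).map (0 : Z'' ⟶ Z) = 0
      rw [Functor.map_zero, neg_zero]
    obtain ⟨e, -, -⟩ := exists_iso_binaryBiproduct_of_distTriang _ hrot hz
    exact ⟨Z''⟦(1 : ℤ)⟧, C, hC, ⟨e.symm⟩⟩
  · rintro ⟨Z', Y, hY, ⟨e⟩⟩
    have hY0 : IsZero (Q.obj Y) := (isZero_iff_exists_zero_from B.trW Q Y).2
      ⟨0, (B.trW_iff _).2 ⟨Y, 𝟙 Y, 0, contractible_distinguished₁ Y, hY⟩⟩
    refine isZero_of_retract (Q.map (biprod.inl ≫ e.hom)) (Q.map (e.inv ≫ biprod.fst)) ?_ hY0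
    rw [← Q.map_comp]
    simp

end Verdier

section Sat

variable {D : Type u} [Category.{v} D] [Preadditive D] [HasZeroObject D] [HasShift D ℤ]
  [∀ n : ℤ, (shiftFunctor D n).Additive] [Pretriangulated D]
  (S : MorphismProperty D) [S.HasLeftCalculusOfFractions] [S.IsCompatibleWithTriangulation]
  {E : Type u'} [Category.{v'} E] (Q : D ⥤ E) [Q.IsLocalization S]

include S in
theorem trW_kernel_iff {X Y : D} (f : X ⟶ Y) :
    ObjectProperty.trW (fun Z : D => IsZero (Q.obj Z)) f ↔ IsIso (Q.map f) := by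
  rw [isIso_iff_Q S Q f]
  constructor
  · rintro ⟨C, g, h, hT, hC⟩
    have hC' : IsZero (S.Q.obj C) := (isZero_iff_Q S Q C).1 hC
    have hd := S.Q.map_distinguished _ hT
    exact (Triangle.isZero₃_iff_isIso₁ _ hd).1 hC'
  · intro hf
    obtain ⟨C, g, h, hT⟩ := distinguished_cocone_triangle f
    have hd := S.Q.map_distinguished _ hT
    have hC' : IsZero (S.Q.obj C) := (Triangle.isZero₃_iff_isIso₁ _ hd).2 hf
    exact ⟨C, g, h, hT, (isZero_iff_Q S Q C).2 hC'⟩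

end Sat

end Groth.Agent.Lib.Helper8.LocZero
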