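import Mathlib.CategoryTheory.Triangulated.Pretriangulated
import Mathlib.CategoryTheory.Triangulated.TriangleShift
import Mathlib.CategoryTheory.Triangulated.Yoneda

/-!
# Helper8: the long exact sequence `Hom(-, K⟦n⟧)` of a distinguished triangle, with explicit connecting map
-/

universe v u

open CategoryTheory CategoryTheory.Limits Pretriangulated

namespace Groth.Agent.Lib.Helper8.TriLES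

variable {T : Type u} [Category.{v} T] [Preadditive T] [HasZeroObject T] [HasShift T ℤ]
  [∀ n : ℤ, (shiftFunctor T n).Additive] [Pretriangulated T]

variable (Tr : Triangle T) (K : T) (n : ℤ)

/-- the connecting map `Hom(X₁, K⟦n⟧) → Hom(X₃, K⟦n+1⟧)`. -/
noncomputable def δ : (Tr.obj₁ ⟶ K⟦n⟧) →+ (Tr.obj₃ ⟶ K⟦n + 1⟧) where
  toFun φ := Tr.mor₃ ≫ φ⟦(1 : ℤ)⟧' ≫ (shiftFunctorAdd' T n 1 (n + 1) rfl).inv.app K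
  map_zero' := by simp
  map_add' φ ψ := by simp

lemma δ_apply (φ : Tr.obj₁ ⟶ K⟦n⟧) :
    δ Tr K n φ = Tr.mor₃ ≫ φ⟦(1 : ℤ)⟧' ≫ (shiftFunctorAdd' T n 1 (n + 1) rfl).inv.app K := rfl

variable (hT : Tr ∈ distTriang T)
include hT

lemma δ_mor₁_comp (ψ : Tr.obj₂ ⟶ K⟦n⟧) : δ Tr K n (Tr.mor₁ ≫ ψ) = 0 := by
  rw [δ_apply, Functor.map_comp, Category.assoc, comp_distTriang_mor_zero₃₁_assoc _ hT, zero_comp]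

lemma mor₂_comp_δ (φ : Tr.obj₁ ⟶ K⟦n⟧) : Tr.mor₂ ≫ δ Tr K n φ = 0 := by
  rw [δ_apply, comp_distTriang_mor_zero₂₃_assoc _ hT, zero_comp]

lemma exact_at₂ (ψ : Tr.obj₂ ⟶ K⟦n⟧) (h : Tr.mor₁ ≫ ψ = 0) :
    ∃ χ : Tr.obj₃ ⟶ K⟦n⟧, ψ = Tr.mor₂ ≫ χ :=
  Triangle.yoneda_exact₂ Tr hT ψ h

lemma exact_at₁ (φ : Tr.obj₁ ⟶ K⟦n⟧) (h : δ Tr K n φ = 0) :
    ∃ χ : Tr.obj₂ ⟶ K⟦n⟧, φ = Tr.mor₁ ≫ χ := by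
  have h1 : Tr.mor₃ ≫ φ⟦(1 : ℤ)⟧' = 0 := by
    rw [δ_apply] at h
    have := h =≫ (shiftFunctorAdd' T n 1 (n + 1) rfl).hom.app K
    simpa using this
  have hr := rot_of_distTriang _ hT
  obtain ⟨χ, hχ⟩ := Triangle.yoneda_exact₃ Tr.rotate hr (φ⟦(1 : ℤ)⟧') h1
  let χ' : Tr.obj₂⟦(1 : ℤ)⟧ ⟶ (K⟦n⟧)⟦(1 : ℤ)⟧ := χ
  have hχ' : φ⟦(1 : ℤ)⟧' = (-(Tr.mor₁)⟦(1 : ℤ)⟧') ≫ χ' := hχ
  obtain ⟨χ₀, hχ₀⟩ := (shiftFunctor T (1 : ℤ)).map_surjective χ'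
  refine ⟨-χ₀, (shiftFunctor T (1 : ℤ)).map_injective ?_⟩
  rw [hχ', ← hχ₀, Functor.map_comp, Functor.map_neg]
  simp

lemma exact_at₃ (ψ : Tr.obj₃ ⟶ K⟦n + 1⟧) (h : Tr.mor₂ ≫ ψ = 0) :
    ∃ φ : Tr.obj₁ ⟶ K⟦n⟧, ψ = δ Tr K n φ := by
  obtain ⟨χ, hχ⟩ := Triangle.yoneda_exact₃ Tr hT ψ h
  obtain ⟨φ, hφ⟩ := (shiftFunctor T (1 : ℤ)).map_surjective
    (χ ≫ (shiftFunctorAdd' T n 1 (n + 1) rfl).hom.app K)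
  refine ⟨φ, ?_⟩
  rw [δ_apply, hφ, hχ]
  simp

omit hT in
/-- clean-typed versions for `Triangle.mk f g h` -/
noncomputable def δ' {X₁ X₃ : T} (h : X₃ ⟶ X₁⟦(1 : ℤ)⟧) (K : T) (n : ℤ) :
    (X₁ ⟶ K⟦n⟧) →+ (X₃ ⟶ K⟦n + 1⟧) where
  toFun φ := h ≫ φ⟦(1 : ℤ)⟧' ≫ (shiftFunctorAdd' T n 1 (n + 1) rfl).inv.app K
  map_zero' := by simp
  map_add' φ ψ := by simp

end Groth.Agent.Lib.Helper8.TriLES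

namespace Groth.Agent.Lib.Helper8.TriLES

variable {T : Type u} [Category.{v} T] [Preadditive T] [HasZeroObject T] [HasShift T ℤ]
  [∀ n : ℤ, (shiftFunctor T n).Additive] [Pretriangulated T]
  {X₁ X₂ X₃ : T} (f : X₁ ⟶ X₂) (g : X₂ ⟶ X₃) (h : X₃ ⟶ X₁⟦(1 : ℤ)⟧)
  (hT : Triangle.mk f g h ∈ distTriang T) (K : T) (n : ℤ)

include hT

lemma δ'_comp (ψ : X₂ ⟶ K⟦n⟧) : δ' h K n (f ≫ ψ) = 0 :=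
  δ_mor₁_comp (Triangle.mk f g h) K n hT ψ

lemma comp_δ' (φ : X₁ ⟶ K⟦n⟧) : g ≫ δ' h K n φ = 0 :=
  mor₂_comp_δ (Triangle.mk f g h) K n hT φ

lemma exact_at₂' (ψ : X₂ ⟶ K⟦n⟧) (h0 : f ≫ ψ = 0) : ∃ χ : X₃ ⟶ K⟦n⟧, ψ = g ≫ χ :=
  exact_at₂ (Triangle.mk f g h) K n hT ψ h0

lemma exact_at₁' (φ : X₁ ⟶ K⟦n⟧) (h0 : δ' h K n φ = 0) : ∃ χ : X₂ ⟶ K⟦n⟧, φ = f ≫ χ :=
  exact_at₁ (Triangle.mk f g h) K n hT φ h0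

lemma exact_at₃' (ψ : X₃ ⟶ K⟦n + 1⟧) (h0 : g ≫ ψ = 0) : ∃ φ : X₁ ⟶ K⟦n⟧, ψ = δ' h K n φ :=
  exact_at₃ (Triangle.mk f g h) K n hT ψ h0

end Groth.Agent.Lib.Helper8.TriLES
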