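import Groth.Prelude.Def_CohCx
import Groth.Agent.Lib.Helper8.TriLES
import Mathlib.CategoryTheory.Sites.MayerVietorisSquare
import Mathlib.Algebra.Homology.DerivedCategory.SingleTriangle

/-!
# Helper8: Mayer–Vietoris long exact sequence for hypercohomology (S0876)
-/

universe u v₁ u₁ v₂ u₂

open CategoryTheory CategoryTheory.Limits Pretriangulated

namespace Groth.Agent.Lib.Helper8.MVHyper

open Groth.Agent.Lib.Helper8

section Abstract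

variable {𝒜 : Type u₁} [Category.{v₁} 𝒜] [Preadditive 𝒜] [HasBinaryBiproducts 𝒜]
  {T : Type u₂} [Category.{v₂} T] [Preadditive T] [HasZeroObject T] [HasShift T ℤ]
  [∀ n : ℤ, (shiftFunctor T n).Additive] [Pretriangulated T]
  (F : 𝒜 ⥤ T) [F.Additive] {X₁ A B X₄ : 𝒜} (a : X₁ ⟶ A) (b : X₁ ⟶ B) (c : A ⟶ X₄) (d : B ⟶ X₄)

/-- pairing map -/
noncomputable def pair {L : T} (ψ₂ : F.obj A ⟶ L) (ψ₃ : F.obj B ⟶ L) : F.obj (A ⊞ B) ⟶ L :=
  F.map biprod.fst ≫ ψ₂ + F.map biprod.snd ≫ ψ₃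

omit [HasZeroObject T] [HasShift T ℤ] [∀ n : ℤ, (shiftFunctor T n).Additive] [Pretriangulated T] in
lemma inl_pair {L : T} (ψ₂ : F.obj A ⟶ L) (ψ₃ : F.obj B ⟶ L) :
    F.map biprod.inl ≫ pair F ψ₂ ψ₃ = ψ₂ := by
  unfold pair
  rw [Preadditive.comp_add, ← Functor.map_comp_assoc, ← Functor.map_comp_assoc]
  simp

omit [HasZeroObject T] [HasShift T ℤ] [∀ n : ℤ, (shiftFunctor T n).Additive] [Pretriangulated T] in
lemma inr_pair {L : T} (ψ₂ : F.obj A ⟶ L) (ψ₃ : F.obj B ⟶ L) :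
    F.map biprod.inr ≫ pair F ψ₂ ψ₃ = ψ₃ := by
  unfold pair
  rw [Preadditive.comp_add, ← Functor.map_comp_assoc, ← Functor.map_comp_assoc]
  simp

omit [HasZeroObject T] [HasShift T ℤ] [∀ n : ℤ, (shiftFunctor T n).Additive] [Pretriangulated T] in
lemma hom_ext₂ {L : T} {x y : F.obj (A ⊞ B) ⟶ L}
    (h₁ : F.map biprod.inl ≫ x = F.map biprod.inl ≫ y)
    (h₂ : F.map biprod.inr ≫ x = F.map biprod.inr ≫ y) : x = y := by
  have : 𝟙 (F.obj (A ⊞ B)) = F.map (biprod.fst ≫ biprod.inl) + F.map (biprod.snd ≫ biprod.inr) := by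
    rw [← Functor.map_add, biprod.total, F.map_id]
  rw [← Category.id_comp x, ← Category.id_comp y, this]
  simp only [Functor.map_comp, Preadditive.add_comp, Category.assoc, h₁, h₂]

omit [HasZeroObject T] [HasShift T ℤ] [∀ n : ℤ, (shiftFunctor T n).Additive] [Pretriangulated T] in
lemma lift_pair {L : T} (ψ₂ : F.obj A ⟶ L) (ψ₃ : F.obj B ⟶ L) :
    F.map (biprod.lift a (-b)) ≫ pair F ψ₂ ψ₃ = F.map a ≫ ψ₂ - F.map b ≫ ψ₃ := by
  unfold pair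
  rw [Preadditive.comp_add, ← Functor.map_comp_assoc, ← Functor.map_comp_assoc]
  simp only [biprod.lift_fst, biprod.lift_snd, Functor.map_neg, Preadditive.neg_comp]
  rw [← sub_eq_add_neg]

omit [HasZeroObject T] [HasShift T ℤ] [∀ n : ℤ, (shiftFunctor T n).Additive] [Pretriangulated T] in
lemma inl_desc : F.map biprod.inl ≫ F.map (biprod.desc c d) = F.map c := by
  rw [← Functor.map_comp, biprod.inl_desc]

omit [HasZeroObject T] [HasShift T ℤ] [∀ n : ℤ, (shiftFunctor T n).Additive] [Pretriangulated T] in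
lemma inr_desc : F.map biprod.inr ≫ F.map (biprod.desc c d) = F.map d := by
  rw [← Functor.map_comp, biprod.inr_desc]

variable (h : F.obj X₄ ⟶ (F.obj X₁)⟦(1 : ℤ)⟧)

variable (hT : Triangle.mk (F.map (biprod.lift a (-b))) (F.map (biprod.desc c d)) h ∈ distTriang T)
  (K : T) (n : ℤ)
include hT

lemma zero₁ (χ : F.obj X₄ ⟶ K⟦n⟧) : F.map a ≫ F.map c ≫ χ - F.map b ≫ F.map d ≫ χ = 0 := by
  have h0 : F.map (biprod.lift a (-b)) ≫ F.map (biprod.desc c d) = 0 :=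
    comp_distTriang_mor_zero₁₂ _ hT
  rw [← lift_pair, ← zero_comp (f := χ), ← h0, Category.assoc]
  congr 1
  apply hom_ext₂
  · rw [inl_pair, reassoc_of% (inl_desc F c d)]
  · rw [inr_pair, reassoc_of% (inr_desc F c d)]

lemma exact₁ (ψ₂ : F.obj A ⟶ K⟦n⟧) (ψ₃ : F.obj B ⟶ K⟦n⟧)
    (h0 : F.map a ≫ ψ₂ - F.map b ≫ ψ₃ = 0) :
    ∃ χ : F.obj X₄ ⟶ K⟦n⟧, F.map c ≫ χ = ψ₂ ∧ F.map d ≫ χ = ψ₃ := by
  obtain ⟨χ, hχ⟩ := TriLES.exact_at₂' _ _ h hT K n (pair F ψ₂ ψ₃)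
    (by rw [← h0, ← lift_pair])
  refine ⟨χ, ?_, ?_⟩
  · rw [← inl_desc F c d, Category.assoc, ← hχ, inl_pair]
  · rw [← inr_desc F c d, Category.assoc, ← hχ, inr_pair]

lemma zero₂ (ψ₂ : F.obj A ⟶ K⟦n⟧) (ψ₃ : F.obj B ⟶ K⟦n⟧) :
    TriLES.δ' h K n (F.map a ≫ ψ₂ - F.map b ≫ ψ₃) = 0 := by
  rw [← lift_pair]
  exact TriLES.δ'_comp _ _ h hT K n (pair F ψ₂ ψ₃)

lemma exact₂ (φ : F.obj X₁ ⟶ K⟦n⟧) (h0 : TriLES.δ' h K n φ = 0) :
    ∃ (ψ₂ : F.obj A ⟶ K⟦n⟧) (ψ₃ : F.obj B ⟶ K⟦n⟧), F.map a ≫ ψ₂ - F.map b ≫ ψ₃ = φ := by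
  obtain ⟨χ, hχ⟩ := TriLES.exact_at₁' _ _ h hT K n φ h0
  refine ⟨F.map biprod.inl ≫ χ, F.map biprod.inr ≫ χ, ?_⟩
  rw [hχ, ← lift_pair]
  congr 1
  apply hom_ext₂
  · rw [inl_pair]
  · rw [inr_pair]

lemma zero₃ (φ : F.obj X₁ ⟶ K⟦n⟧) :
    F.map c ≫ TriLES.δ' h K n φ = 0 ∧ F.map d ≫ TriLES.δ' h K n φ = 0 := by
  have h0 : F.map (biprod.desc c d) ≫ TriLES.δ' h K n φ = 0 :=
    TriLES.comp_δ' _ _ h hT K n φ
  constructor
  · rw [← inl_desc F c d, Category.assoc, h0, comp_zero]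
  · rw [← inr_desc F c d, Category.assoc, h0, comp_zero]

lemma exact₃ (ψ : F.obj X₄ ⟶ K⟦n + 1⟧) (h₁ : F.map c ≫ ψ = 0) (h₂ : F.map d ≫ ψ = 0) :
    ∃ φ : F.obj X₁ ⟶ K⟦n⟧, TriLES.δ' h K n φ = ψ := by
  obtain ⟨φ, hφ⟩ := TriLES.exact_at₃' _ _ h hT K n ψ (by
    apply hom_ext₂
    · rw [reassoc_of% (inl_desc F c d), h₁, comp_zero]
    · rw [reassoc_of% (inr_desc F c d), h₂, comp_zero])
  exact ⟨φ, hφ.symm⟩

end Abstract

end Groth.Agent.Lib.Helper8.MVHyper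

namespace Groth.Agent.Lib.Helper8.MVHyper

open Groth.Agent.Lib.Helper8

lemma mk₂_exact {A B C : Type u} [AddCommGroup A] [AddCommGroup B] [AddCommGroup C]
    (f : A →+ B) (g : B →+ C) (h1 : ∀ a, g (f a) = 0) (h2 : ∀ b, g b = 0 → ∃ a, f a = b) :
    (ComposableArrows.mk₂ (AddCommGrpCat.ofHom f) (AddCommGrpCat.ofHom g)).Exact := by
  refine ComposableArrows.exact₂_mk _ ?_ ?_
  · ext a
    exact h1 a
  · rw [ShortComplex.ab_exact_iff]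
    intro b hb
    exact h2 b hb

variable {C : Type u} [SmallCategory C] {J : GrothendieckTopology C}
  [HasWeakSheafify J (Type u)] [HasDerivedCategory.{u} (Sheaf J AddCommGrpCat.{u})]
  (S : J.MayerVietorisSquare) (K : DerivedCategory (Sheaf J AddCommGrpCat.{u}))

theorem main :
    ∃ δ : ∀ n : ℤ, CohCx.HDU K n S.X₁ →+ CohCx.HDU K (n + 1) S.X₄,
      ∀ n : ℤ,
        (ComposableArrows.mk₂
          (AddCommGrpCat.ofHom ((CohCx.HDUres K n S.f₂₄).prod (CohCx.HDUres K n S.f₃₄)))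
          (AddCommGrpCat.ofHom ((CohCx.HDUres K n S.f₁₂).coprod (-(CohCx.HDUres K n S.f₁₃))))).Exact ∧
        (ComposableArrows.mk₂
          (AddCommGrpCat.ofHom ((CohCx.HDUres K n S.f₁₂).coprod (-(CohCx.HDUres K n S.f₁₃))))
          (AddCommGrpCat.ofHom (δ n))).Exact ∧
        (ComposableArrows.mk₂ (AddCommGrpCat.ofHom (δ n))
          (AddCommGrpCat.ofHom ((CohCx.HDUres K (n + 1) S.f₂₄).prod (CohCx.HDUres K (n + 1) S.f₃₄)))).Exact := by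
  have hT := S.shortComplex_shortExact.singleTriangle_distinguished
  let F := DerivedCategory.singleFunctor (Sheaf J AddCommGrpCat.{u}) 0
  let a := CohCx.freeSheafMap J S.f₁₂
  let b := CohCx.freeSheafMap J S.f₁₃
  let c := CohCx.freeSheafMap J S.f₂₄
  let d := CohCx.freeSheafMap J S.f₃₄
  let h : F.obj (CohCx.freeSheaf J S.X₄) ⟶ (F.obj (CohCx.freeSheaf J S.X₁))⟦(1 : ℤ)⟧ :=
    S.shortComplex_shortExact.singleδ
  have hT' : Triangle.mk (F.map (biprod.lift a (-b))) (F.map (biprod.desc c d)) h ∈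
      distTriang (DerivedCategory (Sheaf J AddCommGrpCat.{u})) := hT
  refine ⟨fun n => TriLES.δ' h K n, fun n => ⟨?_, ?_, ?_⟩⟩
  · apply mk₂_exact
    · intro χ
      have : F.map a ≫ F.map c ≫ χ + -(F.map b ≫ F.map d ≫ χ) = 0 := by
        rw [← sub_eq_add_neg]
        exact zero₁ F a b c d h hT' K n χ
      exact this
    · rintro ⟨ψ₂, ψ₃⟩ hψ
      have hψ' : F.map a ≫ ψ₂ + -(F.map b ≫ ψ₃) = 0 := hψ
      rw [← sub_eq_add_neg] at hψ'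
      obtain ⟨χ, h1, h2⟩ := exact₁ F a b c d h hT' K n ψ₂ ψ₃ hψ'
      exact ⟨χ, Prod.ext h1 h2⟩
  · apply mk₂_exact
    · rintro ⟨ψ₂, ψ₃⟩
      have : TriLES.δ' h K n (F.map a ≫ ψ₂ + -(F.map b ≫ ψ₃)) = 0 := by
        rw [← sub_eq_add_neg]
        exact zero₂ F a b c d h hT' K n ψ₂ ψ₃
      exact this
    · intro φ hφ
      obtain ⟨ψ₂, ψ₃, hψ⟩ := exact₂ F a b c d h hT' K n φ hφ
      rw [sub_eq_add_neg] at hψ
      exact ⟨⟨ψ₂, ψ₃⟩, hψ⟩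
  · apply mk₂_exact
    · intro φ
      obtain ⟨h1, h2⟩ := zero₃ F a b c d h hT' K n φ
      exact Prod.ext h1 h2
    · intro ψ hψ
      have h1 : F.map c ≫ ψ = 0 := congrArg Prod.fst hψ
      have h2 : F.map d ≫ ψ = 0 := congrArg Prod.snd hψ
      exact exact₃ F a b c d h hT' K n ψ h1 h2

end Groth.Agent.Lib.Helper8.MVHyper
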