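import Groth.Prelude.Def_W4c3perfectstacksMV
import Mathlib.CategoryTheory.Triangulated.Functor
import Mathlib.Tactic

/-! Mayer–Vietoris squares of triangulated categories: the connecting map of a Mayer–Vietoris
triangle is killed by `f^*`, hence is unique and natural. -/

set_option autoImplicit false
set_option linter.unusedSectionVars false
universe v u

open CategoryTheory CategoryTheory.Limits CategoryTheory.Pretriangulated

namespace Groth.Agent.Lib.Helper8.MVSqLib

open W4c3perfectstacks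

section General

variable {C : Type u} [Category.{v} C] [Preadditive C] [HasZeroObject C] [HasShift C ℤ]
  [∀ n : ℤ, (shiftFunctor C n).Additive] [Pretriangulated C]

lemma mor₃_eq_zero_of_retraction (T : Triangle C) (hT : T ∈ distTriang C)
    (r : T.obj₂ ⟶ T.obj₁) (hr : T.mor₁ ≫ r = 𝟙 _) : T.mor₃ = 0 := by
  have h1 : T.mor₃ ≫ (shiftFunctor C (1 : ℤ)).map T.mor₁ = 0 := comp_distTriang_mor_zero₃₁ _ hT
  have h2 : (shiftFunctor C (1 : ℤ)).map T.mor₁ ≫ (shiftFunctor C (1 : ℤ)).map r = 𝟙 _ := by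
    rw [← Functor.map_comp, hr, CategoryTheory.Functor.map_id]
  calc T.mor₃ = T.mor₃ ≫ (shiftFunctor C (1 : ℤ)).map T.mor₁ ≫ (shiftFunctor C (1 : ℤ)).map r := by
        rw [h2, Category.comp_id]
    _ = 0 := by rw [reassoc_of% h1, zero_comp]

end General

variable {S S' R R' : Type u} [Category.{v} S] [Category.{v} S'] [Category.{v} R] [Category.{v} R']
    [Preadditive S] [Preadditive S'] [Preadditive R] [Preadditive R']
    [HasZeroObject S] [HasZeroObject S'] [HasZeroObject R] [HasZeroObject R']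
    [HasShift S ℤ] [HasShift S' ℤ] [HasShift R ℤ] [HasShift R' ℤ]
    [∀ n : ℤ, (shiftFunctor S n).Additive] [∀ n : ℤ, (shiftFunctor S' n).Additive]
    [∀ n : ℤ, (shiftFunctor R n).Additive] [∀ n : ℤ, (shiftFunctor R' n).Additive]
    [Pretriangulated S] [Pretriangulated S'] [Pretriangulated R] [Pretriangulated R']
    (q : MVSq S S' R R')
    [q.fst.CommShift ℤ] [q.fst.IsTriangulated]

/-- The first map of the Mayer–Vietoris triangle. -/
noncomputable abbrev mvA (N : S) : N ⟶ q.jls.obj (q.jst.obj N) ⊞ q.fls.obj (q.fst.obj N) :=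
  biprod.lift (q.adjJ.unit.app N) (q.adjF.unit.app N)

/-- The second map of the Mayer–Vietoris triangle. -/
noncomputable abbrev mvB (N : S) : q.jls.obj (q.jst.obj N) ⊞ q.fls.obj (q.fst.obj N) ⟶
    q.fls.obj (q.fst.obj (q.jls.obj (q.jst.obj N))) :=
  biprod.desc (q.adjF.unit.app (q.jls.obj (q.jst.obj N)))
    (-(q.fls.map (q.fst.map (q.adjJ.unit.app N))))

/-- `f^*` kills the connecting map of any Mayer–Vietoris triangle. -/
lemma fst_map_d_eq_zero (N : S)
    (d : q.fls.obj (q.fst.obj (q.jls.obj (q.jst.obj N))) ⟶ (shiftFunctor S (1 : ℤ)).obj N)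
    (h : Triangle.mk (mvA q N) (mvB q N) d ∈ distTriang S) : q.fst.map d = 0 := by
  have hT := q.fst.map_distinguished _ h
  let r : q.fst.obj (q.jls.obj (q.jst.obj N) ⊞ q.fls.obj (q.fst.obj N)) ⟶ q.fst.obj N :=
    q.fst.map biprod.snd ≫ q.adjF.counit.app (q.fst.obj N)
  have hr : q.fst.map (mvA q N) ≫ r = 𝟙 _ := by
    change q.fst.map (mvA q N) ≫ q.fst.map biprod.snd ≫ q.adjF.counit.app (q.fst.obj N) = 𝟙 _
    rw [← Functor.map_comp_assoc, biprod.lift_snd]
    exact q.adjF.left_triangle_components N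
  have h3 := mor₃_eq_zero_of_retraction _ hT r hr
  change q.fst.map d ≫ (q.fst.commShiftIso (1 : ℤ)).hom.app N = 0 at h3
  rw [← cancel_mono ((q.fst.commShiftIso (1 : ℤ)).hom.app N), h3, zero_comp]

/-- Any map out of the target of `d` into an object of the form `f_* M`, precomposed with `d`,
vanishes. -/
lemma d_comp_eq_zero (N : S)
    (d : q.fls.obj (q.fst.obj (q.jls.obj (q.jst.obj N))) ⟶ (shiftFunctor S (1 : ℤ)).obj N)
    (h : Triangle.mk (mvA q N) (mvB q N) d ∈ distTriang S) (M : S')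
    (t : (shiftFunctor S (1 : ℤ)).obj N ⟶ q.fls.obj M) : d ≫ t = 0 := by
  apply (q.adjF.homEquiv _ _).symm.injective
  rw [Adjunction.homEquiv_counit, Adjunction.homEquiv_counit, Functor.map_comp,
    fst_map_d_eq_zero q N d h, zero_comp, zero_comp, Functor.map_zero, zero_comp]

end Groth.Agent.Lib.Helper8.MVSqLib
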