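import Groth.Agent.Lib.Helper8.MVSq

/-! Mayer–Vietoris squares: `f^*` is bijective on `Hom(f_* M, N)` for `M` killed by `j'^*`. -/

set_option autoImplicit false
set_option linter.unusedSectionVars false
universe v u

open CategoryTheory CategoryTheory.Limits CategoryTheory.Pretriangulated

namespace Groth.Agent.Lib.Helper8.MVSqLib

open W4c3perfectstacks

section General

variable {C : Type u} [Category.{v} C] [Preadditive C] [HasZeroObject C] [HasShift C ℤ]
  [∀ n : ℤ, (shiftFunctor C n).Additive] [Pretriangulated C]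

/-- L1: composition with the first map of a distinguished triangle is bijective on `Hom(W, -)`
when `Hom(W, obj₃)` and `Hom(W⟦1⟧, obj₃)` vanish. -/
lemma bijective_comp_mor₁ (T : Triangle C) (hT : T ∈ distTriang C) (W : C)
    (h0 : ∀ g : W ⟶ T.obj₃, g = 0)
    (h1 : ∀ g : (shiftFunctor C (1 : ℤ)).obj W ⟶ T.obj₃, g = 0) :
    Function.Bijective (fun g : W ⟶ T.obj₁ => g ≫ T.mor₁) := by
  constructor
  · intro g g' hgg'
    have hd : (g - g') ≫ T.mor₁ = 0 := by
      rw [Preadditive.sub_comp, sub_eq_zero]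
      exact hgg'
    -- shift and use exactness of the rotated triangle
    have hrot := rot_of_distTriang _ (rot_of_distTriang _ hT)
    obtain ⟨k, hk⟩ := Triangle.coyoneda_exact₂ _ hrot ((shiftFunctor C (1 : ℤ)).map (g - g')) (by
      change (shiftFunctor C (1 : ℤ)).map (g - g') ≫ (-(shiftFunctor C (1 : ℤ)).map T.mor₁) = 0
      rw [Preadditive.comp_neg, ← Functor.map_comp, hd, Functor.map_zero, neg_zero])
    have hk0 : k = 0 := h1 k
    rw [hk0, zero_comp] at hk
    have : g - g' = 0 := (shiftFunctor C (1 : ℤ)).map_injective (hk.trans ((shiftFunctor C (1 : ℤ)).map_zero _ _).symm)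
    exact sub_eq_zero.mp this
  · intro h
    obtain ⟨g, hg⟩ := Triangle.coyoneda_exact₂ _ hT h (h0 _)
    exact ⟨g, hg.symm⟩

end General

variable {S S' R R' : Type u} [Category.{v} S] [Category.{v} S'] [Category.{v} R] [Category.{v} R']
    [Preadditive S] [Preadditive S'] [Preadditive R] [Preadditive R']
    [HasZeroObject S] [HasZeroObject S'] [HasZeroObject R] [HasZeroObject R']
    [HasShift S ℤ] [HasShift S' ℤ] [HasShift R ℤ] [HasShift R' ℤ]
    [∀ n : ℤ, (shiftFunctor S n).Additive] [∀ n : ℤ, (shiftFunctor S' n).Additive]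
    [∀ n : ℤ, (shiftFunctor R n).Additive] [∀ n : ℤ, (shiftFunctor R' n).Additive]
    [Pretriangulated S] [Pretriangulated S'] [Pretriangulated R] [Pretriangulated R']
    (q : MVSq S S' R R')
    [q.jst.CommShift ℤ] [q.fst.CommShift ℤ] [q.jpst.CommShift ℤ] [q.gst.CommShift ℤ]
    [q.jst.IsTriangulated] [q.fst.IsTriangulated] [q.jpst.IsTriangulated] [q.gst.IsTriangulated]

lemma hom_to_jls_eq_zero {W : S} (hW : IsZero (q.jst.obj W)) {P : R} (g : W ⟶ q.jls.obj P) :
    g = 0 :=
  (q.adjJ.homEquiv W P).symm.injective (hW.eq_of_src _ _)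

lemma hom_to_jpls_eq_zero {W : S'} (hW : IsZero (q.jpst.obj W)) {P : R'} (g : W ⟶ q.jpls.obj P) :
    g = 0 :=
  (q.adjJp.homEquiv W P).symm.injective (hW.eq_of_src _ _)

lemma isZero_gls {Z : R'} (hZ : IsZero Z) : IsZero (q.gls.obj Z) := by
  rw [IsZero.iff_id_eq_zero]
  exact (q.adjG.homEquiv _ _).symm.injective (hZ.eq_of_tgt _ _)

lemma isZero_jst_shift {W : S} (hW : IsZero (q.jst.obj W)) :
    IsZero (q.jst.obj ((shiftFunctor S (1 : ℤ)).obj W)) :=
  IsZero.of_iso ((shiftFunctor R (1 : ℤ)).map_isZero hW) ((q.jst.commShiftIso (1 : ℤ)).app W)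

lemma isZero_jpst_shift {W : S'} (hW : IsZero (q.jpst.obj W)) :
    IsZero (q.jpst.obj ((shiftFunctor S' (1 : ℤ)).obj W)) :=
  IsZero.of_iso ((shiftFunctor R' (1 : ℤ)).map_isZero hW) ((q.jpst.commShiftIso (1 : ℤ)).app W)

lemma isZero_jst_fls (hq : q.IsMV) {M : S'} (hM : IsZero (q.jpst.obj M)) :
    IsZero (q.jst.obj (q.fls.obj M)) := by
  haveI := hq.isIso_bcApp M
  exact IsZero.of_iso (isZero_gls q hM) (asIso (q.bcApp M))

theorem fst_map_bijective (hq : q.IsMV) (M : S') (hM : IsZero (q.jpst.obj M)) (N : S) :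
    Function.Bijective (fun g : q.fls.obj M ⟶ N => q.fst.map g) := by
  let W₁ := q.fls.obj M
  have hW₁ : IsZero (q.jst.obj W₁) := isZero_jst_fls q hq hM
  obtain ⟨K, u, w, hT⟩ := distinguished_cocone_triangle₁ (q.adjJ.unit.app N)
  -- first bijection
  have B1 : Function.Bijective (fun g : W₁ ⟶ K => g ≫ u) :=
    bijective_comp_mor₁ _ hT W₁ (fun g => hom_to_jls_eq_zero q hW₁ g)
      (fun g => hom_to_jls_eq_zero q (isZero_jst_shift q hW₁) g)
  -- second bijection
  let W₂ := q.fst.obj W₁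
  haveI := hq.isIso_counitF M hM
  have hW₂ : IsZero (q.jpst.obj W₂) :=
    IsZero.of_iso hM (q.jpst.mapIso (asIso (q.adjF.counit.app M)))
  have hT' := q.fst.map_distinguished _ hT
  haveI := hq.isIso_bc2App (q.jst.obj N)
  have hA : ∀ (W : S') (_ : IsZero (q.jpst.obj W)) (g : W ⟶ q.fst.obj (q.jls.obj (q.jst.obj N))),
      g = 0 := by
    intro W hW g
    rw [← cancel_mono (q.bc2App (q.jst.obj N)), zero_comp]
    exact hom_to_jpls_eq_zero q hW _
  have B2 : Function.Bijective (fun g : W₂ ⟶ q.fst.obj K => g ≫ q.fst.map u) :=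
    bijective_comp_mor₁ _ hT' W₂ (fun g => hA _ hW₂ g)
      (fun g => hA _ (isZero_jpst_shift q hW₂) g)
  -- the kernel part
  have hη : IsIso (q.jst.map (q.adjJ.unit.app N)) := by
    haveI := hq.isIso_counitJ
    have h1 : q.jst.map (q.adjJ.unit.app N) ≫ q.adjJ.counit.app (q.jst.obj N) = 𝟙 _ :=
      q.adjJ.left_triangle_components N
    have h2 : q.jst.map (q.adjJ.unit.app N) = inv (q.adjJ.counit.app (q.jst.obj N)) := by
      rw [← cancel_mono (q.adjJ.counit.app (q.jst.obj N)), h1, IsIso.inv_hom_id]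
    rw [h2]
    infer_instance
  have hK : IsZero (q.jst.obj K) :=
    Triangle.isZero₁_of_isIso₂ _ (q.jst.map_distinguished _ hT) hη
  haveI := hq.isIso_unitF K hK
  have B3 : Function.Bijective (fun g : W₁ ⟶ K => q.fst.map g) := by
    have h3 : (fun g : W₁ ⟶ K => q.fst.map g) =
        (q.adjF.homEquiv W₁ (q.fst.obj K)).symm ∘ (fun g : W₁ ⟶ K => g ≫ q.adjF.unit.app K) := by
      funext g
      change q.fst.map g = (q.adjF.homEquiv W₁ (q.fst.obj K)).symm (g ≫ q.adjF.unit.app K)
      rw [Adjunction.homEquiv_counit, Functor.map_comp, Category.assoc,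
        q.adjF.left_triangle_components, Category.comp_id]
    rw [h3]
    refine (Equiv.bijective _).comp ?_
    constructor
    · intro g g' h
      exact (cancel_mono (q.adjF.unit.app K)).mp h
    · intro h
      exact ⟨h ≫ inv (q.adjF.unit.app K), by simp⟩
  -- conclusion
  have hcomp : (fun g : W₁ ⟶ N => q.fst.map g) ∘ (fun g : W₁ ⟶ K => g ≫ u) =
      (fun g : W₂ ⟶ q.fst.obj K => g ≫ q.fst.map u) ∘ (fun g : W₁ ⟶ K => q.fst.map g) := by
    funext g
    exact q.fst.map_comp g u
  have h4 : Function.Bijective ((fun g : W₁ ⟶ N => q.fst.map g) ∘ (fun g : W₁ ⟶ K => g ≫ u)) := by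
    rw [hcomp]
    exact B2.comp B3
  exact (Function.Bijective.of_comp_iff _ B1).mp h4

end Groth.Agent.Lib.Helper8.MVSqLib
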