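import Groth.Agent.Lib.Helper8.MVSq2
import Mathlib.CategoryTheory.Triangulated.Orthogonal

/-! Mayer–Vietoris squares: existence of the Mayer–Vietoris triangle. -/

set_option autoImplicit false
set_option linter.unusedSectionVars false
universe v u

open CategoryTheory CategoryTheory.Limits CategoryTheory.Pretriangulated

namespace Groth.Agent.Lib.Helper8.MVSqLib

open W4c3perfectstacks

variable {S S' R R' : Type u} [Category.{v} S] [Category.{v} S'] [Category.{v} R] [Category.{v} R']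
    [Preadditive S] [Preadditive S'] [Preadditive R] [Preadditive R']
    [HasZeroObject S] [HasZeroObject S'] [HasZeroObject R] [HasZeroObject R']
    [HasShift S ℤ] [HasShift S' ℤ] [HasShift R ℤ] [HasShift R' ℤ]
    [∀ n : ℤ, (shiftFunctor S n).Additive] [∀ n : ℤ, (shiftFunctor S' n).Additive]
    [∀ n : ℤ, (shiftFunctor R n).Additive] [∀ n : ℤ, (shiftFunctor R' n).Additive]
    [Pretriangulated S] [Pretriangulated S'] [Pretriangulated R] [Pretriangulated R']
    (q : MVSq S S' R R')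
    [q.jst.CommShift ℤ] [q.fst.CommShift ℤ] [q.jpst.CommShift ℤ] [q.gst.CommShift ℤ]
    [q.jst.IsTriangulated] [q.fst.IsTriangulated] [q.jpst.IsTriangulated] [q.gst.IsTriangulated]

/-- The kernel of `j^*`. -/
def kerJ : ObjectProperty S := fun W => IsZero (q.jst.obj W)

instance : (kerJ q).IsStableUnderShift ℤ where
  isStableUnderShiftBy n := ⟨fun W hW =>
    IsZero.of_iso ((shiftFunctor R n).map_isZero hW) ((q.jst.commShiftIso n).app W)⟩

lemma isZero_jpst_fst {W : S} (hW : IsZero (q.jst.obj W)) : IsZero (q.jpst.obj (q.fst.obj W)) :=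
  IsZero.of_iso (q.gst.map_isZero hW) (q.e.app W).symm

/-- `f_* f^* j_* P` is right orthogonal to the kernel of `j^*`. -/
lemma hom_to_fls_fst_jls_eq_zero (hq : q.IsMV) {W : S} (hW : IsZero (q.jst.obj W)) (P : R)
    (g : W ⟶ q.fls.obj (q.fst.obj (q.jls.obj P))) : g = 0 := by
  apply (q.adjF.homEquiv _ _).symm.injective
  have := hq.isIso_bc2App P
  rw [← cancel_mono (q.bc2App P)]
  exact (hom_to_jpls_eq_zero q (isZero_jpst_fst q hW) _).trans
    (hom_to_jpls_eq_zero q (isZero_jpst_fst q hW) _).symm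

/-- For `W` killed by `j^*`, composing with the unit of `f` is bijective on `Hom(W, N)`. -/
theorem comp_unitF_bijective (hq : q.IsMV) {W : S} (hW : IsZero (q.jst.obj W)) (N : S) :
    Function.Bijective (fun y : W ⟶ N => y ≫ q.adjF.unit.app N) := by
  have := hq.isIso_unitF W hW
  have hM := isZero_jpst_fst q hW
  have hB := fst_map_bijective q hq (q.fst.obj W) hM N
  have key : ∀ y : W ⟶ N, y ≫ q.adjF.unit.app N = (q.adjF.homEquiv W (q.fst.obj N)) (q.fst.map y) := by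
    intro y
    rw [Adjunction.homEquiv_unit]
    exact (q.adjF.unit.naturality y)
  constructor
  · intro y y' h
    change y ≫ q.adjF.unit.app N = y' ≫ q.adjF.unit.app N at h
    rw [key, key] at h
    have h1 : q.fst.map y = q.fst.map y' := (q.adjF.homEquiv W (q.fst.obj N)).injective h
    have h2 : inv (q.adjF.unit.app W) ≫ y = inv (q.adjF.unit.app W) ≫ y' := by
      apply hB.1
      change q.fst.map (inv (q.adjF.unit.app W) ≫ y) = q.fst.map (inv (q.adjF.unit.app W) ≫ y')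
      rw [Functor.map_comp, Functor.map_comp, h1]
    exact (cancel_epi _).mp h2
  · intro h
    obtain ⟨g, hg⟩ := hB.2 (q.fst.map (inv (q.adjF.unit.app W)) ≫
      (q.adjF.homEquiv W (q.fst.obj N)).symm h)
    change q.fst.map g = _ at hg
    refine ⟨q.adjF.unit.app W ≫ g, ?_⟩
    change (q.adjF.unit.app W ≫ g) ≫ q.adjF.unit.app N = h
    rw [key, Functor.map_comp, hg, ← Functor.map_comp_assoc, IsIso.hom_inv_id,
      CategoryTheory.Functor.map_id, Category.id_comp, Equiv.apply_symm_apply]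

/-- Shifted version of injectivity in `comp_unitF_bijective`. -/
lemma eq_zero_of_comp_shift_unitF (hq : q.IsMV) {W : S} (hW : IsZero (q.jst.obj W)) (N : S)
    (y : W ⟶ (shiftFunctor S (1 : ℤ)).obj N)
    (hy : y ≫ (shiftFunctor S (1 : ℤ)).map (q.adjF.unit.app N) = 0) : y = 0 := by
  let W' : S := (shiftFunctor S (-1 : ℤ)).obj W
  have hW' : IsZero (q.jst.obj W') := (kerJ q).le_shift (-1 : ℤ) W hW
  let φ : (shiftFunctor S (1 : ℤ)).obj W' ≅ W := (shiftEquiv S (1 : ℤ)).counitIso.app W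
  obtain ⟨z, hz⟩ : ∃ z : W' ⟶ N, (shiftFunctor S (1 : ℤ)).map z = φ.hom ≫ y :=
    ⟨(shiftFunctor S (1 : ℤ)).preimage (φ.hom ≫ y), Functor.map_preimage _ _⟩
  have h1 : (shiftFunctor S (1 : ℤ)).map (z ≫ q.adjF.unit.app N) = 0 := by
    rw [Functor.map_comp, hz, Category.assoc, hy, comp_zero]
  have h2 : z ≫ q.adjF.unit.app N = 0 :=
    (shiftFunctor S (1 : ℤ)).map_injective (h1.trans ((shiftFunctor S (1 : ℤ)).map_zero _ _).symm)
  have h3 : z = 0 := (comp_unitF_bijective q hq hW' N).1 (h2.trans zero_comp.symm)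
  rw [h3, Functor.map_zero] at hz
  rw [← cancel_epi φ.hom, ← hz, comp_zero]

/-- The cone of the first Mayer–Vietoris map is right orthogonal to the kernel of `j^*`. -/
theorem hom_to_cone_eq_zero (hq : q.IsMV) (N : S) {C' : S}
    (a' : q.jls.obj (q.jst.obj N) ⊞ q.fls.obj (q.fst.obj N) ⟶ C')
    (c' : C' ⟶ (shiftFunctor S (1 : ℤ)).obj N)
    (hT : Triangle.mk (mvA q N) a' c' ∈ distTriang S)
    {W : S} (hW : IsZero (q.jst.obj W)) (x : W ⟶ C') : x = 0 := by
  have h1 : x ≫ c' = 0 := by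
    apply eq_zero_of_comp_shift_unitF q hq hW N
    have h31 : c' ≫ (shiftFunctor S (1 : ℤ)).map (mvA q N) = 0 := comp_distTriang_mor_zero₃₁ _ hT
    have : q.adjF.unit.app N = mvA q N ≫ biprod.snd := (biprod.lift_snd _ _).symm
    rw [this, Functor.map_comp, Category.assoc, reassoc_of% h31, zero_comp, comp_zero]
  obtain ⟨x₀, hx₀⟩ : ∃ x₀ : W ⟶ q.jls.obj (q.jst.obj N) ⊞ q.fls.obj (q.fst.obj N),
      x = x₀ ≫ a' := Triangle.coyoneda_exact₃ _ hT x h1
  obtain ⟨z, hz⟩ := (comp_unitF_bijective q hq hW N).2 (x₀ ≫ biprod.snd)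
  change z ≫ q.adjF.unit.app N = x₀ ≫ biprod.snd at hz
  have hx₀' : x₀ = z ≫ mvA q N := by
    apply biprod.hom_ext
    · rw [Category.assoc, biprod.lift_fst]
      exact (hom_to_jls_eq_zero q hW _).trans (hom_to_jls_eq_zero q hW _).symm
    · rw [Category.assoc, biprod.lift_snd]
      exact hz.symm
  have h12 : mvA q N ≫ a' = 0 := comp_distTriang_mor_zero₁₂ _ hT
  rw [hx₀, hx₀', Category.assoc, h12, comp_zero]

/-- Naturality of the base-change map. -/
lemma bcApp_naturality {M M' : S'} (μ : M ⟶ M') :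
    q.jst.map (q.fls.map μ) ≫ q.bcApp M' = q.bcApp M ≫ q.gls.map (q.jpst.map μ) := by
  have n1 := q.adjG.unit.naturality (q.jst.map (q.fls.map μ))
  have n2 := q.e.hom.naturality (q.fls.map μ)
  have n3 := q.adjF.counit.naturality μ
  simp only [Functor.id_obj, Functor.comp_obj, Functor.id_map, Functor.comp_map] at n1 n2 n3
  unfold MVSq.bcApp
  rw [reassoc_of% n1, ← Functor.map_comp_assoc, n2, Functor.map_comp_assoc, Category.assoc,
    Category.assoc, ← Functor.map_comp, ← Functor.map_comp, ← Functor.map_comp, ← Functor.map_comp, n3]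
  simp only [Functor.map_comp]

lemma isIso_jst_map_unitJ (hq : q.IsMV) (N : S) : IsIso (q.jst.map (q.adjJ.unit.app N)) := by
  have := hq.isIso_counitJ
  have h1 : q.jst.map (q.adjJ.unit.app N) ≫ q.adjJ.counit.app (q.jst.obj N) = 𝟙 _ :=
    q.adjJ.left_triangle_components N
  have h2 : q.jst.map (q.adjJ.unit.app N) = inv (q.adjJ.counit.app (q.jst.obj N)) := by
    rw [← cancel_mono (q.adjJ.counit.app (q.jst.obj N)), h1, IsIso.inv_hom_id]
  rw [h2]
  infer_instance

/-- `j^* f_*` sends maps inverted by `j'^*` to isomorphisms. -/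
lemma isIso_jst_fls_map (hq : q.IsMV) {M M' : S'} (μ : M ⟶ M') [IsIso (q.jpst.map μ)] :
    IsIso (q.jst.map (q.fls.map μ)) := by
  have := hq.isIso_bcApp M
  have := hq.isIso_bcApp M'
  have h : q.jst.map (q.fls.map μ) = q.bcApp M ≫ q.gls.map (q.jpst.map μ) ≫ inv (q.bcApp M') := by
    rw [← Category.assoc, ← bcApp_naturality, Category.assoc, IsIso.hom_inv_id, Category.comp_id]
  rw [h]
  infer_instance

lemma isIso_jst_fls_fst_unitJ (hq : q.IsMV) (N : S) :
    IsIso (q.jst.map (q.fls.map (q.fst.map (q.adjJ.unit.app N)))) := by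
  have := isIso_jst_map_unitJ q hq N
  have n := q.e.hom.naturality (q.adjJ.unit.app N)
  simp only [Functor.comp_obj, Functor.comp_map, Functor.id_obj] at n
  have h : q.jpst.map (q.fst.map (q.adjJ.unit.app N)) =
      q.e.inv.app N ≫ q.gst.map (q.jst.map (q.adjJ.unit.app N)) ≫
        q.e.hom.app (q.jls.obj (q.jst.obj N)) := by
    rw [n, Iso.inv_hom_id_app_assoc]
  have : IsIso (q.jpst.map (q.fst.map (q.adjJ.unit.app N))) := by
    rw [h]
    infer_instance
  exact isIso_jst_fls_map q hq _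

section Split

lemma isIso_of_split_data {R : Type u} [Category.{v} R] [Preadditive R] {N X₁ X₂ A Z Z' : R}
    (u₁ : N ⟶ X₁) (u₂ : N ⟶ X₂) (I₁ : X₁ ⟶ A) (I₂ : X₂ ⟶ A) (P₁ : A ⟶ X₁) (P₂ : A ⟶ X₂)
    (V : A ⟶ Z) (G : Z ⟶ Z') (m : X₂ ⟶ Z') (n : X₁ ⟶ Z') [IsIso u₁] [IsIso m] [Epi V]
    (F2 : (u₁ ≫ I₁ + u₂ ≫ I₂) ≫ V = 0)
    (F3a : I₁ ≫ V ≫ G = n) (F3b : I₂ ≫ V ≫ G = -m) (F4 : u₂ ≫ m = u₁ ≫ n)
    (F6 : P₁ ≫ I₁ + P₂ ≫ I₂ = 𝟙 A) : IsIso G := by
  let ρ : Z' ⟶ Z := -(inv m ≫ I₂ ≫ V)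
  have G1 : ρ ≫ G = 𝟙 _ := by
    simp only [ρ, Preadditive.neg_comp, Category.assoc, F3b, Preadditive.comp_neg, neg_neg,
      IsIso.inv_hom_id]
  have hmρ : m ≫ ρ = -(I₂ ≫ V) := by simp [ρ]
  have hnρ : n ≫ ρ = I₁ ≫ V := by
    rw [← cancel_epi u₁, ← Category.assoc, ← F4, Category.assoc, hmρ, Preadditive.comp_neg]
    rw [Preadditive.add_comp, Category.assoc, Category.assoc] at F2
    exact (eq_neg_of_add_eq_zero_left F2).symm
  have G2 : G ≫ ρ = 𝟙 _ := by
    rw [← cancel_epi V, Category.comp_id]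
    calc V ≫ G ≫ ρ = (P₁ ≫ I₁ + P₂ ≫ I₂) ≫ V ≫ G ≫ ρ := by rw [F6, Category.id_comp]
      _ = P₁ ≫ (I₁ ≫ V ≫ G) ≫ ρ + P₂ ≫ (I₂ ≫ V ≫ G) ≫ ρ := by
        simp only [Preadditive.add_comp, Category.assoc]
      _ = P₁ ≫ I₁ ≫ V + P₂ ≫ I₂ ≫ V := by
        rw [F3a, F3b, hnρ, Preadditive.neg_comp, hmρ, neg_neg]
      _ = V := by
        rw [← Category.assoc, ← Category.assoc, ← Preadditive.add_comp, F6, Category.id_comp]
  exact ⟨ρ, G2, G1⟩

end Split

/-- `j^*` inverts the comparison map from the cone of the first Mayer–Vietoris map. -/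
theorem isIso_jst_map_gamma (hq : q.IsMV) (N : S) {C' : S}
    (a' : q.jls.obj (q.jst.obj N) ⊞ q.fls.obj (q.fst.obj N) ⟶ C')
    (c' : C' ⟶ (shiftFunctor S (1 : ℤ)).obj N)
    (hT : Triangle.mk (mvA q N) a' c' ∈ distTriang S)
    (γ : C' ⟶ q.fls.obj (q.fst.obj (q.jls.obj (q.jst.obj N))))
    (hγ : a' ≫ γ = mvB q N) : IsIso (q.jst.map γ) := by
  have := isIso_jst_map_unitJ q hq N
  have := isIso_jst_fls_fst_unitJ q hq N
  have F5 : Epi (q.jst.map a') := by
    have hT' := q.jst.map_distinguished _ hT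
    have h3 := mor₃_eq_zero_of_retraction _ hT'
      (q.jst.map biprod.fst ≫ q.adjJ.counit.app (q.jst.obj N)) (by
        change q.jst.map (mvA q N) ≫ q.jst.map biprod.fst ≫ _ = 𝟙 _
        rw [← Functor.map_comp_assoc, biprod.lift_fst]
        exact q.adjJ.left_triangle_components N)
    exact Triangle.epi₂ _ hT' h3
  refine isIso_of_split_data (q.jst.map (q.adjJ.unit.app N)) (q.jst.map (q.adjF.unit.app N))
    (q.jst.map biprod.inl) (q.jst.map biprod.inr) (q.jst.map biprod.fst) (q.jst.map biprod.snd)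
    (q.jst.map a') (q.jst.map γ) (q.jst.map (q.fls.map (q.fst.map (q.adjJ.unit.app N))))
    (q.jst.map (q.adjF.unit.app (q.jls.obj (q.jst.obj N)))) ?_ ?_ ?_ ?_ ?_
  · rw [← Functor.map_comp, ← Functor.map_comp, ← Functor.map_add, ← Functor.map_comp,
      ← biprod.lift_eq]
    have h12 : mvA q N ≫ a' = 0 := comp_distTriang_mor_zero₁₂ _ hT
    exact (congrArg q.jst.map h12).trans (Functor.map_zero _ _ _)
  · rw [← Functor.map_comp, ← Functor.map_comp, hγ, biprod.inl_desc]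
  · rw [← Functor.map_comp, ← Functor.map_comp, hγ, biprod.inr_desc, Functor.map_neg]
  · rw [← Functor.map_comp, ← Functor.map_comp]
    congr 1
    exact (q.adjF.unit.naturality (q.adjJ.unit.app N)).symm
  · rw [← Functor.map_comp, ← Functor.map_comp, ← Functor.map_add, biprod.total,
      CategoryTheory.Functor.map_id]

lemma mvA_comp_mvB (N : S) : mvA q N ≫ mvB q N = 0 := by
  rw [biprod.lift_desc, Preadditive.comp_neg, ← sub_eq_add_neg, sub_eq_zero]
  exact q.adjF.unit.naturality (q.adjJ.unit.app N)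

/-- Existence of the Mayer–Vietoris triangle. -/
theorem exists_mv_triangle (hq : q.IsMV) (N : S) :
    ∃ d : q.fls.obj (q.fst.obj (q.jls.obj (q.jst.obj N))) ⟶ (shiftFunctor S (1 : ℤ)).obj N,
      Triangle.mk (mvA q N) (mvB q N) d ∈ distTriang S := by
  obtain ⟨C', a', c', hT⟩ := distinguished_cocone_triangle (mvA q N)
  obtain ⟨γ, hγ⟩ : ∃ γ : C' ⟶ q.fls.obj (q.fst.obj (q.jls.obj (q.jst.obj N))),
      mvB q N = a' ≫ γ := Triangle.yoneda_exact₂ _ hT (mvB q N) (mvA_comp_mvB q N)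
  obtain ⟨Q, g₂, g₃, hTQ⟩ := distinguished_cocone_triangle γ
  have hJ := isIso_jst_map_gamma q hq N a' c' hT γ hγ.symm
  have hQ1 : IsZero (q.jst.obj Q) :=
    (Triangle.isZero₃_iff_isIso₁ _ (q.jst.map_distinguished _ hTQ)).2 hJ
  have hC' : (kerJ q).rightOrthogonal C' := fun W x hW => hom_to_cone_eq_zero q hq N a' c' hT hW x
  have hC : (kerJ q).rightOrthogonal (q.fls.obj (q.fst.obj (q.jls.obj (q.jst.obj N)))) :=
    fun W x hW => hom_to_fls_fst_jls_eq_zero q hq hW _ x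
  have hQ2 : (kerJ q).rightOrthogonal Q :=
    (kerJ q).rightOrthogonal.ext_of_isTriangulatedClosed₃ _ hTQ hC' hC
  have hQ : IsZero Q := by
    rw [IsZero.iff_id_eq_zero]
    exact hQ2 _ hQ1
  have hγiso : IsIso γ := (Triangle.isZero₃_iff_isIso₁ _ hTQ).1 hQ
  refine ⟨inv γ ≫ c', ?_⟩
  refine isomorphic_distinguished _ hT _ (Triangle.isoMk _ _ (Iso.refl _) (Iso.refl _)
    (asIso γ).symm ?_ ?_ ?_)
  · change mvA q N ≫ 𝟙 _ = 𝟙 _ ≫ mvA q N
    rw [Category.comp_id, Category.id_comp]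
  · change mvB q N ≫ inv γ = 𝟙 _ ≫ a'
    rw [hγ, Category.assoc, IsIso.hom_inv_id, Category.comp_id, Category.id_comp]
  · change (inv γ ≫ c') ≫ (shiftFunctor S (1 : ℤ)).map (𝟙 N) = inv γ ≫ c'
    rw [CategoryTheory.Functor.map_id, Category.comp_id]

end Groth.Agent.Lib.Helper8.MVSqLib
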