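import Groth.Agent.Lib.Helper8.MVSq3

/-! Mayer–Vietoris squares: glueing. -/

set_option autoImplicit false
set_option linter.unusedSectionVars false
universe v u

open CategoryTheory CategoryTheory.Limits CategoryTheory.Pretriangulated

namespace Groth.Agent.Lib.Helper8.MVSqLib

open W4c3perfectstacks

section Split

/-- Dual form: in an "exact" situation `X ⟶ Y₁ ⊕ Y₂ ⟶ Z` with the component `Y₂ ⟶ Z` invertible, the
component `X ⟶ Y₁` is invertible. -/
lemma isIso_of_split_data' {R : Type u} [Category.{v} R] [Preadditive R] {X Y₁ Y₂ A Z : R}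
    (x : X ⟶ A) (b : A ⟶ Z) (I₁ : Y₁ ⟶ A) (I₂ : Y₂ ⟶ A) (P₁ : A ⟶ Y₁) (P₂ : A ⟶ Y₂)
    (m : Y₂ ⟶ Z) (n : Y₁ ⟶ Z) [Mono x] [IsIso m] (hm : I₂ ≫ b = m) (hn : I₁ ≫ b = n)
    (hxb : x ≫ b = 0)
    (hex : ∀ φ : Y₁ ⟶ A, φ ≫ b = 0 → ∃ σ : Y₁ ⟶ X, φ = σ ≫ x)
    (h11 : I₁ ≫ P₁ = 𝟙 _) (h21 : I₂ ≫ P₁ = 0)
    (F6 : P₁ ≫ I₁ + P₂ ≫ I₂ = 𝟙 A) : IsIso (x ≫ P₁) := by
  obtain ⟨σ, hσ⟩ := hex (I₁ - n ≫ inv m ≫ I₂) (by
    simp only [Preadditive.sub_comp, Category.assoc, hm, hn, IsIso.inv_hom_id, Category.comp_id,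
      sub_self])
  have G1 : σ ≫ x ≫ P₁ = 𝟙 _ := by
    rw [← Category.assoc, ← hσ]
    simp only [Preadditive.sub_comp, Category.assoc, h11, h21, comp_zero, sub_zero]
  have hxP : x ≫ P₁ ≫ n = -(x ≫ P₂ ≫ m) := by
    have : x ≫ (P₁ ≫ I₁ + P₂ ≫ I₂) ≫ b = 0 := by rw [F6, Category.id_comp, hxb]
    simp only [Preadditive.add_comp, Preadditive.comp_add, Category.assoc, hm, hn] at this
    exact eq_neg_of_add_eq_zero_left this
  have G2 : (x ≫ P₁) ≫ σ = 𝟙 _ := by
    rw [← cancel_mono x, Category.assoc, Category.assoc, ← hσ, Category.id_comp,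
      Preadditive.comp_sub, Preadditive.comp_sub]
    have h1 : x ≫ P₁ ≫ n ≫ inv m ≫ I₂ = -(x ≫ P₂ ≫ I₂) := by
      have := congrArg (fun t => t ≫ inv m ≫ I₂) hxP
      simpa only [Preadditive.neg_comp, Category.assoc, IsIso.hom_inv_id_assoc] using this
    rw [h1, sub_neg_eq_add, ← Preadditive.comp_add, F6, Category.comp_id]
  exact ⟨σ, G2, G1⟩

end Split

section General

variable {C : Type u} [Category.{v} C] [Preadditive C] [HasZeroObject C] [HasShift C ℤ]
  [∀ n : ℤ, (shiftFunctor C n).Additive] [Pretriangulated C]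

lemma mor₃_eq_zero_of_section (T : Triangle C) (hT : T ∈ distTriang C)
    (s : T.obj₃ ⟶ T.obj₂) (hs : s ≫ T.mor₂ = 𝟙 _) : T.mor₃ = 0 := by
  have h : T.mor₂ ≫ T.mor₃ = 0 := comp_distTriang_mor_zero₂₃ _ hT
  calc T.mor₃ = s ≫ T.mor₂ ≫ T.mor₃ := by rw [← Category.assoc, hs, Category.id_comp]
    _ = 0 := by rw [h, comp_zero]

/-- If the cone of `β` lies in a shift-stable class `P` and `β` induces bijections on maps from objects
of `P`, then `β` is an isomorphism. -/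
theorem isIso_of_cone_mem_of_bijective (P : ObjectProperty C) [P.IsStableUnderShift ℤ]
    {X Y Q : C} (β : X ⟶ Y) (g₂ : Y ⟶ Q) (g₃ : Q ⟶ (shiftFunctor C (1 : ℤ)).obj X)
    (hT : Triangle.mk β g₂ g₃ ∈ distTriang C) (hQ : P Q)
    (hβ : ∀ W : C, P W → Function.Bijective (fun y : W ⟶ X => y ≫ β)) : IsIso β := by
  have h31 : g₃ ≫ (shiftFunctor C (1 : ℤ)).map β = 0 := comp_distTriang_mor_zero₃₁ _ hT
  have hg₃ : g₃ = 0 := by
    let W' : C := (shiftFunctor C (-1 : ℤ)).obj Q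
    have hW' : P W' := P.le_shift (-1 : ℤ) Q hQ
    let φ : (shiftFunctor C (1 : ℤ)).obj W' ≅ Q := (shiftEquiv C (1 : ℤ)).counitIso.app Q
    obtain ⟨z, hz⟩ : ∃ z : W' ⟶ X, (shiftFunctor C (1 : ℤ)).map z = φ.hom ≫ g₃ :=
      ⟨(shiftFunctor C (1 : ℤ)).preimage (φ.hom ≫ g₃), Functor.map_preimage _ _⟩
    have h1 : (shiftFunctor C (1 : ℤ)).map (z ≫ β) = 0 := by
      rw [Functor.map_comp, hz, Category.assoc, h31, comp_zero]
    have h2 : z ≫ β = 0 :=
      (shiftFunctor C (1 : ℤ)).map_injective (h1.trans ((shiftFunctor C (1 : ℤ)).map_zero _ _).symm)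
    have h3 : z = 0 := (hβ W' hW').1 (h2.trans zero_comp.symm)
    rw [h3, Functor.map_zero] at hz
    rw [← cancel_epi φ.hom, ← hz, comp_zero]
  obtain ⟨y, hy⟩ : ∃ y : Q ⟶ Y, 𝟙 Q = y ≫ g₂ :=
    Triangle.coyoneda_exact₃ _ hT (𝟙 Q) (by
      change 𝟙 Q ≫ g₃ = 0
      rw [hg₃, comp_zero])
  obtain ⟨y₀, hy₀⟩ := (hβ Q hQ).2 y
  change y₀ ≫ β = y at hy₀
  have h12 : β ≫ g₂ = 0 := comp_distTriang_mor_zero₁₂ _ hT
  have hid : 𝟙 Q = 0 := by rw [hy, ← hy₀, Category.assoc, h12, comp_zero]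
  exact (Triangle.isZero₃_iff_isIso₁ _ hT).1 ((IsZero.iff_id_eq_zero Q).2 hid)

end General

variable {S S' R R' : Type u} [Category.{v} S] [Category.{v} S'] [Category.{v} R] [Category.{v} R']
    [Preadditive S] [Preadditive S'] [Preadditive R] [Preadditive R']
    [HasZeroObject S] [HasZeroObject S'] [HasZeroObject R] [HasZeroObject R']
    [HasShift S ℤ] [HasShift S' ℤ] [HasShift R ℤ] [HasShift R' ℤ]
    [∀ n : ℤ, (shiftFunctor S n).Additive] [∀ n : ℤ, (shiftFunctor S' n).Additive]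
    [∀ n : ℤ, (shiftFunctor R n).Additive] [∀ n : ℤ, (shiftFunctor R' n).Additive]
    [Pretriangulated S] [Pretriangulated S'] [Pretriangulated R] [Pretriangulated R']
    (q : MVSq S S' R R')
    [q.jst.CommShift ℤ] [q.fst.CommShift ℤ] [q.jpst.CommShift ℤ] [q.gst.CommShift ℤ]
    [q.jst.IsTriangulated] [q.fst.IsTriangulated] [q.jpst.IsTriangulated] [q.gst.IsTriangulated]

/-- The kernel of `j'^*`. -/
def kerJp : ObjectProperty S' := fun W => IsZero (q.jpst.obj W)

instance : (kerJp q).IsStableUnderShift ℤ where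
  isStableUnderShiftBy n := ⟨fun W hW =>
    IsZero.of_iso ((shiftFunctor R' n).map_isZero hW) ((q.jpst.commShiftIso n).app W)⟩

variable (NU : R) (N' : S') (δ : q.jpst.obj N' ≅ q.gst.obj NU)

/-- The map `N' ⟶ j'_* g^* N_U` adjoint to `δ`. -/
noncomputable abbrev glMu : N' ⟶ q.jpls.obj (q.gst.obj NU) :=
  q.adjJp.unit.app N' ≫ q.jpls.map δ.hom

/-- The second map of the glueing triangle. -/
noncomputable abbrev glB : q.jls.obj NU ⊞ q.fls.obj N' ⟶ q.fls.obj (q.jpls.obj (q.gst.obj NU)) :=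
  biprod.desc (q.adjF.unit.app (q.jls.obj NU) ≫ q.fls.map (q.bc2App NU))
    (-(q.fls.map (q.adjJp.unit.app N' ≫ q.jpls.map δ.hom)))

lemma glMu_adj : (q.adjJp.homEquiv N' (q.gst.obj NU)).symm (glMu q NU N' δ) = δ.hom := by
  rw [Equiv.symm_apply_eq, Adjunction.homEquiv_unit]

lemma isIso_jpst_map_glMu (hq : q.IsMV) : IsIso (q.jpst.map (glMu q NU N' δ)) := by
  have := hq.isIso_counitJp
  have h := glMu_adj q NU N' δ
  rw [Adjunction.homEquiv_counit] at h
  have h2 : q.jpst.map (glMu q NU N' δ) = δ.hom ≫ inv (q.adjJp.counit.app (q.gst.obj NU)) := by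
    rw [← h, Category.assoc, IsIso.hom_inv_id, Category.comp_id]
  rw [h2]
  infer_instance

variable {NU N' δ} {N : S} (a : N ⟶ q.jls.obj NU ⊞ q.fls.obj N')
    (d : q.fls.obj (q.jpls.obj (q.gst.obj NU)) ⟶ (shiftFunctor S (1 : ℤ)).obj N)

/-- First half of glueing: `j^* N ≅ N_U`. -/
theorem isIso_glue_alpha (hq : q.IsMV)
    (hT : Triangle.mk a (glB q NU N' δ) d ∈ distTriang S) :
    IsIso ((q.adjJ.homEquiv N NU).symm (a ≫ biprod.fst)) := by
  have := hq.isIso_counitJ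
  have hμ := isIso_jpst_map_glMu q NU N' δ hq
  have hm : IsIso (q.jst.map (q.fls.map (glMu q NU N' δ))) := isIso_jst_fls_map q hq _
  have hm' : IsIso (-(q.jst.map (q.fls.map (glMu q NU N' δ)))) := by
    have : -(q.jst.map (q.fls.map (glMu q NU N' δ))) =
        q.jst.map (q.fls.map (glMu q NU N' δ)) ≫ (-𝟙 _) := by
      rw [Preadditive.comp_neg, Category.comp_id]
    rw [this]
    have : IsIso (-𝟙 (q.jst.obj (q.fls.obj (q.jpls.obj (q.gst.obj NU))))) :=
      ⟨-𝟙 _, by simp, by simp⟩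
    infer_instance
  have hT' := q.jst.map_distinguished _ hT
  have hI₂b : q.jst.map (biprod.inr : q.fls.obj N' ⟶ q.jls.obj NU ⊞ q.fls.obj N') ≫
      q.jst.map (glB q NU N' δ) = -(q.jst.map (q.fls.map (glMu q NU N' δ))) := by
    rw [← Functor.map_comp, biprod.inr_desc, Functor.map_neg]
  obtain ⟨s, hs⟩ : ∃ s : q.jst.obj (q.fls.obj (q.jpls.obj (q.gst.obj NU))) ⟶
      q.jst.obj (q.jls.obj NU ⊞ q.fls.obj N'), s ≫ q.jst.map (glB q NU N' δ) = 𝟙 _ :=
    ⟨inv (-(q.jst.map (q.fls.map (glMu q NU N' δ)))) ≫ q.jst.map biprod.inr, by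
      rw [Category.assoc, hI₂b, IsIso.inv_hom_id]⟩
  have h3 : (q.jst.mapTriangle.obj (Triangle.mk a (glB q NU N' δ) d)).mor₃ = 0 :=
    mor₃_eq_zero_of_section _ hT' s hs
  have hmono : Mono (q.jst.map a) := Triangle.mono₁ _ hT' h3
  have key : IsIso (q.jst.map a ≫ q.jst.map biprod.fst) := by
    refine isIso_of_split_data' (q.jst.map a) (q.jst.map (glB q NU N' δ))
      (q.jst.map biprod.inl) (q.jst.map biprod.inr) (q.jst.map biprod.fst) (q.jst.map biprod.snd)
      (-(q.jst.map (q.fls.map (glMu q NU N' δ)))) _ hI₂b rfl ?_ ?_ ?_ ?_ ?_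
    · rw [← Functor.map_comp]
      have h12 : a ≫ glB q NU N' δ = 0 := comp_distTriang_mor_zero₁₂ _ hT
      exact (congrArg q.jst.map h12).trans (Functor.map_zero _ _ _)
    · intro φ hφ
      obtain ⟨σ, hσ⟩ := Triangle.coyoneda_exact₂ _ hT' φ hφ
      exact ⟨σ, hσ⟩
    · rw [← Functor.map_comp, biprod.inl_fst, CategoryTheory.Functor.map_id]
    · rw [← Functor.map_comp, biprod.inr_fst, Functor.map_zero]
    · rw [← Functor.map_comp, ← Functor.map_comp, ← Functor.map_add, biprod.total,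
        CategoryTheory.Functor.map_id]
  rw [Adjunction.homEquiv_counit, Functor.map_comp]
  infer_instance

lemma hom_to_fls_jpls_eq_zero {W : S} (hW : IsZero (q.jst.obj W)) (P : R')
    (g : W ⟶ q.fls.obj (q.jpls.obj P)) : g = 0 := by
  apply (q.adjF.homEquiv _ _).symm.injective
  exact (hom_to_jpls_eq_zero q (isZero_jpst_fst q hW) _).trans
    (hom_to_jpls_eq_zero q (isZero_jpst_fst q hW) _).symm

theorem comp_a_snd_bijective (hT : Triangle.mk a (glB q NU N' δ) d ∈ distTriang S)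
    {W : S} (hW : IsZero (q.jst.obj W)) :
    Function.Bijective (fun g : W ⟶ N => g ≫ a ≫ biprod.snd) := by
  have B1 : Function.Bijective (fun g : W ⟶ N => g ≫ a) :=
    bijective_comp_mor₁ _ hT W (fun g => hom_to_fls_jpls_eq_zero q hW _ g)
      (fun g => hom_to_fls_jpls_eq_zero q (isZero_jst_shift q hW) _ g)
  constructor
  · intro g g' h
    change g ≫ a ≫ biprod.snd = g' ≫ a ≫ biprod.snd at h
    apply B1.1
    change g ≫ a = g' ≫ a
    apply biprod.hom_ext
    · exact (hom_to_jls_eq_zero q hW _).trans (hom_to_jls_eq_zero q hW _).symm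
    · rw [Category.assoc, Category.assoc, h]
  · intro h
    obtain ⟨g, hg⟩ := B1.2 (h ≫ biprod.inr)
    change g ≫ a = h ≫ biprod.inr at hg
    refine ⟨g, ?_⟩
    change g ≫ a ≫ biprod.snd = h
    rw [← Category.assoc, hg, Category.assoc, biprod.inr_snd, Category.comp_id]

theorem comp_beta_bijective (hq : q.IsMV)
    (hT : Triangle.mk a (glB q NU N' δ) d ∈ distTriang S)
    {W' : S'} (hW' : IsZero (q.jpst.obj W')) :
    Function.Bijective (fun y : W' ⟶ q.fst.obj N =>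
      y ≫ (q.adjF.homEquiv N N').symm (a ≫ biprod.snd)) := by
  have hε := hq.isIso_counitF W' hW'
  have hW : IsZero (q.jst.obj (q.fls.obj W')) := isZero_jst_fls q hq hW'
  have B := fst_map_bijective q hq W' hW' N
  have B2 := comp_a_snd_bijective q a d hT hW
  have key : ∀ g : q.fls.obj W' ⟶ N, q.fst.map g ≫ (q.adjF.homEquiv N N').symm (a ≫ biprod.snd) =
      (q.adjF.homEquiv _ _).symm (g ≫ a ≫ biprod.snd) := by
    intro g
    exact (Adjunction.homEquiv_naturality_left_symm _ _ _).symm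
  constructor
  · intro y y' h
    change y ≫ _ = y' ≫ _ at h
    obtain ⟨g, hg⟩ := B.2 (q.adjF.counit.app W' ≫ y)
    obtain ⟨g', hg'⟩ := B.2 (q.adjF.counit.app W' ≫ y')
    change q.fst.map g = _ at hg
    change q.fst.map g' = _ at hg'
    have h1 : g ≫ a ≫ biprod.snd = g' ≫ a ≫ biprod.snd := by
      apply (q.adjF.homEquiv _ _).symm.injective
      rw [← key, ← key, hg, hg', Category.assoc, Category.assoc, h]
    have h2 : g = g' := B2.1 h1
    rw [← cancel_epi (q.adjF.counit.app W'), ← hg, ← hg', h2]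
  · intro h
    obtain ⟨g, hg⟩ := B2.2 ((q.adjF.homEquiv _ _) (q.adjF.counit.app W' ≫ h))
    change g ≫ a ≫ biprod.snd = _ at hg
    refine ⟨inv (q.adjF.counit.app W') ≫ q.fst.map g, ?_⟩
    change (inv (q.adjF.counit.app W') ≫ q.fst.map g) ≫ _ = h
    rw [Category.assoc, key, hg, Equiv.symm_apply_apply, IsIso.inv_hom_id_assoc]

theorem jpst_map_beta (hT : Triangle.mk a (glB q NU N' δ) d ∈ distTriang S) :
    q.jpst.map ((q.adjF.homEquiv N N').symm (a ≫ biprod.snd)) ≫ δ.hom =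
      q.e.inv.app N ≫ q.gst.map ((q.adjJ.homEquiv N NU).symm (a ≫ biprod.fst)) := by
  have h12 : a ≫ glB q NU N' δ = 0 := comp_distTriang_mor_zero₁₂ _ hT
  have E0 : (a ≫ biprod.fst) ≫ q.adjF.unit.app (q.jls.obj NU) ≫ q.fls.map (q.bc2App NU) =
      (a ≫ biprod.snd) ≫ q.fls.map (glMu q NU N' δ) := by
    unfold glB at h12
    rw [biprod.desc_eq, Preadditive.comp_add, Preadditive.comp_neg, Preadditive.comp_neg,
      ← sub_eq_add_neg, sub_eq_zero] at h12
    simpa only [Category.assoc] using h12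
  have E1 : q.fst.map (a ≫ biprod.fst) ≫ q.bc2App NU =
      (q.adjF.homEquiv N N').symm (a ≫ biprod.snd) ≫ glMu q NU N' δ := by
    have := congrArg (q.adjF.homEquiv N _).symm E0
    rw [Adjunction.homEquiv_naturality_left_symm, Adjunction.homEquiv_naturality_right_symm,
      Adjunction.homEquiv_naturality_right_symm] at this
    rw [← this]
    congr 1
    rw [Adjunction.homEquiv_counit, q.adjF.left_triangle_components, Category.id_comp]
  have E2 := congrArg (q.adjJp.homEquiv _ _).symm E1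
  rw [Adjunction.homEquiv_naturality_left_symm, Adjunction.homEquiv_naturality_left_symm,
    glMu_adj] at E2
  rw [← E2]
  have hbc : (q.adjJp.homEquiv _ _).symm (q.bc2App NU) =
      q.e.inv.app (q.jls.obj NU) ≫ q.gst.map (q.adjJ.counit.app NU) := by
    rw [Equiv.symm_apply_eq, Adjunction.homEquiv_unit, Functor.map_comp]
    rfl
  rw [hbc, Adjunction.homEquiv_counit, q.gst.map_comp]
  have n := q.e.inv.naturality (a ≫ biprod.fst)
  simp only [Functor.comp_obj, Functor.comp_map] at n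
  rw [reassoc_of% n]

/-- Second half of glueing: `f^* N ≅ N'`. -/
theorem isIso_glue_beta (hq : q.IsMV)
    (hT : Triangle.mk a (glB q NU N' δ) d ∈ distTriang S) :
    IsIso ((q.adjF.homEquiv N N').symm (a ≫ biprod.snd)) := by
  have hα := isIso_glue_alpha q a d hq hT
  obtain ⟨Q, g₂, g₃, hTQ⟩ := distinguished_cocone_triangle
    ((q.adjF.homEquiv N N').symm (a ≫ biprod.snd))
  have hjβ : IsIso (q.jpst.map ((q.adjF.homEquiv N N').symm (a ≫ biprod.snd))) := by
    have h := jpst_map_beta q a d hT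
    have h2 : q.jpst.map ((q.adjF.homEquiv N N').symm (a ≫ biprod.snd)) =
        (q.e.inv.app N ≫ q.gst.map ((q.adjJ.homEquiv N NU).symm (a ≫ biprod.fst))) ≫ δ.inv := by
      rw [← h, Category.assoc, Iso.hom_inv_id, Category.comp_id]
    rw [h2]
    infer_instance
  have hQ : kerJp q Q :=
    (Triangle.isZero₃_iff_isIso₁ _ (q.jpst.map_distinguished _ hTQ)).2 hjβ
  exact isIso_of_cone_mem_of_bijective (kerJp q) _ g₂ g₃ hTQ hQ
    (fun W hW => comp_beta_bijective q a d hq hT hW)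

end Groth.Agent.Lib.Helper8.MVSqLib
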