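import Groth.Agent.Lib.Helper8.MVSq3
import Groth.Agent.Lib.Helper8.Compact2

/-! Mayer–Vietoris squares: compactness is detected on the three pullbacks. -/

set_option autoImplicit false
set_option linter.unusedSectionVars false
universe v u

open CategoryTheory CategoryTheory.Limits CategoryTheory.Pretriangulated

namespace Groth.Agent.Lib.Helper8.MVSqLib

open W4c3perfectstacks Groth.Agent.Lib.Helper8.Compact

section General

variable {D D' : Type u} [Category.{v} D] [Category.{v} D'] [Preadditive D] [Preadditive D']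
  [HasZeroObject D'] [HasShift D' ℤ]
  [∀ n : ℤ, (shiftFunctor D' n).Additive] [Pretriangulated D']
  [HasCoproducts.{v} D] [HasCoproducts.{v} D']

lemma sigmaComparison_comp_map_cS' (F : D ⥤ D') [F.PreservesZeroMorphisms] {κ : Type v} (X : κ → D)
    (S : Finset κ) :
    sigmaComparison F X ≫ F.map (cS X S) = cS (fun j => F.obj (X j)) S ≫ sigmaComparison F X := by
  classical
  apply Sigma.hom_ext
  intro j
  rw [ι_comp_sigmaComparison_assoc, ← F.map_comp, ι_cS, ι_cS_assoc]
  split_ifs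
  · simp
  · simp

/-- A map from a compact object to the image of a coproduct under a coproduct-preserving functor is
killed by the image of a cofinite projector. -/
lemma exists_cS_of_compact_map (F : D ⥤ D') [F.PreservesZeroMorphisms] {κ : Type v} (X : κ → D)
    [PreservesColimit (Discrete.functor X) F] {K : D'} (hK : CohDer.IsCompactObject K)
    (θ : K ⟶ F.obj (∐ X)) : ∃ S : Finset κ, θ ≫ F.map (cS X S) = 0 := by
  obtain ⟨x, hx⟩ := (hK κ (fun j => F.obj (X j))).2 (θ ≫ inv (sigmaComparison F X))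
  obtain ⟨S, hS⟩ := exists_cS_of_directSum K _ x
  refine ⟨S, ?_⟩
  have h1 : θ = CohDer.homSumToHomCoprod K (fun j => F.obj (X j)) x ≫ sigmaComparison F X := by
    rw [hx]; simp
  rw [h1, Category.assoc, sigmaComparison_comp_map_cS', ← Category.assoc, hS, zero_comp]

lemma isCompactObject_of_unshifted {K : D}
    (hK : ∀ (κ : Type v) (X : κ → D) (θ : K ⟶ ∐ X), ∃ S : Finset κ, θ ≫ cS X S = 0) :
    CohDer.IsCompactObject K := by
  classical
  intro κ X
  refine ⟨homSumToHomCoprod_injective K X, fun θ => ?_⟩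
  obtain ⟨S, hS⟩ := hK κ X θ
  exact ⟨_, (homSumToHomCoprod_sum K X θ S).trans (eq_comp_eS_of_comp_cS_eq_zero X θ S hS)⟩

end General

variable {S S' R R' : Type u} [Category.{v} S] [Category.{v} S'] [Category.{v} R] [Category.{v} R']
    [Preadditive S] [Preadditive S'] [Preadditive R] [Preadditive R']
    [HasZeroObject S] [HasZeroObject S'] [HasZeroObject R] [HasZeroObject R']
    [HasShift S ℤ] [HasShift S' ℤ] [HasShift R ℤ] [HasShift R' ℤ]
    [∀ n : ℤ, (shiftFunctor S n).Additive] [∀ n : ℤ, (shiftFunctor S' n).Additive]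
    [∀ n : ℤ, (shiftFunctor R n).Additive] [∀ n : ℤ, (shiftFunctor R' n).Additive]
    [Pretriangulated S] [Pretriangulated S'] [Pretriangulated R] [Pretriangulated R']
    (q : MVSq S S' R R')
    [q.jst.CommShift ℤ] [q.fst.CommShift ℤ] [q.jpst.CommShift ℤ] [q.gst.CommShift ℤ]
    [q.jst.IsTriangulated] [q.fst.IsTriangulated] [q.jpst.IsTriangulated] [q.gst.IsTriangulated]

/-- Naturality of the exchange map. -/
lemma bc2App_naturality {P P' : R} (p : P ⟶ P') :
    q.fst.map (q.jls.map p) ≫ q.bc2App P' = q.bc2App P ≫ q.jpls.map (q.gst.map p) := by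
  have n1 := q.adjJp.unit.naturality (q.fst.map (q.jls.map p))
  have n2 := q.e.inv.naturality (q.jls.map p)
  have n3 := q.adjJ.counit.naturality p
  simp only [Functor.id_obj, Functor.comp_obj, Functor.id_map, Functor.comp_map] at n1 n2 n3
  unfold MVSq.bc2App
  rw [reassoc_of% n1, ← Functor.map_comp_assoc, n2, Functor.map_comp_assoc, Category.assoc,
    Category.assoc, ← Functor.map_comp, ← Functor.map_comp, ← Functor.map_comp, ← Functor.map_comp, n3]
  simp only [Functor.map_comp]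

/-- The chain of adjunctions `Hom(Z, f_* f^* j_* P) ≃ Hom(j'^* f^* Z, g^* P)`. -/
noncomputable def chain (Z : S) (P : R) (ψ : Z ⟶ q.fls.obj (q.fst.obj (q.jls.obj P))) :
    q.jpst.obj (q.fst.obj Z) ⟶ q.gst.obj P :=
  (q.adjJp.homEquiv _ _).symm ((q.adjF.homEquiv _ _).symm ψ ≫ q.bc2App P)

lemma chain_comp {Z : S} {P P' : R} (ψ : Z ⟶ q.fls.obj (q.fst.obj (q.jls.obj P))) (p : P ⟶ P') :
    chain q Z P' (ψ ≫ q.fls.map (q.fst.map (q.jls.map p))) = chain q Z P ψ ≫ q.gst.map p := by
  unfold chain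
  rw [Adjunction.homEquiv_naturality_right_symm, Category.assoc, bc2App_naturality,
    ← Category.assoc, Adjunction.homEquiv_naturality_right_symm]

lemma eq_zero_of_chain_eq_zero (hq : q.IsMV) {Z : S} {P : R}
    (ψ : Z ⟶ q.fls.obj (q.fst.obj (q.jls.obj P))) (h : chain q Z P ψ = 0) : ψ = 0 := by
  have := hq.isIso_bc2App P
  unfold chain at h
  have h1 : (q.adjF.homEquiv _ _).symm ψ ≫ q.bc2App P = 0 := by
    apply (q.adjJp.homEquiv _ _).symm.injective
    rw [h, Adjunction.homEquiv_counit, Functor.map_zero, zero_comp]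
  have h2 : (q.adjF.homEquiv _ _).symm ψ = 0 := by
    rw [← cancel_mono (q.bc2App P), h1, zero_comp]
  apply (q.adjF.homEquiv _ _).symm.injective
  rw [h2, Adjunction.homEquiv_counit, Functor.map_zero, zero_comp]

variable [HasCoproducts.{v} S] [HasCoproducts.{v} S'] [HasCoproducts.{v} R] [HasCoproducts.{v} R']

theorem isCompactObject_of_pullbacks (hq : q.IsMV) (N : S)
    (hU : CohDer.IsCompactObject (q.jst.obj N)) (hX' : CohDer.IsCompactObject (q.fst.obj N))
    (hU' : CohDer.IsCompactObject (q.gst.obj (q.jst.obj N)))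
    (dnat : ∀ (M : S) (φ : M ⟶ M)
      (d : q.fls.obj (q.fst.obj (q.jls.obj (q.jst.obj M))) ⟶ (shiftFunctor S (1 : ℤ)).obj M)
      (_ : Triangle.mk (mvA q M) (mvB q M) d ∈ distTriang S),
      d ≫ (shiftFunctor S (1 : ℤ)).map φ = q.fls.map (q.fst.map (q.jls.map (q.jst.map φ))) ≫ d) :
    CohDer.IsCompactObject N := by
  classical
  apply isCompactObject_of_unshifted
  intro κ X θ
  have : PreservesColimitsOfSize.{v, v} q.jst := q.adjJ.leftAdjoint_preservesColimits
  have : PreservesColimitsOfSize.{v, v} q.fst := q.adjF.leftAdjoint_preservesColimits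
  have : PreservesColimitsOfSize.{v, v} q.gst := q.adjG.leftAdjoint_preservesColimits
  obtain ⟨S₁, h₁⟩ := exists_cS_of_compact_map q.jst X hU (q.jst.map θ)
  obtain ⟨S₂, h₂⟩ := exists_cS_of_compact_map q.fst X hX' (q.fst.map θ)
  obtain ⟨θ₀, hθ₀⟩ : ∃ θ₀ : N ⟶ ∐ X, θ₀ = θ ≫ cS X (S₁ ∪ S₂) := ⟨_, rfl⟩
  have hj : q.jst.map θ₀ = 0 := by
    rw [hθ₀, ← cS_comp_cS, ← Category.assoc, Functor.map_comp, Functor.map_comp, h₁, zero_comp]
  have hf : q.fst.map θ₀ = 0 := by
    rw [hθ₀, Finset.union_comm, ← cS_comp_cS, ← Category.assoc, Functor.map_comp, Functor.map_comp,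
      h₂, zero_comp]
  have hA : θ₀ ≫ mvA q (∐ X) = 0 := by
    apply biprod.hom_ext
    · rw [Category.assoc, biprod.lift_fst, zero_comp]
      apply (q.adjJ.homEquiv _ _).symm.injective
      rw [Adjunction.homEquiv_naturality_left_symm, hj, zero_comp, Adjunction.homEquiv_counit,
        Functor.map_zero, zero_comp]
    · rw [Category.assoc, biprod.lift_snd, zero_comp]
      apply (q.adjF.homEquiv _ _).symm.injective
      rw [Adjunction.homEquiv_naturality_left_symm, hf, zero_comp, Adjunction.homEquiv_counit,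
        Functor.map_zero, zero_comp]
  obtain ⟨d, hd⟩ := exists_mv_triangle q hq (∐ X)
  obtain ⟨ψ, hψ⟩ : ∃ ψ : (shiftFunctor S (1 : ℤ)).obj N ⟶
      q.fls.obj (q.fst.obj (q.jls.obj (q.jst.obj (∐ X)))),
      (shiftFunctor S (1 : ℤ)).map θ₀ = ψ ≫ d :=
    Triangle.coyoneda_exact₁ _ hd ((shiftFunctor S (1 : ℤ)).map θ₀) (by
      change (shiftFunctor S (1 : ℤ)).map θ₀ ≫ (shiftFunctor S (1 : ℤ)).map (mvA q _) = 0
      rw [← Functor.map_comp, hA, Functor.map_zero])
  have hK : CohDer.IsCompactObject (q.jpst.obj (q.fst.obj ((shiftFunctor S (1 : ℤ)).obj N))) := by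
    have h1 : FF (q.gst.obj (q.jst.obj N)) := FF_of_isCompactObject hU'
    have h2 : FF ((shiftFunctor R' (1 : ℤ)).obj (q.gst.obj (q.jst.obj N))) :=
      (FF (D := R')).le_shift (1 : ℤ) _ h1
    have e1 : (shiftFunctor R' (1 : ℤ)).obj (q.gst.obj (q.jst.obj N)) ≅
        q.jpst.obj (q.fst.obj ((shiftFunctor S (1 : ℤ)).obj N)) :=
      ((q.gst.commShiftIso (1 : ℤ)).app _).symm ≪≫
        q.gst.mapIso ((q.jst.commShiftIso (1 : ℤ)).app N).symm ≪≫ q.e.app _
    exact isCompactObject_of_FF ((FF (D := R')).prop_of_iso e1 h2)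
  obtain ⟨S₃, h₃⟩ := exists_cS_of_compact_map (q.jst ⋙ q.gst) X hK (chain q _ _ ψ)
  have hψ0 : ψ ≫ q.fls.map (q.fst.map (q.jls.map (q.jst.map (cS X S₃)))) = 0 := by
    apply eq_zero_of_chain_eq_zero q hq
    rw [chain_comp]
    exact h₃
  refine ⟨S₁ ∪ S₂ ∪ S₃, ?_⟩
  rw [← cS_comp_cS, ← Category.assoc, ← hθ₀]
  apply (shiftFunctor S (1 : ℤ)).map_injective
  rw [Functor.map_comp, Functor.map_zero, hψ, Category.assoc, dnat _ _ d hd, reassoc_of% hψ0,
    zero_comp]

end Groth.Agent.Lib.Helper8.MVSqLib
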