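import Groth.Agent.Lib.Helper8.TowerCx

/-!
# Helper8: towers of cochain complexes of abelian groups — core Mittag-Leffler lemmas (S6807)
-/

universe u

open CategoryTheory CategoryTheory.Limits HomologicalComplex

namespace Groth.Agent.Lib.Helper8.TowerCx

open Groth.Agent.Lib.Helper8.AbEl

variable (A : ℕ → CochainComplex AddCommGrpCat.{u} ℤ) (τ : ∀ n, A (n + 1) ⟶ A n) (m : ℤ)

/-- injectivity core: a compatible family of boundaries is the boundary of a compatible family -/
theorem inj_core
    (ha : CohCx.LimOneIsZero (fun n => (A n).X (m - 2)) (fun n => t A τ n (m - 2)))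
    (hb : CohCx.LimOneIsZero (fun n => (A n).homology (m - 1))
      (fun n => (homologyMap (τ n) (m - 1)).hom))
    (x : ∀ n, (A n).X m)
    (hc : ∀ n, t A τ n m (x (n + 1)) = x n) (hall : ∀ n, ∃ y, dd A n (m - 1) m y = x n) :
    ∃ w : ∀ n, (A n).X (m - 1), (∀ n, t A τ n (m - 1) (w (n + 1)) = w n) ∧
      ∀ n, dd A n (m - 1) m (w n) = x n := by
  choose y hy using hall
  have hw : ∀ n, dd A n (m - 1) (m - 1 + 1) (t A τ n (m - 1) (y (n + 1)) - y n) = 0 := by
    intro n
    apply dd_eq_zero_of_eq A n (m - 1) m (m - 1 + 1) (by omega)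
    rw [map_sub, ← t_dd, hy, hy, hc, sub_self]
  obtain ⟨c, hc1, hc2⟩ := limOne_cycles A τ m ha hb _ hw
  refine ⟨fun n => y n + c n, fun n => ?_, fun n => ?_⟩
  · have := hc2 n
    rw [map_add]
    have h3 : t A τ n (m - 1) (y (n + 1)) + t A τ n (m - 1) (c (n + 1)) =
        (t A τ n (m - 1) (y (n + 1)) - y n) - (c n - t A τ n (m - 1) (c (n + 1))) + (y n + c n) := by
      abel
    rw [h3, this, sub_self, zero_add]
  · rw [map_add, hy]
    have := dd_eq_zero_of_eq A n (m - 1) (m - 1 + 1) m (by omega) (c n) (hc1 n)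
    rw [this, add_zero]

/-- surjectivity core: a compatible family of classes is represented by a compatible family of
cycles -/
theorem surj_core
    (ha : CohCx.LimOneIsZero (fun n => (A n).X (m - 1)) (fun n => t A τ n (m - 1)))
    (h : ∀ n, (A n).homology m) (hh1 : ∀ n, (homologyMap (τ n) m).hom (h (n + 1)) = h n) :
    ∃ (x : ∀ n, (A n).X m) (hx : ∀ n, dd A n m (m + 1) (x n) = 0),
      (∀ n, t A τ n m (x (n + 1)) = x n) ∧ ∀ n, cls (A n) (x n) (hx n) = h n := by
  have hrep : ∀ n, ∃ (x' : (A n).X m) (hx' : dd A n m (m + 1) x' = 0),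
      cls (A n) x' hx' = h n := fun n => cls_surjective (A n) (h n)
  choose x' hx' hcls using hrep
  have hcyc : ∀ n, dd A n m (m + 1) (t A τ n m (x' (n + 1)) - x' n) = 0 := by
    intro n
    rw [map_sub, ← t_dd, hx', hx', map_zero, sub_zero]
  have hbd : ∀ n, ∃ b : (A n).X (m - 1), dd A n (m - 1) m b = t A τ n m (x' (n + 1)) - x' n := by
    intro n
    apply (cls_eq_zero_iff (A n) (m - 1) (by omega) _ (hcyc n)).1
    have hτ : dd A n m (m + 1) (t A τ n m (x' (n + 1))) = 0 := by rw [← t_dd, hx', map_zero]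
    have key : cls (A n) (t A τ n m (x' (n + 1))) hτ =
        cls (A n) (t A τ n m (x' (n + 1)) - x' n) (hcyc n) + cls (A n) (x' n) (hx' n) := by
      rw [← cls_add]
      congr 1
      abel
    have e2 : cls (A n) (t A τ n m (x' (n + 1))) hτ = h n := by
      rw [← hh1 n, ← hcls (n + 1), homologyMap_cls]
    rw [e2, hcls] at key
    have := key
    rw [eq_comm, add_eq_right] at this
    exact this
  choose b hb using hbd
  obtain ⟨a, haa⟩ := ha b
  have ha' : ∀ n, a n - t A τ n (m - 1) (a (n + 1)) = b n := fun n => congr_fun haa n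
  have hx : ∀ n, dd A n m (m + 1) (x' n + dd A n (m - 1) m (a n)) = 0 := by
    intro n
    rw [map_add, hx', dd_dd, add_zero]
  refine ⟨fun n => x' n + dd A n (m - 1) m (a n), hx, fun n => ?_, fun n => ?_⟩
  · rw [map_add, t_dd]
    have h1 : dd A n (m - 1) m (a n) - dd A n (m - 1) m (t A τ n (m - 1) (a (n + 1))) =
        t A τ n m (x' (n + 1)) - x' n := by
      rw [← map_sub, ha', hb]
    have h2 : t A τ n m (x' (n + 1)) + dd A n (m - 1) m (t A τ n (m - 1) (a (n + 1))) =
        (t A τ n m (x' (n + 1)) - x' n) -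
          (dd A n (m - 1) m (a n) - dd A n (m - 1) m (t A τ n (m - 1) (a (n + 1)))) +
          (x' n + dd A n (m - 1) m (a n)) := by abel
    rw [h2, h1, sub_self, zero_add]
  · rw [← hcls n]
    have hbz : dd A n m (m + 1) (dd A n (m - 1) m (a n)) = 0 := dd_dd A n _ _ _ _
    have := cls_add (A n) (x' n) (dd A n (m - 1) m (a n)) (hx' n) hbz
    have hb0 : cls (A n) (dd A n (m - 1) m (a n)) hbz = 0 :=
      cls_boundary (A n) (m - 1) (by omega) (a n)
    exact this.trans (by rw [hb0, add_zero])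

end Groth.Agent.Lib.Helper8.TowerCx
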