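import Mathlib
import Groth.Prelude.Def_DerCA
import Groth.Agent.Lib.Helper8.TowerCx2
import Groth.Agent.Lib.Helper26.MLLimOne

/-!
# Helper8: cohomology of the limit of a tower of complexes of abelian groups (S6807)
-/

universe u

open CategoryTheory CategoryTheory.Limits Opposite HomologicalComplex

namespace Groth.Agent.Lib.Helper8.TowerLim

open Groth.Agent.Lib.Helper8 Groth.Agent.Lib.Helper8.AbEl

variable (K : ℕᵒᵖ ⥤ HomologicalComplex AddCommGrpCat.{u} (ComplexShape.up ℤ))

/-- the terms of the tower -/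
abbrev A (k : ℕ) : CochainComplex AddCommGrpCat.{u} ℤ := K.obj (op k)

/-- the transition maps -/
abbrev τ (k : ℕ) : A K (k + 1) ⟶ A K k := K.map (homOfLE (Nat.le_succ k)).op

/-- the projections -/
noncomputable abbrev π (k : ℕ) : limit K ⟶ A K k := limit.π K (op k)

lemma π_τ (k : ℕ) : π K (k + 1) ≫ τ K k = π K k := limit.w K _

/-- projections on elements -/
noncomputable abbrev pr (k : ℕ) (j : ℤ) : (limit K).X j →+ (A K k).X j := ((π K k).f j).hom

lemma t_pr (k : ℕ) (j : ℤ) (x : (limit K).X j) :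
    TowerCx.t (A K) (τ K) k j (pr K (k + 1) j x) = pr K k j x := by
  have := congrArg (fun f => (f.f j).hom x) (π_τ K k)
  exact this

lemma pr_d (k : ℕ) (i j : ℤ) (x : (limit K).X i) :
    pr K k j (((limit K).d i j).hom x) = TowerCx.dd (A K) k i j (pr K k i x) := by
  have := congrArg (fun f => f.hom x) ((π K k).comm i j)
  exact this.symm

/-- the limit cone on elements -/
noncomputable def isLim (j : ℤ) :
    IsLimit ((HomologicalComplex.eval _ _ j ⋙ forget AddCommGrpCat).mapCone (limit.cone K)) :=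
  isLimitOfPreserves _ (limit.isLimit K)

lemma pr_ext (j : ℤ) (x y : (limit K).X j) (h : ∀ k, pr K k j x = pr K k j y) : x = y := by
  apply (Types.isLimitEquivSections (isLim K j)).injective
  ext k
  exact h k.unop

lemma map_compat (j : ℤ) (y : ∀ k, (A K k).X j)
    (hy : ∀ k, TowerCx.t (A K) (τ K) k j (y (k + 1)) = y k) :
    ∀ (d b : ℕ) (f : (op (b + d) : ℕᵒᵖ) ⟶ op b),
      (K ⋙ HomologicalComplex.eval _ _ j ⋙ forget AddCommGrpCat).map f (y (b + d)) = y b := by
  intro d
  induction d with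
  | zero =>
    intro b f
    obtain rfl : f = 𝟙 _ := Subsingleton.elim _ _
    rw [CategoryTheory.Functor.map_id]
    rfl
  | succ d ih =>
    intro b f
    have hf : f = (homOfLE (Nat.le_succ (b + d))).op ≫ (homOfLE (Nat.le_add_right b d)).op :=
      Subsingleton.elim _ _
    rw [hf, CategoryTheory.Functor.map_comp]
    have h1 : (K ⋙ HomologicalComplex.eval _ _ j ⋙ forget AddCommGrpCat).map
        (homOfLE (Nat.le_succ (b + d))).op (y (b + d + 1)) = y (b + d) := hy (b + d)
    change (K ⋙ HomologicalComplex.eval _ _ j ⋙ forget AddCommGrpCat).map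
        (homOfLE (Nat.le_add_right b d)).op
      ((K ⋙ HomologicalComplex.eval _ _ j ⋙ forget AddCommGrpCat).map
        (homOfLE (Nat.le_succ (b + d))).op (y (b + d + 1))) = y b
    rw [h1]
    exact ih b _

lemma pr_surj (j : ℤ) (y : ∀ k, (A K k).X j)
    (hy : ∀ k, TowerCx.t (A K) (τ K) k j (y (k + 1)) = y k) :
    ∃ x : (limit K).X j, ∀ k, pr K k j x = y k := by
  let s : (K ⋙ HomologicalComplex.eval _ _ j ⋙ forget AddCommGrpCat).sections :=
    ⟨fun k => y k.unop, by
      intro a b f
      obtain ⟨a⟩ := a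
      obtain ⟨b⟩ := b
      have h : b ≤ a := leOfHom f.unop
      obtain ⟨d, rfl⟩ := Nat.exists_eq_add_of_le h
      exact map_compat K j y hy d b f⟩
  refine ⟨(Types.isLimitEquivSections (isLim K j)).symm s, fun k => ?_⟩
  exact Types.isLimitEquivSections_symm_apply (isLim K j) s (op k)

/-- Mittag-Leffler implies vanishing of `lim¹` -/
lemma limOne_of_ml (F : ℕᵒᵖ ⥤ AddCommGrpCat.{u})
    (hF : (F ⋙ forget AddCommGrpCat).IsMittagLeffler) :
    CohCx.LimOneIsZero (fun k => F.obj (op k))
      (fun k => (F.map (homOfLE (Nat.le_succ k)).op).hom) := by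
  intro y
  obtain ⟨x, hx⟩ := Groth.Agent.Lib.Helper26.MLLimOne.exists_solution F y hF
  exact ⟨x, funext hx⟩

/-- essentially constant systems are Mittag-Leffler -/
lemma ml_of_essConstant (F : ℕᵒᵖ ⥤ AddCommGrpCat.{u})
    (hF : ∃ (C₀ : AddCommGrpCat.{u}) (c : (Functor.const ℕᵒᵖ).obj C₀ ⟶ F),
      DerCA.IsEssConstant F C₀ c) :
    (F ⋙ forget AddCommGrpCat).IsMittagLeffler := by
  obtain ⟨C₀, c, i, s, hs, h⟩ := hF
  intro j
  obtain ⟨j⟩ := j
  obtain ⟨k, hi, hj, hk⟩ := h j
  refine ⟨op k, (homOfLE hj).op, ?_⟩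
  intro l g
  obtain ⟨l⟩ := l
  rintro _ ⟨x, rfl⟩
  have hx : (F ⋙ forget AddCommGrpCat).map (homOfLE hj).op x =
      (c.app (op j)).hom (s.hom ((ARSys.tr F hi).hom x)) := by
    have := congrArg (fun φ => φ.hom x) hk
    exact this
  have hnat : c.app (op j) = c.app (op l) ≫ F.map g := by
    have := c.naturality g
    simp only [Functor.const_obj_obj, Functor.const_obj_map, Category.id_comp] at this
    exact this
  refine ⟨(c.app (op l)).hom (s.hom ((ARSys.tr F hi).hom x)), ?_⟩
  rw [hx, hnat]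
  rfl

lemma cls_congr {B : CochainComplex AddCommGrpCat.{u} ℤ} {j : ℤ} {x y : B.X j} (h : x = y)
    (hx : (B.d j (j + 1)).hom x = 0) : cls B x hx = cls B y (h ▸ hx) := by
  subst h
  rfl

lemma post_π_apply (n : ℤ) (k : ℕ) (ξ : (limit K).homology n) :
    (limit.π (K ⋙ HomologicalComplex.homologyFunctor _ _ n) (op k)).hom
      ((limit.post K (HomologicalComplex.homologyFunctor _ _ n)).hom ξ) =
      (homologyMap (π K k) n).hom ξ := by
  have := limit.post_π K (HomologicalComplex.homologyFunctor AddCommGrpCat.{u} (ComplexShape.up ℤ) n)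
    (op k)
  exact congrArg (fun f => f.hom ξ) this

/-- the limit cone of the homology tower, on elements -/
noncomputable def isLimH (n : ℤ) :
    IsLimit ((CategoryTheory.forget AddCommGrpCat).mapCone
      (limit.cone (K ⋙ HomologicalComplex.homologyFunctor AddCommGrpCat.{u} (ComplexShape.up ℤ) n))) :=
  isLimitOfPreserves _ (limit.isLimit _)

lemma limH_ext (n : ℤ)
    (x y : (limit (K ⋙ HomologicalComplex.homologyFunctor AddCommGrpCat.{u} (ComplexShape.up ℤ) n) :
      AddCommGrpCat.{u}))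
    (h : ∀ k, (limit.π (K ⋙ HomologicalComplex.homologyFunctor _ _ n) (op k)).hom x =
      (limit.π (K ⋙ HomologicalComplex.homologyFunctor _ _ n) (op k)).hom y) : x = y := by
  apply (Types.isLimitEquivSections (isLimH K n)).injective
  ext k
  exact h k.unop

theorem main (n : ℤ)
    (h2 : ((K ⋙ HomologicalComplex.eval _ _ (n - 2)) ⋙ forget AddCommGrpCat).IsMittagLeffler)
    (h1 : ((K ⋙ HomologicalComplex.eval _ _ (n - 1)) ⋙ forget AddCommGrpCat).IsMittagLeffler)
    (hH : ∃ (C₀ : AddCommGrpCat.{u})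
      (c : (Functor.const ℕᵒᵖ).obj C₀ ⟶ K ⋙ HomologicalComplex.homologyFunctor _ _ (n - 1)),
      DerCA.IsEssConstant (K ⋙ HomologicalComplex.homologyFunctor _ _ (n - 1)) C₀ c) :
    IsIso (limit.post K (HomologicalComplex.homologyFunctor _ _ n)) := by
  rw [ConcreteCategory.isIso_iff_bijective]
  have ha2 : CohCx.LimOneIsZero (fun k => (A K k).X (n - 2))
      (fun k => TowerCx.t (A K) (τ K) k (n - 2)) :=
    limOne_of_ml (K ⋙ HomologicalComplex.eval _ _ (n - 2)) h2
  have ha1 : CohCx.LimOneIsZero (fun k => (A K k).X (n - 1))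
      (fun k => TowerCx.t (A K) (τ K) k (n - 1)) :=
    limOne_of_ml (K ⋙ HomologicalComplex.eval _ _ (n - 1)) h1
  have hb : CohCx.LimOneIsZero (fun k => (A K k).homology (n - 1))
      (fun k => (homologyMap (τ K k) (n - 1)).hom) :=
    limOne_of_ml (K ⋙ HomologicalComplex.homologyFunctor _ _ (n - 1)) (ml_of_essConstant _ hH)
  constructor
  · intro ξ ξ' hξ
    have hsub : (limit.post K (HomologicalComplex.homologyFunctor _ _ n)).hom (ξ - ξ') = 0 := by
      rw [map_sub, sub_eq_zero]
      exact hξ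
    obtain ⟨x, hx, hcx⟩ := cls_surjective (limit K) (ξ - ξ')
    have hxk : ∀ k, TowerCx.dd (A K) k n (n + 1) (pr K k n x) = 0 := by
      intro k
      rw [← pr_d, hx, map_zero]
    have hk : ∀ k, ∃ y, TowerCx.dd (A K) k (n - 1) n y = pr K k n x := by
      intro k
      apply (cls_eq_zero_iff (A K k) (n - 1) (by omega) _ (hxk k)).1
      have e1 := post_π_apply K n k (ξ - ξ')
      rw [hsub, map_zero, ← hcx, homologyMap_cls] at e1
      exact e1.symm
    obtain ⟨w, hw1, hw2⟩ := TowerCx.inj_core (A K) (τ K) n ha2 hb (fun k => pr K k n x)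
      (fun k => t_pr K k n x) hk
    obtain ⟨ww, hww⟩ := pr_surj K (n - 1) w hw1
    have hxw : ((limit K).d (n - 1) n).hom ww = x := by
      apply pr_ext K n
      intro k
      rw [pr_d, hww]
      exact hw2 k
    have h0 : cls (limit K) x hx = 0 :=
      (cls_eq_zero_iff (limit K) (n - 1) (by omega) x hx).2 ⟨ww, hxw⟩
    rw [hcx] at h0
    exact sub_eq_zero.1 h0
  · intro η
    let h : ∀ k, (A K k).homology n := fun k =>
      (limit.π (K ⋙ HomologicalComplex.homologyFunctor _ _ n) (op k)).hom η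
    have hh : ∀ k, (homologyMap (τ K k) n).hom (h (k + 1)) = h k := by
      intro k
      have := limit.w (K ⋙ HomologicalComplex.homologyFunctor AddCommGrpCat.{u} (ComplexShape.up ℤ) n)
        (homOfLE (Nat.le_succ k)).op
      exact congrArg (fun f => f.hom η) this
    obtain ⟨x, hx, hx1, hx2⟩ := TowerCx.surj_core (A K) (τ K) n ha1 h hh
    obtain ⟨xx, hxx⟩ := pr_surj K n x hx1
    have hcyc : ((limit K).d n (n + 1)).hom xx = 0 := by
      apply pr_ext K (n + 1)
      intro k
      rw [pr_d, hxx, map_zero]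
      exact hx k
    refine ⟨cls (limit K) xx hcyc, ?_⟩
    apply limH_ext K n
    intro k
    rw [post_π_apply, homologyMap_cls]
    change _ = h k
    rw [← hx2 k]
    exact cls_congr (hxx k) _

end Groth.Agent.Lib.Helper8.TowerLim
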