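import Mathlib
import Groth.Prelude.Def_Formal2
import Groth.Agent.Lib.Helper8.TowerLim

/-!
# Helper8: the Milnor sequence for a tower of complexes of abelian groups with surjective
transition maps (S15300)
-/

universe u

open CategoryTheory CategoryTheory.Limits Opposite HomologicalComplex

namespace Groth.Agent.Lib.Helper8.Milnor

open Groth.Agent.Lib.Helper8 Groth.Agent.Lib.Helper8.AbEl Groth.Agent.Lib.Helper8.TowerLim

/-- a tower with surjective transition maps has vanishing `lim¹` -/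
lemma limOne_of_surj (G : ℕ → Type u) [∀ n, AddCommGroup (G n)] (t : ∀ n, G (n + 1) →+ G n)
    (ht : ∀ n, Function.Surjective (t n)) : CohCx.LimOneIsZero G t := by
  intro b
  choose s hs using ht
  let a : ∀ n, G n := fun n => Nat.rec (motive := fun n => G n) 0 (fun n an => s n (an - b n)) n
  refine ⟨a, ?_⟩
  funext n
  have : a (n + 1) = s n (a n - b n) := rfl
  change a n - t n (a (n + 1)) = b n
  rw [this, hs]
  abel

variable (K : ℕᵒᵖ ⥤ HomologicalComplex AddCommGrpCat.{u} (ComplexShape.up ℤ))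
  (hK : ∀ (n : ℕ) (q : ℤ), Function.Surjective ((K.map (homOfLE (Nat.le_succ n)).op).f q).hom)

include hK in
lemma limOne_deg (j : ℤ) : CohCx.LimOneIsZero (fun k => (A K k).X j)
    (fun k => TowerCx.t (A K) (τ K) k j) :=
  limOne_of_surj _ _ (fun n => hK n j)

include hK in
theorem surj (p : ℤ) :
    Function.Surjective (limit.post K (HomologicalComplex.homologyFunctor _ _ p)).hom := by
  intro η
  let h : ∀ k, (A K k).homology p := fun k =>
    (limit.π (K ⋙ HomologicalComplex.homologyFunctor _ _ p) (op k)).hom η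
  have hh : ∀ k, (homologyMap (τ K k) p).hom (h (k + 1)) = h k := by
    intro k
    have := limit.w (K ⋙ HomologicalComplex.homologyFunctor AddCommGrpCat.{u} (ComplexShape.up ℤ) p)
      (homOfLE (Nat.le_succ k)).op
    exact congrArg (fun f => f.hom η) this
  obtain ⟨x, hx, hx1, hx2⟩ := TowerCx.surj_core (A K) (τ K) p (limOne_deg K hK (p - 1)) h hh
  obtain ⟨xx, hxx⟩ := pr_surj K p x hx1
  have hcyc : ((limit K).d p (p + 1)).hom xx = 0 := by
    apply pr_ext K (p + 1)
    intro k
    rw [pr_d, hxx, map_zero]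
    exact hx k
  refine ⟨cls (limit K) xx hcyc, ?_⟩
  apply limH_ext K p
  intro k
  rw [post_π_apply, homologyMap_cls]
  change _ = h k
  rw [← hx2 k]
  exact cls_congr (hxx k) _


variable (q : ℤ)

/-- the tower of homology groups in degree `q` -/
abbrev G (k : ℕ) : Type u := (A K k).homology q

/-- its transition maps -/
noncomputable abbrev tG (k : ℕ) : G K q (k + 1) →+ G K q k := (homologyMap (τ K k) q).hom

/-- the difference operator on families -/
abbrev δ (y : ∀ k, (A K k).X q) (k : ℕ) : (A K k).X q :=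
  y k - TowerCx.t (A K) (τ K) k q (y (k + 1))

lemma δ_add (y y' : ∀ k, (A K k).X q) (k : ℕ) : δ K q (y + y') k = δ K q y k + δ K q y' k := by
  simp only [δ, Pi.add_apply, map_add]
  abel

/-- families `y` such that `δ y` consists of cycles -/
def S : AddSubgroup (∀ k, (A K k).X q) where
  carrier := {y | ∀ k, TowerCx.dd (A K) k q (q + 1) (δ K q y k) = 0}
  zero_mem' := by
    intro k
    simp [δ]
  add_mem' := by
    intro y y' hy hy' k
    rw [δ_add, map_add, hy k, hy' k, add_zero]
  neg_mem' := by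
    intro y hy k
    have : δ K q (-y) k = - δ K q y k := by
      simp only [δ, Pi.neg_apply, map_neg]
      abel
    rw [this, map_neg, hy k, neg_zero]

lemma compat (y : S K q) (k : ℕ) :
    TowerCx.t (A K) (τ K) k (q + 1) (TowerCx.dd (A K) (k + 1) q (q + 1) (y.1 (k + 1))) =
      TowerCx.dd (A K) k q (q + 1) (y.1 k) := by
  have h := y.2 k
  simp only [δ] at h
  rw [map_sub, sub_eq_zero] at h
  rw [TowerCx.t_dd]
  exact h.symm

/-- the element of the limit with components `d y_k` -/
noncomputable def xx (y : S K q) : (limit K).X (q + 1) :=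
  (pr_surj K (q + 1) (fun k => TowerCx.dd (A K) k q (q + 1) (y.1 k)) (compat K q y)).choose

lemma pr_xx (y : S K q) (k : ℕ) :
    pr K k (q + 1) (xx K q y) = TowerCx.dd (A K) k q (q + 1) (y.1 k) :=
  (pr_surj K (q + 1) (fun k => TowerCx.dd (A K) k q (q + 1) (y.1 k)) (compat K q y)).choose_spec k

lemma xx_cyc (y : S K q) : ((limit K).d (q + 1) (q + 1 + 1)).hom (xx K q y) = 0 := by
  apply pr_ext K (q + 1 + 1)
  intro k
  rw [pr_d, pr_xx, map_zero]
  exact TowerCx.dd_dd (A K) k _ _ _ _

lemma xx_add (y y' : S K q) : xx K q (y + y') = xx K q y + xx K q y' := by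
  apply pr_ext K (q + 1)
  intro k
  rw [map_add, pr_xx, pr_xx, pr_xx]
  exact map_add _ _ _

/-- the map to the cohomology of the limit -/
noncomputable def Θ : S K q →+ (limit K).homology (q + 1) :=
  AddMonoidHom.mk' (fun y => cls (limit K) (xx K q y) (xx_cyc K q y)) (by
    intro y y'
    rw [← cls_add]
    exact cls_congr (xx_add K q y y') _)

/-- the map to `lim¹` -/
noncomputable def Λ : S K q →+ Formal2.limOne (G K q) (tG K q) :=
  AddMonoidHom.mk' (fun y => QuotientAddGroup.mk (fun k => cls (A K k) (δ K q y.1 k) (y.2 k))) (by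
    intro y y'
    rw [← QuotientAddGroup.mk_add]
    congr 1
    funext k
    rw [Pi.add_apply, ← cls_add]
    exact cls_congr (δ_add K q y.1 y'.1 k) _)

include hK in
lemma Λ_surj : Function.Surjective (Λ K q) := by
  intro ξ
  obtain ⟨h, rfl⟩ := QuotientAddGroup.mk_surjective ξ
  have hrep : ∀ k, ∃ (z : (A K k).X q) (hz : TowerCx.dd (A K) k q (q + 1) z = 0),
      cls (A K k) z hz = h k := fun k => cls_surjective (A K k) (h k)
  choose z hz hcls using hrep
  obtain ⟨y, hy⟩ := limOne_deg K hK q z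
  have hy' : ∀ k, δ K q y k = z k := fun k => congr_fun hy k
  have hyS : y ∈ S K q := by
    intro k
    rw [hy' k]
    exact hz k
  refine ⟨⟨y, hyS⟩, ?_⟩
  change QuotientAddGroup.mk _ = QuotientAddGroup.mk h
  congr 1
  funext k
  rw [← hcls k]
  exact cls_congr (hy' k) _


lemma Θ_apply (y : S K q) : Θ K q y = cls (limit K) (xx K q y) (xx_cyc K q y) := rfl

lemma Λ_apply (y : S K q) :
    Λ K q y = QuotientAddGroup.mk (fun k => cls (A K k) (δ K q y.1 k) (y.2 k)) := rfl

lemma ker_Θ_le : (Θ K q).ker ≤ (Λ K q).ker := by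
  intro y hy
  rw [AddMonoidHom.mem_ker, Θ_apply] at hy
  obtain ⟨ww, hww⟩ := (cls_eq_zero_iff (limit K) q rfl _ (xx_cyc K q y)).1 hy
  -- `w_k = pr_k ww` compatible, `d w_k = d y_k`
  have hd : ∀ k, TowerCx.dd (A K) k q (q + 1) (pr K k q ww) =
      TowerCx.dd (A K) k q (q + 1) (y.1 k) := by
    intro k
    rw [← pr_d, hww, pr_xx]
  have hv : ∀ k, TowerCx.dd (A K) k q (q + 1) (y.1 k - pr K k q ww) = 0 := by
    intro k
    rw [map_sub, hd k, sub_self]
  rw [AddMonoidHom.mem_ker, Λ_apply, QuotientAddGroup.eq_zero_iff]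
  refine ⟨fun k => cls (A K k) (y.1 k - pr K k q ww) (hv k), ?_⟩
  funext k
  change cls (A K k) (y.1 k - pr K k q ww) (hv k) -
    (homologyMap (τ K k) q).hom (cls (A K (k + 1)) (y.1 (k + 1) - pr K (k + 1) q ww) (hv (k + 1))) =
    cls (A K k) (δ K q y.1 k) (y.2 k)
  rw [homologyMap_cls]
  have e : δ K q y.1 k = (y.1 k - pr K k q ww) -
      ((τ K k).f q).hom (y.1 (k + 1) - pr K (k + 1) q ww) := by
    have h1 := t_pr K k q ww
    simp only [δ, TowerCx.t] at h1 ⊢
    rw [map_sub, h1]
    abel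
  have hcyc2 : TowerCx.dd (A K) k q (q + 1)
      (((τ K k).f q).hom (y.1 (k + 1) - pr K (k + 1) q ww)) = 0 := by
    have := TowerCx.t_dd (A K) (τ K) k q (q + 1) (y.1 (k + 1) - pr K (k + 1) q ww)
    rw [hv (k + 1), map_zero] at this
    exact this.symm
  have hsum := cls_add (A K k) (δ K q y.1 k)
    (((τ K k).f q).hom (y.1 (k + 1) - pr K (k + 1) q ww)) (y.2 k) hcyc2
  rw [sub_eq_iff_eq_add, ← hsum]
  exact cls_congr (by rw [e]; abel) _

include hK in
lemma ker_Λ_le : (Λ K q).ker ≤ (Θ K q).ker := by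
  intro y hy
  rw [AddMonoidHom.mem_ker, Λ_apply, QuotientAddGroup.eq_zero_iff] at hy
  obtain ⟨g, hg⟩ := hy
  have hg' : ∀ k, g k - tG K q k (g (k + 1)) = cls (A K k) (δ K q y.1 k) (y.2 k) :=
    fun k => congr_fun hg k
  have hrep : ∀ k, ∃ (v : (A K k).X q) (hv : TowerCx.dd (A K) k q (q + 1) v = 0),
      cls (A K k) v hv = g k := fun k => cls_surjective (A K k) (g k)
  choose v hv hcls using hrep
  have hτv : ∀ k, TowerCx.dd (A K) k q (q + 1) (TowerCx.t (A K) (τ K) k q (v (k + 1))) = 0 := by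
    intro k
    rw [← TowerCx.t_dd, hv (k + 1), map_zero]
  -- `δ y - δ v` is a boundary
  have hcyc : ∀ k, TowerCx.dd (A K) k q (q + 1) (δ K q y.1 k - δ K q v k) = 0 := by
    intro k
    rw [map_sub, y.2 k]
    simp only [δ]
    rw [map_sub, hv k, hτv k, sub_self, sub_self]
  have hbd : ∀ k, ∃ c : (A K k).X (q - 1), TowerCx.dd (A K) k (q - 1) q c =
      δ K q y.1 k - δ K q v k := by
    intro k
    apply (cls_eq_zero_iff (A K k) (q - 1) (by omega) _ (hcyc k)).1
    have h1 : cls (A K k) (δ K q y.1 k) (y.2 k) =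
        cls (A K k) (δ K q y.1 k - δ K q v k) (hcyc k) +
          (cls (A K k) (v k) (hv k) - cls (A K k) (TowerCx.t (A K) (τ K) k q (v (k + 1))) (hτv k)) := by
      have hA := cls_add (A K k) (δ K q y.1 k - δ K q v k) (v k) (hcyc k) (hv k)
      have hB := cls_add (A K k) (δ K q y.1 k) (TowerCx.t (A K) (τ K) k q (v (k + 1))) (y.2 k) (hτv k)
      have hC : cls (A K k) (δ K q y.1 k) (y.2 k) +
          cls (A K k) (TowerCx.t (A K) (τ K) k q (v (k + 1))) (hτv k) =
          cls (A K k) (δ K q y.1 k - δ K q v k) (hcyc k) + cls (A K k) (v k) (hv k) := by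
        rw [← hB, ← hA]
        exact cls_congr (by simp only [δ]; abel) _
      rw [← add_sub_assoc, ← hC, add_sub_cancel_right]
    have h2 : cls (A K k) (TowerCx.t (A K) (τ K) k q (v (k + 1))) (hτv k) =
        tG K q k (g (k + 1)) := by
      rw [← hcls (k + 1)]
      exact (homologyMap_cls (τ K k) (v (k + 1)) (hv (k + 1))).symm
    rw [h2, hcls k, ← hg' k] at h1
    have := h1
    rw [eq_comm, add_eq_right] at this
    exact this
  choose c hc using hbd
  obtain ⟨e, he⟩ := limOne_deg K hK (q - 1) c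
  have he' : ∀ k, e k - TowerCx.t (A K) (τ K) k (q - 1) (e (k + 1)) = c k := fun k => congr_fun he k
  -- the compatible family
  let w : ∀ k, (A K k).X q := fun k => y.1 k - v k - TowerCx.dd (A K) k (q - 1) q (e k)
  have hw : ∀ k, TowerCx.t (A K) (τ K) k q (w (k + 1)) = w k := by
    intro k
    have h3 : TowerCx.dd (A K) k (q - 1) q (e k) -
        TowerCx.dd (A K) k (q - 1) q (TowerCx.t (A K) (τ K) k (q - 1) (e (k + 1))) =
        δ K q y.1 k - δ K q v k := by
      rw [← map_sub, he' k, hc k]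
    simp only [w, map_sub]
    rw [TowerCx.t_dd]
    simp only [δ] at h3
    have h4 : TowerCx.t (A K) (τ K) k q (y.1 (k + 1)) - TowerCx.t (A K) (τ K) k q (v (k + 1)) -
        TowerCx.dd (A K) k (q - 1) q (TowerCx.t (A K) (τ K) k (q - 1) (e (k + 1))) =
        (y.1 k - v k - TowerCx.dd (A K) k (q - 1) q (e k)) +
        ((TowerCx.dd (A K) k (q - 1) q (e k) -
          TowerCx.dd (A K) k (q - 1) q (TowerCx.t (A K) (τ K) k (q - 1) (e (k + 1)))) -
        (y.1 k - TowerCx.t (A K) (τ K) k q (y.1 (k + 1)) -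
          (v k - TowerCx.t (A K) (τ K) k q (v (k + 1))))) := by abel
    rw [h4, h3, sub_self, add_zero]
  obtain ⟨ww, hww⟩ := pr_surj K q w hw
  have hxw : ((limit K).d q (q + 1)).hom ww = xx K q y := by
    apply pr_ext K (q + 1)
    intro k
    rw [pr_d, hww, pr_xx]
    simp only [w, map_sub]
    rw [hv k, TowerCx.dd_dd, sub_zero, sub_zero]
  rw [AddMonoidHom.mem_ker, Θ_apply]
  exact (cls_eq_zero_iff (limit K) q rfl _ (xx_cyc K q y)).2 ⟨ww, hxw⟩

lemma range_Θ :
    (Θ K q).range = (limit.post K (HomologicalComplex.homologyFunctor _ _ (q + 1))).hom.ker := by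
  ext ξ
  constructor
  · rintro ⟨y, rfl⟩
    change (limit.post K (HomologicalComplex.homologyFunctor _ _ (q + 1))).hom (Θ K q y) = 0
    apply limH_ext K (q + 1)
    intro k
    rw [post_π_apply, Θ_apply, homologyMap_cls]
    refine Eq.trans ?_ (map_zero _).symm
    have hb : (TowerCx.dd (A K) k (q + 1) (q + 1 + 1)) (TowerCx.dd (A K) k q (q + 1) (y.1 k)) = 0 :=
      TowerCx.dd_dd (A K) k _ _ _ _
    have h0 : cls (A K k) (TowerCx.dd (A K) k q (q + 1) (y.1 k)) hb = 0 :=
      cls_boundary (A K k) q rfl (y.1 k)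
    exact (cls_congr (pr_xx K q y k) _).trans h0
  · intro hξ'
    have hξ : (limit.post K (HomologicalComplex.homologyFunctor _ _ (q + 1))).hom ξ = 0 := hξ'
    obtain ⟨x, hx, hcx⟩ := cls_surjective (limit K) ξ
    have hxk : ∀ k, TowerCx.dd (A K) k (q + 1) (q + 1 + 1) (pr K k (q + 1) x) = 0 := by
      intro k
      rw [← pr_d, hx, map_zero]
    have hk : ∀ k, ∃ y, TowerCx.dd (A K) k q (q + 1) y = pr K k (q + 1) x := by
      intro k
      apply (cls_eq_zero_iff (A K k) q rfl _ (hxk k)).1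
      have e1 := post_π_apply K (q + 1) k ξ
      rw [hξ, map_zero, ← hcx, homologyMap_cls] at e1
      exact e1.symm
    choose y hy using hk
    have hyS : y ∈ S K q := by
      intro k
      simp only [δ]
      rw [map_sub, ← TowerCx.t_dd, hy, hy, t_pr, sub_self]
    refine ⟨⟨y, hyS⟩, ?_⟩
    rw [Θ_apply, ← hcx]
    apply cls_congr
    apply pr_ext K (q + 1)
    intro k
    rw [pr_xx]
    exact hy k

include hK in
theorem ker_equiv :
    Nonempty ((limit.post K (HomologicalComplex.homologyFunctor _ _ (q + 1))).hom.ker ≃+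
      Formal2.limOne (G K q) (tG K q)) := by
  have hker : (Θ K q).ker = (Λ K q).ker := le_antisymm (ker_Θ_le K q) (ker_Λ_le K hK q)
  let e1 : S K q ⧸ (Θ K q).ker ≃+ (Θ K q).range := QuotientAddGroup.quotientKerEquivRange _
  let e2 : S K q ⧸ (Λ K q).ker ≃+ Formal2.limOne (G K q) (tG K q) :=
    QuotientAddGroup.quotientKerEquivOfSurjective _ (Λ_surj K hK q)
  let e3 : S K q ⧸ (Θ K q).ker ≃+ S K q ⧸ (Λ K q).ker := QuotientAddGroup.quotientAddEquivOfEq hker
  let e4 : (Θ K q).range ≃+
      (limit.post K (HomologicalComplex.homologyFunctor _ _ (q + 1))).hom.ker :=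
    AddEquiv.addSubgroupCongr (range_Θ K q)
  exact ⟨e4.symm.trans (e1.symm.trans (e3.trans e2))⟩

end Groth.Agent.Lib.Helper8.Milnor
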