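import Mathlib
import Groth.Prelude.Def_ModSite
import Groth.Agent.Lib.Helper8.ExtCoprodInd
import Groth.Agent.Lib.Helper8.FreeCompact
import Groth.Agent.Lib.Helper8.ModExtFree
import Groth.Agent.Lib.Helper8.SheafModGroth
import Groth.Agent.Lib.Helper1.CoprodSections3
import Groth.Agent.Lib.Helper6.InjModTotAcyc
import Groth.Agent.Lib.Helper6.TotAcyc
import Groth.Agent.S12450
import Groth.Agent.S0862

/-!
# Helper8 — `j_{U!} O_U` is compact for uniformly bounded below families in `D(O)` when `U` lies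
in a class `B` of quasi-compact objects with finite covering data (S9047)
-/

set_option autoImplicit false
set_option linter.unusedSectionVars false

universe u

open CategoryTheory CategoryTheory.Limits Abelian Opposite

namespace Groth.Agent.Lib.Helper8.ModFreeCompact

open Groth.Agent.Lib.Helper8.Compact Groth.Agent.Lib.Helper8.FreeCompact
  Groth.Agent.Lib.Helper1.CoprodSections Groth.Agent.Lib.Helper6

variable {C : Type u} [SmallCategory C] {J : GrothendieckTopology C} (O : Sheaf J CommRingCat.{u})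

instance grothMod : IsGrothendieckAbelian.{u} (ModSite.Mod O) :=
  SheafModGroth.main J (ModSite.ringSh O)

instance hasExtMod : HasExt.{u} (ModSite.Mod O) :=
  hasExt_of_enoughInjectives _

/-- finite support of morphisms from `j_! O_U` into a coproduct -/
lemma hBase {U : C} (hW : SiteQc J U) (κ : Type u) (F : κ → ModSite.Mod O)
    (e : Ext.{u} (ModSite.freeOn O U) (∐ F) 0) :
    ∃ S : Finset κ, e.comp (Ext.mk₀ (cS F S)) (add_zero 0) = 0 := by
  obtain ⟨b, rfl⟩ := (Ext.mk₀_bijective _ _).2 e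
  let H := preadditiveCoyoneda.obj (op (ModSite.freeOn O U))
  haveI := preservesCoproducts_hom_freeOn O hW κ
  let c' : Cofan (fun j => H.obj (F j)) :=
    Cofan.mk (H.obj (∐ F)) (fun j => H.map (Sigma.ι F j))
  have hc' : IsColimit c' :=
    (isColimitMapCoconeCofanMkEquiv H F (Sigma.ι F))
      (isColimitOfPreserves H (coproductIsCoproduct F))
  obtain ⟨S, hS⟩ := ab_finite_support c' hc' b
  refine ⟨S, ?_⟩
  have h1 : ∀ j ∈ S, c'.inj j ≫ H.map (cS F S) = 0 := by
    intro j hj
    change H.map (Sigma.ι F j) ≫ H.map (cS F S) = 0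
    rw [← H.map_comp, ι_cS, if_pos hj, Functor.map_zero]
  have h2 : b ≫ cS F S = 0 := hS (H.map (cS F S)) h1
  rw [Ext.mk₀_comp_mk₀, h2, Ext.mk₀_zero]

section Vanish

variable [HasPullbacks C]
  (B : Set C) (Cov : ∀ (U : C) (ι : Type u), (ι → Over U) → Prop)
  (h1 : ∀ (U : C) (ι : Type u) (Y : ι → Over U), Cov U ι Y → Finite ι ∧ U ∈ B ∧
    Sieve.ofArrows (fun i => (Y i).left) (fun i => (Y i).hom) ∈ J U ∧
    ∀ (p : ℕ) (a : Fin (p + 1) → ι), (∏ᶜ fun k => Y (a k)).left ∈ B)
  (h2 : ∀ U ∈ B, ∀ T ∈ J U, ∃ (ι : Type u) (Y : ι → Over U), Cov U ι Y ∧ ∀ i, T.arrows (Y i).hom)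

include h1 h2 in
lemma siteQc_of_mem (U : C) (hU : U ∈ B) : SiteQc J U := by
  intro S hS
  obtain ⟨ι, Y, hY, hYS⟩ := h2 U hU S hS
  obtain ⟨hfin, _, hcov, _⟩ := h1 U ι Y hY
  exact ⟨ι, hfin, fun i => (Y i).left, fun i => (Y i).hom, hYS, hcov⟩

/-- a finite coproduct of injectives is injective -/
lemma injective_finite_coprod {A : Type*} [Category A] [Abelian A] {α : Type*} [Finite α]
    (f : α → A) [HasCoproduct f] (hf : ∀ a, Injective (f a)) : Injective (∐ f) := by
  haveI := hf
  haveI := Abelian.hasFiniteBiproducts (C := A)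
  haveI : HasBiproduct f := HasBiproductsOfShape.has_biproduct f
  exact Injective.of_iso (biproduct.isoCoproduct f) inferInstance

/-- a colimit cocone over zero objects has zero point -/
lemma isZero_pt_of_isColimit {D : Type*} [Category D] [HasZeroMorphisms D] {I : Type*} [Category I]
    {F : I ⥤ D} {c : Cocone F} (hc : IsColimit c) (h : ∀ i, IsZero (F.obj i)) : IsZero c.pt := by
  rw [IsZero.iff_id_eq_zero]
  apply hc.hom_ext
  intro i
  exact (h i).eq_of_src _ _

include h1 h2 in
/-- `Ext^{d+1}(j_! O_U, ∐ E) = 0` for a family of injective modules -/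
lemma hV (U : C) (hU : U ∈ B) (κ : Type u) (E : κ → ModSite.Mod O) (hE : ∀ j, Injective (E j))
    (d : ℕ) (e : Ext.{u} (ModSite.freeOn O U) (∐ E) (d + 1)) : e = 0 := by
  let T : ModSite.Mod O ⥤ Sheaf J AddCommGrpCat.{u} := SheafOfModules.toSheaf (ModSite.ringSh O)
  let Hp : Sheaf J AddCommGrpCat.{u} ⥤ AddCommGrpCat.{u} :=
    (Sheaf.cohomologyPresheafFunctor J (d + 1)).flip.obj (op U)
  let D₀ := CoproductsFromFiniteFiltered.liftToFinsetObj (Discrete.functor E)
  let c := CoproductsFromFiniteFiltered.finiteSubcoproductsCocone E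
  have hc : IsColimit c := CoproductsFromFiniteFiltered.isColimitFiniteSubproductsCocone E
  haveI : PreservesColimitsOfSize.{u, u} T := Groth.Agent.S12450.result O
  have hc1 : IsColimit (T.mapCocone c) := isColimitOfPreserves T hc
  haveI : PreservesColimit (D₀ ⋙ T) Hp :=
    Groth.Agent.S0862.result J B Cov h1 h2 U hU (d + 1) (Finset (Discrete κ)) (D₀ ⋙ T)
  have hc2 : IsColimit (Hp.mapCocone (T.mapCocone c)) := isColimitOfPreserves Hp hc1
  have hz : ∀ s, IsZero (((D₀ ⋙ T) ⋙ Hp).obj s) := by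
    intro s
    haveI : Injective (D₀.obj s) :=
      injective_finite_coprod (fun x : s => (Discrete.functor E).obj x.1) (fun x => hE x.1.as)
    have hta := InjModTotAcyc.totallyAcyclic (ModSite.ringSh O) (D₀.obj s)
    haveI : Subsingleton (CohSite.HU (T.obj (D₀.obj s)) (d + 1) U) :=
      TotAcyc.subsingleton_HU (J := J) hta U d
    exact AddCommGrpCat.isZero_of_subsingleton
      (AddCommGrpCat.of (CohSite.HU (T.obj (D₀.obj s)) (d + 1) U))
  have hpt := isZero_pt_of_isColimit hc2 hz
  haveI : Subsingleton (ModSite.HU O (∐ E) (d + 1) U) :=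
    (AddCommGrpCat.subsingleton_of_isZero hpt : _)
  haveI := ModExtFree.subsingleton_ext_freeOn O U (∐ E) (d + 1) inferInstance
  exact Subsingleton.elim _ _

variable [HasDerivedCategory.{u} (ModSite.Mod O)]

include h1 h2 in
/-- the statement of S9047 -/
theorem main (U : C) (hU : U ∈ B) {I : Type u} (M : I → DerivedCategory (ModSite.Mod O))
    [HasCoproduct M] (a : ℤ) (hM : ∀ i, (M i).IsGE a) :
    Function.Bijective (CohDer.homSumToHomCoprod
      ((DerivedCategory.singleFunctor (ModSite.Mod O) 0).obj (ModSite.freeOn O U)) M) := by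
  haveI : HasCoproducts.{u} (DerivedCategory (ModSite.Mod O)) :=
    Groth.Agent.Lib.Helper8.DCoprod.hasCoproducts
  haveI : AB4OfSize.{u} (ModSite.Mod O) := by
    have := Abelian.hasFiniteBiproducts (C := ModSite.Mod O)
    exact AB4.of_AB5 _
  haveI : ∀ κ : Type u, HasExactColimitsOfShape (Discrete κ) (ModSite.Mod O) :=
    fun κ => AB4OfSize.ofShape κ
  exact bijective_of_ext (ModSite.freeOn O U)
    (ExtCoprodInd.hExt (ModSite.freeOn O U) (hBase O (siteQc_of_mem B Cov h1 h2 U hU))
      (fun κ E hE d e => hV O B Cov h1 h2 U hU κ E hE d e)) M a hM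

end Vanish

end Groth.Agent.Lib.Helper8.ModFreeCompact
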