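import Groth.Agent.Lib.Helper28.PullbackInv
import Groth.Agent.Lib.Helper2.ProjCoh11
import Groth.Agent.Lib.Helper2.Bridge5
import Groth.Agent.Lib.Helper8.PtSupp
import Groth.Agent.Lib.Helper8.PaSmooth
import Groth.Agent.S1564
import Groth.Prelude.Def_Omega3
import Groth.Prelude.Def_LinSer

/-! # Helper8 — a nondegenerate curve in `P^r` has degree at least `r` -/
set_option autoImplicit false
universe u
open CategoryTheory CategoryTheory.Limits AlgebraicGeometry Opposite TopologicalSpace
noncomputable section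

namespace Groth.Agent.Lib.Helper8.NonDeg

open Groth.Agent.Lib.Helper8.EulerK Groth.Agent.Lib.Helper8.PtSupp
  Groth.Agent.Lib.Helper28.PullbackInv

variable (k : Type u) [Field k]

attribute [local instance] gammaModule

/-- the pullback of global sections along a morphism of `k`-schemes, as a `k`-linear map -/
def pbL {X P : Scheme.{u}} [X.Over (Spec (CommRingCat.of k))] [P.Over (Spec (CommRingCat.of k))]
    (i : X ⟶ P) (hi : i ≫ (P ↘ Spec (CommRingCat.of k)) = X ↘ Spec (CommRingCat.of k))
    (M : P.Modules) : Γ(M, ⊤) →ₗ[k] Γ((Scheme.Modules.pullback i).obj M, ⊤) where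
  toFun := fun m => pbs i M ⊤ m
  map_add' := fun a b => pbs_add i M ⊤ a b
  map_smul' := fun c m => by
    have h : i.app ⊤ (toΓ k P c) = toΓ k X c := by
      unfold toΓ Coh.toGlobal
      rw [← hi]
      simp only [Scheme.Hom.comp_appTop, CommRingCat.hom_comp, RingHom.coe_comp,
        Function.comp_apply]
      rfl
    show pbs i M ⊤ (toΓ k P c • m) = _
    rw [pbs_smul, h]
    rfl

/-- `h⁰(P^r, O(1)) = r + 1` -/
theorem finrank_H0_twist_one (r : ℕ) :
    Module.finrank k (Coh.HH (CohB1.ProjSpace r k) (Twist.twistProjSpace r k 1) 0) = r + 1 := by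
  obtain ⟨e⟩ := Groth.Agent.Lib.Helper2.ProjCoh10.nonempty_linearEquiv_zero r k 1
  have h1 : ((1 : ℕ) : ℤ) = 1 := rfl
  rw [h1] at e
  rw [e.finrank_eq, Groth.Agent.Lib.Helper2.ProjCoh11.finrank_homogeneousSubmodule]
  simp

/-- **a curve in `P^r` contained in no hyperplane has degree at least `r`** -/
theorem le_deg [IsAlgClosed k] (r : ℕ) (X : Scheme.{u}) [X.Over (Spec (CommRingCat.of k))]
    [IsIntegral X] [IsProper (X ↘ Spec (CommRingCat.of k))] (hdim : topologicalKrullDim X = 1)
    (i : X ⟶ CohB1.ProjSpace r k)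
    (hi : i ≫ CohB1.ProjSpace.toSpec r k = (X ↘ Spec (CommRingCat.of k)))
    (hplane : ∀ s : LinSer.Sect (CohB1.ProjSpace r k) (Twist.twistProjSpace r k 1), s ≠ 0 →
      OmegaSh.pullSect i (Twist.twistProjSpace r k 1) ⊤ s ≠ 0) :
    (r : ℤ) ≤ Curv2.deg k X ((Scheme.Modules.pullback i).obj (Twist.twistProjSpace r k 1)) 1 := by
  haveI : IsLocallyNoetherian X := isLocallyNoetherian k X
  set M := Twist.twistProjSpace r k 1 with hMdef
  set L := (Scheme.Modules.pullback i).obj M with hLdef
  have hM : PicF.IsInvertible M := Groth.Agent.Lib.Helper2.Bridge5.isInvertible_twist k r 1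
  have hL : PicF.IsInvertible L := PicLoc.isInvertible_pullback i hM
  have hLc := Groth.Agent.Lib.Helper6.K0Op.isCoh_of_isInvertible _ hL
  have hi' : i ≫ ((CohB1.ProjSpace r k) ↘ Spec (CommRingCat.of k)) = X ↘ Spec (CommRingCat.of k) := hi
  let φ := pbL k i hi' M
  have hφ : Function.Injective φ := by
    rw [injective_iff_map_eq_zero]
    intro s hs
    by_contra hne
    exact hplane s hne hs
  haveI := finite_HH k X _ hLc 0
  haveI : Module.Finite k Γ(L, ⊤) := Module.Finite.equiv (e0L L k)
  have h1 : Module.finrank k Γ(M, ⊤) ≤ Module.finrank k Γ(L, ⊤) :=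
    LinearMap.finrank_le_finrank_of_injective hφ
  rw [← (e0L M k).finrank_eq, ← (e0L L k).finrank_eq, finrank_H0_twist_one] at h1
  have hnt : Nontrivial (Coh.HH X L 0) :=
    Module.nontrivial_of_finrank_pos (R := k) (by omega)
  have h0 := Groth.Agent.Lib.Helper8.PaSmooth.finrank_H0_of_isAlgClosed k X hdim
  obtain ⟨b1, -⟩ := Groth.Agent.S1564.result k X hdim h0 L hL hnt
  have : ((r + 1 : ℕ) : ℤ) ≤ Module.finrank k (Coh.HH X L 0) := by exact_mod_cast h1
  push_cast at this
  linarith

end Groth.Agent.Lib.Helper8.NonDeg
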