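import Groth.Agent.Lib.Helper8.P1Core

/-! # Helper8 — the projective-line criterion with a covering pair of sections of a degree-one invertible module -/
set_option autoImplicit false
universe u
open CategoryTheory CategoryTheory.Limits AlgebraicGeometry Opposite TopologicalSpace

noncomputable section
namespace Groth.Agent.Lib.Helper8.P1Cover

open Groth.Agent.Lib.Helper8.EulerK Groth.Agent.Lib.Helper8.CurveInv Groth.Agent.Lib.Helper8.CurveDeg
  Groth.Agent.Lib.Helper8.P1Gen Groth.Agent.Lib.Helper8.P1Facts Groth.Agent.Lib.Helper8.P1Core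
  Groth.Agent.Lib.Helper28 Groth.Agent.Lib.Helper28.QCohLoc Groth.Agent.Lib.Helper28.GenLocus

variable (k : Type u) [Field k] (X : Scheme.{u}) [X.Over (Spec (CommRingCat.of k))]
  [IsIntegral X] [IsProper (X ↘ Spec (CommRingCat.of k))]

/-- **the criterion with a cover**: an integral proper curve with an invertible module of degree one
having two sections whose generating loci cover the curve is the projective line -/
theorem exists_iso_P1_of_cover (hdim : topologicalKrullDim X = 1) {L : X.Modules}
    (hL : PicF.IsInvertible L)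
    (hdeg : Curv2.deg k X L 1 = 1) (s t : Coh.structureModule X ⟶ L)
    (hcov' : ∀ x : X, x ∈ CohB1.genLocus L s ∨ x ∈ CohB1.genLocus L t) :
    ∃ e : X ≅ CohB1.ProjSpace 1 k,
      e.hom ≫ CohB1.ProjSpace.toSpec 1 k = X ↘ Spec (CommRingCat.of k) := by
  let T : Fin 2 → (Coh.structureModule X ⟶ L) := ![s, t]
  have hcov : ∀ x : X, ∃ j, x ∈ CohB1.genLocus L (T j) := fun x => by
    rcases hcov' x with h | h
    · exact ⟨0, h⟩
    · exact ⟨1, h⟩
  obtain ⟨r, hr, τ, hτ⟩ := Groth.Agent.S3572.result (R := k) 1 (X ↘ Spec (CommRingCat.of k)) L hL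
    (fun j => (secOf (T j) : ProjUP.Γm L)) (VeryAmpleImm.generatedBy_of_cover T hcov)
  haveI : IsProper ((CohB1.ProjSpace 1 k) ↘ Spec (CommRingCat.of k)) :=
    ProjSpaceBasic.isProper_toSpec 1 k
  have hP : topologicalKrullDim (CohB1.ProjSpace 1 k) = 1 := by
    have := Groth.Agent.S10829.result k 1
    simpa using this
  have hpre : ∀ j : Fin 2, r ⁻¹ᵁ Proj.basicOpen (CohB1.polyGrading 1 k) (MvPolynomial.X j) =
      CohB1.genLocus L (T j) := by
    intro j
    have h1 := VeryAmpleImm.preimage_basicOpen_eq_genLocus (CohB1.polyGrading 1 k) r τ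
      (VeryAmpleImm.projSpace_cover 1 k) (MvPolynomial.isHomogeneous_X k j)
    refine h1.trans ?_
    have h2 : VeryAmpleImm.sec (CohB1.polyGrading 1 k) r τ (MvPolynomial.isHomogeneous_X k j) =
        secOf (T j) := hτ j
    rw [h2, ofSection_secOf]
  -- `r` is dominant
  have hξ : r.base (genericPoint X) = genericPoint (CohB1.ProjSpace 1 k) := by
    by_contra hne
    have hcl : IsClosed ({r.base (genericPoint X)} : Set (CohB1.ProjSpace 1 k)) :=
      isClosed_singleton_of_ne_genericPoint hP.le _ hne
    obtain ⟨j, hj⟩ := exists_mem_chart 1 k (r.base (genericPoint X))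
    have htop : CohB1.genLocus L (T j) = ⊤ := by
      rw [← hpre j, eq_top_iff]
      intro x _
      have hsp : genericPoint X ⤳ x := (genericPoint_spec X).specializes trivial
      have hsp' : r.base (genericPoint X) ⤳ r.base x := hsp.map r.continuous
      have hx : r.base x ∈ closure ({r.base (genericPoint X)} : Set (CohB1.ProjSpace 1 k)) :=
        hsp'.mem_closure
      rw [hcl.closure_eq, Set.mem_singleton_iff] at hx
      change r.base x ∈ Proj.basicOpen (CohB1.polyGrading 1 k) (MvPolynomial.X j)
      rw [hx]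
      exact hj
    haveI := isIso_of_genLocus_eq_top X (T j) htop
    have hd0 : Curv2.deg k X L 1 = 0 := by
      unfold Curv2.deg
      rw [← euler_congr k (asIso (T j))]
      simp
    omega
  -- the degree formula
  have hO1 : PicF.IsInvertible (Twist.twistProjSpace 1 k 1) :=
    TwistCov.isInvertible_twist _ (VeryAmpleImm.projSpace_cover 1 k) 1
  have hdegf := Groth.Agent.S7640.result k X (CohB1.ProjSpace 1 k) hdim hP r hr hξ 1 _
    (Groth.Agent.Lib.Helper6.K0Op.isFinLocFreeOfRank_one_of_isInvertible _ hO1)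
  have hdegL : Curv2.deg k X ((Scheme.Modules.pullback r).obj (Twist.twistProjSpace 1 k 1)) 1 = 1 := by
    unfold Curv2.deg
    rw [euler_congr k τ]
    exact hdeg
  rw [hdegL] at hdegf
  have hres : r.residueDegree (genericPoint X) = 1 := by
    have h1 : ((r.residueDegree (genericPoint X) : ℤ)) ∣ 1 := ⟨_, hdegf⟩
    have h2 := Int.natAbs_dvd_natAbs.2 h1
    simpa using h2
  haveI : IsFinite r := Groth.Agent.Lib.Helper8.CurveMap.isFinite_of_curves k hdim hP r hr hξ
  haveI : IsIso r := Groth.Agent.Lib.Helper13.IntBirational.isIso_of_isIntegralHom_of_birational r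
    (isIntegrallyClosed_stalk 1 k) hξ (stalkMap_surjective_of_residueDegree_eq_one r hres)
  exact ⟨asIso r, hr⟩


end Groth.Agent.Lib.Helper8.P1Cover
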