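import Mathlib
import Groth.Agent.Lib.Helper8.P1Core
import Groth.Agent.Lib.Helper8.H0Field

/-! # Helper8 — degree-one invertible module with a section forces h^0(O_X)=1; the criterion `deg L = 1`, `h^0(L) ≥ 2` for the projective line -/
set_option autoImplicit false
universe u
open CategoryTheory CategoryTheory.Limits AlgebraicGeometry Opposite TopologicalSpace

noncomputable section
namespace Groth.Agent.Lib.Helper8.P1Two

open Groth.Agent.Lib.Helper8.EulerK Groth.Agent.Lib.Helper8.CurveInv Groth.Agent.Lib.Helper8.CurveDeg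
  Groth.Agent.Lib.Helper8.KillA

variable (k : Type u) [Field k] (X : Scheme.{u}) [X.Over (Spec (CommRingCat.of k))]
  [IsIntegral X] [IsProper (X ↘ Spec (CommRingCat.of k))]

/-- an invertible module of degree one with a nonzero section forces `h⁰(O_X) = 1` -/
theorem finrank_H0_eq_one_of_deg_one (hdim : topologicalKrullDim X ≤ 1) {L : X.Modules}
    (hL : PicF.IsInvertible L) (hdeg : Curv2.deg k X L 1 = 1)
    (hpos : 0 < Module.finrank k (Coh.HH X L 0)) :
    Module.finrank k (Coh.HH X (Coh.structureModule X) 0) = 1 := by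
  have hO := isInvertible_structureModule (X := X)
  haveI : Nontrivial (Coh.HH X L 0) := Module.nontrivial_of_finrank_pos (R := k) hpos
  obtain ⟨q₀, hq₀⟩ := exists_ne (0 : Coh.HH X L 0)
  obtain ⟨s, hs⟩ := exists_hom_of_H0 L q₀
  have hs0 : s ≠ 0 := by
    rintro rfl
    exact hq₀ (hs.symm.trans (HHmap_zero_unitH L))
  have h1 : Module.finrank k (Coh.HH X (cokernel s) 0) = 1 := by
    have := (euler_eq_add k X hdim _ L hO hL s hs0).1
    unfold Curv2.deg at hdeg
    omega
  exact Groth.Agent.Lib.Helper8.H0Field.finrank_H0_eq_one (X := X) (k := k) (cokernel s) 0 h1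

/-- **the criterion with two sections**: an integral proper curve with an invertible module of degree
one with at least two independent sections is the projective line -/
theorem exists_iso_P1_of_two_le (hdim : topologicalKrullDim X = 1) {L : X.Modules}
    (hL : PicF.IsInvertible L) (hdeg : Curv2.deg k X L 1 = 1)
    (h2 : 2 ≤ Module.finrank k (Coh.HH X L 0)) :
    ∃ e : X ≅ CohB1.ProjSpace 1 k,
      e.hom ≫ CohB1.ProjSpace.toSpec 1 k = X ↘ Spec (CommRingCat.of k) := by
  have h1 := finrank_H0_eq_one_of_deg_one k X hdim.le hL hdeg (by omega)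
  exact Groth.Agent.Lib.Helper8.P1Core.exists_iso_P1_of_lt k X hdim hL hdeg (by omega)

end Groth.Agent.Lib.Helper8.P1Two
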