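import Mathlib
import Groth.Agent.Lib.Helper8.PAmp4
import Groth.Agent.Lib.Helper8.PAmp5

/-!
# Helper8 — PAmp7: splitting off the truncation `τ_{≥ a+1} K` (S7003, S7004), general form.
-/

open CategoryTheory CategoryTheory.Limits DerivedCategory CategoryTheory.Pretriangulated

namespace Groth.Agent.Lib.Helper8.PAmp

open Groth.Agent.Lib.Helper8.DTrunc

universe w v u

variable {A : Type u} [Category.{v} A] [Abelian A] [HasDerivedCategory.{w} A]

/-- a map `τ_{≥ a+1} K ⟶ Y` with `Y ∈ D^{≥ a}` killed by `K ⟶ τ_{≥ a+1} K` is zero. -/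
lemma eq_zero_of_truncGEπ_comp_eq_zero (a : ℤ) (K Y : DerivedCategory A) [Y.IsGE a]
    (ξ : (tt.truncGE (a + 1)).obj K ⟶ Y) (h : (tt.truncGEπ (a + 1)).app K ≫ ξ = 0) : ξ = 0 := by
  have hT := tt.triangleLTGE_distinguished (a + 1) K
  obtain ⟨s, hs⟩ : ∃ s : ((tt.truncLT (a + 1)).obj K)⟦(1 : ℤ)⟧ ⟶ Y,
      ξ = (tt.truncGEδLT (a + 1)).app K ≫ s := Triangle.yoneda_exact₃ _ hT ξ h
  have : tt.IsLE ((tt.truncLT (a + 1)).obj K) a := inferInstance
  have : tt.IsLE (((tt.truncLT (a + 1)).obj K)⟦(1 : ℤ)⟧) (a - 1) :=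
    tt.isLE_shift ((tt.truncLT (a + 1)).obj K) a 1 (a - 1)
  rw [hs, tt.zero s (a - 1) a, comp_zero]

/-- the truncation triangle at `a+1` splits when `τ_{≥ a+1} K` has projective amplitude `≥ a+1`. -/
lemma exists_iso_biprod_trunc (a b : ℤ) (K : DerivedCategory A)
    (h : HasProjAmp (a + 1) b ((tt.truncGE (a + 1)).obj K)) :
    ∃ e : K ≅ (tt.truncLT (a + 1)).obj K ⊞ (tt.truncGE (a + 1)).obj K,
      (tt.truncLTι (a + 1)).app K ≫ e.hom = biprod.inl ∧
        e.hom ≫ biprod.snd = (tt.truncGEπ (a + 1)).app K := by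
  have hT := tt.triangleLTGE_distinguished (a + 1) K
  have : tt.IsLE ((tt.truncLT (a + 1)).obj K) a := inferInstance
  have : tt.IsLE (((tt.truncLT (a + 1)).obj K)⟦(1 : ℤ)⟧) (a - 1) :=
    tt.isLE_shift ((tt.truncLT (a + 1)).obj K) a 1 (a - 1)
  have h0 : ((tt.triangleLTGE (a + 1)).obj K).mor₃ = 0 :=
    h.hom_eq_zero (((tt.truncLT (a + 1)).obj K)⟦(1 : ℤ)⟧) (a - 1) (by omega) _
  obtain ⟨e, he1, he2⟩ := exists_iso_binaryBiproduct_of_distTriang _ hT h0
  exact ⟨e, he1, he2.symm⟩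

/-- `τ_{<a} K ⟶ τ_{<a+1} K` is an isomorphism when `H^a(K) = 0`. -/
lemma isIso_natTransTruncLTOfLE (a : ℤ) (K : DerivedCategory A)
    (hz : IsZero ((homologyFunctor A a).obj K)) :
    IsIso ((tt.natTransTruncLTOfLE a (a + 1) (le_of_lt (lt_add_one a))).app K) := by
  rw [DerivedCategory.isIso_iff]
  intro n
  have hcomp := tt.natTransTruncLTOfLE_ι_app a (a + 1) (le_of_lt (lt_add_one a)) K
  by_cases hn : n < a
  · have h1 := isIso_homologyMap_truncLTι K a n hn
    have h2 := isIso_homologyMap_truncLTι K (a + 1) n (by omega)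
    have h3 : (homologyFunctor A n).map ((tt.natTransTruncLTOfLE a (a + 1) (le_of_lt (lt_add_one a))).app K) ≫
        (homologyFunctor A n).map ((tt.truncLTι (a + 1)).app K) =
        (homologyFunctor A n).map ((tt.truncLTι a).app K) := by
      rw [← Functor.map_comp, hcomp]
    exact IsIso.of_isIso_fac_right h3
  · have hs : IsZero ((homologyFunctor A n).obj ((tt.truncLT a).obj K)) := by
      have : tt.IsLE ((tt.truncLT a).obj K) (a - 1) := inferInstance
      exact isZero_of_isLE _ (a - 1) n (by omega)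
    have ht : IsZero ((homologyFunctor A n).obj ((tt.truncLT (a + 1)).obj K)) := by
      by_cases hna : n = a
      · subst hna
        have := isIso_homologyMap_truncLTι K (n + 1) n (by omega)
        exact hz.of_iso (asIso ((homologyFunctor A n).map ((tt.truncLTι (n + 1)).app K)))
      · have : tt.IsLE ((tt.truncLT (a + 1)).obj K) a := inferInstance
        exact isZero_of_isLE _ a n (by omega)
    exact ⟨0, hs.eq_of_src _ _, ht.eq_of_src _ _⟩

/-- variant of the previous splitting with `τ_{<a}` in place of `τ_{<a+1}` when `H^a(K) = 0`. -/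
lemma exists_iso_biprod_trunc' (a b : ℤ) (K : DerivedCategory A)
    (h : HasProjAmp (a + 1) b ((tt.truncGE (a + 1)).obj K))
    (hz : IsZero ((homologyFunctor A a).obj K)) :
    ∃ e : K ≅ (tt.truncLT a).obj K ⊞ (tt.truncGE (a + 1)).obj K,
      (tt.truncLTι a).app K ≫ e.hom = biprod.inl ∧
        e.hom ≫ biprod.snd = (tt.truncGEπ (a + 1)).app K := by
  obtain ⟨e₁, h1, h2⟩ := exists_iso_biprod_trunc a b K h
  have := isIso_natTransTruncLTOfLE a K hz
  let j := asIso ((tt.natTransTruncLTOfLE a (a + 1) (le_of_lt (lt_add_one a))).app K)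
  refine ⟨e₁ ≪≫ biprod.mapIso j.symm (Iso.refl _), ?_, ?_⟩
  · have hcomp := tt.natTransTruncLTOfLE_ι_app a (a + 1) (le_of_lt (lt_add_one a)) K
    rw [← hcomp]
    simp only [Iso.trans_hom, biprod.mapIso_hom, Iso.symm_hom, Iso.refl_hom, Category.assoc]
    rw [reassoc_of% h1, biprod.inl_map]
    simp [j]
  · simp only [Iso.trans_hom, biprod.mapIso_hom, Iso.symm_hom, Iso.refl_hom, Category.assoc,
      biprod.map_snd, Category.comp_id]
    exact h2

end Groth.Agent.Lib.Helper8.PAmp
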