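import Mathlib
import Groth.Prelude.Def_DRing2
import Groth.Agent.Lib.Helper8.PAmp6
import Groth.Agent.Lib.Helper8.PAmp7

/-!
# Helper8 — PAmp8: S7003, S7004 over a ring.
-/

open CategoryTheory CategoryTheory.Limits DerivedCategory CategoryTheory.Pretriangulated

attribute [local instance] HasDerivedCategory.standard

namespace Groth.Agent.Lib.Helper8.PAmp

open Groth.Agent.Lib.Helper8.DTrunc

universe u

variable {R : Type u} [CommRing R]

lemma hasProjAmp_of_ext_vanishing' {A : Type*} [Category A] [Abelian A] [HasDerivedCategory A]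
    [EnoughInjectives A] [EnoughProjectives A] (a b m a' : ℤ) (hm : m = -a + 1) (ha' : a' = a - 1)
    (K : DerivedCategory A) (hGE : K.IsGE a') (hLE : K.IsLE b)
    (H : ∀ (N : A) (ξ : K ⟶ ((singleFunctor A 0).obj N)⟦m⟧), ξ = 0) : HasProjAmp a b K := by
  subst hm ha'
  exact hasProjAmp_of_ext_vanishing a b K H

/-- common part: projective amplitude of `τ_{≥ a+1} K` from vanishing of maps to `N[-a]`. -/
lemma hasProjAmp_truncGE (a b : ℤ) (K : Dual.D R) [K.IsLE b]
    (H : ∀ (N : ModuleCat.{u} R)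
      (ξ : (tt.truncGE (a + 1)).obj K ⟶ ((singleFunctor (ModuleCat.{u} R) 0).obj N)⟦(-a : ℤ)⟧),
        (tt.truncGEπ (a + 1)).app K ≫ ξ = 0) :
    HasProjAmp (a + 1) b ((tt.truncGE (a + 1)).obj K) := by
  have h1 : tt.IsGE ((tt.truncGE (a + 1)).obj K) (a + 1) := inferInstance
  have h2 : tt.IsGE ((tt.truncGE (a + 1)).obj K) a := tt.isGE_of_ge _ a (a + 1) (by omega)
  have h3 : tt.IsLE ((tt.truncGE (a + 1)).obj K) b := inferInstance
  refine hasProjAmp_of_ext_vanishing' (a + 1) b (-a) a (by omega) (by omega) _ h2 h3 (fun N ξ => ?_)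
  have : (((singleFunctor (ModuleCat.{u} R) 0).obj N)⟦(-a : ℤ)⟧).IsGE a :=
    tt.isGE_shift ((singleFunctor (ModuleCat.{u} R) 0).obj N) 0 (-a) a
  exact eq_zero_of_truncGEπ_comp_eq_zero a K _ ξ (H N ξ)

/-- S7004 -/
theorem splits_truncLT_of_ext_vanishing (a : ℤ) (K : Dual.D R)
    (hKb : ∃ b : ℤ, ∀ i : ℤ, b < i → Subsingleton (Dual.HD R K i))
    (h : ∀ (M : Type u) [AddCommGroup M] [Module R M],
      Subsingleton (K ⟶ (shiftFunctor (Dual.D R) (-a)).obj (Dual.inD R M)))
    [HasBinaryBiproduct ((tt.truncLT a).obj K) ((tt.truncGE (a + 1)).obj K)] :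
    (∃ e : K ≅ (tt.truncLT a).obj K ⊞ (tt.truncGE (a + 1)).obj K,
      (tt.truncLTι a).app K ≫ e.hom = biprod.inl ∧
        e.hom ≫ biprod.snd = (tt.truncGEπ (a + 1)).app K) ∧
      ∃ (P : DRing.Cx R) (b : ℤ), DRing.VanishesOutside P (a + 1) b ∧
        (∀ i : ℤ, Module.Projective R (P.X i)) ∧
        Nonempty (DRing.toD P ≅ (tt.truncGE (a + 1)).obj K) := by
  obtain ⟨b, hb⟩ := hKb
  have : K.IsLE b := (isLE_iff K b).2 (fun i hi => ModuleCat.isZero_iff_subsingleton.2 (hb i hi))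
  have hamp := hasProjAmp_truncGE a b K (fun N ξ => (h N).elim _ _)
  have hz : IsZero ((homologyFunctor (ModuleCat.{u} R) a).obj K) :=
    ModuleCat.isZero_iff_subsingleton.2 (isZero_homology_of_ext K a h)
  refine ⟨exists_iso_biprod_trunc' a b K hamp hz, ?_⟩
  obtain ⟨P, h1, h2, h3⟩ := (hasProjAmp_iff (a + 1) b _).2 hamp
  exact ⟨P, b, h1, h2, h3⟩

/-- S7003 -/
theorem splits_truncLE_of_ext_injective_on_injections (a : ℤ) (K : Dual.D R)
    (hKb : ∃ b : ℤ, ∀ i : ℤ, b < i → Subsingleton (Dual.HD R K i))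
    (h : ∀ (M M' : Type u) [AddCommGroup M] [Module R M] [AddCommGroup M'] [Module R M']
      (g : M →ₗ[R] M'), Function.Injective g →
      Function.Injective (fun x : K ⟶ (shiftFunctor (Dual.D R) (-a)).obj (Dual.inD R M) =>
        x ≫ (shiftFunctor (Dual.D R) (-a)).map
          ((DerivedCategory.singleFunctor (ModuleCat.{u} R) 0).map (ModuleCat.ofHom g))))
    [HasBinaryBiproduct ((tt.truncLT (a + 1)).obj K) ((tt.truncGE (a + 1)).obj K)] :
    (∃ e : K ≅ (tt.truncLT (a + 1)).obj K ⊞ (tt.truncGE (a + 1)).obj K,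
      (tt.truncLTι (a + 1)).app K ≫ e.hom = biprod.inl ∧
        e.hom ≫ biprod.snd = (tt.truncGEπ (a + 1)).app K) ∧
      ∃ (P : DRing.Cx R) (b : ℤ), DRing.VanishesOutside P (a + 1) b ∧
        (∀ i : ℤ, Module.Projective R (P.X i)) ∧
        Nonempty (DRing.toD P ≅ (tt.truncGE (a + 1)).obj K) := by
  obtain ⟨b, hb⟩ := hKb
  have : K.IsLE b := (isLE_iff K b).2 (fun i hi => ModuleCat.isZero_iff_subsingleton.2 (hb i hi))
  have hamp : HasProjAmp (a + 1) b ((tt.truncGE (a + 1)).obj K) := by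
    refine hasProjAmp_truncGE a b K (fun N ξ => ?_)
    let J := Injective.under N
    have hg : Function.Injective (Injective.ι N).hom :=
      (ModuleCat.mono_iff_injective _).1 inferInstance
    apply h N J (Injective.ι N).hom hg
    dsimp only
    rw [zero_comp, Category.assoc]
    have : tt.IsGE ((tt.truncGE (a + 1)).obj K) (a + 1) := inferInstance
    have h0 := hom_single_injective_eq_zero a J ((tt.truncGE (a + 1)).obj K) (a + 1) (by omega)
      ((ξ ≫ (shiftFunctor (Dual.D R) (-a)).map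
          ((DerivedCategory.singleFunctor (ModuleCat.{u} R) 0).map
            (ModuleCat.ofHom (Injective.ι N).hom))) ≫
        ((singleFunctors (ModuleCat.{u} R)).shiftIso (-a) a 0 (by omega)).hom.app J)
    have h1 := (cancel_mono _).1 (h0.trans zero_comp.symm)
    rw [h1, comp_zero]
  refine ⟨exists_iso_biprod_trunc a b K hamp, ?_⟩
  obtain ⟨P, h1, h2, h3⟩ := (hasProjAmp_iff (a + 1) b _).2 hamp
  exact ⟨P, b, h1, h2, h3⟩

end Groth.Agent.Lib.Helper8.PAmp
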