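import Mathlib.Algebra.Homology.HomotopyCategory.HomologicalFunctor
import Mathlib.Algebra.Homology.HomotopyCategory.ShiftSequence
import Mathlib.Algebra.Homology.DerivedCategory.Basic

/-!
# Helper8: `n`-quasi-isomorphisms and mapping cones (PCoh cluster)
-/

universe v u

open CategoryTheory CategoryTheory.Limits CategoryTheory.Pretriangulated

namespace Groth.Agent.Lib.Helper8.PC1

variable {A : Type u} [Category.{v} A] [Abelian A]

/-- the homological functor `H^0` on the homotopy category -/
noncomputable abbrev H₀ : HomotopyCategory A (ComplexShape.up ℤ) ⥤ A :=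
  HomotopyCategory.homologyFunctor A (ComplexShape.up ℤ) 0

/-- comparison of `H^n` of the homotopy category with the homology of complexes -/
noncomputable abbrev hIso (K : CochainComplex A ℤ) (n : ℤ) :
    ((H₀ (A := A)).shift n).obj ((HomotopyCategory.quotient A (ComplexShape.up ℤ)).obj K) ≅
      K.homology n :=
  (HomotopyCategory.homologyFunctorFactors A (ComplexShape.up ℤ) n).app K

lemma hIso_nat {K L : CochainComplex A ℤ} (f : K ⟶ L) (n : ℤ) :
    ((H₀ (A := A)).shift n).map ((HomotopyCategory.quotient A (ComplexShape.up ℤ)).map f) ≫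
      (hIso L n).hom = (hIso K n).hom ≫ HomologicalComplex.homologyMap f n :=
  (HomotopyCategory.homologyFunctorFactors A (ComplexShape.up ℤ) n).hom.naturality f

lemma shift_map_eq {K L : CochainComplex A ℤ} (f : K ⟶ L) (n : ℤ) :
    ((H₀ (A := A)).shift n).map ((HomotopyCategory.quotient A (ComplexShape.up ℤ)).map f) =
      (hIso K n).hom ≫ HomologicalComplex.homologyMap f n ≫ (hIso L n).inv := by
  rw [← Category.assoc, ← hIso_nat, Category.assoc, Iso.hom_inv_id, Category.comp_id]

lemma homologyMap_eq {K L : CochainComplex A ℤ} (f : K ⟶ L) (n : ℤ) :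
    HomologicalComplex.homologyMap f n = (hIso K n).inv ≫
      ((H₀ (A := A)).shift n).map ((HomotopyCategory.quotient A (ComplexShape.up ℤ)).map f) ≫
      (hIso L n).hom := by
  rw [hIso_nat, Iso.inv_hom_id_assoc]

lemma epi_shift_iff {K L : CochainComplex A ℤ} (f : K ⟶ L) (n : ℤ) :
    Epi (((H₀ (A := A)).shift n).map ((HomotopyCategory.quotient A (ComplexShape.up ℤ)).map f)) ↔
      Epi (HomologicalComplex.homologyMap f n) := by
  constructor
  · intro h
    rw [homologyMap_eq]
    have : Epi (((H₀ (A := A)).shift n).map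
      ((HomotopyCategory.quotient A (ComplexShape.up ℤ)).map f) ≫ (hIso L n).hom) := epi_comp _ _
    exact epi_comp _ _
  · intro h
    rw [shift_map_eq]
    have : Epi (HomologicalComplex.homologyMap f n ≫ (hIso L n).inv) := epi_comp _ _
    exact epi_comp _ _

lemma mono_shift_iff {K L : CochainComplex A ℤ} (f : K ⟶ L) (n : ℤ) :
    Mono (((H₀ (A := A)).shift n).map ((HomotopyCategory.quotient A (ComplexShape.up ℤ)).map f)) ↔
      Mono (HomologicalComplex.homologyMap f n) := by
  constructor
  · intro h
    rw [homologyMap_eq]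
    have : Mono (((H₀ (A := A)).shift n).map
      ((HomotopyCategory.quotient A (ComplexShape.up ℤ)).map f) ≫ (hIso L n).hom) := mono_comp _ _
    exact mono_comp _ _
  · intro h
    rw [shift_map_eq]
    have : Mono (HomologicalComplex.homologyMap f n ≫ (hIso L n).inv) := mono_comp _ _
    exact mono_comp _ _

lemma isZero_shift_iff (K : CochainComplex A ℤ) (n : ℤ) :
    IsZero (((H₀ (A := A)).shift n).obj ((HomotopyCategory.quotient A (ComplexShape.up ℤ)).obj K)) ↔
      K.ExactAt n := by
  rw [HomologicalComplex.exactAt_iff_isZero_homology]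
  exact (hIso K n).isZero_iff

/-- in a distinguished triangle of the homotopy category, `H^j` of the third object vanishes iff
`H^j` of the first map is an epimorphism and `H^{j+1}` of it is a monomorphism -/
lemma isZero_obj₃_iff (T : Triangle (HomotopyCategory A (ComplexShape.up ℤ)))
    (hT : T ∈ distTriang _) (j : ℤ) :
    IsZero (((H₀ (A := A)).shift j).obj T.obj₃) ↔
      Epi (((H₀ (A := A)).shift j).map T.mor₁) ∧ Mono (((H₀ (A := A)).shift (j + 1)).map T.mor₁) := by
  constructor
  · intro hz
    constructor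
    · rw [(H₀ (A := A)).homologySequence_epi_shift_map_mor₁_iff T hT j]
      exact hz.eq_of_tgt _ _
    · rw [(H₀ (A := A)).homologySequence_mono_shift_map_mor₁_iff T hT j (j + 1) rfl]
      exact hz.eq_of_src _ _
  · rintro ⟨e1, e2⟩
    have z1 := ((H₀ (A := A)).homologySequence_epi_shift_map_mor₁_iff T hT j).1 e1
    have z2 := ((H₀ (A := A)).homologySequence_mono_shift_map_mor₁_iff T hT j (j + 1) rfl).1 e2
    have hex := (H₀ (A := A)).homologySequence_exact₃ T hT j (j + 1) rfl
    have h3 : Epi (((H₀ (A := A)).shift j).map T.mor₂) := hex.epi_f_iff.2 z2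
    exact IsZero.of_epi_eq_zero _ z1

/-- `n`-quasi-isomorphisms -/
def NQI (n : ℤ) {E F : CochainComplex A ℤ} (u : E ⟶ F) : Prop :=
  (∀ j : ℤ, n < j → IsIso (HomologicalComplex.homologyMap u j)) ∧
    Epi (HomologicalComplex.homologyMap u n)

lemma NQI.epi {n : ℤ} {E F : CochainComplex A ℤ} {u : E ⟶ F} (h : NQI n u) (j : ℤ) (hj : n ≤ j) :
    Epi (HomologicalComplex.homologyMap u j) := by
  rcases hj.eq_or_lt with rfl | hlt
  · exact h.2
  · have := h.1 j hlt
    infer_instance

lemma NQI.mono {n : ℤ} {E F : CochainComplex A ℤ} {u : E ⟶ F} (h : NQI n u) (j : ℤ) (hj : n < j) :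
    Mono (HomologicalComplex.homologyMap u j) := by
  have := h.1 j hj
  infer_instance

lemma nqi_of_epi_mono {n : ℤ} {E F : CochainComplex A ℤ} {u : E ⟶ F}
    (he : ∀ j : ℤ, n ≤ j → Epi (HomologicalComplex.homologyMap u j))
    (hm : ∀ j : ℤ, n < j → Mono (HomologicalComplex.homologyMap u j)) : NQI n u := by
  refine ⟨fun j hj => ?_, he n le_rfl⟩
  have := he j hj.le
  have := hm j hj
  exact isIso_of_mono_of_epi _

/-- the mapping cone criterion -/
theorem nqi_iff_cone (n : ℤ) {E F : CochainComplex A ℤ} (u : E ⟶ F) :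
    NQI n u ↔ ∀ j : ℤ, n ≤ j → (CochainComplex.mappingCone u).ExactAt j := by
  have hT := HomotopyCategory.mappingCone_triangleh_distinguished u
  have key : ∀ j : ℤ, (CochainComplex.mappingCone u).ExactAt j ↔
      Epi (HomologicalComplex.homologyMap u j) ∧ Mono (HomologicalComplex.homologyMap u (j + 1)) := by
    intro j
    rw [← isZero_shift_iff, ← epi_shift_iff, ← mono_shift_iff]
    exact isZero_obj₃_iff _ hT j
  constructor
  · intro h j hj
    rw [key]
    exact ⟨h.epi j hj, h.mono (j + 1) (by omega)⟩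
  · intro h
    apply nqi_of_epi_mono
    · intro j hj
      exact ((key j).1 (h j hj)).1
    · intro j hj
      have := ((key (j - 1)).1 (h (j - 1) (by omega))).2
      rwa [sub_add_cancel] at this

lemma nqi_of_quasiIso (n : ℤ) {E F : CochainComplex A ℤ} (u : E ⟶ F) [QuasiIso u] : NQI n u :=
  ⟨fun j _ => inferInstance, inferInstance⟩

lemma quasiIso_of_forall_nqi {E F : CochainComplex A ℤ} (u : E ⟶ F) (h : ∀ n : ℤ, NQI n u) :
    QuasiIso u := by
  rw [quasiIso_iff]
  intro j
  rw [quasiIsoAt_iff_isIso_homologyMap]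
  exact (h (j - 1)).1 j (by omega)

end Groth.Agent.Lib.Helper8.PC1
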