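import Groth.Agent.Lib.Helper8.PC9

/-!
# Helper8: complexes with pseudo-coherent terms (PCoh cluster, S5619)
-/

universe w v u

open CategoryTheory CategoryTheory.Limits CategoryTheory.Pretriangulated CochainComplex HomComplex

namespace Groth.Agent.Lib.Helper8.PC10

open PC1 PC2 PC3 PC4 PC5 PC6 PC7 PC8 PC9 ZeroObject

variable {A : Type u} [Category.{v} A] [Abelian A]

/-- a chain map which is an isomorphism in degrees `≥ n` is an `n`-quasi-isomorphism -/
lemma nqi_of_isIso_f {G F : CochainComplex A ℤ} (ι : G ⟶ F) (n : ℤ)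
    (h : ∀ i : ℤ, n ≤ i → IsIso (ι.f i)) : NQI n ι := by
  constructor
  · intro i hi
    have h1 : IsIso (ι.f ((ComplexShape.up ℤ).prev i)) := h _ (by simp; omega)
    have h2 : IsIso (ι.f i) := h _ (by omega)
    have h3 : IsIso (ι.f ((ComplexShape.up ℤ).next i)) := h _ (by simp; omega)
    let φ := (HomologicalComplex.shortComplexFunctor A (ComplexShape.up ℤ) i).map ι
    have : Epi φ.τ₁ := by change Epi (ι.f _); infer_instance
    have : IsIso φ.τ₂ := by change IsIso (ι.f _); infer_instance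
    have : Mono φ.τ₃ := by change Mono (ι.f _); infer_instance
    have hq : ShortComplex.QuasiIso φ := ShortComplex.quasiIso_of_epi_of_isIso_of_mono φ
    exact hq.1
  · have h2 : IsIso (ι.f n) := h _ le_rfl
    have h3 : IsIso (ι.f ((ComplexShape.up ℤ).next n)) := h _ (by simp)
    let φ := (HomologicalComplex.shortComplexFunctor A (ComplexShape.up ℤ) n).map ι
    have : IsIso φ.τ₂ := by change IsIso (ι.f _); infer_instance
    have : Mono φ.τ₃ := by change Mono (ι.f _); infer_instance
    exact ShortComplex.epi_homologyMap_of_epi_cyclesMap' φ inferInstance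

section Brutal

variable {G F : CochainComplex A ℤ} (ι : G ⟶ F) (j : ℤ)
  (hiso : ∀ i : ℤ, j + 1 ≤ i → IsIso (ι.f i)) (hz : ∀ i : ℤ, i < j + 1 → IsZero (G.X i))

include hiso hz in
/-- adding the term `F^j` to a brutal truncation -/
theorem brutal_step :
    ∃ (s : SL j (F.X j) ⟶ G) (ι' : mappingCone s ⟶ F), (∀ i : ℤ, j ≤ i → IsIso (ι'.f i)) ∧
      (∀ i : ℤ, i < j → IsZero ((mappingCone s).X i)) := by
  have h1 : IsIso (ι.f (j + 1)) := hiso _ le_rfl
  have h2 : IsIso (ι.f (j + 1 + 1)) := hiso _ (by omega)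
  have hlam : (F.d j (j + 1) ≫ inv (ι.f (j + 1))) ≫ G.d (j + 1) (j + 1 + 1) = 0 := by
    have hc : inv (ι.f (j + 1)) ≫ G.d (j + 1) (j + 1 + 1) =
        F.d (j + 1) (j + 1 + 1) ≫ inv (ι.f (j + 1 + 1)) := by
      rw [IsIso.inv_comp_eq, ← Category.assoc, IsIso.eq_comp_inv, ι.comm]
    rw [Category.assoc, hc, ← Category.assoc, F.d_comp_d, zero_comp]
  have hmu : (F.d j (j + 1) ≫ inv (ι.f (j + 1))) ≫ ι.f (j + 1) + (-𝟙 (F.X j)) ≫ F.d j (j + 1) = 0 := by
    rw [Category.assoc, IsIso.inv_hom_id, Category.comp_id, Preadditive.neg_comp, Category.id_comp,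
      add_neg_cancel]
  refine ⟨sMap j _ hlam, u' ι j _ (-𝟙 (F.X j)) hlam hmu, fun i hi => ?_, fun i hi => ?_⟩
  · rcases hi.eq_or_lt with rfl | hlt
    · have hinl : IsIso ((mappingCone.inl (sMap j _ hlam)).v (j + 1) j (by omega)) := by
        refine ⟨(mappingCone.fst (sMap j _ hlam)).1.v j (j + 1) rfl,
          mappingCone.inl_v_fst_v _ _ _ _, ?_⟩
        have hid := mappingCone.id_X (sMap j _ hlam) j (j + 1) rfl
        have h0 : (mappingCone.snd (sMap j _ hlam)).v j j (add_zero j) = 0 :=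
          (hz j (by omega)).eq_of_tgt _ _
        rw [h0, zero_comp, add_zero] at hid
        exact hid
      have hfac : (mappingCone.inl (sMap j _ hlam)).v (j + 1) j (by omega) ≫
          (u' ι j _ (-𝟙 (F.X j)) hlam hmu).f j = (sIso j (F.X j)).hom := by
        rw [u', mappingCone.inl_v_desc_f, aCo_v, neg_neg, Category.comp_id]
      exact IsIso.of_isIso_fac_left hfac
    · have hv : IsIso ((vMap j _ hlam).f i) := isIso_vMap_f j _ hlam i (by omega)
      have hι : IsIso (ι.f i) := hiso i (by omega)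
      have hfac : (vMap j _ hlam).f i ≫ (u' ι j _ (-𝟙 (F.X j)) hlam hmu).f i = ι.f i := by
        rw [← HomologicalComplex.comp_f, v_u']
      exact IsIso.of_isIso_fac_left hfac
  · exact isZero_cone _ i (HomologicalComplex.isZero_single_obj_X _ _ _ _ (by omega))
      (hz i (by omega))

end Brutal

section Derived

variable [HasDerivedCategory.{w} A] (P : ObjectProperty A)

/-- pseudo-coherence of an object placed in degree `i + 1` -/
lemma npc_single {n i : ℤ} {X : A}
    (h : IsNPC P (n - i) ((DerivedCategory.singleFunctor A 0).obj X)) :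
    IsNPC P (n + 1) (DerivedCategory.Q.obj (SL i X)) := by
  have h1 := h.shift (-(i + 1))
  have e1 : ((DerivedCategory.singleFunctor A 0).obj X)⟦-(i + 1)⟧ ≅
      (DerivedCategory.singleFunctor A (i + 1)).obj X :=
    ((DerivedCategory.singleFunctors A).shiftIso (-(i + 1)) (i + 1) 0 (by omega)).app X
  have e2 : (DerivedCategory.singleFunctor A (i + 1)).obj X ≅ DerivedCategory.Q.obj (SL i X) :=
    (DerivedCategory.singleFunctorIsoCompQ A (i + 1)).app X
  have h2 := h1.of_iso (e1 ≪≫ e2)
  have : n - i - -(i + 1) = n + 1 := by omega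
  rwa [this] at h2

variable [P.IsClosedUnderIsomorphisms] [P.ContainsZero]

/-- S5619 -/
theorem npc_of_terms (hsum : ∀ X Y : A, P X → P Y → P (X ⨯ Y))
    (hqs : PCoh.IsQuasiStableUnderKernels P) (hql : PCoh.IsQuasiLiftable P) (n : ℤ)
    (F : CochainComplex A ℤ) (b : ℤ) (hb : ∀ i : ℤ, b < i → IsZero (F.X i))
    (hfp : ∀ i : ℤ, n ≤ i → IsNPC P (n - i) ((DerivedCategory.singleFunctor A 0).obj (F.X i))) :
    IsNPC P n (DerivedCategory.Q.obj F) := by
  have key : ∀ (k : ℕ) (j : ℤ), j + k = max (b + 1) n → n ≤ j →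
      ∃ (G : CochainComplex A ℤ) (ι : G ⟶ F), (∀ i : ℤ, j ≤ i → IsIso (ι.f i)) ∧
        (∀ i : ℤ, i < j → IsZero (G.X i)) ∧ IsNPC P n (DerivedCategory.Q.obj G) := by
    intro k
    induction k with
    | zero =>
      intro j hj _
      refine ⟨0, 0, fun i hi => ?_, fun i _ => isZero_zero_X i,
        ⟨0, strictPC_of_all P (strictPCAll_zero P) n, ⟨Iso.refl _⟩⟩⟩
      have hF : IsZero (F.X i) := hb i (by push_cast at hj; omega)
      exact ⟨0, (isZero_zero_X i).eq_of_src _ _, hF.eq_of_src _ _⟩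
    | succ k ih =>
      intro j hj hn
      obtain ⟨G, ι, hiso, hz, hG⟩ := ih (j + 1) (by push_cast at hj ⊢; omega) (by omega)
      obtain ⟨s, ι', hiso', hz'⟩ := brutal_step ι j hiso hz
      refine ⟨mappingCone s, ι', hiso', hz', ?_⟩
      exact IsNPC.cone hsum hqs hql n _ (DerivedCategory.mappingCone_triangle_distinguished s)
        (npc_single P (hfp j hn)) hG
  obtain ⟨G, ι, hiso, -, hG⟩ := key (max (b + 1) n - n).toNat n (by omega) le_rfl
  have hcone : IsNPC P n (DerivedCategory.Q.obj (mappingCone ι)) := by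
    apply npc_of_acyclic
    intro i hi
    rw [← exactAt_iff_derived]
    exact (nqi_iff_cone n ι).1 (nqi_of_isIso_f ι n hiso) i hi
  exact (triangle_all hsum hqs hql n _
    (DerivedCategory.mappingCone_triangle_distinguished ι)).2.1 hG hcone

end Derived

end Groth.Agent.Lib.Helper8.PC10
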