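import Groth.Agent.Lib.Helper8.PC11
import Mathlib.Algebra.Homology.DerivedCategory.TStructure
import Mathlib.CategoryTheory.Triangulated.TStructure.TruncLTGE

/-!
# Helper8: pseudo-coherence from the cohomology objects (PCoh cluster, S5604)
-/

universe w v u

open CategoryTheory CategoryTheory.Limits CategoryTheory.Pretriangulated CochainComplex HomComplex

namespace Groth.Agent.Lib.Helper8.PC12

open PC1 PC2 PC3 PC4 PC5 PC6 PC7 PC8 PC9 PC10 PC11 ZeroObject DerivedCategory

variable {A : Type u} [Category.{v} A] [Abelian A] [HasDerivedCategory.{w} A]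

section LES

variable (T : Triangle (DerivedCategory A)) (hT : T ∈ distTriang (DerivedCategory A))

include hT

lemma isIso_homology_mor₁ (i : ℤ) (h0 : IsZero ((homologyFunctor A (i - 1)).obj T.obj₃))
    (h1 : IsZero ((homologyFunctor A i).obj T.obj₃)) :
    IsIso ((homologyFunctor A i).map T.mor₁) := by
  have hm : Mono ((homologyFunctor A i).map T.mor₁) :=
    (HomologySequence.mono_homologyMap_mor₁_iff T hT (i - 1) i (by omega)).2 (h0.eq_of_src _ _)
  have he : Epi ((homologyFunctor A i).map T.mor₁) :=
    (HomologySequence.epi_homologyMap_mor₁_iff T hT i).2 (h1.eq_of_tgt _ _)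
  exact isIso_of_mono_of_epi _

lemma isIso_homology_mor₂ (i : ℤ) (h0 : IsZero ((homologyFunctor A i).obj T.obj₁))
    (h1 : IsZero ((homologyFunctor A (i + 1)).obj T.obj₁)) :
    IsIso ((homologyFunctor A i).map T.mor₂) := by
  have hm : Mono ((homologyFunctor A i).map T.mor₂) :=
    (HomologySequence.mono_homologyMap_mor₂_iff T hT i).2 (h0.eq_of_src _ _)
  have he : Epi ((homologyFunctor A i).map T.mor₂) :=
    (HomologySequence.epi_homologyMap_mor₂_iff T hT i (i + 1) rfl).2 (h1.eq_of_tgt _ _)
  exact isIso_of_mono_of_epi _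

lemma isZero_homology_obj₃ (i : ℤ) (h0 : IsZero ((homologyFunctor A i).obj T.obj₂))
    (h1 : IsZero ((homologyFunctor A (i + 1)).obj T.obj₁)) :
    IsZero ((homologyFunctor A i).obj T.obj₃) :=
  (HomologySequence.exact₃ T hT i (i + 1) rfl).isZero_X₂ (h0.eq_of_src _ _) (h1.eq_of_tgt _ _)

end LES

/-- the derived homology of an object placed in degree `m` -/
noncomputable def homologySingleIso' (m : ℤ) (X : A) :
    (homologyFunctor A m).obj ((DerivedCategory.singleFunctor A m).obj X) ≅ X :=
  (homologyFunctor A m).mapIso ((singleFunctorIsoCompQ A m).app X)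
    ≪≫ hIsoD _ m ≪≫ HomologicalComplex.singleObjHomologySelfIso (ComplexShape.up ℤ) m X

variable (P : ObjectProperty A) [P.IsClosedUnderIsomorphisms] [P.ContainsZero]

omit [P.IsClosedUnderIsomorphisms] [P.ContainsZero] in
/-- pseudo-coherence of an object placed in degree `m` -/
lemma npc_single' {n m : ℤ} {X : A}
    (h : IsNPC P (n - m) ((DerivedCategory.singleFunctor A 0).obj X)) :
    IsNPC P n ((DerivedCategory.singleFunctor A m).obj X) := by
  have h1 := h.shift (-m)
  have e1 : ((DerivedCategory.singleFunctor A 0).obj X)⟦-m⟧ ≅ (DerivedCategory.singleFunctor A m).obj X :=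
    ((DerivedCategory.singleFunctors A).shiftIso (-m) m 0 (by omega)).app X
  have h2 := h1.of_iso e1
  have : n - m - -m = n := by omega
  rwa [this] at h2

/-- S5604 -/
theorem npc_of_homology (hsum : ∀ X Y : A, P X → P Y → P (X ⨯ Y))
    (hqs : PCoh.IsQuasiStableUnderKernels P) (hql : PCoh.IsQuasiLiftable P) (n : ℤ) :
    ∀ (k : ℕ) (X : DerivedCategory A),
      (∀ i : ℤ, n + k ≤ i → IsZero ((homologyFunctor A i).obj X)) →
      (∀ i : ℤ, n ≤ i → IsNPC P (n - i) ((DerivedCategory.singleFunctor A 0).obj ((homologyFunctor A i).obj X))) →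
      IsNPC P n X := by
  intro k
  induction k with
  | zero =>
    intro X hac _
    exact npc_of_acyclic P n X (fun i hi => hac i (by simpa using hi))
  | succ k ih =>
    intro X hac hfp
    have hT := TStructure.t.triangleLTGE_distinguished (n + k) X
    set T := (TStructure.t.triangleLTGE (n + k)).obj X with hTdef
    have hX₁le : T.obj₁.IsLE (n + k - 1) := by dsimp [T]; infer_instance
    have hX₃ge : T.obj₃.IsGE (n + k) := by dsimp [T]; infer_instance
    have h₁z : ∀ i : ℤ, n + k ≤ i → IsZero ((homologyFunctor A i).obj T.obj₁) :=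
      fun i hi => isZero_of_isLE _ (n + k - 1) i (by omega)
    have h₃z : ∀ i : ℤ, i < n + k → IsZero ((homologyFunctor A i).obj T.obj₃) :=
      fun i hi => isZero_of_isGE _ (n + k) i hi
    have hX₃le : T.obj₃.IsLE (n + k) := by
      rw [DerivedCategory.isLE_iff]
      intro i hi
      exact isZero_homology_obj₃ T hT i (hac i (by push_cast; omega)) (h₁z _ (by omega))
    obtain ⟨Y, ⟨e⟩⟩ := exists_iso_singleFunctor_obj_of_isGE_of_isLE T.obj₃ (n + k)
    have hiso₂ := isIso_homology_mor₂ T hT (n + k) (h₁z _ le_rfl) (h₁z _ (by omega))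
    have eY : (homologyFunctor A (n + k)).obj X ≅ Y :=
      @asIso _ _ _ _ ((homologyFunctor A (n + k)).map T.mor₂) hiso₂ ≪≫
        (homologyFunctor A (n + k)).mapIso e ≪≫ homologySingleIso' (n + k) Y
    have h₃ : IsNPC P n T.obj₃ := by
      refine IsNPC.of_iso e.symm (npc_single' P ?_)
      exact (hfp (n + k) (by omega)).of_iso ((DerivedCategory.singleFunctor A 0).mapIso eY)
    have h₁ : IsNPC P n T.obj₁ := by
      refine ih T.obj₁ h₁z (fun i hi => ?_)
      by_cases him : i < n + k
      · have hiso₁ := isIso_homology_mor₁ T hT i (h₃z _ (by omega)) (h₃z _ him)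
        exact (hfp i hi).of_iso ((DerivedCategory.singleFunctor A 0).mapIso
          (@asIso _ _ _ _ ((homologyFunctor A i).map T.mor₁) hiso₁).symm)
      · apply npc_of_isZero
        exact Functor.map_isZero _ (h₁z i (by omega))
    exact (triangle_all hsum hqs hql n T hT).2.1 h₁ h₃

end Groth.Agent.Lib.Helper8.PC12
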