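import Groth.Agent.Lib.Helper8.PC12

/-!
# Helper8: triangulated functors and pseudo-coherence (PCoh cluster, S5620)
-/

universe w w' v v' u u'

open CategoryTheory CategoryTheory.Limits CategoryTheory.Pretriangulated CochainComplex HomComplex

namespace Groth.Agent.Lib.Helper8.PC15

open PC1 PC2 PC3 PC4 PC5 PC6 PC7 PC8 PC9 PC10 PC11 PC12 ZeroObject

section Brutal

variable {A : Type u} [Category.{v} A] [Abelian A]

/-- construction of the brutal truncations with an invariant -/
theorem brutal_induction (F : CochainComplex A ℤ) (top lo : ℤ)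
    (htop : ∀ i : ℤ, top ≤ i → IsZero (F.X i))
    (Inv : CochainComplex A ℤ → Prop) (h0 : Inv 0)
    (hstep : ∀ (j : ℤ) (G : CochainComplex A ℤ) (s : SL j (F.X j) ⟶ G), j < top → lo ≤ j →
      Inv G → Inv (mappingCone s)) :
    ∀ (k : ℕ) (j : ℤ), j + k = top → lo ≤ j →
      ∃ (G : CochainComplex A ℤ) (ι : G ⟶ F), (∀ i : ℤ, j ≤ i → IsIso (ι.f i)) ∧
        (∀ i : ℤ, i < j → IsZero (G.X i)) ∧ Inv G := by
  intro k
  induction k with
  | zero =>
    intro j hj _
    refine ⟨0, 0, fun i hi => ?_, fun i _ => isZero_zero_X i, h0⟩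
    have hF : IsZero (F.X i) := htop i (by push_cast at hj; omega)
    exact ⟨0, (isZero_zero_X i).eq_of_src _ _, hF.eq_of_src _ _⟩
  | succ k ih =>
    intro j hj hn
    obtain ⟨G, ι, hiso, hz, hG⟩ := ih (j + 1) (by push_cast at hj ⊢; omega) (by omega)
    obtain ⟨s, ι', hiso', hz'⟩ := brutal_step ι j hiso hz
    exact ⟨mappingCone s, ι', hiso', hz', hstep j G s (by push_cast at hj; omega) hn hG⟩

end Brutal

variable {A : Type u} [Category.{v} A] [Abelian A] [HasDerivedCategory.{w} A]
  {A' : Type u'} [Category.{v'} A'] [Abelian A'] [HasDerivedCategory.{w'} A']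
  (F : DerivedCategory A ⥤ DerivedCategory A') [F.CommShift ℤ] [F.IsTriangulated]

/-- shifting the homology in the derived category -/
noncomputable def homologyShiftIso (X : DerivedCategory A) (k i j : ℤ) (h : k + i = j) :
    (DerivedCategory.homologyFunctor A i).obj (X⟦k⟧) ≅ (DerivedCategory.homologyFunctor A j).obj X :=
  ((DerivedCategory.homologyFunctor A 0).shiftIso k i j h).app X

/-- acyclicity bounds for a functor, shifted -/
lemma acyclic_shift (b : ℤ)
    (hii : ∀ X : DerivedCategory A,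
      (∀ i : ℤ, 0 < i → IsZero ((DerivedCategory.homologyFunctor A i).obj X)) →
      ∀ i : ℤ, b < i → IsZero ((DerivedCategory.homologyFunctor A' i).obj (F.obj X)))
    (k : ℤ) (X : DerivedCategory A)
    (hX : ∀ i : ℤ, k < i → IsZero ((DerivedCategory.homologyFunctor A i).obj X)) :
    ∀ i : ℤ, k + b < i → IsZero ((DerivedCategory.homologyFunctor A' i).obj (F.obj X)) := by
  intro i hi
  have h1 : ∀ l : ℤ, 0 < l → IsZero ((DerivedCategory.homologyFunctor A l).obj (X⟦k⟧)) :=
    fun l hl => (hX (k + l) (by omega)).of_iso (homologyShiftIso X k l (k + l) rfl)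
  have h2 := hii (X⟦k⟧) h1 (i - k) (by omega)
  have e1 : (F.obj (X⟦k⟧)) ≅ (F.obj X)⟦k⟧ := (F.commShiftIso k).app X
  have h3 : IsZero ((DerivedCategory.homologyFunctor A' (i - k)).obj ((F.obj X)⟦k⟧)) :=
    h2.of_iso ((DerivedCategory.homologyFunctor A' (i - k)).mapIso e1.symm)
  exact h3.of_iso (homologyShiftIso (F.obj X) k (i - k) i (by omega)).symm

variable (P : ObjectProperty A) [P.IsClosedUnderIsomorphisms] [P.ContainsZero]
  (P' : ObjectProperty A') [P'.IsClosedUnderIsomorphisms] [P'.ContainsZero]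

omit [F.IsTriangulated] in
/-- the image of an object of `P` placed in degree `j + 1` -/
lemma npc_image_single (a : ℤ)
    (hi : ∀ E : A, P E → IsNPC P' a (F.obj ((DerivedCategory.singleFunctor A 0).obj E)))
    (j : ℤ) {E : A} (hE : P E) :
    IsNPC P' (a + j + 1) (F.obj (DerivedCategory.Q.obj (SL j E))) := by
  have h1 := (hi E hE).shift (-(j + 1))
  have e1 : ((DerivedCategory.singleFunctor A 0).obj E)⟦-(j + 1)⟧ ≅
      (DerivedCategory.singleFunctor A (j + 1)).obj E :=
    ((DerivedCategory.singleFunctors A).shiftIso (-(j + 1)) (j + 1) 0 (by omega)).app E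
  have e2 : (DerivedCategory.singleFunctor A (j + 1)).obj E ≅ DerivedCategory.Q.obj (SL j E) :=
    (DerivedCategory.singleFunctorIsoCompQ A (j + 1)).app E
  have e3 : (F.obj ((DerivedCategory.singleFunctor A 0).obj E))⟦-(j + 1)⟧ ≅
      F.obj (DerivedCategory.Q.obj (SL j E)) :=
    ((F.commShiftIso (-(j + 1))).app _).symm ≪≫ F.mapIso (e1 ≪≫ e2)
  have h2 := h1.of_iso e3
  have : a - -(j + 1) = a + j + 1 := by omega
  rwa [this] at h2

/-- S5620 -/
theorem image_npc (hsum : ∀ X Y : A, P X → P Y → P (X ⨯ Y))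
    (hqs : PCoh.IsQuasiStableUnderKernels P) (hql : PCoh.IsQuasiLiftable P)
    (hsum' : ∀ X Y : A', P' X → P' Y → P' (X ⨯ Y))
    (hqs' : PCoh.IsQuasiStableUnderKernels P') (hql' : PCoh.IsQuasiLiftable P')
    (a b : ℤ)
    (hi : ∀ E : A, P E → IsNPC P' a (F.obj ((DerivedCategory.singleFunctor A 0).obj E)))
    (hii : ∀ X : DerivedCategory A,
      (∀ i : ℤ, 0 < i → IsZero ((DerivedCategory.homologyFunctor A i).obj X)) →
      ∀ i : ℤ, b < i → IsZero ((DerivedCategory.homologyFunctor A' i).obj (F.obj X)))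
    (m n : ℤ) (X : DerivedCategory A) (hX : IsNPC P m X)
    (hac : ∀ i : ℤ, n < i → IsZero ((DerivedCategory.homologyFunctor A i).obj X)) :
    IsNPC P' (max (m + b) (n + a)) (F.obj X) ∧
      ∀ i : ℤ, n + b < i → IsZero ((DerivedCategory.homologyFunctor A' i).obj (F.obj X)) := by
  have hac' := acyclic_shift F b hii n X hac
  refine ⟨?_, hac'⟩
  by_cases hmn : m ≤ n + 1
  · obtain ⟨E, hE, hEz, ⟨e⟩⟩ := exists_strict_vanishing P hsum hqs hql m (n + 1) hmn X hX
      (fun i hi => hac i (by omega))
    obtain ⟨G, ι, hiso, -, hG⟩ := brutal_induction E (n + 1) m hEz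
      (fun G => IsNPC P' (n + a) (F.obj (DerivedCategory.Q.obj G)))
      (npc_of_isZero P' _ (F.map_isZero (DerivedCategory.Q.map_isZero (isZero_zero _))))
      (fun j G s hj hmj hG => by
        have hT := F.map_distinguished _ (DerivedCategory.mappingCone_triangle_distinguished s)
        refine IsNPC.cone hsum' hqs' hql' (n + a) _ hT ?_ hG
        exact (npc_image_single F P P' a hi j (hE.2 j hmj)).mono (by omega))
      (n + 1 - m).toNat m (by omega) le_rfl
    have hT := F.map_distinguished _ (DerivedCategory.mappingCone_triangle_distinguished ι)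
    have hC : IsNPC P' (m + b) (F.obj (DerivedCategory.Q.obj (mappingCone ι))) := by
      apply npc_of_acyclic
      have h1 : ∀ i : ℤ, m - 1 < i →
          IsZero ((DerivedCategory.homologyFunctor A i).obj (DerivedCategory.Q.obj (mappingCone ι))) := by
        intro i hi
        rw [← exactAt_iff_derived]
        exact (nqi_iff_cone m ι).1 (nqi_of_isIso_f ι m hiso) i (by omega)
      intro i hi
      exact acyclic_shift F b hii (m - 1) _ h1 i (by omega)
    have := (triangle_all hsum' hqs' hql' (max (m + b) (n + a)) _ hT).2.1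
      (hG.mono (le_max_right _ _)) (hC.mono (le_max_left _ _))
    exact this.of_iso (F.mapIso e)
  · apply npc_of_acyclic
    intro i hi
    exact hac' i (by omega)

end Groth.Agent.Lib.Helper8.PC15
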