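import Mathlib.Algebra.Homology.HomologicalComplexLimits
import Mathlib.CategoryTheory.Limits.Constructions.EventuallyConstant
import Mathlib.CategoryTheory.Functor.OfSequence
import Mathlib.Algebra.Homology.HomotopyCategory.Shift

/-!
# Helper8: colimits of degreewise eventually constant sequences of complexes (PCoh cluster)
-/

universe v u

open CategoryTheory CategoryTheory.Limits

namespace Groth.Agent.Lib.Helper8.PC16

variable {A : Type u} [Category.{v} A] [Preadditive A]
variable {X : ℕ → CochainComplex A ℤ} (f : ∀ k, X k ⟶ X (k + 1))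

lemma isIso_map_f (i : ℤ) (a : ℕ) (h : ∀ k : ℕ, a ≤ k → IsIso ((f k).f i)) :
    ∀ (b : ℕ) (hab : a ≤ b), IsIso ((Functor.OfSequence.map f a b hab).f i) := by
  intro b
  induction b with
  | zero =>
    intro hab
    obtain rfl : a = 0 := by omega
    rw [Functor.OfSequence.map_id]
    exact inferInstanceAs (IsIso (𝟙 ((X 0).X i)))
  | succ b ih =>
    intro hab
    rcases Nat.eq_or_lt_of_le hab with rfl | hlt
    · rw [Functor.OfSequence.map_id]
      exact inferInstanceAs (IsIso (𝟙 ((X (b + 1)).X i)))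
    · have hab' : a ≤ b := by omega
      rw [Functor.OfSequence.map_comp f a b (b + 1) hab' (by omega),
        Functor.OfSequence.map_le_succ, HomologicalComplex.comp_f]
      have := ih hab'
      have := h b hab'
      infer_instance

lemma mono_map_f (i : ℤ) (h : ∀ k : ℕ, Mono ((f k).f i)) :
    ∀ (b : ℕ), Mono ((Functor.OfSequence.map f 0 b (Nat.zero_le b)).f i) := by
  intro b
  induction b with
  | zero =>
    rw [Functor.OfSequence.map_id]
    exact inferInstanceAs (Mono (𝟙 ((X 0).X i)))
  | succ b ih =>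
    rw [Functor.OfSequence.map_comp f 0 b (b + 1) (Nat.zero_le b) (by omega),
      Functor.OfSequence.map_le_succ, HomologicalComplex.comp_f]
    have := h b
    exact mono_comp _ _

/-- the colimit of a degreewise eventually constant sequence of complexes -/
theorem exists_colimit (K : ℤ → ℕ) (hK : ∀ (i : ℤ) (k : ℕ), K i ≤ k → IsIso ((f k).f i))
    {M : CochainComplex A ℤ} (w : ∀ k, X k ⟶ M) (hw : ∀ k, f k ≫ w (k + 1) = w k) :
    ∃ (G : CochainComplex A ℤ) (ι : ∀ k, X k ⟶ G) (w' : G ⟶ M),
      (∀ k, f k ≫ ι (k + 1) = ι k) ∧ (∀ k, ι k ≫ w' = w k) ∧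
      (∀ (i : ℤ) (k : ℕ), K i ≤ k → IsIso ((ι k).f i)) ∧
      (∀ (i : ℤ), (∀ k : ℕ, Mono ((f k).f i)) → Mono ((ι 0).f i)) := by
  let F : ℕ ⥤ CochainComplex A ℤ := Functor.ofSequence f
  have hF : ∀ i : ℤ, (F ⋙ HomologicalComplex.eval A (ComplexShape.up ℤ) i).IsEventuallyConstantFrom
      (K i) := by
    intro i j φ
    exact isIso_map_f f i (K i) (hK i) j (leOfHom φ)
  have : ∀ i : ℤ, HasColimit (F ⋙ HomologicalComplex.eval A (ComplexShape.up ℤ) i) :=
    fun i => (hF i).hasColimit
  let c : Cocone F := ⟨M, NatTrans.ofSequence (fun k => w k) (fun k => by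
    dsimp
    rw [Category.comp_id]
    exact (congrArg (· ≫ w (k + 1)) (Functor.ofSequence_map_homOfLE_succ f k)).trans (hw k))⟩
  have hι : ∀ (i : ℤ) (k : ℕ), K i ≤ k → IsIso ((colimit.ι F k).f i) := by
    intro i k hk
    have hc := isColimitOfPreserves (HomologicalComplex.eval A (ComplexShape.up ℤ) i)
      (colimit.isColimit F)
    exact (hF i).isIso_ι_of_isColimit' hc k (homOfLE hk)
  refine ⟨colimit F, fun k => colimit.ι F k, colimit.desc F c, fun k => ?_, fun k => ?_, hι,
    fun i hm => ?_⟩
  · have := colimit.w F (homOfLE (Nat.le_add_right k 1))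
    rwa [Functor.ofSequence_map_homOfLE_succ] at this
  · exact colimit.ι_desc c k
  · have h1 : colimit.ι F 0 = F.map (homOfLE (Nat.zero_le (K i))) ≫ colimit.ι F (K i) :=
      (colimit.w F _).symm
    change Mono ((colimit.ι F 0).f i)
    rw [h1, HomologicalComplex.comp_f]
    have := hι i (K i) le_rfl
    have : Mono ((F.map (homOfLE (Nat.zero_le (K i)))).f i) := mono_map_f f i hm (K i)
    exact mono_comp _ _

end Groth.Agent.Lib.Helper8.PC16
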