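import Groth.Agent.Lib.Helper8.PC15
import Groth.Agent.Lib.Helper8.PC16

/-!
# Helper8: strictly pseudo-coherent resolutions (infinite version; PCoh cluster)
-/

universe w v u

open CategoryTheory CategoryTheory.Limits CategoryTheory.Pretriangulated CochainComplex HomComplex

namespace Groth.Agent.Lib.Helper8.PC17

open PC1 PC2 PC3 PC4 PC5 PC6 PC7 PC8 PC9 PC10 PC16 ZeroObject

variable {A : Type u} [Category.{v} A] [Abelian A]

lemma isIso_homologyMap_of_isIso_f {G F : CochainComplex A ℤ} (φ : G ⟶ F) (i : ℤ)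
    (h1 : IsIso (φ.f (i - 1))) (h2 : IsIso (φ.f i)) (h3 : IsIso (φ.f (i + 1))) :
    IsIso (HomologicalComplex.homologyMap φ i) := by
  have h1' : IsIso (φ.f ((ComplexShape.up ℤ).prev i)) := by
    have : (ComplexShape.up ℤ).prev i = i - 1 := by simp
    rw [this]; exact h1
  have h3' : IsIso (φ.f ((ComplexShape.up ℤ).next i)) := by
    have : (ComplexShape.up ℤ).next i = i + 1 := by simp
    rw [this]; exact h3
  let ψ := (HomologicalComplex.shortComplexFunctor A (ComplexShape.up ℤ) i).map φ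
  have : Epi ψ.τ₁ := by change Epi (φ.f _); infer_instance
  have : IsIso ψ.τ₂ := by change IsIso (φ.f _); infer_instance
  have : Mono ψ.τ₃ := by change Mono (φ.f _); infer_instance
  have hq : ShortComplex.QuasiIso ψ := ShortComplex.quasiIso_of_epi_of_isIso_of_mono ψ
  exact hq.1

variable (P : ObjectProperty A) [P.IsClosedUnderIsomorphisms]

/-- the stages of the construction -/
structure Stage (M : CochainComplex A ℤ) (n₀ : ℤ) (k : ℕ) where
  /-- the complex -/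
  G : CochainComplex A ℤ
  /-- the map -/
  w : G ⟶ M
  hG : PCoh.IsStrictPCAll P G
  hw : NQI (n₀ - k) w

section

variable (hsum : ∀ X Y : A, P X → P Y → P (X ⨯ Y)) (hql : PCoh.IsQuasiLiftable P)
  {M : CochainComplex A ℤ}
  (hfin : ∀ (j : ℤ) {G : CochainComplex A ℤ} (w : G ⟶ M), PCoh.IsStrictPCAll P G →
    NQI (j + 1) w → PCoh.IsOfFiniteType P ((mappingCone w).homology j))
  (n₀ : ℤ)

include hsum hql hfin in
lemma step (k : ℕ) (S : Stage P M n₀ k) :
    ∃ (S' : Stage P M n₀ (k + 1)) (v : S.G ⟶ S'.G), v ≫ S'.w = S.w ∧ (∀ i : ℤ, Mono (v.f i)) ∧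
      (∀ i : ℤ, i ≠ n₀ - ((k + 1 : ℕ) : ℤ) → IsIso (v.f i)) := by
  have hw' : NQI (n₀ - ((k + 1 : ℕ) : ℤ) + 1) S.w := by
    have : n₀ - ((k + 1 : ℕ) : ℤ) + 1 = n₀ - k := by push_cast; omega
    rw [this]; exact S.hw
  obtain ⟨G', v, w', hvw, hmono, hiso, hPj, hnqi⟩ :=
    one_step' P hsum hql (n₀ - ((k + 1 : ℕ) : ℤ)) S.w hw' (hfin _ S.w S.hG hw')
  refine ⟨⟨G', w', ⟨?_, ?_⟩, hnqi⟩, v, hvw, hmono, hiso⟩
  · obtain ⟨b, hb⟩ := S.hG.1
    refine ⟨max b (n₀ - ((k + 1 : ℕ) : ℤ)), fun i hi => ?_⟩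
    have := hiso i (by omega)
    exact isZero_of_isIso_f v i (hb i (by omega))
  · intro i
    by_cases hi : i = n₀ - ((k + 1 : ℕ) : ℤ)
    · subst hi
      exact hPj (S.hG.2 _)
    · have := hiso i hi
      exact P_of_isIso_f P v i (S.hG.2 i)

/-- the next stage -/
noncomputable def nextStage (k : ℕ) (S : Stage P M n₀ k) : Stage P M n₀ (k + 1) :=
  (step P hsum hql hfin n₀ k S).choose

/-- the transition map -/
noncomputable def nextMap (k : ℕ) (S : Stage P M n₀ k) :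
    S.G ⟶ (nextStage P hsum hql hfin n₀ k S).G :=
  (step P hsum hql hfin n₀ k S).choose_spec.choose

lemma nextMap_spec (k : ℕ) (S : Stage P M n₀ k) :
    nextMap P hsum hql hfin n₀ k S ≫ (nextStage P hsum hql hfin n₀ k S).w = S.w ∧
      (∀ i : ℤ, Mono ((nextMap P hsum hql hfin n₀ k S).f i)) ∧
      (∀ i : ℤ, i ≠ n₀ - ((k + 1 : ℕ) : ℤ) → IsIso ((nextMap P hsum hql hfin n₀ k S).f i)) :=
  (step P hsum hql hfin n₀ k S).choose_spec.choose_spec

/-- the sequence of stages -/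
noncomputable def stage (S₀ : Stage P M n₀ 0) : ∀ k : ℕ, Stage P M n₀ k
  | 0 => S₀
  | k + 1 => nextStage P hsum hql hfin n₀ k (stage S₀ k)

/-- the transition maps -/
noncomputable def trans (S₀ : Stage P M n₀ 0) (k : ℕ) :
    (stage P hsum hql hfin n₀ S₀ k).G ⟶ (stage P hsum hql hfin n₀ S₀ (k + 1)).G :=
  nextMap P hsum hql hfin n₀ k (stage P hsum hql hfin n₀ S₀ k)

include hsum hql hfin in
/-- Theorem R -/
theorem exists_resolution {G₀ : CochainComplex A ℤ} (hG₀ : PCoh.IsStrictPCAll P G₀)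
    (w₀ : G₀ ⟶ M) (hw₀ : NQI n₀ w₀) :
    ∃ (G : CochainComplex A ℤ) (v : G₀ ⟶ G) (w : G ⟶ M), v ≫ w = w₀ ∧
      PCoh.IsStrictPCAll P G ∧ QuasiIso w ∧ (∀ i : ℤ, Mono (v.f i)) ∧
      (∀ i : ℤ, n₀ ≤ i → IsIso (v.f i)) := by
  let S₀ : Stage P M n₀ 0 := ⟨G₀, w₀, hG₀, by simpa using hw₀⟩
  have hspec := fun k => nextMap_spec P hsum hql hfin n₀ k (stage P hsum hql hfin n₀ S₀ k)
  obtain ⟨G, ι, w', h1, h2, h3, h4⟩ := exists_colimit
    (X := fun k => (stage P hsum hql hfin n₀ S₀ k).G) (trans P hsum hql hfin n₀ S₀)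
    (fun i => (n₀ - i).toNat)
    (fun i k hk => (hspec k).2.2 i (by push_cast; omega))
    (fun k => (stage P hsum hql hfin n₀ S₀ k).w) (fun k => (hspec k).1)
  refine ⟨G, ι 0, w', h2 0, ⟨?_, ?_⟩, ?_, fun i => h4 i (fun k => (hspec k).2.1 i), fun i hi => ?_⟩
  · obtain ⟨b, hb⟩ := hG₀.1
    refine ⟨max b n₀, fun i hi => ?_⟩
    have := h3 i 0 (by omega)
    exact isZero_of_isIso_f (ι 0) i (hb i (by omega))
  · intro i
    have := h3 i (n₀ - i).toNat le_rfl
    exact P_of_isIso_f P (ι (n₀ - i).toNat) i ((stage P hsum hql hfin n₀ S₀ _).hG.2 i)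
  · rw [quasiIso_iff]
    intro i
    rw [quasiIsoAt_iff_isIso_homologyMap]
    have hι : IsIso (HomologicalComplex.homologyMap (ι (n₀ - (i - 1)).toNat) i) :=
      isIso_homologyMap_of_isIso_f _ i (h3 _ _ le_rfl) (h3 _ _ (by omega)) (h3 _ _ (by omega))
    have hwk : IsIso (HomologicalComplex.homologyMap
        (stage P hsum hql hfin n₀ S₀ (n₀ - (i - 1)).toNat).w i) :=
      (stage P hsum hql hfin n₀ S₀ (n₀ - (i - 1)).toNat).hw.1 i (by omega)
    have hfac : HomologicalComplex.homologyMap (ι (n₀ - (i - 1)).toNat) i ≫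
        HomologicalComplex.homologyMap w' i =
        HomologicalComplex.homologyMap (stage P hsum hql hfin n₀ S₀ (n₀ - (i - 1)).toNat).w i := by
      rw [← HomologicalComplex.homologyMap_comp, h2]
    exact IsIso.of_isIso_fac_left hfac
  · exact h3 i 0 (by omega)

end

end Groth.Agent.Lib.Helper8.PC17
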