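import Groth.Agent.Lib.Helper8.PC17

/-!
# Helper8: strictly pseudo-coherent resolutions in the derived category
(PCoh cluster: S12101, S4295, S5618, S4296, S4297)
-/

universe w v u

open CategoryTheory CategoryTheory.Limits CategoryTheory.Pretriangulated CochainComplex HomComplex

namespace Groth.Agent.Lib.Helper8.PC18

open PC1 PC2 PC3 PC4 PC5 PC6 PC7 PC8 PC9 PC10 PC17 ZeroObject

variable {A : Type u} [Category.{v} A] [Abelian A] [HasDerivedCategory.{w} A]
variable (P : ObjectProperty A) [P.IsClosedUnderIsomorphisms] [P.ContainsZero]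
  (hsum : ∀ X Y : A, P X → P Y → P (X ⨯ Y))
  (hqs : PCoh.IsQuasiStableUnderKernels P) (hql : PCoh.IsQuasiLiftable P)

include hsum hqs hql

/-- S12101 -/
theorem resolution {M : CochainComplex A ℤ} (hM : ∀ n : ℤ, IsNPC P n (DerivedCategory.Q.obj M))
    (n₀ : ℤ) {G₀ : CochainComplex A ℤ} (hG₀ : PCoh.IsStrictPCAll P G₀)
    (w₀ : G₀ ⟶ M) (hw₀ : NQI n₀ w₀) :
    ∃ (G : CochainComplex A ℤ) (v : G₀ ⟶ G) (w : G ⟶ M), v ≫ w = w₀ ∧
      PCoh.IsStrictPCAll P G ∧ QuasiIso w ∧ (∀ i : ℤ, Mono (v.f i)) ∧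
      (∀ i : ℤ, n₀ ≤ i → IsIso (v.f i)) :=
  exists_resolution P hsum hql
    (fun j G w hG hw => hfin_of_npc P hsum hqs hql j (hM j) j le_rfl w (strictPC_of_all P hG j) hw)
    n₀ hG₀ w₀ hw₀

/-- resolution of a pseudo-coherent complex acyclic in degrees `≥ m` -/
theorem resolution_zero {M : CochainComplex A ℤ}
    (hM : ∀ n : ℤ, IsNPC P n (DerivedCategory.Q.obj M)) (m : ℤ)
    (hac : ∀ i : ℤ, m ≤ i → IsZero (M.homology i)) :
    ∃ (G : CochainComplex A ℤ) (w : G ⟶ M), PCoh.IsStrictPCAll P G ∧ QuasiIso w ∧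
      (∀ i : ℤ, m ≤ i → IsZero (G.X i)) := by
  obtain ⟨G, v, w, -, hG, hw, -, hiso⟩ := resolution P hsum hqs hql hM m (strictPCAll_zero P) _
    (nqi_zero M m hac)
  refine ⟨G, w, hG, hw, fun i hi => ?_⟩
  have := hiso i hi
  exact isZero_of_isIso_f v i (isZero_zero_X i)

/-- resolution of a pseudo-coherent complex -/
theorem resolution_any {M : CochainComplex A ℤ}
    (hM : ∀ n : ℤ, IsNPC P n (DerivedCategory.Q.obj M)) :
    ∃ (G : CochainComplex A ℤ) (w : G ⟶ M), PCoh.IsStrictPCAll P G ∧ QuasiIso w := by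
  obtain ⟨E₀, hE₀, ⟨e⟩⟩ := hM 0
  obtain ⟨b, hb⟩ := hE₀.1
  have hac : ∀ i : ℤ, b + 1 ≤ i → IsZero (M.homology i) := fun i hi =>
    (isZero_homology_of_isZero_X E₀ i (hb i (by omega))).of_iso
      ((hIsoD M i).symm ≪≫ ((DerivedCategory.homologyFunctor A i).mapIso e).symm ≪≫ hIsoD E₀ i)
  obtain ⟨G, w, hG, hw, -⟩ := resolution_zero P hsum hqs hql hM (b + 1) hac
  exact ⟨G, w, hG, hw⟩

/-- S4295 -/
theorem exists_strictPCAll (F : DerivedCategory A) (hF : PCoh.IsPC P F) :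
    ∃ E : CochainComplex A ℤ, PCoh.IsStrictPCAll P E ∧ Nonempty (DerivedCategory.Q.obj E ≅ F) := by
  let M := DerivedCategory.Q.objPreimage F
  let e : DerivedCategory.Q.obj M ≅ F := DerivedCategory.Q.objObjPreimageIso F
  obtain ⟨G, w, hG, hw⟩ := resolution_any P hsum hqs hql (M := M)
    (fun n => IsNPC.of_iso e.symm (hF n))
  have : IsIso (DerivedCategory.Q.map w) := by
    rw [DerivedCategory.isIso_Q_map_iff_quasiIso]; exact hw
  exact ⟨G, hG, ⟨asIso (DerivedCategory.Q.map w) ≪≫ e⟩⟩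

/-- S5618 -/
theorem exists_strictPCAll_vanishing (m : ℤ) (F : DerivedCategory A) (hF : PCoh.IsPC P F)
    (hac : ∀ i : ℤ, m ≤ i → IsZero ((DerivedCategory.homologyFunctor A i).obj F)) :
    ∃ E : CochainComplex A ℤ, (∀ i : ℤ, P (E.X i)) ∧ (∀ i : ℤ, m ≤ i → IsZero (E.X i)) ∧
      Nonempty (DerivedCategory.Q.obj E ≅ F) := by
  let M := DerivedCategory.Q.objPreimage F
  let e : DerivedCategory.Q.obj M ≅ F := DerivedCategory.Q.objObjPreimageIso F
  have hM : ∀ i : ℤ, m ≤ i → IsZero (M.homology i) := fun i hi =>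
    (hac i hi).of_iso ((hIsoD M i).symm ≪≫ (DerivedCategory.homologyFunctor A i).mapIso e)
  obtain ⟨G, w, hG, hw, hz⟩ := resolution_zero P hsum hqs hql (M := M)
    (fun n => IsNPC.of_iso e.symm (hF n)) m hM
  have : IsIso (DerivedCategory.Q.map w) := by
    rw [DerivedCategory.isIso_Q_map_iff_quasiIso]; exact hw
  exact ⟨G, hG.2, hz, ⟨asIso (DerivedCategory.Q.map w) ≪≫ e⟩⟩

omit hsum hqs hql [P.ContainsZero] [P.IsClosedUnderIsomorphisms] in
lemma npc_of_strictPCAll {E : CochainComplex A ℤ} (hE : PCoh.IsStrictPCAll P E) (n : ℤ) :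
    IsNPC P n (DerivedCategory.Q.obj E) :=
  ⟨E, ⟨hE.1, fun i _ => hE.2 i⟩, ⟨Iso.refl _⟩⟩

/-- S4296 -/
theorem roof (E E' : CochainComplex A ℤ) (hE : PCoh.IsStrictPCAll P E)
    (α : DerivedCategory.Q.obj E ⟶ DerivedCategory.Q.obj E') :
    ∃ (E'' : CochainComplex A ℤ) (s : E'' ⟶ E) (f : E'' ⟶ E'), PCoh.IsStrictPCAll P E'' ∧
      QuasiIso s ∧ DerivedCategory.Q.map s ≫ α = DerivedCategory.Q.map f := by
  obtain ⟨X', s₀, hs₀, g, hfac⟩ := DerivedCategory.right_fac α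
  have hsq : QuasiIso s₀ := (DerivedCategory.isIso_Q_map_iff_quasiIso _ s₀).1 hs₀
  have hX' : ∀ n : ℤ, IsNPC P n (DerivedCategory.Q.obj X') := fun n =>
    (npc_of_strictPCAll P hE n).of_iso (asIso (DerivedCategory.Q.map s₀)).symm
  obtain ⟨G, t, hG, ht⟩ := resolution_any P hsum hqs hql hX'
  refine ⟨G, t ≫ s₀, t ≫ g, hG, inferInstance, ?_⟩
  rw [Functor.map_comp, Functor.map_comp, hfac, Category.assoc, IsIso.hom_inv_id_assoc]

/-- S4297 -/
theorem homotopic_after_resolution (E E' : CochainComplex A ℤ) (hE : PCoh.IsStrictPCAll P E)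
    (f g : E ⟶ E') (hfg : DerivedCategory.Q.map f = DerivedCategory.Q.map g) :
    ∃ (E'' : CochainComplex A ℤ) (s : E'' ⟶ E), PCoh.IsStrictPCAll P E'' ∧ QuasiIso s ∧
      Nonempty (Homotopy (s ≫ f) (s ≫ g)) := by
  have h1 : DerivedCategory.Qh.map ((HomotopyCategory.quotient A (ComplexShape.up ℤ)).map f) =
      DerivedCategory.Qh.map ((HomotopyCategory.quotient A (ComplexShape.up ℤ)).map g) := by
    rw [← cancel_mono ((DerivedCategory.quotientCompQhIso A).hom.app E'),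
      DerivedCategory.quotientCompQhIso_hom_naturality,
      DerivedCategory.quotientCompQhIso_hom_naturality, hfg]
  rw [MorphismProperty.map_eq_iff_precomp DerivedCategory.Qh
    (HomotopyCategory.quasiIso A (ComplexShape.up ℤ))] at h1
  obtain ⟨X, s, hs, hfac⟩ := h1
  obtain ⟨X', rfl⟩ := HomotopyCategory.quotient_obj_surjective X
  obtain ⟨s₀, rfl⟩ := (HomotopyCategory.quotient A (ComplexShape.up ℤ)).map_surjective s
  rw [HomotopyCategory.quotient_map_mem_quasiIso_iff] at hs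
  have hsq : QuasiIso s₀ := hs
  have hs₀ : IsIso (DerivedCategory.Q.map s₀) := by
    rw [DerivedCategory.isIso_Q_map_iff_quasiIso]; exact hsq
  have hX' : ∀ n : ℤ, IsNPC P n (DerivedCategory.Q.obj X') := fun n =>
    (npc_of_strictPCAll P hE n).of_iso (asIso (DerivedCategory.Q.map s₀)).symm
  obtain ⟨G, t, hG, ht⟩ := resolution_any P hsum hqs hql hX'
  have hh : Homotopy (s₀ ≫ f) (s₀ ≫ g) := by
    apply HomotopyCategory.homotopyOfEq
    rw [Functor.map_comp, Functor.map_comp]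
    exact hfac
  refine ⟨G, t ≫ s₀, hG, inferInstance, ⟨?_⟩⟩
  have := hh.compLeft t
  exact (Homotopy.ofEq (Category.assoc _ _ _)).trans (this.trans (Homotopy.ofEq
    (Category.assoc _ _ _).symm))

end Groth.Agent.Lib.Helper8.PC18
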