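import Groth.Agent.Lib.Helper8.PC1
import Mathlib.Algebra.Homology.Embedding.CochainComplex
import Mathlib.Algebra.Homology.HomotopyCategory.Triangulated
import Mathlib.Algebra.Homology.DerivedCategory.Basic

/-!
# Helper8: factorisation of an `n`-quasi-isomorphism (PCoh cluster, S5600)
-/

universe v u

open CategoryTheory CategoryTheory.Limits CategoryTheory.Pretriangulated CochainComplex HomComplex

namespace Groth.Agent.Lib.Helper8.PC2

open PC1

variable {A : Type u} [Category.{v} A] [Abelian A]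

/-- homotopy extension property for the inclusion into the mapping cone -/
lemma hep {S E F : CochainComplex A ℤ} (g : S ⟶ E) (φ : mappingCone g ⟶ F) (u : E ⟶ F)
    (h : Homotopy (mappingCone.inr g ≫ φ) u) :
    ∃ φ' : mappingCone g ⟶ F, mappingCone.inr g ≫ φ' = u ∧ Nonempty (Homotopy φ φ') := by
  obtain ⟨z, hz⟩ := Cochain.equivHomotopy _ _ h
  have eq' : δ (-1) 0 ((mappingCone.inl g).comp (Cochain.ofHom φ) (add_zero _) -
      (Cochain.ofHom g).comp z (zero_add _)) = Cochain.ofHom (g ≫ u) := by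
    rw [δ_sub, δ_ofHom_comp, δ_comp_ofHom, mappingCone.δ_inl]
    rw [Cochain.ofHom_comp] at hz
    rw [Cochain.ofHom_comp, Cochain.ofHom_comp, Cochain.comp_assoc_of_first_is_zero_cochain, hz,
      Cochain.comp_add]
    abel
  refine ⟨mappingCone.desc g _ u eq', mappingCone.inr_desc _ _ _ _, ⟨?_⟩⟩
  refine mappingCone.descHomotopy g _ _ 0 z ?_ ?_
  · simp
  · simp [hz]

/-- notation for the quotient functor -/
noncomputable abbrev Qh : CochainComplex A ℤ ⥤ HomotopyCategory A (ComplexShape.up ℤ) :=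
  HomotopyCategory.quotient A (ComplexShape.up ℤ)

lemma exists_cocone {E F : CochainComplex A ℤ} (u : E ⟶ F) :
    ∃ (M : CochainComplex A ℤ) (p : M ⟶ E)
      (h : (Qh (A := A)).obj F ⟶ ((Qh (A := A)).obj M)⟦(1 : ℤ)⟧),
      Triangle.mk ((Qh (A := A)).map p) ((Qh (A := A)).map u) h ∈
        distTriang (HomotopyCategory A (ComplexShape.up ℤ)) := by
  obtain ⟨X, f, h, hT⟩ := distinguished_cocone_triangle₁ ((Qh (A := A)).map u)
  obtain ⟨M, rfl⟩ := HomotopyCategory.quotient_obj_surjective X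
  obtain ⟨p, rfl⟩ := (Qh (A := A)).map_surjective f
  exact ⟨M, p, h, hT⟩

lemma quasiIso_of_isIso_quotient {K L : CochainComplex A ℤ} (f : K ⟶ L)
    (hf : IsIso ((Qh (A := A)).map f)) : QuasiIso f := by
  rw [quasiIso_iff]
  intro j
  rw [quasiIsoAt_iff_isIso_homologyMap, homologyMap_eq]
  infer_instance

lemma isLE_of_triangle {M E F : CochainComplex A ℤ} (p : M ⟶ E) (u : E ⟶ F)
    (h : (Qh (A := A)).obj F ⟶ ((Qh (A := A)).obj M)⟦(1 : ℤ)⟧)
    (hT : Triangle.mk ((Qh (A := A)).map p) ((Qh (A := A)).map u) h ∈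
        distTriang (HomotopyCategory A (ComplexShape.up ℤ)))
    (n : ℤ) (hu : NQI n u) : M.IsLE n := by
  rw [M.isLE_iff]
  intro i hi
  rw [← isZero_shift_iff]
  have hT' := rot_of_distTriang _ hT
  have hz := (isZero_obj₃_iff _ hT' (i - 1)).2 ⟨by
    change Epi (((H₀ (A := A)).shift (i - 1)).map ((Qh (A := A)).map u))
    rw [epi_shift_iff]
    exact hu.epi _ (by omega), by
    change Mono (((H₀ (A := A)).shift (i - 1 + 1)).map ((Qh (A := A)).map u))
    rw [mono_shift_iff]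
    exact hu.mono _ (by omega)⟩
  exact hz.of_iso (((H₀ (A := A)).shiftIso 1 (i - 1) i (by omega)).app _).symm

lemma mono_inr_f {S E : CochainComplex A ℤ} (g : S ⟶ E) (i : ℤ) :
    Mono ((mappingCone.inr g).f i) :=
  mono_of_mono_fac (mappingCone.inr_f_snd_v g i)

lemma isIso_inr_f {S E : CochainComplex A ℤ} (g : S ⟶ E) (i : ℤ) (hz : IsZero (S.X (i + 1))) :
    IsIso ((mappingCone.inr g).f i) := by
  refine ⟨(mappingCone.snd g).v i i (add_zero i), mappingCone.inr_f_snd_v g i, ?_⟩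
  have := mappingCone.id_X g i (i + 1) rfl
  rw [← this]
  have h0 : (mappingCone.fst g).1.v i (i + 1) rfl = 0 := hz.eq_of_tgt _ _
  rw [h0, zero_comp, zero_add]

attribute [local instance] HasDerivedCategory.standard in
theorem quasiIso_mappingCone_map {K₁ L₁ K₂ L₂ : CochainComplex A ℤ} (φ₁ : K₁ ⟶ L₁) (φ₂ : K₂ ⟶ L₂)
    (a : K₁ ⟶ K₂) (b : L₁ ⟶ L₂) (comm : φ₁ ≫ b = a ≫ φ₂) [QuasiIso a] [QuasiIso b] :
    QuasiIso (mappingCone.map φ₁ φ₂ a b comm) := by
  rw [← DerivedCategory.isIso_Q_map_iff_quasiIso]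
  have h1 : IsIso (DerivedCategory.Q.map a) := by
    rw [DerivedCategory.isIso_Q_map_iff_quasiIso]; infer_instance
  have h2 : IsIso (DerivedCategory.Q.map b) := by
    rw [DerivedCategory.isIso_Q_map_iff_quasiIso]; infer_instance
  exact Pretriangulated.isIso₃_of_isIso₁₂
    (DerivedCategory.Q.mapTriangle.map (mappingCone.triangleMap φ₁ φ₂ a b comm))
    (DerivedCategory.mappingCone_triangle_distinguished φ₁)
    (DerivedCategory.mappingCone_triangle_distinguished φ₂) h1 h2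

/-- S5600: factorisation of an `n`-quasi-isomorphism -/
theorem factor (n : ℤ) {E F : CochainComplex A ℤ} (u : E ⟶ F) (hu : NQI n u) :
    ∃ (E' : CochainComplex A ℤ) (v : E ⟶ E') (u' : E' ⟶ F), v ≫ u' = u ∧ QuasiIso u' ∧
      (∀ i : ℤ, Mono (v.f i)) ∧ (∀ i : ℤ, n ≤ i → IsIso (v.f i)) := by
  obtain ⟨M, p, h, hT⟩ := exists_cocone u
  have hM : M.IsLE n := isLE_of_triangle p u h hT n hu
  have hT₁ := HomotopyCategory.mappingCone_triangleh_distinguished p
  let θ := isoTriangleOfIso₁₂ _ _ hT₁ hT (Iso.refl _) (Iso.refl _)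
    ((Category.comp_id _).trans (Category.id_comp _).symm)
  obtain ⟨φ, hφ⟩ : ∃ φ : mappingCone p ⟶ F, (Qh (A := A)).map φ = θ.hom.hom₃ :=
    (Qh (A := A)).map_surjective θ.hom.hom₃
  have h2 : θ.hom.hom₂ = 𝟙 _ := by simp [θ]
  have comm₂ : (Qh (A := A)).map (mappingCone.inr p) ≫ θ.hom.hom₃ = (Qh (A := A)).map u := by
    have := θ.hom.comm₂
    rw [h2] at this
    exact this.trans (Category.id_comp _)
  have hh : Homotopy (mappingCone.inr p ≫ φ) u := by
    apply HomotopyCategory.homotopyOfEq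
    rw [Functor.map_comp, hφ]
    exact comm₂
  obtain ⟨φ', hφ', ⟨hh'⟩⟩ := hep p φ u hh
  have hφ'iso : IsIso ((Qh (A := A)).map φ') := by
    rw [← HomotopyCategory.eq_of_homotopy _ _ hh', hφ]
    exact (Triangle.π₃.mapIso θ).isIso_hom
  have hφ'q : QuasiIso φ' := quasiIso_of_isIso_quotient _ hφ'iso
  have hι : QuasiIso (M.ιTruncLE n) := inferInstance
  have hmap : QuasiIso (mappingCone.map (M.ιTruncLE n ≫ p) p (M.ιTruncLE n) (𝟙 E) (by simp)) :=
    quasiIso_mappingCone_map _ _ _ _ _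
  refine ⟨mappingCone (M.ιTruncLE n ≫ p), mappingCone.inr _,
    mappingCone.map (M.ιTruncLE n ≫ p) p (M.ιTruncLE n) (𝟙 E) (by simp) ≫ φ', ?_, ?_, ?_, ?_⟩
  · rw [← Category.assoc]
    have : mappingCone.inr (M.ιTruncLE n ≫ p) ≫
        mappingCone.map (M.ιTruncLE n ≫ p) p (M.ιTruncLE n) (𝟙 E) (by simp) =
        mappingCone.inr p := by
      simp [mappingCone.map]
    rw [this, hφ']
  · infer_instance
  · intro i
    exact mono_inr_f _ i
  · intro i hi
    exact isIso_inr_f _ i ((M.truncLE n).isZero_of_isStrictlyLE n (i + 1) (by omega))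

end Groth.Agent.Lib.Helper8.PC2
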