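import Groth.Prelude.Def_PCoh
import Mathlib.Algebra.Homology.Augment
import Mathlib.Algebra.Homology.ShortComplex.HomologicalComplex
import Mathlib.Algebra.Homology.ShortComplex.Exact

/-!
# Helper8: finite type of cycles/homology of strictly pseudo-coherent complexes (PCoh cluster)
-/

universe v u

open CategoryTheory CategoryTheory.Limits

namespace Groth.Agent.Lib.Helper8.PC3

variable {C : Type u} [Category.{v} C] [Abelian C]

lemma finiteType_of_epi (P : ObjectProperty C) {X Y : C} (f : X ⟶ Y) [Epi f]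
    (h : PCoh.IsOfFiniteType P X) : PCoh.IsOfFiniteType P Y := by
  obtain ⟨E, π, hE, hπ⟩ := h
  exact ⟨E, π ≫ f, hE, epi_comp _ _⟩

lemma finiteType_of_iso (P : ObjectProperty C) {X Y : C} (e : X ≅ Y)
    (h : PCoh.IsOfFiniteType P X) : PCoh.IsOfFiniteType P Y :=
  finiteType_of_epi P e.hom h

lemma finiteType_of_mem (P : ObjectProperty C) {X : C} (h : P X) : PCoh.IsOfFiniteType P X :=
  ⟨X, 𝟙 X, h, inferInstance⟩

section

variable (K : CochainComplex C ℤ) (m : ℤ)

/-- the `ℕ`-indexed complex `K^m → K^{m+1} → ⋯` -/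
noncomputable def tailCx : CochainComplex C ℕ :=
  CochainComplex.of (fun k : ℕ => K.X (m + k)) (fun k : ℕ => K.d (m + k) (m + (k + 1 : ℕ)))
    (fun _ => K.d_comp_d _ _ _)

lemma tailCx_d (k : ℕ) : (tailCx K m).d k (k + 1) = K.d (m + k) (m + (k + 1 : ℕ)) :=
  CochainComplex.of_d (V := C) (fun k : ℕ => K.X (m + k))
    (fun k : ℕ => K.d (m + k) (m + (k + 1 : ℕ))) k

/-- the `ℕ`-indexed complex `Z^m → K^m → K^{m+1} → ⋯` -/
noncomputable def augCx : CochainComplex C ℕ :=
  (tailCx K m).augment (K.iCycles (m + (0 : ℕ))) (by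
    rw [show (tailCx K m).d 0 1 = _ from tailCx_d K m 0]
    exact K.iCycles_d _ _)

lemma augCx_exactAt_zero : (augCx K m).ExactAt 0 := by
  rw [HomologicalComplex.exactAt_iff' _ 0 0 1 (by simp) (by simp)]
  have h0 : ((augCx K m).sc' 0 0 1).f = 0 := (augCx K m).shape 0 0 (by simp)
  rw [ShortComplex.exact_iff_mono _ h0]
  change Mono (K.iCycles (m + (0 : ℕ)))
  infer_instance

lemma augCx_exactAt_one : (augCx K m).ExactAt 1 := by
  rw [HomologicalComplex.exactAt_iff' _ 0 1 2 (by simp) (by simp)]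
  have hd : (tailCx K m).d 0 1 = K.d (m + (0 : ℕ)) (m + (1 : ℕ)) := tailCx_d K m 0
  have hrel : (ComplexShape.up ℤ).next (m + (0 : ℕ)) = (m + (1 : ℕ)) := by
    simp only [CochainComplex.next]; omega
  have h : (ShortComplex.mk (K.iCycles (m + (0 : ℕ))) (K.d (m + (0 : ℕ)) (m + (1 : ℕ)))
      (K.iCycles_d _ _)).Exact :=
    ShortComplex.exact_of_f_is_kernel _ (K.cyclesIsKernel _ _ hrel)
  refine ShortComplex.exact_of_iso ?_ h
  exact ShortComplex.isoMk (Iso.refl _) (Iso.refl _) (Iso.refl _)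
    ((Category.id_comp _).trans (Category.comp_id _).symm)
    ((Category.id_comp _).trans (hd.trans (Category.comp_id _).symm))

lemma augCx_exactAt_succ (k : ℕ) (h : K.ExactAt (m + (k + 1 : ℕ))) :
    (augCx K m).ExactAt (k + 2) := by
  rw [HomologicalComplex.exactAt_iff' _ (k + 1) (k + 2) (k + 3) (by simp) (by simp)]
  rw [HomologicalComplex.exactAt_iff' _ (m + (k : ℕ)) (m + (k + 1 : ℕ)) (m + (k + 2 : ℕ))
    (by simp only [CochainComplex.prev]; omega)
    (by simp only [CochainComplex.next]; omega)] at h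
  have h1 : (tailCx K m).d k (k + 1) = K.d (m + k) (m + (k + 1 : ℕ)) := tailCx_d K m k
  have h2 : (tailCx K m).d (k + 1) (k + 2) = K.d (m + (k + 1 : ℕ)) (m + (k + 2 : ℕ)) :=
    tailCx_d K m (k + 1)
  refine ShortComplex.exact_of_iso ?_ h
  exact ShortComplex.isoMk (Iso.refl _) (Iso.refl _) (Iso.refl _)
    ((Category.id_comp _).trans (h1.trans (Category.comp_id _).symm))
    ((Category.id_comp _).trans (h2.trans (Category.comp_id _).symm))

end

/-- FT1: cycles of a bounded above complex with terms in `P` from degree `j` on, exact above `j`,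
are of finite type. -/
theorem cycles_finiteType (P : ObjectProperty C) (hqs : PCoh.IsQuasiStableUnderKernels P)
    (K : CochainComplex C ℤ) (j : ℤ) (hb : ∃ b : ℤ, ∀ i : ℤ, b < i → IsZero (K.X i))
    (hP : ∀ i : ℤ, j ≤ i → P (K.X i)) (hex : ∀ i : ℤ, j < i → K.ExactAt i) :
    PCoh.IsOfFiniteType P (K.cycles j) := by
  obtain ⟨m, rfl⟩ : ∃ m : ℤ, j = m + ((0 : ℕ) : ℤ) := ⟨j, by simp⟩
  refine hqs (augCx K m) ?_ ?_ ?_
  · intro i
    match i with
    | 0 => exact augCx_exactAt_zero K m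
    | 1 => exact augCx_exactAt_one K m
    | k + 2 => exact augCx_exactAt_succ K m k (hex _ (by omega))
  · obtain ⟨b, hb⟩ := hb
    refine ⟨(b - m).toNat + 1, ?_⟩
    intro i hi
    match i with
    | 0 => omega
    | k + 1 => exact hb (m + (k : ℕ)) (by omega)
  · intro i hi
    match i with
    | 0 => omega
    | k + 1 => exact hP (m + (k : ℕ)) (by omega)

theorem homology_finiteType (P : ObjectProperty C) (hqs : PCoh.IsQuasiStableUnderKernels P)
    (K : CochainComplex C ℤ) (j : ℤ) (hb : ∃ b : ℤ, ∀ i : ℤ, b < i → IsZero (K.X i))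
    (hP : ∀ i : ℤ, j ≤ i → P (K.X i)) (hex : ∀ i : ℤ, j < i → K.ExactAt i) :
    PCoh.IsOfFiniteType P (K.homology j) :=
  finiteType_of_epi P (K.homologyπ j) (cycles_finiteType P hqs K j hb hP hex)

end Groth.Agent.Lib.Helper8.PC3
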