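import Groth.Agent.Lib.Helper8.PC2
import Groth.Agent.Lib.Helper8.PC3

/-!
# Helper8: the one-step modification lemma (PCoh cluster, S5628)
-/

universe v u

open CategoryTheory CategoryTheory.Limits CategoryTheory.Pretriangulated CochainComplex HomComplex

namespace Groth.Agent.Lib.Helper8.PC4

open PC1 PC2 PC3

variable {A : Type u} [Category.{v} A] [Abelian A]

lemma exactAt_cone_of_epi {X₁ X₂ X₃ : CochainComplex A ℤ} (f : X₁ ⟶ X₂) (g : X₂ ⟶ X₃) (j : ℤ)
    (h1 : Epi (HomologicalComplex.homologyMap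
      (mappingCone.map f (f ≫ g) (𝟙 X₁) g (by rw [Category.id_comp])) j))
    (h2 : (mappingCone f).ExactAt (j + 1)) : (mappingCone g).ExactAt j := by
  have hT := HomotopyCategory.mappingConeCompTriangleh_distinguished f g
  rw [← isZero_shift_iff]
  refine (isZero_obj₃_iff _ hT j).2 ⟨?_, ?_⟩
  · exact (epi_shift_iff _ j).2 h1
  · have hz : IsZero (((H₀ (A := A)).shift (j + 1)).obj ((Qh (A := A)).obj (mappingCone f))) :=
      (isZero_shift_iff _ _).2 h2
    exact ⟨fun a b _ => hz.eq_of_tgt a b⟩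

lemma exactAt_cone_of_exactAt {X₁ X₂ X₃ : CochainComplex A ℤ} (f : X₁ ⟶ X₂) (g : X₂ ⟶ X₃) (j : ℤ)
    (h1 : (mappingCone (f ≫ g)).ExactAt j)
    (h2 : (mappingCone f).ExactAt (j + 1)) : (mappingCone g).ExactAt j :=
  exactAt_cone_of_epi f g j (by
    have hz : IsZero ((mappingCone (f ≫ g)).homology j) := h1.isZero_homology
    exact ⟨fun a b _ => hz.eq_of_src a b⟩) h2

lemma exactAt_cone_inr {S E : CochainComplex A ℤ} (s : S ⟶ E) (i : ℤ) (hz : IsZero (S.X (i + 1))) :
    (mappingCone (mappingCone.inr s)).ExactAt i := by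
  have h1 : (S⟦(1 : ℤ)⟧).ExactAt i := ShortComplex.exact_of_isZero_X₂ _ hz
  exact (quasiIsoAt_iff_exactAt (mappingCone.rotateHomotopyEquiv s).hom i h1).1 inferInstance

section OneStep

variable {E F : CochainComplex A ℤ} (u : E ⟶ F) (n : ℤ) {L : A} (lam : L ⟶ E.X (n + 1))
  (mu : L ⟶ F.X n) (hlam : lam ≫ E.d (n + 1) (n + 1 + 1) = 0)
  (hmu : lam ≫ u.f (n + 1) + mu ≫ F.d n (n + 1) = 0)

/-- `L` placed in degree `n + 1` -/
noncomputable abbrev SL (n : ℤ) (L : A) : CochainComplex A ℤ :=
  (HomologicalComplex.single A (ComplexShape.up ℤ) (n + 1)).obj L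

/-- the iso `(SL n L).X (n+1) ≅ L` -/
noncomputable abbrev sIso (n : ℤ) (L : A) : (SL n L).X (n + 1) ≅ L :=
  HomologicalComplex.singleObjXSelf (ComplexShape.up ℤ) (n + 1) L

include hlam in
lemma hlam' (k : ℤ) (hk : (ComplexShape.up ℤ).Rel (n + 1) k) : lam ≫ E.d (n + 1) k = 0 := by
  obtain rfl : n + 1 + 1 = k := hk
  exact hlam

/-- the chain map `L[-n-1] ⟶ E` -/
noncomputable def sMap : SL n L ⟶ E :=
  HomologicalComplex.mkHomFromSingle lam (hlam' n lam hlam)

lemma sMap_f : (sMap n lam hlam).f (n + 1) = (sIso n L).hom ≫ lam :=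
  HomologicalComplex.mkHomFromSingle_f _ _

/-- the cochain of degree `-1` from `L[-n-1]` to `F` -/
noncomputable def aCo : Cochain (SL n L) F (-1) :=
  Cochain.single (p := n + 1) (q := n) ((sIso n L).hom ≫ (-mu)) (-1)

lemma aCo_v : (aCo n mu).v (n + 1) n (by omega) = (sIso n L).hom ≫ (-mu) :=
  Cochain.single_v _ _ (by omega)

include hmu in
lemma δ_aCo : δ (-1) 0 (aCo n mu) = Cochain.ofHom (sMap n lam hlam ≫ u) := by
  ext p
  by_cases hp : p = n + 1
  · subst hp
    rw [δ_v (-1) 0 (by norm_num) _ (n + 1) (n + 1) (by omega) n (n + 1 + 1) (by omega) (by omega)]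
    rw [HomologicalComplex.single_obj_d, zero_comp, smul_zero, add_zero, aCo_v,
      Cochain.ofHom_v, HomologicalComplex.comp_f, sMap_f, Category.assoc, Category.assoc]
    congr 1
    rw [Preadditive.neg_comp]
    exact (eq_neg_of_add_eq_zero_left hmu).symm
  · exact (HomologicalComplex.isZero_single_obj_X _ _ _ _ hp).eq_of_src _ _

/-- the new complex -/
noncomputable abbrev E' : CochainComplex A ℤ := mappingCone (sMap n lam hlam)

/-- the inclusion `E ⟶ E'` -/
noncomputable abbrev vMap : E ⟶ E' n lam hlam := mappingCone.inr (sMap n lam hlam)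

/-- the new map `E' ⟶ F` -/
noncomputable def u' : E' n lam hlam ⟶ F :=
  mappingCone.desc (sMap n lam hlam) (aCo n mu) u (δ_aCo u n lam mu hlam hmu)

lemma v_u' : vMap n lam hlam ≫ u' u n lam mu hlam hmu = u :=
  mappingCone.inr_desc _ _ _ _

lemma isIso_vMap_f (i : ℤ) (hi : i ≠ n) : IsIso ((vMap n lam hlam).f i) :=
  isIso_inr_f _ i (HomologicalComplex.isZero_single_obj_X _ _ _ _ (by omega))

/-- the cokernel of `inr` in degree `i` -/
noncomputable def cokerInrIso {S E : CochainComplex A ℤ} (g : S ⟶ E) (i : ℤ) :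
    cokernel ((mappingCone.inr g).f i) ≅ S.X (i + 1) where
  hom := cokernel.desc _ ((mappingCone.fst g).1.v i (i + 1) rfl)
    (mappingCone.inr_f_fst_v g i (i + 1) rfl)
  inv := (mappingCone.inl g).v (i + 1) i (by omega) ≫ cokernel.π _
  hom_inv_id := by
    rw [← cancel_epi (cokernel.π _), cokernel.π_desc_assoc, Category.comp_id]
    have h := mappingCone.id_X g i (i + 1) rfl
    calc (mappingCone.fst g).1.v i (i + 1) rfl ≫ (mappingCone.inl g).v (i + 1) i (by omega) ≫
          cokernel.π ((mappingCone.inr g).f i)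
        = ((mappingCone.fst g).1.v i (i + 1) rfl ≫ (mappingCone.inl g).v (i + 1) i (by omega) +
            (mappingCone.snd g).v i i (add_zero i) ≫ (mappingCone.inr g).f i) ≫
            cokernel.π ((mappingCone.inr g).f i) := by
          rw [Preadditive.add_comp, Category.assoc, Category.assoc, cokernel.condition, comp_zero,
            add_zero]
      _ = cokernel.π ((mappingCone.inr g).f i) := by rw [h, Category.id_comp]
  inv_hom_id := by
    rw [Category.assoc, cokernel.π_desc, mappingCone.inl_v_fst_v]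

include hlam in
lemma cyc_cond (w : E ⟶ F) (hw : lam ≫ w.f (n + 1) + mu ≫ F.d n (n + 1) = 0) :
    (lam ≫ (mappingCone.inl w).v (n + 1) n (by omega) + mu ≫ (mappingCone.inr w).f n) ≫
      (mappingCone w).d n (n + 1) = 0 := by
  rw [Preadditive.add_comp, Category.assoc, Category.assoc,
    mappingCone.inl_v_d w (n + 1) n (n + 1 + 1) (by omega) (by omega), mappingCone.inr_f_d,
    Preadditive.comp_sub, reassoc_of% hlam, zero_comp, sub_zero, ← Category.assoc,
    ← Category.assoc, ← Preadditive.add_comp, hw, zero_comp]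

/-- the lift of the cycle to the cone of `v` -/
noncomputable def cLift : L ⟶ (mappingCone (vMap n lam hlam)).X n :=
  lam ≫ (mappingCone.inl (vMap n lam hlam)).v (n + 1) n (by omega) +
    (-(sIso n L).inv ≫ (mappingCone.inl (sMap n lam hlam)).v (n + 1) n (by omega)) ≫
      (mappingCone.inr (vMap n lam hlam)).f n

lemma cLift_d : cLift n lam hlam ≫ (mappingCone (vMap n lam hlam)).d n (n + 1) = 0 := by
  have h1 : (sIso n L).inv ≫ (mappingCone.inl (sMap n lam hlam)).v (n + 1) n (by omega) ≫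
      (E' n lam hlam).d n (n + 1) = lam ≫ (vMap n lam hlam).f (n + 1) := by
    rw [mappingCone.inl_v_d (sMap n lam hlam) (n + 1) n (n + 1 + 1) (by omega) (by omega),
      HomologicalComplex.single_obj_d, zero_comp, sub_zero, sMap_f, Category.assoc,
      Iso.inv_hom_id_assoc]
  rw [cLift, Preadditive.add_comp, Category.assoc, Category.assoc,
    mappingCone.inl_v_d (vMap n lam hlam) (n + 1) n (n + 1 + 1) (by omega) (by omega),
    mappingCone.inr_f_d, Preadditive.comp_sub, reassoc_of% hlam, zero_comp, sub_zero,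
    Preadditive.neg_comp, Category.assoc, reassoc_of% h1]
  abel

lemma cLift_map :
    cLift n lam hlam ≫ (mappingCone.map (vMap n lam hlam)
      (vMap n lam hlam ≫ u' u n lam mu hlam hmu) (𝟙 E) (u' u n lam mu hlam hmu)
      (by rw [Category.id_comp])).f n =
    lam ≫ (mappingCone.inl (vMap n lam hlam ≫ u' u n lam mu hlam hmu)).v (n + 1) n (by omega) +
      mu ≫ (mappingCone.inr (vMap n lam hlam ≫ u' u n lam mu hlam hmu)).f n := by
  have h1 : (sIso n L).inv ≫ (mappingCone.inl (sMap n lam hlam)).v (n + 1) n (by omega) ≫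
      (u' u n lam mu hlam hmu).f n = -mu := by
    rw [u', mappingCone.inl_v_desc_f, aCo_v, Iso.inv_hom_id_assoc]
  rw [cLift, Preadditive.add_comp]
  congr 1
  · simp [mappingCone.map]
  · simp only [mappingCone.map, Category.assoc, mappingCone.inr_f_desc_f,
      HomologicalComplex.comp_f, Preadditive.neg_comp]
    rw [reassoc_of% h1, Preadditive.neg_comp, neg_neg]

theorem nqi_u' (hu : NQI (n + 1) u)
    (hepi : Epi ((mappingCone u).liftCycles
      (lam ≫ (mappingCone.inl u).v (n + 1) n (by omega) + mu ≫ (mappingCone.inr u).f n) (n + 1)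
      (by simp) (cyc_cond n lam mu hlam u hmu) ≫ (mappingCone u).homologyπ n)) :
    NQI n (u' u n lam mu hlam hmu) := by
  rw [nqi_iff_cone]
  intro j hj
  rcases hj.eq_or_lt with rfl | hlt
  · refine exactAt_cone_of_epi (vMap n lam hlam) (u' u n lam mu hlam hmu) n ?_
      (exactAt_cone_inr _ (n + 1) (HomologicalComplex.isZero_single_obj_X _ _ _ _ (by omega)))
    have key : ∀ (w : E ⟶ F) (hw : w = u)
        (hw' : lam ≫ w.f (n + 1) + mu ≫ F.d n (n + 1) = 0),
        Epi ((mappingCone w).liftCycles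
          (lam ≫ (mappingCone.inl w).v (n + 1) n (by omega) + mu ≫ (mappingCone.inr w).f n) (n + 1)
          (by simp) (cyc_cond n lam mu hlam w hw') ≫ (mappingCone w).homologyπ n) := by
      rintro w rfl hw'
      exact hepi
    have hw := v_u' u n lam mu hlam hmu
    have hk := key _ hw (by rw [hw]; exact hmu)
    set m := mappingCone.map (vMap n lam hlam)
      (vMap n lam hlam ≫ u' u n lam mu hlam hmu) (𝟙 E) (u' u n lam mu hlam hmu)
      (by rw [Category.id_comp]) with hm
    have hfac : (mappingCone (vMap n lam hlam)).liftCycles (cLift n lam hlam) (n + 1) (by simp)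
        (cLift_d n lam hlam) ≫ (mappingCone (vMap n lam hlam)).homologyπ n ≫
          HomologicalComplex.homologyMap m n =
        (mappingCone (vMap n lam hlam ≫ u' u n lam mu hlam hmu)).liftCycles
          (lam ≫ (mappingCone.inl (vMap n lam hlam ≫ u' u n lam mu hlam hmu)).v (n + 1) n
            (by omega) + mu ≫ (mappingCone.inr (vMap n lam hlam ≫ u' u n lam mu hlam hmu)).f n)
          (n + 1) (by simp) (cyc_cond n lam mu hlam _ (by rw [hw]; exact hmu)) ≫
          (mappingCone (vMap n lam hlam ≫ u' u n lam mu hlam hmu)).homologyπ n := by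
      rw [HomologicalComplex.homologyπ_naturality, ← Category.assoc]
      congr 1
      rw [← cancel_mono (HomologicalComplex.iCycles _ n), Category.assoc,
        HomologicalComplex.cyclesMap_i, HomologicalComplex.liftCycles_i_assoc,
        HomologicalComplex.liftCycles_i]
      exact cLift_map u n lam mu hlam hmu
    rw [← hfac] at hk
    have h2 : Epi ((mappingCone (vMap n lam hlam)).homologyπ n ≫
        HomologicalComplex.homologyMap m n) := @epi_of_epi _ _ _ _ _ _ _ hk
    exact epi_of_epi ((mappingCone (vMap n lam hlam)).homologyπ n) _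
  · refine exactAt_cone_of_exactAt (vMap n lam hlam) (u' u n lam mu hlam hmu) j ?_
      (exactAt_cone_inr _ (j + 1) (HomologicalComplex.isZero_single_obj_X _ _ _ _ (by omega)))
    rw [v_u']
    exact (nqi_iff_cone (n + 1) u).1 hu j (by omega)

end OneStep

/-- choice of the data for the one-step modification -/
theorem one_step_aux (P : ObjectProperty A)
    (hql : PCoh.IsQuasiLiftable P)
    (n : ℤ) {E F : CochainComplex A ℤ} (u : E ⟶ F)
    (hcone : PCoh.IsOfFiniteType P ((mappingCone u).homology n)) :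
    ∃ (L : A) (lam : L ⟶ E.X (n + 1)) (mu : L ⟶ F.X n)
      (hlam : lam ≫ E.d (n + 1) (n + 1 + 1) = 0)
      (hmu : lam ≫ u.f (n + 1) + mu ≫ F.d n (n + 1) = 0), P L ∧
      Epi ((mappingCone u).liftCycles
        (lam ≫ (mappingCone.inl u).v (n + 1) n (by omega) + mu ≫ (mappingCone.inr u).f n) (n + 1)
        (by simp) (cyc_cond n lam mu hlam u hmu) ≫ (mappingCone u).homologyπ n) := by
  obtain ⟨L₀, π₀, hL₀, hπ₀⟩ := hcone
  have hfst : Epi (pullback.fst π₀ ((mappingCone u).homologyπ n)) := inferInstance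
  obtain ⟨L, w, hL, hw⟩ := hql _ _ (pullback.fst π₀ ((mappingCone u).homologyπ n)) hfst hL₀
  have hc : Epi ((w ≫ pullback.snd π₀ ((mappingCone u).homologyπ n)) ≫
      (mappingCone u).homologyπ n) := by
    have : (w ≫ pullback.snd π₀ ((mappingCone u).homologyπ n)) ≫ (mappingCone u).homologyπ n =
        (w ≫ pullback.fst _ _) ≫ π₀ := by
      simp only [Category.assoc, pullback.condition]
    rw [this]
    exact epi_comp _ _
  generalize w ≫ pullback.snd π₀ ((mappingCone u).homologyπ n) = c at hc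
  have hct : (c ≫ (mappingCone u).iCycles n) ≫ (mappingCone u).d n (n + 1) = 0 := by simp
  generalize hctdef : c ≫ (mappingCone u).iCycles n = ct at hct
  have hlam : (ct ≫ (mappingCone.fst u).1.v n (n + 1) rfl) ≫ E.d (n + 1) (n + 1 + 1) = 0 := by
    have := mappingCone.d_fst_v u n (n + 1) (n + 1 + 1) rfl rfl
    have h2 : ct ≫ (mappingCone u).d n (n + 1) ≫
        (mappingCone.fst u).1.v (n + 1) (n + 1 + 1) rfl = 0 := by
      rw [reassoc_of% hct, zero_comp]
    rw [this, Preadditive.comp_neg, neg_eq_zero] at h2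
    rw [Category.assoc]
    exact h2
  have hmu : (ct ≫ (mappingCone.fst u).1.v n (n + 1) rfl) ≫ u.f (n + 1) +
      (ct ≫ (mappingCone.snd u).v n n (add_zero n)) ≫ F.d n (n + 1) = 0 := by
    have := mappingCone.d_snd_v u n (n + 1) rfl
    rw [Category.assoc, Category.assoc, ← Preadditive.comp_add, ← this, reassoc_of% hct, zero_comp]
  have hct' : (ct ≫ (mappingCone.fst u).1.v n (n + 1) rfl) ≫
        (mappingCone.inl u).v (n + 1) n (by omega) +
      (ct ≫ (mappingCone.snd u).v n n (add_zero n)) ≫ (mappingCone.inr u).f n = ct := by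
    rw [Category.assoc, Category.assoc, ← Preadditive.comp_add, mappingCone.id_X u n (n + 1) rfl,
      Category.comp_id]
  generalize ct ≫ (mappingCone.fst u).1.v n (n + 1) rfl = lam at hlam hmu hct'
  generalize ct ≫ (mappingCone.snd u).v n n (add_zero n) = mu at hmu hct'
  refine ⟨L, lam, mu, hlam, hmu, hL, ?_⟩
  convert hc using 2
  rw [← cancel_mono ((mappingCone u).iCycles n), HomologicalComplex.liftCycles_i, hctdef]
  exact hct'

/-- S5628: the one-step modification -/
theorem one_step (P : ObjectProperty A) [P.IsClosedUnderIsomorphisms]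
    (hql : PCoh.IsQuasiLiftable P)
    (n : ℤ) {E F : CochainComplex A ℤ} (u : E ⟶ F) (hu : NQI (n + 1) u)
    (hcone : PCoh.IsOfFiniteType P ((mappingCone u).homology n)) :
    ∃ (E' : CochainComplex A ℤ) (v : E ⟶ E') (u' : E' ⟶ F), v ≫ u' = u ∧
      (∀ i : ℤ, Mono (v.f i)) ∧ (∀ i : ℤ, i ≠ n → IsIso (v.f i)) ∧ P (cokernel (v.f n)) ∧
      NQI n u' := by
  obtain ⟨L, lam, mu, hlam, hmu, hL, hepi⟩ := one_step_aux P hql n u hcone
  refine ⟨E' n lam hlam, vMap n lam hlam, u' u n lam mu hlam hmu, v_u' u n lam mu hlam hmu,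
    fun i => mono_inr_f _ i, isIso_vMap_f n lam hlam, ?_, ?_⟩
  · exact P.prop_of_iso ((cokerInrIso _ n).trans (sIso n L)).symm hL
  · exact nqi_u' u n lam mu hlam hmu hu hepi

/-- the terms of a mapping cone -/
noncomputable def coneXIso {K L : CochainComplex A ℤ} (φ : K ⟶ L) (i : ℤ) :
    (mappingCone φ).X i ≅ K.X (i + 1) ⊞ L.X i where
  hom := biprod.lift ((mappingCone.fst φ).1.v i (i + 1) rfl) ((mappingCone.snd φ).v i i (add_zero i))
  inv := biprod.desc ((mappingCone.inl φ).v (i + 1) i (by omega)) ((mappingCone.inr φ).f i)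
  hom_inv_id := by
    rw [biprod.lift_desc]
    exact mappingCone.id_X φ i (i + 1) rfl
  inv_hom_id := by
    ext <;> simp

lemma P_biprod (P : ObjectProperty A) [P.IsClosedUnderIsomorphisms]
    (hsum : ∀ X Y : A, P X → P Y → P (X ⨯ Y)) {X Y : A} (hX : P X) (hY : P Y) : P (X ⊞ Y) :=
  P.prop_of_iso (biprod.isoProd X Y).symm (hsum X Y hX hY)

lemma P_cone (P : ObjectProperty A) [P.IsClosedUnderIsomorphisms]
    (hsum : ∀ X Y : A, P X → P Y → P (X ⨯ Y)) {K L : CochainComplex A ℤ} (φ : K ⟶ L) (i : ℤ)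
    (hK : P (K.X (i + 1))) (hL : P (L.X i)) : P ((mappingCone φ).X i) :=
  P.prop_of_iso (coneXIso φ i).symm (P_biprod P hsum hK hL)

lemma isZero_cone {K L : CochainComplex A ℤ} (φ : K ⟶ L) (i : ℤ)
    (hK : IsZero (K.X (i + 1))) (hL : IsZero (L.X i)) : IsZero ((mappingCone φ).X i) := by
  rw [IsZero.iff_id_eq_zero, ← mappingCone.id_X φ i (i + 1) rfl,
    hK.eq_of_tgt ((mappingCone.fst φ).1.v i (i + 1) rfl) 0,
    hL.eq_of_tgt ((mappingCone.snd φ).v i i (add_zero i)) 0, zero_comp, zero_comp, add_zero]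

/-- the one-step modification, keeping track of the terms -/
theorem one_step' (P : ObjectProperty A) [P.IsClosedUnderIsomorphisms]
    (hsum : ∀ X Y : A, P X → P Y → P (X ⨯ Y))
    (hql : PCoh.IsQuasiLiftable P)
    (n : ℤ) {E F : CochainComplex A ℤ} (u : E ⟶ F) (hu : NQI (n + 1) u)
    (hcone : PCoh.IsOfFiniteType P ((mappingCone u).homology n)) :
    ∃ (E' : CochainComplex A ℤ) (v : E ⟶ E') (u' : E' ⟶ F), v ≫ u' = u ∧
      (∀ i : ℤ, Mono (v.f i)) ∧ (∀ i : ℤ, i ≠ n → IsIso (v.f i)) ∧
      (P (E.X n) → P (E'.X n)) ∧ NQI n u' := by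
  obtain ⟨L, lam, mu, hlam, hmu, hL, hepi⟩ := one_step_aux P hql n u hcone
  refine ⟨E' n lam hlam, vMap n lam hlam, u' u n lam mu hlam hmu, v_u' u n lam mu hlam hmu,
    fun i => mono_inr_f _ i, isIso_vMap_f n lam hlam, ?_, ?_⟩
  · intro hE
    exact P_cone P hsum _ n (P.prop_of_iso (sIso n L).symm hL) hE
  · exact nqi_u' u n lam mu hlam hmu hu hepi

end Groth.Agent.Lib.Helper8.PC4
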