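import Groth.Agent.Lib.Helper8.PC4

/-!
# Helper8: strictly pseudo-coherent resolutions (PCoh cluster, S5597)
-/

universe v u

open CategoryTheory CategoryTheory.Limits CategoryTheory.Pretriangulated CochainComplex HomComplex

namespace Groth.Agent.Lib.Helper8.PC5

open PC1 PC2 PC3 PC4 ZeroObject

variable {A : Type u} [Category.{v} A] [Abelian A]

lemma nqi_comp_quasiIso {n : ℤ} {E F G : CochainComplex A ℤ} (w : E ⟶ F) (u : F ⟶ G) [QuasiIso u]
    (hw : NQI n w) : NQI n (w ≫ u) := by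
  constructor
  · intro j hj
    rw [HomologicalComplex.homologyMap_comp]
    have := hw.1 j hj
    infer_instance
  · rw [HomologicalComplex.homologyMap_comp]
    have := hw.2
    infer_instance

lemma nqi_quasiIso_comp {n : ℤ} {E F G : CochainComplex A ℤ} (u : E ⟶ F) (w : F ⟶ G) [QuasiIso u]
    (hw : NQI n w) : NQI n (u ≫ w) := by
  constructor
  · intro j hj
    rw [HomologicalComplex.homologyMap_comp]
    have := hw.1 j hj
    infer_instance
  · rw [HomologicalComplex.homologyMap_comp]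
    have := hw.2
    infer_instance

lemma isZero_of_isIso_f {E E' : CochainComplex A ℤ} (v : E ⟶ E') (i : ℤ) [IsIso (v.f i)]
    (h : IsZero (E.X i)) : IsZero (E'.X i) :=
  h.of_iso (asIso (v.f i)).symm

variable (P : ObjectProperty A) [P.IsClosedUnderIsomorphisms]

lemma P_of_isIso_f {E E' : CochainComplex A ℤ} (v : E ⟶ E') (i : ℤ) [IsIso (v.f i)]
    (h : P (E.X i)) : P (E'.X i) :=
  P.prop_of_iso (asIso (v.f i)) h

/-- the cone of a map from a strictly `(n+1)`-pc complex to a strictly `n`-pc complex -/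
lemma strictPC_cone (hsum : ∀ X Y : A, P X → P Y → P (X ⨯ Y)) (n : ℤ) {K L : CochainComplex A ℤ}
    (φ : K ⟶ L) (hK : PCoh.IsStrictPC P (n + 1) K) (hL : PCoh.IsStrictPC P n L) :
    PCoh.IsStrictPC P n (mappingCone φ) := by
  obtain ⟨⟨bK, hbK⟩, hPK⟩ := hK
  obtain ⟨⟨bL, hbL⟩, hPL⟩ := hL
  refine ⟨⟨max bK bL, fun i hi => isZero_cone φ i (hbK _ (by omega)) (hbL _ (by omega))⟩,
    fun i hi => P_cone P hsum φ i (hPK _ (by omega)) (hPL _ hi)⟩

lemma strictPC_of_all {E : CochainComplex A ℤ} (h : PCoh.IsStrictPCAll P E) (n : ℤ) :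
    PCoh.IsStrictPC P n E :=
  ⟨h.1, fun i _ => h.2 i⟩

/-- one step of the downward induction -/
lemma step (hsum : ∀ X Y : A, P X → P Y → P (X ⨯ Y))
    (hqs : PCoh.IsQuasiStableUnderKernels P) (hql : PCoh.IsQuasiLiftable P)
    (n j : ℤ) (hj : n ≤ j) {E F : CochainComplex A ℤ} (hF : PCoh.IsStrictPC P n F)
    (u : E ⟶ F) [QuasiIso u] {G : CochainComplex A ℤ} (hG : PCoh.IsStrictPCAll P G)
    (w : G ⟶ E) (hw : NQI (j + 1) w) :
    ∃ (G' : CochainComplex A ℤ) (w' : G' ⟶ E), PCoh.IsStrictPCAll P G' ∧ NQI j w' := by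
  have hcone : PCoh.IsOfFiniteType P ((mappingCone w).homology j) := by
    have hq : QuasiIso (mappingCone.map w (w ≫ u) (𝟙 G) u (by simp)) :=
      quasiIso_mappingCone_map _ _ _ _ _
    refine finiteType_of_iso P
      (asIso (HomologicalComplex.homologyMap (mappingCone.map w (w ≫ u) (𝟙 G) u (by simp)) j)).symm ?_
    have hC := strictPC_cone P hsum n (w ≫ u) (strictPC_of_all P hG (n + 1)) hF
    refine homology_finiteType P hqs _ j hC.1 (fun i hi => hC.2 i (by omega)) ?_
    intro i hi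
    exact (nqi_iff_cone (j + 1) (w ≫ u)).1 (nqi_comp_quasiIso w u hw) i (by omega)
  obtain ⟨G', v, w', hvw, hmono, hiso, hPj, hnqi⟩ := one_step' P hsum hql j w hw hcone
  refine ⟨G', w', ⟨?_, ?_⟩, hnqi⟩
  · obtain ⟨b, hb⟩ := hG.1
    refine ⟨max b j, fun i hi => ?_⟩
    have := hiso i (by omega)
    exact isZero_of_isIso_f v i (hb i (by omega))
  · intro i
    by_cases hi : i = j
    · subst hi
      exact hPj (hG.2 i)
    · have := hiso i hi
      exact P_of_isIso_f P v i (hG.2 i)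

variable [P.ContainsZero]

lemma isZero_zero_X (i : ℤ) : IsZero ((0 : CochainComplex A ℤ).X i) :=
  (HomologicalComplex.eval A (ComplexShape.up ℤ) i).map_isZero (isZero_zero _)

lemma strictPCAll_zero : PCoh.IsStrictPCAll P (0 : CochainComplex A ℤ) :=
  ⟨⟨0, fun i _ => isZero_zero_X i⟩, fun i => P.prop_of_isZero (isZero_zero_X i)⟩

/-- downward induction -/
lemma exists_nqi (hsum : ∀ X Y : A, P X → P Y → P (X ⨯ Y))
    (hqs : PCoh.IsQuasiStableUnderKernels P) (hql : PCoh.IsQuasiLiftable P)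
    (n : ℤ) {E F : CochainComplex A ℤ} (hF : PCoh.IsStrictPC P n F)
    (u : E ⟶ F) [QuasiIso u] (top : ℤ) (htop : ∀ i : ℤ, top ≤ i → IsZero (E.homology i)) :
    ∀ (k : ℕ) (j : ℤ), j + k = top → n ≤ j →
      ∃ (G : CochainComplex A ℤ) (w : G ⟶ E), PCoh.IsStrictPCAll P G ∧ NQI j w := by
  intro k
  induction k with
  | zero =>
    intro j hj _
    refine ⟨0, 0, strictPCAll_zero P, ?_⟩
    have hj' : j = top := by simpa using hj
    subst hj'
    constructor
    · intro i hi
      have hex : (0 : CochainComplex A ℤ).ExactAt i :=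
        ShortComplex.exact_of_isZero_X₂ _ (isZero_zero_X i)
      have h1 : IsZero ((0 : CochainComplex A ℤ).homology i) := hex.isZero_homology
      exact ⟨0, h1.eq_of_src _ _, (htop i (by omega)).eq_of_src _ _⟩
    · exact ⟨fun a b _ => (htop j le_rfl).eq_of_src a b⟩
  | succ k ih =>
    intro j hj hn
    obtain ⟨G, w, hG, hw⟩ := ih (j + 1) (by push_cast at hj ⊢; omega) (by omega)
    exact step P hsum hqs hql n j hn hF u hG w hw

/-- S5597 -/
theorem resolve (hsum : ∀ X Y : A, P X → P Y → P (X ⨯ Y))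
    (hqs : PCoh.IsQuasiStableUnderKernels P) (hql : PCoh.IsQuasiLiftable P)
    (n : ℤ) {E F : CochainComplex A ℤ} (hF : PCoh.IsStrictPC P n F)
    (u : E ⟶ F) [QuasiIso u] :
    ∃ (F' : CochainComplex A ℤ) (v : F' ⟶ E), PCoh.IsStrictPC P n F' ∧ QuasiIso v := by
  obtain ⟨b, hb⟩ := hF.1
  have htop : ∀ i : ℤ, max (b + 1) n ≤ i → IsZero (E.homology i) := by
    intro i hi
    have hex : F.ExactAt i := ShortComplex.exact_of_isZero_X₂ _ (hb i (by omega))
    have h1 : IsZero (F.homology i) := hex.isZero_homology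
    exact h1.of_iso (asIso (HomologicalComplex.homologyMap u i))
  obtain ⟨G, w, hG, hw⟩ := exists_nqi P hsum hqs hql n hF u (max (b + 1) n) htop
    (max (b + 1) n - n).toNat n (by omega) le_rfl
  obtain ⟨E', v, u', hvu, hq, hmono, hiso⟩ := factor n w hw
  refine ⟨E', u', ⟨?_, ?_⟩, hq⟩
  · obtain ⟨bG, hbG⟩ := hG.1
    refine ⟨max bG n, fun i hi => ?_⟩
    have := hiso i (by omega)
    exact isZero_of_isIso_f v i (hbG i (by omega))
  · intro i hi
    have := hiso i hi
    exact P_of_isIso_f P v i (hG.2 i)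

end Groth.Agent.Lib.Helper8.PC5
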