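import Groth.Agent.Lib.Helper8.PC5

/-!
# Helper8: iterating the one-step modification (PCoh cluster)
-/

universe v u

open CategoryTheory CategoryTheory.Limits CategoryTheory.Pretriangulated CochainComplex HomComplex

namespace Groth.Agent.Lib.Helper8.PC6

open PC1 PC2 PC3 PC4 PC5 ZeroObject

variable {A : Type u} [Category.{v} A] [Abelian A]
variable (P : ObjectProperty A) [P.IsClosedUnderIsomorphisms]

lemma strictPC_of_step (n j : ℤ) (hj : n ≤ j) {G G' : CochainComplex A ℤ} (v : G ⟶ G')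
    (hiso : ∀ i : ℤ, i ≠ j → IsIso (v.f i)) (hPj : P (G.X j) → P (G'.X j))
    (hG : PCoh.IsStrictPC P n G) : PCoh.IsStrictPC P n G' := by
  obtain ⟨⟨b, hb⟩, hP⟩ := hG
  refine ⟨⟨max b j, fun i hi => ?_⟩, fun i hi => ?_⟩
  · have := hiso i (by omega)
    exact isZero_of_isIso_f v i (hb i (by omega))
  · by_cases hij : i = j
    · subst hij
      exact hPj (hP i hi)
    · have := hiso i hij
      exact P_of_isIso_f P v i (hP i hi)

/-- `Lemma D`: an `n`-quasi-isomorphism from a strictly `n`-pc complex factors through a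
quasi-isomorphism from a strictly `n`-pc complex -/
theorem factor_strict (n : ℤ) {G M : CochainComplex A ℤ} (hG : PCoh.IsStrictPC P n G) (w : G ⟶ M)
    (hw : NQI n w) :
    ∃ (E' : CochainComplex A ℤ) (v : G ⟶ E') (u' : E' ⟶ M), v ≫ u' = w ∧
      PCoh.IsStrictPC P n E' ∧ QuasiIso u' ∧ (∀ i : ℤ, Mono (v.f i)) ∧
      (∀ i : ℤ, n ≤ i → IsIso (v.f i)) := by
  obtain ⟨E', v, u', hvu, hq, hmono, hiso⟩ := factor n w hw
  refine ⟨E', v, u', hvu, ⟨?_, ?_⟩, hq, hmono, hiso⟩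
  · obtain ⟨bG, hbG⟩ := hG.1
    refine ⟨max bG n, fun i hi => ?_⟩
    have := hiso i (by omega)
    exact isZero_of_isIso_f v i (hbG i (by omega))
  · intro i hi
    have := hiso i hi
    exact P_of_isIso_f P v i (hG.2 i hi)

/-- iterating the one-step modification -/
theorem iterate (hsum : ∀ X Y : A, P X → P Y → P (X ⨯ Y)) (hql : PCoh.IsQuasiLiftable P)
    (n : ℤ) {E : CochainComplex A ℤ}
    (hfin : ∀ (j : ℤ), n ≤ j → ∀ {G : CochainComplex A ℤ} (w : G ⟶ E), PCoh.IsStrictPC P n G →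
      NQI (j + 1) w → PCoh.IsOfFiniteType P ((mappingCone w).homology j)) :
    ∀ (k : ℕ) (j : ℤ), n ≤ j → ∀ {G₀ : CochainComplex A ℤ} (w₀ : G₀ ⟶ E),
      PCoh.IsStrictPC P n G₀ → NQI (j + k) w₀ →
      ∃ (G : CochainComplex A ℤ) (v : G₀ ⟶ G) (w : G ⟶ E), v ≫ w = w₀ ∧ PCoh.IsStrictPC P n G ∧
        NQI j w ∧ (∀ i : ℤ, Mono (v.f i)) ∧ (∀ i : ℤ, i < j ∨ j + k ≤ i → IsIso (v.f i)) ∧
        (∀ i : ℤ, P (G₀.X i) → P (G.X i)) := by
  intro k
  induction k with
  | zero =>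
    intro j _ G₀ w₀ hG₀ hw₀
    refine ⟨G₀, 𝟙 _, w₀, Category.id_comp _, hG₀, by simpa using hw₀, fun i => ?_, fun i _ => ?_,
      fun i h => h⟩
    · rw [HomologicalComplex.id_f]; infer_instance
    · rw [HomologicalComplex.id_f]; infer_instance
  | succ k ih =>
    intro j hj G₀ w₀ hG₀ hw₀
    have hw₀' : NQI (j + 1 + (k : ℕ)) w₀ := by
      have : j + ((k + 1 : ℕ) : ℤ) = j + 1 + (k : ℕ) := by push_cast; omega
      rwa [this] at hw₀
    obtain ⟨G₁, v₁, w₁, hvw₁, hG₁, hw₁, hmono₁, hiso₁, hP₁⟩ := ih (j + 1) (by omega) w₀ hG₀ hw₀'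
    obtain ⟨G, v₂, w, hvw₂, hmono₂, hiso₂, hPj, hw⟩ :=
      one_step' P hsum hql j w₁ hw₁ (hfin j hj w₁ hG₁ hw₁)
    refine ⟨G, v₁ ≫ v₂, w, by rw [Category.assoc, hvw₂, hvw₁],
      strictPC_of_step P n j hj v₂ hiso₂ hPj hG₁, hw, fun i => ?_, fun i hi => ?_, fun i hi => ?_⟩
    · rw [HomologicalComplex.comp_f]
      have := hmono₁ i
      have := hmono₂ i
      exact mono_comp _ _
    · rw [HomologicalComplex.comp_f]
      have := hiso₁ i (by push_cast at hi; omega)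
      have := hiso₂ i (by push_cast at hi; omega)
      infer_instance
    · by_cases hij : i = j
      · subst hij
        exact hPj (hP₁ i hi)
      · have := hiso₂ i hij
        exact P_of_isIso_f P v₂ i (hP₁ i hi)

end Groth.Agent.Lib.Helper8.PC6
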