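import Groth.Agent.Lib.Helper8.PC6
import Mathlib.Algebra.Homology.DerivedCategory.Fractions
import Mathlib.Algebra.Homology.DerivedCategory.HomologySequence

/-!
# Helper8: `n`-pseudo-coherent objects of the derived category (PCoh cluster, S5599)
-/

universe w v u

open CategoryTheory CategoryTheory.Limits CategoryTheory.Pretriangulated CochainComplex HomComplex

namespace Groth.Agent.Lib.Helper8.PC7

open PC1 PC2 PC3 PC4 PC5 PC6 ZeroObject

variable {A : Type u} [Category.{v} A] [Abelian A] [HasDerivedCategory.{w} A]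
variable (P : ObjectProperty A)

/-- `n`-pseudo-coherent objects of the derived category -/
def IsNPC (n : ℤ) (X : DerivedCategory A) : Prop :=
  ∃ E : CochainComplex A ℤ, PCoh.IsStrictPC P n E ∧ Nonempty (DerivedCategory.Q.obj E ≅ X)

variable {P}

lemma IsNPC.of_iso {n : ℤ} {X Y : DerivedCategory A} (e : X ≅ Y) (h : IsNPC P n X) :
    IsNPC P n Y := by
  obtain ⟨E, hE, ⟨e'⟩⟩ := h
  exact ⟨E, hE, ⟨e' ≪≫ e⟩⟩

lemma strictPC_mono {n m : ℤ} (hnm : n ≤ m) {E : CochainComplex A ℤ} (h : PCoh.IsStrictPC P n E) :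
    PCoh.IsStrictPC P m E :=
  ⟨h.1, fun i hi => h.2 i (by omega)⟩

lemma IsNPC.mono {n m : ℤ} (hnm : n ≤ m) {X : DerivedCategory A} (h : IsNPC P n X) :
    IsNPC P m X := by
  obtain ⟨E, hE, e⟩ := h
  exact ⟨E, strictPC_mono hnm hE, e⟩

lemma strictPC_shift (n k : ℤ) {E : CochainComplex A ℤ} (hE : PCoh.IsStrictPC P n E) :
    PCoh.IsStrictPC P (n - k) (E⟦k⟧) := by
  obtain ⟨⟨b, hb⟩, hP⟩ := hE
  exact ⟨⟨b - k, fun i hi => hb (i + k) (by omega)⟩, fun i hi => hP (i + k) (by omega)⟩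

lemma IsNPC.shift {n : ℤ} {X : DerivedCategory A} (h : IsNPC P n X) (k : ℤ) :
    IsNPC P (n - k) (X⟦k⟧) := by
  obtain ⟨E, hE, ⟨e⟩⟩ := h
  exact ⟨E⟦k⟧, strictPC_shift n k hE,
    ⟨(DerivedCategory.Q.commShiftIso k).app E ≪≫ (CategoryTheory.shiftFunctor (DerivedCategory A) k).mapIso e⟩⟩

lemma IsNPC.of_shift {n : ℤ} {X : DerivedCategory A} (k : ℤ) (h : IsNPC P (n - k) (X⟦k⟧)) :
    IsNPC P n X := by
  have := h.shift (-k)
  have e : (X⟦k⟧)⟦-k⟧ ≅ X := (shiftEquiv (DerivedCategory A) k).unitIso.symm.app X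
  have h2 := this.of_iso e
  have : n - k - -k = n := by omega
  rwa [this] at h2

variable [P.IsClosedUnderIsomorphisms] [P.ContainsZero]

/-- the cone of a morphism from an `(n+1)`-pc object to an `n`-pc object is `n`-pc -/
theorem IsNPC.cone (hsum : ∀ X Y : A, P X → P Y → P (X ⨯ Y))
    (hqs : PCoh.IsQuasiStableUnderKernels P) (hql : PCoh.IsQuasiLiftable P) (n : ℤ)
    (T : Triangle (DerivedCategory A)) (hT : T ∈ distTriang (DerivedCategory A))
    (h₁ : IsNPC P (n + 1) T.obj₁) (h₂ : IsNPC P n T.obj₂) : IsNPC P n T.obj₃ := by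
  obtain ⟨E₁, hE₁, ⟨e₁⟩⟩ := h₁
  obtain ⟨E₂, hE₂, ⟨e₂⟩⟩ := h₂
  obtain ⟨X', s, hs, g, hfac⟩ := DerivedCategory.right_fac (e₁.hom ≫ T.mor₁ ≫ e₂.inv)
  have hsq : QuasiIso s := (DerivedCategory.isIso_Q_map_iff_quasiIso _ s).1 hs
  obtain ⟨E₁'', t, hE₁'', ht⟩ := resolve P hsum hqs hql (n + 1) hE₁ s
  have hcone := strictPC_cone P hsum n (t ≫ g) hE₁'' hE₂
  have hT' := DerivedCategory.mappingCone_triangle_distinguished (t ≫ g)
  have hts : IsIso (DerivedCategory.Q.map (t ≫ s)) := by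
    rw [DerivedCategory.isIso_Q_map_iff_quasiIso]; infer_instance
  let e₁' : DerivedCategory.Q.obj E₁'' ≅ T.obj₁ := @asIso _ _ _ _ _ hts ≪≫ e₁
  have he₁' : e₁'.hom = DerivedCategory.Q.map (t ≫ s) ≫ e₁.hom := rfl
  have hg : DerivedCategory.Q.map g = DerivedCategory.Q.map s ≫ e₁.hom ≫ T.mor₁ ≫ e₂.inv := by
    rw [hfac, IsIso.hom_inv_id_assoc]
  let θ := isoTriangleOfIso₁₂ _ T hT' hT e₁' e₂ (by
    rw [he₁']
    change DerivedCategory.Q.map (t ≫ g) ≫ e₂.hom =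
      (DerivedCategory.Q.map (t ≫ s) ≫ e₁.hom) ≫ T.mor₁
    rw [Functor.map_comp, Functor.map_comp, hg]
    simp)
  exact ⟨mappingCone (t ≫ g), hcone, ⟨Triangle.π₃.mapIso θ⟩⟩

/-- S5599 -/
theorem triangle_all (hsum : ∀ X Y : A, P X → P Y → P (X ⨯ Y))
    (hqs : PCoh.IsQuasiStableUnderKernels P) (hql : PCoh.IsQuasiLiftable P) (n : ℤ)
    (T : Triangle (DerivedCategory A)) (hT : T ∈ distTriang (DerivedCategory A)) :
    (IsNPC P (n + 1) T.obj₁ → IsNPC P n T.obj₂ → IsNPC P n T.obj₃) ∧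
    (IsNPC P n T.obj₁ → IsNPC P n T.obj₃ → IsNPC P n T.obj₂) ∧
    (IsNPC P (n + 1) T.obj₂ → IsNPC P n T.obj₃ → IsNPC P (n + 1) T.obj₁) := by
  refine ⟨IsNPC.cone hsum hqs hql n T hT, ?_, ?_⟩
  · intro h₁ h₃
    have hT' := inv_rot_of_distTriang _ hT
    refine IsNPC.cone hsum hqs hql n _ hT' ?_ h₁
    have := h₃.shift (-1)
    have e : n - -1 = n + 1 := by omega
    rwa [e] at this
  · intro h₂ h₃
    have hT' := inv_rot_of_distTriang _ (inv_rot_of_distTriang _ hT)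
    refine IsNPC.cone hsum hqs hql (n + 1) _ hT' ?_ ?_
    · have := h₂.shift (-1)
      have e : n + 1 - -1 = n + 1 + 1 := by omega
      rwa [e] at this
    · have := h₃.shift (-1)
      have e : n - -1 = n + 1 := by omega
      rwa [e] at this

end Groth.Agent.Lib.Helper8.PC7
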