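import Groth.Agent.Lib.Helper8.PC7

/-!
# Helper8: criteria for `n`-pseudo-coherence (PCoh cluster: S5603, S5598, S12100, S5617)
-/

universe w v u

open CategoryTheory CategoryTheory.Limits CategoryTheory.Pretriangulated CochainComplex HomComplex

namespace Groth.Agent.Lib.Helper8.PC8

open PC1 PC2 PC3 PC4 PC5 PC6 PC7 ZeroObject

variable {A : Type u} [Category.{v} A] [Abelian A] [HasDerivedCategory.{w} A]

/-- `n`-isomorphisms in the derived category -/
def DNQI (n : ℤ) {X Y : DerivedCategory A} (α : X ⟶ Y) : Prop :=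
  (∀ i : ℤ, n < i → IsIso ((DerivedCategory.homologyFunctor A i).map α)) ∧
    Epi ((DerivedCategory.homologyFunctor A n).map α)

/-- comparison of the derived homology with the homology of complexes -/
noncomputable abbrev hIsoD (K : CochainComplex A ℤ) (i : ℤ) :
    (DerivedCategory.homologyFunctor A i).obj (DerivedCategory.Q.obj K) ≅ K.homology i :=
  (DerivedCategory.homologyFunctorFactors A i).app K

lemma hIsoD_nat {K L : CochainComplex A ℤ} (f : K ⟶ L) (i : ℤ) :
    (DerivedCategory.homologyFunctor A i).map (DerivedCategory.Q.map f) ≫ (hIsoD L i).hom =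
      (hIsoD K i).hom ≫ HomologicalComplex.homologyMap f i :=
  (DerivedCategory.homologyFunctorFactors A i).hom.naturality f

lemma homologyMap_eq_derived {K L : CochainComplex A ℤ} (f : K ⟶ L) (i : ℤ) :
    HomologicalComplex.homologyMap f i =
      (hIsoD K i).inv ≫
        (DerivedCategory.homologyFunctor A i).map (DerivedCategory.Q.map f) ≫
          (hIsoD L i).hom := by
  rw [hIsoD_nat, Iso.inv_hom_id_assoc]

lemma derived_eq_homologyMap {K L : CochainComplex A ℤ} (f : K ⟶ L) (i : ℤ) :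
    (DerivedCategory.homologyFunctor A i).map (DerivedCategory.Q.map f) =
      (hIsoD K i).hom ≫ HomologicalComplex.homologyMap f i ≫ (hIsoD L i).inv := by
  rw [← Category.assoc, ← hIsoD_nat, Category.assoc, Iso.hom_inv_id, Category.comp_id]

lemma nqi_iff_dnqi (n : ℤ) {K L : CochainComplex A ℤ} (f : K ⟶ L) :
    NQI n f ↔ DNQI n (DerivedCategory.Q.map f) := by
  constructor
  · rintro ⟨h1, h2⟩
    refine ⟨fun i hi => ?_, ?_⟩
    · rw [derived_eq_homologyMap]
      have := h1 i hi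
      infer_instance
    · rw [derived_eq_homologyMap]
      have : Epi (HomologicalComplex.homologyMap f n ≫ (hIsoD L n).inv) := epi_comp _ _
      exact epi_comp _ _
  · rintro ⟨h1, h2⟩
    refine ⟨fun i hi => ?_, ?_⟩
    · rw [homologyMap_eq_derived]
      have := h1 i hi
      infer_instance
    · rw [homologyMap_eq_derived]
      have : Epi ((DerivedCategory.homologyFunctor A n).map (DerivedCategory.Q.map f) ≫
          (hIsoD L n).hom) := epi_comp _ _
      exact epi_comp _ _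

lemma DNQI.comp_iso {n : ℤ} {X Y Z : DerivedCategory A} {α : X ⟶ Y} (h : DNQI n α) (β : Y ⟶ Z)
    [IsIso β] : DNQI n (α ≫ β) := by
  refine ⟨fun i hi => ?_, ?_⟩
  · rw [Functor.map_comp]
    have := h.1 i hi
    infer_instance
  · rw [Functor.map_comp]
    have := h.2
    exact epi_comp _ _

lemma DNQI.iso_comp {n : ℤ} {X Y Z : DerivedCategory A} (β : X ⟶ Y) [IsIso β] {α : Y ⟶ Z}
    (h : DNQI n α) : DNQI n (β ≫ α) := by
  refine ⟨fun i hi => ?_, ?_⟩
  · rw [Functor.map_comp]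
    have := h.1 i hi
    infer_instance
  · rw [Functor.map_comp]
    have := h.2
    exact epi_comp _ _

lemma exactAt_iff_derived (K : CochainComplex A ℤ) (i : ℤ) :
    K.ExactAt i ↔ IsZero ((DerivedCategory.homologyFunctor A i).obj (DerivedCategory.Q.obj K)) := by
  rw [HomologicalComplex.exactAt_iff_isZero_homology]
  exact (hIsoD K i).symm.isZero_iff

variable (P : ObjectProperty A) [P.IsClosedUnderIsomorphisms]

/-- L1 -/
theorem finiteType_homology_of_npc (hqs : PCoh.IsQuasiStableUnderKernels P) (j : ℤ)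
    {X : DerivedCategory A} (hX : IsNPC P j X)
    (hac : ∀ i : ℤ, j < i → IsZero ((DerivedCategory.homologyFunctor A i).obj X)) :
    PCoh.IsOfFiniteType P ((DerivedCategory.homologyFunctor A j).obj X) := by
  obtain ⟨E, hE, ⟨e⟩⟩ := hX
  have h1 : PCoh.IsOfFiniteType P (E.homology j) := by
    refine homology_finiteType P hqs E j hE.1 hE.2 (fun i hi => ?_)
    rw [exactAt_iff_derived]
    exact (hac i hi).of_iso ((DerivedCategory.homologyFunctor A i).mapIso e)
  exact finiteType_of_iso P ((hIsoD E j).symm ≪≫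
    (DerivedCategory.homologyFunctor A j).mapIso e) h1

variable [P.ContainsZero]

/-- L2 -/
theorem hfin_of_npc (hsum : ∀ X Y : A, P X → P Y → P (X ⨯ Y))
    (hqs : PCoh.IsQuasiStableUnderKernels P) (hql : PCoh.IsQuasiLiftable P) (n : ℤ)
    {M : CochainComplex A ℤ} (hM : IsNPC P n (DerivedCategory.Q.obj M))
    (j : ℤ) (hj : n ≤ j) {G : CochainComplex A ℤ} (w : G ⟶ M) (hG : PCoh.IsStrictPC P n G)
    (hw : NQI (j + 1) w) : PCoh.IsOfFiniteType P ((mappingCone w).homology j) := by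
  have hT := DerivedCategory.mappingCone_triangle_distinguished w
  have hG' : IsNPC P (n + 1) (DerivedCategory.Q.obj G) :=
    ⟨G, strictPC_mono (by omega) hG, ⟨Iso.refl _⟩⟩
  have hc : IsNPC P j (DerivedCategory.Q.obj (mappingCone w)) :=
    (IsNPC.cone hsum hqs hql n _ hT hG' hM).mono hj
  have := finiteType_homology_of_npc P hqs j hc (fun i hi => by
    rw [← exactAt_iff_derived]
    exact (nqi_iff_cone (j + 1) w).1 hw i (by omega))
  exact finiteType_of_iso P (hIsoD _ j) this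

omit [HasDerivedCategory.{w} A] [P.ContainsZero] in
/-- generalised `Lemma D` -/
theorem factor_strict' (n i : ℤ) (hin : i ≤ n) {G M : CochainComplex A ℤ}
    (hG : PCoh.IsStrictPC P n G) (w : G ⟶ M) (hw : NQI i w) :
    ∃ (E' : CochainComplex A ℤ) (v : G ⟶ E') (u' : E' ⟶ M), v ≫ u' = w ∧
      PCoh.IsStrictPC P n E' ∧ QuasiIso u' ∧ (∀ k : ℤ, Mono (v.f k)) ∧
      (∀ k : ℤ, i ≤ k → IsIso (v.f k)) := by
  obtain ⟨E', v, u', hvu, hq, hmono, hiso⟩ := factor i w hw
  refine ⟨E', v, u', hvu, ⟨?_, ?_⟩, hq, hmono, hiso⟩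
  · obtain ⟨bG, hbG⟩ := hG.1
    refine ⟨max bG n, fun k hk => ?_⟩
    have := hiso k (by omega)
    exact isZero_of_isIso_f v k (hbG k (by omega))
  · intro k hk
    have := hiso k (by omega)
    exact P_of_isIso_f P v k (hG.2 k hk)

/-- L3 = S12100 -/
theorem exists_strict_of_nqi (hsum : ∀ X Y : A, P X → P Y → P (X ⨯ Y))
    (hqs : PCoh.IsQuasiStableUnderKernels P) (hql : PCoh.IsQuasiLiftable P) (n i : ℤ)
    {G₀ M : CochainComplex A ℤ} (hM : IsNPC P n (DerivedCategory.Q.obj M))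
    (hG₀ : PCoh.IsStrictPC P n G₀) (w₀ : G₀ ⟶ M) (hw₀ : NQI i w₀) :
    ∃ (E' : CochainComplex A ℤ) (v : G₀ ⟶ E') (u' : E' ⟶ M), v ≫ u' = w₀ ∧
      PCoh.IsStrictPC P n E' ∧ QuasiIso u' ∧ (∀ k : ℤ, Mono (v.f k)) ∧
      (∀ k : ℤ, i ≤ k → IsIso (v.f k)) := by
  by_cases hin : i ≤ n
  · exact factor_strict' P n i hin hG₀ w₀ hw₀
  · have hk : n + ((i - n).toNat : ℤ) = i := by omega
    obtain ⟨G, v₁, w, hvw, hG, hw, hmono₁, hiso₁, -⟩ :=
      iterate P hsum hql n (fun j hj G w hG hw => hfin_of_npc P hsum hqs hql n hM j hj w hG hw)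
        (i - n).toNat n le_rfl w₀ hG₀ (by rwa [hk])
    obtain ⟨E', v₂, u', hvu, hE', hq, hmono₂, hiso₂⟩ := factor_strict' P n n le_rfl hG w hw
    refine ⟨E', v₁ ≫ v₂, u', by rw [Category.assoc, hvu, hvw], hE', hq, fun k => ?_, fun k hk' => ?_⟩
    · rw [HomologicalComplex.comp_f]
      have := hmono₁ k
      have := hmono₂ k
      exact mono_comp _ _
    · rw [HomologicalComplex.comp_f]
      have := hiso₁ k (Or.inr (by omega))
      have := hiso₂ k (by omega)
      infer_instance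

omit [HasDerivedCategory.{w} A] in
lemma nqi_zero (M : CochainComplex A ℤ) (m : ℤ) (h : ∀ i : ℤ, m ≤ i → IsZero (M.homology i)) :
    NQI m (0 : (0 : CochainComplex A ℤ) ⟶ M) := by
  constructor
  · intro i hi
    have hex : (0 : CochainComplex A ℤ).ExactAt i :=
      ShortComplex.exact_of_isZero_X₂ _ (isZero_zero_X i)
    have h1 : IsZero ((0 : CochainComplex A ℤ).homology i) := hex.isZero_homology
    exact ⟨0, h1.eq_of_src _ _, (h i (by omega)).eq_of_src _ _⟩
  · exact ⟨fun a b _ => (h m le_rfl).eq_of_src a b⟩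

omit [HasDerivedCategory.{w} A] in
lemma isZero_homology_of_isZero_X (M : CochainComplex A ℤ) (i : ℤ) (h : IsZero (M.X i)) :
    IsZero (M.homology i) := by
  have hex : M.ExactAt i := ShortComplex.exact_of_isZero_X₂ _ h
  exact hex.isZero_homology

omit [HasDerivedCategory.{w} A] in
lemma homology_cone_zero_iso (M : CochainComplex A ℤ) (n : ℤ) :
    Nonempty (M.homology n ≅ (mappingCone (0 : (0 : CochainComplex A ℤ) ⟶ M)).homology n) := by
  have h1 : ∀ i : ℤ, IsIso ((mappingCone.inr (0 : (0 : CochainComplex A ℤ) ⟶ M)).f i) :=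
    fun i => isIso_inr_f _ i (isZero_zero_X _)
  have h2 : IsIso (mappingCone.inr (0 : (0 : CochainComplex A ℤ) ⟶ M)) :=
    HomologicalComplex.Hom.isIso_of_components _
  exact ⟨(HomologicalComplex.homologyFunctor A (ComplexShape.up ℤ) n).mapIso (asIso
    (mappingCone.inr (0 : (0 : CochainComplex A ℤ) ⟶ M)))⟩

/-- S5603 -/
theorem npc_iff_finiteType (hsum : ∀ X Y : A, P X → P Y → P (X ⨯ Y))
    (hqs : PCoh.IsQuasiStableUnderKernels P) (hql : PCoh.IsQuasiLiftable P) (n : ℤ)
    (X : DerivedCategory A)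
    (hac : ∀ i : ℤ, n < i → IsZero ((DerivedCategory.homologyFunctor A i).obj X)) :
    IsNPC P n X ↔ PCoh.IsOfFiniteType P ((DerivedCategory.homologyFunctor A n).obj X) := by
  constructor
  · intro hX
    exact finiteType_homology_of_npc P hqs n hX hac
  · intro hft
    let M := DerivedCategory.Q.objPreimage X
    let e : DerivedCategory.Q.obj M ≅ X := DerivedCategory.Q.objObjPreimageIso X
    have hM : ∀ i : ℤ, n + 1 ≤ i → IsZero (M.homology i) := fun i hi =>
      (hac i (by omega)).of_iso ((hIsoD M i).symm ≪≫ (DerivedCategory.homologyFunctor A i).mapIso e)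
    have hw₀ := nqi_zero M (n + 1) hM
    obtain ⟨e2⟩ := homology_cone_zero_iso M n
    have hcone : PCoh.IsOfFiniteType P
        ((mappingCone (0 : (0 : CochainComplex A ℤ) ⟶ M)).homology n) :=
      finiteType_of_iso P (((DerivedCategory.homologyFunctor A n).mapIso e).symm ≪≫ hIsoD M n ≪≫ e2)
        hft
    obtain ⟨G', v, w', hvw, hmono, hiso, hPj, hw'⟩ := one_step' P hsum hql n _ hw₀ hcone
    have hG' : PCoh.IsStrictPC P n G' :=
      strictPC_of_step P n n le_rfl v hiso hPj (strictPC_of_all P (strictPCAll_zero P) n)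
    obtain ⟨E', v₂, u', hvu, hE', hq, -, -⟩ := factor_strict' P n n le_rfl hG' w' hw'
    have : IsIso (DerivedCategory.Q.map u') := by
      rw [DerivedCategory.isIso_Q_map_iff_quasiIso]; exact hq
    exact ⟨E', hE', ⟨asIso (DerivedCategory.Q.map u') ≪≫ e⟩⟩

/-- S5617 -/
theorem exists_strict_vanishing (hsum : ∀ X Y : A, P X → P Y → P (X ⨯ Y))
    (hqs : PCoh.IsQuasiStableUnderKernels P) (hql : PCoh.IsQuasiLiftable P) (n m : ℤ)
    (hnm : n ≤ m) (X : DerivedCategory A) (hX : IsNPC P n X)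
    (hac : ∀ i : ℤ, m ≤ i → IsZero ((DerivedCategory.homologyFunctor A i).obj X)) :
    ∃ E : CochainComplex A ℤ, PCoh.IsStrictPC P n E ∧ (∀ i : ℤ, m ≤ i → IsZero (E.X i)) ∧
      Nonempty (DerivedCategory.Q.obj E ≅ X) := by
  obtain ⟨E₀, hE₀, ⟨e⟩⟩ := hX
  have hE₀ac : ∀ i : ℤ, m ≤ i → IsZero (E₀.homology i) := fun i hi =>
    (hac i hi).of_iso ((hIsoD E₀ i).symm ≪≫ (DerivedCategory.homologyFunctor A i).mapIso e)
  have hw₀ := nqi_zero E₀ m hE₀ac
  have hk : n + ((m - n).toNat : ℤ) = m := by omega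
  have hM : IsNPC P n (DerivedCategory.Q.obj E₀) := ⟨E₀, hE₀, ⟨Iso.refl _⟩⟩
  obtain ⟨G, v₁, w, hvw, hG, hw, hmono₁, hiso₁, -⟩ :=
    iterate P hsum hql n (fun j hj G w hG hw => hfin_of_npc P hsum hqs hql n hM j hj w hG hw)
      (m - n).toNat n le_rfl _ (strictPC_of_all P (strictPCAll_zero P) n) (by rwa [hk])
  obtain ⟨E', v₂, u', hvu, hE', hq, hmono₂, hiso₂⟩ := factor_strict' P n n le_rfl hG w hw
  have : IsIso (DerivedCategory.Q.map u') := by
    rw [DerivedCategory.isIso_Q_map_iff_quasiIso]; exact hq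
  refine ⟨E', hE', fun i hi => ?_, ⟨asIso (DerivedCategory.Q.map u') ≪≫ e⟩⟩
  have := hiso₁ i (Or.inr (by omega))
  have := hiso₂ i (by omega)
  exact isZero_of_isIso_f v₂ i (isZero_of_isIso_f v₁ i (isZero_zero_X i))

/-- S5598 -/
theorem npc_iff_exists_perfect (hsum : ∀ X Y : A, P X → P Y → P (X ⨯ Y))
    (hqs : PCoh.IsQuasiStableUnderKernels P) (hql : PCoh.IsQuasiLiftable P) (n : ℤ)
    (X : DerivedCategory A) :
    IsNPC P n X ↔ ∃ (E : CochainComplex A ℤ) (a b : ℤ) (α : DerivedCategory.Q.obj E ⟶ X),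
      (∀ i : ℤ, i < a ∨ b < i → IsZero (E.X i)) ∧ (∀ i : ℤ, P (E.X i)) ∧ DNQI n α := by
  constructor
  · rintro ⟨E₀, hE₀, ⟨e⟩⟩
    obtain ⟨b, hb⟩ := hE₀.1
    have hw₀ := nqi_zero E₀ (max (b + 1) n) (fun i hi =>
      isZero_homology_of_isZero_X E₀ i (hb i (by omega)))
    have hk : n + ((max (b + 1) n - n).toNat : ℤ) = max (b + 1) n := by omega
    have hM : IsNPC P n (DerivedCategory.Q.obj E₀) := ⟨E₀, hE₀, ⟨Iso.refl _⟩⟩
    obtain ⟨G, v₁, w, hvw, hG, hw, hmono₁, hiso₁, hP₁⟩ :=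
      iterate P hsum hql n (fun j hj G w hG hw => hfin_of_npc P hsum hqs hql n hM j hj w hG hw)
        (max (b + 1) n - n).toNat n le_rfl _ (strictPC_of_all P (strictPCAll_zero P) n)
        (by rwa [hk])
    refine ⟨G, n, max (b + 1) n - 1, DerivedCategory.Q.map w ≫ e.hom, fun i hi => ?_, fun i => ?_,
      ((nqi_iff_dnqi n w).1 hw).comp_iso e.hom⟩
    · have := hiso₁ i (by omega)
      exact isZero_of_isIso_f v₁ i (isZero_zero_X i)
    · exact hP₁ i (P.prop_of_isZero (isZero_zero_X i))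
  · rintro ⟨E, a, b, α, hz, hP, hα⟩
    let M := DerivedCategory.Q.objPreimage X
    let e : DerivedCategory.Q.obj M ≅ X := DerivedCategory.Q.objObjPreimageIso X
    obtain ⟨E', s, hs, g, hfac⟩ := DerivedCategory.right_fac (α ≫ e.inv)
    have hsq : QuasiIso s := (DerivedCategory.isIso_Q_map_iff_quasiIso _ s).1 hs
    have hE : PCoh.IsStrictPC P n E := ⟨⟨b, fun i hi => hz i (Or.inr hi)⟩, fun i _ => hP i⟩
    obtain ⟨E'', t, hE'', ht⟩ := resolve P hsum hqs hql n hE s
    have hg : DerivedCategory.Q.map g = DerivedCategory.Q.map s ≫ α ≫ e.inv := by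
      rw [hfac, IsIso.hom_inv_id_assoc]
    have htq : IsIso (DerivedCategory.Q.map t) := by
      rw [DerivedCategory.isIso_Q_map_iff_quasiIso]; exact ht
    have hw : NQI n (t ≫ g) := by
      rw [nqi_iff_dnqi, Functor.map_comp, hg]
      exact DNQI.iso_comp _ (DNQI.iso_comp _ (hα.comp_iso e.inv))
    obtain ⟨E₃, v₂, u', hvu, hE₃, hq, -, -⟩ := factor_strict' P n n le_rfl hE'' (t ≫ g) hw
    have : IsIso (DerivedCategory.Q.map u') := by
      rw [DerivedCategory.isIso_Q_map_iff_quasiIso]; exact hq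
    exact ⟨E₃, hE₃, ⟨asIso (DerivedCategory.Q.map u') ≪≫ e⟩⟩

end Groth.Agent.Lib.Helper8.PC8
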