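import Groth.Agent.Lib.Helper8.PC8
import Mathlib.CategoryTheory.Triangulated.Triangulated

/-!
# Helper8: direct summands of `n`-pseudo-coherent objects (PCoh cluster, S5605)
-/

universe w v u

open CategoryTheory CategoryTheory.Limits CategoryTheory.Pretriangulated CochainComplex HomComplex

namespace Groth.Agent.Lib.Helper8.PC9

open PC1 PC2 PC3 PC4 PC5 PC6 PC7 PC8 ZeroObject

variable {A : Type u} [Category.{v} A] [Abelian A] [HasDerivedCategory.{w} A]
variable (P : ObjectProperty A) [P.IsClosedUnderIsomorphisms] [P.ContainsZero]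

lemma finiteType_of_isZero {Z : A} (hZ : IsZero Z) : PCoh.IsOfFiniteType P Z :=
  ⟨0, 0, P.prop_of_isZero (isZero_zero _), ⟨fun a b _ => hZ.eq_of_src a b⟩⟩

/-- an object acyclic in degrees `≥ n` is `n`-pseudo-coherent -/
theorem npc_of_acyclic (n : ℤ) (X : DerivedCategory A)
    (hac : ∀ i : ℤ, n ≤ i → IsZero ((DerivedCategory.homologyFunctor A i).obj X)) :
    IsNPC P n X := by
  let M := DerivedCategory.Q.objPreimage X
  let e : DerivedCategory.Q.obj M ≅ X := DerivedCategory.Q.objObjPreimageIso X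
  have hM : ∀ i : ℤ, n ≤ i → IsZero (M.homology i) := fun i hi =>
    (hac i hi).of_iso ((hIsoD M i).symm ≪≫ (DerivedCategory.homologyFunctor A i).mapIso e)
  obtain ⟨E', v₂, u', hvu, hE', hq, -, -⟩ := factor_strict' P n n le_rfl
    (strictPC_of_all P (strictPCAll_zero P) n) _ (nqi_zero M n hM)
  have : IsIso (DerivedCategory.Q.map u') := by
    rw [DerivedCategory.isIso_Q_map_iff_quasiIso]; exact hq
  exact ⟨E', hE', ⟨asIso (DerivedCategory.Q.map u') ≪≫ e⟩⟩

variable {K L : DerivedCategory A} [HasBinaryBiproduct K L]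

/-- the split triangle `L ⟶ K ⊞ L ⟶ K` -/
lemma inr_fst_distinguished :
    Triangle.mk (biprod.inr : L ⟶ K ⊞ L) (biprod.fst : K ⊞ L ⟶ K) (0 : K ⟶ L⟦(1 : ℤ)⟧) ∈
      distTriang (DerivedCategory A) := by
  refine isomorphic_distinguished _ (binaryBiproductTriangle_distinguished L K) _ ?_
  exact Triangle.isoMk _ _ (Iso.refl _) (biprod.braiding K L) (Iso.refl _)
    (by
      change biprod.inr ≫ (biprod.braiding K L).hom = 𝟙 L ≫ biprod.inl
      rw [Category.id_comp]
      apply biprod.hom_ext <;> simp)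
    (by
      change biprod.fst ≫ 𝟙 K = (biprod.braiding K L).hom ≫ biprod.snd
      simp)
    (by
      change (0 : K ⟶ L⟦(1 : ℤ)⟧) ≫ (CategoryTheory.shiftFunctor _ (1 : ℤ)).map (𝟙 L) = 𝟙 K ≫ 0
      simp)

lemma isZero_homology_summand (i : ℤ)
    (h : IsZero ((DerivedCategory.homologyFunctor A i).obj (K ⊞ L))) :
    IsZero ((DerivedCategory.homologyFunctor A i).obj L) := by
  rw [IsZero.iff_id_eq_zero, ← CategoryTheory.Functor.map_id,
    ← (biprod.inr_snd : (biprod.inr : L ⟶ K ⊞ L) ≫ biprod.snd = 𝟙 L), Functor.map_comp]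
  rw [h.eq_of_tgt ((DerivedCategory.homologyFunctor A i).map (biprod.inr : L ⟶ K ⊞ L)) 0, zero_comp]

/-- the key step -/
theorem npc_summand_step (hsum : ∀ X Y : A, P X → P Y → P (X ⨯ Y))
    (hqs : PCoh.IsQuasiStableUnderKernels P) (hql : PCoh.IsQuasiLiftable P) (m : ℤ)
    (hZ : IsNPC P m (K ⊞ L)) (hL : IsNPC P (m + 2) L) : IsNPC P m L := by
  have h₁₂ := rot_of_distTriang _ (inr_fst_distinguished (K := K) (L := L))
  have h₂₃ := binaryBiproductTriangle_distinguished K L
  obtain ⟨C, v, w, h₁₃⟩ := distinguished_cocone_triangle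
    ((biprod.fst : K ⊞ L ⟶ K) ≫ (biprod.inl : K ⟶ K ⊞ L))
  have oct := Triangulated.someOctahedron rfl h₁₂ h₂₃ h₁₃
  have hC : IsNPC P m C := IsNPC.cone hsum hqs hql m _ h₁₃ (hZ.mono (by omega)) hZ
  have hL1 : IsNPC P (m + 1) (L⟦(1 : ℤ)⟧) := by
    have := hL.shift 1
    have e : m + 2 - 1 = m + 1 := by omega
    rwa [e] at this
  exact IsNPC.cone hsum hqs hql m _ oct.mem hL1 hC

theorem npc_summand (hsum : ∀ X Y : A, P X → P Y → P (X ⨯ Y))
    (hqs : PCoh.IsQuasiStableUnderKernels P) (hql : PCoh.IsQuasiLiftable P) (m : ℤ)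
    (hZ : IsNPC P m (K ⊞ L)) : IsNPC P m L := by
  have key : ∀ (k : ℕ) (m' : ℤ), m ≤ m' → IsNPC P (m' + 2 * k) L → IsNPC P m' L := by
    intro k
    induction k with
    | zero => intro m' _ h; simpa using h
    | succ k ih =>
      intro m' hm' h
      have h1 : IsNPC P (m' + 2 + 2 * (k : ℕ)) L := by
        have : m' + 2 * ((k + 1 : ℕ) : ℤ) = m' + 2 + 2 * (k : ℕ) := by push_cast; omega
        rwa [this] at h
      exact npc_summand_step P hsum hqs hql m' (hZ.mono hm') (ih (m' + 2) (by omega) h1)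
  obtain ⟨E, hE, ⟨e⟩⟩ := hZ
  obtain ⟨b, hb⟩ := hE.1
  have hac : ∀ i : ℤ, b + 1 ≤ i → IsZero ((DerivedCategory.homologyFunctor A i).obj L) := by
    intro i hi
    apply isZero_homology_summand (K := K) (L := L)
    exact (isZero_homology_of_isZero_X E i (hb i (by omega))).of_iso
      (((DerivedCategory.homologyFunctor A i).mapIso e).symm ≪≫ hIsoD E i)
  have hN := npc_of_acyclic P (b + 1) L hac
  refine key (b + 1 - m).toNat m le_rfl (hN.mono (by omega))

/-- S5605 -/
theorem npc_biprod_iff (hsum : ∀ X Y : A, P X → P Y → P (X ⨯ Y))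
    (hqs : PCoh.IsQuasiStableUnderKernels P) (hql : PCoh.IsQuasiLiftable P) (m : ℤ) :
    IsNPC P m (K ⊞ L) ↔ IsNPC P m K ∧ IsNPC P m L := by
  constructor
  · intro hZ
    refine ⟨?_, npc_summand P hsum hqs hql m hZ⟩
    exact npc_summand P hsum hqs hql m (hZ.of_iso (biprod.braiding K L))
  · rintro ⟨hK, hL⟩
    exact (triangle_all hsum hqs hql m _ (binaryBiproductTriangle_distinguished K L)).2.1 hK hL

end Groth.Agent.Lib.Helper8.PC9
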