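import Mathlib

/-!
# Helper8: classes of objects adapted to resolutions, finite coresolution dimension (termwise part)
-/

universe v u

open CategoryTheory CategoryTheory.Limits ZeroObject

namespace Groth.Agent.Lib.Helper8.PRes1

variable {A : Type u} [Category.{v} A] [Abelian A] (P : ObjectProperty A)

/-- the hypotheses (i), (ii) on the class `P` -/
structure Hyp : Prop where
  h1 : ∀ X : A, ∃ (Y : A) (i : X ⟶ Y), P Y ∧ Mono i
  h2 : ∀ S : ShortComplex A, S.ShortExact → P S.X₁ → (P S.X₂ ↔ P S.X₃)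

variable {P}

lemma P_of_isZero (h : Hyp P) {Z : A} (hZ : IsZero Z) : P Z := by
  obtain ⟨Y, i, hY, _⟩ := h.h1 Z
  let S : ShortComplex A := ShortComplex.mk (𝟙 Y) (0 : Y ⟶ Z) (by simp)
  have hS : S.ShortExact :=
    { exact := (S.exact_iff_epi rfl).2 (inferInstanceAs (Epi (𝟙 Y)))
      mono_f := inferInstanceAs (Mono (𝟙 Y))
      epi_g := ⟨fun _ _ _ => hZ.eq_of_src _ _⟩ }
  exact (h.h2 S hS hY).1 hY

lemma P_of_iso (h : Hyp P) {X Y : A} (e : X ≅ Y) (hX : P X) : P Y := by
  let S : ShortComplex A := ShortComplex.mk (0 : (0 : A) ⟶ X) e.hom (by simp)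
  have hS : S.ShortExact :=
    { exact := (S.exact_iff_mono rfl).2 (inferInstanceAs (Mono e.hom))
      mono_f := ⟨fun _ _ _ => (isZero_zero A).eq_of_tgt _ _⟩
      epi_g := inferInstanceAs (Epi e.hom) }
  exact (h.h2 S hS (P_of_isZero h (isZero_zero A))).1 hX

lemma P_biprod (h : Hyp P) {X Y : A} (hX : P X) (hY : P Y) : P (X ⊞ Y) := by
  let S : ShortComplex A := ShortComplex.mk (biprod.inl : X ⟶ X ⊞ Y) biprod.snd (by simp)
  have hS : S.ShortExact := by
    let s : S.Splitting :=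
      { r := biprod.fst
        s := biprod.inr
        f_r := by simp [S]
        s_g := by simp [S]
        id := by simp [S] }
    exact s.shortExact
  exact (h.h2 S hS hX).2 hY

variable (P) in
/-- a chain of `k` short exact sequences `C ↪ Y₀ ↠ C₁ ↪ Y₁ ↠ ⋯ ↠ Z` with middle terms in `P` -/
inductive Cores : ℕ → A → A → Prop
  | zero (C : A) : Cores 0 C C
  | succ {k : ℕ} (S : ShortComplex A) (hS : S.ShortExact) (hP : P S.X₂) {Z : A}
      (h : Cores k S.X₃ Z) : Cores (k + 1) S.X₁ Z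

variable (P) in
/-- the invariant: a complex of length `k` realizing the chain -/
def Inv (k : ℕ) (C Z : A) : Prop :=
  ∃ L : CochainComplex A ℕ, (∀ i, k < i → IsZero (L.X i)) ∧
    (∀ i, 1 ≤ i → i ≤ k → L.ExactAt i) ∧ (1 ≤ k → Epi (L.d (k - 1) k)) ∧
    (∀ i, i < k → P (L.X i)) ∧ Nonempty (L.X k ≅ Z) ∧
    ∃ (ε : C ⟶ L.X 0) (w : ε ≫ L.d 0 1 = 0), Mono ε ∧ (ShortComplex.mk ε (L.d 0 1) w).Exact

lemma inv_zero (C : A) : Inv P 0 C C := by
  refine ⟨(CochainComplex.single₀ A).obj C, ?_, ?_, ?_, ?_, ⟨Iso.refl _⟩, 𝟙 _, ?_, ?_, ?_⟩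
  · intro i hi
    obtain ⟨j, rfl⟩ : ∃ j, i = j + 1 := ⟨i - 1, by omega⟩
    exact isZero_zero A
  · intro i h1 h2
    omega
  · intro h
    omega
  · intro i hi
    omega
  · exact (isZero_zero A).eq_of_tgt _ _
  · exact inferInstanceAs (Mono (𝟙 C))
  · have : (((CochainComplex.single₀ A).obj C).d 0 1) = 0 := (isZero_zero A).eq_of_tgt _ _
    exact (ShortComplex.exact_iff_epi _ this).2 (inferInstanceAs (Epi (𝟙 C)))

lemma augment_exactAt_one (L : CochainComplex A ℕ) {X : A} (f : X ⟶ L.X 0)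
    (w : f ≫ L.d 0 1 = 0) :
    (CochainComplex.augment L f w).ExactAt 1 ↔ (ShortComplex.mk f (L.d 0 1) w).Exact := by
  rw [HomologicalComplex.exactAt_iff' _ 0 1 2 (by simp) (by simp)]
  apply ShortComplex.exact_iff_of_iso
  exact ShortComplex.isoMk (Iso.refl _) (Iso.refl _) (Iso.refl _)
    (by simp; exact (Category.id_comp _).trans (Category.comp_id _).symm)
    (by simp; exact (Category.id_comp _).trans (Category.comp_id _).symm)

lemma augment_exactAt_succ_succ (L : CochainComplex A ℕ) {X : A} (f : X ⟶ L.X 0)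
    (w : f ≫ L.d 0 1 = 0) (j : ℕ) :
    (CochainComplex.augment L f w).ExactAt (j + 2) ↔ L.ExactAt (j + 1) := by
  rw [HomologicalComplex.exactAt_iff' _ (j + 1) (j + 2) (j + 3) (by simp) (by simp),
    HomologicalComplex.exactAt_iff' _ j (j + 1) (j + 2) (by simp) (by simp)]
  apply ShortComplex.exact_iff_of_iso
  exact ShortComplex.isoMk (Iso.refl _) (Iso.refl _) (Iso.refl _)
    (by simp; exact (Category.id_comp _).trans (Category.comp_id _).symm)
    (by simp; exact (Category.id_comp _).trans (Category.comp_id _).symm)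

lemma inv_succ {k : ℕ} (S : ShortComplex A) (hS : S.ShortExact) (hP : P S.X₂) {Z : A}
    (h : Inv P k S.X₃ Z) : Inv P (k + 1) S.X₁ Z := by
  obtain ⟨L, hzero, hex, hepi, hPL, ⟨e⟩, ε, w, hε, hεex⟩ := h
  have hmono := hS.mono_f
  have hepig := hS.epi_g
  have w' : (S.g ≫ ε) ≫ L.d 0 1 = 0 := by rw [Category.assoc, w, comp_zero]
  have hd01 : (CochainComplex.augment L (S.g ≫ ε) w').d 0 1 = S.g ≫ ε :=
    CochainComplex.augment_d_zero_one _ _ _
  have hdss : ∀ i j, (CochainComplex.augment L (S.g ≫ ε) w').d (i + 1) (j + 1) = L.d i j :=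
    fun i j => CochainComplex.augment_d_succ_succ _ _ _ i j
  have w'' : S.f ≫ (CochainComplex.augment L (S.g ≫ ε) w').d 0 1 = 0 := by
    rw [hd01]
    exact (S.zero_assoc ε).trans zero_comp
  refine ⟨CochainComplex.augment L (S.g ≫ ε) w', ?_, ?_, ?_, ?_, ⟨e⟩, S.f, w'', hmono, ?_⟩
  · intro i hi
    obtain ⟨j, rfl⟩ : ∃ j, i = j + 1 := ⟨i - 1, by omega⟩
    exact hzero j (by omega)
  · intro i h1 h2
    obtain ⟨j, rfl⟩ : ∃ j, i = j + 1 := ⟨i - 1, by omega⟩
    cases j with
    | zero =>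
      rw [augment_exactAt_one]
      let φ : ShortComplex.mk (S.g ≫ ε) (L.d 0 1) w' ⟶ ShortComplex.mk ε (L.d 0 1) w :=
        { τ₁ := S.g
          τ₂ := 𝟙 _
          τ₃ := 𝟙 _ }
      have : Epi φ.τ₁ := by dsimp [φ]; infer_instance
      have : IsIso φ.τ₂ := by dsimp [φ]; infer_instance
      have : Mono φ.τ₃ := by dsimp [φ]; infer_instance
      exact (ShortComplex.exact_iff_of_epi_of_isIso_of_mono φ).2 hεex
    | succ j =>
      rw [augment_exactAt_succ_succ]
      exact hex (j + 1) (by omega) (by omega)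
  · intro _
    cases k with
    | zero =>
      change Epi ((CochainComplex.augment L (S.g ≫ ε) w').d 0 1)
      rw [hd01]
      have h1 : L.d 0 1 = 0 := (hzero 1 (by omega)).eq_of_tgt _ _
      have : Epi ε := (ShortComplex.exact_iff_epi _ h1).1 hεex
      exact epi_comp S.g ε
    | succ k =>
      change Epi ((CochainComplex.augment L (S.g ≫ ε) w').d (k + 1) (k + 2))
      rw [hdss k (k + 1)]
      exact hepi (by omega)
  · intro i hi
    cases i with
    | zero => exact hP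
    | succ j => exact hPL j (by omega)
  · let φ : S ⟶ ShortComplex.mk S.f (S.g ≫ ε) ((S.zero_assoc ε).trans zero_comp) :=
      { τ₁ := 𝟙 _
        τ₂ := 𝟙 _
        τ₃ := ε }
    have : Epi φ.τ₁ := by dsimp [φ]; infer_instance
    have : IsIso φ.τ₂ := by dsimp [φ]; infer_instance
    have : Mono φ.τ₃ := by dsimp [φ]; infer_instance
    have hex2 := (ShortComplex.exact_iff_of_epi_of_isIso_of_mono φ).1 hS.exact
    refine ShortComplex.exact_of_iso ?_ hex2
    exact ShortComplex.isoMk (Iso.refl _) (Iso.refl _) (Iso.refl _) (by simp) (by simp [hd01])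

lemma inv_of_cores {k : ℕ} {C Z : A} (h : Cores P k C Z) : Inv P k C Z := by
  induction h with
  | zero C => exact inv_zero C
  | succ S hS hP _ ih => exact inv_succ S hS hP ih

/-- the consequence of hypothesis (iii) -/
theorem P_of_cores (h : Hyp P) (n : ℕ) (hn : 1 ≤ n)
    (h3 : ∀ K : CochainComplex A ℕ, (∀ i : ℕ, 1 ≤ i → i ≤ n → K.ExactAt i) →
      (∀ i : ℕ, n < i → IsZero (K.X i)) →
      Epi (K.d (n - 1) n) → (∀ i : ℕ, i < n → P (K.X i)) → P (K.X n))
    {C Z : A} (hc : Cores P n C Z) : P Z := by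
  obtain ⟨L, hzero, hex, hepi, hPL, ⟨e⟩, -⟩ := inv_of_cores hc
  exact P_of_iso h e (h3 L hex hzero (hepi hn) hPL)

end Groth.Agent.Lib.Helper8.PRes1
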