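import Groth.Agent.Lib.Helper8.PRes1

/-!
# Helper8: embedding complexes into complexes with terms in `P`, and iterated cokernels
-/

universe v u

open CategoryTheory CategoryTheory.Limits ZeroObject

namespace Groth.Agent.Lib.Helper8.PRes2

open Groth.Agent.Lib.Helper8.PRes1

variable {A : Type u} [Category.{v} A] [Abelian A] {P : ObjectProperty A} (h : Hyp P)

/-- chosen object of `P` containing `X` -/
noncomputable def Y (X : A) : A := (h.h1 X).choose

/-- chosen embedding -/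
noncomputable def j (X : A) : X ⟶ Y h X := (h.h1 X).choose_spec.choose

lemma P_Y (X : A) : P (Y h X) := (h.h1 X).choose_spec.choose_spec.1

instance mono_j (X : A) : Mono (j h X) := (h.h1 X).choose_spec.choose_spec.2

variable (K : CochainComplex A ℤ)

/-- the complex `J(K)` with `J(K)ᵖ = Y(Kᵖ) ⊞ Y(Kᵖ⁺¹)` -/
noncomputable def J : CochainComplex A ℤ :=
  CochainComplex.of (fun p => Y h (K.X p) ⊞ Y h (K.X (p + 1)))
    (fun p => biprod.snd ≫ biprod.inl) (fun _ => by simp)

lemma J_d (p : ℤ) : (J h K).d p (p + 1) = biprod.snd ≫ biprod.inl :=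
  CochainComplex.of_d (fun p => Y h (K.X p) ⊞ Y h (K.X (p + 1)))
    (fun _ => biprod.snd ≫ biprod.inl) p

lemma P_J (p : ℤ) : P ((J h K).X p) := P_biprod h (P_Y h _) (P_Y h _)

omit [Abelian A] in
lemma ι_aux [Preadditive A] [HasBinaryBiproducts A] {X₀ X₁ X₂ Y₀ Y₁ Y₂ : A} (a₀ : X₀ ⟶ Y₀) (a₁ : X₁ ⟶ Y₁) (a₂ : X₂ ⟶ Y₂)
    (d₀ : X₀ ⟶ X₁) (d₁ : X₁ ⟶ X₂) (hd : d₀ ≫ d₁ = 0) :
    biprod.lift a₀ (d₀ ≫ a₁) ≫ (biprod.snd ≫ biprod.inl : Y₀ ⊞ Y₁ ⟶ Y₁ ⊞ Y₂) =
      d₀ ≫ biprod.lift a₁ (d₁ ≫ a₂) := by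
  apply biprod.hom_ext
  · simp
  · simp [reassoc_of% hd]

/-- the embedding `K ⟶ J(K)` -/
noncomputable def ι : K ⟶ J h K where
  f p := biprod.lift (j h (K.X p)) (K.d p (p + 1) ≫ j h (K.X (p + 1)))
  comm' p q hpq := by
    obtain rfl : p + 1 = q := hpq
    rw [J_d]
    exact ι_aux _ _ _ _ _ (K.d_comp_d _ _ _)

instance mono_ι_f (p : ℤ) : Mono ((ι h K).f p) := by
  have : (ι h K).f p ≫ biprod.fst = j h (K.X p) := biprod.lift_fst _ _
  exact mono_of_mono_fac this

instance mono_ι : Mono (ι h K) := HomologicalComplex.mono_of_mono_f _ (fun _ => inferInstance)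

/-- the cokernel of the embedding -/
noncomputable def next : CochainComplex A ℤ := cokernel (ι h K)

/-- the short exact sequence `0 ⟶ K ⟶ J(K) ⟶ next K ⟶ 0` -/
noncomputable def ses : ShortComplex (CochainComplex A ℤ) :=
  ShortComplex.mk (ι h K) (cokernel.π (ι h K)) (cokernel.condition _)

lemma ses_shortExact : (ses h K).ShortExact :=
  { exact := ShortComplex.exact_cokernel (ι h K)
    mono_f := mono_ι h K
    epi_g := inferInstanceAs (Epi (cokernel.π (ι h K))) }

lemma ses_shortExact_eval (p : ℤ) :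
    ((ses h K).map (HomologicalComplex.eval A (ComplexShape.up ℤ) p)).ShortExact :=
  (HomologicalComplex.shortExact_iff_degreewise_shortExact (ses h K)).1 (ses_shortExact h K) p

/-- iterated cokernels -/
noncomputable def Cx : ℕ → CochainComplex A ℤ → CochainComplex A ℤ
  | 0, K => K
  | m + 1, K => Cx m (next h K)

lemma cores (m : ℕ) (K : CochainComplex A ℤ) (p : ℤ) :
    Cores P m (K.X p) ((Cx h m K).X p) := by
  induction m generalizing K with
  | zero => exact Cores.zero _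
  | succ m ih =>
    exact Cores.succ ((ses h K).map (HomologicalComplex.eval A (ComplexShape.up ℤ) p))
      (ses_shortExact_eval h K p) (P_J h K p) (ih (next h K))

end Groth.Agent.Lib.Helper8.PRes2
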