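import Groth.Agent.Lib.Helper8.PRes2
import Groth.Agent.Lib.Helper8.DRing2

/-!
# Helper8: the cocone lemma and the final induction
-/

universe v u

open CategoryTheory CategoryTheory.Limits ZeroObject HomologicalComplex

namespace Groth.Agent.Lib.Helper8.PRes3

open CochainComplex CochainComplex.HomComplex CochainComplex.mappingCone

variable {A : Type u} [Category.{v} A] [Abelian A]

/-- In a short exact sequence of cochain complexes with acyclic cokernel, the first map is a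
quasi-isomorphism. -/
lemma quasiIso_f_of_acyclic_X₃ {S : ShortComplex (CochainComplex A ℤ)} (hS : S.ShortExact)
    (h₃ : S.X₃.Acyclic) : QuasiIso S.f := by
  rw [quasiIso_iff]
  intro i
  rw [quasiIsoAt_iff_isIso_homologyMap]
  have hmono : Mono (HomologicalComplex.homologyMap S.f i) := by
    have hij : (ComplexShape.up ℤ).Rel (i - 1) i := by simp
    have e := hS.homology_exact₁ (i - 1) i hij
    exact e.mono_g (((h₃ (i - 1)).isZero_homology).eq_of_src _ _)
  have hepi : Epi (HomologicalComplex.homologyMap S.f i) := by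
    have e := hS.homology_exact₂ i
    exact e.epi_f (((h₃ i).isZero_homology).eq_of_tgt _ _)
  exact isIso_of_mono_of_epi _

variable (S : ShortComplex (CochainComplex A ℤ)) {T : CochainComplex A ℤ} (ψ : S.X₃ ⟶ T)

/-- the composite `S.X₂ ⟶ S.X₃ ⟶ T` -/
abbrev g : S.X₂ ⟶ T := S.g ≫ ψ

lemma f_g_f (p : ℤ) : S.f.f p ≫ S.g.f p = 0 := by
  have := congr_arg (fun φ => φ.f p) S.zero
  exact this

/-- the components of the map `S.X₁⟦1⟧ ⟶ cone(g)` -/
noncomputable def uf (p : ℤ) : S.X₁.X (p + 1) ⟶ (mappingCone (g S ψ)).X p :=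
  S.f.f (p + 1) ≫ (inl (g S ψ)).v (p + 1) p (by omega)

lemma uf_fst (p : ℤ) :
    uf S ψ p ≫ (fst (g S ψ)).1.v p (p + 1) rfl = S.f.f (p + 1) := by
  dsimp [uf]
  rw [Category.assoc, inl_v_fst_v, Category.comp_id]

lemma uf_snd (p : ℤ) :
    uf S ψ p ≫ (snd (g S ψ)).v p p (add_zero p) = 0 := by
  dsimp [uf]
  rw [Category.assoc, inl_v_snd_v, comp_zero]

lemma uf_d (p : ℤ) :
    uf S ψ p ≫ (mappingCone (g S ψ)).d p (p + 1) =
      ((1 : ℤ).negOnePow • S.X₁.d (p + 1) (p + 1 + 1)) ≫ uf S ψ (p + 1) := by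
  dsimp [uf]
  rw [Category.assoc, inl_v_d (g S ψ) (p + 1) p (p + 1 + 1) (by omega) (by omega)]
  simp only [Preadditive.comp_sub, Units.neg_smul, one_smul, Preadditive.neg_comp]
  have h1 : S.f.f (p + 1) ≫ (g S ψ).f (p + 1) = 0 := by
    dsimp [g]
    rw [reassoc_of% (f_g_f S (p + 1)), zero_comp]
  rw [reassoc_of% h1, zero_comp, zero_sub, ← Category.assoc, ← Category.assoc, S.f.comm]

/-- the map `S.X₁⟦1⟧ ⟶ cone(g)` -/
noncomputable def u : S.X₁⟦(1 : ℤ)⟧ ⟶ mappingCone (g S ψ) where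
  f p := uf S ψ p
  comm' p q hpq := by
    obtain rfl : p + 1 = q := hpq
    exact uf_d S ψ p

lemma u_f (p : ℤ) : (u S ψ).f p = uf S ψ p := rfl

/-- the map `cone(g) ⟶ cone(ψ)` -/
noncomputable def vv : mappingCone (g S ψ) ⟶ mappingCone ψ :=
  mappingCone.map (g S ψ) ψ S.g (𝟙 T) (by simp [g])

lemma inl_vv (p q : ℤ) (hpq : p + (-1) = q) :
    (inl (g S ψ)).v p q hpq ≫ (vv S ψ).f q = S.g.f p ≫ (inl ψ).v p q hpq := by
  simp [vv, mappingCone.map]

lemma inr_vv (p : ℤ) :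
    (inr (g S ψ)).f p ≫ (vv S ψ).f p = (inr ψ).f p := by
  simp [vv, mappingCone.map]

lemma vv_fst (p q : ℤ) (hpq : p + 1 = q) :
    (vv S ψ).f p ≫ (fst ψ).1.v p q hpq = (fst (g S ψ)).1.v p q hpq ≫ S.g.f q := by
  rw [ext_from_iff (g S ψ) q p hpq]
  constructor
  · rw [← Category.assoc, inl_vv, Category.assoc, inl_v_fst_v, Category.comp_id,
      ← Category.assoc, inl_v_fst_v, Category.id_comp]
  · rw [← Category.assoc, inr_vv, inr_f_fst_v, ← Category.assoc, inr_f_fst_v, zero_comp]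

lemma vv_snd (p : ℤ) :
    (vv S ψ).f p ≫ (snd ψ).v p p (add_zero p) = (snd (g S ψ)).v p p (add_zero p) := by
  rw [ext_from_iff (g S ψ) (p + 1) p rfl]
  constructor
  · rw [← Category.assoc, inl_vv, Category.assoc, inl_v_snd_v, comp_zero, inl_v_snd_v]
  · rw [← Category.assoc, inr_vv, inr_f_snd_v, inr_f_snd_v]

lemma uf_vv (p : ℤ) : uf S ψ p ≫ (vv S ψ).f p = 0 := by
  dsimp [uf]
  rw [Category.assoc, inl_vv, ← Category.assoc, f_g_f, zero_comp]

lemma u_vv : u S ψ ≫ vv S ψ = 0 := by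
  ext p
  exact uf_vv S ψ p

/-- the short complex `S.X₁⟦1⟧ ⟶ cone(g) ⟶ cone(ψ)` -/
noncomputable def coneSC : ShortComplex (CochainComplex A ℤ) :=
  ShortComplex.mk (u S ψ) (vv S ψ) (u_vv S ψ)

variable {S} (hS : S.ShortExact)

include hS in
lemma mono_f_f (p : ℤ) : Mono (S.f.f p) :=
  ((HomologicalComplex.shortExact_iff_degreewise_shortExact S).1 hS p).mono_f

include hS in
lemma epi_g_f (p : ℤ) : Epi (S.g.f p) :=
  ((HomologicalComplex.shortExact_iff_degreewise_shortExact S).1 hS p).epi_g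

include hS in
lemma exact_f (p : ℤ) : (ShortComplex.mk (S.f.f p) (S.g.f p) (f_g_f S p)).Exact :=
  ((HomologicalComplex.shortExact_iff_degreewise_shortExact S).1 hS p).exact

include hS in
lemma mono_uf (p : ℤ) : Mono (uf S ψ p) := by
  have := mono_f_f hS (p + 1)
  exact mono_of_mono_fac (uf_fst S ψ p)

include hS in
lemma epi_vv_f (p : ℤ) : Epi ((vv S ψ).f p) := by
  have := epi_g_f hS (p + 1)
  rw [Preadditive.epi_iff_cancel_zero]
  intro R z hz
  rw [ext_from_iff ψ (p + 1) p rfl]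
  constructor
  · rw [← cancel_epi (S.g.f (p + 1)), ← Category.assoc, ← inl_vv S ψ (p + 1) p (by omega),
      Category.assoc, hz, comp_zero, comp_zero, comp_zero]
  · rw [← inr_vv S ψ p, Category.assoc, hz, comp_zero, comp_zero]

include hS in
lemma exact_uf_vv (p : ℤ) :
    (ShortComplex.mk (uf S ψ p) ((vv S ψ).f p) (uf_vv S ψ p)).Exact := by
  rw [ShortComplex.exact_iff_exact_up_to_refinements]
  intro W x hx
  dsimp at x hx
  have ha : (x ≫ (fst (g S ψ)).1.v p (p + 1) rfl) ≫ S.g.f (p + 1) = 0 := by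
    rw [Category.assoc, ← vv_fst, ← Category.assoc, hx, zero_comp]
  have hb : x ≫ (snd (g S ψ)).v p p (add_zero p) = 0 := by
    rw [← vv_snd, ← Category.assoc, hx, zero_comp]
  obtain ⟨W', π, hπ, k, hk⟩ := (exact_f hS (p + 1)).exact_up_to_refinements _ ha
  dsimp at k hk
  refine ⟨W', π, hπ, k, ?_⟩
  dsimp
  rw [ext_to_iff (g S ψ) p (p + 1) rfl]
  constructor
  · rw [Category.assoc, hk, Category.assoc, uf_fst]
  · rw [Category.assoc, hb, comp_zero, Category.assoc, uf_snd, comp_zero]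

include hS in
lemma coneSC_shortExact : (coneSC S ψ).ShortExact := by
  rw [HomologicalComplex.shortExact_iff_degreewise_shortExact]
  intro p
  exact
    { exact := exact_uf_vv ψ hS p
      mono_f := mono_uf ψ hS p
      epi_g := epi_vv_f ψ hS p }

include hS in
/-- the cocone lemma: `S.X₁⟦1⟧ ⟶ cone(S.X₂ ⟶ S.X₃ ⟶ T)` is a quasi-isomorphism when `ψ` is -/
theorem quasiIso_u [QuasiIso ψ] : QuasiIso (u S ψ) := by
  have hac : (mappingCone ψ).Acyclic := fun n =>
    Groth.Agent.Lib.Helper8.DRing2.exactAt_mappingCone_of_quasiIso ψ n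
  exact quasiIso_f_of_acyclic_X₃ (coneSC_shortExact ψ hS) hac

section Final

open Groth.Agent.Lib.Helper8.PRes1 Groth.Agent.Lib.Helper8.PRes2

variable {P : ObjectProperty A} (h : Hyp P)

include h in
lemma P_mappingCone {F G : CochainComplex A ℤ} (φ : F ⟶ G) (hF : ∀ p, P (F.X p))
    (hG : ∀ p, P (G.X p)) (p : ℤ) : P ((mappingCone φ).X p) := by
  have e : (mappingCone φ).X p ≅ F.X (p + 1) ⊞ G.X p :=
    HomologicalComplex.homotopyCofiber.XIsoBiprod φ p (p + 1) rfl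
  exact P_of_iso h e.symm (P_biprod h (hF _) (hG _))

include h in
/-- the inductive step -/
lemma step (S : ShortComplex (CochainComplex A ℤ)) (hS : S.ShortExact)
    (hS₂ : ∀ p, P (S.X₂.X p)) {T : CochainComplex A ℤ} (ψ : S.X₃ ⟶ T) (hψ : QuasiIso ψ)
    (hT : ∀ p, P (T.X p)) :
    ∃ (E : CochainComplex A ℤ) (f : S.X₁ ⟶ E), QuasiIso f ∧ ∀ p, P (E.X p) := by
  let S' : ShortComplex (CochainComplex A ℤ) :=
    S.map (shiftFunctor (CochainComplex A ℤ) (-1 : ℤ))
  have hS' : S'.ShortExact := hS.map_of_exact _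
  let ψ' : S'.X₃ ⟶ T⟦(-1 : ℤ)⟧ := ψ⟦(-1 : ℤ)⟧'
  have : QuasiIso ψ' := inferInstanceAs (QuasiIso (ψ⟦(-1 : ℤ)⟧'))
  have hq : QuasiIso (u S' ψ') := quasiIso_u ψ' hS'
  let e : S.X₁ ≅ S'.X₁⟦(1 : ℤ)⟧ :=
    ((shiftFunctorCompIsoId (CochainComplex A ℤ) (-1 : ℤ) 1 (by simp)).app S.X₁).symm
  refine ⟨mappingCone (g S' ψ'), e.hom ≫ u S' ψ', ?_, ?_⟩
  · have : QuasiIso e.hom := inferInstance
    exact quasiIso_comp e.hom (u S' ψ')
  · intro p
    apply P_mappingCone h
    · intro q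
      exact hS₂ _
    · intro q
      exact hT _

include h in
lemma claim (m : ℕ) : ∀ (K : CochainComplex A ℤ), (∀ p, P ((Cx h m K).X p)) →
    ∃ (E : CochainComplex A ℤ) (f : K ⟶ E), QuasiIso f ∧ ∀ p, P (E.X p) := by
  induction m with
  | zero =>
    intro K hK
    exact ⟨K, 𝟙 K, inferInstance, hK⟩
  | succ m ih =>
    intro K hK
    obtain ⟨T, ψ, hψ, hT⟩ := ih (next h K) hK
    exact step h (ses h K) (ses_shortExact h K) (P_J h K) ψ hψ hT

include h in
/-- the main theorem -/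
theorem main (n : ℕ) (hn : 1 ≤ n)
    (h3 : ∀ K : CochainComplex A ℕ, (∀ i : ℕ, 1 ≤ i → i ≤ n → K.ExactAt i) →
      (∀ i : ℕ, n < i → IsZero (K.X i)) →
      Epi (K.d (n - 1) n) → (∀ i : ℕ, i < n → P (K.X i)) → P (K.X n))
    (X : CochainComplex A ℤ) :
    ∃ (I : CochainComplex A ℤ) (f : X ⟶ I), QuasiIso f ∧ ∀ k : ℤ, P (I.X k) :=
  claim h n X (fun p => P_of_cores h n hn h3 (cores h n X p))

end Final

end Groth.Agent.Lib.Helper8.PRes3
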