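import Groth.Agent.Lib.Helper7.PullbackFaithful
import Groth.Agent.Lib.Helper6.K0Tensor
import Groth.Agent.Lib.Helper6.K0Op
import Groth.Agent.Lib.Helper28.AmpleUnit

/-! # Helper8 — the rank-one symmetry behind the base-point-free pencil trick: for sections
`s₁ s₂ : O → D` of an invertible module and any `ε : J ⊗ D → O`, the two maps
`(J ◁ s₂) ≫ ε ≫ s₁` and `(J ◁ s₁) ≫ ε ≫ s₂` agree -/
set_option autoImplicit false
universe u
open CategoryTheory CategoryTheory.Limits AlgebraicGeometry Opposite TopologicalSpace MonoidalCategory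
open scoped TensorProduct
noncomputable section

namespace Groth.Agent.Lib.Helper8.PencilA

open Groth.Agent.Lib.Helper16.Stk

/-- the rank-one symmetry, on elements -/
theorem swap_aux {R : Type u} [CommRing R] {A B U : Type u} [AddCommGroup A] [Module R A]
    [AddCommGroup B] [Module R B] [AddCommGroup U] [Module R U]
    (e : A ⊗[R] B →ₗ[R] U) (a₁ a₂ : U →ₗ[R] B) (u₀ : U) (hU : ∀ u : U, ∃ t : R, u = t • u₀)
    (b₀ : B) (hB : ∀ b : B, ∃ r : R, b = r • b₀) (α : A) (u : U) :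
    a₁ (e (α ⊗ₜ a₂ u)) = a₂ (e (α ⊗ₜ a₁ u)) := by
  obtain ⟨t, rfl⟩ := hU u
  obtain ⟨r₁, h₁⟩ := hB (a₁ u₀)
  obtain ⟨r₂, h₂⟩ := hB (a₂ u₀)
  obtain ⟨c, hc⟩ := hU (e (α ⊗ₜ b₀))
  simp only [map_smul, h₁, h₂, TensorProduct.tmul_smul, hc]
  simp only [smul_smul]
  congr 1
  ring

/-- the rank-one symmetry in `ModuleCat` -/
theorem swap_modCat {R : Type u} [CommRing R] (A B U : ModuleCat.{u} R)
    (e : A ⊗ B ⟶ U) (a₁ a₂ : U ⟶ B) (u₀ : U) (hU : ∀ u : U, ∃ t : R, u = t • u₀)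
    (b₀ : B) (hB : ∀ b : B, ∃ r : R, b = r • b₀) :
    (A ◁ a₂) ≫ e ≫ a₁ = (A ◁ a₁) ≫ e ≫ a₂ := by
  apply ModuleCat.MonoidalCategory.tensor_ext
  intro α u
  exact swap_aux e.hom a₁.hom a₂.hom u₀ hU b₀ hB α u

/-- stalks of an invertible module are cyclic -/
theorem exists_stalk_gen {X : Scheme.{u}} (D : X.Modules) (hD : PicF.IsInvertible D) (x : X) :
    ∃ b₀ : ((stk x).obj D : Type u), ∀ b : ((stk x).obj D : Type u),
      ∃ r : X.presheaf.stalk x, b = r • b₀ := by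
  obtain ⟨b⟩ := Groth.Agent.Lib.Helper6.K0Tensor.exists_stalkBasis D
    (Groth.Agent.Lib.Helper6.K0Op.isFinLocFreeOfRank_one_of_isInvertible D hD) x
  refine ⟨b 0, fun m => ⟨b.repr m 0, ?_⟩⟩
  have h := b.sum_repr m
  rw [Fin.sum_univ_one] at h
  exact h.symm

/-- **the rank-one symmetry for modules**: for sections `s₁ s₂ : O → D` of an invertible module and any
`ε : J ⊗ D → O`, `(J ◁ s₂) ≫ ε ≫ s₁ = (J ◁ s₁) ≫ ε ≫ s₂` -/
theorem swap {X : Scheme.{u}} (J D : X.Modules) (hD : PicF.IsInvertible D)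
    (ε : (DCoh.tensorBi.obj J).obj D ⟶ Coh.structureModule X)
    (s₁ s₂ : Coh.structureModule X ⟶ D) :
    (DCoh.tensorBi.obj J).map s₂ ≫ ε ≫ s₁ = (DCoh.tensorBi.obj J).map s₁ ≫ ε ≫ s₂ := by
  apply Groth.Agent.Lib.Helper7.PullbackFaithful.hom_ext_of_stalk
  intro x
  have key : ∀ s : Coh.structureModule X ⟶ D, (stk x).map ((DCoh.tensorBi.obj J).map s) =
      (stalkTensorIso x J (Coh.structureModule X)).inv ≫ ((stk x).obj J ◁ (stk x).map s) ≫
        (stalkTensorIso x J D).hom := by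
    intro s
    rw [stalkTensorIso_natR, Iso.inv_hom_id_assoc]
  obtain ⟨u₀, hU⟩ := exists_stalk_gen (Coh.structureModule X)
    (Groth.Agent.Lib.Helper28.AmpleUnit.isInvertible_structureModule X) x
  obtain ⟨b₀, hB⟩ := exists_stalk_gen D hD x
  have h := swap_modCat ((stk x).obj J) ((stk x).obj D) ((stk x).obj (Coh.structureModule X))
    ((stalkTensorIso x J D).hom ≫ (stk x).map ε) ((stk x).map s₁) ((stk x).map s₂) u₀ hU b₀ hB
  rw [Functor.map_comp, Functor.map_comp, Functor.map_comp, Functor.map_comp, key, key]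
  simp only [Category.assoc] at h ⊢
  rw [h]

end Groth.Agent.Lib.Helper8.PencilA
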