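import Groth.Agent.Lib.Helper8.PencilB
import Groth.Agent.Lib.Helper16.Stk7

/-! # Helper8 — PencilC: the base-point-free pencil trick on an integral proper curve:
`2 h⁰(F) ≤ h⁰(F ⊗ D⁻¹) + h⁰(F ⊗ D)` for `D` generated by two sections -/
set_option autoImplicit false
universe u
open CategoryTheory CategoryTheory.Limits AlgebraicGeometry Opposite TopologicalSpace MonoidalCategory
noncomputable section

namespace Groth.Agent.Lib.Helper8.PencilC

open Groth.Agent.Lib.Helper8.EulerK Groth.Agent.Lib.Helper8.ClifD Groth.Agent.Lib.Helper28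
  Groth.Agent.Lib.Helper8.CurveTensor Groth.Agent.Lib.Helper8.CurveDeg Groth.Agent.Lib.Helper8.PencilB
  Groth.Agent.Lib.Helper8.KillA

variable (k : Type u) [Field k] {X : Scheme.{u}} [X.Over (Spec (CommRingCat.of k))]
  [IsProper (X ↘ Spec (CommRingCat.of k))]

/-- cohomology of an object with two orthogonal retracts -/
theorem hh_ge_of_retracts {A B C : X.Modules} (hcA : Coh.IsCoh A) (hcB : Coh.IsCoh B)
    (hcC : Coh.IsCoh C) (iA : A ⟶ C) (iB : B ⟶ C)
    (pA : C ⟶ A) (pB : C ⟶ B) (h1 : iA ≫ pA = 𝟙 A) (h2 : iB ≫ pB = 𝟙 B) (h3 : iA ≫ pB = 0)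
    (h4 : iB ≫ pA = 0) (i : ℕ) : hh k A i + hh k B i ≤ hh k C i := by
  haveI := finite_HH k X _ hcA i
  haveI := finite_HH k X _ hcB i
  haveI := finite_HH k X _ hcC i
  let f : (Coh.HH X A i × Coh.HH X B i) →ₗ[k] Coh.HH X C i :=
    (Canon.HHlin k iA i).coprod (Canon.HHlin k iB i)
  have hf : Function.Injective f := by
    rw [← LinearMap.ker_eq_bot, LinearMap.ker_eq_bot']
    rintro ⟨a, b⟩ hab
    have hab' : HHmap iA i a + HHmap iB i b = 0 := hab
    have ha := congrArg (HHmap pA i) hab'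
    have hb := congrArg (HHmap pB i) hab'
    rw [map_add, ← HHmap_comp, ← HHmap_comp, h1, h4, HHmap_id,
      Groth.Agent.Lib.Helper8.BiratIso.HHmap_zero, map_zero, add_zero] at ha
    rw [map_add, ← HHmap_comp, ← HHmap_comp, h2, h3, HHmap_id,
      Groth.Agent.Lib.Helper8.BiratIso.HHmap_zero, map_zero, zero_add] at hb
    rw [ha, hb]
    rfl
  have h := LinearMap.finrank_le_finrank_of_injective hf
  rw [Module.finrank_prod] at h
  exact h

variable [IsIntegral X]

include k in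
/-- **the base-point-free pencil trick**: if the invertible module `D` (with inverse `J`) is generated
by two sections `s₁ s₂`, then `2 h⁰(F) ≤ h⁰(F ⊗ J) + h⁰(F ⊗ D)` for every coherent `F` -/
theorem pencil_ineq (hdim : topologicalKrullDim X ≤ 1) {D J : X.Modules} (hD : PicF.IsInvertible D)
    (hJ : PicF.IsInvertible J) (ε : (DCoh.tensorBi.obj J).obj D ≅ Coh.structureModule X)
    (s₁ s₂ : Coh.structureModule X ⟶ D) (hs₂ : s₂ ≠ 0) [Epi (biprod.desc s₁ s₂)]
    (F : X.Modules) (hcF : Coh.IsCoh F) :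
    2 * hh k F 0 ≤ hh k (CohB1.tensorMod F J) 0 + hh k (CohB1.tensorMod F D) 0 := by
  haveI : IsLocallyNoetherian X := isLocallyNoetherian k X
  haveI : CompactSpace X := QuasiCompact.compactSpace_of_compactSpace (X ↘ Spec (CommRingCat.of k))
  haveI : IsNoetherian X := { }
  have hO := AmpleUnit.isInvertible_structureModule X
  have hcO := Groth.Agent.Lib.Helper6.K0Op.isCoh_of_isInvertible _ hO
  have hcD := Groth.Agent.Lib.Helper6.K0Op.isCoh_of_isInvertible _ hD
  have hcJ := Groth.Agent.Lib.Helper6.K0Op.isCoh_of_isInvertible _ hJ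
  have hcOO : Coh.IsCoh (Coh.structureModule X ⊞ Coh.structureModule X) :=
    Groth.Agent.Lib.Helper6.CohLoc.isCoh_biprod hcO hcO
  have hcK : Coh.IsCoh (kernel (biprod.desc s₁ s₂)) :=
    Groth.Agent.Lib.Helper6.DevCore.isCoh_kernel _ hcOO hcD
  let T : ShortComplex X.Modules :=
    ShortComplex.mk (kernel.ι (biprod.desc s₁ s₂)) (biprod.desc s₁ s₂) (kernel.condition _)
  have hT : T.ShortExact :=
    { exact := ShortComplex.exact_kernel _
      mono_f := inferInstanceAs (Mono (kernel.ι _))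
      epi_g := inferInstanceAs (Epi (biprod.desc s₁ s₂)) }
  have hFT := Groth.Agent.Lib.Helper16.Stk.shortExact_tensorBi_obj_of_flat₃ T hT
    (Groth.Agent.Lib.Helper6.K0Op.isFlat_of_isInvertible D hD) F
  have c1 : Coh.IsCoh ((DCoh.tensorBi.obj F).obj (kernel (biprod.desc s₁ s₂))) :=
    Groth.Agent.Lib.Helper6.K0Op.isCoh_tensorMod F _ hcF hcK
  have c2 : Coh.IsCoh ((DCoh.tensorBi.obj F).obj
      (Coh.structureModule X ⊞ Coh.structureModule X)) :=
    Groth.Agent.Lib.Helper6.K0Op.isCoh_tensorMod F _ hcF hcOO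
  have c3 : Coh.IsCoh ((DCoh.tensorBi.obj F).obj D) :=
    Groth.Agent.Lib.Helper6.K0Op.isCoh_tensorMod F _ hcF hcD
  have hle := hh₂_le k _ hFT c1 c2 c3 0
  -- the kernel
  haveI := isIso_kosK k hdim hD hJ ε s₁ s₂ hs₂
  obtain ⟨u⟩ := AmpleUnit.nonempty_tensor_unit_iso J
  have u' : (DCoh.tensorBi.obj J).obj (Coh.structureModule X) ≅ J := u
  have eK : (DCoh.tensorBi.obj F).obj (kernel (biprod.desc s₁ s₂)) ≅ (DCoh.tensorBi.obj F).obj J :=
    (DCoh.tensorBi.obj F).mapIso ((asIso (kosK ε s₁ s₂ hD)).symm ≪≫ u')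
  have hK := hh_congr k eK 0
  -- the middle term
  obtain ⟨v⟩ := AmpleUnit.nonempty_tensor_unit_iso F
  have v' : (DCoh.tensorBi.obj F).obj (Coh.structureModule X) ≅ F := v
  have hv := hh_congr k v' 0
  have cFO : Coh.IsCoh ((DCoh.tensorBi.obj F).obj (Coh.structureModule X)) :=
    Groth.Agent.Lib.Helper6.K0Op.isCoh_tensorMod F _ hcF hcO
  have hge := hh_ge_of_retracts k cFO cFO c2
    ((DCoh.tensorBi.obj F).map biprod.inl) ((DCoh.tensorBi.obj F).map biprod.inr)
    ((DCoh.tensorBi.obj F).map biprod.fst) ((DCoh.tensorBi.obj F).map biprod.snd)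
    (by rw [← Functor.map_comp, biprod.inl_fst, CategoryTheory.Functor.map_id])
    (by rw [← Functor.map_comp, biprod.inr_snd, CategoryTheory.Functor.map_id])
    (by rw [← Functor.map_comp, biprod.inl_snd, Functor.map_zero])
    (by rw [← Functor.map_comp, biprod.inr_fst, Functor.map_zero]) 0
  change hh k ((DCoh.tensorBi.obj F).obj (Coh.structureModule X ⊞ Coh.structureModule X)) 0 ≤
    hh k ((DCoh.tensorBi.obj F).obj (kernel (biprod.desc s₁ s₂))) 0 +
      hh k ((DCoh.tensorBi.obj F).obj D) 0 at hle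
  change hh k ((DCoh.tensorBi.obj F).obj J) 0 + hh k ((DCoh.tensorBi.obj F).obj D) 0 ≥ _
  omega

end Groth.Agent.Lib.Helper8.PencilC
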