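import Groth.Agent.Lib.Helper8.PencilC
import Groth.Agent.Lib.Helper8.ClifG
import Groth.Agent.Lib.Helper8.SpecialA
import Groth.Agent.Lib.Helper8.GGPoint

/-! # Helper8 — PencilD: complete base-point-free pencils: a globally generated invertible module with
`h⁰ = 2` is generated by two sections; non-base points give generating sections; a degree-zero
twist with a section is trivial -/
set_option autoImplicit false
universe u
open CategoryTheory CategoryTheory.Limits AlgebraicGeometry Opposite TopologicalSpace MonoidalCategory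
noncomputable section

namespace Groth.Agent.Lib.Helper8.PencilD

open Groth.Agent.Lib.Helper8.EulerK Groth.Agent.Lib.Helper8.KillA
  Groth.Agent.Lib.Helper8.PointDeg Groth.Agent.Lib.Helper8.ClifA Groth.Agent.Lib.Helper8.ClifB
  Groth.Agent.Lib.Helper8.ClifC Groth.Agent.Lib.Helper8.ClifD
  Groth.Agent.Lib.Helper8.PicCl Groth.Agent.Lib.Helper28 Groth.Agent.Lib.Helper8.MinPtsA
  Groth.Agent.Lib.Helper8.MinPtsB Groth.Agent.Lib.Helper2.SerreFin1 Groth.Agent.Lib.Helper8.GGKill
  Groth.Agent.Lib.Helper8.SpecialA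

attribute [local instance] Groth.Agent.Lib.Helper8.PicCl.commMonoid

variable (k : Type u) [Field k] (X : Scheme.{u}) [X.Over (Spec (CommRingCat.of k))]
  [IsIntegral X] [IsProper (X ↘ Spec (CommRingCat.of k))]

/-- at a point which is not a base point some section generates -/
theorem exists_mem_genLocus_of_not_BP (L : X.Modules) (hL : PicF.IsInvertible L)
    (p : X) (hp : IsClosed ({p} : Set X)) (h : ¬ BP k X L p hp) :
    ∃ s : Coh.structureModule X ⟶ L, p ∈ CohB1.genLocus L s := by
  have hne : rmap k X L p hp ≠ 0 := h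
  obtain ⟨t, ht⟩ : ∃ t, rmap k X L p hp t ≠ 0 := by
    by_contra hcon
    simp only [not_exists, not_not] at hcon
    exact hne (LinearMap.ext hcon)
  let u := Classical.choice (AmpleUnit.nonempty_tensor_unit_iso L)
  obtain ⟨s, hs⟩ := exists_hom_of_H0 L (Canon.HHlin k u.hom 0 t)
  refine ⟨s, ?_⟩
  by_contra hmem
  have hV := (mem_V_iff k X L hL p hp s).2 hmem
  rw [hs] at hV
  unfold V at hV
  rw [LinearMap.mem_ker] at hV
  apply ht
  have hid : Canon.HHlin k u.inv 0 (Canon.HHlin k u.hom 0 t) = t := by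
    rw [HHlin_comp_apply, u.hom_inv_id]
    exact HHlin_id_apply k 0 t
  have h2 := HHlin_comp_apply k u.inv ((DCoh.tensorBi.obj L).map (ClSub.toSubscheme (ptI p hp))) 0
    (Canon.HHlin k u.hom 0 t)
  rw [hid] at h2
  exact h2.trans hV

/-- an invertible module without base points on a curve is globally generated -/
theorem gg_of_forall_not_BP (hdim : topologicalKrullDim X = 1) (L : X.Modules)
    (hL : PicF.IsInvertible L) (h : ∀ (p : X) (hp : IsClosed ({p} : Set X)), ¬ BP k X L p hp) :
    Curv2.IsGloballyGenerated L := by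
  apply Groth.Agent.Lib.Helper8.GGPoint.isGloballyGenerated_of_forall_mem_genLocus
  intro x
  by_cases hx : IsClosed ({x} : Set X)
  · exact exists_mem_genLocus_of_not_BP k X L hL x hx (h x hx)
  · have hxg : x = genericPoint X := by
      by_contra hne
      exact hx (Groth.Agent.Lib.Helper8.CurveDeg.isClosed_singleton_of_ne_genericPoint hdim.le x hne)
    haveI : LocallyOfFiniteType (X ↘ Spec (CommRingCat.of k)) := inferInstance
    haveI : QuasiSeparatedSpace X :=
      quasiSeparatedSpace_of_quasiSeparated (X ↘ Spec (CommRingCat.of k))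
    obtain ⟨q, hq, -⟩ := exists_closed_notMem k X hdim ∅
    obtain ⟨s, hs⟩ := exists_mem_genLocus_of_not_BP k X L hL q hq (h q hq)
    refine ⟨s, ?_⟩
    rw [hxg]
    exact ((genericPoint_spec X).mem_open_set_iff (CohB1.genLocus L s).isOpen).2 ⟨q, trivial, hs⟩

variable {X}

omit [IsIntegral X] in
/-- **a complete base-point-free pencil is generated by two sections** -/
theorem exists_pencil (D : X.Modules) (hD : PicF.IsInvertible D)
    (hgg : Curv2.IsGloballyGenerated D) (h0 : hh k D 0 = 2) :
    ∃ s₁ s₂ : Coh.structureModule X ⟶ D, s₂ ≠ 0 ∧ Epi (biprod.desc s₁ s₂) := by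
  have hcD := Groth.Agent.Lib.Helper6.K0Op.isCoh_of_isInvertible _ hD
  haveI := finite_HH k X _ hcD 0
  haveI : Module.Finite k (Coh.structureModule X ⟶ D) :=
    Module.Finite.equiv (evL k D).symm
  have hr : Module.finrank k (Coh.structureModule X ⟶ D) = 2 := by
    rw [(evL k D).finrank_eq]
    exact h0
  let b := Module.finBasisOfFinrankEq k (Coh.structureModule X ⟶ D) hr
  refine ⟨b 0, b 1, b.ne_zero 1, ?_⟩
  apply Preadditive.epi_of_cokernel_zero
  apply kills_eq_zero_of_gg hgg
  intro s
  have hs := b.sum_repr s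
  rw [Fin.sum_univ_two] at hs
  have e0 : b 0 ≫ cokernel.π (biprod.desc (b 0) (b 1)) = 0 := by
    have h1 : biprod.inl ≫ biprod.desc (b 0) (b 1) = b 0 := biprod.inl_desc _ _
    calc b 0 ≫ cokernel.π (biprod.desc (b 0) (b 1))
        = (biprod.inl ≫ biprod.desc (b 0) (b 1)) ≫ cokernel.π (biprod.desc (b 0) (b 1)) := by
          rw [h1]
      _ = 0 := by rw [Category.assoc, cokernel.condition, comp_zero]
  have e1 : b 1 ≫ cokernel.π (biprod.desc (b 0) (b 1)) = 0 := by
    have h1 : biprod.inr ≫ biprod.desc (b 0) (b 1) = b 1 := biprod.inr_desc _ _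
    calc b 1 ≫ cokernel.π (biprod.desc (b 0) (b 1))
        = (biprod.inr ≫ biprod.desc (b 0) (b 1)) ≫ cokernel.π (biprod.desc (b 0) (b 1)) := by
          rw [h1]
      _ = 0 := by rw [Category.assoc, cokernel.condition, comp_zero]
  rw [← hs, Preadditive.add_comp, Linear.smul_comp, Linear.smul_comp, e0, e1, smul_zero, smul_zero,
    add_zero]

/-- if `F ⊗ D⁻¹` has a section and `deg F = deg D` then `F ≅ D` -/
theorem nonempty_iso_of_section (hdim : topologicalKrullDim X ≤ 1) {F J D : X.Modules}
    (hF : PicF.IsInvertible F) (hJ : PicF.IsInvertible J) (hD : PicF.IsInvertible D)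
    (hJD : PicF.cl J * PicF.cl D = 1) (hdeg : Curv2.deg k X F 1 = Curv2.deg k X D 1)
    (h0 : 1 ≤ hh k (CohB1.tensorMod F J) 0) : Nonempty (F ≅ D) := by
  have hO := AmpleUnit.isInvertible_structureModule X
  have hFJ := GenLocus.isInvertible_tensorMod hF hJ
  have hcFJ := Groth.Agent.Lib.Helper6.K0Op.isCoh_of_isInvertible _ hFJ
  have hnt : Nontrivial (Coh.HH X (CohB1.tensorMod F J) 0) := by
    haveI := finite_HH k X _ hcFJ 0
    exact Module.nontrivial_of_finrank_pos (R := k) (by unfold hh at h0; omega)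
  obtain ⟨s, hs⟩ := Groth.Agent.Lib.Helper8.CurveRR.exists_section_ne_zero _ hnt
  have d1 := Groth.Agent.Lib.Helper8.DegGroup.deg_tensorMod k X hdim hF hJ
  have d2 := Groth.Agent.Lib.Helper8.DegGroup.deg_tensorMod k X hdim hJ hD
  have d3 : Curv2.deg k X (CohB1.tensorMod J D) 1 = 0 := by
    have hJD' := hJD
    rw [cl_mul_cl, PicCl.one_def, cl_eq_iff] at hJD'
    obtain ⟨e⟩ := hJD'
    have h := Groth.Agent.Lib.Helper8.EulerK.euler_congr k e
    unfold Curv2.deg
    rw [h]
    simp
  have d4 := Groth.Agent.Lib.Helper8.CurveDeg.deg_structureModule k X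
  obtain ⟨-, hiso⟩ := Groth.Agent.Lib.Helper8.CurveDeg.deg_le k X hdim _ _ hO hFJ s hs
  haveI : IsIso s := hiso (by omega)
  have c1 : PicF.cl F * PicF.cl J = 1 := by
    rw [cl_mul_cl, PicCl.one_def, cl_eq_iff]
    exact ⟨(asIso s).symm⟩
  rw [← cl_eq_iff]
  calc PicF.cl F = PicF.cl F * (PicF.cl J * PicF.cl D) := by rw [hJD, mul_one]
    _ = (PicF.cl F * PicF.cl J) * PicF.cl D := (mul_assoc _ _ _).symm
    _ = PicF.cl D := by rw [c1, one_mul]

end Groth.Agent.Lib.Helper8.PencilD
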