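import Groth.Agent.Lib.Helper8.PencilD

/-! # Helper8 — PencilE: consequences of the base-point-free pencil trick on a curve: for a complete
base-point-free pencil `D` and invertible `F`, `2 h⁰(F) ≤ h⁰(F ⊗ D⁻¹) + h⁰(F ⊗ D)`; two different
complete base-point-free pencils of the same degree satisfy `h⁰(D₁ ⊗ D₂) ≥ 4` -/
set_option autoImplicit false
universe u
open CategoryTheory CategoryTheory.Limits AlgebraicGeometry Opposite TopologicalSpace MonoidalCategory
noncomputable section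

namespace Groth.Agent.Lib.Helper8.PencilE

open Groth.Agent.Lib.Helper8.EulerK Groth.Agent.Lib.Helper8.ClifD
  Groth.Agent.Lib.Helper8.PicCl Groth.Agent.Lib.Helper28 Groth.Agent.Lib.Helper8.PencilC
  Groth.Agent.Lib.Helper8.PencilD

attribute [local instance] Groth.Agent.Lib.Helper8.PicCl.commMonoid

variable (k : Type u) [Field k] {X : Scheme.{u}} [X.Over (Spec (CommRingCat.of k))]
  [IsIntegral X] [IsProper (X ↘ Spec (CommRingCat.of k))]

/-- the pencil trick for a complete base-point-free pencil `D` with inverse `J` -/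
theorem pencil_gg (hdim : topologicalKrullDim X ≤ 1) {D J : X.Modules} (hD : PicF.IsInvertible D)
    (hJ : PicF.IsInvertible J) (hJD : PicF.cl J * PicF.cl D = 1)
    (hgg : Curv2.IsGloballyGenerated D) (h0 : hh k D 0 = 2) (F : X.Modules) (hcF : Coh.IsCoh F) :
    2 * hh k F 0 ≤ hh k (CohB1.tensorMod F J) 0 + hh k (CohB1.tensorMod F D) 0 := by
  obtain ⟨s₁, s₂, hs₂, hepi⟩ := exists_pencil k D hD hgg h0
  have hJD' := hJD
  rw [cl_mul_cl, PicCl.one_def, cl_eq_iff] at hJD'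
  obtain ⟨ε⟩ := hJD'
  haveI := hepi
  exact pencil_ineq k hdim hD hJ ε s₁ s₂ hs₂ F hcF

/-- two non-isomorphic complete base-point-free pencils of the same degree: `h⁰(D₁ ⊗ D₂) ≥ 4` -/
theorem four_le (hdim : topologicalKrullDim X ≤ 1) {D₁ D₂ : X.Modules} (h₁ : PicF.IsInvertible D₁)
    (h₂ : PicF.IsInvertible D₂) (hg₁ : Curv2.IsGloballyGenerated D₁) (h0₁ : hh k D₁ 0 = 2)
    (h0₂ : hh k D₂ 0 = 2) (hdeg : Curv2.deg k X D₂ 1 = Curv2.deg k X D₁ 1)
    (hne : IsEmpty (D₁ ≅ D₂)) : 4 ≤ hh k (CohB1.tensorMod D₁ D₂) 0 := by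
  obtain ⟨J, hJ, hJD⟩ := Groth.Agent.Lib.Helper8.InvInverse.exists_isInverseOf h₁
  rw [isInverseOf_iff] at hJD
  have hp := pencil_gg k hdim h₁ hJ hJD hg₁ h0₁ D₂
    (Groth.Agent.Lib.Helper6.K0Op.isCoh_of_isInvertible _ h₂)
  have hz : hh k (CohB1.tensorMod D₂ J) 0 = 0 := by
    by_contra hpos
    obtain ⟨e⟩ := nonempty_iso_of_section k hdim h₂ hJ h₁ hJD hdeg (by omega)
    exact hne.false e.symm
  have hc : PicF.cl (CohB1.tensorMod D₂ D₁) = PicF.cl (CohB1.tensorMod D₁ D₂) := by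
    rw [← cl_mul_cl, ← cl_mul_cl, mul_comm]
  rw [cl_eq_iff] at hc
  obtain ⟨c⟩ := hc
  have := hh_congr k c 0
  omega

end Groth.Agent.Lib.Helper8.PencilE
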