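import Groth.Agent.Lib.Helper8.PencilE
import Groth.Agent.Lib.Helper8.PtSupp
import Groth.Prelude.Def_LinSer

/-! # Helper8 — PencilF: linearly independent global sections bound `h⁰` from below; uniqueness of the
`g¹₂` on a regular curve of genus at least two -/
set_option autoImplicit false
universe u
open CategoryTheory CategoryTheory.Limits AlgebraicGeometry Opposite TopologicalSpace MonoidalCategory
noncomputable section

namespace Groth.Agent.Lib.Helper8.PencilF

open Groth.Agent.Lib.Helper8.EulerK Groth.Agent.Lib.Helper8.ClifD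
  Groth.Agent.Lib.Helper8.PicCl Groth.Agent.Lib.Helper28 Groth.Agent.Lib.Helper8.PencilC
  Groth.Agent.Lib.Helper8.PencilD Groth.Agent.Lib.Helper8.PencilE Groth.Agent.Lib.Helper8.PtSupp

attribute [local instance] Groth.Agent.Lib.Helper8.PicCl.commMonoid

variable (k : Type u) [Field k] (X : Scheme.{u}) [X.Over (Spec (CommRingCat.of k))]
  [IsProper (X ↘ Spec (CommRingCat.of k))]

/-- `r + 1` linearly independent global sections force `h⁰ ≥ r + 1` -/
theorem le_hh_of_linIndep (M : X.Modules) (hcM : Coh.IsCoh M) {n : ℕ}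
    (s : Fin n → LinSer.Sect X M) (h : LinSer.LinIndep k X M s) : n ≤ hh k M 0 := by
  letI := gammaModule M k
  haveI := finite_HH k X M hcM 0
  haveI : Module.Finite k Γ(M, ⊤) := Module.Finite.equiv (e0L M k)
  let s' : Fin n → Γ(M, ⊤) := fun i => s i
  have hli : LinearIndependent k s' := by
    rw [Fintype.linearIndependent_iff]
    intro g hg i
    have := h g hg
    rw [this]
    rfl
  have h1 := hli.fintype_card_le_finrank
  rw [Fintype.card_fin, ← (e0L M k).finrank_eq] at h1
  exact h1

variable [IsIntegral X] [IsAlgClosed k]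

/-- an invertible module of degree two with two independent sections on a regular curve of genus at
least two has `h⁰ = 2` and no base points -/
theorem g12_data (hdim : topologicalKrullDim X = 1)
    (hreg : ∀ x : X, IsRegularLocalRing (X.presheaf.stalk x)) (hg : 2 ≤ Curv2.genus k X)
    (M : X.Modules) (hM : PicF.IsInvertible M) (hd : Curv2.deg k X M 1 = 2)
    (h0 : 2 ≤ hh k M 0) : hh k M 0 = 2 ∧ Curv2.IsGloballyGenerated M := by
  haveI : IsLocallyNoetherian X := isLocallyNoetherian k X
  have e := Groth.Agent.Lib.Helper8.ClifE.deg_eq k X hdim M hM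
  have hgen : Curv2.genus k X = hh k (Coh.structureModule X) 1 := rfl
  have h1 : 1 ≤ hh k M 1 := by omega
  have c := Groth.Agent.Lib.Helper8.ClifE.clifford_deg k X hdim hreg M hM (by omega) h1
  have h2 : hh k M 0 = 2 := by omega
  refine ⟨h2, ?_⟩
  apply gg_of_forall_not_BP k X hdim M hM
  intro p hp hbp
  obtain ⟨t0, t1⟩ := (Groth.Agent.Lib.Helper8.ClifA.twist_numbers k X M hM p hp hdim).1 hbp
  obtain ⟨hIp, -⟩ := Groth.Agent.Lib.Helper8.ClifC.point_data X hdim p hp (hreg p)
  have hMI := GenLocus.isInvertible_tensorMod hM hIp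
  have c2 := clifford k X hdim hreg _ hMI (by omega) (by omega)
  omega

/-- **uniqueness of the `g¹₂`** -/
theorem g12_unique (hdim : topologicalKrullDim X = 1)
    (hreg : ∀ x : X, IsRegularLocalRing (X.presheaf.stalk x)) (hg : 2 ≤ Curv2.genus k X)
    (M M' : X.Modules) (hM : PicF.IsInvertible M) (hM' : PicF.IsInvertible M')
    (hd : Curv2.deg k X M 1 = 2) (hd' : Curv2.deg k X M' 1 = 2)
    (h0 : 2 ≤ hh k M 0) (h0' : 2 ≤ hh k M' 0) : Nonempty (M ≅ M') := by
  obtain ⟨a, hgg⟩ := g12_data k X hdim hreg hg M hM hd h0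
  obtain ⟨a', -⟩ := g12_data k X hdim hreg hg M' hM' hd' h0'
  obtain ⟨J, hJ, hJD⟩ := Groth.Agent.Lib.Helper8.InvInverse.exists_isInverseOf hM
  rw [isInverseOf_iff] at hJD
  have hp := pencil_gg k hdim.le hM hJ hJD hgg a M'
    (Groth.Agent.Lib.Helper6.K0Op.isCoh_of_isInvertible _ hM')
  have hMM := GenLocus.isInvertible_tensorMod hM' hM
  have d := Groth.Agent.Lib.Helper8.DegGroup.deg_tensorMod k X hdim.le hM' hM
  have e := Groth.Agent.Lib.Helper8.ClifE.deg_eq k X hdim _ hMM
  have hgen : Curv2.genus k X = hh k (Coh.structureModule X) 1 := rfl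
  have hle : hh k (CohB1.tensorMod M' M) 0 ≤ 3 := by
    by_cases h1 : hh k (CohB1.tensorMod M' M) 1 = 0
    · omega
    · by_cases h00 : hh k (CohB1.tensorMod M' M) 0 = 0
      · omega
      · have c := Groth.Agent.Lib.Helper8.ClifE.clifford_deg k X hdim hreg _ hMM (by omega) (by omega)
        omega
  obtain ⟨i⟩ := nonempty_iso_of_section k hdim.le hM' hJ hM hJD (by rw [hd, hd']) (by omega)
  exact ⟨i.symm⟩

end Groth.Agent.Lib.Helper8.PencilF
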