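import Mathlib
import Groth.Agent.Lib.Helper8.LocDual8
import Groth.Agent.Lib.Helper8.RGam8
import Groth.Agent.S0315
import Groth.Agent.S0316
import Groth.Agent.S0317
import Groth.Agent.S7048
import Groth.Agent.S7054

/-! # Helper8 — Perv1: `RΓ_m` and derived completion between `D^b_fg` and bounded complexes with cofinite cohomology
over a complete local ring (S19134)

* `isIso_derivedCompletion_map_ε` : `(RΓ_I K)^ ⟶ K^` is an isomorphism (Greenlees–May, map form).
* `isIso_RgammaI_map_toDerivedCompletion` : `RΓ_I K ⟶ RΓ_I (K^)` is an isomorphism.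
* `isIso_toDerivedCompletion_of_isDerivedComplete`, `isDerivedComplete_of_finite`.
* `homSingleShiftEquiv`, `subsingleton_hom_shift_of_gt`, `exists_bounds_hom_dualizing` : vanishing of
  `Hom(K, ω[j])` for `|j|` large.
* `finite_adicCompletion`, `isArtinian_of_finite_matlisDual`, `finite_socle_of_isArtinian`.
* `rgamma_of_finite` (part (a)), `exists_finite_model_of_cofinite`, `cplFin_of_cofinite` (part (b)),
  `RgammaI_perverseCoherent_equiv_cofinite` (S19134).
-/
set_option autoImplicit false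
set_option linter.unusedSectionVars false

universe u

open CategoryTheory CategoryTheory.Limits CategoryTheory.Pretriangulated Opposite DerivedCategory

attribute [local instance] HasDerivedCategory.standard

namespace Groth.Agent.Lib.Helper8.Bidual

open Groth.Agent.Lib.Helper8 Groth.Agent.Lib.Helper8.RGam Groth.Agent.Lib.Helper8.RHomK
  Groth.Agent.Lib.Helper8.DCmpA Groth.Agent.Lib.Helper8.DCmpB Groth.Agent.Lib.Helper8.DCmpC
  Groth.Agent.Lib.Helper8.DCmpE

section GM

variable {A : Type u} [CommRing A] [IsNoetherianRing A] (I : Ideal A) [DRing.HasRgammaI I]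
  [DRing.HasDerivedCompletion I]

/-- the derived completion of `RΓ_I K ⟶ K` is an isomorphism -/
theorem isIso_derivedCompletion_map_ε (K : Dual.D A) :
    IsIso ((DRing.derivedCompletion I).map ((DRing.RgammaIε I).app K)) := by
  let C := (DRing.derivedCompletion I).obj K
  have hC : DRing.IsDerivedComplete I C.obj := C.property
  have hB : ∀ L : Dual.D A, DRing.IsDerivedComplete I L →
      Function.Bijective (fun g : C.obj ⟶ L =>
        ((DRing.RgammaIε I).app K ≫ DRing.toDerivedCompletion I K) ≫ g) := by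
    intro L hL
    have h1 := bijective_unit_comp I K L hL
    have h2 := bijective_precomp_ε I K L hL
    have : (fun g : C.obj ⟶ L =>
        ((DRing.RgammaIε I).app K ≫ DRing.toDerivedCompletion I K) ≫ g) =
        (fun g : K ⟶ L => (DRing.RgammaIε I).app K ≫ g) ∘
          (fun g : C.obj ⟶ L => DRing.toDerivedCompletion I K ≫ g) := by
      funext g
      exact Category.assoc _ _ _
    rw [this]
    exact h2.comp h1
  obtain ⟨e, he⟩ := exists_iso_of_reflection I ((DRing.RgammaI I).obj K) C.obj _ hC hB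
  have hnat := unit_naturality I ((DRing.RgammaIε I).app K)
  have h3 : cplMap I ((DRing.RgammaIε I).app K) = e.hom := by
    apply (bijective_unit_comp I ((DRing.RgammaI I).obj K) C.obj hC).1
    simp only
    rw [← hnat, he]
    rfl
  have h4 : IsIso ((ObjectProperty.ι (DRing.IsDerivedComplete I)).map
      ((DRing.derivedCompletion I).map ((DRing.RgammaIε I).app K))) := by
    change IsIso (cplMap I ((DRing.RgammaIε I).app K))
    rw [h3]
    infer_instance
  exact isIso_of_fully_faithful (ObjectProperty.ι (DRing.IsDerivedComplete I)) _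

/-- `RΓ_I` of the completion unit `K ⟶ K^` is an isomorphism -/
theorem isIso_RgammaI_map_toDerivedCompletion (K : Dual.D A) :
    IsIso ((DRing.RgammaI I).map (DRing.toDerivedCompletion I K)) := by
  obtain ⟨fs, hfs⟩ := exists_list_span I
  subst hfs
  obtain ⟨Y, η, hch⟩ := exists_chain fs K
  have hYc : DRing.IsDerivedComplete (Ideal.span {y | y ∈ fs}) Y :=
    (isDerivedComplete_iff_isCompl _ Y).2 hch.isCompl
  have hB : ∀ L : Dual.D A, DRing.IsDerivedComplete (Ideal.span {y | y ∈ fs}) L →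
      Function.Bijective (fun g : Y ⟶ L => η ≫ g) :=
    fun L hL => hch.bijective L ((isDerivedComplete_iff_isCompl _ L).1 hL)
  obtain ⟨e, he⟩ := exists_iso_of_reflection _ K Y η hYc hB
  haveI := isIso_RgammaI_map (Ideal.span {y | y ∈ fs}) η (fun L hL =>
    bijective_comp_of_isChain _ L hL hch
      (fun f hf => Ideal.subset_span (show f ∈ {y | y ∈ fs} from hf)))
  have h1 : DRing.toDerivedCompletion (Ideal.span {y | y ∈ fs}) K = η ≫ e.inv := by
    rw [← he, Category.assoc, e.hom_inv_id, Category.comp_id]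
  rw [h1, Functor.map_comp]
  infer_instance

/-- the completion unit of a derived complete object is an isomorphism -/
theorem isIso_toDerivedCompletion_of_isDerivedComplete (K : Dual.D A)
    (hK : DRing.IsDerivedComplete I K) : IsIso (DRing.toDerivedCompletion I K) := by
  obtain ⟨e, he⟩ := exists_iso_of_reflection I K K (𝟙 K) hK (fun L _ =>
    ⟨fun g g' h => by simpa using h, fun g => ⟨g, Category.id_comp g⟩⟩)
  have h1 : DRing.toDerivedCompletion I K = e.inv := by
    rw [← Category.id_comp e.inv, ← he, Category.assoc, e.hom_inv_id, Category.comp_id]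
  rw [h1]
  infer_instance

end GM

section Van

variable {A : Type u} [CommRing A]

/-- `Hom_D(N[-q], W[i]) ≃ Hom_D(N[0], W[i+q])` -/
noncomputable def homSingleShiftEquiv (N : ModuleCat.{u} A) (W : Dual.D A) (q i : ℤ) :
    ((DerivedCategory.singleFunctor (ModuleCat.{u} A) q).obj N ⟶ W⟦i⟧) ≃ₗ[A]
      ((DerivedCategory.singleFunctor (ModuleCat.{u} A) 0).obj N ⟶ W⟦i + q⟧) :=
  let ι : ((DerivedCategory.singleFunctor (ModuleCat.{u} A) 0).obj N)⟦-q⟧ ≅
      (DerivedCategory.singleFunctor (ModuleCat.{u} A) q).obj N :=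
    ((DerivedCategory.singleFunctors (ModuleCat.{u} A)).shiftIso (-q) q 0 (by omega)).app N
  (EFB.precompEquivLin ι (W⟦i⟧)).trans
    ((EFB.shiftEquivLin q (((DerivedCategory.singleFunctor (ModuleCat.{u} A) 0).obj N)⟦-q⟧)
        (W⟦i⟧)).trans
      ((EFB.precompEquivLin
        ((shiftFunctorCompIsoId (Dual.D A) (-q) q (by omega)).app
          ((DerivedCategory.singleFunctor (ModuleCat.{u} A) 0).obj N)).symm _).trans
        (postcompEquivLin ((shiftFunctorAdd' (Dual.D A) i q (i + q) rfl).app W).symm _)))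

/-- no maps `K ⟶ W[j]` for `j` large, when `K` is cohomologically bounded and
`Hom(N[0], W[i]) = 0` for `i > d` -/
theorem subsingleton_hom_shift_of_gt (W : Dual.D A) (d : ℤ)
    (hW : ∀ (N : Type u) [AddCommGroup N] [Module A N] (i : ℤ), d < i →
      Subsingleton (Dual.inD A N ⟶ W⟦i⟧))
    (K : Dual.D A) (a b : ℤ) (hK : ∀ i : ℤ, (i < a ∨ b < i) → Subsingleton (Dual.HD A K i))
    (j : ℤ) (hj : d - a < j) : Subsingleton (K ⟶ W⟦j⟧) := by
  let P : ObjectProperty (Dual.D A) := fun X => ∀ j : ℤ, d - a < j → Subsingleton (X ⟶ W⟦j⟧)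
  haveI : P.IsClosedUnderIsomorphisms := ⟨fun {X Y} e h j hj => by
    haveI := h j hj
    exact (EFB.precompEquivLin e (W⟦j⟧)).toEquiv.subsingleton⟩
  have hLE : K.IsLE b := (isLE_iff K b).2 (fun i hi => by
    haveI := hK i (Or.inr hi)
    exact ModuleCat.isZero_of_subsingleton _)
  have hGE : K.IsGE a := (isGE_iff K a).2 (fun i hi => by
    haveI := hK i (Or.inl hi)
    exact ModuleCat.isZero_of_subsingleton _)
  obtain ⟨n, hn⟩ : ∃ n : ℕ, b + 1 - (n : ℤ) ≤ a := ⟨(b + 1 - a).toNat, by omega⟩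
  have hGE' : K.IsGE (b + 1 - n) := by
    haveI := hGE
    exact DerivedCategory.TStructure.t.isGE_of_ge K (b + 1 - n) a hn
  refine Stupid.induction_cohomology P ?_ ?_ n K b hLE hGE' ?_ j hj
  · intro T hT h1 h3 j hj
    haveI := h1 j hj
    haveI := h3 j hj
    refine ⟨fun φ ψ => ?_⟩
    have key : ∀ φ : T.obj₂ ⟶ W⟦j⟧, φ = 0 := by
      intro φ
      obtain ⟨χ, hχ⟩ := Triangle.yoneda_exact₂ T hT φ (Subsingleton.elim _ _)
      rw [hχ, Subsingleton.elim χ 0, comp_zero]
    rw [key φ, key ψ]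
  · intro Z hZ j _
    exact ⟨fun φ ψ => hZ.eq_of_src _ _⟩
  · intro i j hj
    by_cases hi : i < a
    · haveI := hK i (Or.inl hi)
      have hz : IsZero ((DerivedCategory.singleFunctor (ModuleCat.{u} A) i).obj
          ((DerivedCategory.homologyFunctor (ModuleCat.{u} A) i).obj K)) :=
        Functor.map_isZero _ (ModuleCat.isZero_of_subsingleton _)
      exact ⟨fun φ ψ => hz.eq_of_src _ _⟩
    · haveI := hW ((DerivedCategory.homologyFunctor (ModuleCat.{u} A) i).obj K) (j + i) (by omega)
      exact (homSingleShiftEquiv ((DerivedCategory.homologyFunctor (ModuleCat.{u} A) i).obj K)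
        W i j).toEquiv.subsingleton

/-- no maps `K ⟶ L` when `K` is cohomologically in degrees `≤ b` and `L` in degrees `≥ c > b` -/
theorem subsingleton_hom_of_isLE_of_isGE (K L : Dual.D A) (b c : ℤ) (hbc : b < c)
    (hK : ∀ i : ℤ, b < i → Subsingleton (Dual.HD A K i))
    (hL : ∀ i : ℤ, i < c → Subsingleton (Dual.HD A L i)) : Subsingleton (K ⟶ L) := by
  haveI : K.IsLE b := (isLE_iff K b).2 (fun i hi => by
    haveI := hK i hi
    exact ModuleCat.isZero_of_subsingleton _)
  haveI : L.IsGE c := (isGE_iff L c).2 (fun i hi => by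
    haveI := hL i hi
    exact ModuleCat.isZero_of_subsingleton _)
  refine ⟨fun φ ψ => ?_⟩
  rw [DerivedCategory.TStructure.t.zero φ b c hbc, DerivedCategory.TStructure.t.zero ψ b c hbc]

end Van

section Cpl

variable {A : Type u} [CommRing A] [IsNoetherianRing A]

/-- over an `I`-adically complete Noetherian ring the completion of a finite module is finite -/
lemma finite_adicCompletion (I : Ideal A) [IsAdicComplete I A] (Y : Type*) [AddCommGroup Y]
    [Module A Y] [Module.Finite A Y] : Module.Finite A (AdicCompletion I Y) := by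
  haveI : Module.Finite A (AdicCompletion I A) :=
    Module.Finite.of_surjective (AdicCompletion.of I A) (AdicCompletion.of_surjective I A)
  exact Module.Finite.of_surjective ((AdicCompletion.ofTensorProduct I Y).restrictScalars A)
    (AdicCompletion.ofTensorProduct_surjective_of_finite I Y)

end Cpl

section Local

variable {A : Type u} [CommRing A] [IsLocalRing A] [IsNoetherianRing A]

/-- a power torsion module with finite Matlis dual over a complete local ring is Artinian -/
lemma isArtinian_of_finite_matlisDual [IsAdicComplete (IsLocalRing.maximalIdeal A) A]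
    (E : Type u) [AddCommGroup E] [Module A E]
    (f : IsLocalRing.ResidueField A →ₗ[A] E) (hf : InjHull.IsInjectiveHull f)
    (H : Type u) [AddCommGroup H] [Module A H] [Module.Finite A (H →ₗ[A] E)] :
    IsArtinian A H := by
  haveI := (Groth.Agent.S0316.result A E f hf (H →ₗ[A] E)).1
  refine isArtinian_of_injective (LinearMap.applyₗ : H →ₗ[A] (H →ₗ[A] E) →ₗ[A] E) ?_
  rw [← LinearMap.ker_eq_bot, LinearMap.ker_eq_bot']
  intro x hx
  by_contra hne
  obtain ⟨φ, hφ⟩ := exists_linearMap_apply_ne_zero' E f hf hne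
  exact hφ (LinearMap.congr_fun hx φ)

/-- the socle of an Artinian module is finite -/
lemma finite_socle_of_isArtinian (H : Type u) [AddCommGroup H] [Module A H] [IsArtinian A H] :
    Module.Finite A ↥(LocCoh.torsionBy (IsLocalRing.maximalIdeal A) H) := by
  haveI := ((Groth.Agent.S0315.result A H).1 inferInstance).2
  exact Module.Finite.trans (A ⧸ IsLocalRing.maximalIdeal A) _

/-- objects of `D^b_fg` over a complete ring are derived complete -/
lemma isDerivedComplete_of_finite (I : Ideal A) [IsAdicComplete I A] (M : Dual.D A)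
    (hfin : ∀ i : ℤ, Module.Finite A (Dual.HD A M i))
    (hb : ∃ b : ℤ, ∀ i : ℤ, b < i → Subsingleton (Dual.HD A M i)) :
    DRing.IsDerivedComplete I M :=
  Groth.Agent.S7054.result I (Groth.Agent.S7048.result I A) M
    (PCNoeth.isPseudoCoherent'_of_finite_homology M hb hfin)

/-- `Hom(M, ω[j])` vanishes for `|j|` large, `M` bounded -/
lemma exists_bounds_hom_dualizing (ω : Dual.D A) (hω : Dual.IsDualizing A ω) (M : Dual.D A)
    (hbd : ∃ a b : ℤ, ∀ i : ℤ, (i < a ∨ b < i) → Subsingleton (Dual.HD A M i)) :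
    ∃ a b : ℤ, ∀ j : ℤ, (j < a ∨ b < j) → Subsingleton (M ⟶ ω⟦j⟧) := by
  obtain ⟨a, b, hab⟩ := hbd
  obtain ⟨a', b', hinj⟩ := hω.finite_injective_dimension
  obtain ⟨c, hc⟩ := exists_isGE_of_isDualizing ω hω
  refine ⟨c - b, b' - a, fun j hj => ?_⟩
  rcases hj with hj | hj
  · haveI : M.IsLE b := (isLE_iff M b).2 (fun i hi => by
      haveI := hab i (Or.inr hi)
      exact ModuleCat.isZero_of_subsingleton _)
    haveI : (ω⟦j⟧).IsGE (c - j) := by
      haveI := hc
      exact (TStructure.t).isGE_shift ω c j (c - j) (by omega)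
    refine ⟨fun φ ψ => ?_⟩
    rw [DerivedCategory.TStructure.t.zero φ b (c - j) (by omega),
      DerivedCategory.TStructure.t.zero ψ b (c - j) (by omega)]
  · exact subsingleton_hom_shift_of_gt ω b' (fun N _ _ i hi => hinj N i (Or.inr hi)) M a b hab j hj

/-- part (a) of S19134 -/
theorem rgamma_of_finite [IsAdicComplete (IsLocalRing.maximalIdeal A) A]
    (ω : Dual.D A) (hω : Dual.IsDualizing A ω) (hn : Dual.IsNormalized A ω)
    [DRing.HasRgammaI (IsLocalRing.maximalIdeal A)]
    [DRing.HasDerivedCompletion (IsLocalRing.maximalIdeal A)] (M : Dual.D A)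
    (hfin : ∀ i : ℤ, Module.Finite A (Dual.HD A M i))
    (hbd : ∃ a b : ℤ, ∀ i : ℤ, (i < a ∨ b < i) → Subsingleton (Dual.HD A M i)) :
    (∃ a b : ℤ, ∀ i : ℤ, (i < a ∨ b < i) →
      Subsingleton (Dual.HD A ((DRing.RgammaI (IsLocalRing.maximalIdeal A)).obj M) i)) ∧
    (∀ i : ℤ, LocCoh.IsPowerTorsion (IsLocalRing.maximalIdeal A)
        (Dual.HD A ((DRing.RgammaI (IsLocalRing.maximalIdeal A)).obj M) i) ∧
      Module.Finite A ↥(LocCoh.torsionBy (IsLocalRing.maximalIdeal A)
        (Dual.HD A ((DRing.RgammaI (IsLocalRing.maximalIdeal A)).obj M) i))) ∧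
    IsIso ((DRing.derivedCompletion (IsLocalRing.maximalIdeal A)).map
      ((DRing.RgammaIε (IsLocalRing.maximalIdeal A)).app M)) ∧
    IsIso (DRing.toDerivedCompletion (IsLocalRing.maximalIdeal A) M) := by
  obtain ⟨E, _, _, f, hf⟩ := Groth.Agent.S0299.result A (IsLocalRing.ResidueField A)
  have hbd' := hbd
  obtain ⟨a, b, hab⟩ := hbd
  have hfinM : ∀ n : ℤ, Module.Finite A (M ⟶ ω⟦n⟧) := fun n =>
    EFB.finite_hom_shift M ω ⟨b, fun i hi => hab i (Or.inr hi)⟩ hfin
      (exists_isGE_of_isDualizing ω hω) hω.finite_cohomology n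
  have key := subsingleton_hom_iff_subsingleton_HD_RgammaI ω hω hn M hfinM
  refine ⟨?_, ?_, isIso_derivedCompletion_map_ε _ M,
    isIso_toDerivedCompletion_of_isDerivedComplete _ M
      (isDerivedComplete_of_finite _ M hfin ⟨b, fun i hi => hab i (Or.inr hi)⟩)⟩
  · obtain ⟨a₁, b₁, h₁⟩ := exists_bounds_hom_dualizing ω hω M hbd'
    refine ⟨-b₁, -a₁, fun i hi => ?_⟩
    have := (key (-i)).1 (h₁ (-i) (by omega))
    rwa [neg_neg] at this
  · intro i
    refine ⟨torsCoh_RgammaI _ M i, ?_⟩
    obtain ⟨c⟩ := nonempty_adicCompletion_hom_equiv_dual_HD_RgammaI ω hω hn E f hf M hfinM (-i)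
    rw [neg_neg] at c
    haveI := hfinM (-i)
    haveI := finite_adicCompletion (IsLocalRing.maximalIdeal A) (M ⟶ ω⟦-i⟧)
    haveI : Module.Finite A
        (Dual.HD A ((DRing.RgammaI (IsLocalRing.maximalIdeal A)).obj M) i →ₗ[A] E) :=
      Module.Finite.equiv c
    haveI := isArtinian_of_finite_matlisDual E f hf
      (Dual.HD A ((DRing.RgammaI (IsLocalRing.maximalIdeal A)).obj M) i)
    exact finite_socle_of_isArtinian _

/-- a cofinite module in degree `i` is `RΓ_m` of an object of `D^b_fg` -/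
theorem exists_finite_model_of_cofinite [IsAdicComplete (IsLocalRing.maximalIdeal A) A]
    (ω : Dual.D A) (hω : Dual.IsDualizing A ω) (hn : Dual.IsNormalized A ω)
    [DRing.HasRgammaI (IsLocalRing.maximalIdeal A)]
    (N : Type u) [AddCommGroup N] [Module A N]
    (hN1 : LocCoh.IsPowerTorsion (IsLocalRing.maximalIdeal A) N)
    (hN2 : Module.Finite A ↥(LocCoh.torsionBy (IsLocalRing.maximalIdeal A) N)) (i : ℤ) :
    ∃ X : Dual.D A, (∀ q : ℤ, Module.Finite A (Dual.HD A X q)) ∧
      (∃ a b : ℤ, ∀ q : ℤ, (q < a ∨ b < q) → Subsingleton (Dual.HD A X q)) ∧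
      Nonempty ((DRing.RgammaI (IsLocalRing.maximalIdeal A)).obj X ≅
        (DerivedCategory.singleFunctor (ModuleCat.{u} A) i).obj (ModuleCat.of A N)) := by
  obtain ⟨E, _, _, f, hf⟩ := Groth.Agent.S0299.result A (IsLocalRing.ResidueField A)
  haveI : Module.Finite (A ⧸ IsLocalRing.maximalIdeal A)
      ↥(LocCoh.torsionBy (IsLocalRing.maximalIdeal A) N) :=
    Module.Finite.of_restrictScalars_finite A _ _
  haveI hArt : IsArtinian A N := (Groth.Agent.S0315.result A N).2 ⟨hN1, inferInstance⟩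
  obtain ⟨hFfin, hFbij⟩ := Groth.Agent.S0317.result A E f hf N
  haveI := hFfin
  set F : ModuleCat.{u} A := ModuleCat.of A (N →ₗ[A] E) with hF
  set K₀ : Dual.D A := (DerivedCategory.singleFunctor (ModuleCat.{u} A) (-i)).obj F with hK₀
  have hK₀z : ∀ q : ℤ, q ≠ -i → Subsingleton (Dual.HD A K₀ q) := by
    intro q hq
    rcases lt_or_gt_of_ne hq with h | h
    · exact ModuleCat.subsingleton_of_isZero (isZero_of_isGE K₀ (-i) q h)
    · exact ModuleCat.subsingleton_of_isZero (isZero_of_isLE K₀ (-i) q h)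
  let eF : Dual.HD A K₀ (-i) ≃ₗ[A] (N →ₗ[A] E) :=
    ((singleFunctorCompHomologyFunctorIso (ModuleCat.{u} A) (-i)).app F).toLinearEquiv
  have hK₀fin : ∀ q : ℤ, Module.Finite A (Dual.HD A K₀ q) := by
    intro q
    by_cases hq : q = -i
    · subst hq
      exact Module.Finite.equiv eF.symm
    · haveI := hK₀z q hq
      infer_instance
  obtain ⟨P, t, hPt, hP, ⟨eP⟩⟩ := PCNoeth.isPseudoCoherent'_of_finite_homology K₀
    ⟨-i, fun q hq => hK₀z q (by omega)⟩ hK₀fin
  obtain ⟨I, a, b, hI, hab, ⟨e⟩⟩ := exists_injective_model ω hω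
  haveI : I.IsKInjective := IAmp.isKInjective_of_data I a (fun n hn => hab n (Or.inl hn)) hI
  set X : Dual.D A := Q.obj (DRing.homCx P I) with hX
  let hq : ∀ q : ℤ, Dual.HD A X q ≃ₗ[A] (K₀ ⟶ ω⟦q⟧) := fun q =>
    (homologyHomCxEquiv P I q).trans ((EFB.precompEquivLin eP.symm _).trans
      (postcompEquivLin ((CategoryTheory.shiftFunctor (Dual.D A) q).mapIso e) _))
  obtain ⟨a', b', hinj⟩ := hω.finite_injective_dimension
  refine ⟨X, fun q => ?_, ⟨a' + i, b' + i, fun q hq' => ?_⟩, ?_⟩
  · haveI := EFB.finite_hom_shift K₀ ω ⟨-i, fun q hq => hK₀z q (by omega)⟩ hK₀fin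
      (exists_isGE_of_isDualizing ω hω) hω.finite_cohomology q
    exact Module.Finite.equiv (hq q).symm
  · haveI : Subsingleton (Dual.inD A (N →ₗ[A] E) ⟶ ω⟦q + -i⟧) :=
      hinj (N →ₗ[A] E) (q + -i) (by omega)
    haveI : Subsingleton (K₀ ⟶ ω⟦q⟧) := (homSingleShiftEquiv F ω (-i) q).toEquiv.subsingleton
    exact (hq q).toEquiv.subsingleton
  · -- local duality for `X`
    have hc : ∀ q : ℤ, Nonempty
        (Dual.HD A ((DRing.RgammaI (IsLocalRing.maximalIdeal A)).obj X) q ≃ₗ[A]
          (Dual.HD A K₀ (-q) →ₗ[A] E)) := fun q => by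
      obtain ⟨c⟩ := nonempty_HD_RgammaI_homCx_equiv ω hω hn E f hf I a hI
        (fun q hq => hab q (Or.inl hq)) e P t hPt hP q
      exact ⟨c.trans (LinearEquiv.congrLeft E A
        ((homologyFunctor (ModuleCat.{u} A) (-q)).mapIso eP).toLinearEquiv)⟩
    set R : Dual.D A := (DRing.RgammaI (IsLocalRing.maximalIdeal A)).obj X with hR
    have hz : ∀ q : ℤ, q ≠ i → IsZero ((homologyFunctor (ModuleCat.{u} A) q).obj R) := by
      intro q hqi
      obtain ⟨c⟩ := hc q
      haveI := hK₀z (-q) (by omega)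
      haveI : Subsingleton (Dual.HD A K₀ (-q) →ₗ[A] E) :=
        ⟨fun φ ψ => LinearMap.ext (fun x => by rw [Subsingleton.elim x 0, map_zero, map_zero])⟩
      haveI : Subsingleton ((homologyFunctor (ModuleCat.{u} A) q).obj R) :=
        c.toEquiv.subsingleton
      exact ModuleCat.isZero_of_subsingleton _
    haveI : R.IsGE i := (isGE_iff R i).2 (fun q hq => hz q (by omega))
    haveI : R.IsLE i := (isLE_iff R i).2 (fun q hq => hz q (by omega))
    obtain ⟨e1⟩ := Groth.Agent.Lib.Helper16.DerT.nonempty_iso_single_homology R i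
    obtain ⟨c⟩ := hc i
    let l : ((homologyFunctor (ModuleCat.{u} A) i).obj R) ≃ₗ[A] N :=
      c.trans ((LinearEquiv.congrLeft E A eF).trans (LinearEquiv.ofBijective _ hFbij).symm)
    exact ⟨e1 ≪≫ (DerivedCategory.singleFunctor (ModuleCat.{u} A) i).mapIso l.toModuleIso⟩

/-- the property "the derived completion lies in `D^b_fg`" -/
def CplFin (I : Ideal A) [DRing.HasDerivedCompletion I] : ObjectProperty (Dual.D A) := fun K =>
  (∀ q : ℤ, Module.Finite A (Dual.HD A (Cpl I K) q)) ∧
    ∃ a b : ℤ, ∀ q : ℤ, (q < a ∨ b < q) → Subsingleton (Dual.HD A (Cpl I K) q)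

lemma CplFin.of_iso (I : Ideal A) [DRing.HasDerivedCompletion I] {K K' : Dual.D A} (e : K ≅ K')
    (h : CplFin I K) : CplFin I K' := by
  let e' : Cpl I K ≅ Cpl I K' :=
    (ObjectProperty.ι (DRing.IsDerivedComplete I)).mapIso ((DRing.derivedCompletion I).mapIso e)
  obtain ⟨h1, a, b, h2⟩ := h
  refine ⟨fun q => ?_, a, b, fun q hq => ?_⟩
  · haveI := h1 q
    exact Module.Finite.equiv ((homologyFunctor (ModuleCat.{u} A) q).mapIso e').toLinearEquiv
  · haveI := h2 q hq
    exact ((homologyFunctor (ModuleCat.{u} A) q).mapIso e').toLinearEquiv.symm.toEquiv.subsingleton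

instance (I : Ideal A) [DRing.HasDerivedCompletion I] : (CplFin I).IsClosedUnderIsomorphisms :=
  ⟨fun e h => CplFin.of_iso I e h⟩

lemma cplFin_of_isZero (I : Ideal A) [DRing.HasDerivedCompletion I] (Z : Dual.D A)
    (hZ : IsZero Z) : CplFin I Z := by
  have hz : IsZero (Cpl I Z) := by
    rw [IsZero.iff_id_eq_zero]
    apply (bijective_unit_comp I Z (Cpl I Z) ((DRing.derivedCompletion I).obj Z).property).1
    exact hZ.eq_of_src _ _
  have h0 : ∀ q : ℤ, Subsingleton (Dual.HD A (Cpl I Z) q) := fun q =>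
    ModuleCat.subsingleton_of_isZero (Functor.map_isZero _ hz)
  refine ⟨fun q => ?_, 0, 0, fun q _ => h0 q⟩
  haveI := h0 q
  infer_instance

lemma cplFin_ext (I : Ideal A) [DRing.HasDerivedCompletion I] (T : Triangle (Dual.D A))
    (hT : T ∈ distTriang _) (h1 : CplFin I T.obj₁) (h3 : CplFin I T.obj₃) : CplFin I T.obj₂ := by
  obtain ⟨Z, p', q', h₂⟩ := distinguished_cocone_triangle (cplMap I T.mor₁)
  obtain ⟨e⟩ := exists_cone_iso I T.mor₁ T.mor₂ T.mor₃ hT p' q' h₂
  obtain ⟨f1, a1, b1, z1⟩ := h1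
  obtain ⟨f3, a3, b3, z3⟩ := h3
  have hex := fun q : ℤ => DerivedCategory.HomologySequence.exact₂ _ h₂ q
  refine ⟨fun q => ?_, min a1 a3, max b1 b3, fun q hq => ?_⟩
  · haveI := f3 q
    have hZ : Module.Finite A (Dual.HD A Z q) :=
      Module.Finite.equiv ((homologyFunctor (ModuleCat.{u} A) q).mapIso e).toLinearEquiv.symm
    exact Groth.Agent.Lib.helper11.ConeBasic.finite_of_exact _ _ _ (hex q) (f1 q) hZ
  · haveI := z1 q (by
      rcases hq with h | h
      · exact Or.inl (lt_of_lt_of_le h (min_le_left _ _))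
      · exact Or.inr (lt_of_le_of_lt (le_max_left _ _) h))
    haveI := z3 q (by
      rcases hq with h | h
      · exact Or.inl (lt_of_lt_of_le h (min_le_right _ _))
      · exact Or.inr (lt_of_le_of_lt (le_max_right _ _) h))
    haveI hZ : Subsingleton (Dual.HD A Z q) :=
      ((homologyFunctor (ModuleCat.{u} A) q).mapIso e).toLinearEquiv.toEquiv.subsingleton
    have hex' := hex q
    rw [ShortComplex.moduleCat_exact_iff_range_eq_ker] at hex'
    dsimp at hex'
    refine ⟨fun x y => ?_⟩
    have key : ∀ x : Dual.HD A (Cpl I T.obj₂) q, x = 0 := by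
      intro x
      have hx : x ∈ LinearMap.ker ((homologyFunctor (ModuleCat.{u} A) q).map p').hom :=
        Subsingleton.elim _ _
      have hx' : x ∈ LinearMap.range ((homologyFunctor (ModuleCat.{u} A) q).map
          (cplMap I T.mor₁)).hom := hex' ▸ hx
      obtain ⟨y, hy⟩ := hx'
      rw [← hy, Subsingleton.elim y 0, map_zero]
    rw [key x, key y]

/-- part (b) of S19134: the derived completion of a bounded complex with cofinite cohomology lies
in `D^b_fg` -/
theorem cplFin_of_cofinite [IsAdicComplete (IsLocalRing.maximalIdeal A) A]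
    (ω : Dual.D A) (hω : Dual.IsDualizing A ω) (hn : Dual.IsNormalized A ω)
    [DRing.HasRgammaI (IsLocalRing.maximalIdeal A)]
    [DRing.HasDerivedCompletion (IsLocalRing.maximalIdeal A)] (K : Dual.D A)
    (hbd : ∃ a b : ℤ, ∀ i : ℤ, (i < a ∨ b < i) → Subsingleton (Dual.HD A K i))
    (hK : ∀ i : ℤ, LocCoh.IsPowerTorsion (IsLocalRing.maximalIdeal A) (Dual.HD A K i) ∧
      Module.Finite A ↥(LocCoh.torsionBy (IsLocalRing.maximalIdeal A) (Dual.HD A K i))) :
    CplFin (IsLocalRing.maximalIdeal A) K := by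
  obtain ⟨a, b, hab⟩ := hbd
  have hLE : K.IsLE b := (isLE_iff K b).2 (fun i hi => by
    haveI := hab i (Or.inr hi)
    exact ModuleCat.isZero_of_subsingleton _)
  have hGE : K.IsGE a := (isGE_iff K a).2 (fun i hi => by
    haveI := hab i (Or.inl hi)
    exact ModuleCat.isZero_of_subsingleton _)
  obtain ⟨n, hn'⟩ : ∃ n : ℕ, b + 1 - (n : ℤ) ≤ a := ⟨(b + 1 - a).toNat, by omega⟩
  have hGE' : K.IsGE (b + 1 - n) := by
    haveI := hGE
    exact DerivedCategory.TStructure.t.isGE_of_ge K (b + 1 - n) a hn'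
  refine Stupid.induction_cohomology (CplFin (IsLocalRing.maximalIdeal A))
    (cplFin_ext _) (cplFin_of_isZero _) n K b hLE hGE' (fun i => ?_)
  obtain ⟨X, hXf, ⟨a', b', hXb⟩, ⟨eX⟩⟩ := exists_finite_model_of_cofinite ω hω hn
    (Dual.HD A K i) (hK i).1 (hK i).2 i
  -- `X^ ≅ X`
  haveI := isIso_toDerivedCompletion_of_isDerivedComplete (IsLocalRing.maximalIdeal A) X
    (isDerivedComplete_of_finite _ X hXf ⟨b', fun q hq => hXb q (Or.inr hq)⟩)
  haveI := isIso_derivedCompletion_map_ε (IsLocalRing.maximalIdeal A) X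
  let e1 : Cpl (IsLocalRing.maximalIdeal A) X ≅ X :=
    (asIso (DRing.toDerivedCompletion (IsLocalRing.maximalIdeal A) X)).symm
  let e2 : Cpl (IsLocalRing.maximalIdeal A)
      ((DRing.RgammaI (IsLocalRing.maximalIdeal A)).obj X) ≅
      Cpl (IsLocalRing.maximalIdeal A) X :=
    (ObjectProperty.ι (DRing.IsDerivedComplete (IsLocalRing.maximalIdeal A))).mapIso
      (asIso ((DRing.derivedCompletion (IsLocalRing.maximalIdeal A)).map
        ((DRing.RgammaIε (IsLocalRing.maximalIdeal A)).app X)))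
  have hRX : CplFin (IsLocalRing.maximalIdeal A)
      ((DRing.RgammaI (IsLocalRing.maximalIdeal A)).obj X) := by
    refine ⟨fun q => ?_, a', b', fun q hq => ?_⟩
    · haveI := hXf q
      exact Module.Finite.equiv
        ((homologyFunctor (ModuleCat.{u} A) q).mapIso (e2 ≪≫ e1)).toLinearEquiv.symm
    · haveI := hXb q hq
      exact ((homologyFunctor (ModuleCat.{u} A) q).mapIso
        (e2 ≪≫ e1)).toLinearEquiv.toEquiv.subsingleton
  exact CplFin.of_iso _ eX hRX

/-- S19134 -/
theorem RgammaI_perverseCoherent_equiv_cofinite [IsAdicComplete (IsLocalRing.maximalIdeal A) A]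
    (ω : Dual.D A) (hω : Dual.IsDualizing A ω) (hn : Dual.IsNormalized A ω)
    [DRing.HasRgammaI (IsLocalRing.maximalIdeal A)]
    [DRing.HasDerivedCompletion (IsLocalRing.maximalIdeal A)] :
    (∀ M : Dual.D A, (∀ i : ℤ, Module.Finite A (Dual.HD A M i)) →
      (∃ a b : ℤ, ∀ i : ℤ, (i < a ∨ b < i) → Subsingleton (Dual.HD A M i)) →
        (∃ a b : ℤ, ∀ i : ℤ, (i < a ∨ b < i) →
          Subsingleton (Dual.HD A ((DRing.RgammaI (IsLocalRing.maximalIdeal A)).obj M) i)) ∧
        (∀ i : ℤ, LocCoh.IsPowerTorsion (IsLocalRing.maximalIdeal A)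
            (Dual.HD A ((DRing.RgammaI (IsLocalRing.maximalIdeal A)).obj M) i) ∧
          Module.Finite A ↥(LocCoh.torsionBy (IsLocalRing.maximalIdeal A)
            (Dual.HD A ((DRing.RgammaI (IsLocalRing.maximalIdeal A)).obj M) i))) ∧
        IsIso ((DRing.derivedCompletion (IsLocalRing.maximalIdeal A)).map
          ((DRing.RgammaIε (IsLocalRing.maximalIdeal A)).app M)) ∧
        IsIso (DRing.toDerivedCompletion (IsLocalRing.maximalIdeal A) M)) ∧
    (∀ K : Dual.D A, (∃ a b : ℤ, ∀ i : ℤ, (i < a ∨ b < i) → Subsingleton (Dual.HD A K i)) →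
      (∀ i : ℤ, LocCoh.IsPowerTorsion (IsLocalRing.maximalIdeal A) (Dual.HD A K i) ∧
        Module.Finite A ↥(LocCoh.torsionBy (IsLocalRing.maximalIdeal A) (Dual.HD A K i))) →
        (∀ i : ℤ, Module.Finite A
          (Dual.HD A ((DRing.derivedCompletion (IsLocalRing.maximalIdeal A)).obj K).obj i)) ∧
        (∃ a b : ℤ, ∀ i : ℤ, (i < a ∨ b < i) → Subsingleton
          (Dual.HD A ((DRing.derivedCompletion (IsLocalRing.maximalIdeal A)).obj K).obj i)) ∧
        IsIso ((DRing.RgammaI (IsLocalRing.maximalIdeal A)).map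
          (DRing.toDerivedCompletion (IsLocalRing.maximalIdeal A) K)) ∧
        IsIso ((DRing.RgammaIε (IsLocalRing.maximalIdeal A)).app K)) ∧
    (∀ (N : Type u) [AddCommGroup N] [Module A N],
      LocCoh.IsPowerTorsion (IsLocalRing.maximalIdeal A) N →
      Module.Finite A ↥(LocCoh.torsionBy (IsLocalRing.maximalIdeal A) N) →
        ∀ i : ℤ, i ≠ 0 → Subsingleton
          (((DRing.derivedCompletion (IsLocalRing.maximalIdeal A)).obj (Dual.inD A N)).obj ⟶
            ω⟦i⟧)) := by
  refine ⟨fun M hfin hbd => rgamma_of_finite ω hω hn M hfin hbd, fun K hbd hK => ?_,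
    fun N _ _ hN1 hN2 i hi => ?_⟩
  · obtain ⟨h1, h2⟩ := cplFin_of_cofinite ω hω hn K hbd hK
    exact ⟨h1, h2, isIso_RgammaI_map_toDerivedCompletion _ K,
      isIso_RgammaIε_of_torsion _ K (fun i => (hK i).1)⟩
  · -- `N` is Artinian
    haveI : Module.Finite (A ⧸ IsLocalRing.maximalIdeal A)
        ↥(LocCoh.torsionBy (IsLocalRing.maximalIdeal A) N) :=
      Module.Finite.of_restrictScalars_finite A _ _
    haveI hArt : IsArtinian A N := (Groth.Agent.S0315.result A N).2 ⟨hN1, inferInstance⟩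
    have htors : TorsCoh (IsLocalRing.maximalIdeal A) (Dual.inD A N) := torsCoh_inD _ N hN1
    have hz : ∀ q : ℤ, q ≠ 0 → Subsingleton (Dual.HD A (Dual.inD A N) q) := fun q hq =>
      ModuleCat.subsingleton_of_isZero (isZero_HD_inD (A := A) N q hq)
    have hcof : ∀ q : ℤ, LocCoh.IsPowerTorsion (IsLocalRing.maximalIdeal A)
          (Dual.HD A (Dual.inD A N) q) ∧
        Module.Finite A ↥(LocCoh.torsionBy (IsLocalRing.maximalIdeal A)
          (Dual.HD A (Dual.inD A N) q)) := by
      intro q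
      refine ⟨htors q, ?_⟩
      by_cases hq : q = 0
      · subst hq
        let e : Dual.HD A (Dual.inD A N) 0 ≃ₗ[A] N :=
          ((singleFunctorCompHomologyFunctorIso (ModuleCat.{u} A) 0).app
            (ModuleCat.of A N)).toLinearEquiv
        haveI : IsArtinian A (Dual.HD A (Dual.inD A N) 0) :=
          isArtinian_of_injective e.toLinearMap e.injective
        exact finite_socle_of_isArtinian _
      · haveI := hz q hq
        infer_instance
    obtain ⟨hYf, aY, bY, hYb⟩ := cplFin_of_cofinite ω hω hn (Dual.inD A N)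
      ⟨0, 0, fun q hq => hz q (by omega)⟩ hcof
    set Y : Dual.D A := Cpl (IsLocalRing.maximalIdeal A) (Dual.inD A N) with hY
    have hfinY : ∀ n : ℤ, Module.Finite A (Y ⟶ ω⟦n⟧) := fun n =>
      EFB.finite_hom_shift Y ω ⟨bY, fun q hq => hYb q (Or.inr hq)⟩ hYf
        (exists_isGE_of_isDualizing ω hω) hω.finite_cohomology n
    rw [subsingleton_hom_iff_subsingleton_HD_RgammaI ω hω hn Y hfinY i]
    haveI := isIso_RgammaI_map_toDerivedCompletion (IsLocalRing.maximalIdeal A) (Dual.inD A N)
    haveI := isIso_RgammaIε_of_torsion (IsLocalRing.maximalIdeal A) (Dual.inD A N) htors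
    let e : (DRing.RgammaI (IsLocalRing.maximalIdeal A)).obj Y ≅ Dual.inD A N :=
      (asIso ((DRing.RgammaI (IsLocalRing.maximalIdeal A)).map
        (DRing.toDerivedCompletion (IsLocalRing.maximalIdeal A) (Dual.inD A N)))).symm ≪≫
      asIso ((DRing.RgammaIε (IsLocalRing.maximalIdeal A)).app (Dual.inD A N))
    haveI := hz (-i) (by omega)
    exact ((homologyFunctor (ModuleCat.{u} A) (-i)).mapIso e).toLinearEquiv.toEquiv.subsingleton

end Local

end Groth.Agent.Lib.Helper8.Bidual
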