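import Mathlib
import Groth.Prelude.Def_DDual2

/-!
# Helper8 — PolyKos1: the exact sequence `0 → M[x] → M[x] → M → 0` of `R[x]`-modules, naturally in
the `R`-module `M`
-/

set_option autoImplicit false

open CategoryTheory CategoryTheory.Limits Polynomial TensorProduct ModuleCat ChangeOfRings

namespace Groth.Agent.Lib.Helper8.PolyKos

universe u

variable (R : Type u) [CommRing R]

/-- the inclusion of constants -/
noncomputable abbrev ι : R →+* R[X] := Polynomial.C

/-- evaluation at zero -/
noncomputable abbrev φ : R[X] →+* R := Polynomial.evalRingHom (0 : R)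

lemma φ_comp_ι : RingHom.id R = (φ R).comp (ι R) := by
  ext r
  simp

/-- `M ↦ M[x]` -/
noncomputable abbrev E : ModuleCat.{u} R ⥤ ModuleCat.{u} R[X] := ModuleCat.extendScalars.{u, u, u} (ι R)

/-- `M ↦ M` with `x` acting by zero -/
noncomputable abbrev Res : ModuleCat.{u} R ⥤ ModuleCat.{u} R[X] := ModuleCat.restrictScalars.{u} (φ R)

/-- the identity of `M`, seen as a map to the module restricted twice -/
noncomputable def α : 𝟭 (ModuleCat.{u} R) ≅ Res R ⋙ ModuleCat.restrictScalars.{u} (ι R) :=
  (ModuleCat.restrictScalarsId' (RingHom.id R) rfl).symm ≪≫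
    ModuleCat.restrictScalarsComp' (ι R) (φ R) (RingHom.id R) (φ_comp_ι R)

/-- the projection `M[x] → M` -/
noncomputable def q : E R ⟶ Res R where
  app M := (E R).map ((α R).hom.app M) ≫
    (ModuleCat.extendRestrictScalarsAdj (ι R)).counit.app ((Res R).obj M)
  naturality M N f := by
    have h1 := (α R).hom.naturality f
    have h2 := (ModuleCat.extendRestrictScalarsAdj (ι R)).counit.naturality ((Res R).map f)
    simp only [Functor.id_map, Functor.comp_map, Functor.id_obj, Functor.comp_obj] at h1 h2
    rw [← Category.assoc, ← Functor.map_comp, h1, Functor.map_comp, Category.assoc, h2,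
      Category.assoc]

variable {R}

lemma q_one_tmul (M : ModuleCat.{u} R) (m : M) :
    ((q R).app M).hom ((1 : R[X]) ⊗ₜ[R, ι R] m) = m := by
  change ((ModuleCat.extendRestrictScalarsAdj (ι R)).counit.app ((Res R).obj M)).hom
    ((1 : R[X]) ⊗ₜ[R, ι R] ((α R).hom.app M).hom m) = m
  erw [ModuleCat.extendRestrictScalarsAdj_counit_app_apply_one_tmul]
  rfl

/-- `R[x]` as an `R`-module, in the form used by `extendScalars` -/
noncomputable abbrev S' (R : Type u) [CommRing R] : ModuleCat.{u} R :=
  (ModuleCat.restrictScalars (ι R)).obj (ModuleCat.of R[X] R[X])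

/-- the underlying polynomial -/
def toP (p : S' R) : R[X] := p

/-- the underlying polynomial -/
def ofP (p : R[X]) : S' R := p

/-- division by `x` -/
noncomputable def dS : S' R →ₗ[R] S' R where
  toFun p := ofP (Polynomial.divX (toP p))
  map_add' _ _ := Polynomial.divX_add
  map_smul' r p := by
    change Polynomial.divX (C r * toP p) = C r * Polynomial.divX (toP p)
    exact Polynomial.divX_C_mul

/-- constant term -/
noncomputable def cS : S' R →ₗ[R] S' R where
  toFun p := ofP (C ((toP p).coeff 0))
  map_add' p q := by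
    change C ((toP p + toP q).coeff 0) = C ((toP p).coeff 0) + C ((toP q).coeff 0)
    rw [Polynomial.coeff_add, C_add]
  map_smul' r p := by
    change C ((C r * toP p).coeff 0) = C r * C ((toP p).coeff 0)
    rw [Polynomial.coeff_C_mul, C_mul]

variable (M : ModuleCat.{u} R)

/-- division by `x` on `M[x]` -/
noncomputable def dT : (E R).obj M →+ (E R).obj M :=
  (LinearMap.rTensor M dS).toAddMonoidHom

/-- constant term on `M[x]` -/
noncomputable def cT : (E R).obj M →+ (E R).obj M :=
  (LinearMap.rTensor M cS).toAddMonoidHom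

lemma dT_tmul (s : R[X]) (m : M) : dT M (s ⊗ₜ[R, ι R] m) = (Polynomial.divX s) ⊗ₜ[R, ι R] m := rfl

lemma cT_tmul (s : R[X]) (m : M) : cT M (s ⊗ₜ[R, ι R] m) = (C (s.coeff 0)) ⊗ₜ[R, ι R] m := rfl

lemma divX_X_mul (s : R[X]) : Polynomial.divX (X * s) = s := by
  ext n
  rw [Polynomial.coeff_divX, Polynomial.coeff_X_mul]

lemma E_induction {motive : (E R).obj M → Prop} (t : (E R).obj M)
    (zero : motive 0) (tmul : ∀ (s : R[X]) (m : M), motive (s ⊗ₜ[R, ι R] m))
    (add : ∀ a b, motive a → motive b → motive (a + b)) : motive t :=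
  TensorProduct.induction_on t zero tmul add

/-- a pure tensor, as an element of `M[x]` -/
noncomputable def tm (s : R[X]) (m : M) : (E R).obj M := s ⊗ₜ[R, ι R] m

lemma smul_tm (s' s : R[X]) (m : M) : s' • tm M s m = tm M (s' * s) m := rfl

lemma dT_tm (s : R[X]) (m : M) : dT M (tm M s m) = tm M (Polynomial.divX s) m := rfl

lemma cT_tm (s : R[X]) (m : M) : cT M (tm M s m) = tm M (C (s.coeff 0)) m := rfl

lemma tm_add (s s' : R[X]) (m : M) : tm M (s + s') m = tm M s m + tm M s' m :=
  TensorProduct.add_tmul _ _ _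

lemma tm_induction {motive : (E R).obj M → Prop} (t : (E R).obj M)
    (zero : motive 0) (tmul : ∀ (s : R[X]) (m : M), motive (tm M s m))
    (add : ∀ a b, motive a → motive b → motive (a + b)) : motive t :=
  TensorProduct.induction_on t zero tmul add

lemma dT_X_smul (t : (E R).obj M) : dT M ((X : R[X]) • t) = t := by
  induction t using tm_induction with
  | zero => rw [smul_zero, map_zero]
  | tmul s m => rw [smul_tm, dT_tm, divX_X_mul]
  | add a b ha hb => rw [smul_add, map_add, ha, hb]

lemma X_smul_dT_add_cT (t : (E R).obj M) : (X : R[X]) • dT M t + cT M t = t := by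
  induction t using tm_induction with
  | zero => rw [map_zero, map_zero, smul_zero, add_zero]
  | tmul s m => rw [dT_tm, cT_tm, smul_tm, ← tm_add, Polynomial.X_mul_divX_add]
  | add a b ha hb => rw [map_add, map_add, smul_add, add_add_add_comm, ha, hb]

lemma tm_zero (s : R[X]) : tm M s 0 = 0 := TensorProduct.tmul_zero _ _

lemma tm_add' (s : R[X]) (m m' : M) : tm M s (m + m') = tm M s m + tm M s m' :=
  TensorProduct.tmul_add _ _ _

lemma tm_smul (r : R) (s : R[X]) (m : M) : tm M (C r * s) m = tm M s (r • m) := by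
  have h := TensorProduct.smul_tmul (R := R) (R' := R) (M := S' R) (N := M) r (ofP s) m
  exact h

/-- the projection, as an additive map to `M` -/
noncomputable def qf : (E R).obj M →+ M where
  toFun t := ((q R).app M).hom t
  map_zero' := map_zero _
  map_add' := map_add _

lemma qf_apply (t : (E R).obj M) : qf M t = ((q R).app M).hom t := rfl

lemma smul_res (s : R[X]) (x : (Res R).obj M) : s • x = (s.coeff 0) • (show M from x) := by
  rw [Polynomial.coeff_zero_eq_eval_zero]
  rfl

lemma qf_tm (s : R[X]) (m : M) : qf M (tm M s m) = (s.coeff 0) • m := by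
  have h1 : tm M s m = s • tm M 1 m := by rw [smul_tm, mul_one]
  rw [h1, qf_apply, map_smul]
  have h2 : ((q R).app M).hom (tm M 1 m) = m := q_one_tmul M m
  rw [h2]
  exact smul_res M s m

lemma qf_smul (s : R[X]) (t : (E R).obj M) : qf M (s • t) = (s.coeff 0) • qf M t := by
  rw [qf_apply, map_smul]
  exact smul_res M s _

lemma cT_eq (t : (E R).obj M) : cT M t = tm M 1 (qf M t) := by
  induction t using tm_induction with
  | zero => rw [map_zero, map_zero, tm_zero]
  | tmul s m => rw [cT_tm, qf_tm, ← tm_smul, mul_one]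
  | add a b ha hb => rw [map_add, map_add, ha, hb, tm_add']

lemma injective_X_smul : Function.Injective (fun t : (E R).obj M => (X : R[X]) • t) := by
  intro t₁ t₂ h
  have := congrArg (dT M) h
  simpa only [dT_X_smul] using this

lemma exact_X_smul_qf (t : (E R).obj M) : qf M t = 0 ↔ ∃ t', (X : R[X]) • t' = t := by
  constructor
  · intro h
    refine ⟨dT M t, ?_⟩
    have h1 := X_smul_dT_add_cT M t
    rw [cT_eq, h, tm_zero, add_zero] at h1
    exact h1
  · rintro ⟨t', rfl⟩
    rw [qf_smul, Polynomial.coeff_X_zero, zero_smul]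

lemma surjective_qf : Function.Surjective (qf M) := fun m =>
  ⟨tm M 1 m, by rw [qf_tm, Polynomial.coeff_one_zero, one_smul]⟩

/-- multiplication by `x` -/
noncomputable def mx (N : ModuleCat.{u} R[X]) : N ⟶ N := (X : R[X]) • 𝟙 N

lemma mx_apply (N : ModuleCat.{u} R[X]) (t : N) : (mx N).hom t = (X : R[X]) • t := by
  simp [mx]

lemma mx_q : mx ((E R).obj M) ≫ (q R).app M = 0 := by
  refine ModuleCat.hom_ext (LinearMap.ext fun (t : (E R).obj M) => ?_)
  change ((q R).app M).hom ((mx ((E R).obj M)).hom t) = 0
  rw [mx_apply]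
  exact ((exact_X_smul_qf M _).2 ⟨_, rfl⟩)

/-- the short exact sequence `0 → M[x] → M[x] → M → 0` -/
noncomputable def sesM : ShortComplex (ModuleCat.{u} R[X]) :=
  ShortComplex.mk (mx ((E R).obj M)) ((q R).app M) (mx_q M)

lemma sesM_shortExact : (sesM M).ShortExact := by
  apply ModuleCat.shortComplex_shortExact
  · intro (t : (E R).obj M)
    change qf M t = 0 ↔ t ∈ Set.range (mx ((E R).obj M)).hom
    rw [exact_X_smul_qf]
    constructor
    · rintro ⟨t', rfl⟩
      exact ⟨t', mx_apply _ t'⟩
    · rintro ⟨t', rfl⟩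
      exact ⟨t', (mx_apply _ t').symm⟩
  · intro (t₁ : (E R).obj M) (t₂ : (E R).obj M) h
    apply injective_X_smul M
    change (mx ((E R).obj M)).hom t₁ = (mx ((E R).obj M)).hom t₂ at h
    rw [mx_apply, mx_apply] at h
    exact h
  · exact surjective_qf M

/-- extension of scalars along `x ↦ 0` kills multiplication by `x` -/
lemma extendScalars_map_mx (N : ModuleCat.{u} R[X]) :
    (ModuleCat.extendScalars.{u, u, u} (φ R)).map (mx N) = 0 := by
  ext n
  change (1 : R) ⊗ₜ[R[X], φ R] ((mx N).hom n) = 0
  rw [mx_apply]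
  have h := TensorProduct.smul_tmul (R := R[X]) (R' := R[X])
    (M := (ModuleCat.restrictScalars (φ R)).obj (ModuleCat.of R R)) (N := N) (X : R[X])
    (show (ModuleCat.restrictScalars (φ R)).obj (ModuleCat.of R R) from (1 : R)) n
  refine h.symm.trans ?_
  have h0 : (X : R[X]) • (show (ModuleCat.restrictScalars (φ R)).obj (ModuleCat.of R R) from (1 : R))
      = 0 := by
    change (φ R) X * (1 : R) = 0
    simp
  rw [h0, TensorProduct.zero_tmul]
  rfl

end Groth.Agent.Lib.Helper8.PolyKos
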