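import Mathlib
import Groth.Agent.Lib.Helper8.PolyKos1
import Groth.Agent.Lib.Helper16.LDer2
import Groth.Agent.Lib.Helper16.KPR6
import Groth.Agent.Lib.Helper16.KPR1
import Groth.Agent.Lib.Helper16.KF10

/-!
# Helper8 — PolyKos2: `K ⊗^L_{R[x]} R ≅ K ⊕ K[1]` for `K` in `D(R)` (S6982)
-/

set_option autoImplicit false

open CategoryTheory CategoryTheory.Limits CategoryTheory.Pretriangulated Polynomial DerivedCategory

namespace Groth.Agent.Lib.Helper8.PolyKos

universe u

attribute [local instance] HasDerivedCategory.standard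

variable {R : Type u} [CommRing R] (P : DRing.Cx R)

/-- `P[x]` -/
noncomputable abbrev EP : DRing.Cx R[X] := ((E R).mapHomologicalComplex (ComplexShape.up ℤ)).obj P

/-- `P` with `x` acting by zero -/
noncomputable abbrev ResP : DRing.Cx R[X] :=
  ((Res R).mapHomologicalComplex (ComplexShape.up ℤ)).obj P

/-- multiplication by `x` on `P[x]` -/
noncomputable def mxC : EP P ⟶ EP P := (X : R[X]) • 𝟙 (EP P)

/-- the projection `P[x] → P` -/
noncomputable def qC : EP P ⟶ ResP P := (NatTrans.mapHomologicalComplex (q R) (ComplexShape.up ℤ)).app P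

lemma mxC_f (i : ℤ) : (mxC P).f i = mx ((E R).obj (P.X i)) := by
  simp only [mxC, mx, HomologicalComplex.smul_f_apply, HomologicalComplex.id_f]
  rfl

lemma qC_f (i : ℤ) : (qC P).f i = (q R).app (P.X i) := rfl

lemma mxC_qC : mxC P ≫ qC P = 0 := by
  ext i : 1
  rw [HomologicalComplex.comp_f, mxC_f, qC_f]
  exact mx_q (P.X i)

/-- the short exact sequence `0 → P[x] → P[x] → P → 0` -/
noncomputable def sesC : ShortComplex (DRing.Cx R[X]) := ShortComplex.mk (mxC P) (qC P) (mxC_qC P)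

lemma sesC_shortExact : (sesC P).ShortExact := by
  apply HomologicalComplex.shortExact_of_degreewise_shortExact
  intro i
  refine ShortComplex.shortExact_of_iso ?_ (sesM_shortExact (P.X i))
  exact ShortComplex.isoMk (Iso.refl _) (Iso.refl _) (Iso.refl _)
    (by
      change 𝟙 _ ≫ (mxC P).f i = mx _ ≫ 𝟙 _
      rw [Category.id_comp, Category.comp_id, mxC_f]
      rfl)
    (by
      change 𝟙 _ ≫ (qC P).f i = (q R).app _ ≫ 𝟙 _
      rw [Category.id_comp, Category.comp_id, qC_f])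

/-- the Koszul-type resolution of `P` over `R[x]` -/
noncomputable abbrev coneP : DRing.Cx R[X] := CochainComplex.mappingCone (mxC P)

instance [P.IsKProjective] : (EP P).IsKProjective :=
  Groth.Agent.Lib.Helper16.KPR.isKProjective_extCx (ι R) P

instance [P.IsKProjective] : (coneP P).IsKProjective :=
  Groth.Agent.Lib.Helper16.KPR.isKProjective_mappingCone (mxC P)

/-- the resolution map -/
noncomputable def descP : coneP P ⟶ ResP P := CochainComplex.mappingCone.descShortComplex (sesC P)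

instance : QuasiIso (descP P) :=
  CochainComplex.mappingCone.quasiIso_descShortComplex (sesC_shortExact P)

lemma extCx_map_mxC :
    ((ModuleCat.extendScalars.{u, u, u} (φ R)).mapHomologicalComplex (ComplexShape.up ℤ)).map (mxC P) = 0 := by
  ext i : 1
  rw [Functor.mapHomologicalComplex_map_f, mxC_f]
  exact extendScalars_map_mx ((E R).obj (P.X i))

/-- `(M[x]) ⊗_{R[x]} R ≅ M` -/
noncomputable def βN : E R ⋙ ModuleCat.extendScalars.{u, u, u} (φ R) ≅ 𝟭 (ModuleCat.{u} R) :=
  (ModuleCat.extendScalarsComp (ι R) (φ R)).symm ≪≫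
    eqToIso (congrArg ModuleCat.extendScalars (φ_comp_ι R).symm) ≪≫ ModuleCat.extendScalarsId R

/-- `(P[x]) ⊗_{R[x]} R ≅ P` -/
noncomputable def βP :
    ((ModuleCat.extendScalars.{u, u, u} (φ R)).mapHomologicalComplex (ComplexShape.up ℤ)).obj (EP P) ≅ P :=
  HomologicalComplex.Hom.isoOfComponents (fun i => βN.app (P.X i)) (fun i j _ => by
    exact (βN.hom.naturality (P.d i j)).symm)

/-- the cone of a zero map splits in the derived category -/
lemma exists_iso_biprod_of_cone_zero {A B : DRing.Cx R} (f : A ⟶ B) (hf : f = 0) :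
    Nonempty (Q.obj (CochainComplex.mappingCone f) ≅ Q.obj B ⊞ (Q.obj A)⟦(1 : ℤ)⟧) := by
  have hT := DerivedCategory.mappingCone_triangle_distinguished f
  have hT' := rot_of_distTriang _ hT
  obtain ⟨e, -, -⟩ := exists_iso_binaryBiproduct_of_distTriang _ hT' (by
    subst hf
    change -(shiftFunctor (DerivedCategory (ModuleCat.{u} R)) (1 : ℤ)).map (Q.map (0 : A ⟶ B)) = 0
    rw [Functor.map_zero, Functor.map_zero, neg_zero])
  exact ⟨e⟩

/-- any two binary biproducts are isomorphic -/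
lemma nonempty_biprod_iso {C : Type*} [Category C] [HasZeroMorphisms C] (X Y : C)
    (h₁ h₂ : HasBinaryBiproduct X Y) :
    Nonempty ((@biprod _ _ _ X Y h₁) ≅ (@biprod _ _ _ X Y h₂)) :=
  ⟨@biprod.uniqueUpToIso _ _ _ X Y h₂ _ (@BinaryBiproduct.isBilimit _ _ _ X Y h₁)⟩

theorem main [DRing.HasLBaseChange (φ R)] (K : Dual.D R)
    [hb : HasBinaryBiproduct K ((shiftFunctor (Dual.D R) (1 : ℤ)).obj K)] :
    Nonempty ((DRing.LBaseChange (φ R)).obj ((DRing.restrictD (φ R)).obj K) ≅
      K ⊞ (shiftFunctor (Dual.D R) (1 : ℤ)).obj K) := by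
  obtain ⟨P, hP, -, -, ⟨e⟩⟩ := Groth.Agent.Lib.Helper16.KF.exists_kprojective_kflat K
  haveI := hP
  -- restriction
  let i1 : (DRing.restrictD (φ R)).obj K ≅ Q.obj (ResP P) :=
    (DRing.restrictD (φ R)).mapIso e.symm ≪≫
      ((ModuleCat.restrictScalars.{u} (φ R)).mapDerivedCategoryFactors).app P
  let i2 : Q.obj (coneP P) ≅ Q.obj (ResP P) := asIso (Q.map (descP P))
  let i3 := Groth.Agent.Lib.Helper16.LDer.lBaseChangeIso (φ R) (coneP P)
  let i4 := Q.mapIso (CochainComplex.mappingCone.mapHomologicalComplexIso (mxC P)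
    (ModuleCat.extendScalars.{u, u, u} (φ R)))
  obtain ⟨i5⟩ := exists_iso_biprod_of_cone_zero _ (extCx_map_mxC P)
  let i6 : Q.obj (((ModuleCat.extendScalars.{u, u, u} (φ R)).mapHomologicalComplex
      (ComplexShape.up ℤ)).obj (EP P)) ≅ K := Q.mapIso (βP P) ≪≫ e
  let i7 := biprod.mapIso i6 ((shiftFunctor (Dual.D R) (1 : ℤ)).mapIso i6)
  obtain ⟨i8⟩ := nonempty_biprod_iso K ((shiftFunctor (Dual.D R) (1 : ℤ)).obj K) inferInstance hb
  exact ⟨(DRing.LBaseChange (φ R)).mapIso (i1 ≪≫ i2.symm) ≪≫ i3 ≪≫ i4 ≪≫ i5 ≪≫ i7 ≪≫ i8⟩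

end Groth.Agent.Lib.Helper8.PolyKos
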