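import Mathlib.CategoryTheory.Triangulated.Pretriangulated
import Mathlib.CategoryTheory.Triangulated.Triangulated
import Mathlib.Algebra.Homology.HomologicalComplex
import Mathlib.Tactic

/-! Dévissage lemmas for Postnikov systems in (pre)triangulated categories. -/

set_option autoImplicit false
set_option linter.unusedSectionVars false
universe v u

open CategoryTheory CategoryTheory.Limits CategoryTheory.Pretriangulated

namespace Groth.Agent.Lib.Helper8.Postnikov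

variable {D : Type u} [Category.{v} D] [Preadditive D] [HasZeroObject D] [HasShift D ℤ]
  [∀ n : ℤ, (shiftFunctor D n).Additive] [Pretriangulated D]

/-- Transport of Hom-vanishing along an equality of shifts. -/
lemma homZero_congr {W Z : D} {p q : ℤ} (h : p = q)
    (hp : ∀ ψ : (shiftFunctor D p).obj W ⟶ Z, ψ = 0) :
    ∀ ψ : (shiftFunctor D q).obj W ⟶ Z, ψ = 0 := by
  subst h
  exact hp

/-- INJ: in a distinguished triangle `Y' →a X →b Y →c Y'⟦1⟧`, composition with `a` is injective on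
`Hom(V, Y')` as soon as `Hom(V⟦1⟧, Y) = 0`. -/
lemma inj_of_homZero {Y' X Y : D} (a : Y' ⟶ X) (b : X ⟶ Y) (c : Y ⟶ (shiftFunctor D (1 : ℤ)).obj Y')
    (hT : Triangle.mk a b c ∈ distTriang D) (V : D)
    (hV : ∀ ψ' : (shiftFunctor D (1 : ℤ)).obj V ⟶ Y, ψ' = 0)
    (ψ : V ⟶ Y') (hψ : ψ ≫ a = 0) : ψ = 0 := by
  obtain ⟨g, hg⟩ := Triangle.coyoneda_exact₁ _ hT ((shiftFunctor D (1 : ℤ)).map ψ) (by
    change (shiftFunctor D (1 : ℤ)).map ψ ≫ (shiftFunctor D (1 : ℤ)).map a = 0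
    rw [← Functor.map_comp, hψ, Functor.map_zero])
  have hg0 : g = 0 := hV g
  rw [hg0, zero_comp] at hg
  exact (shiftFunctor D (1 : ℤ)).map_injective (hg.trans ((shiftFunctor D (1 : ℤ)).map_zero _ _).symm)

/-- DV: dévissage of Hom-vanishing (shifted source) along a distinguished triangle. -/
lemma homZero_of_triangle {Y' X Y : D} (a : Y' ⟶ X) (b : X ⟶ Y)
    (c : Y ⟶ (shiftFunctor D (1 : ℤ)).obj Y')
    (hT : Triangle.mk a b c ∈ distTriang D) (W : D) (p q : ℤ) (hpq : p + 1 = q)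
    (hX : ∀ ψ : (shiftFunctor D p).obj W ⟶ X, ψ = 0)
    (hY : ∀ ψ : (shiftFunctor D q).obj W ⟶ Y, ψ = 0) :
    ∀ ψ : (shiftFunctor D p).obj W ⟶ Y', ψ = 0 := by
  intro ψ
  refine inj_of_homZero a b c hT _ ?_ ψ (hX _)
  intro ψ'
  let e := (shiftFunctorAdd' D p 1 q hpq).app W
  have : e.hom ≫ ψ' = 0 := hY _
  calc ψ' = e.inv ≫ e.hom ≫ ψ' := by rw [Iso.inv_hom_id_assoc]
    _ = 0 := by rw [this, comp_zero]

section System

variable (X' : ChainComplex D ℕ) (n : ℕ) (Y : ℕ → D) (a : ∀ k, Y k ⟶ X'.X k)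
  (b : ∀ k, X'.X (k + 1) ⟶ Y k) (c : ∀ k, Y k ⟶ (shiftFunctor D (1 : ℤ)).obj (Y (k + 1)))
  (h0 : IsIso (a 0))
  (hP : ∀ k, k < n → Triangle.mk (a (k + 1)) (b k) (c k) ∈ distinguishedTriangles ∧
    b k ≫ a k = X'.d (k + 1) k)

include h0 hP in
/-- Dévissage: Hom-vanishing into the terms of the complex gives Hom-vanishing into the terms of
a Postnikov system. -/
lemma vanish (W : D) (t : ℤ) (m : ℕ) (hm : m ≤ n)
    (hX : ∀ j, j ≤ m → ∀ ψ : (shiftFunctor D (t - (j : ℤ))).obj W ⟶ X'.X j, ψ = 0) :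
    ∀ j, j ≤ m → ∀ ψ : (shiftFunctor D (t - (j : ℤ))).obj W ⟶ Y j, ψ = 0 := by
  intro j
  induction j with
  | zero =>
    intro hj ψ
    have h1 : ψ ≫ a 0 = 0 := hX 0 hj _
    calc ψ = (ψ ≫ a 0) ≫ inv (a 0) := by rw [Category.assoc, IsIso.hom_inv_id, Category.comp_id]
      _ = 0 := by rw [h1, zero_comp]
  | succ j ih =>
    intro hj ψ
    obtain ⟨hT, _⟩ := hP j (by omega)
    exact homZero_of_triangle (a (j + 1)) (b j) (c j) hT W (t - ((j + 1 : ℕ) : ℤ)) (t - (j : ℤ))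
      (by push_cast; ring) (hX (j + 1) hj) (ih (by omega)) ψ

end System

end Groth.Agent.Lib.Helper8.Postnikov
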