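import Groth.Agent.Lib.Helper8.Postnikov

/-! More dévissage lemmas for Postnikov systems: source-side dévissage and shift adjunction. -/

set_option autoImplicit false
set_option linter.unusedSectionVars false
universe v u

open CategoryTheory CategoryTheory.Limits CategoryTheory.Pretriangulated

namespace Groth.Agent.Lib.Helper8.Postnikov

variable {D : Type u} [Category.{v} D] [Preadditive D] [HasZeroObject D] [HasShift D ℤ]
  [∀ n : ℤ, (shiftFunctor D n).Additive] [Pretriangulated D]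

/-- Transport of Hom-vanishing along an equality of shifts on the target. -/
lemma homZero_congr' {W Z : D} {p q : ℤ} (h : p = q)
    (hp : ∀ ψ : W ⟶ (shiftFunctor D p).obj Z, ψ = 0) :
    ∀ ψ : W ⟶ (shiftFunctor D q).obj Z, ψ = 0 := by
  subst h
  exact hp

/-- If every map out of `Y'` that vanishes on ... : in a distinguished triangle
`Y' →a X →b Y →c Y'⟦1⟧`, a map `ψ : Y' ⟶ Z` with `c ≫ ψ⟦1⟧ = 0` factors through `a`. -/
lemma factors_through_a {Y' X Y : D} (a : Y' ⟶ X) (b : X ⟶ Y)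
    (c : Y ⟶ (shiftFunctor D (1 : ℤ)).obj Y')
    (hT : Triangle.mk a b c ∈ distTriang D) {Z : D} (ψ : Y' ⟶ Z)
    (hψ : c ≫ (shiftFunctor D (1 : ℤ)).map ψ = 0) : ∃ g : X ⟶ Z, ψ = a ≫ g := by
  obtain ⟨g', hg'⟩ : ∃ g' : (shiftFunctor D (1 : ℤ)).obj X ⟶ (shiftFunctor D (1 : ℤ)).obj Z,
      (shiftFunctor D (1 : ℤ)).map ψ = (-(shiftFunctor D (1 : ℤ)).map a) ≫ g' :=
    Triangle.yoneda_exact₃ _ (rot_of_distTriang _ hT) ((shiftFunctor D (1 : ℤ)).map ψ) hψ
  refine ⟨-(shiftFunctor D (1 : ℤ)).preimage g', ?_⟩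
  apply (shiftFunctor D (1 : ℤ)).map_injective
  rw [hg', Functor.map_comp, Functor.map_neg, Functor.map_preimage, Preadditive.neg_comp,
    Preadditive.comp_neg]

/-- DVS': source-side dévissage with the shift on the target. -/
lemma homZero_of_triangle_src {Y' X Y : D} (a : Y' ⟶ X) (b : X ⟶ Y)
    (c : Y ⟶ (shiftFunctor D (1 : ℤ)).obj Y')
    (hT : Triangle.mk a b c ∈ distTriang D) (Z : D) (p q : ℤ) (hpq : p + 1 = q)
    (hX : ∀ ψ : X ⟶ (shiftFunctor D p).obj Z, ψ = 0)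
    (hY : ∀ ψ : Y ⟶ (shiftFunctor D q).obj Z, ψ = 0) :
    ∀ ψ : Y' ⟶ (shiftFunctor D p).obj Z, ψ = 0 := by
  intro ψ
  obtain ⟨g, hg⟩ := factors_through_a a b c hT ψ (by
    let e := (shiftFunctorAdd' D p 1 q hpq).app Z
    have h1 : (c ≫ (shiftFunctor D (1 : ℤ)).map ψ) ≫ e.inv = 0 := hY _
    calc c ≫ (shiftFunctor D (1 : ℤ)).map ψ
        = ((c ≫ (shiftFunctor D (1 : ℤ)).map ψ) ≫ e.inv) ≫ e.hom := by
          rw [Category.assoc, Iso.inv_hom_id, Category.comp_id]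
      _ = 0 := by rw [h1, zero_comp])
  rw [hg, hX g, comp_zero]

/-- ADJ: `Hom(W⟦-s⟧, Z) = 0` implies `Hom(W, Z⟦s⟧) = 0`. -/
lemma homZero_adj {W Z : D} (s s' : ℤ) (hs : s + s' = 0)
    (h : ∀ ψ : (shiftFunctor D s').obj W ⟶ Z, ψ = 0) :
    ∀ ψ : W ⟶ (shiftFunctor D s).obj Z, ψ = 0 := by
  intro ψ
  let e := (shiftFunctorCompIsoId D s s' hs).app Z
  have h1 : (shiftFunctor D s').map ψ ≫ e.hom = 0 := h _
  have h2 : (shiftFunctor D s').map ψ = 0 := by
    calc (shiftFunctor D s').map ψ = ((shiftFunctor D s').map ψ ≫ e.hom) ≫ e.inv := by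
          rw [Category.assoc, Iso.hom_inv_id, Category.comp_id]
      _ = 0 := by rw [h1, zero_comp]
  exact (shiftFunctor D s').map_injective (h2.trans ((shiftFunctor D s').map_zero _ _).symm)

/-- ADJ': `Hom(W, Z⟦-s⟧) = 0` implies `Hom(W⟦s⟧, Z) = 0`. -/
lemma homZero_adj' {W Z : D} (s s' : ℤ) (hs : s + s' = 0)
    (h : ∀ ψ : W ⟶ (shiftFunctor D s').obj Z, ψ = 0) :
    ∀ ψ : (shiftFunctor D s).obj W ⟶ Z, ψ = 0 := by
  intro ψ
  let e := (shiftFunctorCompIsoId D s s' hs).app W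
  have h1 : e.inv ≫ (shiftFunctor D s').map ψ = 0 := h _
  have h2 : (shiftFunctor D s').map ψ = 0 := by
    calc (shiftFunctor D s').map ψ = e.hom ≫ e.inv ≫ (shiftFunctor D s').map ψ := by
          rw [Iso.hom_inv_id_assoc]
      _ = 0 := by rw [h1, comp_zero]
  exact (shiftFunctor D s').map_injective (h2.trans ((shiftFunctor D s').map_zero _ _).symm)

section System

variable (X : ChainComplex D ℕ) (n : ℕ) (Y : ℕ → D) (a : ∀ k, Y k ⟶ X.X k)
  (b : ∀ k, X.X (k + 1) ⟶ Y k) (c : ∀ k, Y k ⟶ (shiftFunctor D (1 : ℤ)).obj (Y (k + 1)))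
  (h0 : IsIso (a 0))
  (hP : ∀ k, k < n → Triangle.mk (a (k + 1)) (b k) (c k) ∈ distinguishedTriangles ∧
    b k ≫ a k = X.d (k + 1) k)

include h0 hP in
/-- Source-side dévissage: Hom-vanishing out of the terms of the complex gives Hom-vanishing out
of the terms of a Postnikov system. -/
lemma vanishS (Z : D) (t : ℤ) (m : ℕ) (hm : m ≤ n)
    (hX : ∀ j, j ≤ m → ∀ ψ : X.X j ⟶ (shiftFunctor D (t - (j : ℤ))).obj Z, ψ = 0) :
    ∀ j, j ≤ m → ∀ ψ : Y j ⟶ (shiftFunctor D (t - (j : ℤ))).obj Z, ψ = 0 := by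
  intro j
  induction j with
  | zero =>
    intro hj ψ
    have h1 : inv (a 0) ≫ ψ = 0 := hX 0 hj _
    calc ψ = a 0 ≫ inv (a 0) ≫ ψ := by rw [IsIso.hom_inv_id_assoc]
      _ = 0 := by rw [h1, comp_zero]
  | succ j ih =>
    intro hj ψ
    obtain ⟨hT, _⟩ := hP j (by omega)
    exact homZero_of_triangle_src (a (j + 1)) (b j) (c j) hT Z (t - ((j + 1 : ℕ) : ℤ)) (t - (j : ℤ))
      (by push_cast; ring) (hX (j + 1) hj) (ih (by omega)) ψ

end System

end Groth.Agent.Lib.Helper8.Postnikov
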