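import Mathlib
import Groth.Agent.Lib.Helper2.LCCech4

/-! # Helper8 — PowTen1: a map of complexes of modules sending cycles to boundaries is zero on homology; the multiplication map `J ⊗ X → X` (towards S14102) -/

set_option autoImplicit false

universe w u

open CategoryTheory CategoryTheory.Limits MonoidalCategory TensorProduct

namespace Groth.Agent.Lib.Helper8.PowTen

variable {A : Type u} [CommRing A]

/-- a morphism of complexes of modules which sends cycles to boundaries is zero on homology -/
lemma homologyMap_eq_zero_of_boundary {C D : CochainComplex (ModuleCat.{u} A) ℤ} (φ : C ⟶ D) (q : ℤ)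
    (h : ∀ z : C.X q, (C.d q (q + 1)).hom z = 0 →
      ∃ w : D.X (q - 1), (D.d (q - 1) q).hom w = (φ.f q).hom z) :
    HomologicalComplex.homologyMap φ q = 0 := by
  rw [← cancel_epi (C.homologyπ q), comp_zero, HomologicalComplex.homologyπ_naturality]
  ext z'
  have hz : (C.d q (q + 1)).hom ((C.iCycles q).hom z') = 0 := by
    have h0 := C.iCycles_d q (q + 1)
    exact congrArg (fun t => t.hom z') h0
  obtain ⟨w, hw⟩ := h _ hz
  have h1 : (HomologicalComplex.cyclesMap φ q).hom z' = (D.toCycles (q - 1) q).hom w := by
    apply (ModuleCat.mono_iff_injective (D.iCycles q)).1 inferInstance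
    have e1 : (D.iCycles q).hom ((HomologicalComplex.cyclesMap φ q).hom z') =
        (φ.f q).hom ((C.iCycles q).hom z') :=
      congrArg (fun t => t.hom z') (HomologicalComplex.cyclesMap_i φ q)
    have e2 : (D.iCycles q).hom ((D.toCycles (q - 1) q).hom w) = (D.d (q - 1) q).hom w :=
      congrArg (fun t => t.hom w) (D.toCycles_i (q - 1) q)
    rw [e1, e2, hw]
  have h2 : (D.homologyπ q).hom ((D.toCycles (q - 1) q).hom w) = 0 :=
    congrArg (fun t => t.hom w) (D.toCycles_comp_homologyπ (q - 1) q)
  change (D.homologyπ q).hom ((HomologicalComplex.cyclesMap φ q).hom z') = 0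
  rw [h1, h2]

section J

variable (J : Ideal A) (X : Type u) [AddCommGroup X] [Module A X]

/-- multiplication `J ⊗ X → X` -/
noncomputable def jL : ↥J ⊗[A] X →ₗ[A] X :=
  TensorProduct.lift ((LinearMap.lsmul A X).comp J.subtype)

@[simp] lemma jL_tmul (x : J) (y : X) : jL J X (x ⊗ₜ y) = (x : A) • y := rfl

lemma jL_eq : jL J X = (TensorProduct.lid A X).toLinearMap ∘ₗ (J.subtype.rTensor X) := by
  apply TensorProduct.ext'
  intro x y
  simp

lemma jL_injective [Module.Flat A X] : Function.Injective (jL J X) := by
  rw [jL_eq]
  exact (TensorProduct.lid A X).injective.comp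
    (Module.Flat.rTensor_preserves_injective_linearMap _ J.subtype_injective)

lemma range_jL : LinearMap.range (jL J X) = J • (⊤ : Submodule A X) := by
  apply le_antisymm
  · rintro _ ⟨z, rfl⟩
    induction z using TensorProduct.induction_on with
    | zero => simp
    | tmul x y =>
      rw [jL_tmul]
      exact Submodule.smul_mem_smul x.2 Submodule.mem_top
    | add a b ha hb =>
      rw [map_add]
      exact Submodule.add_mem _ ha hb
  · rw [Submodule.smul_le]
    intro r hr y _
    exact ⟨(⟨r, hr⟩ : J) ⊗ₜ y, rfl⟩

end J

end Groth.Agent.Lib.Helper8.PowTen
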