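import Mathlib
import Groth.Agent.Lib.Helper8.PowTen1

/-! # Helper8 — PowTen2: the complexes `J^k ⊗ K`, Artin–Rees, and vanishing of the transition maps on cohomology (towards S14102) -/

set_option autoImplicit false

universe w u

open CategoryTheory CategoryTheory.Limits MonoidalCategory TensorProduct

namespace Groth.Agent.Lib.Helper8.PowTen

variable {A : Type u} [CommRing A]

/-- if `x` kills `H^q(K)` then `x • z` is a boundary for every cycle `z` -/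
lemma exists_d_eq_smul (K : CochainComplex (ModuleCat.{u} A) ℤ) (q : ℤ) (x : A)
    (hx : ∀ c : ↑(K.homology q), x • c = 0) (z : K.X q) (hz : (K.d q (q + 1)).hom z = 0) :
    ∃ w : K.X (q - 1), (K.d (q - 1) q).hom w = x • z := by
  have e1 : (ShortComplex.mk (K.iCycles q) (K.d q (q + 1)) (K.iCycles_d q (q + 1))).Exact :=
    ShortComplex.exact_of_f_is_kernel _ (K.cyclesIsKernel q (q + 1) (by simp))
  have e2 : (ShortComplex.mk (K.toCycles (q - 1) q) (K.homologyπ q)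
      (K.toCycles_comp_homologyπ (q - 1) q)).Exact :=
    ShortComplex.exact_of_g_is_cokernel _ (K.homologyIsCokernel (q - 1) q (by simp))
  rw [ShortComplex.moduleCat_exact_iff] at e1 e2
  obtain ⟨z', hz'⟩ := e1 z hz
  have h0 : (K.homologyπ q).hom (x • z') = 0 := by
    rw [LinearMap.map_smul]
    exact hx _
  obtain ⟨w, hw⟩ := e2 (x • z') h0
  refine ⟨w, ?_⟩
  have h1 : (K.iCycles q).hom ((K.toCycles (q - 1) q).hom w) = (K.d (q - 1) q).hom w :=
    congrArg (fun t => t.hom w) (K.toCycles_i (q - 1) q)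
  rw [← h1]
  change (K.iCycles q).hom ((K.toCycles (q - 1) q).hom w) = x • z
  have hw' : (K.toCycles (q - 1) q).hom w = x • z' := hw
  have hz'' : (K.iCycles q).hom z' = z := hz'
  rw [hw', LinearMap.map_smul, hz'']

/-- Artin–Rees consequence: if `J • ker d₁ ≤ range d₀` then cycles in `J^k X₁` are boundaries of
elements of `J^l X₀` as soon as `k ≥ c + l + 1`. -/
lemma exists_AR_bound [IsNoetherianRing A] (J : Ideal A) {X₀ X₁ X₂ : Type u}
    [AddCommGroup X₀] [Module A X₀] [AddCommGroup X₁] [Module A X₁] [AddCommGroup X₂] [Module A X₂]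
    [Module.Finite A X₁] (d₀ : X₀ →ₗ[A] X₁) (d₁ : X₁ →ₗ[A] X₂)
    (h : J • LinearMap.ker d₁ ≤ LinearMap.range d₀) :
    ∃ c : ℕ, ∀ k l : ℕ, c + l + 1 ≤ k →
      (J ^ k • (⊤ : Submodule A X₁)) ⊓ LinearMap.ker d₁ ≤
        Submodule.map d₀ (J ^ l • (⊤ : Submodule A X₀)) := by
  obtain ⟨c, hc⟩ := Ideal.exists_pow_inf_eq_pow_smul J (LinearMap.ker d₁)
  refine ⟨c, fun k l hkl => ?_⟩
  rw [hc k (by omega)]
  have h1 : J ^ (k - c) ≤ J ^ l * J := by
    rw [← pow_succ]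
    exact Ideal.pow_le_pow_right (by omega)
  calc J ^ (k - c) • (J ^ c • ⊤ ⊓ LinearMap.ker d₁)
      ≤ (J ^ l * J) • LinearMap.ker d₁ := Submodule.smul_mono h1 inf_le_right
    _ = J ^ l • (J • LinearMap.ker d₁) := Submodule.mul_smul _ _ _
    _ ≤ J ^ l • LinearMap.range d₀ := Submodule.smul_mono le_rfl h
    _ = Submodule.map d₀ (J ^ l • (⊤ : Submodule A X₀)) := by
        rw [Submodule.map_smul'', Submodule.map_top]

variable (J : Ideal A) (K : CochainComplex (ModuleCat.{u} A) ℤ)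

/-- `J^k ⊗ K` -/
noncomputable abbrev F (k : ℕ) : CochainComplex (ModuleCat.{u} A) ℤ :=
  (((curriedTensor (ModuleCat.{u} A)).obj (ModuleCat.of A ↥(J ^ k))).mapHomologicalComplex
    (ComplexShape.up ℤ)).obj K

/-- the transition map `J^k ⊗ K → J^l ⊗ K` -/
noncomputable abbrev τ (k l : ℕ) (h : l ≤ k) : F J K k ⟶ F J K l :=
  (NatTrans.mapHomologicalComplex ((curriedTensor (ModuleCat.{u} A)).map
    (ModuleCat.ofHom (Submodule.inclusion (p := J ^ k) (p' := J ^ l)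
      (Ideal.pow_le_pow_right h)))) (ComplexShape.up ℤ)).app K

lemma F_d_tmul (k : ℕ) (i j : ℤ) (x : ↥(J ^ k)) (y : K.X i) :
    ((F J K k).d i j).hom (x ⊗ₜ[A] y) = x ⊗ₜ[A] (K.d i j).hom y := rfl

lemma τ_f_tmul (k l : ℕ) (h : l ≤ k) (i : ℤ) (x : ↥(J ^ k)) (y : K.X i) :
    ((τ J K k l h).f i).hom (x ⊗ₜ[A] y) =
      (Submodule.inclusion (p := J ^ k) (p' := J ^ l) (Ideal.pow_le_pow_right h) x) ⊗ₜ[A] y := rfl

/-- the differential of `J^k ⊗ K` as a plain linear map on the tensor product -/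
noncomputable def dL (k : ℕ) (i j : ℤ) : ↥(J ^ k) ⊗[A] (K.X i) →ₗ[A] ↥(J ^ k) ⊗[A] (K.X j) :=
  ((F J K k).d i j).hom

/-- the transition map as a plain linear map on the tensor product -/
noncomputable def τL (k l : ℕ) (h : l ≤ k) (i : ℤ) :
    ↥(J ^ k) ⊗[A] (K.X i) →ₗ[A] ↥(J ^ l) ⊗[A] (K.X i) :=
  ((τ J K k l h).f i).hom

lemma jL_comp_dL (k : ℕ) (i j : ℤ) :
    (jL (J ^ k) (K.X j)) ∘ₗ (dL J K k i j) = (K.d i j).hom ∘ₗ (jL (J ^ k) (K.X i)) := by
  apply TensorProduct.ext'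
  intro x y
  change jL (J ^ k) (K.X j) (x ⊗ₜ[A] (K.d i j).hom y) = (K.d i j).hom (jL (J ^ k) (K.X i) (x ⊗ₜ[A] y))
  rw [jL_tmul, jL_tmul, LinearMap.map_smul]

lemma jL_comp_τL (k l : ℕ) (h : l ≤ k) (i : ℤ) :
    (jL (J ^ l) (K.X i)) ∘ₗ (τL J K k l h i) = jL (J ^ k) (K.X i) := by
  apply TensorProduct.ext'
  intro x y
  change jL (J ^ l) (K.X i) ((Submodule.inclusion (p := J ^ k) (p' := J ^ l)
    (Ideal.pow_le_pow_right h) x) ⊗ₜ[A] y) = jL (J ^ k) (K.X i) (x ⊗ₜ[A] y)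
  rw [jL_tmul, jL_tmul]
  rfl

lemma jL_d (k : ℕ) (i j : ℤ) (z : ↥(J ^ k) ⊗[A] (K.X i)) :
    jL (J ^ k) (K.X j) (((F J K k).d i j).hom z) = (K.d i j).hom (jL (J ^ k) (K.X i) z) :=
  LinearMap.congr_fun (jL_comp_dL J K k i j) z

lemma jL_τ (k l : ℕ) (h : l ≤ k) (i : ℤ) (z : ↥(J ^ k) ⊗[A] (K.X i)) :
    jL (J ^ l) (K.X i) (((τ J K k l h).f i).hom z) = jL (J ^ k) (K.X i) z :=
  LinearMap.congr_fun (jL_comp_τL J K k l h i) z

/-- **Key lemma.** If `J` kills `H^q(K)` (and `K^q` is finite flat over the Noetherian ring `A`),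
the transition maps `J^k ⊗ K → J^l ⊗ K` vanish on `H^q` for `k ≥ c + l + 1`. -/
lemma exists_homologyMap_τ_eq_zero [IsNoetherianRing A] (q : ℤ)
    [Module.Finite A (K.X q)] [Module.Flat A (K.X q)]
    (hJ : ∀ x ∈ J, ∀ c : ↑(K.homology q), x • c = 0) :
    ∃ c : ℕ, ∀ k l : ℕ, ∀ h : l ≤ k, c + l + 1 ≤ k →
      HomologicalComplex.homologyMap (τ J K k l h) q = 0 := by
  have h0 : J • LinearMap.ker (K.d q (q + 1)).hom ≤ LinearMap.range (K.d (q - 1) q).hom := by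
    rw [Submodule.smul_le]
    intro r hr z hz
    obtain ⟨w, hw⟩ := exists_d_eq_smul K q r (hJ r hr) z hz
    exact ⟨w, hw⟩
  obtain ⟨c, hc⟩ := exists_AR_bound J (K.d (q - 1) q).hom (K.d q (q + 1)).hom h0
  refine ⟨c, fun k l hle hkl => ?_⟩
  apply homologyMap_eq_zero_of_boundary
  intro z hz
  have hy1 : jL (J ^ k) (K.X q) z ∈ J ^ k • (⊤ : Submodule A (K.X q)) := by
    rw [← range_jL]
    exact ⟨z, rfl⟩
  have hy2 : (K.d q (q + 1)).hom (jL (J ^ k) (K.X q) z) = 0 := by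
    rw [← jL_d, hz]
    exact (jL (J ^ k) (K.X (q + 1))).map_zero
  obtain ⟨w', hw'mem, hw'⟩ := hc k l hkl ⟨hy1, hy2⟩
  rw [← range_jL] at hw'mem
  obtain ⟨w, rfl⟩ := hw'mem
  refine ⟨w, ?_⟩
  apply jL_injective (J ^ l) (K.X q)
  rw [jL_d, hw', jL_τ]

end Groth.Agent.Lib.Helper8.PowTen
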