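import Mathlib
import Groth.Agent.Lib.Helper8.PowTen2
import Groth.Agent.S14100

/-! # Helper8 — PowTen3: the chain argument and the proof of S14102 (`J^(n+m) ⊗ K → J^m ⊗ K` is zero in `D(A)`) -/

set_option autoImplicit false

universe w u

open CategoryTheory CategoryTheory.Limits MonoidalCategory TensorProduct

namespace Groth.Agent.Lib.Helper8.PowTen

variable {A : Type u} [CommRing A] (J : Ideal A) (K : CochainComplex (ModuleCat.{u} A) ℤ)

lemma τ_comp (k l p : ℕ) (h : l ≤ k) (h' : p ≤ l) :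
    τ J K k l h ≫ τ J K l p h' = τ J K k p (h'.trans h) := by
  ext i : 2
  apply TensorProduct.ext'
  intro x y
  rfl

lemma τ_self (k : ℕ) : τ J K k k le_rfl = 𝟙 _ := by
  ext i : 2
  apply TensorProduct.ext'
  intro x y
  rfl

lemma isZero_F_X (k : ℕ) (q : ℤ) (h : IsZero (K.X q)) : IsZero ((F J K k).X q) :=
  ((curriedTensor (ModuleCat.{u} A)).obj (ModuleCat.of A ↥(J ^ k))).map_isZero h

variable [HasDerivedCategory.{w} (ModuleCat.{u} A)]

lemma homologyFunctor_map_Q_map_eq_zero {C D : CochainComplex (ModuleCat.{u} A) ℤ} (φ : C ⟶ D)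
    (q : ℤ) (h : HomologicalComplex.homologyMap φ q = 0) :
    (DerivedCategory.homologyFunctor (ModuleCat.{u} A) q).map (DerivedCategory.Q.map φ) = 0 := by
  have h1 := (DerivedCategory.homologyFunctorFactors (ModuleCat.{u} A) q).hom.naturality φ
  have h2 : (DerivedCategory.homologyFunctor (ModuleCat.{u} A) q).map (DerivedCategory.Q.map φ) ≫
      (DerivedCategory.homologyFunctorFactors (ModuleCat.{u} A) q).hom.app D = 0 := by
    have h3 : (HomologicalComplex.homologyFunctor (ModuleCat.{u} A) (ComplexShape.up ℤ) q).map φ = 0 := h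
    change (DerivedCategory.Q ⋙ DerivedCategory.homologyFunctor (ModuleCat.{u} A) q).map φ ≫ _ = 0
    rw [h1, h3, comp_zero]
  have h4 := congrArg (fun t => t ≫ (DerivedCategory.homologyFunctorFactors (ModuleCat.{u} A) q).inv.app D) h2
  simp only [Category.assoc, Iso.hom_inv_id_app, zero_comp] at h4
  exact h4

/-- the chain argument: if `e` is a nonincreasing sequence such that all the steps
`J^(e i) ⊗ K → J^(e (i+1)) ⊗ K` vanish on cohomology, and `K` is concentrated in `[a, a+N]`,
then `J^(e 0) ⊗ K → J^(e (N+1)) ⊗ K` vanishes in the derived category. -/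
lemma Q_map_τ_eq_zero_of_chain (a : ℤ) (N : ℕ)
    (hK : ∀ q : ℤ, q < a ∨ a + N < q → IsZero (K.X q))
    (e : ℕ → ℕ) (he : ∀ i, e (i + 1) ≤ e i) (he' : e (N + 1) ≤ e 0)
    (hz : ∀ i : ℕ, i ≤ N → ∀ q : ℤ,
      HomologicalComplex.homologyMap (τ J K (e i) (e (i + 1)) (he i)) q = 0) :
    DerivedCategory.Q.map (τ J K (e 0) (e (N + 1)) he') = 0 := by
  let Kf : ℕ ⥤ DerivedCategory (ModuleCat.{u} A) :=
    Functor.ofSequence (X := fun i => DerivedCategory.Q.obj (F J K (e i)))
      (fun i => DerivedCategory.Q.map (τ J K (e i) (e (i + 1)) (he i)))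
  have hGE : ∀ i : ℕ, i ≤ N + 1 → (Kf.obj i).IsGE a := by
    intro i _
    change (DerivedCategory.Q.obj (F J K (e i))).IsGE a
    rw [DerivedCategory.isGE_Q_obj_iff]
    have : (F J K (e i)).IsStrictlyGE a := by
      rw [CochainComplex.isStrictlyGE_iff]
      intro q hq
      exact isZero_F_X J K _ q (hK q (Or.inl hq))
    infer_instance
  have hLE : ∀ i : ℕ, i ≤ N + 1 → (Kf.obj i).IsLE (a + N) := by
    intro i _
    change (DerivedCategory.Q.obj (F J K (e i))).IsLE (a + N)
    rw [DerivedCategory.isLE_Q_obj_iff]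
    have : (F J K (e i)).IsStrictlyLE (a + N) := by
      rw [CochainComplex.isStrictlyLE_iff]
      intro q hq
      exact isZero_F_X J K _ q (hK q (Or.inr hq))
    infer_instance
  have hzero : ∀ i : ℕ, i ≤ N → ∀ q : ℤ,
      (DerivedCategory.homologyFunctor (ModuleCat.{u} A) q).map
        (Kf.map (homOfLE (Nat.le_succ i))) = 0 := by
    intro i hi q
    have : Kf.map (homOfLE (Nat.le_succ i)) =
        DerivedCategory.Q.map (τ J K (e i) (e (i + 1)) (he i)) :=
      Functor.ofSequence_map_homOfLE_succ _ i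
    rw [this]
    exact homologyFunctor_map_Q_map_eq_zero _ q (hz i hi q)
  have key := Groth.Agent.S14100.result (ModuleCat.{u} A) a N Kf hGE hLE hzero
  have hmap : ∀ i : ℕ, ∀ h : e i ≤ e 0, Kf.map (homOfLE (Nat.zero_le i)) =
      DerivedCategory.Q.map (τ J K (e 0) (e i) h) := by
    intro i
    induction i with
    | zero =>
      intro h
      have h1 : (homOfLE (Nat.zero_le 0) : (0 : ℕ) ⟶ 0) = 𝟙 _ := rfl
      rw [h1, Kf.map_id, τ_self, DerivedCategory.Q.map_id]
      rfl
    | succ i ih =>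
      intro h
      have h0 : e i ≤ e 0 := by
        clear ih h key hzero hLE hGE
        induction i with
        | zero => exact le_rfl
        | succ j ihj => exact (he j).trans ihj
      have h1 : (homOfLE (Nat.zero_le (i + 1)) : (0 : ℕ) ⟶ i + 1) =
          homOfLE (Nat.zero_le i) ≫ homOfLE (Nat.le_succ i) := rfl
      have h2 : Kf.map (homOfLE (Nat.le_succ i)) =
          DerivedCategory.Q.map (τ J K (e i) (e (i + 1)) (he i)) :=
        Functor.ofSequence_map_homOfLE_succ _ i
      have h3 : DerivedCategory.Q.map (τ J K (e 0) (e i) h0) ≫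
          DerivedCategory.Q.map (τ J K (e i) (e (i + 1)) (he i)) =
          DerivedCategory.Q.map (τ J K (e 0) (e (i + 1)) h) := by
        rw [← Functor.map_comp, τ_comp]
      rw [h1, Kf.map_comp, ih h0, h2]
      exact h3
  rw [← hmap (N + 1) he']
  exact key

lemma Q_map_τ_congr {k k' l l' : ℕ} (hk : k = k') (hl : l = l') (h : l ≤ k) (h' : l' ≤ k')
    (hz : DerivedCategory.Q.map (τ J K k l h) = 0) :
    DerivedCategory.Q.map (τ J K k' l' h') = 0 := by
  subst hk hl
  exact hz

/-- S14102 -/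
theorem exists_Q_map_τ_eq_zero [IsNoetherianRing A] (a b : ℤ)
    (hK : ∀ q : ℤ, q < a ∨ b < q → IsZero (K.X q))
    (hfin : ∀ q : ℤ, Module.Finite A (K.X q)) (hproj : ∀ q : ℤ, Module.Projective A (K.X q))
    (hJ : ∀ q : ℤ, ∀ x ∈ J, ∀ c : ↑(K.homology q), x • c = 0) :
    ∃ n : ℕ, ∀ m : ℕ, 0 < m →
      DerivedCategory.Q.map (τ J K (n + m) m (Nat.le_add_left m n)) = 0 := by
  have hex : ∀ q : ℤ, ∃ c : ℕ, ∀ k l : ℕ, ∀ h : l ≤ k, c + l + 1 ≤ k →
      HomologicalComplex.homologyMap (τ J K k l h) q = 0 := by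
    intro q
    have := hfin q
    have := hproj q
    exact exists_homologyMap_τ_eq_zero J K q (hJ q)
  choose c hc using hex
  let n₀ : ℕ := (Finset.Icc a b).sup c + 1
  let N : ℕ := (b - a).toNat
  have hK' : ∀ q : ℤ, q < a ∨ a + N < q → IsZero (K.X q) := by
    intro q hq
    apply hK q
    have : b - a ≤ ((b - a).toNat : ℤ) := Int.self_le_toNat _
    rcases hq with hq | hq
    · exact Or.inl hq
    · right
      change a + ((b - a).toNat : ℤ) < q at hq
      omega
  refine ⟨(N + 1) * n₀, fun m _ => ?_⟩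
  let e : ℕ → ℕ := fun i => (N + 1 - i) * n₀ + m
  have he : ∀ i, e (i + 1) ≤ e i := by
    intro i
    exact Nat.add_le_add_right (Nat.mul_le_mul_right _ (by omega)) _
  have he' : e (N + 1) ≤ e 0 :=
    Nat.add_le_add_right (Nat.mul_le_mul_right _ (by omega)) _
  have hz : ∀ i : ℕ, i ≤ N → ∀ q : ℤ,
      HomologicalComplex.homologyMap (τ J K (e i) (e (i + 1)) (he i)) q = 0 := by
    intro i hi q
    by_cases hq : q ∈ Finset.Icc a b
    · apply hc q
      have h1 : c q + 1 ≤ n₀ := Nat.succ_le_succ (Finset.le_sup (f := c) hq)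
      have h2 : N + 1 - i = (N + 1 - (i + 1)) + 1 := by omega
      change c q + ((N + 1 - (i + 1)) * n₀ + m) + 1 ≤ (N + 1 - i) * n₀ + m
      rw [h2, Nat.succ_mul]
      omega
    · apply IsZero.eq_of_tgt
      apply ShortComplex.isZero_homology_of_isZero_X₂
      apply isZero_F_X
      apply hK
      rw [Finset.mem_Icc] at hq
      omega
  have key := Q_map_τ_eq_zero_of_chain J K a N hK' e he he' hz
  refine Q_map_τ_congr J K ?_ ?_ he' _ key
  · change (N + 1 - 0) * n₀ + m = (N + 1) * n₀ + m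
    rw [Nat.sub_zero]
  · change (N + 1 - (N + 1)) * n₀ + m = m
    rw [Nat.sub_self, Nat.zero_mul, Nat.zero_add]

end Groth.Agent.Lib.Helper8.PowTen
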