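import Groth.Prelude.Def_DerCA
import Mathlib.CategoryTheory.Triangulated.Pretriangulated
import Mathlib.CategoryTheory.Functor.OfSequence
import Mathlib.Algebra.Homology.ShortComplex.Exact
import Mathlib.CategoryTheory.Abelian.Basic

/-! Pro-systems indexed by `ℕ`: cones of levelwise maps in a pretriangulated category, and the
abelian five lemma for pro-zero systems. -/

set_option autoImplicit false
set_option linter.unusedSectionVars false
universe v u

open CategoryTheory CategoryTheory.Limits Opposite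

namespace Groth.Agent.Lib.Helper8.ProSys

section Basic

variable {C : Type u} [Category.{v} C]

lemma tr_comp (X : ARSys.PS C) {n m k : ℕ} (h₁ : n ≤ m) (h₂ : m ≤ k) :
    ARSys.tr X h₂ ≫ ARSys.tr X h₁ = ARSys.tr X (h₁.trans h₂) := by
  unfold ARSys.tr
  rw [← X.map_comp]
  rfl

lemma tr_nat {X Y : ARSys.PS C} (f : X ⟶ Y) {n m : ℕ} (h : n ≤ m) :
    ARSys.tr X h ≫ f.app (op n) = f.app (op m) ≫ ARSys.tr Y h :=
  f.naturality _

lemma tr_whisker (X : ARSys.PS C) {E : Type*} [Category E] (F : C ⥤ E) {n m : ℕ} (h : n ≤ m) :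
    ARSys.tr (X ⋙ F) h = F.map (ARSys.tr X h) := rfl

end Basic

section Tri

open Pretriangulated

variable {D : Type u} [Category.{v} D] [Preadditive D] [HasZeroObject D] [HasShift D ℤ]
  [∀ n : ℤ, (shiftFunctor D n).Additive] [Pretriangulated D]

lemma yoneda_exact₁' (T : Triangle D) (hT : T ∈ distTriang D) {Z : D} (u : T.obj₁ ⟶ Z)
    (hu : T.mor₃ ≫ (shiftFunctor D (1 : ℤ)).map u = 0) : ∃ b : T.obj₂ ⟶ Z, u = T.mor₁ ≫ b := by
  have hrot := rot_of_distTriang _ (rot_of_distTriang _ hT)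
  obtain ⟨g, hg⟩ : ∃ g : (shiftFunctor D (1 : ℤ)).obj T.obj₂ ⟶ (shiftFunctor D (1 : ℤ)).obj Z,
      (shiftFunctor D (1 : ℤ)).map u = (-(shiftFunctor D (1 : ℤ)).map T.mor₁) ≫ g :=
    Triangle.yoneda_exact₂ _ hrot ((shiftFunctor D (1 : ℤ)).map u) hu
  obtain ⟨g', rfl⟩ := (shiftFunctor D (1 : ℤ)).map_surjective g
  refine ⟨-g', ?_⟩
  apply (shiftFunctor D (1 : ℤ)).map_injective
  rw [hg, Functor.map_comp, Functor.map_neg, Preadditive.neg_comp, Preadditive.comp_neg]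

/-- An inverse system of distinguished triangles on a levelwise map `f`. -/
structure ConeSys {X Y : ARSys.PS D} (f : X ⟶ Y) where
  /-- the system of cones -/
  C : ARSys.PS D
  /-- the second maps -/
  g : Y ⟶ C
  /-- the third maps -/
  δ : C ⟶ X ⋙ shiftFunctor D (1 : ℤ)
  dist : ∀ n : ℕ, Triangle.mk (f.app (op n)) (g.app (op n)) (δ.app (op n)) ∈ distTriang D

end Tri

section Tri2

open Pretriangulated

variable {D : Type u} [Category.{v} D] [Preadditive D] [HasZeroObject D] [HasShift D ℤ]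
  [∀ n : ℤ, (shiftFunctor D n).Additive] [Pretriangulated D]

/-- Every levelwise map of inverse systems can be completed to an inverse system of distinguished
triangles. -/
theorem exists_coneSys {X Y : ARSys.PS D} (f : X ⟶ Y) : Nonempty (ConeSys f) := by
  choose C₀ g₀ δ₀ h₀ using fun n : ℕ => distinguished_cocone_triangle (f.app (op n))
  have hγ : ∀ n : ℕ, ∃ γ : C₀ (n + 1) ⟶ C₀ n,
      g₀ (n + 1) ≫ γ = Y.map (homOfLE (n.le_add_right 1)).op ≫ g₀ n ∧
      δ₀ (n + 1) ≫ (shiftFunctor D (1 : ℤ)).map (X.map (homOfLE (n.le_add_right 1)).op) =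
        γ ≫ δ₀ n := fun n =>
    complete_distinguished_triangle_morphism _ _ (h₀ (n + 1)) (h₀ n)
      (X.map (homOfLE (n.le_add_right 1)).op) (Y.map (homOfLE (n.le_add_right 1)).op)
      (f.naturality _).symm
  choose γ hγ1 hγ2 using hγ
  let Cf : ARSys.PS D := Functor.ofOpSequence γ
  have hCf : ∀ n : ℕ, Cf.map (homOfLE (n.le_add_right 1)).op = γ n :=
    fun n => Functor.ofOpSequence_map_homOfLE_succ γ n
  let g : Y ⟶ Cf := NatTrans.ofOpSequence (fun n => g₀ n) (fun n => by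
    rw [hCf]
    exact (hγ1 n).symm)
  let δ : Cf ⟶ X ⋙ shiftFunctor D (1 : ℤ) := NatTrans.ofOpSequence (fun n => δ₀ n) (fun n => by
    rw [hCf]
    exact (hγ2 n).symm)
  exact ⟨⟨Cf, g, δ, fun n => h₀ n⟩⟩

/-- If the system of cones is pro-zero, the map is a pro-isomorphism. -/
theorem isProIso_of_isProZero_cone {X Y : ARSys.PS D} (f : X ⟶ Y) (S : ConeSys f)
    (hC : DerCA.IsProZero S.C) : DerCA.IsProIso f := by
  intro n
  obtain ⟨m, hnm, h1⟩ := hC n
  obtain ⟨m', hmm', h2⟩ := hC m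
  -- Step 1
  obtain ⟨b₁, hb₁⟩ : ∃ b₁ : Y.obj (op m) ⟶ X.obj (op n), ARSys.tr X hnm = f.app (op m) ≫ b₁ :=
    yoneda_exact₁' _ (S.dist m) (ARSys.tr X hnm) (by
      change S.δ.app (op m) ≫ (shiftFunctor D (1 : ℤ)).map (ARSys.tr X hnm) = 0
      have nat := S.δ.naturality (homOfLE hnm).op
      change ARSys.tr S.C hnm ≫ S.δ.app (op n) =
        S.δ.app (op m) ≫ (shiftFunctor D (1 : ℤ)).map (ARSys.tr X hnm) at nat
      rw [← nat, h1, zero_comp])
  -- Step 2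
  obtain ⟨ε', hε'⟩ : ∃ ε' : S.C.obj (op m) ⟶ Y.obj (op n),
      b₁ ≫ f.app (op n) - ARSys.tr Y hnm = S.g.app (op m) ≫ ε' :=
    Triangle.yoneda_exact₂ _ (S.dist m) (b₁ ≫ f.app (op n) - ARSys.tr Y hnm) (by
      change f.app (op m) ≫ (b₁ ≫ f.app (op n) - ARSys.tr Y hnm) = 0
      rw [Preadditive.comp_sub, ← Category.assoc, ← hb₁, tr_nat f hnm, sub_self])
  refine ⟨m', hnm.trans hmm', ARSys.tr Y hmm' ≫ b₁, ?_, ?_⟩
  · rw [← Category.assoc, ← tr_nat f hmm', Category.assoc, ← hb₁, tr_comp]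
  · have h3 : ARSys.tr Y hmm' ≫ (b₁ ≫ f.app (op n) - ARSys.tr Y hnm) = 0 := by
      rw [hε', ← Category.assoc, tr_nat S.g hmm', Category.assoc, h2, zero_comp, comp_zero]
    rw [Preadditive.comp_sub, sub_eq_zero, tr_comp] at h3
    rw [Category.assoc, h3]

end Tri2

section Ab

variable {𝒜 : Type u} [Category.{v} 𝒜] [Abelian 𝒜]

/-- Five lemma for pro-systems: in an exact sequence of inverse systems `U → V → W → U' → V'` with
`U → V` and `U' → V'` pro-isomorphisms, `W` is pro-zero. -/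
theorem isProZero_of_exact {U V W U' V' : ARSys.PS 𝒜} (φ : U ⟶ V) (φ' : U' ⟶ V')
    (g : ∀ n : ℕ, V.obj (op n) ⟶ W.obj (op n)) (h : ∀ n : ℕ, W.obj (op n) ⟶ U'.obj (op n))
    (hg : ∀ (n m : ℕ) (hnm : n ≤ m), g m ≫ ARSys.tr W hnm = ARSys.tr V hnm ≫ g n)
    (hh : ∀ (n m : ℕ) (hnm : n ≤ m), ARSys.tr W hnm ≫ h n = h m ≫ ARSys.tr U' hnm)
    (z1 : ∀ n, φ.app (op n) ≫ g n = 0) (z2 : ∀ n, g n ≫ h n = 0)
    (z3 : ∀ n, h n ≫ φ'.app (op n) = 0)
    (ex : ∀ n, (ShortComplex.mk (g n) (h n) (z2 n)).Exact)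
    (hφ : DerCA.IsProIso φ) (hφ' : DerCA.IsProIso φ') : DerCA.IsProZero W := by
  intro n
  obtain ⟨m₁, h1, b, -, hb⟩ := hφ n
  obtain ⟨m₂, h2, b', hb', -⟩ := hφ' m₁
  refine ⟨m₂, h1.trans h2, ?_⟩
  have e1 : ARSys.tr W h2 ≫ h m₁ = 0 := by
    rw [hh, ← hb', ← Category.assoc, z3, zero_comp]
  have e2 : g m₁ ≫ ARSys.tr W h1 = 0 := by
    rw [hg, ← hb, Category.assoc, z1, comp_zero]
  have e3 : ARSys.tr W h2 ≫ ARSys.tr W h1 = 0 := (ex m₁).comp_eq_zero e1 e2
  rw [← tr_comp W h1 h2, e3]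

end Ab

end Groth.Agent.Lib.Helper8.ProSys
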