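import Groth.Agent.Lib.Helper8.ProSys
import Groth.Agent.Lib.Helper8.DTrunc

/-! Pro-systems in the derived category: pro-zero and pro-isomorphisms are detected on cohomology
for uniformly bounded systems. -/

set_option autoImplicit false
set_option linter.unusedSectionVars false
universe w v u

open CategoryTheory CategoryTheory.Limits CategoryTheory.Pretriangulated DerivedCategory Opposite

namespace Groth.Agent.Lib.Helper8.ProSys

open Groth.Agent.Lib.Helper8.DTrunc

variable {A : Type u} [Category.{v} A] [Abelian A] [HasDerivedCategory.{w} A]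

lemma homologyMap_truncLT_map_eq_zero' {X Y : DerivedCategory A} (b : ℤ) (f : X ⟶ Y) (i : ℤ)
    (hf : (homologyFunctor A i).map f = 0) :
    (homologyFunctor A i).map ((tt.truncLT b).map f) = 0 := by
  by_cases hi : i < b
  · have := mono_homologyMap_truncLTι Y b i hi
    rw [← cancel_mono ((homologyFunctor A i).map ((tt.truncLTι b).app Y)), zero_comp,
      ← Functor.map_comp]
    have nat : (tt.truncLT b).map f ≫ (tt.truncLTι b).app Y = (tt.truncLTι b).app X ≫ f :=
      (tt.truncLTι b).naturality f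
    rw [nat, Functor.map_comp, hf, comp_zero]
  · have : tt.IsLE ((tt.truncLT b).obj X) (b - 1) := inferInstance
    exact (isZero_of_isLE ((tt.truncLT b).obj X) (b - 1) i (by omega)).eq_of_src _ _

lemma truncGE_map_eq_zero' {X Y : DerivedCategory A} (b : ℤ) [X.IsLE b] [Y.IsLE b] (f : X ⟶ Y)
    (hf : (homologyFunctor A b).map f = 0) : (tt.truncGE b).map f = 0 := by
  have : tt.IsLE ((tt.truncGE b).obj X) b := inferInstance
  have : tt.IsGE ((tt.truncGE b).obj X) b := inferInstance
  have : tt.IsLE ((tt.truncGE b).obj Y) b := inferInstance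
  have : tt.IsGE ((tt.truncGE b).obj Y) b := inferInstance
  apply eq_zero_of_homologyMap_eq_zero b
  have := epi_homologyMap_truncGEπ X b
  rw [← cancel_epi ((homologyFunctor A b).map ((tt.truncGEπ b).app X)), comp_zero,
    ← Functor.map_comp]
  have nat : f ≫ (tt.truncGEπ b).app Y = (tt.truncGEπ b).app X ≫ (tt.truncGE b).map f :=
    (tt.truncGEπ b).naturality f
  rw [← nat, Functor.map_comp, hf, zero_comp]

/-- A uniformly bounded inverse system in `D(A)` whose cohomology systems are pro-zero is pro-zero. -/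
theorem isProZero_of_homology (k : ℕ) : ∀ (a : ℤ) (C : ARSys.PS (DerivedCategory A)),
    (∀ n : ℕ, (C.obj (op n)).IsGE a) → (∀ n : ℕ, (C.obj (op n)).IsLE (a + k)) →
    (∀ p : ℤ, DerCA.IsProZero (C ⋙ homologyFunctor A p)) → DerCA.IsProZero C := by
  induction k with
  | zero =>
    intro a C hGE hLE hH n
    have hLE' : ∀ n : ℕ, (C.obj (op n)).IsLE a := fun n => by simpa using hLE n
    obtain ⟨m, hnm, h0⟩ := hH a n
    have := hGE n
    have := hGE m
    have := hLE' n
    have := hLE' m
    exact ⟨m, hnm, eq_zero_of_homologyMap_eq_zero a _ h0⟩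
  | succ k ih =>
    intro a C hGE hLE hH
    obtain ⟨b, hb⟩ : ∃ b : ℤ, b = a + (k + 1 : ℕ) := ⟨_, rfl⟩
    have hLEb : ∀ n : ℕ, (C.obj (op n)).IsLE b := fun n => by rw [hb]; exact hLE n
    have ih' : DerCA.IsProZero (C ⋙ tt.truncLT b) := by
      apply ih a
      · intro n
        have := hGE n
        change tt.IsGE ((tt.truncLT b).obj (C.obj (op n))) a
        infer_instance
      · intro n
        exact tt.isLE_truncLT_obj (C.obj (op n)) b (a + k) (by rw [hb]; push_cast; omega)
      · intro p n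
        obtain ⟨m, hnm, h0⟩ := hH p n
        exact ⟨m, hnm, homologyMap_truncLT_map_eq_zero' b _ p h0⟩
    intro n
    obtain ⟨m₁, h1, e1⟩ := ih' n
    obtain ⟨m₂, h2, e2⟩ := hH b m₁
    have := hLEb m₁
    have := hLEb m₂
    have e3 : (tt.truncGE b).map (ARSys.tr C h2) = 0 := truncGE_map_eq_zero' b _ e2
    have nat : ARSys.tr C h2 ≫ (tt.truncGEπ b).app (C.obj (op m₁)) =
        (tt.truncGEπ b).app (C.obj (op m₂)) ≫ (tt.truncGE b).map (ARSys.tr C h2) :=
      (tt.truncGEπ b).naturality _
    obtain ⟨κ, hκ⟩ : ∃ κ : C.obj (op m₂) ⟶ (tt.truncLT b).obj (C.obj (op m₁)),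
        ARSys.tr C h2 = κ ≫ (tt.truncLTι b).app (C.obj (op m₁)) :=
      Triangle.coyoneda_exact₂ _ (tt.triangleLTGE_distinguished b (C.obj (op m₁)))
        (ARSys.tr C h2) (by
          change ARSys.tr C h2 ≫ (tt.truncGEπ b).app (C.obj (op m₁)) = 0
          rw [nat, e3, comp_zero])
    have nat2 : (tt.truncLT b).map (ARSys.tr C h1) ≫ (tt.truncLTι b).app (C.obj (op n)) =
        (tt.truncLTι b).app (C.obj (op m₁)) ≫ ARSys.tr C h1 :=
      (tt.truncLTι b).naturality _
    refine ⟨m₂, h1.trans h2, ?_⟩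
    have e1' : (tt.truncLT b).map (ARSys.tr C h1) = 0 := e1
    rw [← tr_comp C h1 h2, hκ, Category.assoc, ← nat2, e1', zero_comp, comp_zero]

/-- The morphism of triangles given by the transition maps of a system of cones. -/
noncomputable def ConeSys.trMap {X Y : ARSys.PS (DerivedCategory A)} {f : X ⟶ Y} (S : ConeSys f)
    {n m : ℕ} (h : n ≤ m) :
    Triangle.mk (f.app (op m)) (S.g.app (op m)) (S.δ.app (op m)) ⟶
      Triangle.mk (f.app (op n)) (S.g.app (op n)) (S.δ.app (op n)) where
  hom₁ := ARSys.tr X h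
  hom₂ := ARSys.tr Y h
  hom₃ := ARSys.tr S.C h
  comm₁ := (tr_nat f h).symm
  comm₂ := (tr_nat S.g h).symm
  comm₃ := (S.δ.naturality (homOfLE h).op).symm

theorem isProIso_of_homology (X Y : ARSys.PS (DerivedCategory A)) (f : X ⟶ Y) (a b : ℤ)
    (hab : a ≤ b)
    (hX : ∀ (n : ℕ) (i : ℤ), i < a ∨ b < i → IsZero ((homologyFunctor A i).obj (X.obj (op n))))
    (hY : ∀ (n : ℕ) (i : ℤ), i < a ∨ b < i → IsZero ((homologyFunctor A i).obj (Y.obj (op n))))
    (hH : ∀ i : ℤ, DerCA.IsProIso (Functor.whiskerRight f (homologyFunctor A i))) :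
    DerCA.IsProIso f := by
  obtain ⟨S⟩ := exists_coneSys f
  apply isProIso_of_isProZero_cone f S
  have hC : ∀ (n : ℕ) (p : ℤ), p < a - 1 ∨ b < p →
      IsZero ((homologyFunctor A p).obj (S.C.obj (op n))) := by
    intro n p hp
    have ex := HomologySequence.exact₃ _ (S.dist n) p (p + 1) rfl
    exact ex.isZero_of_both_isZero (hY n p (by omega)) (hX n (p + 1) (by omega))
  obtain ⟨k, hk⟩ : ∃ k : ℕ, (a - 1) + (k : ℤ) = b := ⟨(b - (a - 1)).toNat, by omega⟩
  apply isProZero_of_homology k (a - 1) S.C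
  · intro n
    exact (isGE_iff _ _).2 (fun i hi => hC n i (Or.inl hi))
  · intro n
    rw [hk]
    exact (isLE_iff _ _).2 (fun i hi => hC n i (Or.inr hi))
  · intro p
    refine isProZero_of_exact (Functor.whiskerRight f (homologyFunctor A p))
      (Functor.whiskerRight f (homologyFunctor A (p + 1)))
      (fun n => (homologyFunctor A p).map (S.g.app (op n)))
      (fun n => HomologySequence.δ (Triangle.mk (f.app (op n)) (S.g.app (op n)) (S.δ.app (op n)))
        p (p + 1) rfl) ?_ ?_ ?_ ?_ ?_ ?_ (hH p) (hH (p + 1))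
    · intro n m hnm
      change (homologyFunctor A p).map (S.g.app (op m)) ≫ (homologyFunctor A p).map (ARSys.tr S.C hnm) =
        (homologyFunctor A p).map (ARSys.tr Y hnm) ≫ (homologyFunctor A p).map (S.g.app (op n))
      rw [← Functor.map_comp, ← Functor.map_comp, tr_nat S.g hnm]
    · intro n m hnm
      exact (homologyFunctor A 0).homologySequenceδ_naturality _ _ (S.trMap hnm) p (p + 1) rfl
    · intro n
      change (homologyFunctor A p).map (f.app (op n)) ≫ (homologyFunctor A p).map (S.g.app (op n)) = 0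
      rw [← Functor.map_comp]
      have h12 : f.app (op n) ≫ S.g.app (op n) = 0 := comp_distTriang_mor_zero₁₂ _ (S.dist n)
      rw [h12, Functor.map_zero]
    · intro n
      exact HomologySequence.comp_δ _ (S.dist n) p (p + 1) rfl
    · intro n
      exact HomologySequence.δ_comp _ (S.dist n) p (p + 1) rfl
    · intro n
      exact HomologySequence.exact₃ _ (S.dist n) p (p + 1) rfl

end Groth.Agent.Lib.Helper8.ProSys
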