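import Groth.Agent.Lib.Helper8.ProSys
import Mathlib.Tactic

/-! Essentially constant systems in a pretriangulated category: two out of three. -/

set_option autoImplicit false
set_option linter.unusedSectionVars false
universe v u

open CategoryTheory CategoryTheory.Limits CategoryTheory.Pretriangulated Opposite

namespace Groth.Agent.Lib.Helper8.ProSys

section Cone

variable {C : Type u} [Category.{v} C]

lemma cone_tr {X : ARSys.PS C} {A : C} (c : (Functor.const ℕᵒᵖ).obj A ⟶ X) {n m : ℕ} (h : n ≤ m) :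
    c.app (op m) ≫ ARSys.tr X h = c.app (op n) := by
  have := c.naturality (homOfLE h).op
  simp only [Functor.const_obj_obj, Functor.const_obj_map, Category.id_comp] at this
  exact this.symm

/-- A witness of essential constancy can be moved to any later level. -/
lemma witness_shift {X : ARSys.PS C} {A : C} (c : (Functor.const ℕᵒᵖ).obj A ⟶ X) {i : ℕ}
    (s : X.obj (op i) ⟶ A) (hs : c.app (op i) ≫ s = 𝟙 A)
    (H : ∀ j : ℕ, ∃ (k : ℕ) (hi : i ≤ k) (hj : j ≤ k),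
      ARSys.tr X hj = ARSys.tr X hi ≫ s ≫ c.app (op j))
    {i' : ℕ} (hii' : i ≤ i') :
    c.app (op i') ≫ (ARSys.tr X hii' ≫ s) = 𝟙 A ∧
    ∀ j : ℕ, ∃ (k : ℕ) (hi : i' ≤ k) (hj : j ≤ k),
      ARSys.tr X hj = ARSys.tr X hi ≫ (ARSys.tr X hii' ≫ s) ≫ c.app (op j) := by
  constructor
  · rw [← Category.assoc, cone_tr, hs]
  · intro j
    obtain ⟨k, hi, hj, e⟩ := H j
    refine ⟨max k i', le_max_right _ _, hj.trans (le_max_left _ _), ?_⟩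
    rw [← tr_comp X hj (le_max_left k i'), e, ← Category.assoc (ARSys.tr X (le_max_left k i')),
      tr_comp, ← Category.assoc (ARSys.tr X (le_max_right k i')), ← Category.assoc (ARSys.tr X
      (le_max_right k i')), tr_comp, Category.assoc]

end Cone

section Mid

variable {D : Type u} [Category.{v} D] [Preadditive D] [HasZeroObject D] [HasShift D ℤ]
  [∀ n : ℤ, (shiftFunctor D n).Additive] [Pretriangulated D]

variable {X Y Z : ARSys.PS D} (f : X ⟶ Y) (g : Y ⟶ Z) (h : Z ⟶ X ⋙ shiftFunctor D (1 : ℤ))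
  (hT : ∀ n : ℕ, Triangle.mk (f.app (op n)) (g.app (op n)) (h.app (op n)) ∈ distTriang D)
  {A B C : D} (u : A ⟶ B) (v : B ⟶ C) (δ : C ⟶ (shiftFunctor D (1 : ℤ)).obj A)
  (hTc : Triangle.mk u v δ ∈ distTriang D)
  (cA : (Functor.const ℕᵒᵖ).obj A ⟶ X) (cC : (Functor.const ℕᵒᵖ).obj C ⟶ Z) (k₀ : ℕ)
  (α : ∀ k : ℕ, k₀ ≤ k → (X.obj (op k) ⟶ A)) (σ : ∀ k : ℕ, k₀ ≤ k → (Y.obj (op k) ⟶ B))
  (γ : ∀ k : ℕ, k₀ ≤ k → (Z.obj (op k) ⟶ C))
  (tσ : ∀ (k k' : ℕ) (hk : k₀ ≤ k) (hkk' : k ≤ k'), ARSys.tr Y hkk' ≫ σ k hk = σ k' (hk.trans hkk'))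
  (tγ : ∀ (k k' : ℕ) (hk : k₀ ≤ k) (hkk' : k ≤ k'), ARSys.tr Z hkk' ≫ γ k hk = γ k' (hk.trans hkk'))
  (M1 : ∀ (k : ℕ) (hk : k₀ ≤ k), f.app (op k) ≫ σ k hk = α k hk ≫ u)
  (M2 : ∀ (k : ℕ) (hk : k₀ ≤ k), g.app (op k) ≫ γ k hk = σ k hk ≫ v)
  (M3 : ∀ (k : ℕ) (hk : k₀ ≤ k),
    h.app (op k) ≫ (shiftFunctor D (1 : ℤ)).map (α k hk) = γ k hk ≫ δ)
  (SA : ∀ (k : ℕ) (hk : k₀ ≤ k) {T : D} (t : A ⟶ T), cA.app (op k) ≫ α k hk ≫ t = t)
  (SC : ∀ (k : ℕ) (hk : k₀ ≤ k) {T : D} (t : C ⟶ T), cC.app (op k) ≫ γ k hk ≫ t = t)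
  (FX : ∀ j : ℕ, ∃ (k : ℕ) (hk : k₀ ≤ k) (hj : j ≤ k), ARSys.tr X hj = α k hk ≫ cA.app (op j))
  (FZ : ∀ j : ℕ, ∃ (k : ℕ) (hk : k₀ ≤ k) (hj : j ≤ k), ARSys.tr Z hj = γ k hk ≫ cC.app (op j))

lemma h_nat {k k' : ℕ} (hkk' : k ≤ k') :
    h.app (op k') ≫ (shiftFunctor D (1 : ℤ)).map (ARSys.tr X hkk') =
      ARSys.tr Z hkk' ≫ h.app (op k) :=
  (h.naturality (homOfLE hkk').op).symm

include hT hTc tσ M1 M2 M3 SC FX FZ in
theorem mid_surj {D' : D} (j : ℕ) (v' : Y.obj (op j) ⟶ D') :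
    ∃ (k : ℕ) (hk : k₀ ≤ k) (hj : j ≤ k) (w : B ⟶ D'), σ k hk ≫ w = ARSys.tr Y hj ≫ v' := by
  obtain ⟨k₁, hk₁, hj₁, e₁⟩ := FX j
  obtain ⟨uA, huA⟩ : ∃ uA : A ⟶ D', uA = cA.app (op j) ≫ f.app (op j) ≫ v' := ⟨_, rfl⟩
  have e2 : α k₁ hk₁ ≫ uA = f.app (op k₁) ≫ ARSys.tr Y hj₁ ≫ v' := by
    rw [huA, ← Category.assoc, ← e₁, ← Category.assoc, tr_nat f hj₁, Category.assoc]
  have e3 : δ ≫ (shiftFunctor D (1 : ℤ)).map uA = 0 := by
    have h31 : h.app (op k₁) ≫ (shiftFunctor D (1 : ℤ)).map (f.app (op k₁)) = 0 :=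
      comp_distTriang_mor_zero₃₁ _ (hT k₁)
    calc δ ≫ (shiftFunctor D (1 : ℤ)).map uA
        = cC.app (op k₁) ≫ (γ k₁ hk₁ ≫ δ) ≫ (shiftFunctor D (1 : ℤ)).map uA := by
          rw [Category.assoc]
          exact (SC k₁ hk₁ _).symm
      _ = 0 := by
          rw [← M3 k₁ hk₁, Category.assoc, ← Functor.map_comp, e2, Functor.map_comp,
            reassoc_of% h31, zero_comp, comp_zero]
  obtain ⟨w, hw⟩ : ∃ w : B ⟶ D', uA = u ≫ w := yoneda_exact₁' _ hTc uA e3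
  have e4 : f.app (op k₁) ≫ (σ k₁ hk₁ ≫ w - ARSys.tr Y hj₁ ≫ v') = 0 := by
    rw [Preadditive.comp_sub, ← Category.assoc, M1 k₁ hk₁, Category.assoc, ← hw, e2, sub_self]
  obtain ⟨ε', hε'⟩ : ∃ ε' : Z.obj (op k₁) ⟶ D',
      σ k₁ hk₁ ≫ w - ARSys.tr Y hj₁ ≫ v' = g.app (op k₁) ≫ ε' :=
    Triangle.yoneda_exact₂ _ (hT k₁) _ e4
  obtain ⟨k₂, hk₂, hj₂, e5⟩ := FZ k₁
  refine ⟨k₂, hk₂, hj₁.trans hj₂, w - v ≫ cC.app (op k₁) ≫ ε', ?_⟩
  have e6 : σ k₂ hk₂ ≫ w =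
      ARSys.tr Y hj₂ ≫ g.app (op k₁) ≫ ε' + ARSys.tr Y (hj₁.trans hj₂) ≫ v' := by
    rw [← hε', Preadditive.comp_sub, ← Category.assoc, tσ k₁ k₂ hk₁ hj₂, ← Category.assoc,
      tr_comp]
    abel
  have e7 : ARSys.tr Y hj₂ ≫ g.app (op k₁) ≫ ε' = σ k₂ hk₂ ≫ v ≫ cC.app (op k₁) ≫ ε' := by
    rw [← Category.assoc, tr_nat g hj₂, Category.assoc, e5, Category.assoc, ← Category.assoc,
      M2 k₂ hk₂, Category.assoc]
  rw [Preadditive.comp_sub, e6, e7]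
  abel

include hT hTc tγ M1 M2 M3 SA SC FX in
theorem mid_inj {D' : D} {k : ℕ} (hk : k₀ ≤ k) (w : B ⟶ D') (hw : σ k hk ≫ w = 0) : w = 0 := by
  have e1 : u ≫ w = 0 := by
    calc u ≫ w = cA.app (op k) ≫ (α k hk ≫ u) ≫ w := by
          rw [Category.assoc]
          exact (SA k hk _).symm
      _ = 0 := by rw [← M1 k hk, Category.assoc, hw, comp_zero, comp_zero]
  obtain ⟨w', hw'⟩ : ∃ w' : C ⟶ D', w = v ≫ w' := Triangle.yoneda_exact₂ _ hTc w e1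
  have e2 : g.app (op k) ≫ γ k hk ≫ w' = 0 := by
    rw [← Category.assoc, M2 k hk, Category.assoc, ← hw', hw]
  obtain ⟨w'', hw''⟩ : ∃ w'' : (shiftFunctor D (1 : ℤ)).obj (X.obj (op k)) ⟶ D',
      γ k hk ≫ w' = h.app (op k) ≫ w'' :=
    Triangle.yoneda_exact₃ _ (hT k) _ e2
  obtain ⟨k', hk', hkk', e3⟩ := FX k
  have e4 : γ k' hk' ≫ w' =
      γ k' hk' ≫ δ ≫ (shiftFunctor D (1 : ℤ)).map (cA.app (op k)) ≫ w'' := by
    calc γ k' hk' ≫ w' = ARSys.tr Z hkk' ≫ γ k hk ≫ w' := by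
          rw [← Category.assoc, tγ k k' hk hkk']
      _ = h.app (op k') ≫ (shiftFunctor D (1 : ℤ)).map (ARSys.tr X hkk') ≫ w'' := by
          rw [hw'', ← Category.assoc, ← h_nat h hkk', Category.assoc]
      _ = _ := by
          rw [e3, Functor.map_comp, Category.assoc, ← Category.assoc, M3 k' hk', Category.assoc]
  have e5 : w' = δ ≫ (shiftFunctor D (1 : ℤ)).map (cA.app (op k)) ≫ w'' := by
    have := congrArg (fun t => cC.app (op k') ≫ t) e4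
    exact (SC k' hk' _).symm.trans (this.trans (SC k' hk' _))
  have h23 : v ≫ δ = 0 := comp_distTriang_mor_zero₂₃ _ hTc
  rw [hw', e5, reassoc_of% h23, zero_comp]

include hT hTc tσ tγ M1 M2 M3 SA SC FX FZ in
theorem essConst_mid : ∃ cB : (Functor.const ℕᵒᵖ).obj B ⟶ Y, DerCA.IsEssConstant Y B cB := by
  have surj := fun (j : ℕ) =>
    mid_surj f g h hT u v δ hTc cA cC k₀ α σ γ tσ M1 M2 M3 SC FX FZ (D' := Y.obj (op j)) j (𝟙 _)
  choose K hK hjK c hc using surj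
  have inj : ∀ {D' : D} {k : ℕ} (hk : k₀ ≤ k) (w : B ⟶ D'), σ k hk ≫ w = 0 → w = 0 :=
    fun hk w hw => mid_inj f g h hT u v δ hTc cA cC k₀ α σ γ tγ M1 M2 M3 SA SC FX hk w hw
  have uniq : ∀ (j : ℕ) (c' : B ⟶ Y.obj (op j)) (k : ℕ) (hk : k₀ ≤ k) (hj : j ≤ k),
      σ k hk ≫ c' = ARSys.tr Y hj → c' = c j := by
    intro j c' k hk hj e
    apply sub_eq_zero.mp
    apply inj (hk.trans (le_max_left k (K j)))
    rw [Preadditive.comp_sub, sub_eq_zero]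
    have e1 : σ (max k (K j)) (hk.trans (le_max_left k (K j))) ≫ c' =
        ARSys.tr Y (hj.trans (le_max_left k (K j))) := by
      rw [← tσ k _ hk (le_max_left k (K j)), Category.assoc, e, tr_comp]
    have e2 : σ (max k (K j)) (hk.trans (le_max_left k (K j))) ≫ c j =
        ARSys.tr Y (hj.trans (le_max_left k (K j))) := by
      have := tσ (K j) _ (hK j) (le_max_right k (K j))
      rw [← this, Category.assoc, hc j, Category.comp_id, tr_comp]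
    rw [e1, e2]
  let cB : (Functor.const ℕᵒᵖ).obj B ⟶ Y :=
    { app := fun n => c n.unop
      naturality := by
        intro n m φ
        change 𝟙 B ≫ c m.unop = c n.unop ≫ Y.map φ
        rw [Category.id_comp]
        symm
        have hφ : Y.map φ = ARSys.tr Y (leOfHom φ.unop) := by
          congr 1
        apply uniq m.unop _ (K n.unop) (hK n.unop) ((leOfHom φ.unop).trans (hjK n.unop))
        rw [← Category.assoc, hc, Category.comp_id, hφ, tr_comp] }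
  refine ⟨cB, k₀, σ k₀ le_rfl, ?_, ?_⟩
  · change c k₀ ≫ σ k₀ le_rfl = 𝟙 B
    apply sub_eq_zero.mp
    apply inj (hK k₀)
    rw [Preadditive.comp_sub, sub_eq_zero, ← Category.assoc, hc, Category.comp_id, Category.comp_id]
    exact tσ k₀ (K k₀) le_rfl (hjK k₀)
  · intro j
    refine ⟨K j, hK j, hjK j, ?_⟩
    change ARSys.tr Y (hjK j) = ARSys.tr Y (hK j) ≫ σ k₀ le_rfl ≫ c j
    have e := hc j
    rw [Category.comp_id] at e
    rw [← e, ← Category.assoc]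
    congr 1
    exact (tσ k₀ (K j) le_rfl (hK j)).symm

end Mid

section TwoOfThree

variable {D : Type u} [Category.{v} D] [Preadditive D] [HasZeroObject D] [HasShift D ℤ]
  [∀ n : ℤ, (shiftFunctor D n).Additive] [Pretriangulated D]

theorem essConst_two_of_three (X Y Z : ARSys.PS D) (f : X ⟶ Y) (g : Y ⟶ Z)
    (h : Z ⟶ X ⋙ shiftFunctor D (1 : ℤ))
    (hT : ∀ n : ℕ, Triangle.mk (f.app (op n)) (g.app (op n)) (h.app (op n)) ∈ distTriang D)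
    (hX : ∃ (A : D) (cA : (Functor.const ℕᵒᵖ).obj A ⟶ X), DerCA.IsEssConstant X A cA)
    (hZ : ∃ (C : D) (cC : (Functor.const ℕᵒᵖ).obj C ⟶ Z), DerCA.IsEssConstant Z C cC) :
    ∃ (B : D) (cB : (Functor.const ℕᵒᵖ).obj B ⟶ Y), DerCA.IsEssConstant Y B cB := by
  obtain ⟨A, cA, iA, sA, hsA, HA⟩ := hX
  obtain ⟨C, cC, iC, sC, hsC, HC⟩ := hZ
  obtain ⟨hsA₁, HA₁⟩ := witness_shift cA sA hsA HA (le_max_left iA iC)
  obtain ⟨hsC₁, HC₁⟩ := witness_shift cC sC hsC HC (le_max_right iA iC)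
  generalize ARSys.tr X (le_max_left iA iC) ≫ sA = sA₁ at hsA₁ HA₁
  generalize ARSys.tr Z (le_max_right iA iC) ≫ sC = sC₁ at hsC₁ HC₁
  generalize max iA iC = i₁ at sA₁ sC₁ hsA₁ HA₁ hsC₁ HC₁
  obtain ⟨k₀, hk₀, hk₀', eZ⟩ := HC₁ i₁
  obtain ⟨hα, FXraw⟩ := witness_shift cA sA₁ hsA₁ HA₁ hk₀
  obtain ⟨hγ, FZraw⟩ := witness_shift cC sC₁ hsC₁ HC₁ hk₀
  obtain ⟨δ, hδ⟩ : ∃ δ : C ⟶ (shiftFunctor D (1 : ℤ)).obj A,
      δ = cC.app (op i₁) ≫ h.app (op i₁) ≫ (shiftFunctor D (1 : ℤ)).map sA₁ := ⟨_, rfl⟩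
  have m3 : h.app (op k₀) ≫ (shiftFunctor D (1 : ℤ)).map (ARSys.tr X hk₀ ≫ sA₁) =
      (ARSys.tr Z hk₀ ≫ sC₁) ≫ δ := by
    rw [Functor.map_comp, ← Category.assoc, h_nat h hk₀, hδ]
    have : (ARSys.tr Z hk₀ ≫ sC₁) ≫ cC.app (op i₁) ≫ h.app (op i₁) ≫
        (shiftFunctor D (1 : ℤ)).map sA₁ = (ARSys.tr Z hk₀ ≫ sC₁ ≫ cC.app (op i₁)) ≫
          h.app (op i₁) ≫ (shiftFunctor D (1 : ℤ)).map sA₁ := by
      simp only [Category.assoc]
    rw [this, ← eZ, Category.assoc]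
  generalize ARSys.tr X hk₀ ≫ sA₁ = α₀ at hα FXraw m3
  generalize ARSys.tr Z hk₀ ≫ sC₁ = γ₀ at hγ FZraw m3
  obtain ⟨B, u, v, hTc⟩ := distinguished_cocone_triangle₂ δ
  obtain ⟨σ₀, m1, m2⟩ : ∃ σ₀ : Y.obj (op k₀) ⟶ B,
      f.app (op k₀) ≫ σ₀ = α₀ ≫ u ∧ g.app (op k₀) ≫ γ₀ = σ₀ ≫ v :=
    complete_distinguished_triangle_morphism₂ _ _ (hT k₀) hTc α₀ γ₀ m3
  refine ⟨B, essConst_mid f g h hT u v δ hTc cA cC k₀ (fun k hk => ARSys.tr X hk ≫ α₀)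
    (fun k hk => ARSys.tr Y hk ≫ σ₀) (fun k hk => ARSys.tr Z hk ≫ γ₀) ?_ ?_ ?_ ?_ ?_ ?_ ?_ ?_ ?_⟩
  · intro k k' hk hkk'
    rw [← Category.assoc, tr_comp]
  · intro k k' hk hkk'
    rw [← Category.assoc, tr_comp]
  · intro k hk
    rw [← Category.assoc, ← tr_nat f hk, Category.assoc, m1, Category.assoc]
  · intro k hk
    rw [← Category.assoc, ← tr_nat g hk, Category.assoc, m2, Category.assoc]
  · intro k hk
    rw [Functor.map_comp, ← Category.assoc, h_nat h hk, Category.assoc, m3, Category.assoc]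
  · intro k hk T t
    calc cA.app (op k) ≫ (ARSys.tr X hk ≫ α₀) ≫ t = (cA.app (op k₀) ≫ α₀) ≫ t := by
          rw [← cone_tr cA hk]
          simp only [Category.assoc]
      _ = t := by
          rw [hα]
          exact Category.id_comp t
  · intro k hk T t
    calc cC.app (op k) ≫ (ARSys.tr Z hk ≫ γ₀) ≫ t = (cC.app (op k₀) ≫ γ₀) ≫ t := by
          rw [← cone_tr cC hk]
          simp only [Category.assoc]
      _ = t := by
          rw [hγ]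
          exact Category.id_comp t
  · intro j
    obtain ⟨k, hk, hj, e⟩ := FXraw j
    exact ⟨k, hk, hj, by rw [e, Category.assoc]⟩
  · intro j
    obtain ⟨k, hk, hj, e⟩ := FZraw j
    exact ⟨k, hk, hj, by rw [e, Category.assoc]⟩

end TwoOfThree

end Groth.Agent.Lib.Helper8.ProSys
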