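import Groth.Agent.Lib.Helper8.ProSys3
import Groth.Agent.Lib.Helper8.ProSys2

/-! Essentially constant systems in the derived category are detected on cohomology (bounded
amplitude). -/

set_option autoImplicit false
set_option linter.unusedSectionVars false
universe w v u

open CategoryTheory CategoryTheory.Limits CategoryTheory.Pretriangulated Opposite ZeroObject

namespace Groth.Agent.Lib.Helper8.ProSys

section General

variable {C : Type u} [Category.{v} C]

/-- Transfer of essential constancy along an isomorphism of systems. -/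
lemma essConst_of_natIso {X X' : ARSys.PS C} (e : X ≅ X') {B : C}
    (c : (Functor.const ℕᵒᵖ).obj B ⟶ X) (hc : DerCA.IsEssConstant X B c) :
    DerCA.IsEssConstant X' B (c ≫ e.hom) := by
  obtain ⟨i, s, hs, H⟩ := hc
  refine ⟨i, e.inv.app (op i) ≫ s, ?_, ?_⟩
  · change (c.app (op i) ≫ e.hom.app (op i)) ≫ e.inv.app (op i) ≫ s = 𝟙 B
    rw [Category.assoc, Iso.hom_inv_id_app_assoc, hs]
  · intro j
    obtain ⟨k, hi, hj, E⟩ := H j
    refine ⟨k, hi, hj, ?_⟩
    change ARSys.tr X' hj = ARSys.tr X' hi ≫ (e.inv.app (op i) ≫ s) ≫ c.app (op j) ≫ e.hom.app (op j)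
    have n1 : ARSys.tr X' hj = e.inv.app (op k) ≫ ARSys.tr X hj ≫ e.hom.app (op j) := by
      rw [tr_nat e.hom hj, Iso.inv_hom_id_app_assoc]
    have n2 : ARSys.tr X' hi ≫ e.inv.app (op i) = e.inv.app (op k) ≫ ARSys.tr X hi :=
      tr_nat e.inv hi
    rw [n1, E]
    have n3 : ARSys.tr X' hi ≫ (e.inv.app (op i) ≫ s) ≫ c.app (op j) ≫ e.hom.app (op j) =
        (ARSys.tr X' hi ≫ e.inv.app (op i)) ≫ s ≫ c.app (op j) ≫ e.hom.app (op j) := by
      simp only [Category.assoc]
    rw [n3, n2]
    simp only [Category.assoc]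

/-- A system of zero objects is essentially constant. -/
lemma essConst_of_isZero [HasZeroMorphisms C] [HasZeroObject C] (X : ARSys.PS C)
    (hX : ∀ n : ℕ, IsZero (X.obj (op n))) :
    ∃ (B : C) (c : (Functor.const ℕᵒᵖ).obj B ⟶ X), DerCA.IsEssConstant X B c := by
  refine ⟨0, { app := fun _ => 0, naturality := fun _ _ _ => (hX _).eq_of_tgt _ _ }, 0, 0,
    (isZero_zero C).eq_of_src _ _, fun j => ⟨j, Nat.zero_le j, le_rfl, (hX j).eq_of_tgt _ _⟩⟩

/-- Transfer of essential constancy along a functor which is fully faithful on a class of objects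
containing the system. -/
theorem essConst_of_fullyFaithfulOn {E : Type*} [Category E] (F : C ⥤ E) (P : ObjectProperty C)
    (hfull : ∀ (U V : C), P U → P V → ∀ φ : F.obj U ⟶ F.obj V, ∃ ψ : U ⟶ V, F.map ψ = φ)
    (hfaith : ∀ (U V : C), P U → P V → ∀ ψ ψ' : U ⟶ V, F.map ψ = F.map ψ' → ψ = ψ')
    (X : ARSys.PS C) (hX : ∀ n : ℕ, P (X.obj (op n)))
    {B : E} (c : (Functor.const ℕᵒᵖ).obj B ⟶ X ⋙ F) (hc : DerCA.IsEssConstant (X ⋙ F) B c)
    (L : C) (hL : P L) (θ : F.obj L ≅ B) :
    ∃ c' : (Functor.const ℕᵒᵖ).obj L ⟶ X, DerCA.IsEssConstant X L c' := by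
  obtain ⟨i, s, hs, H⟩ := hc
  choose c' hc' using fun n : ℕ => hfull L (X.obj (op n)) hL (hX n) (θ.hom ≫ c.app (op n))
  obtain ⟨s', hs'⟩ := hfull (X.obj (op i)) L (hX i) hL (s ≫ θ.inv)
  have hnat : ∀ (n m : ℕ) (hnm : n ≤ m), c' m ≫ ARSys.tr X hnm = c' n := by
    intro n m hnm
    apply hfaith _ _ hL (hX n)
    rw [Functor.map_comp, hc', hc', Category.assoc]
    congr 1
    exact cone_tr c hnm
  refine ⟨{ app := fun n => c' n.unop, naturality := ?_ }, i, s', ?_, ?_⟩
  · intro n m φ
    change 𝟙 L ≫ c' m.unop = c' n.unop ≫ X.map φ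
    rw [Category.id_comp]
    exact (hnat m.unop n.unop (leOfHom φ.unop)).symm
  · change c' i ≫ s' = 𝟙 L
    apply hfaith _ _ hL hL
    rw [Functor.map_comp, hc', hs', CategoryTheory.Functor.map_id, Category.assoc,
      ← Category.assoc (c.app (op i))]
    have : c.app (op i) ≫ s = 𝟙 B := hs
    rw [this]
    exact (congrArg (fun t => θ.hom ≫ t) (Category.id_comp θ.inv)).trans θ.hom_inv_id
  · intro j
    obtain ⟨k, hi, hj, E⟩ := H j
    refine ⟨k, hi, hj, ?_⟩
    change ARSys.tr X hj = ARSys.tr X hi ≫ s' ≫ c' j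
    apply hfaith _ _ (hX k) (hX j)
    have E' : F.map (ARSys.tr X hj) = F.map (ARSys.tr X hi) ≫ s ≫ c.app (op j) := E
    rw [Functor.map_comp, Functor.map_comp, hc', hs', E']
    simp only [Category.assoc, Iso.inv_hom_id_assoc]

end General

section Der

open DerivedCategory Groth.Agent.Lib.Helper8.DTrunc

variable {A : Type u} [Category.{v} A] [Abelian A] [HasDerivedCategory.{w} A]

lemma exists_map_eq {E E' : DerivedCategory A} (n : ℤ) [E.IsGE n] [E.IsLE n] [E'.IsGE n]
    [E'.IsLE n] (φ : (homologyFunctor A n).obj E ⟶ (homologyFunctor A n).obj E') :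
    ∃ ψ : E ⟶ E', (homologyFunctor A n).map ψ = φ := by
  obtain ⟨M, ⟨eX⟩⟩ := exists_iso_singleFunctor_obj_of_isGE_of_isLE E n
  obtain ⟨N, ⟨eY⟩⟩ := exists_iso_singleFunctor_obj_of_isGE_of_isLE E' n
  let iM := (singleFunctorCompHomologyFunctorIso A n).app M
  let iN := (singleFunctorCompHomologyFunctorIso A n).app N
  let φ' : M ⟶ N := iM.inv ≫ (homologyFunctor A n).map eX.inv ≫ φ ≫
    (homologyFunctor A n).map eY.hom ≫ iN.hom
  refine ⟨eX.hom ≫ (singleFunctor A n).map φ' ≫ eY.inv, ?_⟩
  have nat : (homologyFunctor A n).map ((singleFunctor A n).map φ') = iM.hom ≫ φ' ≫ iN.inv := by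
    have h2 : iM.inv ≫ (homologyFunctor A n).map ((singleFunctor A n).map φ') ≫ iN.hom = φ' :=
      NatIso.naturality_1 (singleFunctorCompHomologyFunctorIso A n) φ'
    calc (homologyFunctor A n).map ((singleFunctor A n).map φ')
        = iM.hom ≫ (iM.inv ≫ (homologyFunctor A n).map ((singleFunctor A n).map φ') ≫ iN.hom) ≫
            iN.inv := by
          simp only [Category.assoc, Iso.hom_inv_id, Category.comp_id, Iso.hom_inv_id_assoc]
      _ = iM.hom ≫ φ' ≫ iN.inv := by rw [h2]
  rw [Functor.map_comp, Functor.map_comp, nat]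
  simp only [φ', Category.assoc, Iso.hom_inv_id_assoc, Iso.hom_inv_id, Category.comp_id]
  rw [← Functor.map_comp_assoc, Iso.hom_inv_id, CategoryTheory.Functor.map_id, Category.id_comp,
    ← Functor.map_comp, Iso.hom_inv_id, CategoryTheory.Functor.map_id, Category.comp_id]

lemma eq_of_homologyMap_eq {E E' : DerivedCategory A} (n : ℤ) [E.IsGE n] [E.IsLE n] [E'.IsGE n]
    [E'.IsLE n] (ψ ψ' : E ⟶ E')
    (h : (homologyFunctor A n).map ψ = (homologyFunctor A n).map ψ') : ψ = ψ' := by
  apply sub_eq_zero.mp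
  apply eq_zero_of_homologyMap_eq_zero n
  rw [Functor.map_sub, h, sub_self]

/-- Amplitude zero. -/
theorem essConst_of_homology_zero (a : ℤ) (X : ARSys.PS (DerivedCategory A))
    (hGE : ∀ n : ℕ, (X.obj (op n)).IsGE a) (hLE : ∀ n : ℕ, (X.obj (op n)).IsLE a)
    (hH : ∃ (B : A) (c : (Functor.const ℕᵒᵖ).obj B ⟶ X ⋙ homologyFunctor A a),
      DerCA.IsEssConstant (X ⋙ homologyFunctor A a) B c) :
    ∃ (L : DerivedCategory A) (c : (Functor.const ℕᵒᵖ).obj L ⟶ X), DerCA.IsEssConstant X L c := by
  obtain ⟨B, c, hc⟩ := hH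
  refine ⟨(singleFunctor A a).obj B, essConst_of_fullyFaithfulOn (homologyFunctor A a)
    (fun E => E.IsGE a ∧ E.IsLE a) ?_ ?_ X (fun n => ⟨hGE n, hLE n⟩) c hc _
    ⟨inferInstance, inferInstance⟩ ((singleFunctorCompHomologyFunctorIso A a).app B)⟩
  · intro U V hU hV φ
    have := hU.1
    have := hU.2
    have := hV.1
    have := hV.2
    exact exists_map_eq a φ
  · intro U V hU hV ψ ψ' h
    have := hU.1
    have := hU.2
    have := hV.1
    have := hV.2
    exact eq_of_homologyMap_eq a ψ ψ' h

end Der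

section Der2

open DerivedCategory Groth.Agent.Lib.Helper8.DTrunc

variable {A : Type u} [Category.{v} A] [Abelian A] [HasDerivedCategory.{w} A]

lemma isIso_homologyMap_truncLTι (E : DerivedCategory A) (b i : ℤ) (hi : i < b) :
    IsIso ((homologyFunctor A i).map ((tt.truncLTι b).app E)) := by
  have := mono_homologyMap_truncLTι E b i hi
  have hT := tt.triangleLTGE_distinguished b E
  have : Epi ((homologyFunctor A i).map ((tt.truncLTι b).app E)) :=
    (HomologySequence.epi_homologyMap_mor₁_iff _ hT i).2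
      ((isZero_of_isGE ((tt.truncGE b).obj E) b i hi).eq_of_tgt _ _)
  exact isIso_of_mono_of_epi _

lemma isIso_homologyMap_truncGEπ (E : DerivedCategory A) (b : ℤ) :
    IsIso ((homologyFunctor A b).map ((tt.truncGEπ b).app E)) := by
  have := epi_homologyMap_truncGEπ E b
  have hT := tt.triangleLTGE_distinguished b E
  have : tt.IsLE ((tt.truncLT b).obj E) (b - 1) := inferInstance
  have : Mono ((homologyFunctor A b).map ((tt.truncGEπ b).app E)) :=
    (HomologySequence.mono_homologyMap_mor₂_iff _ hT b).2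
      ((isZero_of_isLE ((tt.truncLT b).obj E) (b - 1) b (by omega)).eq_of_src _ _)
  exact isIso_of_mono_of_epi _

variable (X : ARSys.PS (DerivedCategory A)) (b : ℤ)

/-- The inclusions of the truncations, as a map of systems. -/
noncomputable def ιSys : X ⋙ tt.truncLT b ⟶ X where
  app n := (tt.truncLTι b).app (X.obj n)
  naturality _ _ φ := (tt.truncLTι b).naturality (X.map φ)

/-- The projections to the truncations, as a map of systems. -/
noncomputable def πSys : X ⟶ X ⋙ tt.truncGE b where
  app n := (tt.truncGEπ b).app (X.obj n)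
  naturality _ _ φ := (tt.truncGEπ b).naturality (X.map φ)

/-- The connecting maps of the truncation triangles, as a map of systems. -/
noncomputable def δSys : X ⋙ tt.truncGE b ⟶ (X ⋙ tt.truncLT b) ⋙ shiftFunctor _ (1 : ℤ) where
  app n := (tt.truncGEδLT b).app (X.obj n)
  naturality _ _ φ := (tt.truncGEδLT b).naturality (X.map φ)

theorem essConst_of_homology (k : ℕ) : ∀ (a : ℤ) (X : ARSys.PS (DerivedCategory A)),
    (∀ n : ℕ, (X.obj (op n)).IsGE a) → (∀ n : ℕ, (X.obj (op n)).IsLE (a + k)) →
    (∀ i : ℤ, ∃ (B : A) (c : (Functor.const ℕᵒᵖ).obj B ⟶ X ⋙ homologyFunctor A i),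
      DerCA.IsEssConstant (X ⋙ homologyFunctor A i) B c) →
    ∃ (L : DerivedCategory A) (c : (Functor.const ℕᵒᵖ).obj L ⟶ X), DerCA.IsEssConstant X L c := by
  induction k with
  | zero =>
    intro a X hGE hLE hH
    exact essConst_of_homology_zero a X hGE (fun n => by simpa using hLE n) (hH a)
  | succ k ih =>
    intro a X hGE hLE hH
    obtain ⟨b, hb⟩ : ∃ b : ℤ, b = a + (k + 1 : ℕ) := ⟨_, rfl⟩
    have hLEb : ∀ n : ℕ, (X.obj (op n)).IsLE b := fun n => by rw [hb]; exact hLE n
    -- the lower truncation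
    have h1 : ∃ (L : DerivedCategory A) (c : (Functor.const ℕᵒᵖ).obj L ⟶ X ⋙ tt.truncLT b),
        DerCA.IsEssConstant (X ⋙ tt.truncLT b) L c := by
      apply ih a
      · intro n
        have := hGE n
        change tt.IsGE ((tt.truncLT b).obj (X.obj (op n))) a
        infer_instance
      · intro n
        exact tt.isLE_truncLT_obj (X.obj (op n)) b (a + k) (by rw [hb]; push_cast; omega)
      · intro i
        by_cases hi : i < b
        · obtain ⟨B, c, hc⟩ := hH i
          have hiso : ∀ n : ℕᵒᵖ, IsIso ((homologyFunctor A i).map ((tt.truncLTι b).app (X.obj n))) :=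
            fun n => isIso_homologyMap_truncLTι (X.obj n) b i hi
          let e : (X ⋙ tt.truncLT b) ⋙ homologyFunctor A i ≅ X ⋙ homologyFunctor A i :=
            NatIso.ofComponents (fun n => asIso ((homologyFunctor A i).map
              ((tt.truncLTι b).app (X.obj n)))) (fun {n m} φ => by
                change (homologyFunctor A i).map ((tt.truncLT b).map (X.map φ)) ≫
                  (homologyFunctor A i).map ((tt.truncLTι b).app (X.obj m)) =
                  (homologyFunctor A i).map ((tt.truncLTι b).app (X.obj n)) ≫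
                    (homologyFunctor A i).map (X.map φ)
                rw [← Functor.map_comp, ← Functor.map_comp]
                congr 1
                exact (tt.truncLTι b).naturality (X.map φ))
          exact ⟨B, c ≫ e.symm.hom, essConst_of_natIso e.symm c hc⟩
        · apply essConst_of_isZero
          intro n
          have : tt.IsLE ((tt.truncLT b).obj (X.obj (op n))) (b - 1) := inferInstance
          exact isZero_of_isLE ((tt.truncLT b).obj (X.obj (op n))) (b - 1) i (by omega)
    -- the upper truncation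
    have h2 : ∃ (L : DerivedCategory A) (c : (Functor.const ℕᵒᵖ).obj L ⟶ X ⋙ tt.truncGE b),
        DerCA.IsEssConstant (X ⋙ tt.truncGE b) L c := by
      apply essConst_of_homology_zero b
      · intro n
        change tt.IsGE ((tt.truncGE b).obj (X.obj (op n))) b
        infer_instance
      · intro n
        have := hLEb n
        change tt.IsLE ((tt.truncGE b).obj (X.obj (op n))) b
        infer_instance
      · obtain ⟨B, c, hc⟩ := hH b
        have hiso : ∀ n : ℕᵒᵖ, IsIso ((homologyFunctor A b).map ((tt.truncGEπ b).app (X.obj n))) :=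
          fun n => isIso_homologyMap_truncGEπ (X.obj n) b
        let e : X ⋙ homologyFunctor A b ≅ (X ⋙ tt.truncGE b) ⋙ homologyFunctor A b :=
          NatIso.ofComponents (fun n => asIso ((homologyFunctor A b).map
            ((tt.truncGEπ b).app (X.obj n)))) (fun {n m} φ => by
              change (homologyFunctor A b).map (X.map φ) ≫
                (homologyFunctor A b).map ((tt.truncGEπ b).app (X.obj m)) =
                (homologyFunctor A b).map ((tt.truncGEπ b).app (X.obj n)) ≫
                  (homologyFunctor A b).map ((tt.truncGE b).map (X.map φ))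
              rw [← Functor.map_comp, ← Functor.map_comp]
              congr 1
              exact (tt.truncGEπ b).naturality (X.map φ))
        exact ⟨B, c ≫ e.hom, essConst_of_natIso e c hc⟩
    exact essConst_two_of_three (X ⋙ tt.truncLT b) X (X ⋙ tt.truncGE b) (ιSys X b) (πSys X b)
      (δSys X b) (fun n => tt.triangleLTGE_distinguished b (X.obj (op n))) h1 h2

end Der2

end Groth.Agent.Lib.Helper8.ProSys
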