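import Mathlib
import Groth.Agent.Lib.Helper8.Bid6
import Groth.Agent.Lib.Helper8.RAdj1

/-! # Helper8 — RAdj4: the adjunction bijection `Hom(X, (R K)[i]) ≃ Hom(res X, K[i])` for a right
adjoint `R` of restriction of scalars (`adjShift`, bijective, additive, semilinear); for `A → B`
surjective the dimension function of `R ω` is the restriction of that of `ω` (S8970). -/

set_option autoImplicit false

universe u

open CategoryTheory CategoryTheory.Limits CategoryTheory.Pretriangulated Opposite DerivedCategory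
open scoped TensorProduct

attribute [local instance] HasDerivedCategory.standard

namespace Groth.Agent.Lib.Helper8.Bidual

open Groth.Agent.Lib.Helper8

section Shift

variable {A B : Type u} [CommRing A] [CommRing B] [Algebra A B]
  {R : Dual.D A ⥤ Dual.D B} (adj : DRing.restrictD (algebraMap A B) ⊣ R)

/-- the adjunction map `Hom(X, (R K)[i]) → Hom(res X, K[i])` -/
noncomputable def adjShift (X : Dual.D B) (K : Dual.D A) (i : ℤ) :
    (X ⟶ (R.obj K)⟦i⟧) → ((DRing.restrictD (algebraMap A B)).obj X ⟶ K⟦i⟧) := fun f =>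
  (shiftNegShift ((DRing.restrictD (algebraMap A B)).obj X) i).inv ≫
    (((DRing.restrictD (algebraMap A B)).commShiftIso (-i)).inv.app X ≫
      (adj.homEquiv (X⟦-i⟧) K).symm (f⟦-i⟧' ≫ (shiftShiftNeg (R.obj K) i).hom))⟦i⟧'

lemma adjShift_bijective (X : Dual.D B) (K : Dual.D A) (i : ℤ) :
    Function.Bijective (adjShift adj X K i) := by
  have h1 : Function.Bijective (fun f : X ⟶ (R.obj K)⟦i⟧ => f⟦-i⟧') :=
    ⟨(shiftFunctor (Dual.D B) (-i)).map_injective, (shiftFunctor (Dual.D B) (-i)).map_surjective⟩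
  have h2 : Function.Bijective (fun g : X⟦-i⟧ ⟶ ((R.obj K)⟦i⟧)⟦-i⟧ =>
      g ≫ (shiftShiftNeg (R.obj K) i).hom) :=
    ⟨fun g g' h => (cancel_mono _).1 h, fun g => ⟨g ≫ (shiftShiftNeg (R.obj K) i).inv, by
      change (g ≫ (shiftShiftNeg (R.obj K) i).inv) ≫ (shiftShiftNeg (R.obj K) i).hom = g
      rw [Category.assoc, Iso.inv_hom_id, Category.comp_id]⟩⟩
  have h3 : Function.Bijective (fun g : X⟦-i⟧ ⟶ R.obj K => (adj.homEquiv (X⟦-i⟧) K).symm g) :=
    (adj.homEquiv (X⟦-i⟧) K).symm.bijective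
  have h4 : Function.Bijective (fun g : (DRing.restrictD (algebraMap A B)).obj (X⟦-i⟧) ⟶ K =>
      ((DRing.restrictD (algebraMap A B)).commShiftIso (-i)).inv.app X ≫ g) :=
    ⟨fun g g' h => (cancel_epi _).1 h, fun g =>
      ⟨((DRing.restrictD (algebraMap A B)).commShiftIso (-i)).hom.app X ≫ g, by simp⟩⟩
  have h5 : Function.Bijective (fun g : ((DRing.restrictD (algebraMap A B)).obj X)⟦-i⟧ ⟶ K =>
      g⟦i⟧') :=
    ⟨(shiftFunctor (Dual.D A) i).map_injective, (shiftFunctor (Dual.D A) i).map_surjective⟩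
  have h6 : Function.Bijective (fun g : (((DRing.restrictD (algebraMap A B)).obj X)⟦-i⟧)⟦i⟧ ⟶ K⟦i⟧ =>
      (shiftNegShift ((DRing.restrictD (algebraMap A B)).obj X) i).inv ≫ g) :=
    ⟨fun g g' h => (cancel_epi _).1 h, fun g =>
      ⟨(shiftNegShift ((DRing.restrictD (algebraMap A B)).obj X) i).hom ≫ g, by
        change (shiftNegShift ((DRing.restrictD (algebraMap A B)).obj X) i).inv ≫
          (shiftNegShift ((DRing.restrictD (algebraMap A B)).obj X) i).hom ≫ g = g
        rw [Iso.inv_hom_id_assoc]⟩⟩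
  exact h6.comp (h5.comp (h4.comp (h3.comp (h2.comp h1))))

lemma adjShift_add (X : Dual.D B) (K : Dual.D A) (i : ℤ) (f g : X ⟶ (R.obj K)⟦i⟧) :
    adjShift adj X K i (f + g) = adjShift adj X K i f + adjShift adj X K i g := by
  unfold adjShift
  rw [Functor.map_add, Preadditive.add_comp]
  have h1 : ∀ u v : X⟦-i⟧ ⟶ R.obj K, (adj.homEquiv (X⟦-i⟧) K).symm (u + v) =
      (adj.homEquiv (X⟦-i⟧) K).symm u + (adj.homEquiv (X⟦-i⟧) K).symm v := by
    intro u v
    rw [Adjunction.homEquiv_counit, Adjunction.homEquiv_counit, Adjunction.homEquiv_counit,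
      Functor.map_add, Preadditive.add_comp]
  rw [h1, Preadditive.comp_add, Functor.map_add, Preadditive.comp_add]

lemma adjShift_smul (X : Dual.D B) (K : Dual.D A) (i : ℤ) (a : A) (f : X ⟶ (R.obj K)⟦i⟧) :
    adjShift adj X K i (algebraMap A B a • f) = a • adjShift adj X K i f := by
  unfold adjShift
  rw [Functor.map_smul, Linear.smul_comp, RAdj.homEquiv_symm_smul, Linear.comp_smul,
    Functor.map_smul, Linear.comp_smul]

end Shift

section Surj

variable {A B : Type u} [CommRing A] [CommRing B] [Algebra A B]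

/-- `A/φ⁻¹(q) ≃ B/q` as `A`-modules, for `φ` surjective -/
noncomputable def quotComapEquiv (hs : Function.Surjective (algebraMap A B)) (q : Ideal B) :
    (A ⧸ q.comap (algebraMap A B)) ≃ₗ[A]
      (ModuleCat.restrictScalars.{u} (algebraMap A B)).obj (ModuleCat.of B (B ⧸ q)) := by
  let g : A →ₗ[A] (ModuleCat.restrictScalars.{u} (algebraMap A B)).obj (ModuleCat.of B (B ⧸ q)) :=
    { toFun := fun a => (Ideal.Quotient.mk q (algebraMap A B a) : B ⧸ q)
      map_add' := fun a a' => by rw [map_add, map_add]; rfl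
      map_smul' := fun a a' => by
        change (Ideal.Quotient.mk q (algebraMap A B (a * a')) : B ⧸ q) =
          algebraMap A B a • (Ideal.Quotient.mk q (algebraMap A B a') : B ⧸ q)
        rw [map_mul, map_mul]
        rfl }
  have hg : Function.Surjective g := by
    intro x
    obtain ⟨b, rfl⟩ := Ideal.Quotient.mk_surjective (show B ⧸ q from x)
    obtain ⟨a, rfl⟩ := hs b
    exact ⟨a, rfl⟩
  have hk : LinearMap.ker g = q.comap (algebraMap A B) := by
    ext a
    rw [LinearMap.mem_ker, Ideal.mem_comap]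
    change (Ideal.Quotient.mk q (algebraMap A B a) : B ⧸ q) = 0 ↔ _
    rw [Ideal.Quotient.eq_zero_iff_mem]
  exact (Submodule.quotEquivOfEq _ _ hk.symm).trans (g.quotKerEquivOfSurjective hg)

/-- S8970 -/
theorem delta_rightAdjoint_eq_of_surjective (hs : Function.Surjective (algebraMap A B))
    (R : Dual.D A ⥤ Dual.D B) (adj : DRing.restrictD (algebraMap A B) ⊣ R) (ω : Dual.D A)
    (q : PrimeSpectrum B) (i : ℤ) :
    Nontrivial (LocalizedModule q.asIdeal.primeCompl
      (Dual.inD B (B ⧸ q.asIdeal) ⟶ (R.obj ω)⟦i⟧)) ↔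
    Nontrivial (LocalizedModule (q.asIdeal.comap (algebraMap A B)).primeCompl
      (Dual.inD A (A ⧸ q.asIdeal.comap (algebraMap A B)) ⟶ ω⟦i⟧)) := by
  let e : (DRing.restrictD (algebraMap A B)).obj (Dual.inD B (B ⧸ q.asIdeal)) ≅
      Dual.inD A (A ⧸ q.asIdeal.comap (algebraMap A B)) :=
    ((ModuleCat.restrictScalars.{u} (algebraMap A B)).mapDerivedCategorySingleFunctor 0).app
      (ModuleCat.of B (B ⧸ q.asIdeal)) ≪≫
    (singleFunctor (ModuleCat.{u} A) 0).mapIso (quotComapEquiv hs q.asIdeal).symm.toModuleIso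
  let Ψ : (Dual.inD B (B ⧸ q.asIdeal) ⟶ (R.obj ω)⟦i⟧) →
      (Dual.inD A (A ⧸ q.asIdeal.comap (algebraMap A B)) ⟶ ω⟦i⟧) := fun f =>
    e.inv ≫ adjShift adj _ ω i f
  have hΨ : Function.Bijective Ψ :=
    (show Function.Bijective (fun g : (DRing.restrictD (algebraMap A B)).obj
        (Dual.inD B (B ⧸ q.asIdeal)) ⟶ ω⟦i⟧ => e.inv ≫ g) from
      ⟨fun g g' h => (cancel_epi _).1 h, fun g => ⟨e.hom ≫ g, by simp⟩⟩).comp
      (adjShift_bijective adj _ ω i)
  have hΨs : ∀ (a : A) (f : Dual.inD B (B ⧸ q.asIdeal) ⟶ (R.obj ω)⟦i⟧),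
      Ψ (algebraMap A B a • f) = a • Ψ f := by
    intro a f
    change e.inv ≫ adjShift adj _ ω i (algebraMap A B a • f) = a • (e.inv ≫ adjShift adj _ ω i f)
    rw [adjShift_smul, Linear.comp_smul]
  have hΨ0 : Ψ 0 = 0 := by
    have := hΨs 0 0
    rw [map_zero, zero_smul, zero_smul] at this
    exact this
  rw [← not_subsingleton_iff_nontrivial, ← not_subsingleton_iff_nontrivial,
    LocalizedModule.subsingleton_iff, LocalizedModule.subsingleton_iff]
  refine not_congr ⟨fun h g => ?_, fun h f => ?_⟩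
  · obtain ⟨f, rfl⟩ := hΨ.2 g
    obtain ⟨t, ht, htf⟩ := h f
    obtain ⟨a, rfl⟩ := hs t
    refine ⟨a, ht, ?_⟩
    rw [← hΨs, htf, hΨ0]
  · obtain ⟨a, ha, hag⟩ := h (Ψ f)
    refine ⟨algebraMap A B a, ha, ?_⟩
    apply hΨ.1
    rw [hΨs, hag, hΨ0]

end Surj

end Groth.Agent.Lib.Helper8.Bidual
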