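import Mathlib.CategoryTheory.Abelian.RightDerived
import Mathlib.Algebra.Homology.HomologySequence
import Mathlib.Algebra.Homology.ShortComplex.ShortExact
import Mathlib.Algebra.Homology.HomologicalComplexAbelian

/-!
# Helper8: an extension lemma for maps out of a resolution into a sequence of injectives
-/

universe v u

open CategoryTheory CategoryTheory.Limits

namespace Groth.Agent.Lib.Helper8.RDer1

variable {C : Type u} [Category.{v} C] [Abelian C]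

section

variable {X : C} (A : ℕ → C) (ε : X ⟶ A 0) (d : ∀ n, A n ⟶ A (n + 1))
  (hε : ε ≫ d 0 = 0) (hd : ∀ n, d n ≫ d (n + 1) = 0)
  (ex0 : (ShortComplex.mk ε (d 0) hε).Exact)
  (ex : ∀ n, (ShortComplex.mk (d n) (d (n + 1)) (hd n)).Exact)
  (J : ℕ → C) [∀ n, Injective (J n)] (δ : ∀ n, J n ⟶ J (n + 1))
  (hδ : ∀ n, δ n ≫ δ (n + 1) = 0)
  (c : ∀ n, A n ⟶ J (n + 1)) (hc : ∀ n, d n ≫ c (n + 1) + c n ≫ δ (n + 1) = 0)

/-- The invariant of the recursion. -/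
def P : ∀ n, (A n ⟶ J n) → Prop
  | 0, h => ε ≫ (c 0 + h ≫ δ 0) = 0
  | (m + 1), h => d m ≫ (c (m + 1) + h ≫ δ (m + 1)) = 0

include ex0 ex in
lemma step (n : ℕ) (h : A n ⟶ J n) (hP : P A ε d J δ c n h) :
    ∃ h' : A (n + 1) ⟶ J (n + 1), d n ≫ h' = c n + h ≫ δ n := by
  cases n with
  | zero => exact ⟨ex0.descToInjective _ hP, ex0.comp_descToInjective _ _⟩
  | succ m => exact ⟨(ex m).descToInjective _ hP, (ex m).comp_descToInjective _ _⟩

omit [∀ n, Injective (J n)] in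
include hδ hc in
lemma P_succ (n : ℕ) (h : A n ⟶ J n) (h' : A (n + 1) ⟶ J (n + 1))
    (hh : d n ≫ h' = c n + h ≫ δ n) : P A ε d J δ c (n + 1) h' := by
  change d n ≫ (c (n + 1) + h' ≫ δ (n + 1)) = 0
  rw [Preadditive.comp_add, ← Category.assoc, hh, Preadditive.add_comp, Category.assoc, hδ,
    comp_zero, add_zero]
  exact hc n

include ex0 ex hδ hc in
theorem exists_seq (u₀ : A 0 ⟶ J 0) (hu₀ : ε ≫ (c 0 + u₀ ≫ δ 0) = 0) :
    ∃ u : ∀ n, A n ⟶ J n, u 0 = u₀ ∧ ∀ n, d n ≫ u (n + 1) = c n + u n ≫ δ n := by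
  classical
  let seq : ∀ n, {h : A n ⟶ J n // P A ε d J δ c n h} := fun n =>
    Nat.rec (motive := fun n => {h : A n ⟶ J n // P A ε d J δ c n h}) ⟨u₀, hu₀⟩
      (fun n ih => ⟨(step A ε d hε hd ex0 ex J δ c n ih.1 ih.2).choose,
        P_succ A ε d J δ hδ c hc n ih.1 _ (step A ε d hε hd ex0 ex J δ c n ih.1 ih.2).choose_spec⟩) n
  refine ⟨fun n => (seq n).1, rfl, fun n => ?_⟩
  exact (step A ε d hε hd ex0 ex J δ c n (seq n).1 (seq n).2).choose_spec

end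

end Groth.Agent.Lib.Helper8.RDer1
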