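import Groth.Prelude.Def_RDerDelta
import Groth.Agent.Lib.Helper8.RDer1

/-!
# Helper8: strict lifting of morphisms of short exact sequences to `SESRes`
-/

universe v u

open CategoryTheory CategoryTheory.Limits

namespace Groth.Agent.Lib.Helper8.RDer2

open RDer

variable {C : Type u} [Category.{v} C] [Abelian C]

section Aug

variable {Z : C} (I : InjectiveResolution Z)

/-- the augmentation `Z ⟶ I⁰` with cleaned-up source -/
noncomputable def aug : Z ⟶ I.cocomplex.X 0 := I.ι.f 0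

@[reassoc (attr := simp)]
lemma aug_d : aug I ≫ I.cocomplex.d 0 1 = 0 := I.ι_f_zero_comp_complex_d

lemma aug_exact : (ShortComplex.mk (aug I) (I.cocomplex.d 0 1) (aug_d I)).Exact := I.exact₀

instance : Mono (aug I) := inferInstanceAs (Mono (I.ι.f 0))

end Aug

section Basic

variable {S : ShortComplex C} (T : SESRes S)

/-- retraction in degree `n` -/
noncomputable def r (n : ℕ) : T.I₂.cocomplex.X n ⟶ T.I₁.cocomplex.X n := (T.splitting n).r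

/-- section in degree `n` -/
noncomputable def s (n : ℕ) : T.I₃.cocomplex.X n ⟶ T.I₂.cocomplex.X n := (T.splitting n).s

@[reassoc (attr := simp)]
lemma f_r (n : ℕ) : T.f.f n ≫ r T n = 𝟙 _ := (T.splitting n).f_r

@[reassoc (attr := simp)]
lemma s_g (n : ℕ) : s T n ≫ T.g.f n = 𝟙 _ := (T.splitting n).s_g

lemma r_f_add (n : ℕ) : r T n ≫ T.f.f n + T.g.f n ≫ s T n = 𝟙 _ := (T.splitting n).id

@[reassoc (attr := simp)]
lemma s_r (n : ℕ) : s T n ≫ r T n = 0 := (T.splitting n).s_r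

@[reassoc (attr := simp)]
lemma f_g (n : ℕ) : T.f.f n ≫ T.g.f n = 0 := by
  rw [← HomologicalComplex.comp_f, T.zero]; rfl

instance (n : ℕ) : Mono (T.f.f n) := mono_of_mono_fac (f_r T n)

instance (n : ℕ) : Epi (T.g.f n) := epi_of_epi_fac (s_g T n)

@[reassoc]
lemma ε_f : aug T.I₁ ≫ T.f.f 0 = S.f ≫ aug T.I₂ := by
  have := HomologicalComplex.congr_hom T.ι_f 0
  simp only [HomologicalComplex.comp_f, CochainComplex.single₀_map_f_zero] at this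
  exact this

@[reassoc]
lemma ε_g : aug T.I₂ ≫ T.g.f 0 = S.g ≫ aug T.I₃ := by
  have := HomologicalComplex.congr_hom T.ι_g 0
  simp only [HomologicalComplex.comp_f, CochainComplex.single₀_map_f_zero] at this
  exact this

end Basic


section Lift

variable {S S' : ShortComplex C} (T : SESRes S) (T' : SESRes S')
  (φ₁ : T.I₁.cocomplex ⟶ T'.I₁.cocomplex) (φ₃ : T.I₃.cocomplex ⟶ T'.I₃.cocomplex)

/-- the naive degreewise middle map -/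
noncomputable def ψ (n : ℕ) : T.I₂.cocomplex.X n ⟶ T'.I₂.cocomplex.X n :=
  r T n ≫ φ₁.f n ≫ T'.f.f n + T.g.f n ≫ φ₃.f n ≫ s T' n

@[reassoc]
lemma f_ψ (n : ℕ) : T.f.f n ≫ ψ T T' φ₁ φ₃ n = φ₁.f n ≫ T'.f.f n := by
  simp [ψ]

@[reassoc]
lemma ψ_g (n : ℕ) : ψ T T' φ₁ φ₃ n ≫ T'.g.f n = T.g.f n ≫ φ₃.f n := by
  simp [ψ]

/-- the failure of `ψ` to be a chain map -/
noncomputable def E (n : ℕ) : T.I₂.cocomplex.X n ⟶ T'.I₂.cocomplex.X (n + 1) :=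
  ψ T T' φ₁ φ₃ n ≫ T'.I₂.cocomplex.d n (n + 1) - T.I₂.cocomplex.d n (n + 1) ≫ ψ T T' φ₁ φ₃ (n + 1)

@[reassoc]
lemma f_E (n : ℕ) : T.f.f n ≫ E T T' φ₁ φ₃ n = 0 := by
  simp [E, f_ψ, f_ψ_assoc]

@[reassoc]
lemma E_g (n : ℕ) : E T T' φ₁ φ₃ n ≫ T'.g.f (n + 1) = 0 := by
  simp only [E, Preadditive.sub_comp, Category.assoc]
  rw [← T'.g.comm n (n + 1), ψ_g_assoc, ψ_g, ← T.g.comm_assoc n (n + 1), φ₃.comm n (n + 1),
    sub_self]

/-- the essential part of `E` -/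
noncomputable def E₂ (n : ℕ) : T.I₃.cocomplex.X n ⟶ T'.I₁.cocomplex.X (n + 1) :=
  s T n ≫ E T T' φ₁ φ₃ n ≫ r T' (n + 1)

lemma E_eq (n : ℕ) : E T T' φ₁ φ₃ n = T.g.f n ≫ E₂ T T' φ₁ φ₃ n ≫ T'.f.f (n + 1) := by
  have h1 : E T T' φ₁ φ₃ n = (r T n ≫ T.f.f n + T.g.f n ≫ s T n) ≫ E T T' φ₁ φ₃ n ≫
      (r T' (n + 1) ≫ T'.f.f (n + 1) + T'.g.f (n + 1) ≫ s T' (n + 1)) := by
    rw [r_f_add, r_f_add, Category.id_comp, Category.comp_id]
  rw [h1]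
  simp [E₂, f_E_assoc, E_g_assoc]

lemma E_cocycle (n : ℕ) :
    E T T' φ₁ φ₃ n ≫ T'.I₂.cocomplex.d (n + 1) (n + 1 + 1) +
      T.I₂.cocomplex.d n (n + 1) ≫ E T T' φ₁ φ₃ (n + 1) = 0 := by
  simp only [E, Preadditive.sub_comp, Preadditive.comp_sub, Category.assoc,
    HomologicalComplex.d_comp_d, comp_zero, HomologicalComplex.d_comp_d_assoc, zero_comp]
  abel

lemma E₂_cocycle (n : ℕ) :
    T.I₃.cocomplex.d n (n + 1) ≫ E₂ T T' φ₁ φ₃ (n + 1) +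
      E₂ T T' φ₁ φ₃ n ≫ T'.I₁.cocomplex.d (n + 1) (n + 1 + 1) = 0 := by
  rw [← cancel_epi (T.g.f n), ← cancel_mono (T'.f.f (n + 1 + 1))]
  have := E_cocycle T T' φ₁ φ₃ n
  rw [E_eq, E_eq] at this
  simp only [Preadditive.add_comp, Preadditive.comp_add, Category.assoc, comp_zero, zero_comp]
  rw [← T'.f.comm (n + 1) (n + 1 + 1), T.g.comm_assoc n (n + 1)]
  simp only [Category.assoc] at this
  exact (add_comm _ _).trans this

end Lift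


section Main

variable {S S' : ShortComplex C} (hS : S.ShortExact) (φ : S ⟶ S') (T : SESRes S) (T' : SESRes S')
  (φ₁ : T.I₁.cocomplex ⟶ T'.I₁.cocomplex) (φ₃ : T.I₃.cocomplex ⟶ T'.I₃.cocomplex)
  (h₁ : aug T.I₁ ≫ φ₁.f 0 = φ.τ₁ ≫ aug T'.I₁)
  (h₃ : aug T.I₃ ≫ φ₃.f 0 = φ.τ₃ ≫ aug T'.I₃)

include hS h₁ h₃ in
theorem exists_lift :
    ∃ φ₂ : T.I₂.cocomplex ⟶ T'.I₂.cocomplex, T.f ≫ φ₂ = φ₁ ≫ T'.f ∧ φ₂ ≫ T'.g = T.g ≫ φ₃ := by
  have := hS.epi_g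
  have := hS.mono_f
  let e : S.X₂ ⟶ T'.I₂.cocomplex.X 0 := φ.τ₂ ≫ aug T'.I₂ - aug T.I₂ ≫ ψ T T' φ₁ φ₃ 0
  have e_g : e ≫ T'.g.f 0 = 0 := by
    simp only [e, Preadditive.sub_comp, Category.assoc]
    rw [ε_g T', ψ_g, ε_g_assoc T, h₃, φ.comm₂₃_assoc, sub_self]
  have f_e : S.f ≫ e = 0 := by
    simp only [e, Preadditive.comp_sub]
    rw [← φ.comm₁₂_assoc, ← ε_f T', ← ε_f_assoc T, f_ψ, ← Category.assoc (aug T.I₁), h₁,
      Category.assoc, sub_self]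
  have e_eq : (e ≫ r T' 0) ≫ T'.f.f 0 = e := by
    have : e = e ≫ (r T' 0 ≫ T'.f.f 0 + T'.g.f 0 ≫ s T' 0) := by
      rw [r_f_add, Category.comp_id]
    conv_rhs => rw [this]
    rw [Preadditive.comp_add, ← Category.assoc e (T'.g.f 0), e_g, zero_comp, add_zero,
      Category.assoc]
  have f_e₁ : S.f ≫ (e ≫ r T' 0) = 0 := by rw [← Category.assoc, f_e, zero_comp]
  let e₂ : S.X₃ ⟶ T'.I₁.cocomplex.X 0 := hS.exact.desc (e ≫ r T' 0) f_e₁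
  have g_e₂ : S.g ≫ e₂ = e ≫ r T' 0 := hS.exact.g_desc _ _
  let h0 : T.I₃.cocomplex.X 0 ⟶ T'.I₁.cocomplex.X 0 := Injective.factorThru e₂ (aug T.I₃)
  have ε_h0 : aug T.I₃ ≫ h0 = e₂ := Injective.comp_factorThru _ _
  have key : aug T.I₂ ≫ (ψ T T' φ₁ φ₃ 0 + T.g.f 0 ≫ h0 ≫ T'.f.f 0) =
      φ.τ₂ ≫ aug T'.I₂ := by
    rw [Preadditive.comp_add, ε_g_assoc, reassoc_of% ε_h0, reassoc_of% g_e₂, ← Category.assoc, e_eq]
    simp [e]
  have hu₀ : aug T.I₃ ≫ (E₂ T T' φ₁ φ₃ 0 + h0 ≫ T'.I₁.cocomplex.d 0 1) = 0 := by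
    rw [← cancel_epi S.g, ← cancel_mono (T'.f.f 1), comp_zero, zero_comp]
    have hE := E_eq T T' φ₁ φ₃ 0
    calc (S.g ≫ aug T.I₃ ≫ (E₂ T T' φ₁ φ₃ 0 + h0 ≫ T'.I₁.cocomplex.d 0 1)) ≫ T'.f.f 1
        = aug T.I₂ ≫ (E T T' φ₁ φ₃ 0 +
            (T.g.f 0 ≫ h0 ≫ T'.f.f 0) ≫ T'.I₂.cocomplex.d 0 1) := by
          rw [hE]
          simp only [Category.assoc, Preadditive.add_comp, Preadditive.comp_add]
          rw [← ε_g_assoc, ← ε_g_assoc, T'.f.comm 0 1]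
      _ = (aug T.I₂ ≫ (ψ T T' φ₁ φ₃ 0 + T.g.f 0 ≫ h0 ≫ T'.f.f 0)) ≫ T'.I₂.cocomplex.d 0 1 -
            (aug T.I₂ ≫ T.I₂.cocomplex.d 0 1) ≫ ψ T T' φ₁ φ₃ 1 := by
          simp only [E, Category.assoc, Preadditive.add_comp, Preadditive.comp_add,
            Preadditive.comp_sub]
          abel
      _ = 0 := by
          rw [key, Category.assoc, aug_d, comp_zero, aug_d, zero_comp, sub_zero]
  obtain ⟨u, -, hu⟩ := RDer1.exists_seq (fun n => T.I₃.cocomplex.X n) (aug T.I₃)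
    (fun n => T.I₃.cocomplex.d n (n + 1)) (aug_d T.I₃)
    (fun n => T.I₃.cocomplex.d_comp_d _ _ _) (aug_exact T.I₃) (fun n => T.I₃.exact_succ n)
    (fun n => T'.I₁.cocomplex.X n) (fun n => T'.I₁.cocomplex.d n (n + 1))
    (fun n => T'.I₁.cocomplex.d_comp_d _ _ _) (E₂ T T' φ₁ φ₃) (E₂_cocycle T T' φ₁ φ₃) h0 hu₀
  refine ⟨{ f := fun n => ψ T T' φ₁ φ₃ n + T.g.f n ≫ u n ≫ T'.f.f n, comm' := ?_ }, ?_, ?_⟩
  · intro i j hij
    obtain rfl : i + 1 = j := hij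
    have hE := E_eq T T' φ₁ φ₃ i
    have hui := hu i
    have : ψ T T' φ₁ φ₃ i ≫ T'.I₂.cocomplex.d i (i + 1) =
        T.I₂.cocomplex.d i (i + 1) ≫ ψ T T' φ₁ φ₃ (i + 1) +
          T.g.f i ≫ E₂ T T' φ₁ φ₃ i ≫ T'.f.f (i + 1) := by
      rw [← hE, E]; abel
    simp only [Preadditive.add_comp, Preadditive.comp_add, Category.assoc]
    rw [this, T'.f.comm i (i + 1), ← T.g.comm_assoc i (i + 1), reassoc_of% hui]
    simp only [Preadditive.add_comp, Preadditive.comp_add, Category.assoc]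
    abel
  · ext n
    simp [f_ψ]
  · ext n
    simp [ψ_g]

end Main

end Groth.Agent.Lib.Helper8.RDer2
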