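import Groth.Agent.Lib.Helper8.RDer2
import Mathlib.CategoryTheory.Abelian.Refinements
import Mathlib.Algebra.Homology.HomologySequenceLemmas

/-!
# Helper8: a short complex admitting an `SESRes` is short exact; naturality of `SESRes.delta`
-/

universe v u v' u'

open CategoryTheory CategoryTheory.Limits

namespace Groth.Agent.Lib.Helper8.RDer3

open RDer RDer2

variable {C : Type u} [Category.{v} C] [Abelian C]

section ShortExact

variable {S : ShortComplex C} (T : SESRes S)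

include T in
lemma mono_f : Mono S.f := by
  have h : Mono (S.f ≫ aug T.I₂) := by
    rw [← ε_f]
    infer_instance
  exact mono_of_mono S.f (aug T.I₂)

include T in
lemma exact : S.Exact := by
  rw [ShortComplex.exact_iff_exact_up_to_refinements]
  intro A x hx
  have h1 : (x ≫ aug T.I₂) ≫ T.g.f 0 = 0 := by
    rw [Category.assoc, ε_g, reassoc_of% hx, zero_comp]
  have h2 : x ≫ aug T.I₂ = (x ≫ aug T.I₂ ≫ r T 0) ≫ T.f.f 0 := by
    have : x ≫ aug T.I₂ = (x ≫ aug T.I₂) ≫ (r T 0 ≫ T.f.f 0 + T.g.f 0 ≫ s T 0) := by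
      rw [r_f_add, Category.comp_id]
    conv_lhs => rw [this]
    rw [Preadditive.comp_add, ← Category.assoc _ (T.g.f 0), h1, zero_comp, add_zero]
    simp only [Category.assoc]
  have h3 : (x ≫ aug T.I₂ ≫ r T 0) ≫ T.I₁.cocomplex.d 0 1 = 0 := by
    rw [← cancel_mono (T.f.f 1), Category.assoc, ← T.f.comm 0 1, ← Category.assoc, ← h2,
      Category.assoc, aug_d, comp_zero, zero_comp]
  refine ⟨A, 𝟙 A, inferInstance, (aug_exact T.I₁).lift _ h3, ?_⟩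
  rw [Category.id_comp, ← cancel_mono (aug T.I₂), Category.assoc, ← ε_f]
  have := (aug_exact T.I₁).lift_f _ h3
  dsimp only at this
  rw [reassoc_of% this]
  simp only [Category.assoc] at h2 ⊢
  exact h2

include T in
lemma epi_g : Epi S.g := by
  rw [epi_iff_surjective_up_to_refinements]
  intro A x₃
  -- y := x₃ ε₃ s⁰
  have hy : ((x₃ ≫ aug T.I₃ ≫ s T 0) ≫ T.I₂.cocomplex.d 0 1) ≫ T.g.f 1 = 0 := by
    simp only [Category.assoc]
    rw [← T.g.comm 0 1, s_g_assoc, aug_d, comp_zero]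
  have hz : (x₃ ≫ aug T.I₃ ≫ s T 0) ≫ T.I₂.cocomplex.d 0 1 =
      ((x₃ ≫ aug T.I₃ ≫ s T 0) ≫ T.I₂.cocomplex.d 0 1 ≫ r T 1) ≫ T.f.f 1 := by
    have : (x₃ ≫ aug T.I₃ ≫ s T 0) ≫ T.I₂.cocomplex.d 0 1 =
        ((x₃ ≫ aug T.I₃ ≫ s T 0) ≫ T.I₂.cocomplex.d 0 1) ≫
          (r T 1 ≫ T.f.f 1 + T.g.f 1 ≫ s T 1) := by
      rw [r_f_add, Category.comp_id]
    conv_lhs => rw [this]
    rw [Preadditive.comp_add, ← Category.assoc _ (T.g.f 1), hy, zero_comp, add_zero]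
    simp only [Category.assoc]
  have hz' : ((x₃ ≫ aug T.I₃ ≫ s T 0) ≫ T.I₂.cocomplex.d 0 1 ≫ r T 1) ≫
      T.I₁.cocomplex.d 1 2 = 0 := by
    rw [← cancel_mono (T.f.f 2), Category.assoc, ← T.f.comm 1 2, ← Category.assoc, ← hz,
      Category.assoc, HomologicalComplex.d_comp_d, comp_zero, zero_comp]
  obtain ⟨A', π, hπ, w, hw⟩ := (T.I₁.exact_succ 0).exact_up_to_refinements _ hz'
  dsimp only at w hw
  have hy' : (π ≫ x₃ ≫ aug T.I₃ ≫ s T 0 - w ≫ T.f.f 0) ≫ T.I₂.cocomplex.d 0 1 = 0 := by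
    have e1 := congrArg (fun k => π ≫ k) hz
    change _ = w ≫ T.I₁.cocomplex.d 0 1 at hw
    simp only [Category.assoc] at e1 hw
    simp only [Preadditive.sub_comp, Category.assoc]
    rw [T.f.comm 0 1, e1, reassoc_of% hw, sub_self]
  refine ⟨A', π, hπ, (aug_exact T.I₂).lift _ hy', ?_⟩
  have hl := (aug_exact T.I₂).lift_f _ hy'
  dsimp only at hl
  rw [← cancel_mono (aug T.I₃)]
  simp only [Category.assoc]
  rw [← ε_g, reassoc_of% hl]
  simp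

include T in
theorem shortExact : S.ShortExact :=
  { exact := exact T
    mono_f := mono_f T
    epi_g := epi_g T }

end ShortExact


section Natural

lemma natural_aux {E : Type*} [Category E] {A₃ A₁ A₃' A₁' H₃ H₁ H₃' H₁' : E}
    {δT' : A₃' ⟶ A₁'} {i1' : A₁' ⟶ H₁'} {i3' : A₃' ⟶ H₃'} {d' : H₃' ⟶ H₁'}
    {δT : A₃ ⟶ A₁} {i1 : A₁ ⟶ H₁} {i3 : A₃ ⟶ H₃} {d : H₃ ⟶ H₁}
    {m3 : A₃ ⟶ A₃'} {k3 : H₃ ⟶ H₃'} {m1 : A₁ ⟶ A₁'} {k1 : H₁ ⟶ H₁'} [Mono i1']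
    (e1 : δT' ≫ i1' = i3' ≫ d') (e2 : δT ≫ i1 = i3 ≫ d)
    (n3 : m3 ≫ i3' = i3 ≫ k3) (n1 : m1 ≫ i1' = i1 ≫ k1) (nat : d ≫ k1 = k3 ≫ d') :
    m3 ≫ δT' = δT ≫ m1 := by
  rw [← cancel_mono i1', Category.assoc, Category.assoc, e1, reassoc_of% n3, ← nat, n1,
    reassoc_of% e2]


variable [HasInjectiveResolutions C] {D : Type u'} [Category.{v'} D] [Abelian D]
  (F : C ⥤ D) [F.Additive]

theorem delta_natural {S S' : ShortComplex C} (φ : S ⟶ S') (T : SESRes S) (T' : SESRes S')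
    (n₀ n₁ : ℕ) (h : n₀ + 1 = n₁) :
    (F.rightDerived n₀).map φ.τ₃ ≫ T'.delta F n₀ n₁ h =
      T.delta F n₀ n₁ h ≫ (F.rightDerived n₁).map φ.τ₁ := by
  have hS := shortExact T
  let φ₁ := InjectiveResolution.desc φ.τ₁ T'.I₁ T.I₁
  let φ₃ := InjectiveResolution.desc φ.τ₃ T'.I₃ T.I₃
  have h₁ : aug T.I₁ ≫ φ₁.f 0 = φ.τ₁ ≫ aug T'.I₁ :=
    InjectiveResolution.desc_commutes_zero _ _ _
  have h₃ : aug T.I₃ ≫ φ₃.f 0 = φ.τ₃ ≫ aug T'.I₃ :=
    InjectiveResolution.desc_commutes_zero _ _ _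
  obtain ⟨φ₂, hf, hg⟩ := exists_lift hS φ T T' φ₁ φ₃ h₁ h₃
  let Φ : T.cx ⟶ T'.cx :=
    { τ₁ := φ₁, τ₂ := φ₂, τ₃ := φ₃, comm₁₂ := hf.symm, comm₂₃ := hg }
  have nat := HomologicalComplex.HomologySequence.δ_naturality
    ((F.mapHomologicalComplex (ComplexShape.up ℕ)).mapShortComplex.map Φ)
    (T.map_shortExact F) (T'.map_shortExact F) n₀ n₁ h
  have n3 := InjectiveResolution.isoRightDerivedObj_hom_naturality φ.τ₃ T.I₃ T'.I₃ φ₃ h₃ F n₀
  have n1 := InjectiveResolution.isoRightDerivedObj_hom_naturality φ.τ₁ T.I₁ T'.I₁ φ₁ h₁ F n₁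
  exact natural_aux (T'.delta_comp_isoRightDerivedObj_hom F n₀ n₁ h)
    (T.delta_comp_isoRightDerivedObj_hom F n₀ n₁ h) n3 n1 nat

theorem delta_eq {S : ShortComplex C} (T T' : SESRes S) (n₀ n₁ : ℕ) (h : n₀ + 1 = n₁) :
    T.delta F n₀ n₁ h = T'.delta F n₀ n₁ h := by
  have := delta_natural F (𝟙 S) T T' n₀ n₁ h
  simpa using this.symm

end Natural

end Groth.Agent.Lib.Helper8.RDer3
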