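import Groth.Agent.Lib.Helper8.RDer3

/-!
# Helper8: constructing injective resolutions from explicit data; the horseshoe lemma
-/

universe v u v' u'

open CategoryTheory CategoryTheory.Limits

namespace Groth.Agent.Lib.Helper8.RDer4

open RDer RDer2

variable {C : Type u} [Category.{v} C] [Abelian C]

section MkRes

variable {Z : C} (K : CochainComplex C ℕ) (hinj : ∀ n, Injective (K.X n)) (ε : Z ⟶ K.X 0)
  (hε : ε ≫ K.d 0 1 = 0) (h0 : (ShortComplex.mk ε (K.d 0 1) hε).Exact) (hm : Mono ε)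
  (hs : ∀ n, K.ExactAt (n + 1))

set_option backward.isDefEq.respectTransparency false in
/-- An injective resolution from explicit data. -/
noncomputable def mkRes : InjectiveResolution Z where
  cocomplex := K
  injective := hinj
  ι := (CochainComplex.fromSingle₀Equiv _ _).symm ⟨ε, hε⟩
  quasiIso := ⟨fun n => by
    cases n
    · rw [CochainComplex.quasiIsoAt₀_iff, ShortComplex.quasiIso_iff_of_zeros]
      · refine (ShortComplex.exact_and_mono_f_iff_of_iso ?_).2 ⟨h0, hm⟩
        exact ShortComplex.isoMk (Iso.refl _) (Iso.refl _) (Iso.refl _) (by simp)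
          (by simp)
      · rfl
      · rfl
      · exact K.shape _ _ (by simp)
    · rw [quasiIsoAt_iff_exactAt]
      · apply hs
      · apply CochainComplex.exactAt_succ_single_obj⟩

@[simp]
lemma mkRes_cocomplex : (mkRes K hinj ε hε h0 hm hs).cocomplex = K := rfl

lemma aug_mkRes : aug (mkRes K hinj ε hε h0 hm hs) = ε := by
  simp [aug, mkRes]

end MkRes


section Horseshoe

variable {S : ShortComplex C} (hS : S.ShortExact) (I₁ : InjectiveResolution S.X₁)
  (I₃ : InjectiveResolution S.X₃)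

/-- The twisting data of the horseshoe lemma. -/
structure Twist where
  /-- extension of the augmentation of `I₁` to `X₂` -/
  α : S.X₂ ⟶ I₁.cocomplex.X 0
  f_α : S.f ≫ α = aug I₁
  /-- the twisting maps -/
  τ : ∀ n, I₃.cocomplex.X n ⟶ I₁.cocomplex.X (n + 1)
  hτ₀ : α ≫ I₁.cocomplex.d 0 1 + S.g ≫ aug I₃ ≫ τ 0 = 0
  hτ : ∀ n, I₃.cocomplex.d n (n + 1) ≫ τ (n + 1) + τ n ≫ I₁.cocomplex.d (n + 1) (n + 1 + 1) = 0

include hS in
lemma nonempty_twist : Nonempty (Twist I₁ I₃) := by
  have := hS.epi_g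
  have := hS.mono_f
  let α : S.X₂ ⟶ I₁.cocomplex.X 0 := Injective.factorThru (aug I₁) S.f
  have f_α : S.f ≫ α = aug I₁ := Injective.comp_factorThru _ _
  have h1 : S.f ≫ α ≫ I₁.cocomplex.d 0 1 = 0 := by
    rw [reassoc_of% f_α, aug_d]
  let β : S.X₃ ⟶ I₁.cocomplex.X 1 := hS.exact.desc (α ≫ I₁.cocomplex.d 0 1) h1
  have g_β : S.g ≫ β = α ≫ I₁.cocomplex.d 0 1 := hS.exact.g_desc _ _
  have β_d : β ≫ I₁.cocomplex.d 1 2 = 0 := by
    rw [← cancel_epi S.g, reassoc_of% g_β, HomologicalComplex.d_comp_d, comp_zero, comp_zero]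
  let τ₀ : I₃.cocomplex.X 0 ⟶ I₁.cocomplex.X 1 := -Injective.factorThru β (aug I₃)
  have aug_τ₀ : aug I₃ ≫ τ₀ = -β := by
    simp only [τ₀, Preadditive.comp_neg, Injective.comp_factorThru]
  obtain ⟨u, hu0, hu⟩ := RDer1.exists_seq (fun n => I₃.cocomplex.X n) (aug I₃)
    (fun n => I₃.cocomplex.d n (n + 1)) (aug_d I₃)
    (fun n => I₃.cocomplex.d_comp_d _ _ _) (aug_exact I₃) (fun n => I₃.exact_succ n)
    (fun n => I₁.cocomplex.X (n + 1)) (fun n => -I₁.cocomplex.d (n + 1) (n + 1 + 1))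
    (fun n => by simp) (fun n => 0) (fun n => by simp) τ₀
    (by
      change aug I₃ ≫ (0 + τ₀ ≫ (-I₁.cocomplex.d 1 2)) = 0
      rw [Preadditive.comp_add, comp_zero, Preadditive.comp_neg, Preadditive.comp_neg,
        reassoc_of% aug_τ₀]
      simp [β_d])
  refine ⟨{ α := α, f_α := f_α, τ := u, hτ₀ := ?_, hτ := fun n => ?_ }⟩
  · rw [hu0, aug_τ₀, Preadditive.comp_neg, g_β, add_neg_cancel]
  · have := hu n
    rw [this]
    simp

variable {I₁ I₃} (W : Twist I₁ I₃)

/-- The objects of the middle complex. -/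
noncomputable abbrev midX (n : ℕ) : C := I₁.cocomplex.X n ⊞ I₃.cocomplex.X n

/-- The differential of the middle complex. -/
noncomputable def midD (n : ℕ) : midX (I₁ := I₁) (I₃ := I₃) n ⟶ midX (I₁ := I₁) (I₃ := I₃) (n + 1) :=
  biprod.desc (I₁.cocomplex.d n (n + 1) ≫ biprod.inl)
    (W.τ n ≫ biprod.inl + I₃.cocomplex.d n (n + 1) ≫ biprod.inr)

@[reassoc (attr := simp)]
lemma inl_midD (n : ℕ) : biprod.inl ≫ midD W n = I₁.cocomplex.d n (n + 1) ≫ biprod.inl := by
  simp [midD]

@[reassoc (attr := simp)]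
lemma inr_midD (n : ℕ) : biprod.inr ≫ midD W n =
    W.τ n ≫ biprod.inl + I₃.cocomplex.d n (n + 1) ≫ biprod.inr := by
  simp [midD]

@[reassoc (attr := simp)]
lemma midD_snd (n : ℕ) : midD W n ≫ biprod.snd = biprod.snd ≫ I₃.cocomplex.d n (n + 1) := by
  apply biprod.hom_ext' <;> simp

lemma midD_midD (n : ℕ) : midD W n ≫ midD W (n + 1) = 0 := by
  apply biprod.hom_ext'
  · simp
  · simp only [inr_midD_assoc, Preadditive.add_comp, Category.assoc, inl_midD, inr_midD,
      Preadditive.comp_add, HomologicalComplex.d_comp_d_assoc, zero_comp, add_zero, comp_zero]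
    rw [← Category.assoc, ← Category.assoc, ← Preadditive.add_comp,
      (add_comm _ _).trans (W.hτ n), zero_comp]

/-- The middle complex. -/
noncomputable def mid : CochainComplex C ℕ :=
  CochainComplex.of (fun n => midX (I₁ := I₁) (I₃ := I₃) n) (midD W) (midD_midD W)


lemma mid_d (n : ℕ) : (mid W).d n (n + 1) = midD W n := CochainComplex.of_d _ _ _

/-- first inclusion -/
noncomputable def inlM (n : ℕ) : I₁.cocomplex.X n ⟶ (mid W).X n :=
  (biprod.inl : I₁.cocomplex.X n ⟶ midX (I₁ := I₁) (I₃ := I₃) n)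

/-- second inclusion -/
noncomputable def inrM (n : ℕ) : I₃.cocomplex.X n ⟶ (mid W).X n :=
  (biprod.inr : I₃.cocomplex.X n ⟶ midX (I₁ := I₁) (I₃ := I₃) n)

/-- first projection -/
noncomputable def fstM (n : ℕ) : (mid W).X n ⟶ I₁.cocomplex.X n :=
  (biprod.fst : midX (I₁ := I₁) (I₃ := I₃) n ⟶ I₁.cocomplex.X n)

/-- second projection -/
noncomputable def sndM (n : ℕ) : (mid W).X n ⟶ I₃.cocomplex.X n :=
  (biprod.snd : midX (I₁ := I₁) (I₃ := I₃) n ⟶ I₃.cocomplex.X n)

@[reassoc (attr := simp)]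
lemma inlM_fstM (n : ℕ) : inlM W n ≫ fstM W n = 𝟙 _ := biprod.inl_fst

@[reassoc (attr := simp)]
lemma inlM_sndM (n : ℕ) : inlM W n ≫ sndM W n = 0 := biprod.inl_snd

@[reassoc (attr := simp)]
lemma inrM_fstM (n : ℕ) : inrM W n ≫ fstM W n = 0 := biprod.inr_fst

@[reassoc (attr := simp)]
lemma inrM_sndM (n : ℕ) : inrM W n ≫ sndM W n = 𝟙 _ := biprod.inr_snd

lemma totalM (n : ℕ) : fstM W n ≫ inlM W n + sndM W n ≫ inrM W n = 𝟙 _ := biprod.total

lemma hom_extM {A : C} {n : ℕ} {f g : A ⟶ (mid W).X n} (h₁ : f ≫ fstM W n = g ≫ fstM W n)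
    (h₂ : f ≫ sndM W n = g ≫ sndM W n) : f = g := by
  rw [← Category.comp_id f, ← Category.comp_id g, ← totalM, Preadditive.comp_add,
    Preadditive.comp_add, reassoc_of% h₁, reassoc_of% h₂]

lemma hom_extM' {A : C} {n : ℕ} {f g : (mid W).X n ⟶ A} (h₁ : inlM W n ≫ f = inlM W n ≫ g)
    (h₂ : inrM W n ≫ f = inrM W n ≫ g) : f = g := by
  rw [← Category.id_comp f, ← Category.id_comp g, ← totalM, Preadditive.add_comp,
    Preadditive.add_comp, Category.assoc, Category.assoc, Category.assoc, Category.assoc, h₁, h₂]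

@[reassoc (attr := simp)]
lemma inlM_d (n : ℕ) :
    inlM W n ≫ (mid W).d n (n + 1) = I₁.cocomplex.d n (n + 1) ≫ inlM W (n + 1) := by
  rw [mid_d]
  exact inl_midD W n

@[reassoc (attr := simp)]
lemma inrM_d (n : ℕ) : inrM W n ≫ (mid W).d n (n + 1) =
    W.τ n ≫ inlM W (n + 1) + I₃.cocomplex.d n (n + 1) ≫ inrM W (n + 1) := by
  rw [mid_d]
  exact inr_midD W n

@[reassoc (attr := simp)]
lemma d_sndM (n : ℕ) :
    (mid W).d n (n + 1) ≫ sndM W (n + 1) = sndM W n ≫ I₃.cocomplex.d n (n + 1) := by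
  apply hom_extM' W <;> simp

@[reassoc (attr := simp)]
lemma d_fstM (n : ℕ) : (mid W).d n (n + 1) ≫ fstM W (n + 1) =
    fstM W n ≫ I₁.cocomplex.d n (n + 1) + sndM W n ≫ W.τ n := by
  apply hom_extM' W <;> simp

/-- The inclusion `I₁ ⟶ mid`. -/
noncomputable def midF : I₁.cocomplex ⟶ mid W where
  f n := inlM W n
  comm' i j hij := by
    obtain rfl : i + 1 = j := hij
    simp

/-- The projection `mid ⟶ I₃`. -/
noncomputable def midG : mid W ⟶ I₃.cocomplex where
  f n := sndM W n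
  comm' i j hij := by
    obtain rfl : i + 1 = j := hij
    simp

@[simp] lemma midF_f (n : ℕ) : (midF W).f n = inlM W n := rfl

@[simp] lemma midG_f (n : ℕ) : (midG W).f n = sndM W n := rfl

lemma midF_midG : midF W ≫ midG W = 0 := by
  ext n
  simp

lemma mid_shortExact : (ShortComplex.mk (midF W) (midG W) (midF_midG W)).ShortExact := by
  apply HomologicalComplex.shortExact_of_degreewise_shortExact
  intro n
  exact (ShortComplex.Splitting.ofHasBinaryBiproduct (I₁.cocomplex.X n)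
    (I₃.cocomplex.X n)).shortExact

/-- The augmentation of the middle complex. -/
noncomputable def midε : S.X₂ ⟶ (mid W).X 0 :=
  W.α ≫ inlM W 0 + (S.g ≫ aug I₃) ≫ inrM W 0

@[reassoc (attr := simp)]
lemma midε_fstM : midε W ≫ fstM W 0 = W.α := by simp [midε]

@[reassoc (attr := simp)]
lemma midε_sndM : midε W ≫ sndM W 0 = S.g ≫ aug I₃ := by simp [midε]

lemma aug_inlM : aug I₁ ≫ inlM W 0 = S.f ≫ midε W := by
  simp only [midε, Preadditive.comp_add, Category.assoc, S.zero_assoc, zero_comp, add_zero]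
  rw [reassoc_of% W.f_α]

lemma midε_d : midε W ≫ (mid W).d 0 1 = 0 := by
  apply hom_extM W
  · simp only [Category.assoc, zero_comp, d_fstM, Preadditive.comp_add, midε_fstM_assoc,
      midε_sndM_assoc]
    exact W.hτ₀
  · simp


include hS in
lemma mono_midε : Mono (midε W) := by
  have := hS.mono_f
  apply Preadditive.mono_of_cancel_zero
  intro P x hx
  have h1 : x ≫ S.g = 0 := by
    rw [← cancel_mono (aug I₃), Category.assoc, zero_comp, ← midε_sndM W, reassoc_of% hx,
      zero_comp]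
  have h2 : hS.exact.lift x h1 ≫ S.f = x := hS.exact.lift_f x h1
  have h3 : hS.exact.lift x h1 = 0 := by
    rw [← cancel_mono (aug I₁), zero_comp, ← W.f_α, reassoc_of% h2, ← midε_fstM W,
      reassoc_of% hx, zero_comp]
  rw [← h2, h3, zero_comp]

include hS in
lemma exact_midε : (ShortComplex.mk (midε W) ((mid W).d 0 1) (midε_d W)).Exact := by
  have := hS.epi_g
  rw [ShortComplex.exact_iff_exact_up_to_refinements]
  intro A x hx
  dsimp only at x hx
  have hb : (x ≫ sndM W 0) ≫ I₃.cocomplex.d 0 1 = 0 := by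
    rw [Category.assoc, ← d_sndM, reassoc_of% hx, zero_comp]
  have hb' : (aug_exact I₃).lift (x ≫ sndM W 0) hb ≫ aug I₃ = x ≫ sndM W 0 :=
    (aug_exact I₃).lift_f _ hb
  obtain ⟨A', π, hπ, c, hc⟩ := surjective_up_to_refinements_of_epi S.g
    ((aug_exact I₃).lift (x ≫ sndM W 0) hb)
  have ha0 : (x ≫ fstM W 0) ≫ I₁.cocomplex.d 0 1 + (x ≫ sndM W 0) ≫ W.τ 0 = 0 := by
    have := congrArg (fun k => k ≫ fstM W 1) hx
    simpa using this
  have ha : (π ≫ x ≫ fstM W 0 - c ≫ W.α) ≫ I₁.cocomplex.d 0 1 = 0 := by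
    have e1 : π ≫ (x ≫ fstM W 0) ≫ I₁.cocomplex.d 0 1 = -(π ≫ (x ≫ sndM W 0) ≫ W.τ 0) := by
      rw [← Preadditive.comp_neg, ← eq_neg_of_add_eq_zero_left ha0]
    have e2 : π ≫ (x ≫ sndM W 0) ≫ W.τ 0 = c ≫ S.g ≫ aug I₃ ≫ W.τ 0 := by
      rw [← hb', ← reassoc_of% hc]
      simp only [Category.assoc]
    have e3 := W.hτ₀
    simp only [Category.assoc] at e1 e2
    simp only [Preadditive.sub_comp, Category.assoc]
    rw [e1, e2, ← Preadditive.comp_neg, ← Preadditive.comp_sub, ← neg_add',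
      (add_comm _ _).trans e3, neg_zero, comp_zero]
  have ha' : (aug_exact I₁).lift _ ha ≫ aug I₁ = π ≫ x ≫ fstM W 0 - c ≫ W.α :=
    (aug_exact I₁).lift_f _ ha
  refine ⟨A', π, hπ, c + (aug_exact I₁).lift _ ha ≫ S.f, ?_⟩
  apply hom_extM W
  · simp only [Category.assoc, Preadditive.add_comp, midε_fstM, W.f_α, ha']
    abel
  · simp only [Category.assoc, Preadditive.add_comp, midε_sndM, S.zero_assoc, zero_comp,
      add_zero, comp_zero]
    rw [← reassoc_of% hc, hb']

lemma mid_exactAt_succ (n : ℕ) : (mid W).ExactAt (n + 1) :=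
  (mid_shortExact W).exactAt_X₂ (n + 1) (I₁.cocomplex_exactAt_succ n) (I₃.cocomplex_exactAt_succ n)


/-- The middle resolution. -/
noncomputable def midRes : InjectiveResolution S.X₂ :=
  mkRes (mid W)
    (fun n => (inferInstance : Injective (I₁.cocomplex.X n ⊞ I₃.cocomplex.X n)))
    (midε W) (midε_d W) (exact_midε hS W) (mono_midε hS W) (mid_exactAt_succ W)

lemma aug_midRes : aug (midRes hS W) = midε W := aug_mkRes _ _ _ _ _ _ _

/-- `midF` with retyped target. -/
noncomputable def resF : I₁.cocomplex ⟶ (midRes hS W).cocomplex := midF W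

/-- `midG` with retyped source. -/
noncomputable def resG : (midRes hS W).cocomplex ⟶ I₃.cocomplex := midG W

lemma resF_f (n : ℕ) : (resF hS W).f n = inlM W n := rfl

lemma resG_f (n : ℕ) : (resG hS W).f n = sndM W n := rfl

/-- The resolution of the short exact sequence given by the horseshoe lemma. -/
noncomputable def sesRes : SESRes S where
  I₁ := I₁
  I₂ := midRes hS W
  I₃ := I₃
  f := resF hS W
  g := resG hS W
  zero := midF_midG W
  ι_f := by
    apply HomologicalComplex.from_single_hom_ext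
    rw [HomologicalComplex.comp_f, HomologicalComplex.comp_f,
      CochainComplex.single₀_map_f_zero]
    rw [resF_f]
    change aug I₁ ≫ inlM W 0 = S.f ≫ aug (midRes hS W)
    rw [aug_midRes]
    exact aug_inlM W
  ι_g := by
    apply HomologicalComplex.from_single_hom_ext
    rw [HomologicalComplex.comp_f, HomologicalComplex.comp_f,
      CochainComplex.single₀_map_f_zero]
    rw [resG_f]
    change aug (midRes hS W) ≫ sndM W 0 = S.g ≫ aug I₃
    rw [aug_midRes]
    exact midε_sndM W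
  shortExact := mid_shortExact W

end Horseshoe

section Exists

variable [EnoughInjectives C] {S : ShortComplex C}

theorem nonempty_sesRes (hS : S.ShortExact) : Nonempty (SESRes S) := by
  obtain ⟨W⟩ := nonempty_twist hS (InjectiveResolution.of S.X₁) (InjectiveResolution.of S.X₃)
  exact ⟨sesRes hS W⟩

end Exists

end Groth.Agent.Lib.Helper8.RDer4
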