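import Mathlib
import Groth.Prelude.Def_DRing3
import Groth.Prelude.Def_DRing4
import Groth.Prelude.Def_DerCA
import Groth.Agent.Lib.Helper8.RHomK8
import Groth.Agent.Lib.Helper8.RHomK6
import Groth.Agent.Lib.Helper8.KInjM2

/-!
# Helper8 — RHomK9: the one-element step.  For `I` K-injective, `I^ := cone (Hom(A_f, I) → I)`
is a K-injective model of the derived `f`-completion of `I`, and
`Hom•(cocone (P → P_f), I) ≅ Hom•(P, I^)`.
-/

set_option autoImplicit false

universe u

open CategoryTheory CategoryTheory.Limits CategoryTheory.Pretriangulated DerivedCategory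
  CochainComplex CochainComplex.HomComplex MonoidalCategory

attribute [local instance] HasDerivedCategory.standard

namespace Groth.Agent.Lib.Helper8.RHomK

open Groth.Agent.Lib.Helper8.DCmpA Groth.Agent.Lib.Helper8.DCmpB Groth.Agent.Lib.Helper8.DCmpC

section MapIso

variable {C : Type*} [Category C] [Preadditive C] [HasBinaryBiproducts C]
  {K₁ L₁ K₂ L₂ : CochainComplex C ℤ}

/-- isomorphic morphisms have isomorphic mapping cones -/
noncomputable def coneMapIso (φ₁ : K₁ ⟶ L₁) (φ₂ : K₂ ⟶ L₂) (a : K₁ ≅ K₂) (b : L₁ ≅ L₂)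
    (comm : φ₁ ≫ b.hom = a.hom ≫ φ₂) : mappingCone φ₁ ≅ mappingCone φ₂ where
  hom := mappingCone.map φ₁ φ₂ a.hom b.hom comm
  inv := mappingCone.map φ₂ φ₁ a.inv b.inv (by
    rw [← cancel_mono b.hom, Category.assoc, Category.assoc, b.inv_hom_id, Category.comp_id, comm,
      a.inv_hom_id_assoc])
  hom_inv_id := by
    rw [← mappingCone.map_comp]
    simp only [Iso.hom_inv_id]
    exact mappingCone.map_id _
  inv_hom_id := by
    rw [← mappingCone.map_comp]
    simp only [Iso.inv_hom_id]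
    exact mappingCone.map_id _

end MapIso

variable {A : Type u} [CommRing A] (f : A)

section Step

variable (I : DRing.Cx A)

/-- evaluation at `1 ∈ A_f` -/
noncomputable abbrev evOne : ihomCx (Af f) I ⟶ I := evCx (Af f) (1 : Localization.Away f) I

/-- the model of the derived `f`-completion -/
noncomputable abbrev Ihat : DRing.Cx A := mappingCone (evOne f I)

instance [I.IsKInjective] : (Ihat f I).IsKInjective :=
  KInjM.isKInjective_mappingCone (evOne f I)

lemma bijSmul_ihomCx (i : ℤ) : BijSmul f ((ihomCx (Af f) I).X i) := bijSmul_ihom f (I.X i)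

lemma bijSmul_locCx (P : DRing.Cx A) (i : ℤ) :
    BijSmul f (((DerCA.locCx (Submonoid.powers f)).obj P).X i) :=
  BijSmul.localizedModule (f := f) (P.X i)

/-- `Hom•(cocone (P → P_f), I) ≅ Hom•(P, I^)` -/
noncomputable def coconeLocIso (P : DRing.Cx A) :
    DRing.homCx (mappingCocone (DerCA.locCxUnit (Submonoid.powers f) P)) I ≅
      DRing.homCx P (Ihat f I) := by
  let φ := DerCA.locCxUnit (Submonoid.powers f) P
  let ψ := evOne f I
  haveI h1 : IsIso (DRing.homCxMap ((DerCA.locCx (Submonoid.powers f)).obj P) ψ) :=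
    isIso_homCxMap_evCx f _ I (bijSmul_locCx f P)
  haveI h2 : IsIso (preMap (ihomCx (Af f) I) φ) :=
    isIso_preMap_locCxUnit f P _ (bijSmul_ihomCx f I)
  let u : DRing.homCx ((DerCA.locCx (Submonoid.powers f)).obj P) I ≅
      DRing.homCx P (ihomCx (Af f) I) :=
    (asIso (DRing.homCxMap ((DerCA.locCx (Submonoid.powers f)).obj P) ψ)).symm ≪≫
      asIso (preMap (ihomCx (Af f) I) φ)
  have comm : preMap I φ ≫ (Iso.refl (DRing.homCx P I)).hom = u.hom ≫ DRing.homCxMap P ψ := by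
    change preMap I φ ≫ 𝟙 _ = (inv (DRing.homCxMap ((DerCA.locCx (Submonoid.powers f)).obj P) ψ) ≫
      preMap (ihomCx (Af f) I) φ) ≫ DRing.homCxMap P ψ
    rw [Category.comp_id, Category.assoc, preMap_homCxMap, IsIso.inv_hom_id_assoc]
  exact coconeIso φ I ≪≫ coneMapIso _ _ u (Iso.refl _) comm ≪≫ (coneIso P ψ).symm

end Step

section Refl

lemma bijSmul_single (M : ModuleCat.{u} A) (hM : BijSmul f M) (i : ℤ) :
    BijSmul f ((sgM M).X i) := by
  by_cases h : i = 0
  · subst h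
    exact BijSmul.of_linearEquiv
      (HomologicalComplex.singleObjXSelf (.up ℤ) 0 M).symm.toLinearEquiv hM
  · haveI : Subsingleton ((sgM M).X i) :=
      ModuleCat.subsingleton_of_isZero (HomologicalComplex.isZero_single_obj_X (.up ℤ) 0 M i h)
    exact BijSmul.of_subsingleton

/-- precomposition with the second map of a distinguished triangle whose first vertex is
`f`-local is bijective on maps to `f`-complete objects -/
lemma bijective_precomp_of_tri (Tr : Triangle (Dual.D A)) (hTr : Tr ∈ distTriang (Dual.D A))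
    (h₁ : IsLoc f Tr.obj₁) (L : Dual.D A) (hL : IsCompl f L) :
    Function.Bijective (fun h : Tr.obj₃ ⟶ L => Tr.mor₂ ≫ h) := by
  constructor
  · intro h h' hh
    have h0 : Tr.mor₂ ≫ (h - h') = 0 := by
      rw [Preadditive.comp_sub]
      exact sub_eq_zero.2 hh
    obtain ⟨k, hk⟩ := Triangle.yoneda_exact₃ _ hTr (h - h') h0
    have : k = 0 := hL _ (h₁.shift 1) k
    rw [this, comp_zero] at hk
    exact sub_eq_zero.1 hk
  · intro g
    have h0 : Tr.mor₁ ≫ g = 0 := hL _ h₁ _
    obtain ⟨h, hh⟩ := Triangle.yoneda_exact₂ _ hTr g h0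
    exact ⟨h, hh.symm⟩

variable (I : DRing.Cx A)

lemma isLoc_ihomCx : IsLoc f (Q.obj (ihomCx (Af f) I) : Dual.D A) :=
  isLoc_toD_of_bijective (ihomCx (Af f) I) f (bijSmul_ihomCx f I)

lemma bijective_precomp_Ihat (L : Dual.D A) (hL : IsCompl f L) :
    Function.Bijective (fun h : (Q.obj (Ihat f I) : Dual.D A) ⟶ L =>
      Q.map (mappingCone.inr (evOne f I)) ≫ h) :=
  bijective_precomp_of_tri f _ (mappingCone_triangle_distinguished (evOne f I))
    (isLoc_ihomCx f I) L hL

lemma nonempty_homotopy_zero (Y : DRing.Cx A) (hY : ∀ i, BijSmul f (Y.X i))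
    (g : Y ⟶ Ihat f I) : Nonempty (Homotopy g 0) := by
  haveI h1 : IsIso (DRing.homCxMap Y (evOne f I)) := isIso_homCxMap_evCx f Y I hY
  have h2 : QuasiIso (DRing.homCxMap Y (evOne f I)) := inferInstance
  have h3 : (mappingCone (DRing.homCxMap Y (evOne f I))).Acyclic :=
    (quasiIso_iff_acyclic_mappingCone _).1 h2
  have h5 : (DRing.homCx Y (Ihat f I)).ExactAt 0 := (h3 0).of_iso (coneIso Y (evOne f I)).symm
  rw [HomologicalComplex.exactAt_iff' _ (-1) 0 1 (by simp) (by simp),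
    ShortComplex.moduleCat_exact_iff] at h5
  obtain ⟨β, hβ⟩ := h5 (Cochain.ofHom g) (δ_ofHom g)
  have hβ' : δ (-1) 0 (β : Cochain Y (Ihat f I) (-1)) = Cochain.ofHom g := hβ
  exact ⟨(Cochain.equivHomotopy g 0).symm ⟨β, by simp [hβ']⟩⟩

/-- a criterion for `f`-completeness of a K-injective complex -/
lemma isCompl_Q_of_homotopy (J : DRing.Cx A) [J.IsKInjective]
    (h : ∀ (Y : DRing.Cx A), (∀ i, BijSmul f (Y.X i)) → ∀ g : Y ⟶ J, Nonempty (Homotopy g 0)) :
    IsCompl f (Q.obj J : Dual.D A) := by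
  rw [DCmpB.isCompl_iff]
  intro n
  suffices H : ∀ φ : Dual.inD A (Localization.Away f) ⟶ (Q.obj J : Dual.D A)⟦n⟧, φ = 0 from
    ⟨fun φ φ' => by rw [H φ, H φ']⟩
  intro φ
  let S : DRing.Cx A := sgM (Af f)
  let e₀ : Dual.inD A (Localization.Away f) ≅ Q.obj S :=
    (singleFunctorIsoCompQ (ModuleCat.{u} A) 0).app (Af f)
  let Y : DRing.Cx A := S⟦-n⟧
  have hY : ∀ i, BijSmul f (Y.X i) := fun i => bijSmul_single f (Af f) BijSmul.away (i + -n)
  let φ₁ : (Q.obj S : Dual.D A)⟦-n⟧ ⟶ Q.obj J := (e₀.inv ≫ φ)⟦-n⟧' ≫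
    (shiftFunctorCompIsoId (Dual.D A) n (-n) (add_neg_cancel n)).hom.app (Q.obj J)
  let φ₂ : (Q.obj Y : Dual.D A) ⟶ Q.obj J := ((Q.commShiftIso (-n)).app S).hom ≫ φ₁
  obtain ⟨g, hg⟩ := DProd.exists_Q_map_of_isKInjective Y J φ₂
  obtain ⟨H⟩ := h Y hY g
  have h0 : φ₂ = 0 := by rw [hg, Q_map_eq_of_homotopy _ H, Functor.map_zero]
  have h1 : φ₁ = 0 := by
    rw [← cancel_epi ((Q.commShiftIso (-n)).app S).hom, comp_zero]
    exact h0
  have h2 : (e₀.inv ≫ φ)⟦-n⟧' = 0 := by
    rw [← cancel_mono ((shiftFunctorCompIsoId (Dual.D A) n (-n) (add_neg_cancel n)).hom.app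
      (Q.obj J)), zero_comp]
    exact h1
  have h3 : e₀.inv ≫ φ = 0 :=
    (CategoryTheory.shiftFunctor (Dual.D A) (-n)).map_injective (by rw [h2, Functor.map_zero])
  rw [← cancel_epi e₀.inv, h3, comp_zero]

lemma isCompl_Ihat [I.IsKInjective] : IsCompl f (Q.obj (Ihat f I) : Dual.D A) :=
  isCompl_Q_of_homotopy f (Ihat f I) (fun Y hY g => nonempty_homotopy_zero f I Y hY g)

end Refl

end Groth.Agent.Lib.Helper8.RHomK
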