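import Mathlib
import Groth.Prelude.Def_DRing3
import Groth.Prelude.Def_DRing4
import Groth.Prelude.Def_DerCA
import Groth.Agent.Lib.Helper8.RHomK9
import Groth.Agent.Lib.Helper8.DCmpF

/-!
# Helper8 — RHomK10: `RHom(Č(f₁, …, f_r), K)` is the derived completion of `K` (S7097).
-/

set_option autoImplicit false

universe u

open CategoryTheory CategoryTheory.Limits CategoryTheory.Pretriangulated DerivedCategory
  CochainComplex CochainComplex.HomComplex MonoidalCategory

attribute [local instance] HasDerivedCategory.standard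

namespace Groth.Agent.Lib.Helper8.RHomK

open Groth.Agent.Lib.Helper8.DCmpA Groth.Agent.Lib.Helper8.DCmpB Groth.Agent.Lib.Helper8.DCmpC

variable {A : Type u} [CommRing A]

section Refl

/-- `η` is a reflection onto the objects which are complete with respect to all `g ∈ fs` -/
def IsRefl (fs : List A) {X Y : Dual.D A} (η : X ⟶ Y) : Prop :=
  (∀ g ∈ fs, IsCompl g Y) ∧
    ∀ L : Dual.D A, (∀ g ∈ fs, IsCompl g L) → Function.Bijective (fun h : Y ⟶ L => η ≫ h)

variable {fs : List A} {X Y Y' Z : Dual.D A}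

lemma IsRefl.exists_iso {η : X ⟶ Y} {η' : X ⟶ Y'} (h : IsRefl fs η) (h' : IsRefl fs η') :
    ∃ e : Y ≅ Y', η ≫ e.hom = η' := by
  obtain ⟨a, ha⟩ := (h.2 Y' h'.1).2 η'
  obtain ⟨b, hb⟩ := (h'.2 Y h.1).2 η
  simp only at ha hb
  refine ⟨⟨a, b, ?_, ?_⟩, ha⟩
  · apply (h.2 Y h.1).1
    simp only
    rw [← Category.assoc, ha, hb, Category.comp_id]
  · apply (h'.2 Y' h'.1).1
    simp only
    rw [← Category.assoc, hb, ha, Category.comp_id]

lemma isChain_isCompl_of_isCompl {η : X ⟶ Y} (h : IsChain fs X Y η) (g : A)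
    (hX : IsCompl g X) : IsCompl g Y := by
  induction h with
  | nil X => exact hX
  | cons f fs X Y η c _ ih => exact c.isCompl_of_isCompl g (ih hX)

lemma isChain_isRefl {η : X ⟶ Y} (h : IsChain fs X Y η) : IsRefl fs η :=
  ⟨h.isCompl, h.bijective⟩

lemma IsRefl.isCompl_of_isCompl {η : X ⟶ Y} (h : IsRefl fs η) (g : A) (hX : IsCompl g X) :
    IsCompl g Y := by
  obtain ⟨Y', η', hc⟩ := exists_chain fs X
  obtain ⟨e, _⟩ := (isChain_isRefl hc).exists_iso h
  exact IsCompl.of_iso e (isChain_isCompl_of_isCompl hc g hX)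

lemma IsRefl.of_iso {η : X ⟶ Y} (h : IsRefl fs η) (e : Y ≅ Y') : IsRefl fs (η ≫ e.hom) := by
  refine ⟨fun g hg => IsCompl.of_iso e (h.1 g hg), fun L hL => ?_⟩
  have h1 := h.2 L hL
  have h2 : Function.Bijective (fun k : Y' ⟶ L => e.hom ≫ k) :=
    ⟨fun k k' hk => by simpa using hk, fun k => ⟨e.inv ≫ k, by simp⟩⟩
  have : (fun k : Y' ⟶ L => (η ≫ e.hom) ≫ k) =
      (fun k : Y ⟶ L => η ≫ k) ∘ (fun k : Y' ⟶ L => e.hom ≫ k) := by
    funext k
    exact Category.assoc _ _ _
  rw [this]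
  exact h1.comp h2

lemma IsRefl.comp {f : A} {η₁ : X ⟶ Y} {η₂ : Y ⟶ Z} (h₁ : IsRefl [f] η₁) (h₂ : IsRefl fs η₂) :
    IsRefl (f :: fs) (η₁ ≫ η₂) := by
  refine ⟨fun g hg => ?_, fun L hL => ?_⟩
  · rcases List.mem_cons.1 hg with rfl | hg
    · exact h₂.isCompl_of_isCompl g (h₁.1 g (List.mem_singleton.2 rfl))
    · exact h₂.1 g hg
  · have k1 := h₁.2 L (fun g hg => by
      rw [List.mem_singleton] at hg
      subst hg
      exact hL g List.mem_cons_self)
    have k2 := h₂.2 L (fun g hg => hL g (List.mem_cons_of_mem _ hg))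
    have : (fun k : Z ⟶ L => (η₁ ≫ η₂) ≫ k) =
        (fun k : Y ⟶ L => η₁ ≫ k) ∘ (fun k : Z ⟶ L => η₂ ≫ k) := by
      funext k
      exact Category.assoc _ _ _
    rw [this]
    exact k1.comp k2

lemma isRefl_nil_of_iso (e : X ≅ Y) : IsRefl ([] : List A) e.hom := by
  refine ⟨fun g hg => by simp at hg, fun L _ => ?_⟩
  exact ⟨fun k k' hk => by simpa using hk, fun k => ⟨e.inv ≫ k, by simp⟩⟩

end Refl

section Base

variable (I : DRing.Cx A)

lemma isIso_evCx_unit : IsIso (evCx (ModuleCat.of A A) (1 : A) I) := by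
  apply isIso_of_bijective
  intro q
  constructor
  · intro (g : ModuleCat.of A A ⟶ I.X q) (g' : ModuleCat.of A A ⟶ I.X q) hg
    have hg' : g.hom (1 : A) = g'.hom (1 : A) := hg
    exact ModuleCat.hom_ext (LinearMap.ext_ring hg')
  · intro y
    refine ⟨ModuleCat.ofHom (LinearMap.toSpanSingleton A (I.X q) y), ?_⟩
    change (LinearMap.toSpanSingleton A (I.X q) y) (1 : A) = y
    simp

/-- `Hom•(A[0], I) ≅ I` -/
noncomputable def homCxUnitIso : DRing.homCx (sgM (ModuleCat.of A A)) I ≅ I :=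
  singleHomIso (ModuleCat.of A A) I ≪≫
    @asIso _ _ _ _ (evCx (ModuleCat.of A A) (1 : A) I) (isIso_evCx_unit I)

end Base

/-- `Q I ⟶ Q Hom•(Č(fs), I)` is the reflection of `Q I` onto the `fs`-complete objects -/
theorem exists_refl (fs : List A) : ∀ (I : DRing.Cx A) [I.IsKInjective],
    ∃ η : (Q.obj I : Dual.D A) ⟶ Q.obj (DRing.homCx (DerCA.extCech (ModuleCat.of A A) fs) I),
      IsRefl fs η := by
  induction fs with
  | nil =>
    intro I _
    exact ⟨(Q.mapIso (homCxUnitIso I)).inv, isRefl_nil_of_iso (Q.mapIso (homCxUnitIso I)).symm⟩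
  | cons f fs ih =>
    intro I _
    obtain ⟨η', h'⟩ := ih (Ihat f I)
    have h₁ : IsRefl [f] (Q.map (mappingCone.inr (evOne f I)) :
        (Q.obj I : Dual.D A) ⟶ Q.obj (Ihat f I)) := by
      refine ⟨fun g hg => ?_, fun L hL => ?_⟩
      · rw [List.mem_singleton] at hg
        subst hg
        exact isCompl_Ihat g I
      · exact bijective_precomp_Ihat f I L (hL f (List.mem_singleton.2 rfl))
    let e : (Q.obj (DRing.homCx (DerCA.extCech (ModuleCat.of A A) (f :: fs)) I) : Dual.D A) ≅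
        Q.obj (DRing.homCx (DerCA.extCech (ModuleCat.of A A) fs) (Ihat f I)) :=
      Q.mapIso (coconeLocIso f I (DerCA.extCech (ModuleCat.of A A) fs))
    exact ⟨(Q.map (mappingCone.inr (evOne f I)) ≫ η') ≫ e.symm.hom, (h₁.comp h').of_iso e.symm⟩

/-- **S7097** -/
theorem derivedCompletion_iso_RHomCx_extCech (fs : List A) (I : Ideal A)
    (hI : Ideal.span {x : A | x ∈ fs} = I) [DRing.HasDerivedCompletion I]
    [DRing.HasRHomCx (DerCA.extCech (ModuleCat.of A A) fs)] (K : Dual.D A) :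
    Nonempty (((DRing.derivedCompletion I).obj K).obj ≅
      (DRing.RHomCx (DerCA.extCech (ModuleCat.of A A) fs)).obj K) := by
  subst hI
  obtain ⟨J, hJ, ⟨e⟩⟩ := KInjM.exists_kinj_rep K
  haveI := hJ
  obtain ⟨η, hη⟩ := exists_refl fs J
  obtain ⟨e', -⟩ := exists_iso_of_reflection (Ideal.span {x : A | x ∈ fs}) K _ (e.inv ≫ η)
    ((isDerivedComplete_iff_isCompl _ _).2 hη.1) (fun L hL => by
      have h1 := hη.2 L ((isDerivedComplete_iff_isCompl _ L).1 hL)
      have h2 : Function.Bijective (fun k : (Q.obj J : Dual.D A) ⟶ L => e.inv ≫ k) :=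
        ⟨fun k k' hk => by simpa using hk, fun k => ⟨e.hom ≫ k, by simp⟩⟩
      have : (fun k : (Q.obj (DRing.homCx (DerCA.extCech (ModuleCat.of A A) fs) J) : Dual.D A) ⟶ L =>
          (e.inv ≫ η) ≫ k) = (fun k : (Q.obj J : Dual.D A) ⟶ L => e.inv ≫ k) ∘
            (fun k => η ≫ k) := by
        funext k
        exact Category.assoc _ _ _
      rw [this]
      exact h2.comp h1)
  exact ⟨e' ≪≫ (rhomIso (DerCA.extCech (ModuleCat.of A A) fs) J).symm ≪≫
    (DRing.RHomCx (DerCA.extCech (ModuleCat.of A A) fs)).mapIso e⟩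

end Groth.Agent.Lib.Helper8.RHomK
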