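import Groth.Agent.Lib.Helper8.CurveTensor
import Mathlib
set_option backward.isDefEq.respectTransparency.types false
/-! # Helper8 — ranks of finite locally free modules are additive in short exact sequences (splitting on stalks) -/
set_option autoImplicit false
universe u
open CategoryTheory CategoryTheory.Limits AlgebraicGeometry

namespace Groth.Agent.Lib.Helper8.RankAdd
open Groth.Agent.Lib.Helper17.StalkExact

/-- ranks of free modules are additive in short exact sequences -/
theorem rank_add_of_exact {R : Type*} [CommRing R] [Nontrivial R] {M₁ M₂ M₃ : Type*}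
    [AddCommGroup M₁] [AddCommGroup M₂] [AddCommGroup M₃] [Module R M₁] [Module R M₂] [Module R M₃]
    (f : M₁ →ₗ[R] M₂) (g : M₂ →ₗ[R] M₃) (hf : Function.Injective f) (hg : Function.Surjective g)
    (hex : Function.Exact f g) {n₁ n₂ n₃ : ℕ} (b₁ : Module.Basis (Fin n₁) R M₁)
    (b₂ : Module.Basis (Fin n₂) R M₂) (b₃ : Module.Basis (Fin n₃) R M₃) : n₂ = n₁ + n₃ := by
  haveI : Module.Free R M₁ := Module.Free.of_basis b₁
  haveI : Module.Free R M₃ := Module.Free.of_basis b₃
  haveI : Module.Finite R M₁ := Module.Finite.of_basis b₁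
  haveI : Module.Finite R M₃ := Module.Finite.of_basis b₃
  obtain ⟨l, hl⟩ := Module.projective_lifting_property g LinearMap.id hg
  have e := (hex.splitSurjectiveEquiv hf ⟨l, hl⟩).1
  have h := e.finrank_eq
  rw [Module.finrank_prod, Module.finrank_eq_card_basis b₁, Module.finrank_eq_card_basis b₂,
    Module.finrank_eq_card_basis b₃] at h
  simpa using h

/-- ranks of locally free modules are additive in short exact sequences (on a nonempty scheme) -/
theorem rank_add {X : Scheme.{u}} [Nonempty X] (S : ShortComplex X.Modules) (hS : S.ShortExact)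
    (n₁ n₂ n₃ : ℕ) (h₁ : FlatMod.IsFinLocFreeOfRank n₁ S.X₁) (h₂ : FlatMod.IsFinLocFreeOfRank n₂ S.X₂)
    (h₃ : FlatMod.IsFinLocFreeOfRank n₃ S.X₃) : n₂ = n₁ + n₃ := by
  obtain ⟨x⟩ := ‹Nonempty X›
  haveI := hS.mono_f
  haveI := hS.epi_g
  obtain ⟨b₁⟩ := Groth.Agent.Lib.Helper6.K0Tensor.exists_stalkBasis S.X₁ h₁ x
  obtain ⟨b₂⟩ := Groth.Agent.Lib.Helper6.K0Tensor.exists_stalkBasis S.X₂ h₂ x
  obtain ⟨b₃⟩ := Groth.Agent.Lib.Helper6.K0Tensor.exists_stalkBasis S.X₃ h₃ x
  exact rank_add_of_exact (stalkLinearMap S.f x) (stalkLinearMap S.g x)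
    (stalkHom_injective_of_mono S.f x) (stalkHom_surjective_of_epi S.g x)
    (stalkHom_exact_of_exact S hS.exact x) b₁ b₂ b₃

end Groth.Agent.Lib.Helper8.RankAdd

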