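import Mathlib
import Groth.Agent.Lib.Helper8.Ex1
import Groth.Agent.Lib.Helper8.Dep1

/-! # Helper8 — Reg1: a Noetherian ring of finite Krull dimension all of whose local rings are regular
has `A[0]` as a dualizing complex (S11185), via the residue-field criterion for finite injective
dimension (`EFB.hinj_of_residue`), Ext flat base change and the regular local case.
`nontrivial_localized_ext_iff'` (for any bounded-below `L`), `le_dim_of_nontrivial_ext_residue_self`. -/

set_option autoImplicit false

universe u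

open CategoryTheory CategoryTheory.Limits CategoryTheory.Pretriangulated Opposite DerivedCategory
open scoped TensorProduct

attribute [local instance] HasDerivedCategory.standard

namespace Groth.Agent.Lib.Helper8.Bidual

open Groth.Agent.Lib.Helper8 Groth.Agent.Lib.Helper16.FlatBC

section Gen

variable {A : Type u} [CommRing A] [IsNoetherianRing A]

variable (p : Ideal A) [hpp : p.IsPrime]

/-- `Ext^i(A/p, L)_p ≠ 0` iff `Ext^i(κ(p), L_p) ≠ 0`, for `L` bounded below -/
theorem nontrivial_localized_ext_iff' (L : Dual.D A) (hL : ∃ c : ℤ, L.IsGE c) (i : ℤ) :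
    Nontrivial (LocalizedModule p.primeCompl (Dual.inD A (A ⧸ p) ⟶ L⟦i⟧)) ↔
      Nontrivial (Dual.inD (Localization.AtPrime p)
        (IsLocalRing.ResidueField (Localization.AtPrime p)) ⟶
          ((ε (algebraMap A (Localization.AtPrime p))).obj L)⟦i⟧) := by
  obtain ⟨Φ⟩ := nonempty_bcLinearEquiv_quot (B := Localization.AtPrime p) p L hL i
  let e2 : (Localization.AtPrime p) ⊗[A] (Dual.inD A (A ⧸ p) ⟶ L⟦i⟧) ≃ₗ[Localization.AtPrime p]
      LocalizedModule p.primeCompl (Dual.inD A (A ⧸ p) ⟶ L⟦i⟧) :=
    (IsLocalizedModule.isBaseChange p.primeCompl (Localization.AtPrime p)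
      (LocalizedModule.mkLinearMap p.primeCompl (Dual.inD A (A ⧸ p) ⟶ L⟦i⟧))).equiv
  let e3 : ((Localization.AtPrime p) ⧸ p.map (algebraMap A (Localization.AtPrime p)))
      ≃ₗ[Localization.AtPrime p] IsLocalRing.ResidueField (Localization.AtPrime p) :=
    (Submodule.quotEquivOfEq _ _ (Localization.AtPrime.map_eq_maximalIdeal (I := p))).trans
      (EFB.residueEquiv (Localization.AtPrime p))
  let j : Dual.inD (Localization.AtPrime p)
      ((Localization.AtPrime p) ⧸ p.map (algebraMap A (Localization.AtPrime p))) ≅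
      Dual.inD (Localization.AtPrime p) (IsLocalRing.ResidueField (Localization.AtPrime p)) :=
    (singleFunctor (ModuleCat.{u} (Localization.AtPrime p)) 0).mapIso e3.toModuleIso
  exact (e2.symm.trans (Φ.trans (EFB.precompEquivLin j.symm _))).toEquiv.nontrivial_congr

end Gen

section RegLocal

variable (P : Type u) [CommRing P] [IsRegularLocalRing P]

/-- over a regular local ring, `Ext^i(κ, P) ≠ 0` forces `i ≤ dim P` -/
theorem le_dim_of_nontrivial_ext_residue_self (d : ℕ) (hd : ringKrullDim P ≤ d) (i : ℤ)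
    (h : Nontrivial (Dual.inD P (IsLocalRing.ResidueField P) ⟶ (Dual.inD P P)⟦i⟧)) :
    i ≤ d := by
  have hω := isDualizing_self_of_isRegularLocalRing P
  obtain ⟨s, hs⟩ := exists_isNormalized_shift (Dual.inD P P) hω
  have hω' := isDualizing_shift _ hω s
  -- `i = s`
  have his : i = s := by
    by_contra hne
    haveI := hs (i - s) (by omega)
    have e := Iso.homCongr (Iso.refl (Dual.inD P (IsLocalRing.ResidueField P)))
      ((shiftFunctorAdd' (Dual.D P) s (i - s) i (by omega)).app (Dual.inD P P))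
    haveI : Subsingleton (Dual.inD P (IsLocalRing.ResidueField P) ⟶ (Dual.inD P P)⟦i⟧) :=
      @Equiv.subsingleton _ _ e this
    exact not_nontrivial _ h
  -- `s ≤ dim P`
  have hnt : Nontrivial (Dual.inD P P ⟶ ((Dual.inD P P)⟦s⟧)⟦-s⟧) := by
    have e := Iso.homCongr (Iso.refl (Dual.inD P P))
      ((shiftFunctorCompIsoId (Dual.D P) s (-s) (by omega)).app (Dual.inD P P))
    have h1 : Nontrivial (Dual.inD P P ⟶ Dual.inD P P) := by
      refine ⟨⟨𝟙 _, 0, fun h0 => ?_⟩⟩
      have h2 := (inD_self_conditions (A := P)).2.1.1 (a₁ := (1 : P)) (a₂ := 0) (by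
        change (1 : P) • 𝟙 (Dual.inD P P) = (0 : P) • 𝟙 (Dual.inD P P)
        rw [one_smul, zero_smul]; exact h0)
      exact one_ne_zero h2
    exact @Equiv.nontrivial _ _ e h1
  have h3 := ext_range _ hω' hs P d (by rw [Module.supportDim_self_eq_ringKrullDim]; exact hd)
    (-s) hnt
  omega

end RegLocal

section Reg

variable (A : Type u) [CommRing A] [IsNoetherianRing A]

/-- S11185 -/
theorem isDualizing_self_of_regular_of_finite_dim
    (hreg : ∀ p : PrimeSpectrum A, IsRegularLocalRing (Localization.AtPrime p.asIdeal))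
    (hdim : ringKrullDim A < ⊤) : Dual.IsDualizing A (Dual.inD A A) := by
  obtain ⟨h1, h2, h3⟩ := inD_self_conditions (A := A)
  have hh1 : ∀ i : ℤ, Module.Finite A (Dual.HD A (Dual.inD A A) i) := h1
  refine ⟨inferInstance, ?_, h1, h2, h3⟩
  -- a bound for the dimension
  obtain ⟨d, hd⟩ : ∃ d : ℕ, ringKrullDim A ≤ d := by
    rcases eq_or_ne (ringKrullDim A) ⊥ with hb | hb
    · exact ⟨0, by rw [hb]; exact bot_le⟩
    · obtain ⟨x, hx⟩ := WithBot.ne_bot_iff_exists.1 hb
      have hxt : x ≠ ⊤ := by
        rintro rfl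
        rw [← hx] at hdim
        exact lt_irrefl _ hdim
      obtain ⟨n, hn⟩ := ENat.ne_top_iff_exists.1 hxt
      exact ⟨n, by rw [← hx, ← hn]; exact le_rfl⟩
  refine ⟨0, d, ?_⟩
  haveI hGE : (Dual.inD A A).IsGE 0 := inferInstance
  refine EFB.hinj_of_residue (Dual.inD A A) d 0 hGE hh1 (fun m hm i hi => ?_)
  by_contra hc
  rw [not_subsingleton_iff_nontrivial] at hc
  -- the support of `Ext^i(A/m, A)` is `{m}`
  obtain ⟨q, hq⟩ := (Module.nonempty_support_of_nontrivial (R := A)
    (M := (Dual.inD A (A ⧸ m) ⟶ (Dual.inD A A)⟦i⟧)))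
  have hann : m ≤ q.asIdeal := by
    refine le_trans ?_ (Module.annihilator_le_of_mem_support hq)
    intro a ha
    rw [Module.mem_annihilator]
    intro w
    have h4 : a • 𝟙 (Dual.inD A (A ⧸ m)) = 0 := by
      rw [← single_map_lsmul (M := A ⧸ m) a]
      have h5 : LinearMap.lsmul A (A ⧸ m) a = 0 := by
        refine LinearMap.ext fun x => ?_
        obtain ⟨x, rfl⟩ := Ideal.Quotient.mk_surjective x
        change a • (Ideal.Quotient.mk m x) = 0
        rw [← Ideal.Quotient.mk_eq_mk, ← Submodule.Quotient.mk_smul, Ideal.Quotient.mk_eq_mk,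
          Ideal.Quotient.eq_zero_iff_mem]
        exact m.mul_mem_right x ha
      rw [h5]
      exact (singleFunctor (ModuleCat.{u} A) 0).map_zero _ _
    rw [← smul_eq_comp (M := A ⧸ m) a w, h4, zero_comp]
  have hqm : q.asIdeal = m := (hm.eq_of_le q.2.ne_top hann).symm
  haveI hmp : m.IsPrime := hm.isPrime
  have hq' : Nontrivial (LocalizedModule m.primeCompl
      (Dual.inD A (A ⧸ m) ⟶ (Dual.inD A A)⟦i⟧)) := by
    have := Module.mem_support_iff.1 hq
    have hqe : q = ⟨m, hmp⟩ := PrimeSpectrum.ext hqm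
    subst hqe
    exact this
  rw [nontrivial_localized_ext_iff' m (Dual.inD A A) ⟨0, hGE⟩ i] at hq'
  -- `ε (A[0]) = A_m[0]`
  let e1 : Localization.AtPrime m ≃ₗ[Localization.AtPrime m] (Localization.AtPrime m) ⊗[A] A :=
    (TensorProduct.AlgebraTensorModule.rid A (Localization.AtPrime m) (Localization.AtPrime m)).symm
  let j : Dual.inD (Localization.AtPrime m) (Localization.AtPrime m) ≅
      (ε (algebraMap A (Localization.AtPrime m))).obj (Dual.inD A A) :=
    (singleFunctor (ModuleCat.{u} (Localization.AtPrime m)) 0).mapIso e1.toModuleIso ≪≫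
      inDExtIso (B := Localization.AtPrime m) A
  have hq'' : Nontrivial (Dual.inD (Localization.AtPrime m)
      (IsLocalRing.ResidueField (Localization.AtPrime m)) ⟶
        (Dual.inD (Localization.AtPrime m) (Localization.AtPrime m))⟦i⟧) :=
    (Iso.homCongr (Iso.refl _)
      ((shiftFunctor (Dual.D (Localization.AtPrime m)) i).mapIso j)).nontrivial
  haveI := hreg ⟨m, hmp⟩
  have hdm : ringKrullDim (Localization.AtPrime m) ≤ d := by
    rw [IsLocalization.AtPrime.ringKrullDim_eq_height m (Localization.AtPrime m)]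
    exact (Ideal.height_le_ringKrullDim_of_ne_top hmp.ne_top).trans hd
  have := le_dim_of_nontrivial_ext_residue_self (Localization.AtPrime m) d hdm i hq''
  omega

end Reg

end Groth.Agent.Lib.Helper8.Bidual
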