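import Groth.Prelude.Def_CohCx
import Groth.Prelude.Def_DCoh2
import Groth.Prelude.Def_FreeSh
import Groth.Agent.Lib.Helper8.AcycColl
import Groth.Agent.Lib.Helper8.RlimGen

/-!
# Helper8 — cohomology sheaves of a derived limit: `H^q(R lim K_n) = lim H^q(K_n)` (S0878, S0869)
-/

set_option autoImplicit false

universe u

open CategoryTheory CategoryTheory.Limits Pretriangulated DerivedCategory Opposite

namespace Groth.Agent.Lib.Helper8.RlimHD

open Groth.Agent.Lib.Helper8 DSingleHom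

section Seq

variable {T : Type*} [Category T] {X : ℕ → T} (f : ∀ n, X (n + 1) ⟶ X n)

/-- a cone over a tower from compatible legs -/
def coneOf (Z : T) (p : ∀ n, Z ⟶ X n) (hp : ∀ n, p (n + 1) ≫ f n = p n) :
    Cone (Functor.ofOpSequence f) where
  pt := Z
  π := NatTrans.ofOpSequence (F := (Functor.const _).obj Z) (G := Functor.ofOpSequence f)
    (fun n => p n) (fun n => by
      have h1 := Functor.ofOpSequence_map_homOfLE_succ f n
      exact ((Category.id_comp _).trans (hp n).symm).trans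
        (congrArg (fun g => p (n + 1) ≫ g) h1.symm))

lemma limit_π_succ [HasLimit (Functor.ofOpSequence f)] (n : ℕ) :
    limit.π (Functor.ofOpSequence f) (op (n + 1)) ≫ f n =
      limit.π (Functor.ofOpSequence f) (op n) := by
  have := limit.w (Functor.ofOpSequence f) (homOfLE (Nat.le_add_right n 1)).op
  rw [Functor.ofOpSequence_map_homOfLE_succ] at this
  exact this

lemma lift_π [HasLimit (Functor.ofOpSequence f)] (Z : T) (p : ∀ n, Z ⟶ X n)
    (hp : ∀ n, p (n + 1) ≫ f n = p n) (n : ℕ) :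
    limit.lift (Functor.ofOpSequence f) (coneOf f Z p hp) ≫
      limit.π (Functor.ofOpSequence f) (op n) = p n :=
  limit.lift_π _ _

end Seq

section LimOne

/-- `lim¹ = 0` transfers along a levelwise bijection commuting with the transition maps -/
lemma limOne_transfer (A A' : ℕ → Type u) [∀ n, AddCommGroup (A n)] [∀ n, AddCommGroup (A' n)]
    (t : ∀ n, A (n + 1) →+ A n) (t' : ∀ n, A' (n + 1) →+ A' n)
    (e : ∀ n, A' n →+ A n) (he : ∀ n, Function.Bijective (e n))
    (hc : ∀ n x, e n (t' n x) = t n (e (n + 1) x))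
    (h : CohCx.LimOneIsZero A t) : CohCx.LimOneIsZero A' t' := by
  intro a'
  obtain ⟨b, hb⟩ := h (fun n => e n (a' n))
  choose b' hb' using fun n => (he n).2 (b n)
  refine ⟨b', ?_⟩
  funext n
  apply (he n).1
  have := congr_fun hb n
  simp only at this
  rw [map_sub, hc, hb', hb']
  exact this

end LimOne

variable {C : Type u} [SmallCategory C] {J : GrothendieckTopology C}

/-- sections of a limit of a tower of sheaves are determined by their components -/
lemma limit_sections_ext (F : ℕᵒᵖ ⥤ Sheaf J AddCommGrpCat.{u}) (V : C)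
    (x y : (limit F).obj.obj (op V))
    (h : ∀ n : ℕ, ((limit.π F (op n)).hom.app (op V)).hom x =
      ((limit.π F (op n)).hom.app (op V)).hom y) : x = y := by
  have hx := CohFree.evalGen_ofSect J V (limit F) x
  have hy := CohFree.evalGen_ofSect J V (limit F) y
  have key : CohFree.ofSect J V (limit F) x = CohFree.ofSect J V (limit F) y := by
    apply limit.hom_ext
    intro j
    apply (CohFree.homEquivSect J V _).injective
    change ((limit.π F j).hom.app (op V)).hom (CohFree.evalGen J V _ (CohFree.ofSect J V (limit F) x)) =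
      ((limit.π F j).hom.app (op V)).hom (CohFree.evalGen J V _ (CohFree.ofSect J V (limit F) y))
    rw [hx, hy]
    exact h j.unop
  rw [← hx, ← hy, key]

variable [HasDerivedCategory.{u} (Sheaf J AddCommGrpCat.{u})]

lemma sh_naturality {K K' : DerivedCategory (Sheaf J AddCommGrpCat.{u})} (κ : K ⟶ K') (q : ℤ) :
    (DerivedCategory.homologyFunctor (Sheaf J AddCommGrpCat.{u}) 0).map (κ⟦q⟧') ≫
        (AbHDU.sh K' q).hom =
      (AbHDU.sh K q).hom ≫ (DerivedCategory.homologyFunctor (Sheaf J AddCommGrpCat.{u}) q).map κ :=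
  ((DerivedCategory.homologyFunctor (Sheaf J AddCommGrpCat.{u}) 0).shiftIso q 0 q
    (add_zero q)).hom.naturality κ

lemma αU_natural {K K' : DerivedCategory (Sheaf J AddCommGrpCat.{u})} (κ : K ⟶ K') (q : ℤ) (U : C)
    (φ : CohCx.HDU K q U) :
    AbHDU.αU K' q U (φ ≫ κ⟦q⟧') =
      (((DerivedCategory.homologyFunctor (Sheaf J AddCommGrpCat.{u}) q).map κ).hom.app (op U)).hom
        (AbHDU.αU K q U φ) := by
  have h : AbHDU.θq K' q U (φ ≫ κ⟦q⟧') =
      AbHDU.θq K q U φ ≫ (DerivedCategory.homologyFunctor (Sheaf J AddCommGrpCat.{u}) q).map κ := by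
    unfold AbHDU.θq
    let φ' : DerivedCategory.Q.obj (sg (CohCx.freeSheaf J U)) ⟶ K⟦q⟧ := φ
    have : θ (φ' ≫ κ⟦q⟧') = θ φ' ≫ _ := θ_comp φ' (κ⟦q⟧')
    rw [Category.assoc, ← sh_naturality, ← Category.assoc]
    congr 1
  rw [AbHDU.αU_apply, h]
  rfl

section Main

variable (K : ℕ → DerivedCategory (Sheaf J AddCommGrpCat.{u})) (t : ∀ n, K (n + 1) ⟶ K n)
  [HasProduct K] (L : DerivedCategory (Sheaf J AddCommGrpCat.{u})) (a : ∀ n, L ⟶ K n)
  (hL : CohCx.IsRlimVia K t L a) (B : Set C)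
  (hB : ∀ U : C, ∃ (ι : Type u) (Y : ι → C) (f : ∀ i, Y i ⟶ U),
    Sieve.ofArrows Y f ∈ J U ∧ ∀ i, Y i ∈ B)
  (h1 : ∀ U ∈ B, ∀ (p : ℕ) (q : ℤ) (n : ℕ),
    Subsingleton (CohSite.HU (CohCx.HD (K n) q) (p + 1) U))
  (h2 : ∀ U ∈ B, ∀ (q : ℤ), CohCx.LimOneIsZero (fun n => (CohCx.HD (K n) q).obj.obj (op U))
    (fun n => (((DerivedCategory.homologyFunctor _ q).map (t n)).hom.app (op U)).hom))
  (q : ℤ)

/-- the tower of cohomology sheaves -/
noncomputable abbrev Ht (n : ℕ) : CohCx.HD (K (n + 1)) q ⟶ CohCx.HD (K n) q :=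
  (DerivedCategory.homologyFunctor _ q).map (t n)

/-- the tower diagram -/
noncomputable abbrev FF : ℕᵒᵖ ⥤ Sheaf J AddCommGrpCat.{u} :=
  CohCx.opSequence (fun n => CohCx.HD (K n) q) (Ht K t q)

include hL in
lemma Ha_compat (n : ℕ) :
    (DerivedCategory.homologyFunctor (Sheaf J AddCommGrpCat.{u}) q).map (a (n + 1)) ≫ Ht K t q n =
      (DerivedCategory.homologyFunctor (Sheaf J AddCommGrpCat.{u}) q).map (a n) := by
  rw [← Functor.map_comp, RlimGen.a_compat K t L a hL]

/-- the comparison map `H^q(L) ⟶ lim H^q(K_n)` -/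
noncomputable def φ : CohCx.HD L q ⟶ limit (FF K t q) :=
  limit.lift (FF K t q) (coneOf (Ht K t q) (CohCx.HD L q)
    (fun n => (DerivedCategory.homologyFunctor (Sheaf J AddCommGrpCat.{u}) q).map (a n))
    (Ha_compat K t L a hL q))

lemma φ_π (n : ℕ) : φ K t L a hL q ≫ limit.π (FF K t q) (op n) =
    (DerivedCategory.homologyFunctor (Sheaf J AddCommGrpCat.{u}) q).map (a n) :=
  lift_π _ _ _ _ n

include hB h1 h2 in
theorem mono_φ : Mono (φ K t L a hL q) := by
  apply RlimTrD.mono_of_injective_on B hB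
  intro V hV
  rw [injective_iff_map_eq_zero]
  intro s hs
  obtain ⟨R, hR, hRf⟩ := AbHDU.locally_surj L q V s
  obtain ⟨ι, Z, f, hfR, hcov, hYB⟩ := RlimTrM.exists_refinement B hB V R hR
  apply Sheaf.isSeparated (CohCx.HD L q) V _ hcov
  rintro W g ⟨W', g', f', ⟨i⟩, rfl⟩
  obtain ⟨ψ, hψ⟩ := hRf (f i) (hfR i)
  have hall : ∀ n, ψ ≫ (a n)⟦q⟧' = 0 := by
    intro n
    apply (AcycColl.αU_bijective (K n) B hB (fun U hU p q' => h1 U hU p q' n) (Z i) (hYB i) q).1
    rw [αU_natural, hψ, map_zero]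
    have hz : (((DerivedCategory.homologyFunctor (Sheaf J AddCommGrpCat.{u}) q).map
        (a n)).hom.app (op V)).hom s = 0 := by
      rw [← φ_π K t L a hL q n]
      change ((limit.π (FF K t q) (op n)).hom.app (op V)).hom
        (((φ K t L a hL q).hom.app (op V)).hom s) = 0
      rw [hs, map_zero]
    have nat := ConcreteCategory.congr_hom
      (((DerivedCategory.homologyFunctor (Sheaf J AddCommGrpCat.{u}) q).map
        (a n)).hom.naturality (f i).op) s
    have nat' : (((DerivedCategory.homologyFunctor (Sheaf J AddCommGrpCat.{u}) q).map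
        (a n)).hom.app (op (Z i))).hom (((CohCx.HD L q).obj.map (f i).op).hom s) =
        ((CohCx.HD (K n) q).obj.map (f i).op).hom
          ((((DerivedCategory.homologyFunctor (Sheaf J AddCommGrpCat.{u}) q).map
            (a n)).hom.app (op V)).hom s) := nat
    rw [nat', hz, map_zero]
  have hlim : CohCx.LimOneIsZero (fun n => CohCx.HDU (K n) (q - 1) (Z i))
      (fun n => Preadditive.rightComp _ ((shiftFunctor _ (q - 1)).map (t n))) :=
    limOne_transfer _ _ _ _ (fun n => AbHDU.αU (K n) (q - 1) (Z i))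
      (fun n => AcycColl.αU_bijective (K n) B hB (fun U hU p q' => h1 U hU p q' n) (Z i)
        (hYB i) (q - 1))
      (fun n x => αU_natural (t n) (q - 1) (Z i) x) (h2 (Z i) (hYB i) (q - 1))
  obtain ⟨c, hc⟩ := hL
  have hψ0 : ψ = 0 := MilnorTri.eq_zero K t L a c hc q (q - 1) (by omega) hlim ψ hall
  have hz : ((CohCx.HD L q).obj.map (f i).op).hom s = 0 := by
    rw [← hψ, hψ0, map_zero]
  rw [op_comp, Functor.map_comp]
  change ((CohCx.HD L q).obj.map g'.op).hom (((CohCx.HD L q).obj.map (f i).op).hom s) =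
    ((CohCx.HD L q).obj.map g'.op).hom (((CohCx.HD L q).obj.map (f i).op).hom 0)
  rw [hz, map_zero, map_zero, map_zero]

include hB h1 in
lemma surj_on_B (V : C) (hV : V ∈ B) (x' : (limit (FF K t q)).obj.obj (op V)) :
    ∃ s : (CohCx.HD L q).obj.obj (op V), ((φ K t L a hL q).hom.app (op V)).hom s = x' := by
  have hbij := fun n =>
    AcycColl.αU_bijective (K n) B hB (fun U hU p q' => h1 U hU p q' n) V hV q
  let xn : ∀ n, (CohCx.HD (K n) q).obj.obj (op V) := fun n =>
    ((limit.π (FF K t q) (op n)).hom.app (op V)).hom x'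
  have hxn : ∀ n, ((Ht K t q n).hom.app (op V)).hom (xn (n + 1)) = xn n := by
    intro n
    have h0 := limit_π_succ (X := fun n => CohCx.HD (K n) q) (Ht K t q) n
    change _ = ((limit.π (FF K t q) (op n)).hom.app (op V)).hom x'
    rw [← h0]
    rfl
  choose ψ hψ using fun n => (hbij n).2 (xn n)
  have hcomp : ∀ n, ψ (n + 1) ≫ (t n)⟦q⟧' = ψ n := by
    intro n
    apply (hbij n).1
    rw [αU_natural, hψ, hψ]
    exact hxn n
  have hL' := hL
  obtain ⟨c, hc⟩ := hL'
  obtain ⟨y, hy⟩ := MilnorTri.lift_exists K t L a c hc q ψ hcomp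
  refine ⟨AbHDU.αU L q V y, ?_⟩
  apply limit_sections_ext
  intro n
  have h3 : ((limit.π (FF K t q) (op n)).hom.app (op V)).hom
      (((φ K t L a hL q).hom.app (op V)).hom (AbHDU.αU L q V y)) =
      (((DerivedCategory.homologyFunctor (Sheaf J AddCommGrpCat.{u}) q).map
        (a n)).hom.app (op V)).hom (AbHDU.αU L q V y) := by
    rw [← φ_π K t L a hL q n]
    rfl
  rw [h3, ← αU_natural, hy, hψ]

include hB h1 in
theorem epi_φ : Epi (φ K t L a hL q) := by
  haveI : Sheaf.IsLocallySurjective (φ K t L a hL q) := ⟨fun {U} x => by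
    obtain ⟨ι, Z, f, hcov, hYB⟩ := hB U
    refine J.superset_covering ?_ hcov
    rintro W g ⟨W', g', f', ⟨i⟩, rfl⟩
    apply Sieve.downward_closed
    obtain ⟨s, hs⟩ := surj_on_B K t L a hL B hB h1 q (Z i) (hYB i)
      (((limit (FF K t q)).obj.map (f i).op).hom x)
    exact ⟨s, hs⟩⟩
  exact Sheaf.epi_of_isLocallySurjective _

include hB h1 h2 in
theorem isIso_φ : IsIso (φ K t L a hL q) := by
  haveI := mono_φ K t L a hL B hB h1 h2 q
  haveI := epi_φ K t L a hL B hB h1 q
  exact isIso_of_mono_of_epi _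

end Main

/-- the statement of S0878 -/
theorem main (K : ℕ → DerivedCategory (Sheaf J AddCommGrpCat.{u})) (t : ∀ n, K (n + 1) ⟶ K n)
    [HasProduct K] (L : DerivedCategory (Sheaf J AddCommGrpCat.{u})) (hL : DCoh.IsRlim K t L)
    (B : Set C)
    (hB : ∀ U : C, ∃ (ι : Type u) (Y : ι → C) (f : ∀ i, Y i ⟶ U),
      Sieve.ofArrows Y f ∈ J U ∧ ∀ i, Y i ∈ B)
    (h1 : ∀ U ∈ B, ∀ (p : ℕ) (q : ℤ) (n : ℕ),
      Subsingleton (CohSite.HU (CohCx.HD (K n) q) (p + 1) U))
    (h2 : ∀ U ∈ B, ∀ (q : ℤ), CohCx.LimOneIsZero (fun n => (CohCx.HD (K n) q).obj.obj (op U))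
      (fun n => (((DerivedCategory.homologyFunctor _ q).map (t n)).hom.app (op U)).hom))
    (q : ℤ) :
    Nonempty (CohCx.HD L q ≅ limit (CohCx.opSequence (fun n => CohCx.HD (K n) q)
      (fun n => (DerivedCategory.homologyFunctor _ q).map (t n)))) := by
  obtain ⟨a, c, hc⟩ := hL
  have ha : Pi.lift (fun n => a ≫ Pi.π K n) = a := by
    apply Pi.hom_ext
    intro n
    exact Pi.lift_π _ _
  have hL' : CohCx.IsRlimVia K t L (fun n => a ≫ Pi.π K n) := ⟨c, by rw [ha]; exact hc⟩
  haveI := isIso_φ K t L _ hL' B hB h1 h2 q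
  exact ⟨asIso (φ K t L _ hL' q)⟩

end Groth.Agent.Lib.Helper8.RlimHD
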