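import Groth.Prelude.Def_CohCx
import Groth.Prelude.Def_CohTop
import Groth.Agent.Lib.Helper8.RlimSectInj
import Mathlib.Topology.Sheaves.Stalks

/-!
# Helper8: injectivity on stalks of `H^m(L) → H^m(K_n)` for a derived limit (S0874)
-/

universe u

open CategoryTheory CategoryTheory.Limits Opposite Pretriangulated TopologicalSpace

namespace Groth.Agent.Lib.Helper8.RlimStalkInj

open Groth.Agent.Lib.Helper8 DSingleHom SheafifyHDU RlimSectInj

variable {X : TopCat.{u}} [HasDerivedCategory.{u} (CohTop.Ab X)]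
  (K : ℕ → DerivedCategory (CohTop.Ab X)) (t : ∀ n, K (n + 1) ⟶ K n) [HasProduct K]
  (L : DerivedCategory (CohTop.Ab X)) (a : ∀ n, L ⟶ K n)

theorem main (hL : CohCx.IsRlimVia K t L a)
    (x : X) (m : ℤ) (nx : ℕ)
    (h : ∀ V : Opens X, x ∈ V → ∃ U : Opens X, x ∈ U ∧ U ≤ V ∧
      CohCx.LimOneIsZero (fun n => CohCx.HDU (K n) (m - 1) U)
        (fun n => Preadditive.rightComp _ ((shiftFunctor _ (m - 1)).map (t n))) ∧
      ∀ k : ℕ, Function.Injective
        (Preadditive.rightComp _ ((shiftFunctor _ m).map (CohCx.transition K t nx k)) :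
          CohCx.HDU (K (nx + k)) m U → CohCx.HDU (K nx) m U)) :
    Function.Injective ((TopCat.Presheaf.stalkFunctor AddCommGrpCat.{u} x).map
      ((DerivedCategory.homologyFunctor (CohTop.Ab X) m).map (a nx)).hom) := by
  let F : TopCat.Presheaf AddCommGrpCat.{u} X := (CohCx.HD L m).obj
  let G : TopCat.Presheaf AddCommGrpCat.{u} X := (CohCx.HD (K nx) m).obj
  let φ : F ⟶ G := ((DerivedCategory.homologyFunctor (CohTop.Ab X) m).map (a nx)).hom
  change Function.Injective ((TopCat.Presheaf.stalkFunctor AddCommGrpCat.{u} x).map φ).hom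
  rw [injective_iff_map_eq_zero]
  intro σ hσ
  obtain ⟨V, hxV, s, rfl⟩ := TopCat.Presheaf.exists_germ_eq F σ
  have h1 : (G.germ V x hxV).hom ((φ.app (op V)).hom s) = (G.germ V x hxV).hom 0 := by
    rw [map_zero]
    exact (TopCat.Presheaf.stalkFunctor_map_germ_apply V x hxV φ s).symm.trans hσ
  obtain ⟨V₁, hxV₁, i₁, i₂, h2⟩ := TopCat.Presheaf.germ_eq G x hxV hxV _ _ h1
  -- replace `s` by its restriction to `V₁`
  let s₁ := (F.map i₁.op).hom s
  have hs₁ : (φ.app (op V₁)).hom s₁ = 0 := by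
    have nat := ConcreteCategory.congr_hom (φ.naturality i₁.op) s
    have nat' : (φ.app (op V₁)).hom ((F.map i₁.op).hom s) =
        (G.map i₁.op).hom ((φ.app (op V)).hom s) := nat
    rw [nat']
    have h2' : (G.map i₁.op).hom ((φ.app (op V)).hom s) = (G.map i₂.op).hom 0 := h2
    rw [h2', map_zero]
  have hgerm : (F.germ V x hxV).hom s = (F.germ V₁ x hxV₁).hom s₁ :=
    (TopCat.Presheaf.germ_res_apply F i₁ x hxV₁ s).symm
  change (F.germ V x hxV).hom s = 0
  rw [hgerm]
  -- local surjectivity of `α`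
  have hsurj := Presheaf.imageSieve_mem (Opens.grothendieckTopology X) (α L m) s₁
  obtain ⟨W, j, ⟨ψ, hψ⟩, hxW⟩ := hsurj x hxV₁
  have hψ' : αU L m W ψ = (F.map j.op).hom s₁ := hψ
  have h3 : αU (K nx) m W (ψ ≫ (a nx)⟦m⟧') = 0 := by
    rw [αU_natural, hψ']
    have nat := ConcreteCategory.congr_hom (φ.naturality j.op) s₁
    have nat' : (φ.app (op W)).hom ((F.map j.op).hom s₁) =
        (G.map j.op).hom ((φ.app (op V₁)).hom s₁) := nat
    change (φ.app (op W)).hom ((F.map j.op).hom s₁) = 0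
    rw [nat', hs₁, map_zero]
  obtain ⟨R, hR, hRf⟩ := locally_zero (K nx) m W _ h3
  obtain ⟨W', j', hj', hxW'⟩ := hR x hxW
  obtain ⟨U, hxU, hUW', hlim, hinj⟩ := h W' hxW'
  let k : U ⟶ W := homOfLE hUW' ≫ j'
  let ψU : CohCx.HDU L m U := CohCx.HDUres L m k ψ
  have hψU1 : αU L m U ψU = (F.map k.op).hom ((F.map j.op).hom s₁) := by
    rw [αU_res, hψ']
  have hψU2 : ψU ≫ (a nx)⟦m⟧' = 0 := by
    have := hRf k (R.downward_closed hj' (homOfLE hUW'))
    change _ ≫ (ψ ≫ _) = 0 at this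
    change (_ ≫ ψ) ≫ _ = 0
    rw [Category.assoc]
    exact this
  have hall := vanish_all K t L a hL m nx hinj ψU hψU2
  obtain ⟨c, hc⟩ := hL
  have hψ0 : ψU = 0 := MilnorTri.eq_zero K t L a c hc m (m - 1) (by omega) hlim ψU hall
  have hz : (F.map k.op).hom ((F.map j.op).hom s₁) = 0 := by
    rw [← hψU1, hψ0, map_zero]
  have e1 : (F.germ V₁ x hxV₁).hom s₁ = (F.germ W x hxW).hom ((F.map j.op).hom s₁) :=
    (TopCat.Presheaf.germ_res_apply F j x hxW s₁).symm
  have e2 : (F.germ W x hxW).hom ((F.map j.op).hom s₁) =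
      (F.germ U x hxU).hom ((F.map k.op).hom ((F.map j.op).hom s₁)) :=
    (TopCat.Presheaf.germ_res_apply F k x hxU _).symm
  rw [e1, e2, hz, map_zero]

end Groth.Agent.Lib.Helper8.RlimStalkInj
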