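import Groth.Prelude.Def_CohCx
import Groth.Prelude.Def_CohTop
import Groth.Agent.Lib.Helper8.RlimTrC
import Groth.Agent.Lib.Helper8.RlimStalkInj
import Mathlib.Topology.Sheaves.Stalks

/-!
# Helper8 — `E = R lim τ_{≥ -n} E` on a space under pointwise bounded vanishing (S0875)
-/

universe u

open CategoryTheory CategoryTheory.Limits Pretriangulated DerivedCategory Opposite TopologicalSpace

namespace Groth.Agent.Lib.Helper8.RlimTrE

open Groth.Agent.Lib.Helper8.DTrunc Groth.Agent.Lib.Helper8.RlimTrA Groth.Agent.Lib.Helper8.RlimTrB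
  Groth.Agent.Lib.Helper8.RlimTrC

variable {X : TopCat.{u}} [HasDerivedCategory.{u} (CohTop.Ab X)]

theorem main (E : DerivedCategory (CohTop.Ab X)) [HasProduct (CohCx.truncTower E)]
    (h : ∀ x : X, ∃ p : ℤ → ℤ, ∀ V : Opens X, x ∈ V → ∃ U : Opens X, x ∈ U ∧ U ≤ V ∧
      ∀ (m : ℤ) (k : ℕ), p m < k → Subsingleton (CohTop.HU (CohCx.HD E (m - k)) k U)) :
    CohCx.IsRlimVia (CohCx.truncTower E) (CohCx.truncTowerMap E) E (CohCx.toTruncTower E) := by
  apply isRlimVia_of_mono
  intro L a hL m
  have hn₀ : -(((-m).toNat : ℕ) : ℤ) ≤ m := by omega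
  refine ⟨(-m).toNat, hn₀, ?_⟩
  generalize (-m).toNat = n₀ at hn₀
  apply Sheaf.mono_of_injective
  intro W
  apply TopCat.Presheaf.app_injective_of_stalkFunctor_map_injective
    (F := (homologyFunctor (CohTop.Ab X) m).obj L)
    ((homologyFunctor (CohTop.Ab X) m).map (a n₀)).hom W.unop
  intro x _
  obtain ⟨p, hp⟩ := h x
  have hinj := RlimStalkInj.main (CohCx.truncTower E) (CohCx.truncTowerMap E) L a hL x m
    (n₀ + (p m - m).toNat) (fun V hxV => by
      obtain ⟨U, hxU, hUV, hvan⟩ := hp V hxV
      refine ⟨U, hxU, hUV, ?_⟩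
      have := tower E (CohCx.freeSheaf (Opens.grothendieckTopology X) U) m (p m - m).toNat
        (fun n hn k hk => hvan m k (by omega))
      exact ⟨this.1, this.2 _ (by omega)⟩)
  have hfac := RlimSectInj.a_transition (CohCx.truncTower E) (CohCx.truncTowerMap E) L a hL n₀
    (p m - m).toNat
  have hiso : ∀ k : ℕ, IsIso ((homologyFunctor _ m).map
      (CohCx.transition (CohCx.truncTower E) (CohCx.truncTowerMap E) n₀ k)) := by
    intro k
    induction k with
    | zero =>
      change IsIso ((homologyFunctor _ m).map (𝟙 _))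
      infer_instance
    | succ k ih =>
      change IsIso ((homologyFunctor _ m).map (CohCx.truncTowerMap E (n₀ + k) ≫
        CohCx.transition (CohCx.truncTower E) (CohCx.truncTowerMap E) n₀ k))
      rw [Functor.map_comp]
      haveI := isIso_H_truncTowerMap E (n₀ + k) m (by push_cast; omega)
      infer_instance
  have hiso' := hiso (p m - m).toNat
  rw [← hfac, Functor.map_comp]
  have hiso'' : IsIso ((TopCat.Presheaf.stalkFunctor AddCommGrpCat.{u} x).map
      ((homologyFunctor (CohTop.Ab X) m).map
        (CohCx.transition (CohCx.truncTower E) (CohCx.truncTowerMap E) n₀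
          (p m - m).toNat)).hom) := by
    have h1 : IsIso ((sheafToPresheaf _ _).map ((homologyFunctor (CohTop.Ab X) m).map
        (CohCx.transition (CohCx.truncTower E) (CohCx.truncTowerMap E) n₀
          (p m - m).toNat))) := inferInstance
    exact Functor.map_isIso (TopCat.Presheaf.stalkFunctor AddCommGrpCat.{u} x)
      ((sheafToPresheaf _ _).map ((homologyFunctor (CohTop.Ab X) m).map
        (CohCx.transition (CohCx.truncTower E) (CohCx.truncTowerMap E) n₀
          (p m - m).toNat)))
  have hcomp : (TopCat.Presheaf.stalkFunctor AddCommGrpCat.{u} x).map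
      ((homologyFunctor (CohTop.Ab X) m).map (a (n₀ + (p m - m).toNat)) ≫
        (homologyFunctor (CohTop.Ab X) m).map
          (CohCx.transition (CohCx.truncTower E) (CohCx.truncTowerMap E) n₀
            (p m - m).toNat)).hom =
      (TopCat.Presheaf.stalkFunctor AddCommGrpCat.{u} x).map
        ((homologyFunctor (CohTop.Ab X) m).map (a (n₀ + (p m - m).toNat))).hom ≫
      (TopCat.Presheaf.stalkFunctor AddCommGrpCat.{u} x).map
        ((homologyFunctor (CohTop.Ab X) m).map
          (CohCx.transition (CohCx.truncTower E) (CohCx.truncTowerMap E) n₀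
            (p m - m).toNat)).hom :=
    (TopCat.Presheaf.stalkFunctor AddCommGrpCat.{u} x).map_comp _ _
  rw [hcomp]
  intro y z hyz
  apply hinj
  exact (ConcreteCategory.bijective_of_isIso _).1 hyz

end Groth.Agent.Lib.Helper8.RlimTrE
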