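import Groth.Agent.Lib.Helper1.RestrFree

/-!
# Helper8: restriction of local homomorphisms on a ringed site and local lifting (S9046)
-/

set_option autoImplicit false
universe u
open CategoryTheory CategoryTheory.Limits Opposite

namespace Groth.Agent.Lib.Helper8.SPLift1

open Groth.Agent.Lib.Helper1.RestrExact Groth.Agent.Lib.Helper1.FinFreeSections
  Groth.Agent.Lib.Helper1.LazardB Groth.Agent.Lib.Helper1.PresRestrict
  Groth.Agent.Lib.Helper1.OverMapExact Groth.Agent.Lib.Helper1.RestrFree

variable {C : Type u} [SmallCategory C] {J : GrothendieckTopology C}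
  (O : Sheaf J CommRingCat.{u})

/-- restriction of a local homomorphism along `q : W' ⟶ W` -/
noncomputable def res {W W' : C} (q : W' ⟶ W) {M N : ModSite.Mod O}
    (φ : (ModSite.restr O W).obj M ⟶ (ModSite.restr O W).obj N) :
    (ModSite.restr O W').obj M ⟶ (ModSite.restr O W').obj N :=
  (θ O q M).inv ≫ (om O q).map φ ≫ (θ O q N).hom

variable {W W' : C} (q : W' ⟶ W) {M N P : ModSite.Mod O}

lemma res_comp (φ : (ModSite.restr O W).obj M ⟶ (ModSite.restr O W).obj N)
    (ψ : (ModSite.restr O W).obj N ⟶ (ModSite.restr O W).obj P) :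
    res O q (φ ≫ ψ) = res O q φ ≫ res O q ψ := by
  simp only [res, Functor.map_comp, Category.assoc, Iso.hom_inv_id_assoc]

lemma res_map (f : M ⟶ N) :
    res O q ((ModSite.restr O W).map f) = (ModSite.restr O W').map f := by
  unfold res
  rw [θ_nat, Iso.inv_hom_id_assoc]

lemma res_add (φ ψ : (ModSite.restr O W).obj M ⟶ (ModSite.restr O W).obj N) :
    res O q (φ + ψ) = res O q φ + res O q ψ := by
  simp only [res, Functor.map_add, Preadditive.add_comp, Preadditive.comp_add]

lemma res_sub (φ ψ : (ModSite.restr O W).obj M ⟶ (ModSite.restr O W).obj N) :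
    res O q (φ - ψ) = res O q φ - res O q ψ := by
  simp only [res, Functor.map_sub, Preadditive.sub_comp, Preadditive.comp_sub]

lemma res_zero :
    res O q (0 : (ModSite.restr O W).obj M ⟶ (ModSite.restr O W).obj N) = 0 := by
  simp only [res, Functor.map_zero, zero_comp, comp_zero]

/-- on sections over the final object of `C/W'` -/
lemma res_app (φ : (ModSite.restr O W).obj M ⟶ (ModSite.restr O W).obj N)
    (x : M.val.obj (op W')) :
    (res O q φ).val.app (op (top W')) x = φ.val.app (op (Q q)) x := rfl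


open Groth.Agent.Lib.Helper1 in
/-- local exactness on sections -/
theorem exact_local {X Y Z : ModSite.Mod O} (u : X ⟶ Y) (v : Y ⟶ Z) (w : u ≫ v = 0)
    (hex : (ShortComplex.mk u v w).Exact) {U : C} (s : Y.val.obj (op U))
    (hs : v.val.app (op U) s = 0) :
    ∃ T ∈ J U, ∀ ⦃V : C⦄ (g : V ⟶ U), T g →
      ∃ t : X.val.obj (op V), u.val.app (op V) t = Y.val.map g.op s := by
  have : Epi (kernel.lift v u w) := by
    have := (ShortComplex.exact_iff_epi_kernel_lift (ShortComplex.mk u v w)).1 hex
    exact this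
  let σ : ModSite.freeOn O U ⟶ Y := FreeOnMap.ofSec O s
  have hσ : σ ≫ v = 0 := by
    apply (ModSiteFree.homEquiv O U Z).injective
    rw [ModSiteFree.homEquiv_comp, Equiv.apply_symm_apply, hs, FreeOnMap.homEquiv_eq]
    rfl
  let σ' : ModSite.freeOn O U ⟶ kernel v := kernel.lift v σ hσ
  let s' : (kernel v).val.obj (op U) := ModSiteFree.homEquiv O U _ σ'
  have hs' : (kernel.ι v).val.app (op U) s' = s := by
    have h1 := ModSiteFree.homEquiv_comp O U σ' (kernel.ι v)
    rw [kernel.lift_ι] at h1
    rw [← h1]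
    exact Equiv.apply_symm_apply _ _
  obtain ⟨T, hT, hlift⟩ := FreeOnMap.exists_local_lift O (kernel.lift v u w) s'
  refine ⟨T, hT, fun V g hg => ?_⟩
  obtain ⟨t, ht⟩ := hlift g hg
  refine ⟨t, ?_⟩
  have h2 : u.val.app (op V) t =
      (kernel.ι v).val.app (op V) ((kernel.lift v u w).val.app (op V) t) := by
    have := congrArg (fun φ => φ.val.app (op V) t) (kernel.lift_ι v u w)
    exact this.symm
  rw [h2, ht, ← hs']
  exact PresheafOfModules.naturality_apply (kernel.ι v).val g.op s'


open Groth.Agent.Lib.Helper1 in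
/-- relative local lifting: a local homomorphism from a retract of a finite free module into the
middle term of an exact sequence, killed by the second map, lifts locally to the first term -/
theorem local_lift_rel {E₀ X Y Z : ModSite.Mod O} {I : Type u} [Fintype I]
    (i₀ : E₀ ⟶ SheafOfModules.free (R := ModSite.ringSh O) I)
    (r₀ : SheafOfModules.free (R := ModSite.ringSh O) I ⟶ E₀) (hir : i₀ ≫ r₀ = 𝟙 E₀)
    (u : X ⟶ Y) (v : Y ⟶ Z) (w : u ≫ v = 0) (hex : (ShortComplex.mk u v w).Exact)
    {W : C} (φ : (ModSite.restr O W).obj E₀ ⟶ (ModSite.restr O W).obj Y)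
    (hφ : φ ≫ (ModSite.restr O W).map v = 0) :
    ∃ T ∈ J W, ∀ ⦃W' : C⦄ (q : W' ⟶ W), T q →
      ∃ l : (ModSite.restr O W').obj E₀ ⟶ (ModSite.restr O W').obj X,
        l ≫ (ModSite.restr O W').map u = res O q φ := by
  classical
  let φ' : (ModSite.restr O W).obj (SheafOfModules.free (R := ModSite.ringSh O) I) ⟶
      (ModSite.restr O W).obj Y := (ModSite.restr O W).map r₀ ≫ φ
  let s : I → Y.val.obj (op W) := fun k =>
    φ'.val.app (op (top W)) (bas (R := ModSite.ringSh O) (X := W) I k)
  have hs : ∀ k, v.val.app (op W) (s k) = 0 := by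
    intro k
    have h0 : φ' ≫ (ModSite.restr O W).map v = 0 := by
      simp only [φ', Category.assoc, hφ, comp_zero]
    have := congrArg (fun ψ => ψ.val.app (op (top W))
      (bas (R := ModSite.ringSh O) (X := W) I k)) h0
    exact this
  have h1 := fun k => exact_local O u v w hex (s k) (hs k)
  choose S hS hlift using h1
  refine ⟨⨅ k, S k, TensorLoc.iInf_mem J S hS, ?_⟩
  intro W' q hq
  rw [TensorLoc.iInf_apply] at hq
  have h2 := fun k => hlift k q (hq k)
  choose t ht using h2
  let T : SheafOfModules.free (R := ModSite.ringSh (O.over W')) I ⟶ (ModSite.restr O W').obj X :=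
    ofVals (topIsTerminal W') ((ModSite.restr O W').obj X) t
  refine ⟨(ModSite.restr O W').map i₀ ≫ (εr O W' I).inv ≫ T, ?_⟩
  have hφ2 : res O q φ = (ModSite.restr O W').map i₀ ≫ res O q φ' := by
    rw [← res_map O q i₀, ← res_comp]
    congr 1
    simp only [φ']
    rw [← Category.assoc, ← CategoryTheory.Functor.map_comp, hir, CategoryTheory.Functor.map_id, Category.id_comp]
  rw [hφ2, Category.assoc, Category.assoc]
  congr 1
  rw [Iso.inv_comp_eq]
  apply free_hom_ext (topIsTerminal W')
  intro k
  rw [Functor.map_comp, Functor.map_comp]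
  show ((ModSite.restr O W').map u).val.app (op (top W'))
      (((Γ (ModSite.ringSh (O.over W')) (X := top W')).map T).hom
        (bas (R := ModSite.ringSh (O.over W')) (X := top W') I k)) =
    (res O q φ').val.app (op (top W'))
      ((εr O W' I).hom.val.app (op (top W')) (bas (R := ModSite.ringSh (O.over W')) (X := top W') I k))
  rw [ofVals_bas, εr_bas]
  refine (ht k).trans ?_
  have hq : 𝟙 W' ≫ q = q := Category.id_comp q
  have hnat := PresheafOfModules.naturality_apply φ'.val (toTop q).op
    (bas (R := ModSite.ringSh O) (X := W) I k)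
  have e1 : Y.val.map q.op (s k) = Y.val.map (𝟙 W' ≫ q).op (s k) := by rw [hq]
  have e2 : bas (R := ModSite.ringSh O) (X := W') I k =
      (SheafOfModules.free (R := ModSite.ringSh O) I).val.map (𝟙 W' ≫ q).op
        (bas (R := ModSite.ringSh O) (X := W) I k) := (map_bas O W' I (𝟙 W' ≫ q) k).symm
  rw [e1]
  show Y.val.map (𝟙 W' ≫ q).op (φ'.val.app (op (top W)) (bas (R := ModSite.ringSh O) (X := W) I k)) =
    φ'.val.app (op (Q q)) (bas (R := ModSite.ringSh O) (X := W') I k)
  rw [e2]
  exact hnat.symm

end Groth.Agent.Lib.Helper8.SPLift1
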