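import Groth.Agent.Lib.Helper8.SPLift1

/-!
# Helper8: a map from a strictly perfect complex to a complex which is exact in the relevant
degrees is locally null-homotopic (towards S9046)
-/

set_option autoImplicit false
universe u
open CategoryTheory CategoryTheory.Limits Opposite

namespace Groth.Agent.Lib.Helper8.SPLift2

open Groth.Agent.Lib.Helper8.SPLift1 Groth.Agent.Lib.Helper1.RestrExact

variable {C : Type u} [SmallCategory C] {J : GrothendieckTopology C}
  (O : Sheaf J CommRingCat.{u})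
  (E Cx : CochainComplex (ModSite.Mod O) ℤ) (γ : E ⟶ Cx)

/-- the homotopy equation in degree `j + 1`, over `W` -/
def Eqn (W : C) (H : ∀ j : ℤ, (ModSite.restr O W).obj (E.X (j + 1)) ⟶ (ModSite.restr O W).obj (Cx.X j))
    (j : ℤ) : Prop :=
  (ModSite.restr O W).map (γ.f (j + 1)) =
    (ModSite.restr O W).map (E.d (j + 1) (j + 1 + 1)) ≫ H (j + 1) +
      H j ≫ (ModSite.restr O W).map (Cx.d j (j + 1))

/-- a partial homotopy down to degree `i` exists over `W` -/
def PH (i : ℤ) (W : C) : Prop :=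
  ∃ H : ∀ j : ℤ, (ModSite.restr O W).obj (E.X (j + 1)) ⟶ (ModSite.restr O W).obj (Cx.X j),
    ∀ j : ℤ, i ≤ j → Eqn O E Cx γ W H j

variable {O E Cx γ}

lemma eqn_of_isZero (W : C)
    (H : ∀ j : ℤ, (ModSite.restr O W).obj (E.X (j + 1)) ⟶ (ModSite.restr O W).obj (Cx.X j))
    (j : ℤ) (hz : IsZero (E.X (j + 1))) : Eqn O E Cx γ W H j := by
  have hz' : IsZero ((ModSite.restr O W).obj (E.X (j + 1))) :=
    (ModSite.restr O W).map_isZero hz
  exact hz'.eq_of_src _ _

variable (b : ℤ) (hEb : ∀ j : ℤ, b < j → IsZero (E.X j))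

include hEb in
lemma PH_base (W : C) : PH O E Cx γ b W :=
  ⟨fun _ => 0, fun j hj => eqn_of_isZero W _ j (hEb _ (by omega))⟩

variable (a : ℤ) (hEa : ∀ j : ℤ, j < a → IsZero (E.X j))
  (hfree : ∀ i : ℤ, DCoh.IsFinFreeSummandMod (ModSite.ringSh O) (E.X i))
  (hC : ∀ j : ℤ, a ≤ j → Cx.ExactAt j)

include hEa hfree hC in
lemma PH_step (i : ℤ) (W : C) (h : PH O E Cx γ (i + 1) W) :
    ∃ T ∈ J W, ∀ ⦃W' : C⦄ (q : W' ⟶ W), T q → PH O E Cx γ i W' := by
  obtain ⟨H, hH⟩ := h
  by_cases hia : a ≤ i + 1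
  · -- the obstruction
    let ψ : (ModSite.restr O W).obj (E.X (i + 1)) ⟶ (ModSite.restr O W).obj (Cx.X (i + 1)) :=
      (ModSite.restr O W).map (γ.f (i + 1)) -
        (ModSite.restr O W).map (E.d (i + 1) (i + 1 + 1)) ≫ H (i + 1)
    have hψ : ψ ≫ (ModSite.restr O W).map (Cx.d (i + 1) (i + 1 + 1)) = 0 := by
      have e := hH (i + 1) le_rfl
      unfold Eqn at e
      have e' : H (i + 1) ≫ (ModSite.restr O W).map (Cx.d (i + 1) (i + 1 + 1)) =
          (ModSite.restr O W).map (γ.f (i + 1 + 1)) -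
            (ModSite.restr O W).map (E.d (i + 1 + 1) (i + 1 + 1 + 1)) ≫ H (i + 1 + 1) := by
        rw [e]
        abel
      simp only [ψ, Preadditive.sub_comp, Category.assoc]
      rw [e', Preadditive.comp_sub, ← CategoryTheory.Functor.map_comp,
        ← CategoryTheory.Functor.map_comp, ← Category.assoc, ← CategoryTheory.Functor.map_comp,
        E.d_comp_d, CategoryTheory.Functor.map_zero, zero_comp, sub_zero, γ.comm, sub_self]
    obtain ⟨n, i₀, r₀, hir⟩ := hfree (i + 1)
    have hex : (ShortComplex.mk (Cx.d i (i + 1)) (Cx.d (i + 1) (i + 1 + 1))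
        (Cx.d_comp_d _ _ _)).Exact := by
      have := (HomologicalComplex.exactAt_iff' Cx i (i + 1) (i + 1 + 1) (by simp) (by simp)).1
        (hC (i + 1) hia)
      exact this
    obtain ⟨T, hT, hl⟩ := local_lift_rel O i₀ r₀ hir (Cx.d i (i + 1)) (Cx.d (i + 1) (i + 1 + 1))
      (Cx.d_comp_d _ _ _) hex ψ hψ
    refine ⟨T, hT, fun W' q hq => ?_⟩
    obtain ⟨l, hl'⟩ := hl q hq
    refine ⟨Function.update (fun j => res O q (H j)) i l, fun j hj => ?_⟩
    unfold Eqn
    by_cases hji : j = i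
    · subst hji
      rw [Function.update_self, Function.update_of_ne (by omega), hl']
      simp only [ψ]
      rw [res_sub, res_map, res_comp, res_map]
      abel
    · have e := congrArg (res O q) (hH j (by omega))
      rw [res_map, res_add, res_comp, res_comp, res_map, res_map] at e
      rw [Function.update_of_ne (by omega), Function.update_of_ne hji]
      exact e
  · refine ⟨⊤, J.top_mem W, fun W' q _ => ?_⟩
    refine ⟨fun j => res O q (H j), fun j hj => ?_⟩
    by_cases hji : j = i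
    · subst hji
      exact eqn_of_isZero W' _ j (hEa _ (by omega))
    · have e := congrArg (res O q) (hH j (by omega))
      unfold Eqn
      rw [res_map, res_add, res_comp, res_comp, res_map, res_map] at e
      exact e

include hEa hEb hfree hC in
lemma PH_all (n : ℕ) (V : C) :
    ∃ R ∈ J V, ∀ ⦃W : C⦄ (g : W ⟶ V), R g → PH O E Cx γ (b - n) W := by
  induction n generalizing V with
  | zero =>
    refine ⟨⊤, J.top_mem V, fun W g _ => ?_⟩
    simpa using PH_base b hEb W
  | succ n ih =>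
    obtain ⟨R, hR, hRg⟩ := ih V
    have hstep : ∀ ⦃W : C⦄ (g : W ⟶ V) (hg : R g), ∃ T ∈ J W,
        ∀ ⦃W' : C⦄ (q : W' ⟶ W), T q → PH O E Cx γ (b - (n + 1 : ℕ)) W' := by
      intro W g hg
      have h1 : PH O E Cx γ (b - (n + 1 : ℕ) + 1) W := by
        have : b - ((n + 1 : ℕ) : ℤ) + 1 = b - n := by push_cast; ring
        rw [this]
        exact hRg g hg
      exact PH_step a hEa hfree hC _ W h1
    choose T hT hTq using hstep
    refine ⟨Sieve.bind R (fun W g hg => T g hg), J.bind_covering hR (fun W g hg => hT g hg), ?_⟩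
    rintro W' f ⟨W, q, g, hg, hq, rfl⟩
    exact hTq g hg q hq

end Groth.Agent.Lib.Helper8.SPLift2
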