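import Groth.Agent.Lib.Helper8.SPLift2
import Mathlib.Algebra.Homology.HomotopyCategory.HomologicalFunctor
import Mathlib.Algebra.Homology.HomotopyCategory.ShiftSequence

/-!
# Helper8: local lifting up to homotopy from strictly perfect complexes (S9046)
-/

set_option autoImplicit false
universe u
open CategoryTheory CategoryTheory.Limits Opposite

namespace Groth.Agent.Lib.Helper8.SPLift3

section Cone

variable {A : Type*} [Category A] [Abelian A] {G F : CochainComplex A ℤ} (f : G ⟶ F)

open CategoryTheory.Pretriangulated in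
/-- exactness of the mapping cone in a degree from the behaviour on cohomology -/
lemma exactAt_mappingCone (j : ℤ) (hepi : Epi (HomologicalComplex.homologyMap f j))
    (hmono : Mono (HomologicalComplex.homologyMap f (j + 1))) :
    (CochainComplex.mappingCone f).ExactAt j := by
  let H₀ := HomotopyCategory.homologyFunctor A (ComplexShape.up ℤ) 0
  let T := CochainComplex.mappingCone.triangleh f
  have hT : T ∈ distTriang _ := HomotopyCategory.mappingCone_triangleh_distinguished f
  let eG : ∀ n : ℤ, (H₀.shift n).obj T.obj₁ ≅ G.homology n := fun n =>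
    (HomotopyCategory.homologyFunctorFactors A (ComplexShape.up ℤ) n).app G
  let eF : ∀ n : ℤ, (H₀.shift n).obj T.obj₂ ≅ F.homology n := fun n =>
    (HomotopyCategory.homologyFunctorFactors A (ComplexShape.up ℤ) n).app F
  have h2 : ∀ n : ℤ, (H₀.shift n).map T.mor₁ ≫ (eF n).hom =
      (eG n).hom ≫ HomologicalComplex.homologyMap f n := fun n =>
    (HomotopyCategory.homologyFunctorFactors A (ComplexShape.up ℤ) n).hom.naturality f
  have key : ∀ n : ℤ, (H₀.shift n).map T.mor₁ =
      (eG n).hom ≫ HomologicalComplex.homologyMap f n ≫ (eF n).inv := by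
    intro n
    rw [← Category.assoc, ← h2, Category.assoc, Iso.hom_inv_id, Category.comp_id]
  have e1 : Epi ((H₀.shift j).map T.mor₁) := by
    rw [key]
    have := hepi
    have : Epi (HomologicalComplex.homologyMap f j ≫ (eF j).inv) := epi_comp _ _
    exact epi_comp _ _
  have e2 : Mono ((H₀.shift (j + 1)).map T.mor₁) := by
    rw [key]
    have := hmono
    have : Mono (HomologicalComplex.homologyMap f (j + 1) ≫ (eF (j + 1)).inv) := mono_comp _ _
    exact mono_comp _ _
  have z1 := (H₀.homologySequence_epi_shift_map_mor₁_iff T hT j).1 e1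
  have z2 := (H₀.homologySequence_mono_shift_map_mor₁_iff T hT j (j + 1) rfl).1 e2
  have hex := H₀.homologySequence_exact₃ T hT j (j + 1) rfl
  have hz : IsZero ((H₀.shift j).obj T.obj₃) := by
    have h3 : Epi ((H₀.shift j).map T.mor₂) := hex.epi_f_iff.2 z2
    exact IsZero.of_epi_eq_zero _ z1
  rw [HomologicalComplex.exactAt_iff_isZero_homology]
  exact IsZero.of_iso hz
    ((HomotopyCategory.homologyFunctorFactors A (ComplexShape.up ℤ) j).app
      (CochainComplex.mappingCone f)).symm

open CategoryTheory.Pretriangulated in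
/-- a map whose composite to the mapping cone is null-homotopic lifts up to homotopy -/
lemma exists_lift_of_nullHomotopic {E : CochainComplex A ℤ} (α : E ⟶ F)
    (h : Homotopy (α ≫ CochainComplex.mappingCone.inr f) 0) :
    ∃ β : E ⟶ G, Nonempty (Homotopy (β ≫ f) α) := by
  let T := CochainComplex.mappingCone.triangleh f
  have hT : T ∈ distTriang _ := HomotopyCategory.mappingCone_triangleh_distinguished f
  have h0 : (HomotopyCategory.quotient A (ComplexShape.up ℤ)).map α ≫ T.mor₂ = 0 := by
    have := HomotopyCategory.eq_of_homotopy _ _ h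
    rw [Functor.map_comp, Functor.map_zero] at this
    exact this
  obtain ⟨g, hg⟩ := Triangle.coyoneda_exact₂ T hT _ h0
  obtain ⟨β, rfl⟩ := (HomotopyCategory.quotient A (ComplexShape.up ℤ)).map_surjective g
  refine ⟨β, ⟨HomotopyCategory.homotopyOfEq _ _ ?_⟩⟩
  rw [Functor.map_comp]
  exact hg.symm

end Cone

section Main

open Groth.Agent.Lib.Helper8.SPLift1 Groth.Agent.Lib.Helper8.SPLift2
  Groth.Agent.Lib.Helper1.RestrExact

variable {C : Type u} [SmallCategory C] {J : GrothendieckTopology C}
  (O : Sheaf J CommRingCat.{u})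

/-- the restriction functor on complexes -/
noncomputable abbrev RW (W : C) : CochainComplex (ModSite.Mod O) ℤ ⥤
    CochainComplex (ModSite.Mod (O.over W)) ℤ :=
  (ModSite.restr O W).mapHomologicalComplex (ComplexShape.up ℤ)

variable {O}

/-- a homotopy from a family satisfying the homotopy equations -/
lemma homotopy_of_eqn {E Cx : CochainComplex (ModSite.Mod O) ℤ} (γ : E ⟶ Cx) (W : C)
    (H : ∀ j : ℤ, (ModSite.restr O W).obj (E.X (j + 1)) ⟶ (ModSite.restr O W).obj (Cx.X j))
    (hH : ∀ j : ℤ, Eqn O E Cx γ W H j) :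
    Nonempty (Homotopy ((RW O W).map γ) 0) := by
  let h : ∀ i j : ℤ, (ComplexShape.up ℤ).Rel j i →
      (((RW O W).obj E).X i ⟶ ((RW O W).obj Cx).X j) := fun i j r => by
    have r' : j + 1 = i := r
    subst r'
    exact H j
  have heq : (RW O W).map γ = Homotopy.nullHomotopicMap' h := by
    refine HomologicalComplex.hom_ext _ _ (fun n => ?_)
    obtain ⟨m, rfl⟩ : ∃ m : ℤ, n = m + 1 := ⟨n - 1, by omega⟩
    rw [Homotopy.nullHomotopicMap'_f (k₂ := m) (k₁ := m + 1) (k₀ := m + 1 + 1) rfl rfl h]
    exact hH m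
  exact ⟨(Homotopy.ofEq heq).trans (Homotopy.nullHomotopy' h)⟩

/-- a map from a strictly perfect complex (zero below `a`) to a complex which is exact in degrees
`≥ a` is locally null-homotopic -/
theorem local_null {E Cx : CochainComplex (ModSite.Mod O) ℤ} (γ : E ⟶ Cx)
    (hE : DCoh.IsStrictlyPerfectMod (ModSite.ringSh O) E) (a : ℤ)
    (hEa : ∀ j : ℤ, j < a → IsZero (E.X j)) (hC : ∀ j : ℤ, a ≤ j → Cx.ExactAt j) (V : C) :
    ∃ R ∈ J V, ∀ ⦃W : C⦄ (g : W ⟶ V), R g → Nonempty (Homotopy ((RW O W).map γ) 0) := by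
  obtain ⟨⟨a', b, hab⟩, hfree⟩ := hE
  have hEb : ∀ j : ℤ, b < j → IsZero (E.X j) := fun j hj => hab j (Or.inr hj)
  obtain ⟨R, hR, hRg⟩ := PH_all (γ := γ) b hEb a hEa hfree hC (b - a + 1).toNat V
  refine ⟨R, hR, fun W g hg => ?_⟩
  obtain ⟨H, hH⟩ := hRg g hg
  apply homotopy_of_eqn γ W H
  intro j
  by_cases hj : b - ((b - a + 1).toNat : ℤ) ≤ j
  · exact hH j hj
  · apply eqn_of_isZero
    apply hEa
    have := Int.self_le_toNat (b - a + 1)
    omega

/-- S9046 -/
theorem main (E F G : CochainComplex (ModSite.Mod O) ℤ) (α : E ⟶ F) (f : G ⟶ F)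
    (hE : DCoh.IsStrictlyPerfectMod (ModSite.ringSh O) E) (a : ℤ)
    (hEa : ∀ j : ℤ, j < a → IsZero (E.X j))
    (hiso : ∀ j : ℤ, a < j → IsIso (HomologicalComplex.homologyMap f j))
    (hepi : Epi (HomologicalComplex.homologyMap f a)) (V : C) :
    ∃ R ∈ J V, ∀ ⦃W : C⦄ (g : W ⟶ V), R g →
      ∃ β : (RW O W).obj E ⟶ (RW O W).obj G,
        Nonempty (Homotopy (β ≫ (RW O W).map f) ((RW O W).map α)) := by
  have hC : ∀ j : ℤ, a ≤ j → (CochainComplex.mappingCone f).ExactAt j := by
    intro j hj
    apply exactAt_mappingCone f j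
    · rcases hj.eq_or_lt with rfl | hlt
      · exact hepi
      · have := hiso j hlt
        infer_instance
    · have := hiso (j + 1) (by omega)
      infer_instance
  obtain ⟨R, hR, hRg⟩ := local_null (α ≫ CochainComplex.mappingCone.inr f) hE a hEa hC V
  refine ⟨R, hR, fun W g hg => ?_⟩
  obtain ⟨h⟩ := hRg g hg
  apply exists_lift_of_nullHomotopic ((RW O W).map f) ((RW O W).map α)
  have e1 : (RW O W).map α ≫ CochainComplex.mappingCone.inr ((RW O W).map f) =
      (RW O W).map (α ≫ CochainComplex.mappingCone.inr f) ≫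
        (CochainComplex.mappingCone.mapHomologicalComplexIso f (ModSite.restr O W)).hom := by
    rw [Functor.map_comp, Category.assoc, CochainComplex.mappingCone.map_inr]
  have h' := h.compRight
    (CochainComplex.mappingCone.mapHomologicalComplexIso f (ModSite.restr O W)).hom
  rw [zero_comp, ← e1] at h'
  exact h'

end Main

end Groth.Agent.Lib.Helper8.SPLift3
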