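import Groth.Agent.Lib.Helper8.SPLift3
import Mathlib.Algebra.Homology.DerivedCategory.Fractions
import Mathlib.Algebra.Homology.DerivedCategory.ExactFunctor

/-!
# Helper8: morphisms in `D(O)` from a strictly perfect complex are locally chain maps (S9053)
-/

set_option autoImplicit false
universe u
open CategoryTheory CategoryTheory.Limits Opposite

namespace Groth.Agent.Lib.Helper8.SPLift4

open Groth.Agent.Lib.Helper8.SPLift3

variable {C : Type u} [SmallCategory C] {J : GrothendieckTopology C} (O : Sheaf J CommRingCat.{u})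
  [HasDerivedCategory.{u} (ModSite.Mod O)] [∀ W : C, HasDerivedCategory.{u} (ModSite.Mod (O.over W))]
  [∀ W : C, (ModSite.restr O W).Additive] [∀ W : C, PreservesFiniteColimits (ModSite.restr O W)]

theorem main
    (E F : CochainComplex (ModSite.Mod O) ℤ) (hE : DCoh.IsStrictlyPerfectMod (ModSite.ringSh O) E)
    (α : DerivedCategory.Q.obj E ⟶ DerivedCategory.Q.obj F) (V : C) :
    ∃ R ∈ J V, ∀ ⦃W : C⦄ (g : W ⟶ V), R g →
      ∃ α' : ((ModSite.restr O W).mapHomologicalComplex (ComplexShape.up ℤ)).obj E ⟶
          ((ModSite.restr O W).mapHomologicalComplex (ComplexShape.up ℤ)).obj F,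
        (ModSite.restr O W).mapDerivedCategory.map α =
          (ModSite.restr O W).mapDerivedCategoryFactors.hom.app E ≫ DerivedCategory.Q.map α' ≫
            (ModSite.restr O W).mapDerivedCategoryFactors.inv.app F := by
  obtain ⟨F', a, s, hs, hα⟩ := DerivedCategory.left_fac α
  have hqi : QuasiIso s := (DerivedCategory.isIso_Q_map_iff_quasiIso _ s).1 hs
  have hiso' : ∀ j : ℤ, IsIso (HomologicalComplex.homologyMap s j) := fun j =>
    (quasiIsoAt_iff_isIso_homologyMap s j).1 (hqi.quasiIsoAt j)
  obtain ⟨a₀, b₀, hab⟩ := hE.1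
  have hEa : ∀ j : ℤ, j < a₀ → IsZero (E.X j) := fun j hj => hab j (Or.inl hj)
  obtain ⟨R, hR, hRg⟩ := SPLift3.main (O := O) E F' F a s hE a₀ hEa
    (fun j _ => hiso' j) (by have := hiso' a₀; infer_instance) V
  refine ⟨R, hR, fun W g hg => ?_⟩
  obtain ⟨β, ⟨h⟩⟩ := hRg g hg
  refine ⟨β, ?_⟩
  have hαs : α ≫ DerivedCategory.Q.map s = DerivedCategory.Q.map a := by
    rw [hα, Category.assoc, IsIso.inv_hom_id, Category.comp_id]
  have hiso : IsIso ((ModSite.restr O W).mapDerivedCategory.map (DerivedCategory.Q.map s)) :=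
    inferInstance
  rw [← cancel_mono ((ModSite.restr O W).mapDerivedCategory.map (DerivedCategory.Q.map s)),
    ← Functor.map_comp, hαs]
  have n1 := (ModSite.restr O W).mapDerivedCategoryFactors.hom.naturality a
  have n2 := (ModSite.restr O W).mapDerivedCategoryFactors.hom.naturality s
  simp only [Functor.comp_map] at n1 n2
  have hQ := DerivedCategory.Q_map_eq_of_homotopy _ h
  rw [Functor.map_comp] at hQ
  rw [Category.assoc, Category.assoc,
    ← cancel_mono ((ModSite.restr O W).mapDerivedCategoryFactors.hom.app F'), n1,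
    Category.assoc, Category.assoc, Category.assoc, n2, Iso.inv_hom_id_app_assoc, ← hQ]

end Groth.Agent.Lib.Helper8.SPLift4
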