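import Mathlib

/-!
# Localization of derived categories along a Serre quotient with a section

If `F : A ⥤ B` is an exact localization functor at `P.isoModSerre` with a left adjoint whose
unit is an isomorphism, then `F.mapDerivedCategory` is a localization at `trW D_P`.
-/

open CategoryTheory Limits Category

namespace Groth.Agent.Lib.Helper8.SecLoc

universe w w' v v' u u'

set_option linter.style.haveILetI false

section Adj

variable {ι : Type*} {V W : Type*} [Category V] [Category W] [Preadditive V] [Preadditive W]
  {G : V ⥤ W} {F : W ⥤ V} [G.Additive] [F.Additive]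

/-- An adjunction between additive functors induces an adjunction on homological complexes. -/
def mapAdj (adj : G ⊣ F) (c : ComplexShape ι) :
    G.mapHomologicalComplex c ⊣ F.mapHomologicalComplex c where
  unit :=
    { app := fun K =>
        { f := fun n => adj.unit.app (K.X n)
          comm' := fun i j _ => by
            dsimp
            exact adj.unit_naturality (K.d i j) }
      naturality := fun K L f => by
        ext n
        dsimp
        exact (adj.unit_naturality (f.f n)).symm }
  counit :=
    { app := fun L =>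
        { f := fun n => adj.counit.app (L.X n)
          comm' := fun i j _ => by
            dsimp
            exact (adj.counit_naturality (L.d i j)).symm }
      naturality := fun K L f => by
        ext n
        dsimp
        exact adj.counit_naturality (f.f n) }
  left_triangle_components K := by
    ext n
    dsimp
    exact adj.left_triangle_components (K.X n)
  right_triangle_components L := by
    ext n
    dsimp
    exact adj.right_triangle_components (L.X n)

lemma isIso_mapAdj_unit (adj : G ⊣ F) [IsIso adj.unit] (c : ComplexShape ι) :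
    IsIso (mapAdj adj c).unit := by
  haveI : ∀ K, IsIso ((mapAdj adj c).unit.app K) := fun K => by
    haveI : ∀ n, IsIso (((mapAdj adj c).unit.app K).f n) := fun n =>
      inferInstanceAs (IsIso (adj.unit.app (K.X n)))
    exact HomologicalComplex.Hom.isIso_of_components _
  exact NatIso.isIso_of_isIso_app _

end Adj

open DerivedCategory

variable {A : Type u} [Category.{v} A] [Abelian A] [HasDerivedCategory.{w} A]
  {B : Type u'} [Category.{v'} B] [Abelian B] [HasDerivedCategory.{w'} B]

lemma isZero_iff_homology (X : DerivedCategory A) :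
    IsZero X ↔ ∀ n : ℤ, IsZero ((homologyFunctor A n).obj X) := by
  constructor
  · intro h n
    exact (homologyFunctor A n).map_isZero h
  · intro h
    have : IsIso (0 : X ⟶ X) := by
      rw [DerivedCategory.isIso_iff]
      intro n
      rw [Functor.map_zero]
      exact (isIsoZero_iff_source_target_isZero _ _).2 ⟨h n, h n⟩
    exact ((isIsoZero_iff_source_target_isZero X X).1 this).1

lemma exists_arrow_iso {X Y : DerivedCategory A} (f : X ⟶ Y) :
    ∃ (K L : CochainComplex A ℤ) (g : K ⟶ L), Nonempty (Arrow.mk (Q.map g) ≅ Arrow.mk f) := by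
  let eX := Q.objObjPreimageIso X
  let eY := Q.objObjPreimageIso Y
  obtain ⟨X', s, hs, g, fac⟩ := DerivedCategory.right_fac (eX.hom ≫ f ≫ eY.inv)
  refine ⟨X', _, g, ⟨Arrow.isoMk (asIso (Q.map s) ≪≫ eX) eY ?_⟩⟩
  have h := congr(Q.map s ≫ $fac ≫ eY.hom)
  simp only [assoc, Iso.inv_hom_id, comp_id, IsIso.hom_inv_id_assoc] at h
  simpa using h

section Main

variable (P : ObjectProperty A) [P.IsSerreClass]
  (F : A ⥤ B) [F.IsLocalization P.isoModSerre] [F.Additive]
  [PreservesFiniteLimits F] [PreservesFiniteColimits F]

/-- the induced functor on cochain complexes -/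
abbrev Fc : CochainComplex A ℤ ⥤ CochainComplex B ℤ :=
  F.mapHomologicalComplex (ComplexShape.up ℤ)

/-- morphisms of complexes which become quasi-isomorphisms after applying `F` -/
abbrev W₃ : MorphismProperty (CochainComplex A ℤ) :=
  (HomologicalComplex.quasiIso B (ComplexShape.up ℤ)).inverseImage (Fc F)

lemma isZero_map_obj_Q_iff (K : CochainComplex A ℤ) :
    IsZero (F.mapDerivedCategory.obj (Q.obj K)) ↔ ∀ n : ℤ, P (K.homology n) := by
  have e1 : F.mapDerivedCategory.obj (Q.obj K) ≅ Q.obj ((Fc F).obj K) :=
    F.mapDerivedCategoryFactors.app K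
  have e2a : ∀ n : ℤ, (homologyFunctor B n).obj (Q.obj ((Fc F).obj K)) ≅
      ((Fc F).obj K).homology n := fun n => (homologyFunctorFactors B n).app _
  have e2b : ∀ n : ℤ, ((Fc F).obj K).homology n ≅ F.obj (K.homology n) := fun n =>
    (K.sc n).mapHomologyIso F
  rw [e1.isZero_iff, isZero_iff_homology]
  exact forall_congr' fun n => ((e2a n).isZero_iff.trans (e2b n).isZero_iff).trans
    (ObjectProperty.SerreClassLocalization.isZero_obj_iff F P _)

lemma isZero_map_obj_iff (Z : DerivedCategory A) :
    IsZero (F.mapDerivedCategory.obj Z) ↔ ∀ n : ℤ, P ((homologyFunctor A n).obj Z) := by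
  let e := Q.objObjPreimageIso Z
  rw [← (F.mapDerivedCategory.mapIso e).isZero_iff, isZero_map_obj_Q_iff P F]
  exact forall_congr' fun n => P.prop_iff_of_iso
    (((homologyFunctorFactors A n).app _).symm ≪≫ (homologyFunctor A n).mapIso e)

lemma trW_eq :
    ObjectProperty.trW (fun X : DerivedCategory A =>
      ∀ n : ℤ, P ((homologyFunctor A n).obj X)) =
    (MorphismProperty.isomorphisms _).inverseImage F.mapDerivedCategory := by
  ext X Y f
  rw [MorphismProperty.inverseImage_iff, MorphismProperty.isomorphisms.iff]
  constructor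
  · rintro ⟨Z, g, h, mem, hZ⟩
    have hZ' : IsZero (F.mapDerivedCategory.obj Z) := (isZero_map_obj_iff P F Z).2 hZ
    exact (Pretriangulated.Triangle.isZero₃_iff_isIso₁ _
      (F.mapDerivedCategory.map_distinguished _ mem)).1 hZ'
  · intro hf
    obtain ⟨Z, g, h, mem⟩ := Pretriangulated.distinguished_cocone_triangle f
    refine ⟨Z, g, h, mem, (isZero_map_obj_iff P F Z).1 ?_⟩
    exact (Pretriangulated.Triangle.isZero₃_iff_isIso₁ _
      (F.mapDerivedCategory.map_distinguished _ mem)).2 hf

omit [F.IsLocalization P.isoModSerre] in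
lemma isIso_map_Q_map_iff {K L : CochainComplex A ℤ} (f : K ⟶ L) :
    IsIso (F.mapDerivedCategory.map (Q.map f)) ↔ W₃ F f := by
  have h1 : IsIso ((Q ⋙ F.mapDerivedCategory).map f) ↔ IsIso ((Fc F ⋙ Q).map f) :=
    NatIso.isIso_map_iff F.mapDerivedCategoryFactors f
  have h2 : IsIso (Q.map ((Fc F).map f)) ↔ QuasiIso ((Fc F).map f) :=
    isIso_Q_map_iff_quasiIso B _
  exact h1.trans h2

omit [F.IsLocalization P.isoModSerre] in
lemma map_Q_eq :
    (W₃ F).map Q = (MorphismProperty.isomorphisms _).inverseImage F.mapDerivedCategory := by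
  apply le_antisymm
  · rw [MorphismProperty.map_le_iff]
    intro K L f hf
    exact (isIso_map_Q_map_iff F f).2 hf
  · intro X Y f hf
    obtain ⟨K, L, g, ⟨e⟩⟩ := exists_arrow_iso f
    refine ⟨K, L, g, (isIso_map_Q_map_iff F g).1 ?_, ⟨e⟩⟩
    exact (((MorphismProperty.isomorphisms _).inverseImage
      F.mapDerivedCategory).arrow_mk_iso_iff e).2 hf

variable (G : B ⥤ A) (adj : G ⊣ F) [IsIso adj.unit]

include adj in
omit [F.IsLocalization P.isoModSerre] in
lemma step2 : (Fc F ⋙ Q).IsLocalization (W₃ F) := by
  haveI : G.Additive := adj.left_adjoint_additive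
  let adjc := mapAdj adj (ComplexShape.up ℤ)
  haveI : IsIso adjc.unit := isIso_mapAdj_unit adj _
  haveI := adjc.fullyFaithfulLOfIsIsoUnit.full
  haveI := adjc.fullyFaithfulLOfIsIsoUnit.faithful
  haveI : (Fc F).IsLocalization ((MorphismProperty.isomorphisms _).inverseImage (Fc F)) :=
    adjc.isLocalization_rightAdjoint'
  refine Functor.IsLocalization.comp (Fc F) Q
    ((MorphismProperty.isomorphisms _).inverseImage (Fc F))
    (HomologicalComplex.quasiIso B (ComplexShape.up ℤ)) (W₃ F) ?_ ?_ ?_
  · intro K L f hf
    exact Localization.inverts Q (HomologicalComplex.quasiIso B (ComplexShape.up ℤ)) _ hf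
  · intro K L f hf
    rw [MorphismProperty.inverseImage_iff, MorphismProperty.isomorphisms.iff] at hf
    change QuasiIso ((Fc F).map f)
    infer_instance
  · intro K L g hg
    have e : Arrow.mk g ≅ Arrow.mk ((Fc F).map ((G.mapHomologicalComplex _).map g)) :=
      Arrow.isoMk (asIso (adjc.unit.app K)) (asIso (adjc.unit.app L))
        (adjc.unit.naturality g).symm
    exact ⟨_, _, (G.mapHomologicalComplex _).map g,
      ((HomologicalComplex.quasiIso B (ComplexShape.up ℤ)).arrow_mk_iso_iff e).1 hg, ⟨e.symm⟩⟩

include adj in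
theorem main : F.mapDerivedCategory.IsLocalization
    (ObjectProperty.trW (fun X : DerivedCategory A =>
      ∀ n : ℤ, P ((homologyFunctor A n).obj X))) := by
  haveI h2 := step2 F G adj
  haveI h2' : (Q ⋙ F.mapDerivedCategory).IsLocalization (W₃ F) :=
    Functor.IsLocalization.of_iso _ F.mapDerivedCategoryFactors.symm
  refine Functor.IsLocalization.of_comp Q F.mapDerivedCategory
    (HomologicalComplex.quasiIso A (ComplexShape.up ℤ)) _ (W₃ F) ?_ ?_
  · intro K L f hf
    rw [HomologicalComplex.mem_quasiIso_iff] at hf
    change QuasiIso ((Fc F).map f)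
    infer_instance
  · rw [trW_eq P F, map_Q_eq F]

end Main

end Groth.Agent.Lib.Helper8.SecLoc
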