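import Mathlib
import Groth.Agent.Lib.Helper8.AffPush
import Groth.Agent.Lib.Helper8.PtSupp
import Groth.Prelude.Def_ClSub2

/-! # Helper8 — rational points given by sections `x : Spec k ⟶ C`: the kernel ideal is the point ideal and `h⁰(O_C/I_x) = 1` -/
set_option autoImplicit false
universe u
open CategoryTheory CategoryTheory.Limits AlgebraicGeometry Opposite TopologicalSpace
noncomputable section

namespace Groth.Agent.Lib.Helper8.SectionPt

variable {k : Type u} [Field k] {C : Scheme.{u}} (p : C ⟶ Spec (CommRingCat.of k)) [IsSeparated p]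
  (x : Spec (CommRingCat.of k) ⟶ C) (hx : x ≫ p = 𝟙 _)

include hx in
theorem isClosedImmersion_section : IsClosedImmersion x := by
  haveI : IsClosedImmersion (x ≫ p) := by rw [hx]; infer_instance
  exact IsClosedImmersion.of_comp x p

include hx in
/-- a section is determined by its kernel -/
theorem eq_of_ker_eq (y : Spec (CommRingCat.of k) ⟶ C) (hy : y ≫ p = 𝟙 _) (h : x.ker = y.ker) :
    x = y := by
  haveI := isClosedImmersion_section p x hx
  have h1 := IsClosedImmersion.lift_fac x y h.le
  have h2 : IsClosedImmersion.lift x y h.le = 𝟙 _ := by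
    have := congrArg (· ≫ p) h1
    simp only [Category.assoc, hx, hy, Category.comp_id] at this
    exact this
  rw [h2, Category.id_comp] at h1
  exact h1

/-- the kernel of a morphism from a reduced scheme is radical -/
theorem radical_ker {X Y : Scheme.{u}} (f : X ⟶ Y) [QuasiCompact f] [IsReduced X] :
    f.ker.radical = f.ker := by
  apply Scheme.IdealSheafData.ext
  funext U
  show (f.ker.ideal U).radical = f.ker.ideal U
  rw [Scheme.Hom.ker_apply]
  apply le_antisymm _ Ideal.le_radical
  rintro a ⟨n, hn⟩
  rw [RingHom.mem_ker] at hn ⊢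
  rw [map_pow] at hn
  exact eq_zero_of_pow_eq_zero hn

include hx in
theorem exists_point : ∃ (a : C) (ha : IsClosed ({a} : Set C)), Set.range x = {a} ∧
    x.ker = Scheme.IdealSheafData.vanishingIdeal ⟨{a}, ha⟩ := by
  haveI := isClosedImmersion_section p x hx
  let pt : Spec (CommRingCat.of k) := (default : PrimeSpectrum k)
  have hrange : Set.range x = {x pt} := by
    ext c
    constructor
    · rintro ⟨q, rfl⟩
      have : q = pt := Subsingleton.elim (α := PrimeSpectrum k) q pt
      rw [this]
      rfl
    · rintro rfl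
      exact ⟨pt, rfl⟩
  have hcl : IsClosed ({x pt} : Set C) := by
    rw [← hrange]
    exact x.isClosedEmbedding.isClosed_range
  refine ⟨x pt, hcl, hrange, ?_⟩
  rw [← radical_ker x, ← Scheme.IdealSheafData.vanishingIdeal_support]
  congr 1
  apply Closeds.ext
  rw [Scheme.Hom.support_ker, hrange, hcl.closure_eq]
  rfl

include hx in
theorem isIso_subschemeι_comp : IsIso (x.ker.subschemeι ≫ p) := by
  haveI := isClosedImmersion_section p x hx
  have h1 : x.toImage ≫ (x.ker.subschemeι ≫ p) = 𝟙 _ := by
    rw [← Category.assoc, x.toImage_imageι, hx]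
  have h2 : x.ker.subschemeι ≫ p = inv x.toImage := by
    rw [← cancel_epi x.toImage, h1, IsIso.hom_inv_id]
  rw [h2]
  infer_instance

theorem toGlobal_bijective {Z : Scheme.{u}} (q : Z ⟶ Spec (CommRingCat.of k)) [IsIso q] :
    Function.Bijective (Coh.toGlobal q) := by
  unfold Coh.toGlobal
  show Function.Bijective ((q.appTop).hom ∘ (Scheme.ΓSpecIso (CommRingCat.of k)).inv.hom)
  haveI : IsIso q.appTop := inferInstanceAs (IsIso (q.app ⊤))
  exact (ConcreteCategory.bijective_of_isIso q.appTop).comp
    (ConcreteCategory.bijective_of_isIso (Scheme.ΓSpecIso (CommRingCat.of k)).inv)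

end Groth.Agent.Lib.Helper8.SectionPt

namespace Groth.Agent.Lib.Helper8.SectionPt

open Groth.Agent.Lib.Helper8.PtSupp

variable {k : Type u} [Field k] {C : Scheme.{u}} [C.Over (Spec (CommRingCat.of k))]
  [IsSeparated (C ↘ Spec (CommRingCat.of k))]
  (x : Spec (CommRingCat.of k) ⟶ C) (hx : x ≫ (C ↘ Spec (CommRingCat.of k)) = 𝟙 _)

attribute [local instance] gammaModule in
include hx in
/-- **`h⁰(O_C / I_x) = 1` for a rational point given by a section** -/
theorem finrank_quotMod_ker :
    Module.finrank k (Coh.HH C (ClSub.quotMod x.ker) 0) = 1 := by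
  haveI := isClosedImmersion_section _ x hx
  letI : x.ker.subscheme.Over (Spec (CommRingCat.of k)) :=
    ⟨x.ker.subschemeι ≫ (C ↘ Spec (CommRingCat.of k))⟩
  haveI : IsIso (x.ker.subscheme ↘ Spec (CommRingCat.of k)) :=
    isIso_subschemeι_comp (C ↘ Spec (CommRingCat.of k)) x hx
  have hqc : (Coh.structureModule x.ker.subscheme).IsQuasicoherent :=
    (Groth.Agent.Lib.Helper6.DevRed.isCoh_structureModule (X := x.ker.subscheme)).1
  have h1 := Groth.Agent.Lib.Helper8.AffPush.finrank_push k x.ker.subschemeι rfl
    (Coh.structureModule x.ker.subscheme) hqc 0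
  rw [h1, (e0L (Coh.structureModule x.ker.subscheme) k).finrank_eq]
  have hbij := toGlobal_bijective (x.ker.subscheme ↘ Spec (CommRingCat.of k))
  let φ : k →ₗ[k] Γ(Coh.structureModule x.ker.subscheme, ⊤) :=
    { toFun := fun c => (show Γ(Coh.structureModule x.ker.subscheme, ⊤) from toΓ k x.ker.subscheme c)
      map_add' := fun a b => map_add (toΓ k x.ker.subscheme) a b
      map_smul' := fun a b => by
        show toΓ k x.ker.subscheme (a * b) = toΓ k x.ker.subscheme a * toΓ k x.ker.subscheme b
        exact map_mul _ a b }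
  have hφ : Function.Bijective φ := hbij
  rw [← (LinearEquiv.ofBijective φ hφ).finrank_eq, Module.finrank_self]

end Groth.Agent.Lib.Helper8.SectionPt
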