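import Mathlib.CategoryTheory.Abelian.SerreClass.Localization
import Mathlib.CategoryTheory.Localization.CalculusOfFractions.Preadditive

/-!
# `P = ker F` iff the induced functor on the Serre quotient is faithful
-/

set_option linter.style.haveILetI false
set_option linter.unusedSectionVars false

namespace Groth.Agent.Lib.Helper8.SerreFaithful

open CategoryTheory Category Limits ObjectProperty

universe v v' v'' u u' u''

variable {A : Type u} [Category.{v} A] [Abelian A] {B : Type u'} [Category.{v'} B] [Abelian B]
  (F : A ⥤ B) [F.Additive] [PreservesFiniteLimits F] [PreservesFiniteColimits F]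
  (P : ObjectProperty A) [P.IsSerreClass]
  {Q : Type u''} [Category.{v''} Q] [Abelian Q] (L : A ⥤ Q) [L.IsLocalization P.isoModSerre]
  [L.Additive] (Fbar : Q ⥤ B) (e : L ⋙ Fbar ≅ F)

include e in
lemma isZero_image_of_map_eq_zero {X Y : A} (f : X ⟶ Y) (hf : Fbar.map (L.map f) = 0) :
    IsZero (F.obj (Abelian.image f)) := by
  have hF : F.map f = 0 := by
    have h := e.hom.naturality f
    dsimp at h
    rw [hf, zero_comp] at h
    rw [← cancel_epi (e.hom.app X), ← h, comp_zero]
  have h2 : F.map (Abelian.factorThruImage f) ≫ F.map (Abelian.image.ι f) = 0 := by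
    rw [← F.map_comp, Abelian.image.fac, hF]
  have h3 : F.map (Abelian.image.ι f) = 0 := by
    rwa [← cancel_epi (F.map (Abelian.factorThruImage f)), comp_zero]
  exact IsZero.of_mono_eq_zero _ h3

include e in
theorem main : (∀ X : A, IsZero (F.obj X) → P X) ↔ Fbar.Faithful := by
  constructor
  · intro h
    have : (L ⋙ Fbar).Additive := Functor.additive_of_iso e.symm
    have : Fbar.Additive :=
      (Localization.functor_additive_iff L P.isoModSerre Fbar).2 inferInstance
    have key : ∀ {X Y : A} (χ : L.obj X ⟶ L.obj Y), Fbar.map χ = 0 → χ = 0 := by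
      intro X Y χ hχ
      obtain ⟨φ, rfl⟩ := Localization.exists_leftFraction L P.isoModSerre χ
      have h1 : L.map φ.f = 0 := by
        rw [SerreClassLocalization.map_eq_zero_iff L P]
        apply h
        apply isZero_image_of_map_eq_zero F L Fbar e
        rw [← φ.map_comp_map_s L (Localization.inverts L _), Functor.map_comp, hχ, zero_comp]
      rw [MorphismProperty.LeftFraction.map, h1, zero_comp]
    have := Localization.essSurj L P.isoModSerre
    refine ⟨fun {A' B'} φ ψ hφψ => ?_⟩
    let a := L.objObjPreimageIso A'
    let b := L.objObjPreimageIso B'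
    have h0 : a.hom ≫ (φ - ψ) ≫ b.inv = 0 :=
      key _ (by simp [Functor.map_sub, hφψ])
    rw [← sub_eq_zero]
    rw [← cancel_epi a.hom, ← cancel_mono b.inv, assoc, h0, comp_zero, zero_comp]
  · intro hf X hX
    rw [← SerreClassLocalization.isZero_obj_iff L P]
    have hz : IsZero (Fbar.obj (L.obj X)) := IsZero.of_iso hX (e.app X)
    rw [IsZero.iff_id_eq_zero]
    exact Fbar.map_injective (hz.eq_of_src _ _)

end Groth.Agent.Lib.Helper8.SerreFaithful
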