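import Groth.Agent.Lib.Helper8.Tower
import Groth.Agent.Lib.Helper8.EssRes2
import Groth.Agent.Lib.Helper8.DPlusFF

/-!
# Helper8: `D⁻(P) ⥤ D⁻_P(A)` for a Serre class `P` with the lifting property (S1050)
-/

universe w w' v u

open CategoryTheory CategoryTheory.Limits Opposite

namespace Groth.Agent.Lib.Helper8.SerreRes

set_option linter.unusedSectionVars false

variable {A : Type u} [Category.{v} A] [Abelian A]
    (P : ObjectProperty A) [P.IsSerreClass] [P.IsClosedUnderKernels] [P.IsClosedUnderCokernels]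
    [P.IsClosedUnderFiniteProducts] [PreservesFiniteLimits P.ι] [PreservesFiniteColimits P.ι]

lemma essImage_ιop_iff (Y : Aᵒᵖ) : (P.ι.op).essImage Y ↔ P Y.unop := by
  constructor
  · rintro ⟨X, ⟨e⟩⟩
    exact P.prop_of_iso e.unop.symm X.unop.property
  · intro hY
    exact ⟨op ⟨Y.unop, hY⟩, ⟨Iso.refl _⟩⟩

instance : PreservesFiniteLimits P.ι.op := preservesFiniteLimits_op _

instance : PreservesFiniteColimits P.ι.op := preservesFiniteColimits_op _

section

variable (hlift : ∀ (X Y : A) (π : X ⟶ Y), Epi π → P Y →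
  ∃ (X' : A) (i : X' ⟶ X), Mono i ∧ P X' ∧ Epi (i ≫ π))

include hlift in
lemma oracle_aux {X Y : A} (f : X ⟶ Y) (hP : P (cokernel f)) :
    ∃ (X' : A) (_ : P X') (i : X' ⟶ Y), Mono (kernel.ι f.op ≫ i.op) := by
  obtain ⟨X', i, hi, hX', hepi⟩ := hlift Y (cokernel f) (cokernel.π f) inferInstance hP
  refine ⟨X', hX', i, ?_⟩
  have h : kernel.ι f.op ≫ i.op = (i ≫ (kernel.ι f.op).unop).op := rfl
  rw [h, kernel.ι_op, eqToHom_refl, Category.id_comp]
  have : Epi (i ≫ cokernel.π f ≫ (kernelOpUnop f).inv) := by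
    rw [← Category.assoc]
    infer_instance
  infer_instance

include hlift in
lemma oracle (P₀ X₀ : Aᵒᵖ) (e : P₀ ⟶ X₀) (hE : (P.ι.op).essImage (kernel e)) :
    ∃ (I' : P.FullSubcategoryᵒᵖ) (u : P₀ ⟶ (P.ι.op).obj I'), Mono (kernel.ι e ≫ u) := by
  have h1 : P (kernel e).unop := (essImage_ιop_iff P _).1 hE
  have h2 : P (cokernel e.unop) := P.prop_of_iso (kernelOpUnop e.unop) h1
  obtain ⟨X', hX', i, hmono⟩ := oracle_aux P hlift e.unop h2
  exact ⟨op ⟨X', hX'⟩, i.op, hmono⟩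

end

lemma hext_op (S : ShortComplex Aᵒᵖ) (hS : S.ShortExact) (h1 : (P.ι.op).essImage S.X₁)
    (h3 : (P.ι.op).essImage S.X₃) : (P.ι.op).essImage S.X₂ := by
  rw [essImage_ιop_iff] at h1 h3 ⊢
  exact P.prop_X₂_of_shortExact hS.unop h3 h1

section ChainLevel

variable (hlift : ∀ (X Y : A) (π : X ⟶ Y), Epi π → P Y →
    ∃ (X' : A) (i : X' ⟶ X), Mono i ∧ P X' ∧ Epi (i ≫ π))
  (Mc : ChainComplex A ℕ) (hM : ∀ k, P (Mc.homology k))

/-- the opposite cochain complex -/
noncomputable def Lop : CochainComplex Aᵒᵖ ℕ := Mc.op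

include hM in
lemma essImage_homology_Lop (k : ℕ) : (P.ι.op).essImage ((Lop Mc).homology k) :=
  (essImage_ιop_iff P _).2 (P.prop_of_iso (Mc.homologyOp k).unop (hM k))

/-- the input of the tower construction -/
noncomputable def input : Tower.Input (P.ι.op) where
  L := Lop Mc
  hext := hext_op P
  orc := oracle P hlift
  h0 := Functor.essImage.ofIso (EssRes2.homologyZeroIso (Lop Mc)) (essImage_homology_Lop P Mc hM 0)
  hH := fun n => Functor.essImage.ofIso (EssRes2.homologySuccIso (Lop Mc) n)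
    (essImage_homology_Lop P Mc hM (n + 1))

/-- the resolving chain complex in `P` -/
noncomputable def Yc : ChainComplex P.FullSubcategory ℕ := (Tower.Ic (input P hlift Mc hM)).unop

/-- the quasi-isomorphism -/
noncomputable def ψ :
    (P.ι.mapHomologicalComplex (ComplexShape.down ℕ)).obj (Yc P hlift Mc hM) ⟶ Mc :=
  (HomologicalComplex.unopFunctor A (ComplexShape.up ℕ)).map (Tower.φc (input P hlift Mc hM)).op

instance : QuasiIso (ψ P hlift Mc hM) :=
  inferInstanceAs (QuasiIso ((HomologicalComplex.unopFunctor A (ComplexShape.up ℕ)).map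
    (Tower.φc (input P hlift Mc hM)).op))

end ChainLevel

section Derived

variable [HasDerivedCategory.{w} A] [HasDerivedCategory.{w'} P.FullSubcategory]
  (hlift : ∀ (X Y : A) (π : X ⟶ Y), Epi π → P Y →
    ∃ (X' : A) (i : X' ⟶ X), Mono i ∧ P X' ∧ Epi (i ≫ π))

open DerivedCategory HomologicalComplex

include hlift in
/-- a bounded above complex of `A` with cohomology in `P` is quasi-isomorphic to the image of
a bounded above complex of `P` -/
theorem exists_quasiIso_of_isStrictlyLE (K : CochainComplex A ℤ) (b : ℤ) [K.IsStrictlyLE b]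
    (hK : ∀ n : ℤ, P (K.homology n)) :
    ∃ (Y : CochainComplex P.FullSubcategory ℤ) (_ : Y.IsStrictlyLE b)
      (f : (P.ι.mapHomologicalComplex (ComplexShape.up ℤ)).obj Y ⟶ K), QuasiIso f := by
  have hKb : K.IsLE b := inferInstance
  have hq : QuasiIso (K.ιTruncLE b) := (K.quasiIso_ιTruncLE_iff b).2 hKb
  let e := ComplexShape.embeddingUpIntLE b
  let Mc : ChainComplex A ℕ := K.truncLE' e
  have hM : ∀ k : ℕ, P (Mc.homology k) := fun k => by
    have i2 : (K.truncLE b).homology (e.f k) ≅ K.homology (e.f k) :=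
      isoOfQuasiIsoAt (K.ιTruncLE b) (e.f k)
    have i3 : (K.truncLE b).homology (e.f k) ≅ (Mc.extend e).homology (e.f k) :=
      (HomologicalComplex.homologyFunctor A _ (e.f k)).mapIso (K.truncLEIso e)
    have i4 : (Mc.extend e).homology (e.f k) ≅ Mc.homology k := Mc.extendHomologyIso e rfl
    exact P.prop_of_iso (i2.symm ≪≫ i3 ≪≫ i4) (hK (e.f k))
  refine ⟨(Yc P hlift Mc hM).extend e, inferInstance,
    (EssRes2.extendMapIso P.ι (Yc P hlift Mc hM) e).hom ≫ extendMap (ψ P hlift Mc hM) e ≫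
      (K.truncLEIso e).inv ≫ K.ιTruncLE b, ?_⟩
  have h1 : QuasiIso (extendMap (ψ P hlift Mc hM) e) := inferInstance
  have h2 : QuasiIso ((K.truncLEIso e).inv ≫ K.ιTruncLE b) := inferInstance
  have h3 : QuasiIso (extendMap (ψ P hlift Mc hM) e ≫ (K.truncLEIso e).inv ≫ K.ιTruncLE b) :=
    inferInstance
  infer_instance

/-- the functor on complexes -/
noncomputable abbrev G : CochainComplex P.FullSubcategory ℤ ⥤ CochainComplex A ℤ :=
  P.ι.mapHomologicalComplex (ComplexShape.up ℤ)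

lemma prop_homology_map (Y : CochainComplex P.FullSubcategory ℤ) (n : ℤ) :
    P (((G P).obj Y).homology n) :=
  P.prop_of_iso ((Y.sc n).mapHomologyIso P.ι).symm (Y.homology n).property

lemma prop_homology_of_quasiIso {X : CochainComplex A ℤ} {Y : CochainComplex P.FullSubcategory ℤ}
    (s : X ⟶ (G P).obj Y) [QuasiIso s] (n : ℤ) : P (X.homology n) :=
  P.prop_of_iso (isoOfQuasiIsoAt s n).symm (prop_homology_map P Y n)

lemma quasiIso_of_map {Y Y' : CochainComplex P.FullSubcategory ℤ} (σ : Y ⟶ Y')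
    (h : QuasiIso ((G P).map σ)) : QuasiIso σ :=
  (HomologicalComplex.quasiIso_map_iff_of_preservesHomology σ P.ι).1 h

include hlift in
lemma surj (M₀ N₀ : CochainComplex P.FullSubcategory ℤ) (b : ℤ) [M₀.IsStrictlyLE b]
    (θ : P.ι.mapDerivedCategory.obj (Q.obj M₀) ⟶ P.ι.mapDerivedCategory.obj (Q.obj N₀)) :
    ∃ φ : Q.obj M₀ ⟶ Q.obj N₀, P.ι.mapDerivedCategory.map φ = θ := by
  have hGM : CochainComplex.IsStrictlyLE ((G P).obj M₀) b :=
    (CochainComplex.isStrictlyLE_mapHomologicalComplex_obj_iff (K := M₀) P.ι b).2 inferInstance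
  obtain ⟨X', hX', s, hs, g, fac⟩ := right_fac_of_isStrictlyLE
    (P.ι.mapDerivedCategoryFactors.inv.app M₀ ≫ θ ≫ P.ι.mapDerivedCategoryFactors.hom.app N₀) b
  have hs' : QuasiIso s := (isIso_Q_map_iff_quasiIso A s).1 hs
  obtain ⟨Y, hY, t, ht⟩ := exists_quasiIso_of_isStrictlyLE P hlift X' b
    (prop_homology_of_quasiIso P s)
  obtain ⟨σ, hσ⟩ := (G P).map_surjective (t ≫ s)
  obtain ⟨γ, hγ⟩ := (G P).map_surjective (t ≫ g)
  have hσq : QuasiIso σ := quasiIso_of_map P σ (by rw [hσ]; infer_instance)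
  refine ⟨inv (Q.map σ) ≫ Q.map γ, ?_⟩
  have n1 := P.ι.mapDerivedCategoryFactors_hom_naturality σ
  have n2 := P.ι.mapDerivedCategoryFactors_hom_naturality γ
  rw [hσ, Q.map_comp] at n1
  rw [hγ, Q.map_comp] at n2
  have hθ : θ = P.ι.mapDerivedCategoryFactors.hom.app M₀ ≫ (inv (Q.map s) ≫ Q.map g) ≫
      P.ι.mapDerivedCategoryFactors.inv.app N₀ := by
    rw [← fac]
    simp
  rw [← cancel_epi (P.ι.mapDerivedCategory.map (Q.map σ)), ← Functor.map_comp,
    IsIso.hom_inv_id_assoc, hθ, reassoc_of% n1,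
    ← cancel_mono (P.ι.mapDerivedCategoryFactors.hom.app N₀), n2]
  simp

include hlift in
lemma inj (M₀ N₀ : CochainComplex P.FullSubcategory ℤ) (b : ℤ) [M₀.IsStrictlyLE b]
    (φ : Q.obj M₀ ⟶ Q.obj N₀) (h : P.ι.mapDerivedCategory.map φ = 0) : φ = 0 := by
  obtain ⟨Y', hY', σ, hσ, γ, fac⟩ := right_fac_of_isStrictlyLE φ b
  have h1 : P.ι.mapDerivedCategory.map (Q.map γ) = 0 := by
    have : Q.map γ = Q.map σ ≫ φ := by rw [fac, IsIso.hom_inv_id_assoc]
    rw [this, Functor.map_comp, h, comp_zero]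
  have h2 : Q.map ((G P).map γ) = 0 := by
    have n := P.ι.mapDerivedCategoryFactors_hom_naturality γ
    rw [h1, zero_comp] at n
    rw [← cancel_epi (P.ι.mapDerivedCategoryFactors.hom.app Y'), ← n, comp_zero]
  have h3 : Qh.map ((HomotopyCategory.quotient A _).map ((G P).map γ)) = Qh.map 0 := by
    rw [Functor.map_zero]
    have nat := (quotientCompQhIso A).hom.naturality ((G P).map γ)
    dsimp at nat
    rw [h2, comp_zero] at nat
    rw [← cancel_mono ((quotientCompQhIso A).hom.app _), nat, zero_comp]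
  rw [MorphismProperty.map_eq_iff_precomp Qh
    (HomotopyCategory.quasiIso A (ComplexShape.up ℤ))] at h3
  obtain ⟨X, s, hs, hsγ⟩ := h3
  obtain ⟨X₀, rfl⟩ := HomotopyCategory.quotient_obj_surjective X
  obtain ⟨s₀, rfl⟩ := (HomotopyCategory.quotient _ _).map_surjective s
  rw [HomotopyCategory.quotient_map_mem_quasiIso_iff] at hs
  have hs₀ : QuasiIso s₀ := hs
  rw [comp_zero, ← Functor.map_comp] at hsγ
  have H₀ : Homotopy (s₀ ≫ (G P).map γ) 0 :=
    HomotopyCategory.homotopyOfEq _ _ (by rw [hsγ, Functor.map_zero])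
  have hGY : CochainComplex.IsStrictlyLE ((G P).obj Y') b :=
    (CochainComplex.isStrictlyLE_mapHomologicalComplex_obj_iff (K := Y') P.ι b).2 inferInstance
  have hX₀ : CochainComplex.IsLE X₀ b := by
    rw [CochainComplex.isLE_iff]
    intro i hi
    rw [HomologicalComplex.exactAt_iff_isZero_homology]
    have hz : IsZero (((G P).obj Y').homology i) := by
      rw [← HomologicalComplex.exactAt_iff_isZero_homology]
      exact CochainComplex.exactAt_of_isLE ((G P).obj Y') b i hi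
    exact hz.of_iso (isoOfQuasiIsoAt s₀ i)
  have hq : QuasiIso (CochainComplex.ιTruncLE X₀ b) :=
    (CochainComplex.quasiIso_ιTruncLE_iff X₀ b).2 hX₀
  have hq2 : QuasiIso (CochainComplex.ιTruncLE X₀ b ≫ s₀) := inferInstance
  obtain ⟨Y'', hY'', t, ht⟩ := exists_quasiIso_of_isStrictlyLE P hlift
    (CochainComplex.truncLE X₀ b) b
    (prop_homology_of_quasiIso P (CochainComplex.ιTruncLE X₀ b ≫ s₀))
  obtain ⟨ρ, hρ⟩ := (G P).map_surjective (t ≫ CochainComplex.ιTruncLE X₀ b ≫ s₀)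
  have hρq : QuasiIso ρ := quasiIso_of_map P ρ (by rw [hρ]; infer_instance)
  have H₁ : Homotopy ((G P).map (ρ ≫ γ)) ((G P).map 0) := by
    rw [Functor.map_comp, hρ, Functor.map_zero]
    exact (Homotopy.ofEq (by simp)).trans
      ((H₀.compLeft (t ≫ CochainComplex.ιTruncLE X₀ b)).trans (Homotopy.ofEq (by simp)))
  have H₂ : Homotopy (ρ ≫ γ) 0 := P.ι.preimageHomotopy H₁
  have h4 : Q.map ρ ≫ Q.map γ = 0 := by
    rw [← Functor.map_comp, Q_map_eq_of_homotopy _ H₂, Functor.map_zero]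
  have h5 : Q.map γ = 0 := by rw [← cancel_epi (Q.map ρ), h4, comp_zero]
  rw [fac, h5, comp_zero]

include hlift in
/-- S1050 -/
theorem main :
    (∀ (M N : DerivedCategory P.FullSubcategory) (b : ℤ), M.IsLE b → N.IsLE b →
      Function.Bijective (fun φ : M ⟶ N => P.ι.mapDerivedCategory.map φ)) ∧
    ∀ (K : DerivedCategory A) (b : ℤ), K.IsLE b →
      (∀ n : ℤ, P ((DerivedCategory.homologyFunctor A n).obj K)) →
      ∃ M : DerivedCategory P.FullSubcategory, M.IsLE b ∧
        Nonempty (P.ι.mapDerivedCategory.obj M ≅ K) := by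
  constructor
  · intro M N b hM hN
    obtain ⟨M₀, _, ⟨eM⟩⟩ := M.exists_iso_Q_obj_of_isLE b
    obtain ⟨N₀, _, ⟨eN⟩⟩ := N.exists_iso_Q_obj_of_isLE b
    apply DPlusFF.map_bijective_of_iso _ eM eN
    constructor
    · intro φ₁ φ₂ h
      dsimp only at h
      have h0 := inj P hlift M₀ N₀ b (φ₁ - φ₂) (by rw [Functor.map_sub, h, sub_self])
      exact sub_eq_zero.1 h0
    · intro θ
      exact surj P hlift M₀ N₀ b θ
  · intro K b hK hP
    obtain ⟨K₀, _, ⟨e₀⟩⟩ := K.exists_iso_Q_obj_of_isLE b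
    have hK₀ : ∀ n : ℤ, P (K₀.homology n) := fun n =>
      P.prop_of_iso ((DerivedCategory.homologyFunctor A n).mapIso e₀ ≪≫
        (DerivedCategory.homologyFunctorFactors A n).app K₀) (hP n)
    obtain ⟨Y, hY, f, hf⟩ := exists_quasiIso_of_isStrictlyLE P hlift K₀ b hK₀
    refine ⟨Q.obj Y, inferInstance, ⟨P.ι.mapDerivedCategoryFactors.app Y ≪≫
      asIso (Q.map f) ≪≫ e₀.symm⟩⟩

end Derived

end Groth.Agent.Lib.Helper8.SerreRes
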