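import Mathlib.CategoryTheory.Abelian.SerreClass.Localization
import Mathlib.CategoryTheory.Localization.CalculusOfFractions.Preadditive

/-!
# The Serre quotient by bounded torsion objects has rational Hom groups
-/

set_option linter.style.haveILetI false
set_option linter.unusedSectionVars false

namespace Groth.Agent.Lib.Helper8.SerreTorsion

open CategoryTheory Category Limits ObjectProperty Preadditive

universe v v' u u'

variable {A : Type u} [Category.{v} A] [Abelian A]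
  (P : ObjectProperty A) (hP : ∀ X : A, P X ↔ ∃ n : ℤ, n ≠ 0 ∧ n • (𝟙 X) = 0) [P.IsSerreClass]

include hP

lemma isoModSerre_zsmul_id (Y : A) (n : ℤ) (hn : n ≠ 0) : P.isoModSerre (n • 𝟙 Y) := by
  refine ⟨?_, ?_⟩
  · rw [monoModSerre_iff, hP]
    refine ⟨n, hn, ?_⟩
    rw [← cancel_mono (kernel.ι (n • 𝟙 Y)), zsmul_comp, id_comp, zero_comp]
    have := kernel.condition (n • 𝟙 Y)
    rwa [comp_zsmul, comp_id] at this
  · rw [epiModSerre_iff, hP]
    refine ⟨n, hn, ?_⟩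
    rw [← cancel_epi (cokernel.π (n • 𝟙 Y)), comp_zsmul, comp_id, comp_zero]
    have := cokernel.condition (n • 𝟙 Y)
    rwa [zsmul_comp, id_comp] at this

lemma prop_image_iff {X Y : A} (f : X ⟶ Y) :
    P (Abelian.image f) ↔ ∃ n : ℤ, n ≠ 0 ∧ n • f = 0 := by
  rw [hP]
  constructor
  · rintro ⟨n, hn, h⟩
    refine ⟨n, hn, ?_⟩
    have : n • f = Abelian.factorThruImage f ≫ (n • 𝟙 _) ≫ Abelian.image.ι f := by
      rw [zsmul_comp, id_comp, comp_zsmul, Abelian.image.fac]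
    rw [this, h, zero_comp, comp_zero]
  · rintro ⟨n, hn, h⟩
    refine ⟨n, hn, ?_⟩
    rw [← cancel_epi (Abelian.factorThruImage f), ← cancel_mono (Abelian.image.ι f),
      comp_zero, zero_comp, assoc, zsmul_comp, id_comp, comp_zsmul, Abelian.image.fac, h]

/-- A quasi-inverse up to multiplication for a morphism which is an iso mod bounded torsion. -/
lemma exists_quasi_inverse {Y Y' : A} (s : Y ⟶ Y') (hs : P.isoModSerre s) :
    ∃ (m : ℤ) (t : Y' ⟶ Y), m ≠ 0 ∧ t ≫ s = m • 𝟙 Y' := by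
  obtain ⟨a, ha, ha'⟩ := (hP _).1 hs.1
  obtain ⟨b, hb, hb'⟩ := (hP _).1 hs.2
  have h1 : (b • 𝟙 Y') ≫ cokernel.π s = 0 := by
    rw [zsmul_comp, id_comp]
    have : b • cokernel.π s = cokernel.π s ≫ (b • 𝟙 _) := by rw [comp_zsmul, comp_id]
    rw [this, hb', comp_zero]
  have h2 : kernel.ι s ≫ (a • 𝟙 Y) = 0 := by
    rw [comp_zsmul, comp_id]
    have : a • kernel.ι s = (a • 𝟙 _) ≫ kernel.ι s := by rw [zsmul_comp, id_comp]
    rw [this, ha', zero_comp]
  let β : Y' ⟶ Abelian.image s := kernel.lift (cokernel.π s) (b • 𝟙 Y') h1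
  have hβ : β ≫ Abelian.image.ι s = b • 𝟙 Y' := kernel.lift_ι _ _ _
  let γ : Abelian.coimage s ⟶ Y := cokernel.desc (kernel.ι s) (a • 𝟙 Y) h2
  have hγ : Abelian.coimage.π s ≫ γ = a • 𝟙 Y := cokernel.π_desc _ _ _
  have hfac : Abelian.coimage.π s ≫ (Abelian.coimageIsoImage s).hom ≫ Abelian.image.ι s = s :=
    Abelian.coimage_image_factorisation s
  have hγs : γ ≫ s = a • ((Abelian.coimageIsoImage s).hom ≫ Abelian.image.ι s) := by
    rw [← cancel_epi (Abelian.coimage.π s), reassoc_of% hγ, comp_zsmul, hfac, zsmul_comp,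
      id_comp]
  refine ⟨a * b, β ≫ (Abelian.coimageIsoImage s).inv ≫ γ, mul_ne_zero ha hb, ?_⟩
  rw [assoc, assoc, hγs, comp_zsmul, comp_zsmul, Iso.inv_hom_id_assoc, hβ, smul_smul]

variable {D : Type u'} [Category.{v'} D] [Preadditive D]
  (L : A ⥤ D) [L.Additive] [L.IsLocalization P.isoModSerre] (X Y : A)

theorem main :
    (∀ n : ℤ, n ≠ 0 → Function.Bijective (fun g : L.obj X ⟶ L.obj Y => n • g)) ∧
    (∀ f : X ⟶ Y, L.map f = 0 ↔ ∃ n : ℤ, n ≠ 0 ∧ n • f = 0) ∧
    (∀ g : L.obj X ⟶ L.obj Y, ∃ (n : ℤ) (f : X ⟶ Y), n ≠ 0 ∧ n • g = L.map f) := by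
  refine ⟨fun n hn => ?_, fun f => ?_, fun g => ?_⟩
  · have hiso : IsIso (L.map (n • 𝟙 Y)) :=
      Localization.inverts L P.isoModSerre _ (isoModSerre_zsmul_id P hP Y n hn)
    have e : ∀ g : L.obj X ⟶ L.obj Y, n • g = g ≫ L.map (n • 𝟙 Y) := fun g => by
      rw [Functor.map_zsmul, L.map_id, comp_zsmul, comp_id]
    constructor
    · intro g g' h
      dsimp only at h
      rw [e, e] at h
      exact (cancel_mono _).1 h
    · intro h
      refine ⟨h ≫ inv (L.map (n • 𝟙 Y)), ?_⟩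
      dsimp only
      rw [e, assoc, IsIso.inv_hom_id, comp_id]
  · rw [SerreClassLocalization.map_eq_zero_iff L P, prop_image_iff P hP]
  · obtain ⟨φ, rfl⟩ := Localization.exists_leftFraction L P.isoModSerre g
    obtain ⟨m, t, hm, ht⟩ := exists_quasi_inverse P hP φ.s φ.hs
    refine ⟨m, φ.f ≫ t, hm, ?_⟩
    have hiso : IsIso (L.map φ.s) := Localization.inverts L P.isoModSerre _ φ.hs
    rw [← cancel_mono (L.map φ.s), zsmul_comp, φ.map_comp_map_s, L.map_comp, assoc,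
      ← L.map_comp, ht, Functor.map_zsmul, L.map_id, comp_zsmul, comp_id]

end Groth.Agent.Lib.Helper8.SerreTorsion
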