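import Mathlib.CategoryTheory.Triangulated.Functor
import Mathlib.CategoryTheory.Triangulated.Pretriangulated
import Mathlib.CategoryTheory.Triangulated.Triangulated
import Mathlib.CategoryTheory.Triangulated.Yoneda
import Groth.Agent.Lib.Helper8.Postnikov2

/-!
# Sibling functors, abstract part

`s : A ⥤ B` a full functor to a pretriangulated category, `F F' : B ⥤ D` triangulated functors with
`α : s ⋙ F ≅ s ⋙ F'` and `Hom(F (s X), (F (s Y))⟦q⟧) = 0` for `q < 0`.  If `K : B` admits a finite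
"cell structure" (iterated extension of shifted objects `(s M)⟦-a⟧` with increasing `a`), then
`F K ≅ F' K`.
-/

set_option linter.unusedSectionVars false

universe v₁ v₂ v₃ u₁ u₂ u₃

open CategoryTheory Limits Pretriangulated

namespace Helper8.Sib

variable {A : Type u₁} [Category.{v₁} A]
  {B : Type u₂} [Category.{v₂} B] [Preadditive B] [HasZeroObject B] [HasShift B ℤ]
  [∀ n : ℤ, (shiftFunctor B n).Additive] [Pretriangulated B]
  {D : Type u₃} [Category.{v₃} D] [Preadditive D] [HasZeroObject D] [HasShift D ℤ]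
  [∀ n : ℤ, (shiftFunctor D n).Additive] [Pretriangulated D]

/-- replacing the third vertex of a distinguished triangle by an isomorphic object. -/
lemma dist_of_iso₃ {X Y Z Z' : B} (f : X ⟶ Y) (g : Y ⟶ Z) (h : Z ⟶ X⟦(1 : ℤ)⟧)
    (hT : Triangle.mk f g h ∈ distTriang B) (e : Z ≅ Z') :
    Triangle.mk f (g ≫ e.hom) (e.inv ≫ h) ∈ distTriang B := by
  refine isomorphic_distinguished _ hT _
    (Triangle.isoMk _ _ (Iso.refl _) (Iso.refl _) e.symm ?_ ?_ ?_)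
  · change f ≫ 𝟙 Y = 𝟙 X ≫ f
    rw [Category.comp_id, Category.id_comp]
  · change (g ≫ e.hom) ≫ e.inv = 𝟙 Y ≫ g
    rw [Category.assoc, e.hom_inv_id, Category.comp_id, Category.id_comp]
  · change (e.inv ≫ h) ≫ (shiftFunctor B (1 : ℤ)).map (𝟙 X) = e.inv ≫ h
    rw [CategoryTheory.Functor.map_id, Category.comp_id]

section Cell

variable (s : A ⥤ B)

/-- `Cell s n a K`: `K` is an iterated extension of `n` cells `(s M)⟦-a⟧, (s M')⟦-a-1⟧, …`. -/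
def Cell : ℕ → ℤ → B → Prop
  | 0, _, K => IsZero K
  | n + 1, a, K => ∃ (K₁ : B) (M : A) (f : K₁ ⟶ K) (g : K ⟶ (s.obj M)⟦-a⟧)
      (h : (s.obj M)⟦-a⟧ ⟶ K₁⟦(1 : ℤ)⟧),
      Triangle.mk f g h ∈ distTriang B ∧ Cell n (a + 1) K₁

variable {s}

lemma Cell.congr {n : ℕ} {a a' : ℤ} (h : a = a') {K : B} (hK : Cell s n a K) : Cell s n a' K := by
  subst h; exact hK

lemma Cell.mk' {n : ℕ} {a : ℤ} {K₁ K S : B} (M : A) (e : S ≅ (s.obj M)⟦-a⟧)
    (f : K₁ ⟶ K) (g : K ⟶ S) (h : S ⟶ K₁⟦(1 : ℤ)⟧)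
    (hT : Triangle.mk f g h ∈ distTriang B) (hK₁ : Cell s n (a + 1) K₁) : Cell s (n + 1) a K :=
  ⟨K₁, M, f, g ≫ e.hom, e.inv ≫ h, dist_of_iso₃ f g h hT e, hK₁⟩

lemma Cell.shift : ∀ {n : ℕ} {a : ℤ} {K : B}, Cell s n a K → Cell s n (a - 1) (K⟦(1 : ℤ)⟧)
  | 0, _, K, hK => (shiftFunctor B (1 : ℤ)).map_isZero hK
  | n + 1, a, K, ⟨K₁, M, f, g, h, hT, hK₁⟩ => by
    have hT' := Triangle.shift_distinguished _ hT 1
    have hK₁' : Cell s n (a - 1 + 1) (K₁⟦(1 : ℤ)⟧) := (Cell.shift hK₁).congr (by omega)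
    let e : ((s.obj M)⟦-a⟧)⟦(1 : ℤ)⟧ ≅ (s.obj M)⟦-(a - 1)⟧ :=
      ((shiftFunctorAdd' B (-a) 1 (-(a - 1)) (by omega)).app (s.obj M)).symm
    exact Cell.mk' M e _ _ _ hT' hK₁'

end Cell

section Theta

variable (s : A ⥤ B) (F F' : B ⥤ D) [F.CommShift ℤ] [F'.CommShift ℤ] (α : s ⋙ F ≅ s ⋙ F')

/-- the shifted comparison isomorphism. -/
noncomputable def θ (M : A) (j : ℤ) : F.obj ((s.obj M)⟦j⟧) ≅ F'.obj ((s.obj M)⟦j⟧) :=
  (F.commShiftIso j).app (s.obj M) ≪≫ (shiftFunctor D j).mapIso (α.app M) ≪≫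
    ((F'.commShiftIso j).app (s.obj M)).symm

lemma θ_hom (M : A) (j : ℤ) : (θ s F F' α M j).hom =
    (F.commShiftIso j).hom.app (s.obj M) ≫ (shiftFunctor D j).map (α.hom.app M) ≫
      (F'.commShiftIso j).inv.app (s.obj M) := rfl

lemma θ_natural {M M' : A} (u : M ⟶ M') (j : ℤ) :
    F.map ((shiftFunctor B j).map (s.map u)) ≫ (θ s F F' α M' j).hom =
      (θ s F F' α M j).hom ≫ F'.map ((shiftFunctor B j).map (s.map u)) := by
  have h1 := (F.commShiftIso j).hom.naturality (s.map u)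
  have h2 := (F'.commShiftIso j).inv.naturality (s.map u)
  have h3 := α.hom.naturality u
  dsimp at h1 h2 h3
  rw [θ_hom, θ_hom, reassoc_of% h1, Category.assoc, Category.assoc, ← h2,
    ← Functor.map_comp_assoc, h3, Functor.map_comp_assoc]

lemma θ_natural' [s.Full] {M M' : A} (j : ℤ) (g : (s.obj M)⟦j⟧ ⟶ (s.obj M')⟦j⟧) :
    F.map g ≫ (θ s F F' α M' j).hom = (θ s F F' α M j).hom ≫ F'.map g := by
  obtain ⟨g', rfl⟩ := (shiftFunctor B j).map_surjective g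
  obtain ⟨u, rfl⟩ := s.map_surjective g'
  exact θ_natural s F F' α u j

end Theta

section Main

variable (s : A ⥤ B) (F F' : B ⥤ D) [F.CommShift ℤ] [F.IsTriangulated]
  [F'.CommShift ℤ] [F'.IsTriangulated] (α : s ⋙ F ≅ s ⋙ F')
  (h2 : ∀ (X Y : A) (q : ℤ), q < 0 →
      ∀ f : F.obj (s.obj X) ⟶ (shiftFunctor D q).obj (F.obj (s.obj Y)), f = 0)

include h2 in
lemma vanish_shift (M M' : A) (p q : ℤ) (hpq : q < p)
    (f : (shiftFunctor D p).obj (F.obj (s.obj M)) ⟶ (shiftFunctor D q).obj (F.obj (s.obj M'))) :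
    f = 0 := by
  revert f
  apply Groth.Agent.Lib.Helper8.Postnikov.homZero_adj' p (-p) (by omega)
  intro ψ
  let e := (shiftFunctorAdd' D q (-p) (q - p) (by omega)).app (F.obj (s.obj M'))
  have h := h2 M M' (q - p) (by omega) (ψ ≫ e.inv)
  calc ψ = (ψ ≫ e.inv) ≫ e.hom := by rw [Category.assoc, Iso.inv_hom_id, Category.comp_id]
    _ = 0 := by rw [h, zero_comp]

include h2 α in
lemma vanish_single (M M' : A) (p q : ℤ) (hpq : q < p)
    (f : F.obj ((s.obj M)⟦p⟧) ⟶ F'.obj ((s.obj M')⟦q⟧)) : f = 0 := by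
  have h := vanish_shift s F h2 M M' p q hpq
    ((F.commShiftIso p).inv.app (s.obj M) ≫ f ≫ (θ s F F' α M' q).inv ≫
      (F.commShiftIso q).hom.app (s.obj M'))
  have : f = (F.commShiftIso p).hom.app (s.obj M) ≫
      ((F.commShiftIso p).inv.app (s.obj M) ≫ f ≫ (θ s F F' α M' q).inv ≫
      (F.commShiftIso q).hom.app (s.obj M')) ≫ (F.commShiftIso q).inv.app (s.obj M') ≫
      (θ s F F' α M' q).hom := by
    simp
  rw [this, h, zero_comp, comp_zero]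

include h2 in
theorem main [s.Full] : ∀ (n : ℕ) (a : ℤ) (K : B), Cell s n a K →
    (∀ (M : A) (p : ℤ), -a < p → ∀ f : F.obj ((s.obj M)⟦p⟧) ⟶ F'.obj K, f = 0) ∧
    ∃ φ : F.obj K ≅ F'.obj K, ∀ (M : A) (g : (s.obj M)⟦-a⟧ ⟶ K),
      F.map g ≫ φ.hom = (θ s F F' α M (-a)).hom ≫ F'.map g := by
  intro n
  induction n with
  | zero =>
    intro a K hK
    have hK' : IsZero (F'.obj K) := F'.map_isZero hK
    exact ⟨fun M p _ f => hK'.eq_of_tgt _ _,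
      ⟨(F.map_isZero hK).iso hK', fun M g => hK'.eq_of_tgt _ _⟩⟩
  | succ n ih =>
    rintro a K ⟨K₁, M₀, f, g, h, hT, hK₁⟩
    obtain ⟨i₁, -⟩ := ih (a + 1) K₁ hK₁
    obtain ⟨-, φ₁, hφ₁⟩ := ih a (K₁⟦(1 : ℤ)⟧) ((Cell.shift hK₁).congr (by omega))
    have hT' : F'.mapTriangle.obj (Triangle.mk f g h) ∈ distTriang D :=
      F'.map_distinguished _ hT
    have hTF : F.mapTriangle.obj (Triangle.mk f g h) ∈ distTriang D :=
      F.map_distinguished _ hT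
    -- (i)
    have hi : ∀ (M : A) (p : ℤ), -a < p → ∀ x : F.obj ((s.obj M)⟦p⟧) ⟶ F'.obj K, x = 0 := by
      intro M p hp x
      have hx : x ≫ F'.map g = 0 := vanish_single s F F' α h2 M M₀ p (-a) hp _
      obtain ⟨x₁, hx₁⟩ : ∃ x₁ : F.obj ((s.obj M)⟦p⟧) ⟶ F'.obj K₁, x = x₁ ≫ F'.map f :=
        Triangle.coyoneda_exact₂ _ hT' x hx
      rw [hx₁, i₁ M p (by omega) x₁, zero_comp]
    refine ⟨hi, ?_⟩
    -- (ii)
    let ψ₁ : (F.obj K₁)⟦(1 : ℤ)⟧ ≅ (F'.obj K₁)⟦(1 : ℤ)⟧ :=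
      ((F.commShiftIso (1 : ℤ)).app K₁).symm ≪≫ φ₁ ≪≫ (F'.commShiftIso (1 : ℤ)).app K₁
    let φK₁ : F.obj K₁ ≅ F'.obj K₁ := (shiftFunctor D (1 : ℤ)).preimageIso ψ₁
    have hφK₁ : (shiftFunctor D (1 : ℤ)).map φK₁.hom =
        (F.commShiftIso (1 : ℤ)).inv.app K₁ ≫ φ₁.hom ≫ (F'.commShiftIso (1 : ℤ)).hom.app K₁ := by
      simp [φK₁, ψ₁]
    obtain ⟨b, hb₁, hb₂⟩ : ∃ b : F.obj K ⟶ F'.obj K, F.map f ≫ b = φK₁.hom ≫ F'.map f ∧
        F.map g ≫ (θ s F F' α M₀ (-a)).hom = b ≫ F'.map g :=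
      complete_distinguished_triangle_morphism₂ _ _ hTF hT' φK₁.hom
      (θ s F F' α M₀ (-a)).hom (by
        change (F.map h ≫ (F.commShiftIso (1 : ℤ)).hom.app K₁) ≫
          (shiftFunctor D (1 : ℤ)).map φK₁.hom =
          (θ s F F' α M₀ (-a)).hom ≫ F'.map h ≫ (F'.commShiftIso (1 : ℤ)).hom.app K₁
        rw [hφK₁, Category.assoc, Iso.hom_inv_id_app_assoc, reassoc_of% (hφ₁ M₀ h)])
    let Φ : F.mapTriangle.obj (Triangle.mk f g h) ⟶ F'.mapTriangle.obj (Triangle.mk f g h) :=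
      { hom₁ := φK₁.hom
        hom₂ := b
        hom₃ := (θ s F F' α M₀ (-a)).hom
        comm₁ := hb₁
        comm₂ := hb₂
        comm₃ := by
          change (F.map h ≫ (F.commShiftIso (1 : ℤ)).hom.app K₁) ≫
            (shiftFunctor D (1 : ℤ)).map φK₁.hom =
            (θ s F F' α M₀ (-a)).hom ≫ F'.map h ≫ (F'.commShiftIso (1 : ℤ)).hom.app K₁
          rw [hφK₁, Category.assoc, Iso.hom_inv_id_app_assoc, reassoc_of% (hφ₁ M₀ h)] }
    have hb : IsIso b := isIso₂_of_isIso₁₃ Φ hTF hT'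
      (inferInstanceAs (IsIso φK₁.hom)) (inferInstanceAs (IsIso (θ s F F' α M₀ (-a)).hom))
    refine ⟨asIso b, fun M g' => ?_⟩
    have hsub : (F.map g' ≫ b - (θ s F F' α M (-a)).hom ≫ F'.map g') ≫ F'.map g = 0 := by
      rw [Preadditive.sub_comp, Category.assoc, Category.assoc, ← hb₂, ← F.map_comp_assoc,
        ← F'.map_comp, θ_natural' s F F' α (-a) (g' ≫ g), sub_self]
    obtain ⟨d₁, hd₁⟩ : ∃ d₁ : F.obj ((s.obj M)⟦-a⟧) ⟶ F'.obj K₁,
        F.map g' ≫ b - (θ s F F' α M (-a)).hom ≫ F'.map g' = d₁ ≫ F'.map f :=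
      Triangle.coyoneda_exact₂ _ hT' _ hsub
    rw [i₁ M (-a) (by omega) d₁, zero_comp] at hd₁
    exact sub_eq_zero.1 hd₁

end Main


end Helper8.Sib
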