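import Groth.Agent.Lib.Helper8.Sib1
import Groth.Agent.Lib.Helper8.Stupid1
import Groth.Prelude.Def_W4stkfunctorsequivSib

/-!
# Sibling functors, derived part: every object of `D^b(A)` has a cell structure
-/

set_option linter.unusedSectionVars false

universe w v u

open CategoryTheory Limits Pretriangulated DerivedCategory

namespace Helper8.Sib

section Lift

variable {C : Type*} [Category C] [Preadditive C] [HasZeroObject C] [HasShift C ℤ]
  [∀ n : ℤ, (shiftFunctor C n).Additive] [Pretriangulated C]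
  (P : ObjectProperty C) [P.IsTriangulated]

/-- lifting a distinguished triangle to a triangulated full subcategory. -/
lemma exists_lift_triangle (T : Triangle C) (hT : T ∈ distTriang C) (X₁ X₂ X₃ : P.FullSubcategory)
    (e₁ : P.ι.obj X₁ ≅ T.obj₁) (e₂ : P.ι.obj X₂ ≅ T.obj₂) (e₃ : P.ι.obj X₃ ≅ T.obj₃) :
    ∃ (f : X₁ ⟶ X₂) (g : X₂ ⟶ X₃) (h : X₃ ⟶ X₁⟦(1 : ℤ)⟧),
      Triangle.mk f g h ∈ distTriang P.FullSubcategory ∧
      P.ι.map f = e₁.hom ≫ T.mor₁ ≫ e₂.inv ∧ P.ι.map g = e₂.hom ≫ T.mor₂ ≫ e₃.inv := by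
  obtain ⟨f, hf⟩ := P.ι.map_surjective (e₁.hom ≫ T.mor₁ ≫ e₂.inv)
  obtain ⟨g, hg⟩ := P.ι.map_surjective (e₂.hom ≫ T.mor₂ ≫ e₃.inv)
  obtain ⟨h, hh⟩ := P.ι.map_surjective (e₃.hom ≫ T.mor₃ ≫ (shiftFunctor C (1 : ℤ)).map e₁.inv ≫
    (P.ι.commShiftIso (1 : ℤ)).inv.app X₁)
  refine ⟨f, g, h, ?_, hf, hg⟩
  change P.ι.mapTriangle.obj (Triangle.mk f g h) ∈ distTriang C
  refine isomorphic_distinguished _ hT _ (Triangle.isoMk _ _ e₁ e₂ e₃ ?_ ?_ ?_)
  · change P.ι.map f ≫ e₂.hom = e₁.hom ≫ T.mor₁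
    rw [hf]; simp
  · change P.ι.map g ≫ e₃.hom = e₂.hom ≫ T.mor₂
    rw [hg]; simp
  · change (P.ι.map h ≫ (P.ι.commShiftIso (1 : ℤ)).hom.app X₁) ≫
      (shiftFunctor C (1 : ℤ)).map e₁.hom = e₃.hom ≫ T.mor₃
    rw [hh]
    simp only [Category.assoc, Iso.inv_hom_id_app_assoc, ← Functor.map_comp, Iso.inv_hom_id,
      CategoryTheory.Functor.map_id, Category.comp_id]

end Lift

section Derived

variable {A : Type u} [Category.{v} A] [Abelian A] [HasDerivedCategory.{w} A]

open DerivedCategory.TStructure Groth.Agent.Lib.Helper8.Stupid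

instance : (DEquiv.singleB A).Full :=
  Functor.Full.of_comp_faithful_iso (G := (DerivedCategory.Bounded.ι (C := A)))
    (H := DerivedCategory.singleFunctor A 0) (Iso.refl _)

instance : (DEquiv.singleB A).Faithful :=
  Functor.Faithful.of_comp_iso (G := (DerivedCategory.Bounded.ι (C := A)))
    (H := DerivedCategory.singleFunctor A 0) (Iso.refl _)

/-- the underlying object of a shifted single object of `D^b(A)`. -/
noncomputable def ιSingleIso (M : A) (a : ℤ) :
    (DerivedCategory.Bounded.ι (C := A)).obj (((DEquiv.singleB A).obj M)⟦-a⟧) ≅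
      Q.obj ((HomologicalComplex.single A (ComplexShape.up ℤ) a).obj M) :=
  ((DerivedCategory.Bounded.ι (C := A)).commShiftIso (-a)).app _ ≪≫
    ((DerivedCategory.singleFunctors A).shiftIso (-a) a 0 (by omega)).app M ≪≫
    (singleFunctorIsoCompQ A a).app M

lemma isZero_of_isZero_ι (K : DerivedCategory.Bounded A)
    (h : IsZero ((DerivedCategory.Bounded.ι (C := A)).obj K)) : IsZero K := by
  rw [IsZero.iff_id_eq_zero]
  apply (DerivedCategory.Bounded.ι (C := A)).map_injective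
  exact h.eq_of_src _ _

lemma cell_of_iso : ∀ (n : ℕ) (L : CochainComplex A ℤ) (a : ℤ),
    (∀ i : ℤ, i < a ∨ a + n ≤ i → IsZero (L.X i)) → ∀ (K : DerivedCategory.Bounded A),
    ((DerivedCategory.Bounded.ι (C := A)).obj K ≅ Q.obj L) → Cell (DEquiv.singleB A) n a K := by
  intro n
  induction n with
  | zero =>
    intro L a hL K e
    apply isZero_of_isZero_ι
    refine IsZero.of_iso (Functor.map_isZero Q ?_) e
    rw [IsZero.iff_id_eq_zero]
    ext i
    exact (hL i (by simp; omega)).eq_of_src _ _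
  | succ n ih =>
    intro L a hL K e
    have hL' : ∀ i : ℤ, i < a → IsZero (L.X i) := fun i hi => hL i (Or.inl hi)
    have hT := triangleOfSES_distinguished (sc_shortExact L a hL')
    let S : DerivedCategory.Bounded A := ((DEquiv.singleB A).obj (L.X a))⟦-a⟧
    have hb₂ : t.bounded (Q.obj L) := t.bounded.prop_of_iso e K.property
    have hb₃ : t.bounded (Q.obj ((HomologicalComplex.single A (ComplexShape.up ℤ) a).obj (L.X a))) :=
      t.bounded.prop_of_iso (ιSingleIso (L.X a) a) S.property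
    have hb₁ : t.bounded (Q.obj (σ L a hL')) :=
      t.bounded.ext_of_isTriangulatedClosed₁ _ hT hb₂ hb₃
    let K₁ : DerivedCategory.Bounded A := ⟨Q.obj (σ L a hL'), hb₁⟩
    obtain ⟨f, g, h, hdist, -, -⟩ := exists_lift_triangle t.bounded _ hT K₁ K S
      (Iso.refl _) e (ιSingleIso (L.X a) a)
    refine ⟨K₁, L.X a, f, g, h, hdist, ih (σ L a hL') (a + 1) ?_ K₁ (Iso.refl _)⟩
    intro i hi
    by_cases hia : i = a
    · subst hia
      exact isZero_σ_X L i hL'
    · exact (hL i (by push_cast; omega)).of_iso (σXIso L a hL' i hia)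

theorem exists_cell (K : DerivedCategory.Bounded A) :
    ∃ (n : ℕ) (a : ℤ), Cell (DEquiv.singleB A) n a K := by
  obtain ⟨⟨a, ha⟩, ⟨b, hb⟩⟩ := K.property
  have : K.obj.IsGE a := ha
  have : K.obj.IsLE b := hb
  obtain ⟨L, hLa, hLb, ⟨e⟩⟩ := exists_iso_Q_obj_of_isGE_of_isLE K.obj a b
  refine ⟨(b + 1 - a).toNat, a, cell_of_iso _ L a ?_ K e⟩
  rintro i (hi | hi)
  · exact L.isZero_of_isStrictlyGE a i hi
  · exact L.isZero_of_isStrictlyLE b i (by omega)

end Derived

end Helper8.Sib
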