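import Mathlib.Algebra.Homology.DerivedCategory.TStructure
import Mathlib.CategoryTheory.Triangulated.TStructure.TruncLTGE
import Mathlib.Algebra.Homology.DerivedCategory.FullyFaithful
import Mathlib.Algebra.Homology.DerivedCategory.HomologySequence

/-!
# Top term lemma and effaceability in the derived category

* `Helper8.TopTerm.exists_single_to` : if `X ∈ D^{≤ b}`, there are `M` and `g : M[-b] ⟶ X` with
  `H^b(g)` an epimorphism.
* `Helper8.TopTerm.exists_kill` : if `X' ∈ D^{≤ b-1}` and `φ : M[-b] ⟶ X'`, there is an epi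
  `p : M' ⟶ M` with `p[-b] ≫ φ = 0`.
-/

universe w v u

open CategoryTheory Limits Pretriangulated DerivedCategory

namespace Helper8.TopTerm

variable {A : Type u} [Category.{v} A] [Abelian A] [HasDerivedCategory.{w} A]

omit [HasDerivedCategory.{w} A] in
/-- chain level: the top term of a complex strictly `≤ b` surjects onto `H^b`. -/
lemma epi_homologyMap_mkHomFromSingle (K : CochainComplex A ℤ) (b : ℤ) [K.IsStrictlyLE b] :
    Epi (HomologicalComplex.homologyMap
      (HomologicalComplex.mkHomFromSingle (c := ComplexShape.up ℤ) (K := K) (j := b) (𝟙 (K.X b))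
        (fun k _ => (K.isZero_of_isStrictlyLE b k (by
          have : b + 1 = k := by simpa using ‹(ComplexShape.up ℤ).Rel b k›
          omega)).eq_of_tgt _ _)) b) := by
  set g₀ := (HomologicalComplex.mkHomFromSingle (c := ComplexShape.up ℤ) (K := K) (j := b)
    (𝟙 (K.X b))
        (fun k _ => (K.isZero_of_isStrictlyLE b k (by
          have : b + 1 = k := by simpa using ‹(ComplexShape.up ℤ).Rel b k›
          omega)).eq_of_tgt _ _)) with hg₀
  have hKd : K.d b (b + 1) = 0 := (K.isZero_of_isStrictlyLE b (b + 1) (by omega)).eq_of_tgt _ _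
  have h1 : IsIso (K.iCycles b) := K.isIso_iCycles b (b + 1) (by simp) hKd
  let S := (HomologicalComplex.single A (ComplexShape.up ℤ) b).obj (K.X b)
  have h2 : IsIso (S.iCycles b) := S.isIso_iCycles b (b + 1) (by simp) (by simp [S])
  have h3 : IsIso (g₀.f b) := by
    rw [hg₀, HomologicalComplex.mkHomFromSingle_f, Category.comp_id]
    infer_instance
  have h4 : IsIso (HomologicalComplex.cyclesMap g₀ b) := by
    have e := HomologicalComplex.cyclesMap_i g₀ b
    have : IsIso (HomologicalComplex.cyclesMap g₀ b ≫ K.iCycles b) := by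
      rw [e]; infer_instance
    exact IsIso.of_isIso_comp_right _ (K.iCycles b)
  have e := HomologicalComplex.homologyπ_naturality g₀ b
  have : Epi (S.homologyπ b ≫ HomologicalComplex.homologyMap g₀ b) := by
    rw [e]; infer_instance
  exact epi_of_epi (S.homologyπ b) _

/-- **Top term lemma**. -/
lemma exists_single_to (X : DerivedCategory A) (b : ℤ) [X.IsLE b] :
    ∃ (M : A) (g : (DerivedCategory.singleFunctor A b).obj M ⟶ X),
      Epi ((DerivedCategory.homologyFunctor A b).map g) := by
  obtain ⟨K, hK, ⟨e⟩⟩ := X.exists_iso_Q_obj_of_isLE b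
  let g₀ : (HomologicalComplex.single A (ComplexShape.up ℤ) b).obj (K.X b) ⟶ K :=
    (HomologicalComplex.mkHomFromSingle (c := ComplexShape.up ℤ) (K := K) (j := b)
    (𝟙 (K.X b))
        (fun k _ => (K.isZero_of_isStrictlyLE b k (by
          have : b + 1 = k := by simpa using ‹(ComplexShape.up ℤ).Rel b k›
          omega)).eq_of_tgt _ _))
  have h0 : Epi (HomologicalComplex.homologyMap g₀ b) := epi_homologyMap_mkHomFromSingle K b
  have h1 : Epi ((DerivedCategory.homologyFunctor A b).map (Q.map g₀)) := by
    have nat := (homologyFunctorFactors A b).hom.naturality g₀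
    have h0' : Epi ((HomologicalComplex.homologyFunctor A (ComplexShape.up ℤ) b).map g₀) := h0
    have : Epi ((Q ⋙ DerivedCategory.homologyFunctor A b).map g₀ ≫
        (homologyFunctorFactors A b).hom.app K) := by
      rw [nat]; infer_instance
    have : Epi ((Q ⋙ DerivedCategory.homologyFunctor A b).map g₀) := by
      have h := epi_comp ((Q ⋙ DerivedCategory.homologyFunctor A b).map g₀ ≫
        (homologyFunctorFactors A b).hom.app K) ((homologyFunctorFactors A b).inv.app K)
      simpa using h
    exact this
  refine ⟨K.X b, (singleFunctorIsoCompQ A b).hom.app (K.X b) ≫ Q.map g₀ ≫ e.inv, ?_⟩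
  rw [Functor.map_comp, Functor.map_comp]
  have h2 : IsIso ((homologyFunctor A b).map e.inv) := inferInstance
  have h3 : IsIso ((homologyFunctor A b).map ((singleFunctorIsoCompQ A b).hom.app (K.X b))) :=
    inferInstance
  have h4 : Epi ((homologyFunctor A b).map (Q.map g₀) ≫ (homologyFunctor A b).map e.inv) :=
    @epi_comp _ _ _ _ _ _ h1 _ inferInstance
  exact @epi_comp _ _ _ _ _ _ inferInstance _ h4

/-- an epimorphism is detected after `singleFunctor` and `homologyFunctor`. -/
lemma epi_of_epi_homology_single {M' M : A} (p : M' ⟶ M) (b : ℤ)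
    (h : Epi ((DerivedCategory.homologyFunctor A b).map
      ((DerivedCategory.singleFunctor A b).map p))) : Epi p := by
  have nat := (singleFunctorCompHomologyFunctorIso A b).hom.naturality p
  dsimp at nat
  have : p = (singleFunctorCompHomologyFunctorIso A b).inv.app M' ≫
      ((DerivedCategory.homologyFunctor A b).map ((DerivedCategory.singleFunctor A b).map p)) ≫
      (singleFunctorCompHomologyFunctorIso A b).hom.app M := by
    rw [nat]; simp
  rw [this]
  have h4 : Epi (((DerivedCategory.homologyFunctor A b).map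
      ((DerivedCategory.singleFunctor A b).map p)) ≫
      (singleFunctorCompHomologyFunctorIso A b).hom.app M) :=
    @epi_comp _ _ _ _ _ _ h _ inferInstance
  exact @epi_comp _ _ _ _ _ _ inferInstance _ h4

/-- **Kill lemma** (effaceability of positive Ext classes). -/
lemma exists_kill (M : A) (b : ℤ) (X' : DerivedCategory A) [X'.IsLE (b - 1)]
    (φ : (DerivedCategory.singleFunctor A b).obj M ⟶ X') :
    ∃ (M' : A) (p : M' ⟶ M), Epi p ∧ (DerivedCategory.singleFunctor A b).map p ≫ φ = 0 := by
  obtain ⟨C, i, δ, hT⟩ := distinguished_cocone_triangle₁ φ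
  have h₁ : DerivedCategory.TStructure.t.IsLE (X'⟦(-1 : ℤ)⟧) b :=
    DerivedCategory.TStructure.t.isLE_shift X' (b - 1) (-1) b (by omega)
  have h₃ : DerivedCategory.TStructure.t.IsLE ((DerivedCategory.singleFunctor A b).obj M) b :=
    inferInstance
  have hC : C.IsLE b :=
    DerivedCategory.TStructure.t.isLE₂ _ (inv_rot_of_distTriang _ hT) b h₁ h₃
  have hex := (DerivedCategory.homologyFunctor A b).map_distinguished_exact _ hT
  have hz : IsZero ((DerivedCategory.homologyFunctor A b).obj X') :=
    X'.isZero_of_isLE (b - 1) b (by omega)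
  have hepi : Epi ((DerivedCategory.homologyFunctor A b).map i) :=
    hex.epi_f (hz.eq_of_tgt _ _)
  obtain ⟨M', g, hg⟩ := exists_single_to C b
  obtain ⟨p, hp⟩ := (DerivedCategory.singleFunctor A b).map_surjective (g ≫ i)
  refine ⟨M', p, ?_, ?_⟩
  · apply epi_of_epi_homology_single p b
    rw [hp, Functor.map_comp]
    exact epi_comp _ _
  · rw [hp, Category.assoc]
    have : i ≫ φ = 0 := comp_distTriang_mor_zero₁₂ _ hT
    rw [this, comp_zero]

lemma epi_homology_single_of_epi {M' M : A} (p : M' ⟶ M) (b : ℤ) [Epi p] :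
    Epi ((DerivedCategory.homologyFunctor A b).map
      ((DerivedCategory.singleFunctor A b).map p)) := by
  have nat := (singleFunctorCompHomologyFunctorIso A b).hom.naturality p
  dsimp at nat
  have : ((DerivedCategory.homologyFunctor A b).map ((DerivedCategory.singleFunctor A b).map p)) =
      (singleFunctorCompHomologyFunctorIso A b).hom.app M' ≫ p ≫
      (singleFunctorCompHomologyFunctorIso A b).inv.app M := by
    rw [← reassoc_of% nat]; simp
  rw [this]
  have h4 : Epi (p ≫ (singleFunctorCompHomologyFunctorIso A b).inv.app M) :=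
    epi_comp _ _
  exact @epi_comp _ _ _ _ _ _ inferInstance _ h4

/-- S6707. -/
theorem exists_negative_map
    (hneg : ∀ X : A, ∃ (N : A) (p : N ⟶ X), Epi p ∧ ∀ f : X ⟶ N, f = 0)
    (X X' : DerivedCategory A) (f : X ⟶ X') (b : ℤ) [X.IsLE b] [X'.IsLE (b - 1)] :
    ∃ (N : A) (g : (DerivedCategory.singleFunctor A b).obj N ⟶ X),
      Epi ((DerivedCategory.homologyFunctor A b).map g) ∧
        (∀ φ : (DerivedCategory.homologyFunctor A b).obj X ⟶ N, φ = 0) ∧ g ≫ f = 0 := by
  obtain ⟨M, g₁, hg₁⟩ := exists_single_to X b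
  obtain ⟨M', p, hp, hkill⟩ := exists_kill M b X' (g₁ ≫ f)
  obtain ⟨N, q, hq, hN⟩ := hneg (M' ⊞ (DerivedCategory.homologyFunctor A b).obj X)
  have hr : Epi (q ≫ biprod.fst ≫ p) := by
    have : Epi ((biprod.fst : M' ⊞ (DerivedCategory.homologyFunctor A b).obj X ⟶ M') ≫ p) :=
      epi_comp _ _
    exact epi_comp _ _
  refine ⟨N, (DerivedCategory.singleFunctor A b).map (q ≫ biprod.fst ≫ p) ≫ g₁, ?_, ?_, ?_⟩
  · rw [Functor.map_comp]
    have := epi_homology_single_of_epi (q ≫ biprod.fst ≫ p) b
    exact epi_comp _ _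
  · intro φ
    have h := hN (biprod.snd ≫ φ)
    have : φ = (biprod.inr : _ ⟶ M' ⊞ (DerivedCategory.homologyFunctor A b).obj X) ≫
        biprod.snd ≫ φ := by simp
    rw [this, h, comp_zero]
  · have : (DerivedCategory.singleFunctor A b).map (q ≫ biprod.fst ≫ p) =
        (DerivedCategory.singleFunctor A b).map (q ≫ biprod.fst) ≫
          (DerivedCategory.singleFunctor A b).map p := by
      rw [← Functor.map_comp, Category.assoc]
    rw [this, Category.assoc, Category.assoc, hkill, comp_zero]

end Helper8.TopTerm
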