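import Groth.Agent.Lib.Helper8.Sib2
import Groth.Agent.Lib.Helper8.Sib3
import Groth.Agent.Lib.Helper8.TopTerm
import Mathlib.Algebra.Homology.DerivedCategory.SingleTriangle

/-!
# Siblings of a fully faithful functor are fully faithful
-/

set_option linter.unusedSectionVars false

universe w v u v' u'

open CategoryTheory Limits Pretriangulated DerivedCategory

namespace Helper8.Sib

open DerivedCategory.TStructure

variable {A : Type u} [Category.{v} A] [Abelian A] [HasDerivedCategory.{w} A]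

variable (A) in
/-- the inclusion `D^b(A) ⥤ D(A)`. -/
noncomputable abbrev ιB : DerivedCategory.Bounded A ⥤ DerivedCategory A :=
  DerivedCategory.Bounded.ι

variable (A) in
/-- `A ⥤ D^b(A)`. -/
noncomputable abbrev sB : A ⥤ DerivedCategory.Bounded A := DEquiv.singleB A

lemma isLE_ι_shift_single (Y : A) (q : ℤ) : t.IsLE ((ιB A).obj (((sB A).obj Y)⟦q⟧)) (-q) := by
  have : t.IsLE (((DerivedCategory.singleFunctor A 0).obj Y)⟦q⟧) (-q) :=
    t.isLE_shift ((DerivedCategory.singleFunctor A 0).obj Y) 0 q (-q) (by omega)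
  have e : (ιB A).obj (((sB A).obj Y)⟦q⟧) ≅ ((DerivedCategory.singleFunctor A 0).obj Y)⟦q⟧ :=
    ((ιB A).commShiftIso q).app ((sB A).obj Y)
  exact t.isLE_of_iso e.symm (-q)

lemma isGE_ι_shift_single (Y : A) (q : ℤ) : t.IsGE ((ιB A).obj (((sB A).obj Y)⟦q⟧)) (-q) := by
  have : t.IsGE (((DerivedCategory.singleFunctor A 0).obj Y)⟦q⟧) (-q) :=
    t.isGE_shift ((DerivedCategory.singleFunctor A 0).obj Y) 0 q (-q) (by omega)
  have e : (ιB A).obj (((sB A).obj Y)⟦q⟧) ≅ ((DerivedCategory.singleFunctor A 0).obj Y)⟦q⟧ :=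
    ((ιB A).commShiftIso q).app ((sB A).obj Y)
  exact t.isGE_of_iso e.symm (-q)

/-- negative Ext groups vanish in `D^b(A)`. -/
lemma hom_single_eq_zero (X Y : A) (q : ℤ) (hq : q < 0) (e : (sB A).obj X ⟶ ((sB A).obj Y)⟦q⟧) : e = 0 := by
  apply (ιB A).map_injective
  rw [Functor.map_zero]
  have h1 : t.IsLE ((ιB A).obj ((sB A).obj X)) 0 :=
    inferInstanceAs (t.IsLE ((DerivedCategory.singleFunctor A 0).obj X) 0)
  have h2 := isGE_ι_shift_single Y q
  exact t.zero_of_isLE_of_isGE ((ιB A).map e) 0 (-q) (by omega) h1 h2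

/-- the kill lemma in `D^b(A)`. -/
lemma exists_kill_B (X : A) (Z : DerivedCategory.Bounded A) (hZ : t.IsLE ((ιB A).obj Z) (-1))
    (e : (sB A).obj X ⟶ Z) : ∃ (X' : A) (p : X' ⟶ X), Epi p ∧ (sB A).map p ≫ e = 0 := by
  have : ((ιB A).obj Z).IsLE (0 - 1) := hZ
  obtain ⟨X', p, hp, h⟩ := Helper8.TopTerm.exists_kill X 0 ((ιB A).obj Z) ((ιB A).map e)
  refine ⟨X', p, hp, (ιB A).map_injective ?_⟩
  rw [Functor.map_comp, Functor.map_zero]
  exact h

/-- the triangle in `D^b(A)` of an epimorphism in `A`. -/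
lemma exists_triangle_of_epi {X' X : A} (p : X' ⟶ X) [Epi p] :
    ∃ (δ : (sB A).obj X ⟶ ((sB A).obj (kernel p))⟦(1 : ℤ)⟧),
      Triangle.mk ((sB A).map (kernel.ι p)) ((sB A).map p) δ ∈ distTriang (DerivedCategory.Bounded A) := by
  let S := ShortComplex.mk (kernel.ι p) p (kernel.condition p)
  have hS : S.ShortExact :=
    { exact := ShortComplex.exact_kernel p
      mono_f := inferInstanceAs (Mono (kernel.ι p))
      epi_g := inferInstanceAs (Epi p) }
  obtain ⟨f, g, h, hdist, hf, hg⟩ := exists_lift_triangle t.bounded _ hS.singleTriangle_distinguished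
    ((sB A).obj (kernel p)) ((sB A).obj X') ((sB A).obj X) (Iso.refl _) (Iso.refl _) (Iso.refl _)
  have hf' : f = (sB A).map (kernel.ι p) := by
    apply (ιB A).map_injective
    rw [hf]
    change 𝟙 _ ≫ (DerivedCategory.singleFunctor A 0).map (kernel.ι p) ≫ 𝟙 _ =
      (DerivedCategory.singleFunctor A 0).map (kernel.ι p)
    rw [Category.id_comp, Category.comp_id]
  have hg' : g = (sB A).map p := by
    apply (ιB A).map_injective
    rw [hg]
    change 𝟙 _ ≫ (DerivedCategory.singleFunctor A 0).map p ≫ 𝟙 _ =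
      (DerivedCategory.singleFunctor A 0).map p
    rw [Category.id_comp, Category.comp_id]
  subst hf' hg'
  exact ⟨h, hdist⟩

section Main

variable {D : Type u'} [Category.{v'} D] [Preadditive D] [HasZeroObject D] [HasShift D ℤ]
  [∀ n : ℤ, (shiftFunctor D n).Additive] [Pretriangulated D]
  (F F' : DerivedCategory.Bounded A ⥤ D) [F.CommShift ℤ] [F.IsTriangulated]
  [F'.CommShift ℤ] [F'.IsTriangulated]
  (α : sB A ⋙ F ≅ sB A ⋙ F') (β : ∀ K : DerivedCategory.Bounded A, F.obj K ≅ F'.obj K)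
  [F.Full] [F.Faithful]

lemma map_single_eq {X X' : A} (p : X' ⟶ X) :
    F'.map ((sB A).map p) = α.inv.app X' ≫ F.map ((sB A).map p) ≫ α.hom.app X := by
  have h := α.hom.naturality p
  dsimp at h
  rw [h, Iso.inv_hom_id_app_assoc]

include α β in
/-- if `Hom(sX, Z) = 0` then `Hom(F' sX, F' Z) = 0`. -/
lemma hom_F'_eq_zero (X : A) (Z : DerivedCategory.Bounded A)
    (hZ : ∀ e : (sB A).obj X ⟶ Z, e = 0) (ξ : F'.obj ((sB A).obj X) ⟶ F'.obj Z) : ξ = 0 := by
  obtain ⟨e, he⟩ := F.map_surjective (α.hom.app X ≫ ξ ≫ (β Z).inv)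
  rw [hZ e, F.map_zero] at he
  have : ξ = α.inv.app X ≫ (α.hom.app X ≫ ξ ≫ (β Z).inv) ≫ (β Z).hom := by simp
  rw [this, ← he, zero_comp, comp_zero]

include α β in
/-- effaceability for `F'`. -/
lemma exists_kill_F' (X : A) (Z : DerivedCategory.Bounded A) (hZ : t.IsLE ((ιB A).obj Z) (-1))
    (ξ : F'.obj ((sB A).obj X) ⟶ F'.obj Z) :
    ∃ (X' : A) (p : X' ⟶ X), Epi p ∧ F'.map ((sB A).map p) ≫ ξ = 0 := by
  obtain ⟨e, he⟩ := F.map_surjective (α.hom.app X ≫ ξ ≫ (β Z).inv)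
  obtain ⟨X', p, hp, hpe⟩ := exists_kill_B X Z hZ e
  refine ⟨X', p, hp, ?_⟩
  have : ξ = α.inv.app X ≫ F.map e ≫ (β Z).hom := by rw [he]; simp
  rw [map_single_eq F F' α p, this]
  simp only [Category.assoc, Iso.hom_inv_id_app_assoc]
  rw [← F.map_comp_assoc, hpe, F.map_zero, zero_comp, comp_zero]

include α in
lemma bij_single_zero (X Y : A) : Bij F' ((sB A).obj X) ((sB A).obj Y) := by
  apply bij_of_kernel
  · intro x hx
    obtain ⟨u, rfl⟩ := (sB A).map_surjective x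
    rw [map_single_eq F F' α u] at hx
    have h1 : F.map ((sB A).map u) = 0 := by
      have := congrArg (fun z => α.hom.app X ≫ z ≫ α.inv.app Y) hx
      simpa using this
    exact F.map_injective (by rw [h1, F.map_zero])
  · intro y
    obtain ⟨x, hx⟩ := F.map_surjective (α.hom.app X ≫ y ≫ α.inv.app Y)
    obtain ⟨u, rfl⟩ := (sB A).map_surjective x
    refine ⟨(sB A).map u, ?_⟩
    rw [map_single_eq F F' α u, hx]
    simp

include α β in
lemma bij_single_neg (X Y : A) (q : ℤ) (hq : q < 0) :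
    Bij F' ((sB A).obj X) (((sB A).obj Y)⟦q⟧) := by
  have h1 := hom_single_eq_zero X Y q hq
  have h2 := hom_F'_eq_zero F F' α β X _ h1
  exact ⟨fun x x' _ => (h1 x).trans (h1 x').symm, fun y => ⟨0, (h2 _).trans (h2 y).symm⟩⟩

include α β in
lemma bij_single_nat (q : ℕ) : ∀ (X Y : A), Bij F' ((sB A).obj X) (((sB A).obj Y)⟦(q : ℤ)⟧) := by
  induction q with
  | zero =>
    intro X Y
    exact (bij_single_zero F F' α X Y).of_iso (Iso.refl _)
      ((shiftFunctorZero (DerivedCategory.Bounded A) ℤ).app _).symm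
  | succ q ih =>
    intro X Y
    set W : DerivedCategory.Bounded A := ((sB A).obj Y)⟦((q + 1 : ℕ) : ℤ)⟧ with hW
    have hWle : t.IsLE ((ιB A).obj W) (-1) := by
      have := isLE_ι_shift_single Y ((q + 1 : ℕ) : ℤ)
      exact t.isLE_of_le _ (-((q + 1 : ℕ) : ℤ)) (-1) (by push_cast; omega)
    have HX : ∀ X'' : A, Bij F' (((sB A).obj X'')⟦(1 : ℤ)⟧) W := fun X'' =>
      ((ih X'' Y).shift 1).of_iso (Iso.refl _)
        ((shiftFunctorAdd' (DerivedCategory.Bounded A) (q : ℤ) 1 ((q + 1 : ℕ) : ℤ)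
          (by push_cast; rfl)).app _).symm
    apply bij_of_kernel
    · intro e he
      obtain ⟨X', p, hp, hpe⟩ := exists_kill_B X W hWle e
      obtain ⟨δ, hT⟩ := exists_triangle_of_epi p
      have hT₁ := rot_of_distTriang _ hT
      have hT₂ := rot_of_distTriang _ hT₁
      obtain ⟨e'', rfl⟩ : ∃ e'' : ((sB A).obj (kernel p))⟦(1 : ℤ)⟧ ⟶ W, e = δ ≫ e'' :=
        Triangle.yoneda_exact₂ _ hT₁ e hpe
      have h1 : F'.map δ ≫ F'.map e'' = 0 := by rw [← F'.map_comp, he]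
      obtain ⟨ζ, hζ⟩ : ∃ ζ : F'.obj (((sB A).obj X')⟦(1 : ℤ)⟧) ⟶ F'.obj W,
          F'.map e'' = F'.map (-(shiftFunctor _ (1 : ℤ)).map ((sB A).map (kernel.ι p))) ≫ ζ :=
        Triangle.yoneda_exact₂ _ (F'.map_distinguished _ hT₂) (F'.map e'') h1
      obtain ⟨e', rfl⟩ := (HX X').2 ζ
      have h2 : e'' = (-(shiftFunctor _ (1 : ℤ)).map ((sB A).map (kernel.ι p))) ≫ e' :=
        (HX (kernel p)).1 (by rw [hζ, F'.map_comp])
      have h3 : δ ≫ (-(shiftFunctor _ (1 : ℤ)).map ((sB A).map (kernel.ι p))) = 0 :=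
        comp_distTriang_mor_zero₂₃ _ hT₁
      rw [h2, reassoc_of% h3, zero_comp]
    · intro ξ
      obtain ⟨X', p, hp, hpξ⟩ := exists_kill_F' F F' α β X W hWle ξ
      obtain ⟨δ, hT⟩ := exists_triangle_of_epi p
      have hT₁ := rot_of_distTriang _ hT
      obtain ⟨ξ'', hξ''⟩ : ∃ ξ'' : F'.obj (((sB A).obj (kernel p))⟦(1 : ℤ)⟧) ⟶ F'.obj W,
          ξ = F'.map δ ≫ ξ'' :=
        Triangle.yoneda_exact₂ _ (F'.map_distinguished _ hT₁) ξ hpξ
      obtain ⟨e'', rfl⟩ := (HX (kernel p)).2 ξ''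
      exact ⟨δ ≫ e'', by rw [F'.map_comp, hξ'']⟩

include α β in
lemma bij_single (X Y : A) (q : ℤ) : Bij F' ((sB A).obj X) (((sB A).obj Y)⟦q⟧) := by
  by_cases hq : q < 0
  · exact bij_single_neg F F' α β X Y q hq
  · obtain ⟨n, rfl⟩ := Int.eq_ofNat_of_zero_le (not_lt.1 hq)
    exact bij_single_nat F F' α β n X Y

include α β in
theorem bij_all (K L : DerivedCategory.Bounded A) : Bij F' K L := by
  refine bij_of_cells (sB A) F' exists_cell ?_ K L
  intro X Y p q
  exact ((bij_single F F' α β X Y (q - p)).shift p).of_iso (Iso.refl _)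
    ((shiftFunctorAdd' (DerivedCategory.Bounded A) (q - p) p q (by omega)).app _).symm

end Main

end Helper8.Sib
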