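import Groth.Agent.Lib.Helper8.TopTerm
import Groth.Agent.Lib.Helper8.WayOut2

/-!
# Negative objects: presentations of objects of `D(A)` by negative top cells
-/

set_option linter.unusedSectionVars false

universe w v u

open CategoryTheory Limits Pretriangulated DerivedCategory

namespace Helper8.Sib

open DerivedCategory.TStructure Helper8.TopTerm

variable {A : Type u} [Category.{v} A] [Abelian A] [HasDerivedCategory.{w} A]

/-- kill two maps at once. -/
lemma exists_kill₂ (M : A) (b : ℤ) (X₁ X₂ : DerivedCategory A) [X₁.IsLE (b - 1)] [X₂.IsLE (b - 1)]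
    (φ₁ : (DerivedCategory.singleFunctor A b).obj M ⟶ X₁)
    (φ₂ : (DerivedCategory.singleFunctor A b).obj M ⟶ X₂) :
    ∃ (M' : A) (p : M' ⟶ M), Epi p ∧ (DerivedCategory.singleFunctor A b).map p ≫ φ₁ = 0 ∧
      (DerivedCategory.singleFunctor A b).map p ≫ φ₂ = 0 := by
  obtain ⟨M₁, p₁, hp₁, h₁⟩ := exists_kill M b X₁ φ₁
  obtain ⟨M₂, p₂, hp₂, h₂⟩ := exists_kill M₁ b X₂ ((DerivedCategory.singleFunctor A b).map p₁ ≫ φ₂)
  refine ⟨M₂, p₂ ≫ p₁, epi_comp _ _, ?_, ?_⟩
  · rw [Functor.map_comp, Category.assoc, h₁, comp_zero]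
  · rw [Functor.map_comp, Category.assoc, h₂]

/-- generalized S6707: a negative top cell killing two maps to `D^{≤ b-1}` and negative with respect
to an extra object `Z`. -/
theorem exists_negative_map₂
    (hneg : ∀ X : A, ∃ (N : A) (p : N ⟶ X), Epi p ∧ ∀ f : X ⟶ N, f = 0)
    (X X₁ X₂ : DerivedCategory A) (f₁ : X ⟶ X₁) (f₂ : X ⟶ X₂) (b : ℤ) [X.IsLE b]
    [X₁.IsLE (b - 1)] [X₂.IsLE (b - 1)] (Z : A) :
    ∃ (N : A) (g : (DerivedCategory.singleFunctor A b).obj N ⟶ X),
      Epi ((DerivedCategory.homologyFunctor A b).map g) ∧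
        (∀ φ : (DerivedCategory.homologyFunctor A b).obj X ⟶ N, φ = 0) ∧
        (∀ φ : Z ⟶ N, φ = 0) ∧ g ≫ f₁ = 0 ∧ g ≫ f₂ = 0 := by
  obtain ⟨M, g₁, hg₁⟩ := exists_single_to X b
  obtain ⟨M', p, hp, hkill₁, hkill₂⟩ := exists_kill₂ M b X₁ X₂ (g₁ ≫ f₁) (g₁ ≫ f₂)
  obtain ⟨N, q, hq, hN⟩ := hneg (M' ⊞ ((DerivedCategory.homologyFunctor A b).obj X ⊞ Z))
  have hr : Epi (q ≫ biprod.fst ≫ p) := by
    have : Epi ((biprod.fst : M' ⊞ ((DerivedCategory.homologyFunctor A b).obj X ⊞ Z) ⟶ M') ≫ p) :=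
      epi_comp _ _
    exact epi_comp _ _
  have hmap : (DerivedCategory.singleFunctor A b).map (q ≫ biprod.fst ≫ p) =
      (DerivedCategory.singleFunctor A b).map (q ≫ biprod.fst) ≫
        (DerivedCategory.singleFunctor A b).map p := by
    rw [← Functor.map_comp, Category.assoc]
  refine ⟨N, (DerivedCategory.singleFunctor A b).map (q ≫ biprod.fst ≫ p) ≫ g₁, ?_, ?_, ?_, ?_, ?_⟩
  · rw [Functor.map_comp]
    have := epi_homology_single_of_epi (q ≫ biprod.fst ≫ p) b
    exact epi_comp _ _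
  · intro φ
    have h := hN (biprod.snd ≫ biprod.fst ≫ φ)
    have : φ = (biprod.inl : _ ⟶ (DerivedCategory.homologyFunctor A b).obj X ⊞ Z) ≫
        (biprod.inr : _ ⟶ M' ⊞ ((DerivedCategory.homologyFunctor A b).obj X ⊞ Z)) ≫
        biprod.snd ≫ biprod.fst ≫ φ := by simp
    rw [this, h, comp_zero, comp_zero]
  · intro φ
    have h := hN (biprod.snd ≫ biprod.snd ≫ φ)
    have : φ = (biprod.inr : _ ⟶ (DerivedCategory.homologyFunctor A b).obj X ⊞ Z) ≫
        (biprod.inr : _ ⟶ M' ⊞ ((DerivedCategory.homologyFunctor A b).obj X ⊞ Z)) ≫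
        biprod.snd ≫ biprod.snd ≫ φ := by simp
    rw [this, h, comp_zero, comp_zero]
  · rw [hmap, Category.assoc, Category.assoc, hkill₁, comp_zero]
  · rw [hmap, Category.assoc, Category.assoc, hkill₂, comp_zero]

/-- a map `single_b(H) ⟶ single_b(N)` inducing zero on `H^b` is zero. -/
lemma single_map_eq_zero_of_homology {H N : A} (b : ℤ)
    (e : (DerivedCategory.singleFunctor A b).obj H ⟶ (DerivedCategory.singleFunctor A b).obj N)
    (he : (DerivedCategory.homologyFunctor A b).map e = 0) : e = 0 := by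
  obtain ⟨u, rfl⟩ := (DerivedCategory.singleFunctor A b).map_surjective e
  have nat := (singleFunctorCompHomologyFunctorIso A b).hom.naturality u
  dsimp at nat
  rw [he, zero_comp] at nat
  have hu : u = 0 := by
    have : (singleFunctorCompHomologyFunctorIso A b).hom.app H ≫ u = 0 := nat.symm
    rw [← cancel_epi ((singleFunctorCompHomologyFunctorIso A b).hom.app H), this, comp_zero]
  rw [hu, Functor.map_zero]

/-- (T2) `Hom(X, N[-b]) = 0` if `X ∈ D^{≤ b}` and `Hom(H^b X, N) = 0`. -/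
lemma hom_to_single_eq_zero (X : DerivedCategory A) (b : ℤ) [X.IsLE b] (N : A)
    (h : ∀ φ : (DerivedCategory.homologyFunctor A b).obj X ⟶ N, φ = 0)
    (e : X ⟶ (DerivedCategory.singleFunctor A b).obj N) : e = 0 := by
  -- H^b(e) = 0
  have he : (DerivedCategory.homologyFunctor A b).map e = 0 := by
    have := h ((DerivedCategory.homologyFunctor A b).map e ≫
      (singleFunctorCompHomologyFunctorIso A b).hom.app N)
    rw [← cancel_mono ((singleFunctorCompHomologyFunctorIso A b).hom.app N), zero_comp]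
    exact this
  -- factor through the truncation
  let Z := (t.truncGE b).obj X
  have hZ₁ : Z.IsGE b := inferInstanceAs (t.IsGE ((t.truncGE b).obj X) b)
  have hZ₂ : Z.IsLE b := inferInstanceAs (t.IsLE ((t.truncGE b).obj X) b)
  obtain ⟨H, ⟨iso⟩⟩ := exists_iso_singleFunctor_obj_of_isGE_of_isLE Z b
  have hfac : (t.truncGEπ b).app X ≫ t.descTruncGE e b = e := t.π_descTruncGE e b
  have hπ : IsIso ((DerivedCategory.homologyFunctor A b).map ((t.truncGEπ b).app X)) :=
    Groth.Agent.Lib.Helper8.WayOut.isIso_homologyMap_truncGEπ' X b b le_rfl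
  have he' : (DerivedCategory.homologyFunctor A b).map (t.descTruncGE e b) = 0 := by
    rw [← cancel_epi ((DerivedCategory.homologyFunctor A b).map ((t.truncGEπ b).app X)),
      ← Functor.map_comp, hfac, he, comp_zero]
  have h0 : iso.inv ≫ t.descTruncGE e b = 0 := by
    apply single_map_eq_zero_of_homology b
    rw [Functor.map_comp, he', comp_zero]
  have h1 : t.descTruncGE e b = 0 := by
    rw [← cancel_epi iso.inv, h0, comp_zero]
  rw [← hfac, h1, comp_zero]

/-- (T1) the cone of a top cell surjecting onto `H^b` lies in `D^{≤ b-1}`. -/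
lemma isLE_cone (T : Triangle (DerivedCategory A)) (hT : T ∈ distTriang _) (b : ℤ)
    [T.obj₁.IsLE b] [T.obj₂.IsLE b]
    (hepi : Epi ((DerivedCategory.homologyFunctor A b).map T.mor₁)) : T.obj₃.IsLE (b - 1) := by
  have h₁ : t.IsLE (T.obj₁⟦(1 : ℤ)⟧) b := by
    have : t.IsLE (T.obj₁⟦(1 : ℤ)⟧) (b - 1) := t.isLE_shift T.obj₁ b 1 (b - 1) (by omega)
    exact t.isLE_of_le _ (b - 1) b (by omega)
  have h₃ : T.obj₃.IsLE b :=
    t.isLE₂ _ (rot_of_distTriang _ hT) b (inferInstanceAs (t.IsLE T.obj₂ b)) h₁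
  rw [isLE_iff]
  intro i hi
  by_cases hib : i = b
  · subst hib
    have hz : (DerivedCategory.homologyFunctor A i).map T.mor₂ = 0 :=
      (HomologySequence.epi_homologyMap_mor₁_iff T hT i).1 hepi
    have hepi₂ : Epi ((DerivedCategory.homologyFunctor A i).map T.mor₂) := by
      rw [HomologySequence.epi_homologyMap_mor₂_iff T hT i (i + 1) rfl]
      exact (isZero_of_isLE T.obj₁ i (i + 1) (by omega)).eq_of_tgt _ _
    exact IsZero.of_epi_eq_zero _ hz
  · exact isZero_of_isLE T.obj₃ b i (by omega)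

end Helper8.Sib
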