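import Groth.Agent.Lib.Helper8.Sib1

/-!
# Siblings: the abstract inductive step

`c` is a family of comparison maps `F Y ⟶ F' Y`, invertible and natural on a class `V` of objects.
A presentation of `X` is a distinguished triangle `S ⟶ X ⟶ Y ⟶ S⟦1⟧` with `Y, S⟦1⟧ ∈ V` and
`Hom(X, S) = 0`.  A comparison map `cX : F X ⟶ F' X` is compatible with the presentation if
`F π ≫ c Y = cX ≫ F' π`.
-/

set_option linter.unusedSectionVars false

universe v₂ v₃ u₂ u₃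

open CategoryTheory Limits Pretriangulated

namespace Helper8.Sib

variable {B : Type u₂} [Category.{v₂} B] [Preadditive B] [HasZeroObject B] [HasShift B ℤ]
  [∀ n : ℤ, (shiftFunctor B n).Additive] [Pretriangulated B]
  {D : Type u₃} [Category.{v₃} D] [Preadditive D] [HasZeroObject D] [HasShift D ℤ]
  [∀ n : ℤ, (shiftFunctor D n).Additive] [Pretriangulated D]

/-- a presentation of `X` relative to the class `V`. -/
structure Pres (V : B → Prop) (X : B) where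
  /-- the cell -/
  S : B
  /-- the cone -/
  Y : B
  /-- the attaching map -/
  g : S ⟶ X
  /-- the projection -/
  π : X ⟶ Y
  /-- the connecting map -/
  δ : Y ⟶ S⟦(1 : ℤ)⟧
  dist : Triangle.mk g π δ ∈ distTriang B
  hY : V Y
  hS : V (S⟦(1 : ℤ)⟧)
  neg : ∀ e : X ⟶ S, e = 0

variable (F F' : B ⥤ D) [F.CommShift ℤ] [F.IsTriangulated] [F'.CommShift ℤ] [F'.IsTriangulated]
  (β : ∀ K : B, F.obj K ≅ F'.obj K) [F.Full]
  (V : B → Prop) (c : ∀ Y : B, F.obj Y ⟶ F'.obj Y)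

/-- compatibility of a comparison map with a presentation. -/
def Compat {V : B → Prop} {X : B} (p : Pres V X) (cX : F.obj X ⟶ F'.obj X) : Prop :=
  F.map p.π ≫ c p.Y = cX ≫ F'.map p.π

include β in
/-- uniqueness lemma. -/
lemma pres_unique {X X' : B} (p' : Pres V X') (hneg : ∀ e : X ⟶ p'.S, e = 0)
    (d : F.obj X ⟶ F'.obj X') (hd : d ≫ F'.map p'.π = 0) : d = 0 := by
  have hT' : F'.mapTriangle.obj (Triangle.mk p'.g p'.π p'.δ) ∈ distTriang D :=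
    F'.map_distinguished _ p'.dist
  obtain ⟨d₁, hd₁⟩ : ∃ d₁ : F.obj X ⟶ F'.obj p'.S, d = d₁ ≫ F'.map p'.g :=
    Triangle.coyoneda_exact₂ _ hT' d hd
  obtain ⟨e, he⟩ := F.map_surjective (d₁ ≫ (β p'.S).inv)
  rw [hneg e, F.map_zero] at he
  have : d₁ = (d₁ ≫ (β p'.S).inv) ≫ (β p'.S).hom := by simp
  rw [hd₁, this, ← he, zero_comp, zero_comp]

variable (hciso : ∀ Y, V Y → IsIso (c Y))
  (hcnat : ∀ (Y Y' : B), V Y → V Y' → ∀ y : Y ⟶ Y', F.map y ≫ c Y' = c Y ≫ F'.map y)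

include hciso hcnat in
/-- existence lemma. -/
lemma pres_exists {X : B} (p : Pres V X) :
    ∃ cX : F.obj X ⟶ F'.obj X, IsIso cX ∧ Compat F F' c p cX := by
  have hTF : F.mapTriangle.obj (Triangle.mk p.g p.π p.δ) ∈ distTriang D :=
    F.map_distinguished _ p.dist
  have hTF' : F'.mapTriangle.obj (Triangle.mk p.g p.π p.δ) ∈ distTriang D :=
    F'.map_distinguished _ p.dist
  have h1 : IsIso (c (p.S⟦(1 : ℤ)⟧)) := hciso _ p.hS
  have h2 : IsIso (c p.Y) := hciso _ p.hY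
  let ψ : (F.obj p.S)⟦(1 : ℤ)⟧ ≅ (F'.obj p.S)⟦(1 : ℤ)⟧ :=
    ((F.commShiftIso (1 : ℤ)).app p.S).symm ≪≫ asIso (c (p.S⟦(1 : ℤ)⟧)) ≪≫
      (F'.commShiftIso (1 : ℤ)).app p.S
  let cS : F.obj p.S ≅ F'.obj p.S := (shiftFunctor D (1 : ℤ)).preimageIso ψ
  have hcS : (shiftFunctor D (1 : ℤ)).map cS.hom =
      (F.commShiftIso (1 : ℤ)).inv.app p.S ≫ c (p.S⟦(1 : ℤ)⟧) ≫
        (F'.commShiftIso (1 : ℤ)).hom.app p.S := by
    simp [cS, ψ]
  have hδ := hcnat _ _ p.hY p.hS p.δ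
  have comm : (F.map p.δ ≫ (F.commShiftIso (1 : ℤ)).hom.app p.S) ≫
      (shiftFunctor D (1 : ℤ)).map cS.hom =
      c p.Y ≫ F'.map p.δ ≫ (F'.commShiftIso (1 : ℤ)).hom.app p.S := by
    rw [hcS, Category.assoc, Iso.hom_inv_id_app_assoc, reassoc_of% hδ]
  obtain ⟨b, hb₁, hb₂⟩ : ∃ b : F.obj X ⟶ F'.obj X, F.map p.g ≫ b = cS.hom ≫ F'.map p.g ∧
      F.map p.π ≫ c p.Y = b ≫ F'.map p.π :=
    complete_distinguished_triangle_morphism₂ _ _ hTF hTF' cS.hom (c p.Y) comm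
  let Φ : F.mapTriangle.obj (Triangle.mk p.g p.π p.δ) ⟶
      F'.mapTriangle.obj (Triangle.mk p.g p.π p.δ) :=
    { hom₁ := cS.hom
      hom₂ := b
      hom₃ := c p.Y
      comm₁ := hb₁
      comm₂ := hb₂
      comm₃ := comm }
  have hb : IsIso b := isIso₂_of_isIso₁₃ Φ hTF hTF'
    (inferInstanceAs (IsIso cS.hom)) h2
  exact ⟨b, hb, hb₂⟩

include β hcnat in
/-- naturality lemma. -/
lemma pres_natural {X X' : B} (f : X ⟶ X') (p : Pres V X) (p' : Pres V X')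
    (y : p.Y ⟶ p'.Y) (hy : p.π ≫ y = f ≫ p'.π) (hneg : ∀ e : X ⟶ p'.S, e = 0)
    (cX : F.obj X ⟶ F'.obj X) (hcX : Compat F F' c p cX)
    (cX' : F.obj X' ⟶ F'.obj X') (hcX' : Compat F F' c p' cX') :
    F.map f ≫ cX' = cX ≫ F'.map f := by
  have hd : (F.map f ≫ cX' - cX ≫ F'.map f) ≫ F'.map p'.π = 0 := by
    unfold Compat at hcX hcX'
    rw [Preadditive.sub_comp, Category.assoc, Category.assoc, ← hcX', ← F'.map_comp, ← hy,
      F'.map_comp, ← reassoc_of% hcX, ← F.map_comp_assoc, ← hy, F.map_comp_assoc,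
      hcnat _ _ p.hY p'.hY y, sub_self]
  exact sub_eq_zero.1 (pres_unique F F' β V p' hneg _ hd)

/-- a map of presentations over `f` exists as soon as `g ≫ f ≫ π' = 0`. -/
lemma exists_pres_map {X X' : B} (f : X ⟶ X') (p : Pres V X) (p' : Pres V X')
    (h : p.g ≫ f ≫ p'.π = 0) : ∃ y : p.Y ⟶ p'.Y, p.π ≫ y = f ≫ p'.π := by
  obtain ⟨n, hn⟩ : ∃ n : p.S ⟶ p'.S, p.g ≫ f = n ≫ p'.g :=
    Triangle.coyoneda_exact₂ _ p'.dist (p.g ≫ f) ((Category.assoc _ _ _).trans h)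
  obtain ⟨y, hy, -⟩ := complete_distinguished_triangle_morphism _ _ p.dist p'.dist n f hn
  exact ⟨y, hy⟩

section Step

variable (V' : B → Prop)
  (hP : ∀ X, V' X → Nonempty (Pres V X))
  (hR : ∀ (X X₂ : B), V' X → V' X₂ → ∀ (Y₁ Y₂ : B), V Y₁ → V Y₂ →
    ∀ (f₁ : X ⟶ Y₁) (f₂ : X ⟶ Y₂),
      ∃ p : Pres V X, p.g ≫ f₁ = 0 ∧ p.g ≫ f₂ = 0 ∧ ∀ e : X₂ ⟶ p.S, e = 0)

include β hciso hcnat hP hR in
lemma all_compat (X : B) (hX : V' X) :
    ∃ cX : F.obj X ⟶ F'.obj X, IsIso cX ∧ ∀ p : Pres V X, Compat F F' c p cX := by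
  obtain ⟨p₀⟩ := hP X hX
  obtain ⟨c₀, hiso, hc₀⟩ := pres_exists F F' V c hciso hcnat p₀
  refine ⟨c₀, hiso, fun p => ?_⟩
  obtain ⟨p₃, h₁, h₂, -⟩ := hR X X hX hX p.Y p₀.Y p.hY p₀.hY p.π p₀.π
  obtain ⟨c₃, -, hc₃⟩ := pres_exists F F' V c hciso hcnat p₃
  obtain ⟨cp, -, hcp⟩ := pres_exists F F' V c hciso hcnat p
  obtain ⟨y₀, hy₀⟩ := exists_pres_map V (𝟙 X) p₃ p₀ (by rw [Category.id_comp]; exact h₂)
  obtain ⟨y, hy⟩ := exists_pres_map V (𝟙 X) p₃ p (by rw [Category.id_comp]; exact h₁)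
  have e₀ := pres_natural F F' β V c hcnat (𝟙 X) p₃ p₀ y₀ hy₀ p₀.neg c₃ hc₃ c₀ hc₀
  have e₁ := pres_natural F F' β V c hcnat (𝟙 X) p₃ p y hy p.neg c₃ hc₃ cp hcp
  rw [CategoryTheory.Functor.map_id, CategoryTheory.Functor.map_id, Category.id_comp,
    Category.comp_id] at e₀ e₁
  rw [e₀, ← e₁]
  exact hcp

include β hciso hcnat hP hR in
/-- the abstract inductive step. -/
theorem step : ∃ c' : ∀ X : B, F.obj X ⟶ F'.obj X,
    (∀ X, V' X → IsIso (c' X)) ∧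
    (∀ X X', V' X → V' X' → ∀ f : X ⟶ X', F.map f ≫ c' X' = c' X ≫ F'.map f) ∧
    (∀ X, V' X → ∀ (p : Pres V X) (cX : F.obj X ⟶ F'.obj X), Compat F F' c p cX → c' X = cX) := by
  classical
  have H := all_compat F F' β V c hciso hcnat V' hP hR
  let c' : ∀ X : B, F.obj X ⟶ F'.obj X := fun X =>
    if h : V' X then (H X h).choose else 0
  have hc' : ∀ X (h : V' X), IsIso (c' X) ∧ ∀ p : Pres V X, Compat F F' c p (c' X) := by
    intro X h
    have := (H X h).choose_spec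
    simp only [c', dif_pos h]
    exact this
  refine ⟨c', fun X h => (hc' X h).1, ?_, ?_⟩
  · intro X X' hX hX' f
    obtain ⟨p₀'⟩ := hP X' hX'
    obtain ⟨p'', -, -, hneg⟩ := hR X' X hX' hX p₀'.Y p₀'.Y p₀'.hY p₀'.hY p₀'.π p₀'.π
    obtain ⟨p₃, h₁, -, -⟩ := hR X X hX hX p''.Y p''.Y p''.hY p''.hY (f ≫ p''.π) (f ≫ p''.π)
    obtain ⟨y, hy⟩ := exists_pres_map V f p₃ p'' h₁
    exact pres_natural F F' β V c hcnat f p₃ p'' y hy hneg (c' X) ((hc' X hX).2 p₃) (c' X')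
      ((hc' X' hX').2 p'')
  · intro X hX p cX hcX
    have h1 := (hc' X hX).2 p
    have hd : (c' X - cX) ≫ F'.map p.π = 0 := by
      unfold Compat at h1 hcX
      rw [Preadditive.sub_comp, ← h1, ← hcX, sub_self]
    exact sub_eq_zero.1 (pres_unique F F' β V p p.neg _ hd)

end Step

end Helper8.Sib
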