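import Groth.Agent.Lib.Helper8.Sib1

/-!
# Siblings: compatibility of `θ` with shifts and with connecting morphisms
-/

set_option linter.unusedSectionVars false

universe v₁ v₂ v₃ u₁ u₂ u₃

open CategoryTheory Limits Pretriangulated

namespace Helper8.Sib

variable {A : Type u₁} [Category.{v₁} A]
  {B : Type u₂} [Category.{v₂} B] [Preadditive B] [HasZeroObject B] [HasShift B ℤ]
  [∀ n : ℤ, (shiftFunctor B n).Additive] [Pretriangulated B]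
  {D : Type u₃} [Category.{v₃} D] [Preadditive D] [HasZeroObject D] [HasShift D ℤ]
  [∀ n : ℤ, (shiftFunctor D n).Additive] [Pretriangulated D]
  (s : A ⥤ B) (F F' : B ⥤ D) [F.CommShift ℤ] [F'.CommShift ℤ] (α : s ⋙ F ≅ s ⋙ F')

lemma θ_shift (M : A) (j : ℤ) :
    (θ s F F' α M (j + 1)).hom =
      F.map ((shiftFunctorAdd' B j 1 (j + 1) rfl).hom.app (s.obj M)) ≫
      (F.commShiftIso (1 : ℤ)).hom.app ((s.obj M)⟦j⟧) ≫
      (shiftFunctor D (1 : ℤ)).map (θ s F F' α M j).hom ≫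
      (F'.commShiftIso (1 : ℤ)).inv.app ((s.obj M)⟦j⟧) ≫
      F'.map ((shiftFunctorAdd' B j 1 (j + 1) rfl).inv.app (s.obj M)) := by
  have h1 := NatTrans.congr_app (congr_arg Iso.hom
    (F.commShiftIso_add' (rfl : j + 1 = j + 1))) (s.obj M)
  have h2 := NatTrans.congr_app (congr_arg Iso.inv
    (F'.commShiftIso_add' (rfl : j + 1 = j + 1))) (s.obj M)
  rw [Functor.CommShift.isoAdd'_hom_app] at h1
  rw [Functor.CommShift.isoAdd'_inv_app] at h2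
  have nat := (shiftFunctorAdd' D j 1 (j + 1) rfl).hom.naturality (α.hom.app M)
  dsimp at nat
  rw [θ_hom, θ_hom, h1, h2]
  simp only [Functor.map_comp, Category.assoc]
  congr 3
  rw [reassoc_of% nat, Iso.inv_hom_id_app_assoc]

variable [F.IsTriangulated] [F'.IsTriangulated]

/-- `θ` is compatible with connecting morphisms of triangles of shifted cells. -/
lemma θ_connecting [s.Full] {K N M : A} (j : ℤ) (i : (s.obj K)⟦j⟧ ⟶ (s.obj N)⟦j⟧)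
    (p : (s.obj N)⟦j⟧ ⟶ (s.obj M)⟦j⟧) (δ : (s.obj M)⟦j⟧ ⟶ ((s.obj K)⟦j⟧)⟦(1 : ℤ)⟧)
    (hT : Triangle.mk i p δ ∈ distTriang B)
    (hvan : ∀ ε : F.obj (((s.obj K)⟦j⟧)⟦(1 : ℤ)⟧) ⟶ F'.obj ((s.obj M)⟦j⟧), ε = 0) :
    F.map δ ≫ (F.commShiftIso (1 : ℤ)).hom.app ((s.obj K)⟦j⟧) ≫
        (shiftFunctor D (1 : ℤ)).map (θ s F F' α K j).hom =
      (θ s F F' α M j).hom ≫ F'.map δ ≫ (F'.commShiftIso (1 : ℤ)).hom.app ((s.obj K)⟦j⟧) := by
  have hTF : F.mapTriangle.obj (Triangle.mk i p δ) ∈ distTriang D := F.map_distinguished _ hT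
  have hTF' : F'.mapTriangle.obj (Triangle.mk i p δ) ∈ distTriang D := F'.map_distinguished _ hT
  obtain ⟨γ, hγ₁, hγ₂⟩ : ∃ γ : F.obj ((s.obj M)⟦j⟧) ⟶ F'.obj ((s.obj M)⟦j⟧),
      F.map p ≫ γ = (θ s F F' α N j).hom ≫ F'.map p ∧
      (F.map δ ≫ (F.commShiftIso (1 : ℤ)).hom.app ((s.obj K)⟦j⟧)) ≫
        (shiftFunctor D (1 : ℤ)).map (θ s F F' α K j).hom =
        γ ≫ F'.map δ ≫ (F'.commShiftIso (1 : ℤ)).hom.app ((s.obj K)⟦j⟧) :=
    complete_distinguished_triangle_morphism _ _ hTF hTF' (θ s F F' α K j).hom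
      (θ s F F' α N j).hom (θ_natural' s F F' α j i)
  have h1 : F.map p ≫ (γ - (θ s F F' α M j).hom) = 0 := by
    rw [Preadditive.comp_sub, hγ₁, θ_natural' s F F' α j p, sub_self]
  obtain ⟨w, hw⟩ : ∃ w : (F.obj ((s.obj K)⟦j⟧))⟦(1 : ℤ)⟧ ⟶ F'.obj ((s.obj M)⟦j⟧),
      γ - (θ s F F' α M j).hom = (F.map δ ≫ (F.commShiftIso (1 : ℤ)).hom.app ((s.obj K)⟦j⟧)) ≫ w :=
    Triangle.yoneda_exact₃ _ hTF _ h1
  have hw0 : w = 0 := by
    have := hvan ((F.commShiftIso (1 : ℤ)).hom.app ((s.obj K)⟦j⟧) ≫ w)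
    rw [← cancel_epi ((F.commShiftIso (1 : ℤ)).hom.app ((s.obj K)⟦j⟧)), this, comp_zero]
  rw [hw0, comp_zero] at hw
  rw [← sub_eq_zero.1 hw, ← hγ₂, Category.assoc]

end Helper8.Sib
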