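import Groth.Agent.Lib.Helper8.Sib4
import Groth.Agent.Lib.Helper8.Sib5
import Groth.Agent.Lib.Helper8.Sib6
import Groth.Agent.Lib.Helper8.Sib7

/-!
# Siblings: presentations in `D^b(A)` by negative top cells
-/

set_option linter.unusedSectionVars false

universe w v u v' u'

open CategoryTheory Limits Pretriangulated DerivedCategory ZeroObject

namespace Helper8.Sib

open DerivedCategory.TStructure

variable {A : Type u} [Category.{v} A] [Abelian A] [HasDerivedCategory.{w} A]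

/-- the class `D^{[a, a+n]}` in `D^b(A)`. -/
def Vc (a : ℤ) (n : ℕ) (X : DerivedCategory.Bounded A) : Prop :=
  t.IsGE ((ιB A).obj X) a ∧ t.IsLE ((ιB A).obj X) (a + n)

lemma Vc.mono {a a' : ℤ} {n n' : ℕ} {X : DerivedCategory.Bounded A} (h : Vc a n X)
    (ha : a' ≤ a) (hn : a + n ≤ a' + n') : Vc a' n' X :=
  ⟨haveI := h.1; t.isGE_of_ge _ a' a ha, haveI := h.2; t.isLE_of_le _ (a + n) (a' + n') hn⟩

lemma Vc.of_isZero (a : ℤ) (n : ℕ) {X : DerivedCategory.Bounded A} (hX : IsZero X) : Vc a n X :=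
  ⟨t.isGE_of_isZero ((ιB A).map_isZero hX) _, t.isLE_of_isZero ((ιB A).map_isZero hX) _⟩

lemma Vc.of_iso {a : ℤ} {n : ℕ} {X X' : DerivedCategory.Bounded A} (h : Vc a n X) (e : X ≅ X') :
    Vc a n X' :=
  ⟨haveI := h.1; t.isGE_of_iso ((ιB A).mapIso e) a,
    haveI := h.2; t.isLE_of_iso ((ιB A).mapIso e) (a + n)⟩

/-- the underlying object of a shifted cell. -/
noncomputable def ιShiftSingleIso (N : A) (j b : ℤ) (h : j + b = 0) :
    (ιB A).obj (((sB A).obj N)⟦j⟧) ≅ (DerivedCategory.singleFunctor A b).obj N :=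
  (((ιB A).commShiftIso j).app ((sB A).obj N) :
    (ιB A).obj (((sB A).obj N)⟦j⟧) ≅ ((DerivedCategory.singleFunctor A 0).obj N)⟦j⟧) ≪≫
    ((DerivedCategory.singleFunctors A).shiftIso j b 0 h).app N

lemma isGE_ι_shift_one (X : DerivedCategory.Bounded A) (m m' : ℤ) (h : m' + 1 = m)
    (hX : t.IsGE ((ιB A).obj X) m) : t.IsGE ((ιB A).obj (X⟦(1 : ℤ)⟧)) m' := by
  have : t.IsGE (((ιB A).obj X)⟦(1 : ℤ)⟧) m' := t.isGE_shift _ m 1 m' (by omega)
  have e : (ιB A).obj (X⟦(1 : ℤ)⟧) ≅ ((ιB A).obj X)⟦(1 : ℤ)⟧ := ((ιB A).commShiftIso (1 : ℤ)).app X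
  exact t.isGE_of_iso e.symm m'

lemma isLE_ι_shift_one (X : DerivedCategory.Bounded A) (m m' : ℤ) (h : m' + 1 = m)
    (hX : t.IsLE ((ιB A).obj X) m) : t.IsLE ((ιB A).obj (X⟦(1 : ℤ)⟧)) m' := by
  have : t.IsLE (((ιB A).obj X)⟦(1 : ℤ)⟧) m' := t.isLE_shift _ m 1 m' (by omega)
  have e : (ιB A).obj (X⟦(1 : ℤ)⟧) ≅ ((ιB A).obj X)⟦(1 : ℤ)⟧ := ((ιB A).commShiftIso (1 : ℤ)).app X
  exact t.isLE_of_iso e.symm m'

lemma Vc.shift_single (a : ℤ) (n : ℕ) (M : A) (j : ℤ) (h₁ : a ≤ -j) (h₂ : -j ≤ a + n) :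
    Vc a n (((sB A).obj M)⟦j⟧) :=
  ⟨haveI := isGE_ι_shift_single M j; t.isGE_of_ge _ a (-j) h₁,
    haveI := isLE_ι_shift_single M j; t.isLE_of_le _ (-j) (a + n) h₂⟩

section Pres

variable (hneg : ∀ X : A, ∃ (N : A) (p : N ⟶ X), Epi p ∧ ∀ f : X ⟶ N, f = 0)

include hneg in
/-- existence of presentations by negative top cells killing two given maps. -/
lemma exists_pres (a : ℤ) (n : ℕ) (X X₂ : DerivedCategory.Bounded A) (hX : Vc a (n + 1) X)
    (hX₂ : Vc a (n + 1) X₂) (Y₁ Y₂ : DerivedCategory.Bounded A) (hY₁ : Vc a n Y₁)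
    (hY₂ : Vc a n Y₂) (f₁ : X ⟶ Y₁) (f₂ : X ⟶ Y₂) :
    ∃ p : Pres (Vc (A := A) a n) X, p.g ≫ f₁ = 0 ∧ p.g ≫ f₂ = 0 ∧ ∀ e : X₂ ⟶ p.S, e = 0 := by
  obtain ⟨b, hb⟩ : ∃ b : ℤ, b = a + n + 1 := ⟨_, rfl⟩
  have hXle : ((ιB A).obj X).IsLE b :=
    haveI := hX.2; t.isLE_of_le _ (a + ((n + 1 : ℕ) : ℤ)) b (by push_cast; omega)
  have hXge : t.IsGE ((ιB A).obj X) a := hX.1
  have hX₂le : ((ιB A).obj X₂).IsLE b :=
    haveI := hX₂.2; t.isLE_of_le _ (a + ((n + 1 : ℕ) : ℤ)) b (by push_cast; omega)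
  have hY₁le : ((ιB A).obj Y₁).IsLE (b - 1) :=
    haveI := hY₁.2; t.isLE_of_le _ (a + (n : ℤ)) (b - 1) (by omega)
  have hY₂le : ((ιB A).obj Y₂).IsLE (b - 1) :=
    haveI := hY₂.2; t.isLE_of_le _ (a + (n : ℤ)) (b - 1) (by omega)
  obtain ⟨N, g₀, hepi, hnegX, hnegZ, hk₁, hk₂⟩ := exists_negative_map₂ hneg ((ιB A).obj X)
    ((ιB A).obj Y₁) ((ιB A).obj Y₂) ((ιB A).map f₁) ((ιB A).map f₂) b
    ((DerivedCategory.homologyFunctor A b).obj ((ιB A).obj X₂))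
  let S : DerivedCategory.Bounded A := ((sB A).obj N)⟦-b⟧
  let eS : (ιB A).obj S ≅ (DerivedCategory.singleFunctor A b).obj N :=
    ιShiftSingleIso N (-b) b (by omega)
  obtain ⟨g, hg⟩ := (ιB A).map_surjective (eS.hom ≫ g₀)
  obtain ⟨Y, π, δ, hT⟩ := distinguished_cocone_triangle g
  have hT' : (ιB A).mapTriangle.obj (Triangle.mk g π δ) ∈ distTriang (DerivedCategory A) :=
    (ιB A).map_distinguished _ hT
  have hSle : ((ιB A).obj S).IsLE b := t.isLE_of_iso eS.symm b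
  have hSge : ((ιB A).obj S).IsGE b := t.isGE_of_iso eS.symm b
  -- bounds on Y
  have hYle : t.IsLE ((ιB A).obj Y) (a + n) := by
    have h1 : ((ιB A).mapTriangle.obj (Triangle.mk g π δ)).obj₁.IsLE b := hSle
    have h2 : ((ιB A).mapTriangle.obj (Triangle.mk g π δ)).obj₂.IsLE b := hXle
    have h3 : Epi ((DerivedCategory.homologyFunctor A b).map
        ((ιB A).mapTriangle.obj (Triangle.mk g π δ)).mor₁) := by
      change Epi ((DerivedCategory.homologyFunctor A b).map ((ιB A).map g))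
      rw [hg, Functor.map_comp]
      exact epi_comp _ _
    have h4 : t.IsLE ((ιB A).obj Y) (b - 1) := isLE_cone _ hT' b h3
    exact t.isLE_of_le _ (b - 1) (a + n) (by omega)
  have hS1ge : t.IsGE (((ιB A).obj S)⟦(1 : ℤ)⟧) a := by
    have : t.IsGE (((ιB A).obj S)⟦(1 : ℤ)⟧) (b - 1) := t.isGE_shift _ b 1 (b - 1) (by omega)
    exact t.isGE_of_ge _ a (b - 1) (by omega)
  have hYge : t.IsGE ((ιB A).obj Y) a :=
    t.isGE₂ _ (rot_of_distTriang _ hT') a hXge hS1ge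
  have hS1 : Vc a n (S⟦(1 : ℤ)⟧) :=
    ⟨haveI := isGE_ι_shift_one S b (b - 1) (by omega) hSge; t.isGE_of_ge _ a (b - 1) (by omega),
     haveI := isLE_ι_shift_one S b (b - 1) (by omega) hSle;
      t.isLE_of_le _ (b - 1) (a + n) (by omega)⟩
  have negX : ∀ e : X ⟶ S, e = 0 := by
    intro e
    apply (ιB A).map_injective
    have := hom_to_single_eq_zero ((ιB A).obj X) b N hnegX ((ιB A).map e ≫ eS.hom)
    rw [Functor.map_zero, ← cancel_mono eS.hom, this, zero_comp]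
  have negX₂ : ∀ e : X₂ ⟶ S, e = 0 := by
    intro e
    apply (ιB A).map_injective
    have := hom_to_single_eq_zero ((ιB A).obj X₂) b N hnegZ ((ιB A).map e ≫ eS.hom)
    rw [Functor.map_zero, ← cancel_mono eS.hom, this, zero_comp]
  refine ⟨⟨S, Y, g, π, δ, hT, ⟨hYge, hYle⟩, hS1, negX⟩, ?_, ?_, negX₂⟩
  · apply (ιB A).map_injective
    rw [Functor.map_comp, hg, Category.assoc, hk₁, comp_zero, Functor.map_zero]
  · apply (ιB A).map_injective
    rw [Functor.map_comp, hg, Category.assoc, hk₂, comp_zero, Functor.map_zero]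

include hneg in
lemma nonempty_pres (a : ℤ) (n : ℕ) (X : DerivedCategory.Bounded A) (hX : Vc a (n + 1) X) :
    Nonempty (Pres (Vc (A := A) a n) X) := by
  obtain ⟨p, -, -, -⟩ := exists_pres hneg a n X X hX hX 0 0 (Vc.of_isZero a n (isZero_zero _))
    (Vc.of_isZero a n (isZero_zero _)) 0 0
  exact ⟨p⟩

end Pres

end Helper8.Sib
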