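import Groth.Agent.Lib.Helper8.Sib8

/-!
# Siblings of a fully faithful functor are isomorphic to it (enough negative objects)
-/

set_option linter.unusedSectionVars false

universe w v u v' u'

open CategoryTheory Limits Pretriangulated DerivedCategory ZeroObject

namespace Helper8.Sib

open DerivedCategory.TStructure

variable {A : Type u} [Category.{v} A] [Abelian A] [HasDerivedCategory.{w} A]
  {D : Type u'} [Category.{v'} D] [Preadditive D] [HasZeroObject D] [HasShift D ℤ]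
  [∀ n : ℤ, (shiftFunctor D n).Additive] [Pretriangulated D]
  (F F' : DerivedCategory.Bounded A ⥤ D) [F.CommShift ℤ] [F.IsTriangulated]
  [F'.CommShift ℤ] [F'.IsTriangulated]
  (α : sB A ⋙ F ≅ sB A ⋙ F') (β : ∀ K : DerivedCategory.Bounded A, F.obj K ≅ F'.obj K)
  [F.Full] [F.Faithful]

/-- a good family of comparison maps on `D^{[a,a+n]}`. -/
def Good (a : ℤ) (n : ℕ) (c : ∀ X : DerivedCategory.Bounded A, F.obj X ⟶ F'.obj X) : Prop :=
  (∀ X, Vc a n X → IsIso (c X)) ∧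
  (∀ X X', Vc a n X → Vc a n X' → ∀ f : X ⟶ X', F.map f ≫ c X' = c X ≫ F'.map f) ∧
  (∀ (M : A) (j : ℤ), a ≤ -j → -j ≤ a + n →
    c (((sB A).obj M)⟦j⟧) = (θ (sB A) F F' α M j).hom)

lemma Good.restrict {a a' : ℤ} {n n' : ℕ} {c : ∀ X : DerivedCategory.Bounded A, F.obj X ⟶ F'.obj X}
    (h : Good F F' α a' n' c) (ha : a' ≤ a) (hn : a + n ≤ a' + n') : Good F F' α a n c :=
  ⟨fun X hX => h.1 X (hX.mono ha hn),
    fun X X' hX hX' f => h.2.1 X X' (hX.mono ha hn) (hX'.mono ha hn) f,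
    fun M j h₁ h₂ => h.2.2 M j (by omega) (by omega)⟩

lemma exists_iso_cell (a : ℤ) (X : DerivedCategory.Bounded A) (hX : Vc a 0 X) :
    ∃ M : A, Nonempty (X ≅ ((sB A).obj M)⟦-a⟧) := by
  have h1 : ((ιB A).obj X).IsGE a := hX.1
  have h2 : ((ιB A).obj X).IsLE a :=
    haveI := hX.2; t.isLE_of_le _ (a + ((0 : ℕ) : ℤ)) a (by simp)
  obtain ⟨M, ⟨e⟩⟩ := exists_iso_singleFunctor_obj_of_isGE_of_isLE ((ιB A).obj X) a
  exact ⟨M, ⟨(ιB A).preimageIso (e ≪≫ (ιShiftSingleIso M (-a) a (by omega)).symm)⟩⟩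

/-- the base case. -/
theorem good_zero (a : ℤ) : ∃ c, Good F F' α a 0 c := by
  classical
  have H := exists_iso_cell (A := A) a
  let c : ∀ X : DerivedCategory.Bounded A, F.obj X ⟶ F'.obj X := fun X =>
    if h : Vc a 0 X then F.map (H X h).choose_spec.some.hom ≫
      (θ (sB A) F F' α (H X h).choose (-a)).hom ≫ F'.map (H X h).choose_spec.some.inv else 0
  have hc : ∀ (X : DerivedCategory.Bounded A) (_ : Vc a 0 X) (M : A)
      (e : X ≅ ((sB A).obj M)⟦-a⟧),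
      c X = F.map e.hom ≫ (θ (sB A) F F' α M (-a)).hom ≫ F'.map e.inv := by
    intro X h M e
    simp only [c, dif_pos h]
    set e₀ := (H X h).choose_spec.some
    have hθ := θ_natural' (sB A) F F' α (-a) (e₀.inv ≫ e.hom)
    have h1 : e₀.inv = (e₀.inv ≫ e.hom) ≫ e.inv := by simp
    have h2 : e.hom = e₀.hom ≫ (e₀.inv ≫ e.hom) := by simp
    rw [h1, F'.map_comp, ← reassoc_of% hθ, ← F.map_comp_assoc, ← h2]
  refine ⟨c, ?_, ?_, ?_⟩
  · intro X hX
    obtain ⟨M, ⟨e⟩⟩ := H X hX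
    rw [hc X hX M e]
    infer_instance
  · intro X X' hX hX' f
    obtain ⟨M, ⟨e⟩⟩ := H X hX
    obtain ⟨M', ⟨e'⟩⟩ := H X' hX'
    rw [hc X hX M e, hc X' hX' M' e']
    have hθ := θ_natural' (sB A) F F' α (-a) (e.inv ≫ f ≫ e'.hom)
    have h1 : f ≫ e'.hom = e.hom ≫ (e.inv ≫ f ≫ e'.hom) := by simp
    have h2 : e.inv ≫ f = (e.inv ≫ f ≫ e'.hom) ≫ e'.inv := by simp
    rw [← F.map_comp_assoc, h1, F.map_comp_assoc, reassoc_of% hθ, Category.assoc, Category.assoc,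
      ← F'.map_comp, ← F'.map_comp, h2]
  · intro M j h₁ h₂
    have hj : j = -a := by simp at h₂; omega
    subst hj
    have hX : Vc a 0 (((sB A).obj M)⟦-a⟧) := Vc.shift_single a 0 M (-a) (by omega) (by simp)
    rw [hc _ hX M (Iso.refl _)]
    simp

variable (hneg : ∀ X : A, ∃ (N : A) (p : N ⟶ X), Epi p ∧ ∀ f : X ⟶ N, f = 0)

include β hneg in
/-- `θ` is compatible with a suitable presentation of a top cell. -/
lemma exists_pres_top_single (a : ℤ) (n : ℕ)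
    (c : ∀ X : DerivedCategory.Bounded A, F.obj X ⟶ F'.obj X) (hc : Good F F' α a n c)
    (M : A) (j : ℤ) (hj : -j = a + n + 1) :
    ∃ p : Pres (Vc (A := A) a n) (((sB A).obj M)⟦j⟧),
      Compat F F' c p (θ (sB A) F F' α M j).hom := by
  obtain ⟨N, q, hq, hMN⟩ := hneg M
  obtain ⟨δ₀, hT₀⟩ := exists_triangle_of_epi q
  obtain ⟨i', p', δ', hTj⟩ : ∃ (i' : ((sB A).obj (kernel q))⟦j⟧ ⟶ ((sB A).obj N)⟦j⟧)
      (p' : ((sB A).obj N)⟦j⟧ ⟶ ((sB A).obj M)⟦j⟧)
      (δ' : ((sB A).obj M)⟦j⟧ ⟶ (((sB A).obj (kernel q))⟦j⟧)⟦(1 : ℤ)⟧),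
      Triangle.mk i' p' δ' ∈ distTriang (DerivedCategory.Bounded A) :=
    ⟨_, _, _, Triangle.shift_distinguished _ hT₀ j⟩
  have hrot := rot_of_distTriang _ hTj
  have hcell : ∀ K' : A, Vc a n ((((sB A).obj K')⟦j⟧)⟦(1 : ℤ)⟧) := by
    intro K'
    have h1 := isGE_ι_shift_one _ (-j) (-j - 1) (by omega) (isGE_ι_shift_single K' j)
    have h2 := isLE_ι_shift_one _ (-j) (-j - 1) (by omega) (isLE_ι_shift_single K' j)
    exact ⟨t.isGE_of_ge _ a (-j - 1) (by omega), t.isLE_of_le _ (-j - 1) (a + n) (by omega)⟩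
  have hnegS : ∀ e : ((sB A).obj M)⟦j⟧ ⟶ ((sB A).obj N)⟦j⟧, e = 0 := by
    intro e
    obtain ⟨e', rfl⟩ := (shiftFunctor (DerivedCategory.Bounded A) j).map_surjective e
    obtain ⟨u, rfl⟩ := (sB A).map_surjective e'
    rw [hMN u, Functor.map_zero, Functor.map_zero]
  let p : Pres (Vc (A := A) a n) (((sB A).obj M)⟦j⟧) :=
    ⟨((sB A).obj N)⟦j⟧, (((sB A).obj (kernel q))⟦j⟧)⟦(1 : ℤ)⟧, p', δ', _, hrot,
      hcell (kernel q), hcell N, hnegS⟩
  refine ⟨p, ?_⟩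
  -- vanishing of negative Ext
  have hvan : ∀ ε : F.obj ((((sB A).obj (kernel q))⟦j⟧)⟦(1 : ℤ)⟧) ⟶ F'.obj (((sB A).obj M)⟦j⟧),
      ε = 0 := by
    intro ε
    obtain ⟨e₀, he₀⟩ := F.map_surjective (ε ≫ (β _).inv)
    have h0 : e₀ = 0 := by
      apply (ιB A).map_injective
      rw [Functor.map_zero]
      have h1 := isLE_ι_shift_one _ (-j) (-j - 1) (by omega) (isLE_ι_shift_single (kernel q) j)
      have h2 := isGE_ι_shift_single M j
      exact t.zero_of_isLE_of_isGE ((ιB A).map e₀) (-j - 1) (-j) (by omega) h1 h2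
    rw [h0, F.map_zero] at he₀
    have : ε = (ε ≫ (β _).inv) ≫ (β _).hom := by simp
    rw [this, ← he₀, zero_comp]
  have hconn := θ_connecting (sB A) F F' α j i' p' δ' hTj hvan
  -- the value of `c` on the cone
  let e := (shiftFunctorAdd' (DerivedCategory.Bounded A) j 1 (j + 1) rfl).app
    ((sB A).obj (kernel q))
  have hVe : Vc a n (((sB A).obj (kernel q))⟦j + 1⟧) :=
    Vc.shift_single a n _ (j + 1) (by omega) (by omega)
  have hnat := hc.2.1 _ _ hVe (hcell (kernel q)) e.hom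
  rw [hc.2.2 (kernel q) (j + 1) (by omega) (by omega), θ_shift] at hnat
  have hcY : c ((((sB A).obj (kernel q))⟦j⟧)⟦(1 : ℤ)⟧) =
      (F.commShiftIso (1 : ℤ)).hom.app _ ≫
        (shiftFunctor D (1 : ℤ)).map (θ (sB A) F F' α (kernel q) j).hom ≫
        (F'.commShiftIso (1 : ℤ)).inv.app _ := by
    rw [← cancel_epi (F.map e.hom), hnat]
    simp only [Category.assoc]
    congr 3
    rw [← F'.map_comp]
    erw [Iso.inv_hom_id_app]
    erw [F'.map_id]
    exact Category.comp_id _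
  change F.map δ' ≫ c ((((sB A).obj (kernel q))⟦j⟧)⟦(1 : ℤ)⟧) =
    (θ (sB A) F F' α M j).hom ≫ F'.map δ'
  rw [hcY, reassoc_of% hconn, Iso.hom_inv_id_app]
  exact congrArg _ (Category.comp_id _)

include β hneg in
/-- the inductive step. -/
theorem good_succ (a : ℤ) (n : ℕ) (c : ∀ X : DerivedCategory.Bounded A, F.obj X ⟶ F'.obj X)
    (hc : Good F F' α a n c) : ∃ c', Good F F' α a (n + 1) c' := by
  obtain ⟨c', h1, h2, h3⟩ := step F F' β (Vc (A := A) a n) c hc.1 hc.2.1 (Vc (A := A) a (n + 1))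
    (nonempty_pres hneg a n) (exists_pres hneg a n)
  refine ⟨c', h1, h2, ?_⟩
  intro M j hj₁ hj₂
  have hX' : Vc a (n + 1) (((sB A).obj M)⟦j⟧) := Vc.shift_single a (n + 1) M j hj₁ hj₂
  by_cases hj : -j ≤ a + n
  · have hX : Vc a n (((sB A).obj M)⟦j⟧) := Vc.shift_single a n M j hj₁ hj
    let p₀ : Pres (Vc (A := A) a n) (((sB A).obj M)⟦j⟧) :=
      ⟨0, ((sB A).obj M)⟦j⟧, 0, 𝟙 _, 0, contractible_distinguished₁ _, hX,
        Vc.of_isZero a n ((shiftFunctor _ (1 : ℤ)).map_isZero (isZero_zero _)),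
        fun e => (isZero_zero _).eq_of_tgt _ _⟩
    have hcomp : Compat F F' c p₀ (c (((sB A).obj M)⟦j⟧)) := by
      change F.map (𝟙 _) ≫ c _ = c _ ≫ F'.map (𝟙 _)
      rw [F.map_id, F'.map_id, Category.id_comp, Category.comp_id]
    rw [h3 _ hX' p₀ _ hcomp, hc.2.2 M j hj₁ hj]
  · push_cast at hj₂
    obtain ⟨p, hp⟩ := exists_pres_top_single F F' α β hneg a n c hc M j (by omega)
    exact h3 _ hX' p _ hp

include β hneg in
theorem good_exists (a : ℤ) (n : ℕ) : ∃ c, Good F F' α a n c := by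
  induction n with
  | zero => exact good_zero F F' α a
  | succ n ih =>
    obtain ⟨c, hc⟩ := ih
    exact good_succ F F' α β hneg a n c hc

include β hneg in
/-- uniqueness of good families. -/
theorem good_unique (a : ℤ) : ∀ (n : ℕ) (c c₂ : ∀ X : DerivedCategory.Bounded A, F.obj X ⟶ F'.obj X),
    Good F F' α a n c → Good F F' α a n c₂ → ∀ X, Vc a n X → c X = c₂ X := by
  intro n
  induction n with
  | zero =>
    intro c c₂ hc hc₂ X hX
    obtain ⟨M, ⟨e⟩⟩ := exists_iso_cell a X hX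
    have hcell : Vc a 0 (((sB A).obj M)⟦-a⟧) := hX.of_iso e
    have h1 := hc.2.1 _ _ hX hcell e.hom
    have h2 := hc₂.2.1 _ _ hX hcell e.hom
    rw [hc.2.2 M (-a) (by omega) (by simp)] at h1
    rw [hc₂.2.2 M (-a) (by omega) (by simp)] at h2
    have : IsIso (F'.map e.hom) := inferInstance
    rw [← cancel_mono (F'.map e.hom), ← h1, ← h2]
  | succ n ih =>
    intro c c₂ hc hc₂ X hX
    have hr := ih c c₂ (hc.restrict F F' α le_rfl (by push_cast; omega))
      (hc₂.restrict F F' α le_rfl (by push_cast; omega))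
    obtain ⟨p⟩ := nonempty_pres hneg a n X hX
    have hY' : Vc a (n + 1) p.Y := p.hY.mono le_rfl (by push_cast; omega)
    have h1 := hc.2.1 _ _ hX hY' p.π
    have h2 := hc₂.2.1 _ _ hX hY' p.π
    have hd : (c X - c₂ X) ≫ F'.map p.π = 0 := by
      rw [Preadditive.sub_comp, ← h1, ← h2, hr p.Y p.hY, sub_self]
    exact sub_eq_zero.1 (pres_unique F F' β (Vc (A := A) a n) p p.neg _ hd)

include α β hneg in
/-- **Siblings of a fully faithful functor are isomorphic to it.** -/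
theorem exists_natIso : Nonempty (F ≅ F') := by
  classical
  have hbd : ∀ K : DerivedCategory.Bounded A, ∃ (a : ℤ) (n : ℕ), Vc a n K := by
    intro K
    obtain ⟨⟨a, ha⟩, ⟨b, hb⟩⟩ := K.property
    refine ⟨a, (b - a).toNat, ha, ?_⟩
    have : t.IsLE ((ιB A).obj K) b := hb
    exact t.isLE_of_le _ b _ (by omega)
  choose aK nK hK using hbd
  have H := fun a n => good_exists F F' α β hneg a n
  choose fam hfam using H
  -- comparison of families
  have hcmp : ∀ (a a' : ℤ) (n n' : ℕ), a' ≤ a → a + n ≤ a' + n' →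
      ∀ X, Vc a n X → fam a n X = fam a' n' X := fun a a' n n' ha hn X hX =>
    good_unique F F' α β hneg a n _ _ (hfam a n) ((hfam a' n').restrict F F' α ha hn) X hX
  have hiso : ∀ K, IsIso (fam (aK K) (nK K) K) := fun K => (hfam _ _).1 K (hK K)
  refine ⟨NatIso.ofComponents (fun K => @asIso _ _ _ _ _ (hiso K)) ?_⟩
  intro K K' f
  change F.map f ≫ fam (aK K') (nK K') K' = fam (aK K) (nK K) K ≫ F'.map f
  obtain ⟨a₂, ha₂⟩ : ∃ a₂ : ℤ, a₂ = min (aK K) (aK K') := ⟨_, rfl⟩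
  obtain ⟨n₂, hn₂⟩ : ∃ n₂ : ℕ, n₂ = (max (aK K + nK K) (aK K' + nK K') - a₂).toNat := ⟨_, rfl⟩
  have h1 : a₂ ≤ aK K := by rw [ha₂]; exact min_le_left _ _
  have h2 : a₂ ≤ aK K' := by rw [ha₂]; exact min_le_right _ _
  have h3 : aK K + nK K ≤ a₂ + n₂ := by
    have := le_max_left (aK K + (nK K : ℤ)) (aK K' + nK K')
    omega
  have h4 : aK K' + nK K' ≤ a₂ + n₂ := by
    have := le_max_right (aK K + (nK K : ℤ)) (aK K' + nK K')
    omega
  rw [hcmp _ a₂ _ n₂ h1 h3 K (hK K), hcmp _ a₂ _ n₂ h2 h4 K' (hK K')]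
  exact (hfam a₂ n₂).2.1 K K' ((hK K).mono h1 h3) ((hK K').mono h2 h4) f

end Helper8.Sib
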