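import Mathlib.AlgebraicTopology.SimplicialObject.Homotopy
import Mathlib.CategoryTheory.Limits.FunctorCategory.Basic
import Mathlib.CategoryTheory.Limits.Shapes.Products

/-!
# Products of simplicial homotopies
-/

set_option linter.style.haveILetI false
set_option linter.unusedSectionVars false

namespace Groth.Agent.Lib.Helper8.SimpPiHtpy

open CategoryTheory Category Limits Opposite Simplicial SimplicialObject

universe w v u

variable {C : Type u} [Category.{v} C] {T : Type w} [HasLimitsOfShape (Discrete T) C]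

section Level

variable (Y : T → SimplicialObject C) (k : SimplexCategoryᵒᵖ)

/-- The levelwise cone of the product is a limit cone. -/
noncomputable def isLimitLevel :
    IsLimit (((evaluation SimplexCategoryᵒᵖ C).obj k).mapCone
      (limit.cone (Discrete.functor Y))) :=
  isLimitOfPreserves _ (limit.isLimit _)

lemma hom_ext_level {Z : C} {u v : Z ⟶ (∏ᶜ Y).obj k}
    (h : ∀ t, u ≫ (Pi.π Y t).app k = v ≫ (Pi.π Y t).app k) : u = v :=
  (isLimitLevel Y k).hom_ext (by rintro ⟨t⟩; exact h t)

/-- The cone given by a family of maps. -/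
def coneLevel {Z : C} (φ : ∀ t, Z ⟶ (Y t).obj k) :
    Cone (Discrete.functor Y ⋙ (evaluation SimplexCategoryᵒᵖ C).obj k) where
  pt := Z
  π := Discrete.natTrans (fun t => φ t.as)

/-- Lift a family of maps to the level of the product. -/
noncomputable def liftLevel {Z : C} (φ : ∀ t, Z ⟶ (Y t).obj k) : Z ⟶ (∏ᶜ Y).obj k :=
  (isLimitLevel Y k).lift (coneLevel Y k φ)

@[reassoc (attr := simp)]
lemma liftLevel_π {Z : C} (φ : ∀ t, Z ⟶ (Y t).obj k) (t : T) :
    liftLevel Y k φ ≫ (Pi.π Y t).app k = φ t :=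
  (isLimitLevel Y k).fac (coneLevel Y k φ) ⟨t⟩

end Level

variable {X Y : T → SimplicialObject C} (a b : ∀ t, X t ⟶ Y t)

@[reassoc (attr := simp)]
lemma map_app_π (k : SimplexCategoryᵒᵖ) (t : T) :
    (Limits.Pi.map a).app k ≫ (Pi.π Y t).app k = (Pi.π X t).app k ≫ (a t).app k := by
  rw [← NatTrans.comp_app, ← NatTrans.comp_app, Limits.Pi.map_π]

/-- The product homotopy. -/
noncomputable def piHomotopy (h : ∀ t, SimplicialObject.Homotopy (a t) (b t)) :
    SimplicialObject.Homotopy (Limits.Pi.map a) (Limits.Pi.map b) where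
  h {n} i := liftLevel Y (op ⦋n + 1⦌) (fun t => (Pi.π X t).app (op ⦋n⦌) ≫ (h t).h i)
  h_zero_comp_δ_zero n := hom_ext_level Y _ (fun t => by simp)
  h_last_comp_δ_last n := hom_ext_level Y _ (fun t => by simp)
  h_succ_comp_δ_castSucc_of_lt i j hij := hom_ext_level Y _ (fun t => by
    simp [(h t).h_succ_comp_δ_castSucc_of_lt i j hij])
  h_succ_comp_δ_castSucc_succ j := hom_ext_level Y _ (fun t => by
    simp [(h t).h_succ_comp_δ_castSucc_succ j])
  h_castSucc_comp_δ_succ_of_lt i j hji := hom_ext_level Y _ (fun t => by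
    simp [(h t).h_castSucc_comp_δ_succ_of_lt i j hji])
  h_comp_σ_castSucc_of_le i j hij := hom_ext_level Y _ (fun t => by
    simp [(h t).h_comp_σ_castSucc_of_le i j hij])
  h_comp_σ_succ_of_lt i j hji := hom_ext_level Y _ (fun t => by
    simp [(h t).h_comp_σ_succ_of_lt i j hji])

theorem main (h : ∀ t, Nonempty (SimplicialObject.Homotopy (a t) (b t))) :
    Nonempty (SimplicialObject.Homotopy (Limits.Pi.map a) (Limits.Pi.map b)) :=
  ⟨piHomotopy a b (fun t => (h t).some)⟩

end Groth.Agent.Lib.Helper8.SimpPiHtpy
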