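import Mathlib

/-!
# Helper8 — SpanCrit: the spanning class criterion for full faithfulness (S6703)
-/

set_option autoImplicit false

universe v v' u u'

open CategoryTheory CategoryTheory.Limits CategoryTheory.Pretriangulated

namespace Groth.Agent.Lib.Helper8.SpanCrit

variable {D : Type u} [Category.{v} D] [Preadditive D] [HasZeroObject D] [HasShift D ℤ]
  [∀ n : ℤ, (shiftFunctor D n).Additive] [Pretriangulated D]
  {D' : Type u'} [Category.{v'} D'] [Preadditive D'] [HasZeroObject D'] [HasShift D' ℤ]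
  [∀ n : ℤ, (shiftFunctor D' n).Additive] [Pretriangulated D']
  (F : D ⥤ D')

/-- `F` is bijective on `Hom(A, B)` -/
def Bij (A B : D) : Prop := Function.Bijective (fun f : A ⟶ B => F.map f)

variable {F}

omit [Preadditive D] [HasZeroObject D] [HasShift D ℤ] [∀ n : ℤ, (shiftFunctor D n).Additive]
  [Pretriangulated D] [Preadditive D'] [HasZeroObject D'] [HasShift D' ℤ]
  [∀ n : ℤ, (shiftFunctor D' n).Additive] [Pretriangulated D'] in
lemma Bij.of_iso {A B A' B' : D} (eA : A ≅ A') (eB : B ≅ B') (h : Bij F A B) : Bij F A' B' := by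
  have h1 : (fun f' : A' ⟶ B' => F.map f') =
      ((F.mapIso eA).homCongr (F.mapIso eB)) ∘ (fun f : A ⟶ B => F.map f) ∘
        (eA.homCongr eB).symm := by
    funext f'
    simp [Iso.homCongr]
  rw [Bij, h1]
  exact (Equiv.bijective _).comp (h.comp (Equiv.bijective _))

omit [HasZeroObject D] [∀ n : ℤ, (shiftFunctor D n).Additive]
  [Pretriangulated D] [HasZeroObject D']
  [∀ n : ℤ, (shiftFunctor D' n).Additive] [Pretriangulated D'] in
lemma Bij.shift [F.CommShift ℤ] {A B : D} (h : Bij F A B) (m : ℤ) :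
    Bij F (A⟦m⟧) (B⟦m⟧) := by
  have key : ∀ f : A ⟶ B, F.map (f⟦m⟧') =
      (F.commShiftIso m).hom.app A ≫ (F.map f)⟦m⟧' ≫ (F.commShiftIso m).inv.app B := by
    intro f
    have := (F.commShiftIso m).hom.naturality f
    simp only [Functor.comp_map] at this
    rw [← reassoc_of% this, Iso.hom_inv_id_app]
    exact (Category.comp_id _).symm
  constructor
  · intro g₁ g₂ hg
    obtain ⟨f₁, rfl⟩ := (shiftFunctor D m).map_surjective g₁
    obtain ⟨f₂, rfl⟩ := (shiftFunctor D m).map_surjective g₂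
    change F.map (f₁⟦m⟧') = F.map (f₂⟦m⟧') at hg
    rw [key, key, cancel_epi, cancel_mono] at hg
    have := (shiftFunctor D' m).map_injective hg
    rw [h.1 this]
  · intro k
    obtain ⟨k'', hk''⟩ := (shiftFunctor D' m).map_surjective
      ((F.commShiftIso m).inv.app A ≫ k ≫ (F.commShiftIso m).hom.app B)
    obtain ⟨f, rfl⟩ := h.2 k''
    refine ⟨f⟦m⟧', ?_⟩
    change F.map (f⟦m⟧') = k
    rw [key, hk'']
    simp

section Adj

variable {G H : D' ⥤ D}

omit [Preadditive D] [HasZeroObject D] [HasShift D ℤ] [∀ n : ℤ, (shiftFunctor D n).Additive]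
  [Pretriangulated D] [Preadditive D'] [HasZeroObject D'] [HasShift D' ℤ]
  [∀ n : ℤ, (shiftFunctor D' n).Additive] [Pretriangulated D'] in
lemma bij_iff_unit (adjR : F ⊣ H) (A B : D) :
    Bij F A B ↔ Function.Bijective (fun f : A ⟶ B => f ≫ adjR.unit.app B) := by
  have h1 : (fun f : A ⟶ B => f ≫ adjR.unit.app B) =
      (adjR.homEquiv A (F.obj B)) ∘ (fun f : A ⟶ B => F.map f) := by
    funext f
    change _ = adjR.homEquiv A (F.obj B) (F.map f)
    rw [Adjunction.homEquiv_unit]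
    exact (adjR.unit.naturality f)
  rw [h1, Bij]
  exact ⟨fun h => (Equiv.bijective _).comp h, fun h => by
    have := (Equiv.bijective (adjR.homEquiv A (F.obj B)).symm).comp h
    simpa [Function.comp_def] using this⟩

omit [Preadditive D] [HasZeroObject D] [HasShift D ℤ] [∀ n : ℤ, (shiftFunctor D n).Additive]
  [Pretriangulated D] [Preadditive D'] [HasZeroObject D'] [HasShift D' ℤ]
  [∀ n : ℤ, (shiftFunctor D' n).Additive] [Pretriangulated D'] in
lemma bij_iff_counit (adjL : G ⊣ F) (A B : D) :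
    Bij F A B ↔ Function.Bijective (fun f : A ⟶ B => adjL.counit.app A ≫ f) := by
  have h1 : (fun f : A ⟶ B => adjL.counit.app A ≫ f) =
      (adjL.homEquiv (F.obj A) B).symm ∘ (fun f : A ⟶ B => F.map f) := by
    funext f
    change _ = (adjL.homEquiv (F.obj A) B).symm (F.map f)
    rw [Adjunction.homEquiv_counit]
    exact (adjL.counit.naturality f).symm
  rw [h1, Bij]
  exact ⟨fun h => (Equiv.bijective _).comp h, fun h => by
    have := (Equiv.bijective (adjL.homEquiv (F.obj A) B)).comp h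
    simpa [Function.comp_def] using this⟩

end Adj

/-- naturality of the cancellation of shifts -/
lemma shift_neg_nat {A B : D} (f : A ⟶ B) :
    (f⟦(1 : ℤ)⟧')⟦(-1 : ℤ)⟧' ≫ (shiftShiftNeg B (1 : ℤ)).hom =
      (shiftShiftNeg A (1 : ℤ)).hom ≫ f :=
  (shiftFunctorCompIsoId D (1 : ℤ) (-1) (by simp)).hom.naturality f

/-- Step I: the unit is an isomorphism at an object on which `F` is bijective against a
shift-stable testing class -/
lemma isIso_unit {H : D' ⥤ D} (adjR : F ⊣ H) (Sh : ObjectProperty D)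
    (hSh : ∀ A, Sh A → Sh (A⟦(-1 : ℤ)⟧))
    (h2 : ∀ K : D, (∀ A, Sh A → ∀ f : A ⟶ K, f = 0) → IsZero K)
    (B : D) (hB : ∀ A, Sh A → Bij F A B) : IsIso (adjR.unit.app B) := by
  obtain ⟨C, p, δ, hT⟩ := distinguished_cocone_triangle (adjR.unit.app B)
  have hC : IsZero C := by
    apply h2
    intro A hA f
    have hinj : ∀ h : A ⟶ B⟦(1 : ℤ)⟧, h ≫ (adjR.unit.app B)⟦(1 : ℤ)⟧' = 0 → h = 0 := by
      intro h hh
      have h1 : (h⟦(-1 : ℤ)⟧' ≫ (shiftShiftNeg B (1 : ℤ)).hom) ≫ adjR.unit.app B = 0 := by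
        rw [Category.assoc, ← shift_neg_nat, ← Functor.map_comp_assoc, hh, Functor.map_zero,
          zero_comp]
      have h2' := ((bij_iff_unit adjR _ B).1 (hB _ (hSh A hA))).1
        (h1.trans (zero_comp (f := adjR.unit.app B)).symm)
      apply (shiftFunctor D (-1 : ℤ)).map_injective
      rw [Functor.map_zero, ← cancel_mono (shiftShiftNeg B (1 : ℤ)).hom, zero_comp]
      exact h2'
    have h31 : δ ≫ (adjR.unit.app B)⟦(1 : ℤ)⟧' = 0 := comp_distTriang_mor_zero₃₁ _ hT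
    have h12 : adjR.unit.app B ≫ p = 0 := comp_distTriang_mor_zero₁₂ _ hT
    have h1 : f ≫ δ = 0 := hinj _ (by rw [Category.assoc, h31, comp_zero])
    obtain ⟨g, hg⟩ : ∃ g : A ⟶ H.obj (F.obj B), f = g ≫ p := Triangle.coyoneda_exact₃ _ hT f h1
    obtain ⟨g', hg'⟩ := ((bij_iff_unit adjR A B).1 (hB A hA)).2 g
    change g' ≫ adjR.unit.app B = g at hg'
    rw [hg, ← hg', Category.assoc, h12, comp_zero]
  exact (Triangle.isZero₃_iff_isIso₁ _ hT).1 hC

/-- Step II: the counit is an isomorphism -/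
lemma isIso_counit {G : D' ⥤ D} (adjL : G ⊣ F) (Sh : ObjectProperty D)
    (hSh : ∀ A, Sh A → Sh (A⟦(-1 : ℤ)⟧))
    (h3 : ∀ K : D, (∀ B, Sh B → ∀ f : K ⟶ B, f = 0) → IsZero K)
    (hB : ∀ A B, Sh B → Bij F A B) (A : D) : IsIso (adjL.counit.app A) := by
  obtain ⟨C, p, δ, hT⟩ := distinguished_cocone_triangle (adjL.counit.app A)
  have hC : IsZero C := by
    apply h3
    intro B hBs f
    have h12 : adjL.counit.app A ≫ p = 0 := comp_distTriang_mor_zero₁₂ _ hT
    have h31 : δ ≫ (adjL.counit.app A)⟦(1 : ℤ)⟧' = 0 := comp_distTriang_mor_zero₃₁ _ hT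
    have h1 : p ≫ f = 0 := by
      apply ((bij_iff_counit adjL A B).1 (hB A B hBs)).1
      change adjL.counit.app A ≫ p ≫ f = adjL.counit.app A ≫ 0
      rw [reassoc_of% h12, zero_comp, comp_zero]
    obtain ⟨g, hg⟩ : ∃ g : (G.obj (F.obj A))⟦(1 : ℤ)⟧ ⟶ B, f = δ ≫ g :=
      Triangle.yoneda_exact₃ _ hT f h1
    -- `g` factors through the shifted counit
    obtain ⟨g₂, hg₂⟩ := ((bij_iff_counit adjL A _).1 (hB A _ (hSh B hBs))).2
      ((shiftShiftNeg (G.obj (F.obj A)) (1 : ℤ)).inv ≫ g⟦(-1 : ℤ)⟧')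
    change adjL.counit.app A ≫ g₂ = _ at hg₂
    obtain ⟨g', hg'⟩ := (shiftFunctor D (-1 : ℤ)).map_surjective
      ((shiftShiftNeg A (1 : ℤ)).hom ≫ g₂)
    have h2 : g = (adjL.counit.app A)⟦(1 : ℤ)⟧' ≫ g' := by
      apply (shiftFunctor D (-1 : ℤ)).map_injective
      rw [Functor.map_comp, hg', reassoc_of% (shift_neg_nat (adjL.counit.app A)), hg₂,
        Iso.hom_inv_id_assoc]
    rw [hg, h2, reassoc_of% h31, zero_comp]
  exact (Triangle.isZero₃_iff_isIso₁ _ hT).1 hC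

theorem main (F : D ⥤ D') [F.CommShift ℤ] [F.IsLeftAdjoint] [F.IsRightAdjoint] (S : Set D)
    (h2 : ∀ K : D, (∀ E ∈ S, ∀ (i : ℤ) (f : E ⟶ (shiftFunctor D i).obj K), f = 0) → IsZero K)
    (h3 : ∀ K : D, (∀ E ∈ S, ∀ (i : ℤ) (f : K ⟶ (shiftFunctor D i).obj E), f = 0) → IsZero K)
    (h4 : ∀ E ∈ S, ∀ E' ∈ S, ∀ i : ℤ,
      Function.Bijective (fun f : E ⟶ (shiftFunctor D i).obj E' => F.map f)) :
    F.Full ∧ F.Faithful := by
  let Sh : ObjectProperty D := fun A => ∃ E ∈ S, ∃ j : ℤ, Nonempty (A ≅ E⟦j⟧)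
  have hSh : ∀ A, Sh A → Sh (A⟦(-1 : ℤ)⟧) := by
    rintro A ⟨E, hE, j, ⟨e⟩⟩
    exact ⟨E, hE, j - 1, ⟨(shiftFunctor D (-1 : ℤ)).mapIso e ≪≫
      ((shiftFunctorAdd' D j (-1) (j - 1) (by omega)).symm.app E)⟩⟩
  have hBij : ∀ A B, Sh A → Sh B → Bij F A B := by
    rintro A B ⟨E, hE, j, ⟨eA⟩⟩ ⟨E', hE', i, ⟨eB⟩⟩
    have h0 : Bij F E (E'⟦i - j⟧) := h4 E hE E' hE' (i - j)
    exact (h0.shift j).of_iso eA.symm
      (((shiftFunctorAdd' D (i - j) j i (by omega)).symm.app E') ≪≫ eB.symm)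
  have h2' : ∀ K : D, (∀ A, Sh A → ∀ f : A ⟶ K, f = 0) → IsZero K := by
    intro K hK
    apply h2
    intro E hE i f
    have h := hK (E⟦-i⟧) ⟨E, hE, -i, ⟨Iso.refl _⟩⟩
      (f⟦-i⟧' ≫ (shiftFunctorCompIsoId D i (-i) (by omega)).hom.app K)
    rw [← cancel_mono ((shiftFunctorCompIsoId D i (-i) (by omega)).inv.app K), Category.assoc,
      Iso.hom_inv_id_app, zero_comp] at h
    apply (shiftFunctor D (-i)).map_injective
    rw [Functor.map_zero]
    exact (Category.comp_id _).symm.trans h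
  have h3' : ∀ K : D, (∀ B, Sh B → ∀ f : K ⟶ B, f = 0) → IsZero K := by
    intro K hK
    apply h3
    intro E hE i f
    exact hK _ ⟨E, hE, i, ⟨Iso.refl _⟩⟩ f
  let adjR := Adjunction.ofIsLeftAdjoint F
  let adjL := Adjunction.ofIsRightAdjoint F
  have hη : ∀ B, Sh B → IsIso (adjR.unit.app B) := fun B hB =>
    isIso_unit adjR Sh hSh h2' B (fun A hA => hBij A B hA hB)
  have hAll : ∀ A B, Sh B → Bij F A B := by
    intro A B hB
    rw [bij_iff_unit adjR]
    haveI := hη B hB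
    constructor
    · intro f g hfg
      exact (cancel_mono (adjR.unit.app B)).1 hfg
    · intro g
      exact ⟨g ≫ inv (adjR.unit.app B), by simp⟩
  haveI : ∀ A, IsIso (adjL.counit.app A) := fun A => isIso_counit adjL Sh hSh h3' hAll A
  haveI : IsIso adjL.counit := NatIso.isIso_of_isIso_app _
  let ff := adjL.fullyFaithfulROfIsIsoCounit
  exact ⟨ff.full, ff.faithful⟩

end Groth.Agent.Lib.Helper8.SpanCrit
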