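import Mathlib
import Groth.Agent.Lib.Helper8.SpecialC
import Groth.Agent.Lib.Helper8.PaSmooth
import Groth.Agent.Lib.Helper28.TensorIso

/-! # Helper8 — ideals of finite colength on an integral proper curve have zero-dimensional support;
`h⁰(L ⊗ I) = h⁰(L) - deg Z` once `deg L > 2g - 2 + deg Z` -/
set_option autoImplicit false
universe u
open CategoryTheory CategoryTheory.Limits AlgebraicGeometry Opposite TopologicalSpace MonoidalCategory
noncomputable section

namespace Groth.Agent.Lib.Helper8.SpecialD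

open Groth.Agent.Lib.Helper8.EulerK Groth.Agent.Lib.Helper8.KillA Groth.Agent.Lib.Helper8.GGKill
  Groth.Agent.Lib.Helper8.CurveInv Groth.Agent.Lib.Helper8.CurveDeg
  Groth.Agent.Lib.Helper6.DevCore Groth.Agent.Lib.Helper6.DevRed
  Groth.Agent.Lib.Helper8.SpecialA Groth.Agent.Lib.Helper8.SpecialB

section bot
variable {X : Scheme.{u}}

/-- for the zero ideal the quotient map `O → O/I` is an isomorphism -/
theorem isIso_toSubscheme_bot : IsIso (ClSub.toSubscheme (⊥ : X.IdealSheafData)) := by
  apply Groth.Agent.Lib.Helper28.TensorIso.isIso_of_bijective_on_basis _ (fun V => IsAffineOpen V)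
  · intro U x hx
    obtain ⟨_, ⟨V, hV, rfl⟩, hptV, hVU⟩ := X.isBasis_affineOpens.exists_subset_of_mem_open hx U.2
    exact ⟨V, hV, hptV, hVU⟩
  · intro W hW
    constructor
    · rw [injective_iff_map_eq_zero]
      intro r hr
      have h1 : (show Γ(X, W) from r) ∈ RingHom.ker ((⊥ : X.IdealSheafData).subschemeι.app W).hom := by
        rw [RingHom.mem_ker]
        exact hr
      rw [Scheme.IdealSheafData.ker_subschemeι_app (⊥ : X.IdealSheafData) ⟨W, hW⟩] at h1
      exact h1
    · intro y
      obtain ⟨r, hr⟩ := (⊥ : X.IdealSheafData).subschemeι_app_surjective ⟨W, hW⟩ y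
      exact ⟨r, hr⟩

end bot

variable (k : Type u) [Field k] (X : Scheme.{u}) [X.Over (Spec (CommRingCat.of k))]
  [IsIntegral X] [IsProper (X ↘ Spec (CommRingCat.of k))]

omit [IsProper (X ↘ Spec (CommRingCat.of k))] in
/-- if `h⁰(O/I) ≠ h⁰(O)` then the support of `I` is not everything -/
theorem support_ne_top (I : X.IdealSheafData)
    (h : Module.finrank k (Coh.HH X (ClSub.quotMod I) 0) ≠
      Module.finrank k (Coh.HH X (Coh.structureModule X) 0)) : I.support ≠ ⊤ := by
  intro hI
  rw [Scheme.IdealSheafData.support_eq_top_iff] at hI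
  subst hI
  apply h
  haveI := isIso_toSubscheme_bot (X := X)
  exact (hh_congr k (asIso (ClSub.toSubscheme (⊥ : X.IdealSheafData))) 0).symm

omit [X.Over (Spec (CommRingCat.of k))] [IsProper (X ↘ Spec (CommRingCat.of k))] in
/-- a proper closed subset of an integral noetherian curve has dimension `≤ 0` -/
theorem dim_le_zero_of_ne_univ [IsNoetherian X] (hdim : topologicalKrullDim X = 1) (T : Set X)
    (hT : IsClosed T) (hne : T ≠ Set.univ) : topologicalKrullDim T ≤ 0 := by
  obtain ⟨hfin, hpt⟩ :=
    Groth.Agent.Lib.Helper4.DimOneConstructible.closed_proper_finite hdim.le T hT hne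
  haveI : Finite T := hfin
  haveI : T1Space T := by
    refine ⟨fun x => ?_⟩
    have : ({x} : Set T) = Subtype.val ⁻¹' ({(x : X)} : Set X) := by
      ext y
      simp [Subtype.ext_iff]
    rw [this]
    exact (hpt x x.2).preimage continuous_subtype_val
  haveI : DiscreteTopology T := inferInstance
  exact topologicalKrullDim_zero_of_discreteTopology T

/-- `h⁰(L ⊗ I_Z) + deg Z = h⁰(L)` once `deg L > 2g - 2 + deg Z` (the subscheme `Z` imposes independent
conditions on `L`) -/
theorem h0_tensor_ideal (hdim : topologicalKrullDim X = 1)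
    (h0 : Module.finrank k (Coh.HH X (Coh.structureModule X) 0) = 1)
    (L : X.Modules) (hL : PicF.IsInvertible L) (Z : X.IdealSheafData)
    (hZ : topologicalKrullDim (Z.support : Set X) ≤ 0)
    (hdeg : 2 * (Curv2.genus k X : ℤ) - 2 + Module.finrank k (Coh.HH X (ClSub.quotMod Z) 0) <
      Curv2.deg k X L 1) :
    Module.finrank k (Coh.HH X (CohB1.tensorMod L (ClSub.idealMod Z)) 0) +
      Module.finrank k (Coh.HH X (ClSub.quotMod Z) 0) = Module.finrank k (Coh.HH X L 0) := by
  obtain ⟨hsub, -⟩ := vanish_of_deg_gt k X hdim h0 L hL Z hZ hdeg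
  obtain ⟨hcM, -, hχ⟩ := ideal_tensor_data k X hdim L hL Z hZ
  have hLc := Groth.Agent.Lib.Helper6.K0Op.isCoh_of_isInvertible L hL
  have hO := Groth.Agent.Lib.Helper28.AmpleUnit.isInvertible_structureModule X
  have hcO := Groth.Agent.Lib.Helper6.K0Op.isCoh_of_isInvertible _ hO
  have h3 := Groth.Agent.Lib.Helper8.CurveRR.euler_eq_sub k X hdim.le _ hcO.1
  have h4 := Groth.Agent.Lib.Helper8.CurveRR.euler_eq_sub k X hdim.le _ hcM.1
  have h5 := Groth.Agent.Lib.Helper8.CurveRR.euler_eq_sub k X hdim.le _ hLc.1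
  have hsubL : Subsingleton (Coh.HH X L 1) := by
    apply Groth.Agent.Lib.Helper8.SpecialC.h1_subsingleton_of_euler k X hdim L hL
    unfold Curv2.deg at hdeg
    unfold Curv2.genus at hdeg ⊢
    rw [h0] at h3
    push_cast at h3 hdeg ⊢
    omega
  rw [Module.finrank_zero_of_subsingleton (M := Coh.HH X _ 1)] at h4 h5
  have hb := hh_congr k (Groth.Agent.Lib.Helper6.K0Inv.braidIso L (ClSub.idealMod Z)) 0
  unfold hh at hb
  rw [hb]
  push_cast at h4 h5
  omega

end Groth.Agent.Lib.Helper8.SpecialD
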