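import Groth.Agent.Lib.Helper8.SpecialInv
import Groth.Agent.S0970
import Mathlib.Algebra.Homology.DerivedCategory.Basic

/-!
# Helper8: special direct systems of left resolutions (S1030)
-/

universe v u

open CategoryTheory CategoryTheory.Limits ZeroObject HomologicalComplex

namespace Groth.Agent.Lib.Helper8.SpecialDir

open CochainComplex CochainComplex.HomComplex CochainComplex.mappingCone
open Groth.Agent.Lib.Helper8 Groth.Agent.Lib.Helper8.SpecialInv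

variable {A : Type u} [Category.{v} A] [Abelian A]

/-- the cokernel of an inclusion of a biproduct decomposition -/
noncomputable def cokernelIsoOfSplit {X Y B : A} (s : Y ⟶ X) (p : X ⟶ Y) (r : X ⟶ B) (j : B ⟶ X)
    (h2 : s ≫ r = 0) (h3 : j ≫ r = 𝟙 B) (h5 : p ≫ s + r ≫ j = 𝟙 X) : cokernel s ≅ B where
  hom := cokernel.desc s r h2
  inv := j ≫ cokernel.π s
  hom_inv_id := by
    rw [← cancel_epi (cokernel.π s), cokernel.π_desc_assoc, Category.comp_id]
    have : r ≫ j = 𝟙 X - p ≫ s := by rw [← h5]; abel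
    rw [← Category.assoc, this, Preadditive.sub_comp, Category.id_comp, Category.assoc,
      cokernel.condition, comp_zero, sub_zero]
  inv_hom_id := by
    rw [Category.assoc, cokernel.π_desc, h3]

/-- the cokernel of the inclusion in a split datum -/
noncomputable def _root_.Groth.Agent.Lib.Helper8.SpecialInv.SplitData.cokernelIso {X Y B : A} {p : X ⟶ Y} (d : SplitData p B) :
    cokernel d.s ≅ B :=
  cokernelIsoOfSplit d.s p d.r d.j d.s_r d.j_r d.total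

/-- the split data of the second projection of the mapping cone -/
noncomputable def coneSplit' {K L : CochainComplex A ℤ} (φ : K ⟶ L) (i : ℤ) :
    SplitData ((snd φ).v i i (add_zero i)) (K.X (i + 1)) where
  r := (fst φ).1.v i (i + 1) rfl
  s := (inr φ).f i
  j := (inl φ).v (i + 1) i (by omega)
  s_p := inr_f_snd_v φ i
  j_p := inl_v_snd_v φ (i + 1) i (by omega)
  j_r := inl_v_fst_v φ (i + 1) i (by omega)
  s_r := inr_f_fst_v φ i (i + 1) rfl
  total := by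
    rw [add_comm]
    exact id_X φ i (i + 1) rfl

section Cone

attribute [local instance] HasDerivedCategory.standard

theorem quasiIso_mappingCone_map {K₁ L₁ K₂ L₂ : CochainComplex A ℤ} (φ₁ : K₁ ⟶ L₁) (φ₂ : K₂ ⟶ L₂)
    (a : K₁ ⟶ K₂) (b : L₁ ⟶ L₂) (comm : φ₁ ≫ b = a ≫ φ₂) [QuasiIso a] [QuasiIso b] :
    QuasiIso (mappingCone.map φ₁ φ₂ a b comm) := by
  rw [← DerivedCategory.isIso_Q_map_iff_quasiIso]
  have h1 : IsIso (DerivedCategory.Q.map a) := by
    rw [DerivedCategory.isIso_Q_map_iff_quasiIso]; infer_instance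
  have h2 : IsIso (DerivedCategory.Q.map b) := by
    rw [DerivedCategory.isIso_Q_map_iff_quasiIso]; infer_instance
  exact Pretriangulated.isIso₃_of_isIso₁₂
    (DerivedCategory.Q.mapTriangle.map (mappingCone.triangleMap φ₁ φ₂ a b comm))
    (DerivedCategory.mappingCone_triangle_distinguished φ₁)
    (DerivedCategory.mappingCone_triangle_distinguished φ₂) h1 h2

end Cone

section ConeStep

variable {M Q'' : CochainComplex A ℤ} (β : Q'' ⟶ M)

/-- the short exact sequence `ker ⟶ Q'' ⟶ M` -/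
noncomputable def S : ShortComplex (CochainComplex A ℤ) :=
  ShortComplex.mk (kernel.ι β) β (kernel.condition β)

lemma S_shortExact (hβ : ∀ i, Epi (β.f i)) : (S β).ShortExact := by
  have : Epi β := HomologicalComplex.epi_of_epi_f _ hβ
  exact
    { exact := ShortComplex.exact_kernel β
      mono_f := by dsimp [S]; infer_instance
      epi_g := this }

variable {T : CochainComplex A ℤ} (ψ : T ⟶ kernel β)

/-- the cone map -/
noncomputable def φD : T ⟶ Q'' := ψ ≫ kernel.ι β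

/-- the cone -/
noncomputable abbrev QD : CochainComplex A ℤ := mappingCone (φD β ψ)

/-- comparison of cones -/
noncomputable def mD : QD β ψ ⟶ mappingCone (kernel.ι β) :=
  mappingCone.map (φD β ψ) (kernel.ι β) ψ (𝟙 Q'') (by rw [Category.comp_id]; rfl)

/-- the quasi-isomorphism `cone(ker ⟶ Q'') ⟶ M`, cleanly typed -/
noncomputable def dS : mappingCone (kernel.ι β) ⟶ M := descShortComplex (S β)

lemma inr_dS : inr (kernel.ι β) ≫ dS β = β := inr_descShortComplex (S β)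

lemma inr_mD : inr (φD β ψ) ≫ mD β ψ = inr (kernel.ι β) := by
  simp [mD, mappingCone.map]

/-- the resolution map -/
noncomputable def πD : QD β ψ ⟶ M := mD β ψ ≫ dS β

/-- the inclusion -/
noncomputable def ιD : Q'' ⟶ QD β ψ := inr (φD β ψ)

lemma ιD_πD : ιD β ψ ≫ πD β ψ = β := by
  dsimp only [ιD, πD]
  rw [reassoc_of% (inr_mD β ψ), inr_dS]

lemma quasiIso_πD (hβ : ∀ i, Epi (β.f i)) [QuasiIso ψ] : QuasiIso (πD β ψ) := by
  have : QuasiIso (mD β ψ) := quasiIso_mappingCone_map _ _ _ _ _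
  have : QuasiIso (dS β) := quasiIso_descShortComplex (S_shortExact β hβ)
  dsimp only [πD]
  infer_instance

lemma epi_πD_f (hβ : ∀ i, Epi (β.f i)) (i : ℤ) : Epi ((πD β ψ).f i) := by
  have h : (ιD β ψ).f i ≫ (πD β ψ).f i = β.f i := by
    rw [← HomologicalComplex.comp_f, ιD_πD]
  have := hβ i
  exact epi_of_epi_fac h

end ConeStep

/-- bounded above -/
def BddAbove (K : CochainComplex A ℤ) : Prop := ∃ b : ℤ, ∀ i : ℤ, b < i → IsZero (K.X i)

lemma bddAbove_iff (K : CochainComplex A ℤ) : BddAbove K ↔ ∃ b : ℤ, K.IsStrictlyLE b := by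
  constructor
  · rintro ⟨b, h⟩
    exact ⟨b, (CochainComplex.isStrictlyLE_iff K b).2 (fun i hi => h i hi)⟩
  · rintro ⟨b, h⟩
    exact ⟨b, fun i hi => K.isZero_of_isStrictlyLE b i hi⟩

section Step

variable (P : ObjectProperty A) [P.IsClosedUnderIsomorphisms]
  (hP0 : ∃ Z : A, IsZero Z ∧ P Z) (hPsum : ∀ X Y : A, P X → P Y → P (X ⊞ Y))
  (hP : ∀ X : A, ∃ (Y : A) (π : Y ⟶ X), P Y ∧ Epi π)

include hP0 hP in
/-- left resolutions of bounded above complexes (from S0970) -/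
lemma exists_res (K : CochainComplex A ℤ) (hK : BddAbove K) :
    ∃ (L : CochainComplex A ℤ) (α : L ⟶ K), BddAbove L ∧ (∀ n, P (L.X n)) ∧
      (∀ n, Epi (α.f n)) ∧ QuasiIso α := by
  obtain ⟨a, ha⟩ := (bddAbove_iff K).1 hK
  obtain ⟨L, α, h1, h2, h3, h4⟩ := Groth.Agent.S0970.result P hP0 hP K a
  exact ⟨L, α, (bddAbove_iff L).2 ⟨a, h1⟩, h2, h3, h4⟩

include hP0 hPsum hP in
lemma cone_step {M Q'' : CochainComplex A ℤ} (β : Q'' ⟶ M) (hβ : ∀ i, Epi (β.f i))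
    (hQb : BddAbove Q'') (hQP : ∀ i, P (Q''.X i)) :
    ∃ (Q' : CochainComplex A ℤ) (π' : Q' ⟶ M) (ι : Q'' ⟶ Q'),
      QuasiIso π' ∧ (∀ i, Epi (π'.f i)) ∧ BddAbove Q' ∧ (∀ i, P (Q'.X i)) ∧
      (∀ i, ∃ (B : A) (p : Q'.X i ⟶ Q''.X i) (d : SplitData p B), d.s = ι.f i ∧ P B) ∧
      ι ≫ π' = β := by
  have hW : BddAbove (kernel β) := by
    obtain ⟨b, hb⟩ := hQb
    refine ⟨b, fun i hi => ?_⟩
    have : Mono ((kernel.ι β).f i) :=
      inferInstanceAs (Mono ((HomologicalComplex.eval A (ComplexShape.up ℤ) i).map (kernel.ι β)))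
    rw [IsZero.iff_id_eq_zero, ← cancel_mono ((kernel.ι β).f i)]
    exact (hb i hi).eq_of_tgt _ _
  obtain ⟨T, ψ, hTb, hTP, _, hψ⟩ := exists_res P hP0 hP _ hW
  refine ⟨QD β ψ, πD β ψ, ιD β ψ, quasiIso_πD β ψ hβ, epi_πD_f β ψ hβ, ?_, ?_, ?_, ιD_πD β ψ⟩
  · obtain ⟨a, ha⟩ := hQb
    obtain ⟨b, hb⟩ := hTb
    refine ⟨max a b, fun i hi => ?_⟩
    exact IsZero.of_iso (isZero_biprod (ha i (lt_of_le_of_lt (le_max_left _ _) hi))
      (hb (i + 1) (by have := le_max_right a b; omega))) (coneSplit' (φD β ψ) i).isoBiprod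
  · intro i
    exact P.prop_of_iso (coneSplit' (φD β ψ) i).isoBiprod.symm (hPsum _ _ (hQP i) (hTP (i + 1)))
  · intro i
    exact ⟨T.X (i + 1), _, coneSplit' (φD β ψ) i, rfl, hTP (i + 1)⟩

include hP0 hPsum hP in
lemma step {M Q : CochainComplex A ℤ} (g : Q ⟶ M) (hMb : BddAbove M) (hQb : BddAbove Q)
    (hQP : ∀ i, P (Q.X i)) :
    ∃ (Q' : CochainComplex A ℤ) (π' : Q' ⟶ M) (ι : Q ⟶ Q'),
      QuasiIso π' ∧ (∀ i, Epi (π'.f i)) ∧ BddAbove Q' ∧ (∀ i, P (Q'.X i)) ∧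
      (∀ i, ∃ (B : A) (p : Q'.X i ⟶ Q.X i) (d : SplitData p B), d.s = ι.f i ∧ P B) ∧
      ι ≫ π' = g := by
  obtain ⟨R, α, hRb, hRP, hα, _⟩ := exists_res P hP0 hP M hMb
  let β : Q ⊞ R ⟶ M := biprod.desc g α
  have hβ : ∀ i, Epi (β.f i) := fun i => by
    have h : (biprod.inr : R ⟶ Q ⊞ R).f i ≫ β.f i = α.f i := by
      rw [← HomologicalComplex.comp_f, biprod.inr_desc]
    have := hα i
    exact epi_of_epi_fac h
  have hQ''b : BddAbove (Q ⊞ R) := by
    obtain ⟨a, ha⟩ := hQb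
    obtain ⟨b, hb⟩ := hRb
    refine ⟨max a b, fun i hi => ?_⟩
    exact IsZero.of_iso (isZero_biprod (ha i (lt_of_le_of_lt (le_max_left _ _) hi))
      (hb i (lt_of_le_of_lt (le_max_right _ _) hi))) (biprodSplit Q R i).isoBiprod
  have hQ''P : ∀ i, P ((Q ⊞ R).X i) := fun i =>
    P.prop_of_iso (biprodSplit Q R i).isoBiprod.symm (hPsum _ _ (hQP i) (hRP i))
  obtain ⟨Q', π', ι₀, h1, h2, h3, h4, h5, h6⟩ :=
    cone_step P hP0 hPsum hP β hβ hQ''b hQ''P
  refine ⟨Q', π', biprod.inl ≫ ι₀, h1, h2, h3, h4, fun i => ?_, ?_⟩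
  · obtain ⟨B, p, d, hd, hB⟩ := h5 i
    refine ⟨B ⊞ R.X i, _, d.comp (biprodSplit Q R i), ?_, hPsum _ _ hB (hRP i)⟩
    change (biprodSplit Q R i).s ≫ d.s = _
    rw [hd]
    rfl
  · rw [Category.assoc, h6, biprod.inl_desc]

end Step

section Trunc

variable (K : CochainComplex A ℤ)

/-- the transition map between truncations -/
noncomputable def tMap (a b : ℤ) (hab : a ≤ b) : K.truncLE a ⟶ K.truncLE b :=
  have : (K.truncLE a).IsStrictlyLE b := CochainComplex.isStrictlyLE_of_le _ a b hab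
  inv ((K.truncLE a).ιTruncLE b) ≫ CochainComplex.truncLEMap (K.ιTruncLE a) b

@[reassoc]
lemma tMap_ι (a b : ℤ) (hab : a ≤ b) : tMap K a b hab ≫ K.ιTruncLE b = K.ιTruncLE a := by
  have : (K.truncLE a).IsStrictlyLE b := CochainComplex.isStrictlyLE_of_le _ a b hab
  dsimp only [tMap]
  rw [Category.assoc, CochainComplex.ιTruncLE_naturality, IsIso.inv_hom_id_assoc]

lemma bddAbove_truncLE (a : ℤ) : BddAbove (K.truncLE a) :=
  (bddAbove_iff _).2 ⟨a, inferInstance⟩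

end Trunc

section Main

variable (P : ObjectProperty A) [P.IsClosedUnderIsomorphisms]
  (hP0 : ∃ Z : A, IsZero Z ∧ P Z) (hPsum : ∀ X Y : A, P X → P Y → P (X ⊞ Y))
  (hP : ∀ X : A, ∃ (Y : A) (π : Y ⟶ X), P Y ∧ Epi π) (K : CochainComplex A ℤ)

/-- a stage of the construction -/
structure Stage (n : ℕ) where
  /-- the resolution -/
  Q : CochainComplex A ℤ
  /-- the resolution map -/
  π : Q ⟶ K.truncLE (n : ℤ)
  qis : QuasiIso π
  epi : ∀ i, Epi (π.f i)
  bdd : BddAbove Q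
  hP : ∀ i, P (Q.X i)

include hP0 hP in
lemma exists_stage0 : Nonempty (Stage P K 0) := by
  obtain ⟨L, α, h1, h2, h3, h4⟩ := exists_res P hP0 hP (K.truncLE ((0 : ℕ) : ℤ))
    (bddAbove_truncLE K _)
  exact ⟨⟨L, α, h4, h3, h1, h2⟩⟩

include hP0 hPsum hP in
lemma exists_next {n : ℕ} (s : Stage P K n) :
    ∃ (s' : Stage P K (n + 1)) (ι : s.Q ⟶ s'.Q),
      (∀ i, ∃ (B : A) (p : s'.Q.X i ⟶ s.Q.X i) (d : SplitData p B), d.s = ι.f i ∧ P B) ∧
      ι ≫ s'.π = s.π ≫ tMap K (n : ℤ) ((n + 1 : ℕ) : ℤ) (by push_cast; omega) := by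
  obtain ⟨Q', π', ι, h1, h2, h3, h4, h5, h6⟩ := step P hP0 hPsum hP
    (s.π ≫ tMap K (n : ℤ) ((n + 1 : ℕ) : ℤ) (by push_cast; omega))
    (bddAbove_truncLE K _) s.bdd s.hP
  exact ⟨⟨Q', π', h1, h2, h3, h4⟩, ι, h5, h6⟩

/-- the stages -/
noncomputable def stage : ∀ n : ℕ, Stage P K n
  | 0 => (exists_stage0 P hP0 hP K).some
  | n + 1 => (exists_next P hP0 hPsum hP K (stage n)).choose

/-- the transition maps -/
noncomputable def ιMap (n : ℕ) :
    (stage P hP0 hPsum hP K n).Q ⟶ (stage P hP0 hPsum hP K (n + 1)).Q :=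
  (exists_next P hP0 hPsum hP K (stage P hP0 hPsum hP K n)).choose_spec.choose

lemma ιMap_spec (n : ℕ) :
    (∀ i, ∃ (B : A) (p : (stage P hP0 hPsum hP K (n + 1)).Q.X i ⟶ (stage P hP0 hPsum hP K n).Q.X i)
      (d : SplitData p B), d.s = (ιMap P hP0 hPsum hP K n).f i ∧ P B) ∧
      ιMap P hP0 hPsum hP K n ≫ (stage P hP0 hPsum hP K (n + 1)).π =
        (stage P hP0 hPsum hP K n).π ≫
          tMap K (n : ℤ) ((n + 1 : ℕ) : ℤ) (by push_cast; omega) :=
  (exists_next P hP0 hPsum hP K (stage P hP0 hPsum hP K n)).choose_spec.choose_spec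

include hP0 hPsum hP in
theorem main :
    ∃ (Q : ℕ → CochainComplex A ℤ) (ι : ∀ n, Q n ⟶ Q (n + 1))
      (π : ∀ n : ℕ, Q n ⟶ K.truncLE (n : ℤ)),
      (∀ n, QuasiIso (π n) ∧ ∀ i, Epi ((π n).f i)) ∧
      (∀ n, ∃ b : ℤ, (Q n).IsStrictlyLE b) ∧ (∀ n i, P ((Q n).X i)) ∧
      (∀ n i, (∃ r : (Q (n + 1)).X i ⟶ (Q n).X i, (ι n).f i ≫ r = 𝟙 _) ∧
        P (cokernel ((ι n).f i))) ∧
      (∀ n : ℕ, π n ≫ K.ιTruncLE (n : ℤ) =
        ι n ≫ π (n + 1) ≫ K.ιTruncLE ((n + 1 : ℕ) : ℤ)) := by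
  refine ⟨fun n => (stage P hP0 hPsum hP K n).Q, ιMap P hP0 hPsum hP K,
    fun n => (stage P hP0 hPsum hP K n).π, ?_, ?_, ?_, ?_, ?_⟩
  · intro n
    exact ⟨(stage P hP0 hPsum hP K n).qis, (stage P hP0 hPsum hP K n).epi⟩
  · intro n
    exact (bddAbove_iff _).1 (stage P hP0 hPsum hP K n).bdd
  · intro n i
    exact (stage P hP0 hPsum hP K n).hP i
  · intro n i
    obtain ⟨B, p, d, hd, hB⟩ := (ιMap_spec P hP0 hPsum hP K n).1 i
    rw [← hd]
    exact ⟨⟨p, d.s_p⟩, P.prop_of_iso d.cokernelIso.symm hB⟩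
  · intro n
    rw [reassoc_of% (ιMap_spec P hP0 hPsum hP K n).2, tMap_ι]

end Main

end Groth.Agent.Lib.Helper8.SpecialDir
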