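import Groth.Agent.Lib.Helper8.KillHtpy
import Groth.Agent.Lib.Helper8.InjHullCx
import Groth.Agent.S6590

/-!
# Helper8: special inverse systems of right resolutions (S6616)
-/

universe v u

open CategoryTheory CategoryTheory.Limits ZeroObject HomologicalComplex

namespace Groth.Agent.Lib.Helper8.SpecialInv

open CochainComplex CochainComplex.HomComplex CochainComplex.mappingCone
open Groth.Agent.Lib.Helper8

variable {A : Type u} [Category.{v} A] [Abelian A]

/-- the kernel of a projection of a biproduct decomposition -/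
noncomputable def kernelIsoOfSplit {X Y B : A} (p : X ⟶ Y) (r : X ⟶ B) (s : Y ⟶ X) (j : B ⟶ X)
    (h2 : j ≫ p = 0) (h3 : j ≫ r = 𝟙 B) (h5 : p ≫ s + r ≫ j = 𝟙 X) : kernel p ≅ B where
  hom := kernel.ι p ≫ r
  inv := kernel.lift p j h2
  hom_inv_id := by
    rw [← cancel_mono (kernel.ι p), Category.assoc, Category.assoc, kernel.lift_ι, Category.id_comp]
    have : r ≫ j = 𝟙 X - p ≫ s := by rw [← h5]; abel
    rw [this, Preadditive.comp_sub, Category.comp_id, kernel.condition_assoc, zero_comp, sub_zero]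
  inv_hom_id := by
    rw [← Category.assoc, kernel.lift_ι, h3]

/-- data exhibiting `p : X ⟶ Y` as the first projection of a biproduct decomposition
`X ≅ Y ⊞ B` -/
structure SplitData {X Y : A} (p : X ⟶ Y) (B : A) where
  /-- second projection -/
  r : X ⟶ B
  /-- first inclusion -/
  s : Y ⟶ X
  /-- second inclusion -/
  j : B ⟶ X
  s_p : s ≫ p = 𝟙 Y
  j_p : j ≫ p = 0
  j_r : j ≫ r = 𝟙 B
  s_r : s ≫ r = 0
  total : p ≫ s + r ≫ j = 𝟙 X

namespace SplitData

variable {X Y Z B B' : A} {p : X ⟶ Y}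

/-- the kernel of `p` -/
noncomputable def kernelIso (d : SplitData p B) : kernel p ≅ B :=
  kernelIsoOfSplit p d.r d.s d.j d.j_p d.j_r d.total

/-- the biproduct decomposition -/
noncomputable def isoBiprod (d : SplitData p B) : X ≅ Y ⊞ B where
  hom := biprod.lift p d.r
  inv := biprod.desc d.s d.j
  hom_inv_id := by
    rw [biprod.lift_desc]
    exact d.total
  inv_hom_id := by
    apply biprod.hom_ext <;> apply biprod.hom_ext' <;>
      simp [d.s_p, d.j_p, d.j_r, d.s_r]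

/-- composition -/
noncomputable def comp (d : SplitData p B) {q : Y ⟶ Z} (d' : SplitData q B') :
    SplitData (p ≫ q) (B ⊞ B') where
  r := biprod.lift d.r (p ≫ d'.r)
  s := d'.s ≫ d.s
  j := biprod.desc d.j (d'.j ≫ d.s)
  s_p := by rw [Category.assoc, reassoc_of% d.s_p, d'.s_p]
  j_p := by
    apply biprod.hom_ext'
    · rw [biprod.inl_desc_assoc, reassoc_of% d.j_p, zero_comp, comp_zero]
    · rw [biprod.inr_desc_assoc, Category.assoc, reassoc_of% d.s_p, d'.j_p, comp_zero]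
  j_r := by
    apply biprod.hom_ext <;> apply biprod.hom_ext'
    · simp [d.j_r]
    · simp [d.s_r]
    · simp [reassoc_of% d.j_p]
    · simp [reassoc_of% d.s_p, d'.j_r]
  s_r := by
    apply biprod.hom_ext
    · simp [d.s_r]
    · simp [reassoc_of% d.s_p, d'.s_r]
  total := by
    rw [biprod.lift_desc]
    have h1 : (p ≫ q) ≫ d'.s ≫ d.s + (d.r ≫ d.j + (p ≫ d'.r) ≫ d'.j ≫ d.s) =
        p ≫ (q ≫ d'.s + d'.r ≫ d'.j) ≫ d.s + d.r ≫ d.j := by
      simp only [Category.assoc, Preadditive.add_comp, Preadditive.comp_add]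
      abel
    rw [h1, d'.total, Category.id_comp, d.total]

/-- composition with an isomorphism -/
noncomputable def compIso (d : SplitData p B) (θ : Y ≅ Z) : SplitData (p ≫ θ.hom) B where
  r := d.r
  s := θ.inv ≫ d.s
  j := d.j
  s_p := by rw [Category.assoc, reassoc_of% d.s_p, θ.inv_hom_id]
  j_p := by rw [reassoc_of% d.j_p, zero_comp]
  j_r := d.j_r
  s_r := by rw [Category.assoc, d.s_r, comp_zero]
  total := by
    rw [Category.assoc, θ.hom_inv_id_assoc]
    exact d.total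

end SplitData

/-- bounded below -/
def BddBelow (K : CochainComplex A ℤ) : Prop := ∃ a : ℤ, ∀ i : ℤ, i < a → IsZero (K.X i)

lemma bddBelow_iff (K : CochainComplex A ℤ) : BddBelow K ↔ ∃ a : ℤ, K.IsStrictlyGE a := by
  constructor
  · rintro ⟨a, h⟩
    exact ⟨a, (CochainComplex.isStrictlyGE_iff K a).2 (fun i hi => h i hi)⟩
  · rintro ⟨a, h⟩
    exact ⟨a, fun i hi => K.isZero_of_isStrictlyGE a i hi⟩

/-- the split data of the first projection of the mapping cone -/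
noncomputable def coneSplit {K L : CochainComplex A ℤ} (φ : K ⟶ L) (i : ℤ) :
    SplitData ((fst φ).1.v i (i + 1) rfl) (L.X i) where
  r := (snd φ).v i i (add_zero i)
  s := (inl φ).v (i + 1) i (by omega)
  j := (inr φ).f i
  s_p := inl_v_fst_v φ (i + 1) i (by omega)
  j_p := inr_f_fst_v φ i (i + 1) rfl
  j_r := inr_f_snd_v φ i
  s_r := inl_v_snd_v φ (i + 1) i (by omega)
  total := id_X φ i (i + 1) rfl

/-- the split data of the first projection of a biproduct of complexes -/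
noncomputable def biprodSplit (Q R : CochainComplex A ℤ) (i : ℤ) :
    SplitData ((biprod.fst : Q ⊞ R ⟶ Q).f i) (R.X i) where
  r := (biprod.snd : Q ⊞ R ⟶ R).f i
  s := (biprod.inl : Q ⟶ Q ⊞ R).f i
  j := (biprod.inr : R ⟶ Q ⊞ R).f i
  s_p := by rw [← HomologicalComplex.comp_f, biprod.inl_fst, HomologicalComplex.id_f]
  j_p := by rw [← HomologicalComplex.comp_f, biprod.inr_fst, HomologicalComplex.zero_f]
  j_r := by rw [← HomologicalComplex.comp_f, biprod.inr_snd, HomologicalComplex.id_f]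
  s_r := by rw [← HomologicalComplex.comp_f, biprod.inl_snd, HomologicalComplex.zero_f]
  total := by
    rw [← HomologicalComplex.comp_f, ← HomologicalComplex.comp_f, ← HomologicalComplex.add_f_apply,
      biprod.total, HomologicalComplex.id_f]

section Cocone

open InjHullCx KillHtpy

variable {M Q'' : CochainComplex A ℤ} (β : M ⟶ Q'')

/-- `β` shifted by `-1` -/
noncomputable def β' : sh M ⟶ sh Q'' :=
  (CategoryTheory.shiftFunctor (CochainComplex A ℤ) (-1 : ℤ)).map β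

lemma β'_f (i : ℤ) : (β' β).f i = β.f (i + -1) := rfl

lemma mono_β'_f (hβ : ∀ i, Mono (β.f i)) (i : ℤ) : Mono ((β' β).f i) := by
  rw [β'_f]
  exact hβ _

/-- the short exact sequence `M⟦-1⟧ ⟶ Q''⟦-1⟧ ⟶ coker` -/
noncomputable def S' : ShortComplex (CochainComplex A ℤ) :=
  ShortComplex.mk (β' β) (cokernel.π (β' β)) (cokernel.condition _)

lemma S'_shortExact (hβ : ∀ i, Mono (β.f i)) : (S' β).ShortExact := by
  have : Mono (β' β) := HomologicalComplex.mono_of_mono_f _ (mono_β'_f β hβ)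
  exact
    { exact := ShortComplex.exact_cokernel (β' β)
      mono_f := this
      epi_g := by dsimp [S']; infer_instance }

variable {T : CochainComplex A ℤ} (ψ : (S' β).X₃ ⟶ T)

/-- the cone map, cleanly typed -/
noncomputable def gC : sh Q'' ⟶ T := PRes3.g (S' β) ψ

/-- the cocone -/
noncomputable abbrev QC : CochainComplex A ℤ := mappingCone (gC β ψ)

/-- `M⟦-1⟧⟦1⟧ ⟶ QC`, cleanly typed -/
noncomputable def uC : (CategoryTheory.shiftFunctor (CochainComplex A ℤ) (1 : ℤ)).obj (sh M) ⟶ QC β ψ :=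
  PRes3.u (S' β) ψ

/-- first factor of `uC` -/
noncomputable def aC (i : ℤ) :
    ((CategoryTheory.shiftFunctor (CochainComplex A ℤ) (1 : ℤ)).obj (sh M)).X i ⟶ (sh Q'').X (i + 1) :=
  (β' β).f (i + 1)

lemma uC_f (i : ℤ) : (uC β ψ).f i = aC β i ≫ (inl (gC β ψ)).v (i + 1) i (by omega) := rfl

/-- the connecting map -/
noncomputable def dC : QC β ψ ⟶ (CategoryTheory.shiftFunctor (CochainComplex A ℤ) (1 : ℤ)).obj (sh Q'') :=
  dlt (gC β ψ)

/-- `M ⟶ QC` -/
noncomputable def πC : M ⟶ QC β ψ := (sIsoApp M).hom ≫ uC β ψ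

/-- `QC ⟶ Q''` -/
noncomputable def pC : QC β ψ ⟶ Q'' := -(dC β ψ ≫ (sIsoApp Q'').inv)

lemma mono_πC_f (hβ : ∀ i, Mono (β.f i)) (i : ℤ) : Mono ((πC β ψ).f i) := by
  dsimp only [πC]
  rw [HomologicalComplex.comp_f]
  have : Mono ((uC β ψ).f i) := PRes3.mono_uf ψ (S'_shortExact β hβ) i
  exact mono_comp _ _

lemma quasiIso_πC (hβ : ∀ i, Mono (β.f i)) [QuasiIso ψ] : QuasiIso (πC β ψ) := by
  dsimp only [πC]
  have : QuasiIso (uC β ψ) := PRes3.quasiIso_u ψ (S'_shortExact β hβ)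
  infer_instance

/-- the identification `(Q''⟦-1⟧).X (i+1) ≅ Q''.X i` -/
noncomputable def θ (i : ℤ) : (sh Q'').X (i + 1) ≅ Q''.X i :=
  (sX (K := sh Q'') i).symm ≪≫
    (HomologicalComplex.eval A (ComplexShape.up ℤ) i).mapIso (sIsoApp Q'').symm

lemma θ_hom (i : ℤ) : (θ (Q'' := Q'') i).hom = (sX (K := sh Q'') i).inv ≫ (sIsoApp Q'').inv.f i := rfl

lemma pC_f (i : ℤ) :
    (pC β ψ).f i = (fst (gC β ψ)).1.v i (i + 1) rfl ≫ (θ (Q'' := Q'') i).hom := by
  have h1 : (pC β ψ).f i = -((dC β ψ).f i ≫ (sIsoApp Q'').inv.f i) := rfl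
  have h2 : (dC β ψ).f i = (fst (gC β ψ)).1.v i (i + 1) rfl ≫ (-(sX (K := sh Q'') i).inv) :=
    dlt_f _ i
  rw [h1, h2, θ_hom]
  simp only [Preadditive.comp_neg, Preadditive.neg_comp, Category.assoc, neg_neg]

/-- the split data of `pC` -/
noncomputable def pCSplit (i : ℤ) : SplitData ((pC β ψ).f i) (T.X i) := by
  rw [pC_f]
  exact (coneSplit (gC β ψ) i).compIso (θ i)

lemma sIso_naturality (i : ℤ) :
    (sIsoApp M).hom.f i ≫ aC β i ≫ (sX (K := sh Q'') i).inv = β.f i ≫ (sIsoApp Q'').hom.f i := by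
  have h := (sIso (A := A)).hom.naturality β
  have h2 := congr_arg (fun φ => φ.f i) h
  simp only [HomologicalComplex.comp_f] at h2
  refine Eq.trans ?_ h2.symm
  congr 1
  have h3 : (sX (K := sh Q'') i).inv = 𝟙 _ := by
    dsimp only [sX, CochainComplex.shiftFunctorObjXIso]
    rw [HomologicalComplex.XIsoOfEq_rfl]
    rfl
  rw [h3]
  exact Category.comp_id _

lemma πC_pC : πC β ψ ≫ pC β ψ = β := by
  ext i
  rw [HomologicalComplex.comp_f, pC_f, θ_hom]
  dsimp only [πC]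
  rw [HomologicalComplex.comp_f, uC_f]
  simp only [Category.assoc]
  rw [inl_v_fst_v_assoc, reassoc_of% (sIso_naturality β i), ← HomologicalComplex.comp_f,
    Iso.hom_inv_id, HomologicalComplex.id_f, Category.comp_id]

end Cocone

lemma isZero_biprod {X Y : A} (hX : IsZero X) (hY : IsZero Y) : IsZero (X ⊞ Y) := by
  rw [IsZero.iff_id_eq_zero]
  apply biprod.hom_ext
  · exact hX.eq_of_tgt _ _
  · exact hY.eq_of_tgt _ _

section CoconeStep

variable (I : ObjectProperty A) [I.IsClosedUnderIsomorphisms]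
  (hI0 : ∃ Z : A, IsZero Z ∧ I Z) (hIprod : ∀ X Y : A, I X → I Y → I (X ⊞ Y))
  (hI : ∀ X : A, ∃ (Y : A) (ι : X ⟶ Y), I Y ∧ Mono ι)

include hI0 hI in
/-- right resolutions of bounded below complexes (from S6590) -/
lemma exists_res (K : CochainComplex A ℤ) (hK : BddBelow K) :
    ∃ (L : CochainComplex A ℤ) (α : K ⟶ L), BddBelow L ∧ (∀ n, I (L.X n)) ∧
      (∀ n, Mono (α.f n)) ∧ QuasiIso α := by
  obtain ⟨a, ha⟩ := (bddBelow_iff K).1 hK
  obtain ⟨L, α, h1, h2, h3, h4⟩ := Groth.Agent.S6590.result I hI0 hI K a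
  exact ⟨L, α, (bddBelow_iff L).2 ⟨a, h1⟩, h2, h3, h4⟩

include hI0 hIprod hI in
lemma cocone_step {M Q'' : CochainComplex A ℤ} (β : M ⟶ Q'') (hβ : ∀ i, Mono (β.f i))
    (hQb : BddBelow Q'') (hQI : ∀ i, I (Q''.X i)) :
    ∃ (Q' : CochainComplex A ℤ) (π' : M ⟶ Q') (p : Q' ⟶ Q''),
      QuasiIso π' ∧ (∀ i, Mono (π'.f i)) ∧ BddBelow Q' ∧ (∀ i, I (Q'.X i)) ∧
      (∀ i, ∃ (B : A) (_ : SplitData (p.f i) B), I B) ∧ π' ≫ p = β := by
  -- the cokernel is bounded below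
  have hW : BddBelow (S' β).X₃ := by
    obtain ⟨a, ha⟩ := hQb
    refine ⟨a + 1, fun i hi => ?_⟩
    have hz : IsZero ((InjHullCx.sh Q'').X i) := by
      have : IsZero (Q''.X (i + -1)) := ha _ (by omega)
      exact this
    have : Epi ((cokernel.π (β' β)).f i) :=
      inferInstanceAs (Epi ((HomologicalComplex.eval A (ComplexShape.up ℤ) i).map (cokernel.π (β' β))))
    change IsZero ((cokernel (β' β)).X i)
    rw [IsZero.iff_id_eq_zero, ← cancel_epi ((cokernel.π (β' β)).f i)]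
    exact hz.eq_of_src _ _
  obtain ⟨T, ψ, hTb, hTI, _, hψ⟩ := exists_res I hI0 hI _ hW
  refine ⟨QC β ψ, πC β ψ, pC β ψ, quasiIso_πC β ψ hβ, mono_πC_f β ψ hβ, ?_, ?_, ?_, πC_pC β ψ⟩
  · obtain ⟨a, ha⟩ := hQb
    obtain ⟨b, hb⟩ := hTb
    refine ⟨min a b, fun i hi => ?_⟩
    exact IsZero.of_iso (isZero_biprod (ha i (lt_of_lt_of_le hi (min_le_left _ _)))
      (hb i (lt_of_lt_of_le hi (min_le_right _ _)))) (pCSplit β ψ i).isoBiprod
  · intro i
    exact I.prop_of_iso (pCSplit β ψ i).isoBiprod.symm (hIprod _ _ (hQI i) (hTI i))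
  · intro i
    exact ⟨T.X i, pCSplit β ψ i, hTI i⟩

include hI0 hIprod hI in
lemma step {M Q : CochainComplex A ℤ} (g : M ⟶ Q) (hMb : BddBelow M) (hQb : BddBelow Q)
    (hQI : ∀ i, I (Q.X i)) :
    ∃ (Q' : CochainComplex A ℤ) (π' : M ⟶ Q') (p : Q' ⟶ Q),
      QuasiIso π' ∧ (∀ i, Mono (π'.f i)) ∧ BddBelow Q' ∧ (∀ i, I (Q'.X i)) ∧
      (∀ i, ∃ (B : A) (_ : SplitData (p.f i) B), I B) ∧ π' ≫ p = g := by
  obtain ⟨R, α, hRb, hRI, hα, _⟩ := exists_res I hI0 hI M hMb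
  let β : M ⟶ Q ⊞ R := biprod.lift g α
  have hβ : ∀ i, Mono (β.f i) := fun i => by
    have h : β.f i ≫ (biprod.snd : Q ⊞ R ⟶ R).f i = α.f i := by
      rw [← HomologicalComplex.comp_f, biprod.lift_snd]
    have := hα i
    exact mono_of_mono_fac h
  have hQ''b : BddBelow (Q ⊞ R) := by
    obtain ⟨a, ha⟩ := hQb
    obtain ⟨b, hb⟩ := hRb
    refine ⟨min a b, fun i hi => ?_⟩
    exact IsZero.of_iso (isZero_biprod (ha i (lt_of_lt_of_le hi (min_le_left _ _)))
      (hb i (lt_of_lt_of_le hi (min_le_right _ _)))) (biprodSplit Q R i).isoBiprod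
  have hQ''I : ∀ i, I ((Q ⊞ R).X i) := fun i =>
    I.prop_of_iso (biprodSplit Q R i).isoBiprod.symm (hIprod _ _ (hQI i) (hRI i))
  obtain ⟨Q', π', p₀, h1, h2, h3, h4, h5, h6⟩ :=
    cocone_step I hI0 hIprod hI β hβ hQ''b hQ''I
  refine ⟨Q', π', p₀ ≫ biprod.fst, h1, h2, h3, h4, fun i => ?_, ?_⟩
  · obtain ⟨B, d, hB⟩ := h5 i
    exact ⟨B ⊞ R.X i, d.comp (biprodSplit Q R i), hIprod _ _ hB (hRI i)⟩
  · rw [reassoc_of% h6, biprod.lift_fst]

end CoconeStep

section Trunc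

variable (K : CochainComplex A ℤ)

/-- the transition map between truncations -/
noncomputable def tMap (a b : ℤ) (hab : a ≤ b) : K.truncGE a ⟶ K.truncGE b :=
  have : (K.truncGE b).IsStrictlyGE a := CochainComplex.isStrictlyGE_of_ge _ a b hab
  CochainComplex.truncGEMap (K.πTruncGE b) a ≫ inv ((K.truncGE b).πTruncGE a)

@[reassoc]
lemma π_tMap (a b : ℤ) (hab : a ≤ b) : K.πTruncGE a ≫ tMap K a b hab = K.πTruncGE b := by
  have : (K.truncGE b).IsStrictlyGE a := CochainComplex.isStrictlyGE_of_ge _ a b hab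
  dsimp only [tMap]
  rw [CochainComplex.πTruncGE_naturality_assoc, IsIso.hom_inv_id, Category.comp_id]

lemma bddBelow_truncGE (a : ℤ) : BddBelow (K.truncGE a) :=
  (bddBelow_iff _).2 ⟨a, inferInstance⟩

end Trunc

section Main

variable (I : ObjectProperty A) [I.IsClosedUnderIsomorphisms]
  (hI0 : ∃ Z : A, IsZero Z ∧ I Z) (hIprod : ∀ X Y : A, I X → I Y → I (X ⊞ Y))
  (hI : ∀ X : A, ∃ (Y : A) (ι : X ⟶ Y), I Y ∧ Mono ι) (K : CochainComplex A ℤ)

/-- a stage of the construction -/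
structure Stage (n : ℕ) where
  /-- the resolution -/
  Q : CochainComplex A ℤ
  /-- the resolution map -/
  π : K.truncGE (-(n : ℤ)) ⟶ Q
  qis : QuasiIso π
  mono : ∀ i, Mono (π.f i)
  bdd : BddBelow Q
  hI : ∀ i, I (Q.X i)

include hI0 hI in
lemma exists_stage0 : Nonempty (Stage I K 0) := by
  obtain ⟨L, α, h1, h2, h3, h4⟩ := exists_res I hI0 hI (K.truncGE (-((0 : ℕ) : ℤ)))
    (bddBelow_truncGE K _)
  exact ⟨⟨L, α, h4, h3, h1, h2⟩⟩

include hI0 hIprod hI in
lemma exists_next {n : ℕ} (s : Stage I K n) :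
    ∃ (s' : Stage I K (n + 1)) (p : s'.Q ⟶ s.Q),
      (∀ i, ∃ (B : A) (_ : SplitData (p.f i) B), I B) ∧
      s'.π ≫ p = tMap K (-((n + 1 : ℕ) : ℤ)) (-(n : ℤ)) (by push_cast; omega) ≫ s.π := by
  obtain ⟨Q', π', p, h1, h2, h3, h4, h5, h6⟩ := step I hI0 hIprod hI
    (tMap K (-((n + 1 : ℕ) : ℤ)) (-(n : ℤ)) (by push_cast; omega) ≫ s.π)
    (bddBelow_truncGE K _) s.bdd s.hI
  exact ⟨⟨Q', π', h1, h2, h3, h4⟩, p, h5, h6⟩

/-- the stages -/
noncomputable def stage : ∀ n : ℕ, Stage I K n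
  | 0 => (exists_stage0 I hI0 hI K).some
  | n + 1 => (exists_next I hI0 hIprod hI K (stage n)).choose

/-- the transition maps -/
noncomputable def pMap (n : ℕ) :
    (stage I hI0 hIprod hI K (n + 1)).Q ⟶ (stage I hI0 hIprod hI K n).Q :=
  (exists_next I hI0 hIprod hI K (stage I hI0 hIprod hI K n)).choose_spec.choose

lemma pMap_spec (n : ℕ) :
    (∀ i, ∃ (B : A) (_ : SplitData ((pMap I hI0 hIprod hI K n).f i) B), I B) ∧
      (stage I hI0 hIprod hI K (n + 1)).π ≫ pMap I hI0 hIprod hI K n =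
        tMap K (-((n + 1 : ℕ) : ℤ)) (-(n : ℤ)) (by push_cast; omega) ≫
          (stage I hI0 hIprod hI K n).π :=
  (exists_next I hI0 hIprod hI K (stage I hI0 hIprod hI K n)).choose_spec.choose_spec

include hI0 hIprod hI in
theorem main :
    ∃ (Q : ℕ → CochainComplex A ℤ) (p : ∀ n, Q (n + 1) ⟶ Q n)
      (π : ∀ n : ℕ, K.truncGE (-(n : ℤ)) ⟶ Q n),
      (∀ n, QuasiIso (π n) ∧ ∀ i, Mono ((π n).f i)) ∧
      (∀ n, ∃ a : ℤ, (Q n).IsStrictlyGE a) ∧ (∀ n i, I ((Q n).X i)) ∧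
      (∀ n i, (∃ s : (Q n).X i ⟶ (Q (n + 1)).X i, s ≫ (p n).f i = 𝟙 _) ∧
        I (kernel ((p n).f i))) ∧
      (∀ n : ℕ, K.πTruncGE (-((n + 1 : ℕ) : ℤ)) ≫ π (n + 1) ≫ p n =
        K.πTruncGE (-(n : ℤ)) ≫ π n) := by
  refine ⟨fun n => (stage I hI0 hIprod hI K n).Q, pMap I hI0 hIprod hI K,
    fun n => (stage I hI0 hIprod hI K n).π, ?_, ?_, ?_, ?_, ?_⟩
  · intro n
    exact ⟨(stage I hI0 hIprod hI K n).qis, (stage I hI0 hIprod hI K n).mono⟩
  · intro n
    exact (bddBelow_iff _).1 (stage I hI0 hIprod hI K n).bdd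
  · intro n i
    exact (stage I hI0 hIprod hI K n).hI i
  · intro n i
    obtain ⟨B, d, hB⟩ := (pMap_spec I hI0 hIprod hI K n).1 i
    exact ⟨⟨d.s, d.s_p⟩, I.prop_of_iso d.kernelIso.symm hB⟩
  · intro n
    rw [(pMap_spec I hI0 hIprod hI K n).2, π_tMap_assoc]

end Main

end Groth.Agent.Lib.Helper8.SpecialInv
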