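import Mathlib.Algebra.Homology.ShortComplex.HomologicalComplex
import Mathlib.Algebra.Homology.ShortComplex.ExactFunctor
import Mathlib.CategoryTheory.Abelian.Refinements
import Mathlib.CategoryTheory.Preadditive.Injective.Basic
import Mathlib.Algebra.Homology.HomologicalComplexLimits

/-!
# Embedding a complex into a split acyclic complex of injectives
-/

set_option linter.style.haveILetI false
set_option linter.unusedSectionVars false

namespace Groth.Agent.Lib.Helper8.SplitAcyclicEmb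

open CategoryTheory Category Limits

universe v u

variable {C : Type u} [Category.{v} C] [Abelian C] [EnoughInjectives C]
  (A : CochainComplex C ℕ)

/-- The chosen injective containing `A.X i`. -/
noncomputable abbrev I (i : ℕ) : C := Injective.under (A.X i)


/-- The embedding into the injective. -/
noncomputable abbrev ι (i : ℕ) : A.X i ⟶ I A i := Injective.ι (A.X i)


/-- The terms of `Q`. -/
noncomputable abbrev QX (i : ℕ) : C := I A i ⊞ I A (i + 1)


/-- The differential of `Q`. -/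
noncomputable def Qd (i : ℕ) : QX A i ⟶ QX A (i + 1) := biprod.snd ≫ biprod.inl

lemma Qd_sq (i : ℕ) : Qd A i ≫ Qd A (i + 1) = 0 := by simp [Qd]

/-- The complex `Q`. -/
noncomputable def Q : CochainComplex C ℕ := CochainComplex.of (QX A) (Qd A) (Qd_sq A)

lemma Q_d (i : ℕ) : (Q A).d i (i + 1) = Qd A i := CochainComplex.of_d _ _ _

/-- The components of the embedding. -/
noncomputable def ff (i : ℕ) : A.X i ⟶ QX A i :=
  biprod.lift (ι A i) (A.d i (i + 1) ≫ ι A (i + 1))

instance (i : ℕ) : Mono (ff A i) :=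
  mono_of_mono_fac (show ff A i ≫ biprod.fst = ι A i by simp [ff])

lemma ff_comm (i : ℕ) : ff A i ≫ Qd A i = A.d i (i + 1) ≫ ff A (i + 1) := by
  apply biprod.hom_ext <;> simp [ff, Qd]

/-- The embedding. -/
noncomputable def f : A ⟶ Q A where
  f i := ff A i
  comm' i j hij := by
    obtain rfl : i + 1 = j := hij
    rw [Q_d]
    exact ff_comm A i

instance : Mono (f A) := HomologicalComplex.mono_of_mono_f _ (fun i => by
  change Mono (ff A i); infer_instance)

lemma snd_eq_zero {W : C} {i : ℕ} (x : W ⟶ QX A i) (hx : x ≫ Qd A i = 0) :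
    x ≫ biprod.snd = 0 := by
  have := hx =≫ biprod.fst
  simpa [Qd] using this

lemma exact_aux {W : C} {i : ℕ} (x : W ⟶ QX A (i + 1)) (hx : x ≫ Qd A (i + 1) = 0) :
    (x ≫ biprod.fst ≫ biprod.inr : W ⟶ QX A i) ≫ Qd A i = x := by
  have h1 := snd_eq_zero A x hx
  apply biprod.hom_ext
  · simp [Qd]
  · simp [Qd, h1]

lemma exact (i : ℕ) : IsZero ((Q A).homology (i + 1)) := by
  rw [← HomologicalComplex.exactAt_iff_isZero_homology,
    HomologicalComplex.exactAt_iff' _ i (i + 1) (i + 2) (by simp) (by simp),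
    ShortComplex.exact_iff_exact_up_to_refinements]
  intro W x₂ hx
  have hx' : (x₂ : W ⟶ QX A (i + 1)) ≫ Qd A (i + 1) = 0 := by
    rw [← Q_d]; exact hx
  refine ⟨W, 𝟙 W, inferInstance, (x₂ ≫ biprod.fst ≫ biprod.inr : W ⟶ QX A i), ?_⟩
  rw [id_comp]
  refine ((exact_aux A x₂ hx').symm).trans ?_
  change _ ≫ Qd A i = _ ≫ (Q A).d i (i + 1)
  rw [Q_d]
  rfl

lemma aux2 {W : C} {i : ℕ} (z : W ⟶ QX A i) (hz : z ≫ Qd A i = 0) :
    z ≫ biprod.fst ≫ biprod.inl = z := by
  have h1 := snd_eq_zero A z hz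
  apply biprod.hom_ext
  · simp
  · simp [h1]

/-- The projector onto the cycles, with a clean type. -/
noncomputable def k (i : ℕ) : (Q A).X i ⟶ (Q A).X i :=
  (biprod.fst ≫ biprod.inl : QX A i ⟶ QX A i)

lemma k_d (i : ℕ) : k A i ≫ (Q A).d i (i + 1) = 0 := by
  rw [Q_d]
  change (biprod.fst ≫ biprod.inl : QX A i ⟶ QX A i) ≫ Qd A i = 0
  simp [Qd]

lemma iCycles_k (i : ℕ) : (Q A).iCycles i ≫ k A i = (Q A).iCycles i := by
  have h := (Q A).iCycles_d i (i + 1)
  rw [Q_d] at h
  exact aux2 A ((Q A).iCycles i) h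

lemma isSplitMono_iCycles (i : ℕ) : IsSplitMono ((Q A).iCycles i) := by
  refine IsSplitMono.mk' ⟨(Q A).liftCycles (k A i) (i + 1) (by simp) (k_d A i), ?_⟩
  rw [← cancel_mono ((Q A).iCycles i), assoc, HomologicalComplex.liftCycles_i, id_comp,
    iCycles_k]

theorem main : ∃ (Q : CochainComplex C ℕ) (f : A ⟶ Q), Mono f ∧ (∀ i : ℕ, Injective (Q.X i)) ∧
    (∀ i : ℕ, IsZero (Q.homology (i + 1))) ∧ ∀ i : ℕ, IsSplitMono (Q.iCycles i) :=
  ⟨Q A, f A, inferInstance, fun i => by change Injective (QX A i); infer_instance,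
    exact A, isSplitMono_iCycles A⟩

end Groth.Agent.Lib.Helper8.SplitAcyclicEmb
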