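import Mathlib.Algebra.Homology.ShortComplex.HomologicalComplex
import Mathlib.Algebra.Homology.ShortComplex.Exact
import Mathlib.CategoryTheory.Abelian.Refinements
import Mathlib.CategoryTheory.Preadditive.Injective.Basic
import Mathlib.Algebra.Homology.HomologicalComplexLimits
import Mathlib.Algebra.Homology.HomologicalComplexAbelian

/-!
# A split acyclic complex of injectives is an injective object of the category of complexes
-/

set_option linter.style.haveILetI false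
set_option linter.unusedSectionVars false

namespace Groth.Agent.Lib.Helper8.SplitAcyclicInj

open CategoryTheory Category Limits Preadditive

universe v u

variable {C : Type u} [Category.{v} C] [Abelian C]
  (Q : CochainComplex C ℕ)

/-- The short complex `Zⁱ ⟶ Qⁱ ⟶ Zⁱ⁺¹`. -/
noncomputable def S (i : ℕ) : ShortComplex C :=
  ShortComplex.mk (Q.iCycles i) (Q.toCycles i (i + 1)) (by
    rw [← cancel_mono (Q.iCycles (i + 1)), assoc, Q.toCycles_i, Q.iCycles_d, zero_comp])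

lemma S_exact_aux (i : ℕ) {W : C} (x₂ : W ⟶ Q.X i) (hx : x₂ ≫ Q.toCycles i (i + 1) = 0) :
    ∃ (W' : C) (π : W' ⟶ W) (_ : Epi π) (x₁ : W' ⟶ Q.cycles i), π ≫ x₂ = x₁ ≫ Q.iCycles i := by
  have h : x₂ ≫ Q.d i (i + 1) = 0 := by
    rw [← Q.toCycles_i, reassoc_of% hx, zero_comp]
  exact ⟨W, 𝟙 W, inferInstance, Q.liftCycles x₂ (i + 1) (by simp) h, by
    rw [id_comp, Q.liftCycles_i]⟩

lemma S_exact (i : ℕ) : (S Q i).Exact := by
  rw [ShortComplex.exact_iff_exact_up_to_refinements]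
  intro W x₂ hx
  exact S_exact_aux Q i x₂ hx

lemma exact_clean (i : ℕ) (hac : IsZero (Q.homology (i + 1))) {W : C} (z : W ⟶ Q.X (i + 1))
    (hz : z ≫ Q.d (i + 1) (i + 2) = 0) :
    ∃ (W' : C) (π : W' ⟶ W) (_ : Epi π) (x : W' ⟶ Q.X i), π ≫ z = x ≫ Q.d i (i + 1) := by
  rw [← HomologicalComplex.exactAt_iff_isZero_homology,
    HomologicalComplex.exactAt_iff' _ i (i + 1) (i + 2) (by simp) (by simp),
    ShortComplex.exact_iff_exact_up_to_refinements] at hac
  exact hac z hz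

lemma epi_toCycles (i : ℕ) (hac : IsZero (Q.homology (i + 1))) :
    Epi (Q.toCycles i (i + 1)) := by
  rw [epi_iff_surjective_up_to_refinements]
  intro W y
  obtain ⟨W', π, hπ, x, hx⟩ := exact_clean Q i hac (y ≫ Q.iCycles (i + 1)) (by
    rw [assoc, Q.iCycles_d, comp_zero])
  refine ⟨W', π, hπ, x, ?_⟩
  rw [← cancel_mono (Q.iCycles (i + 1)), assoc, assoc, Q.toCycles_i, hx]

variable (hinj : ∀ i : ℕ, Injective (Q.X i)) (hac : ∀ i : ℕ, IsZero (Q.homology (i + 1)))
  (hsplit : ∀ i : ℕ, IsSplitMono (Q.iCycles i))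

/-- The retraction of `iCycles`. -/
noncomputable def r (i : ℕ) : Q.X i ⟶ Q.cycles i := @retraction _ _ _ _ (Q.iCycles i) (hsplit i)

@[reassoc (attr := simp)]
lemma iCycles_r (i : ℕ) : Q.iCycles i ≫ r Q hsplit i = 𝟙 _ :=
  @IsSplitMono.id _ _ _ _ (Q.iCycles i) (hsplit i)

/-- The splitting of `S Q i`. -/
noncomputable def σ (i : ℕ) : (S Q i).Splitting :=
  ShortComplex.Splitting.ofExactOfRetraction (S Q i) (S_exact Q i) (r Q hsplit i)
    (iCycles_r Q hsplit i) (epi_toCycles Q i (hac i))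

/-- The section `Zⁱ⁺¹ ⟶ Qⁱ`. -/
noncomputable def s (i : ℕ) : Q.cycles (i + 1) ⟶ Q.X i := (σ Q hac hsplit i).s

@[reassoc]
lemma s_toCycles (i : ℕ) : s Q hac hsplit i ≫ Q.toCycles i (i + 1) = 𝟙 _ :=
  (σ Q hac hsplit i).s_g

@[reassoc]
lemma s_d (i : ℕ) : s Q hac hsplit i ≫ Q.d i (i + 1) = Q.iCycles (i + 1) := by
  rw [← Q.toCycles_i, s_toCycles_assoc]

lemma id_eq (i : ℕ) :
    r Q hsplit i ≫ Q.iCycles i + Q.toCycles i (i + 1) ≫ s Q hac hsplit i = 𝟙 (Q.X i) :=
  (σ Q hac hsplit i).id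

lemma d_r (i : ℕ) : Q.d i (i + 1) ≫ r Q hsplit (i + 1) = Q.toCycles i (i + 1) := by
  rw [← Q.toCycles_i, assoc, iCycles_r, comp_id]

section

variable {Y : CochainComplex C ℕ} (t : ∀ i, Y.X i ⟶ Q.cycles i)

/-- The chain map attached to a family of maps to the cycles. -/
noncomputable def hOf : Y ⟶ Q where
  f i := t i ≫ Q.iCycles i + Y.d i (i + 1) ≫ t (i + 1) ≫ s Q hac hsplit i
  comm' i j hij := by
    obtain rfl : i + 1 = j := hij
    simp only [add_comp, comp_add, assoc, Q.iCycles_d, comp_zero, zero_add, s_d,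
      Y.d_comp_d_assoc, zero_comp, add_zero]

lemma hOf_f (i : ℕ) : (hOf Q hac hsplit t).f i =
    t i ≫ Q.iCycles i + Y.d i (i + 1) ≫ t (i + 1) ≫ s Q hac hsplit i := rfl

end

lemma hOf_eq {X : CochainComplex C ℕ} (g : X ⟶ Q) :
    hOf Q hac hsplit (fun i => g.f i ≫ r Q hsplit i) = g := by
  ext i
  rw [hOf_f]
  have h1 : X.d i (i + 1) ≫ (g.f (i + 1) ≫ r Q hsplit (i + 1)) ≫ s Q hac hsplit i =
      g.f i ≫ Q.toCycles i (i + 1) ≫ s Q hac hsplit i := by
    rw [assoc, ← g.comm_assoc, reassoc_of% (d_r Q hsplit i)]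
  rw [h1, assoc, ← comp_add, id_eq, comp_id]

include hinj hsplit in
lemma injective_cycles (i : ℕ) : Injective (Q.cycles i) := by
  have := hinj i
  exact Retract.injective ⟨Q.iCycles i, r Q hsplit i, iCycles_r Q hsplit i⟩

include hinj hac hsplit in
theorem main : Injective Q := by
  constructor
  intro X Y g f hf
  have hZ := injective_cycles Q hinj hsplit
  let tY : ∀ i, Y.X i ⟶ Q.cycles i := fun i =>
    Injective.factorThru (g.f i ≫ r Q hsplit i) (f.f i)
  have htY : ∀ i, f.f i ≫ tY i = g.f i ≫ r Q hsplit i := fun i =>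
    Injective.comp_factorThru _ _
  refine ⟨hOf Q hac hsplit tY, ?_⟩
  rw [← hOf_eq Q hac hsplit g]
  ext i
  rw [HomologicalComplex.comp_f, hOf_f, hOf_f, comp_add, reassoc_of% (htY i),
    f.comm_assoc, reassoc_of% (htY (i + 1))]
  simp only [assoc]

end Groth.Agent.Lib.Helper8.SplitAcyclicInj
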