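import Mathlib

/-! # Helper8 — stalk of a direct image along a closed map at a point alone in its fibre: `(f_* F)_{f x} ≃ F_x` (presheaves of abelian groups on topological spaces) -/
set_option autoImplicit false
universe u
open CategoryTheory CategoryTheory.Limits Opposite TopologicalSpace TopCat AlgebraicGeometry

namespace Groth.Agent.Lib.Helper8.StalkPush

variable {X Y : TopCat.{u}} (f : X ⟶ Y) (F : X.Presheaf Ab.{u})

/-- the open `Y \ f(X \ W)` for a closed map -/
def shrink (hcl : IsClosedMap f) (W : Opens X) : Opens Y :=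
  ⟨(f '' (W : Set X)ᶜ)ᶜ, (hcl _ W.isOpen.isClosed_compl).isOpen_compl⟩

theorem mem_shrink (hcl : IsClosedMap f) (W : Opens X) (x : X) (hx : x ∈ W)
    (hfib : f ⁻¹' {f x} = {x}) : f x ∈ shrink f hcl W := by
  rintro ⟨x', hx', hxx'⟩
  have : x' ∈ f ⁻¹' {f x} := hxx'
  rw [hfib] at this
  exact hx' (Set.mem_singleton_iff.1 this ▸ hx)

theorem map_shrink_le (hcl : IsClosedMap f) (W : Opens X) : (Opens.map f).obj (shrink f hcl W) ≤ W := by
  intro z hz
  by_contra hzW
  exact hz ⟨z, hzW, rfl⟩

/-- for a closed map `f` and a point `x` which is alone in its fibre, `(f_* F)_{f x} → F_x` is bijective -/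
theorem stalkPushforward_bijective (hcl : IsClosedMap f) (x : X) (hfib : f ⁻¹' {f x} = {x}) :
    Function.Bijective (Presheaf.stalkPushforward Ab f F x) := by
  constructor
  · rw [injective_iff_map_eq_zero]
    intro t ht
    obtain ⟨V, hxV, s, rfl⟩ := Presheaf.exists_germ_eq (f _* F) t
    have h1 : Presheaf.stalkPushforward Ab f F x (Presheaf.germ (f _* F) V (f x) hxV s) =
        Presheaf.germ F ((Opens.map f).obj V) x hxV s := by
      rw [← ConcreteCategory.comp_apply, Presheaf.stalkPushforward_germ]
    rw [h1] at ht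
    have h0 : Presheaf.germ F ((Opens.map f).obj V) x hxV s =
        Presheaf.germ F ((Opens.map f).obj V) x hxV 0 := by rw [ht, map_zero]
    obtain ⟨W, hxW, iU, iV, hres⟩ := Presheaf.germ_eq F x hxV hxV _ _ h0
    rw [map_zero] at hres
    let V' : Opens Y := V ⊓ shrink f hcl W
    have hxV' : f x ∈ V' := ⟨hxV, mem_shrink f hcl W x hxW hfib⟩
    have hle : (Opens.map f).obj V' ≤ W := fun z hz => map_shrink_le f hcl W hz.2
    have h2 : (f _* F).map (homOfLE (inf_le_left : V' ≤ V)).op s = 0 := by
      have e : (f _* F).map (homOfLE (inf_le_left : V' ≤ V)).op s =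
          F.map (homOfLE hle).op (F.map iU.op s) := by
        rw [← ConcreteCategory.comp_apply, ← F.map_comp]
        rfl
      rw [e, hres, map_zero]
    rw [← Presheaf.germ_res_apply (f _* F) (homOfLE (inf_le_left : V' ≤ V)) (f x) hxV' s, h2, map_zero]
  · intro t
    obtain ⟨W, hxW, s, rfl⟩ := Presheaf.exists_germ_eq F t
    let V : Opens Y := shrink f hcl W
    have hxV : f x ∈ V := mem_shrink f hcl W x hxW hfib
    have hle : (Opens.map f).obj V ≤ W := map_shrink_le f hcl W
    refine ⟨Presheaf.germ (f _* F) V (f x) hxV (F.map (homOfLE hle).op s), ?_⟩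
    have h1 : Presheaf.stalkPushforward Ab f F x
        (Presheaf.germ (f _* F) V (f x) hxV (F.map (homOfLE hle).op s)) =
        Presheaf.germ F ((Opens.map f).obj V) x hxV (F.map (homOfLE hle).op s) := by
      rw [← ConcreteCategory.comp_apply, Presheaf.stalkPushforward_germ]
    rw [h1]
    exact Presheaf.germ_res_apply F (homOfLE hle) x hxV s

end Groth.Agent.Lib.Helper8.StalkPush
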