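import Mathlib.CategoryTheory.Triangulated.Generators
import Mathlib.Tactic.Ring

/-!
# Classical generators are strong generators when a strong generator exists (Stacks 0FXA)
-/

set_option linter.style.haveILetI false
set_option linter.unusedSectionVars false

namespace Groth.Agent.Lib.Helper8.StrongGen

open CategoryTheory Limits Pretriangulated ObjectProperty

universe v u

section Generic

variable {C : Type u} [Category.{v} C]

/-- Closure under binary products may be checked on `∏ᶜ f` for `f : WalkingPair → C`. -/
lemma isClosedUnderBinaryProducts_of_pi [HasBinaryProducts C] (P : ObjectProperty C)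
    [P.IsClosedUnderIsomorphisms]
    (h : ∀ (f : WalkingPair → C), (∀ j, P (f j)) → P (∏ᶜ f)) :
    P.IsClosedUnderBinaryProducts where
  limitsOfShape_le := by
    rintro X ⟨p⟩
    have e : X ≅ ∏ᶜ (p.diag.obj ∘ Discrete.mk) :=
      IsLimit.conePointsIsoOfNatIso p.isLimit (limit.isLimit _) Discrete.natIsoFunctor
    exact P.prop_of_iso e.symm (h _ (fun j => p.prop_diag_obj ⟨j⟩))

lemma prop_pi_walkingPair (P : ObjectProperty C) [P.IsClosedUnderBinaryProducts]
    (f : WalkingPair → C) [HasProduct f] (hf : ∀ j, P (f j)) : P (∏ᶜ f) :=
  P.prop_of_isLimit (limit.isLimit (Discrete.functor f)) (by rintro ⟨j⟩; exact hf j)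

instance retractClosure_isClosedUnderBinaryProducts [HasBinaryProducts C] (P : ObjectProperty C)
    [P.IsClosedUnderBinaryProducts] : P.retractClosure.IsClosedUnderBinaryProducts :=
  isClosedUnderBinaryProducts_of_pi _ (fun f hf => by
    choose Y hY r using hf
    refine ⟨∏ᶜ Y, prop_pi_walkingPair P Y hY, ⟨?_⟩⟩
    exact
      { i := Limits.Pi.map (fun j => (r j).some.i)
        r := Limits.Pi.map (fun j => (r j).some.r)
        retract := by
          ext j
          simp })

end Generic

section Triang

variable {C : Type u} [Category.{v} C] [Preadditive C] [HasZeroObject C] [HasShift C ℤ]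
  [∀ n : ℤ, (shiftFunctor C n).Additive] [Pretriangulated C]

instance extensionProduct_isClosedUnderBinaryProducts (P Q : ObjectProperty C)
    [P.IsClosedUnderBinaryProducts] [Q.IsClosedUnderBinaryProducts] :
    (extensionProduct P Q).IsClosedUnderBinaryProducts :=
  isClosedUnderBinaryProducts_of_pi _ (fun f hf => by
    choose Y Z u v w hT hY hZ using hf
    exact ⟨_, _, _, _, _,
      productTriangle_distinguished (fun j => Triangle.mk (u j) (v j) (w j)) hT,
      prop_pi_walkingPair P Y hY, prop_pi_walkingPair Q Z hZ⟩)

instance extensionProductIter_isClosedUnderBinaryProducts (P : ObjectProperty C)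
    [P.IsClosedUnderBinaryProducts] (n : ℕ) :
    (P.extensionProductIter n).IsClosedUnderBinaryProducts := by
  induction n with
  | zero => rwa [extensionProductIter_zero]
  | succ n ih => rw [extensionProductIter_succ]; infer_instance

instance triangEnvelopeIter_isClosedUnderBinaryProducts (P : ObjectProperty C) (n : ℕ) :
    (P.triangEnvelopeIter n).IsClosedUnderBinaryProducts := by
  unfold triangEnvelopeIter
  infer_instance

/-- If `P ≤ Q.triangEnvelopeIter m` then `P.triangEnvelopeIter 0 ≤ Q.triangEnvelopeIter m`. -/
lemma triangEnvelopeIter_zero_le {P Q : ObjectProperty C} {m : ℕ}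
    (h : P ≤ Q.triangEnvelopeIter m) :
    P.triangEnvelopeIter 0 ≤ Q.triangEnvelopeIter m := by
  rw [triangEnvelopeIter_zero, retractClosure_le_iff]
  refine limitsClosure_le ?_
  rw [shiftClosure_le_iff]
  exact h

variable [IsTriangulated C]

/-- If `P ≤ Q.triangEnvelopeIter m` then
`P.triangEnvelopeIter n ≤ Q.triangEnvelopeIter (n * (m + 1) + m)`. -/
lemma triangEnvelopeIter_le {P Q : ObjectProperty C} {m : ℕ}
    (h : P ≤ Q.triangEnvelopeIter m) (n : ℕ) :
    P.triangEnvelopeIter n ≤ Q.triangEnvelopeIter (n * (m + 1) + m) := by
  induction n with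
  | zero => simpa using triangEnvelopeIter_zero_le h
  | succ n ih =>
    have e : (n + 1) * (m + 1) + m = (m + 1) + (n * (m + 1) + m) := by ring
    rw [e, triangEnvelopeIter_add Q (n' := m) rfl, triangEnvelopeIter_succ,
      ← triangEnvelopeIter_zero]
    refine monotone_retractClosure ?_
    exact (monotone_extensionProduct_left _ (triangEnvelopeIter_zero_le h)).trans
      (monotone_extensionProduct_right _ ih)

theorem main (G E : C) (hG : ObjectProperty.IsStrongTriangulatedGenerator (fun X : C => X = G))
    (hE : ObjectProperty.IsClassicalTriangulatedGenerator (fun X : C => X = E)) :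
    ObjectProperty.IsStrongTriangulatedGenerator (fun X : C => X = E) := by
  obtain ⟨n, hn⟩ := hG
  have hGE : ObjectProperty.triangEnvelope (fun X : C => X = E) G := by
    rw [isClassicalTriangulatedGenerator_iff] at hE
    rw [hE]; trivial
  rw [prop_triangEnvelope_iff] at hGE
  obtain ⟨m, hm⟩ := hGE
  refine ⟨n * (m + 1) + m, ?_⟩
  rw [eq_top_iff, ← hn]
  refine triangEnvelopeIter_le ?_ n
  rintro X rfl
  exact hm

end Triang

end Groth.Agent.Lib.Helper8.StrongGen
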