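import Groth.Agent.Lib.Helper8.SubLat2
import Mathlib.Order.OrderIsoNat

/-!
# Helper8: Jordan–Hölder for subobjects; finite length iff artinian and noetherian
-/

universe v u

open CategoryTheory CategoryTheory.Limits

namespace Groth.Agent.Lib.Helper8.SubLat3

open SubLat1 SubLat2

section Order

variable {α : Type*} [Lattice α] [IsModularLattice α]

lemma wfLT_Iic_of_covBy {a b : α} (hab : a ⋖ b) [WellFoundedLT (Set.Iic a)] :
    WellFoundedLT (Set.Iic b) := by
  have hfin : Finite (Set.Icc a b) := by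
    rw [hab.Icc_eq]; infer_instance
  have : WellFoundedLT (Set.Icc a b) := Finite.to_wellFoundedLT
  let f : Set.Iic b → Set.Iic a × Set.Icc a b := fun x =>
    (⟨x.1 ⊓ a, inf_le_right⟩, ⟨x.1 ⊔ a, le_sup_right, sup_le x.2 hab.le⟩)
  have hf : StrictMono f := by
    intro x y hxy
    have := strictMono_inf_prod_sup (z := a) (show x.1 < y.1 from hxy)
    exact this
  exact hf.wellFoundedLT

lemma wfGT_Iic_of_covBy {a b : α} (hab : a ⋖ b) [WellFoundedGT (Set.Iic a)] :
    WellFoundedGT (Set.Iic b) := by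
  have hfin : Finite (Set.Icc a b) := by
    rw [hab.Icc_eq]; infer_instance
  have : WellFoundedGT (Set.Icc a b) := Finite.to_wellFoundedGT
  let f : Set.Iic b → Set.Iic a × Set.Icc a b := fun x =>
    (⟨x.1 ⊓ a, inf_le_right⟩, ⟨x.1 ⊔ a, le_sup_right, sup_le x.2 hab.le⟩)
  have hf : StrictMono f := by
    intro x y hxy
    have := strictMono_inf_prod_sup (z := a) (show x.1 < y.1 from hxy)
    exact this
  exact hf.wellFoundedGT

lemma wf_of_chain [BoundedOrder α] (n : ℕ) (F : Fin (n + 1) → α) (h0 : F 0 = ⊥)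
    (hn : F (Fin.last n) = ⊤) (hc : ∀ i : Fin n, F i.castSucc ⋖ F i.succ) :
    WellFoundedLT α ∧ WellFoundedGT α := by
  have key : ∀ k : Fin (n + 1), WellFoundedLT (Set.Iic (F k)) ∧ WellFoundedGT (Set.Iic (F k)) := by
    intro k
    induction k using Fin.induction with
    | zero =>
      rw [h0]
      have : Subsingleton (Set.Iic (⊥ : α)) :=
        ⟨fun x y => Subtype.ext ((le_bot_iff.1 x.2).trans (le_bot_iff.1 y.2).symm)⟩
      exact ⟨Finite.to_wellFoundedLT, Finite.to_wellFoundedGT⟩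
    | succ i ih =>
      obtain ⟨h1, h2⟩ := ih
      exact ⟨wfLT_Iic_of_covBy (hc i), wfGT_Iic_of_covBy (hc i)⟩
  obtain ⟨h1, h2⟩ := key (Fin.last n)
  rw [hn] at h1 h2
  let g : α → Set.Iic (⊤ : α) := fun x => ⟨x, le_top⟩
  have hg : StrictMono g := fun x y hxy => hxy
  exact ⟨hg.wellFoundedLT, hg.wellFoundedGT⟩

end Order

variable {A : Type u} [Category.{v} A] [Abelian A] {X : A}

/-- The relation "isomorphic quotients" on pairs of subobjects. -/
def QuotIso (p q : Subobject X × Subobject X) : Prop :=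
  (p.1 ≤ p.2 ↔ q.1 ≤ q.2) ∧ ∀ (hp : p.1 ≤ p.2) (hq : q.1 ≤ q.2),
    Nonempty (cokernel (Subobject.ofLE p.1 p.2 hp) ≅ cokernel (Subobject.ofLE q.1 q.2 hq))

lemma quotIso_of_iso {p q : Subobject X × Subobject X} (h : JordanHolderLattice.Iso p q) :
    QuotIso p q := by
  refine JordanHolderLattice.Iso.rel QuotIso ?_ ?_ ?_ ?_ h
  · intro x
    exact ⟨Iff.rfl, fun hp hq => ⟨Iso.refl _⟩⟩
  · intro x y hxy
    exact ⟨hxy.1.symm, fun hp hq => ⟨(hxy.2 hq hp).some.symm⟩⟩
  · intro x y z hxy hyz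
    refine ⟨hxy.1.trans hyz.1, fun hp hq => ?_⟩
    have hy := hxy.1.1 hp
    exact ⟨(hxy.2 hp hy).some ≪≫ (hyz.2 hy hq).some⟩
  · intro x y _
    exact ⟨iff_of_true le_sup_left inf_le_right, fun hp hq => ⟨secondIso x y⟩⟩

theorem jordanHolder (n : ℕ) (F : Fin (n + 1) → Subobject X) (hF : Monotone F) (hF0 : F 0 = ⊥)
    (hFn : F (Fin.last n) = ⊤)
    (hFs : ∀ i : Fin n, Simple (cokernel (Subobject.ofLE (F (Fin.castSucc i)) (F (Fin.succ i))
      (hF (Fin.castSucc_lt_succ (i := i)).le))))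
    (m : ℕ) (G : Fin (m + 1) → Subobject X) (hG : Monotone G) (hG0 : G 0 = ⊥)
    (hGm : G (Fin.last m) = ⊤)
    (hGs : ∀ j : Fin m, Simple (cokernel (Subobject.ofLE (G (Fin.castSucc j)) (G (Fin.succ j))
      (hG (Fin.castSucc_lt_succ (i := j)).le)))) :
    ∃ (e : n = m) (σ : Equiv.Perm (Fin m)), ∀ i : Fin n,
      Nonempty (cokernel (Subobject.ofLE (F (Fin.castSucc i)) (F (Fin.succ i))
        (hF (Fin.castSucc_lt_succ (i := i)).le)) ≅
        cokernel (Subobject.ofLE (G (Fin.castSucc (σ (Fin.cast e i))))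
          (G (Fin.succ (σ (Fin.cast e i))))
          (hG (Fin.castSucc_lt_succ (i := σ (Fin.cast e i))).le))) := by
  let s₁ : CompositionSeries (Subobject X) :=
    { length := n, toFun := F, step := fun i => by
        have := hFs i
        exact covBy_of_simple (hF (Fin.castSucc_lt_succ (i := i)).le) }
  let s₂ : CompositionSeries (Subobject X) :=
    { length := m, toFun := G, step := fun j => by
        have := hGs j
        exact covBy_of_simple (hG (Fin.castSucc_lt_succ (i := j)).le) }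
  have hb : s₁.head = s₂.head := hF0.trans hG0.symm
  have ht : s₁.last = s₂.last := hFn.trans hGm.symm
  obtain ⟨f, hf⟩ := CompositionSeries.jordan_holder s₁ s₂ hb ht
  have e : n = m := by simpa using Fintype.card_congr f
  subst e
  refine ⟨rfl, f, fun i => ?_⟩
  exact (quotIso_of_iso (hf i)).2 _ _


theorem finiteLength_iff (X : A) :
    (IsArtinianObject X ∧ IsNoetherianObject X) ↔
      ∃ (n : ℕ) (F : Fin (n + 1) → Subobject X) (hF : Monotone F), F 0 = ⊥ ∧ F (Fin.last n) = ⊤ ∧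
        ∀ i : Fin n, Simple (cokernel (Subobject.ofLE (F (Fin.castSucc i)) (F (Fin.succ i))
          (hF (Fin.castSucc_lt_succ (i := i)).le))) := by
  constructor
  · rintro ⟨hA, hN⟩
    obtain ⟨a, h0, n, hn, hc⟩ := exists_covBy_seq_of_wellFoundedLT_wellFoundedGT (Subobject X)
    have hmono : ∀ j, j ≤ n → ∀ i, i ≤ j → a i ≤ a j := by
      intro j
      induction j with
      | zero => intro _ i hi; rw [Nat.le_zero.1 hi]
      | succ j ih =>
        intro hj i hi
        rcases Nat.of_le_succ hi with hi | hi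
        · exact (ih (Nat.le_of_succ_le hj) i hi).trans (hc j hj).le
        · rw [hi]
    refine ⟨n, fun i => a i, ?_, h0.eq_bot, hn.eq_top, ?_⟩
    · intro i j hij
      exact hmono j (Nat.lt_succ_iff.1 j.2) i hij
    · intro i
      exact simple_of_covBy (hc i i.2)
  · rintro ⟨n, F, hF, h0, hn, hs⟩
    have hc : ∀ i : Fin n, F i.castSucc ⋖ F i.succ := fun i => by
      have := hs i
      exact covBy_of_simple (hF (Fin.castSucc_lt_succ (i := i)).le)
    obtain ⟨h1, h2⟩ := wf_of_chain n F h0 hn hc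
    exact ⟨⟨h1⟩, ⟨h2⟩⟩

end Groth.Agent.Lib.Helper8.SubLat3
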