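import Groth.Prelude.Def_DerLim
import Mathlib.CategoryTheory.Preadditive.Basic
import Mathlib.Algebra.BigOperators.Intervals
import Mathlib.Order.Interval.Finset.Nat
import Mathlib.Tactic

/-! Homotopy colimits of subsequences: the two-term complexes `1 - shift` of a sequential system and
of a subsequence are homotopy equivalent. -/

set_option autoImplicit false
set_option linter.unusedSectionVars false
universe v u

open CategoryTheory CategoryTheory.Limits

namespace Groth.Agent.Lib.Helper8.SubSeq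

section Nu

variable (n : ℕ → ℕ) (hn : StrictMono n)

include hn in
lemma exists_le (m : ℕ) : ∃ i, m ≤ n i := ⟨m, hn.id_le m⟩
  
open Classical in
/-- The least index `i` with `m ≤ n i`. -/
noncomputable def nu (m : ℕ) : ℕ := if h : ∃ i, m ≤ n i then Nat.find h else 0

include hn in
lemma le_n_nu (m : ℕ) : m ≤ n (nu n m) := by
  classical
  unfold nu
  rw [dif_pos (exists_le n hn m)]
  exact Nat.find_spec (exists_le n hn m)

include hn in
lemma nu_le {m i : ℕ} (h : m ≤ n i) : nu n m ≤ i := by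
  classical
  unfold nu
  rw [dif_pos (exists_le n hn m)]
  exact Nat.find_min' _ h

include hn in
lemma nu_n (i : ℕ) : nu n (n i) = i := by
  apply le_antisymm (nu_le n hn le_rfl)
  have := le_n_nu n hn (n i)
  exact hn.le_iff_le.mp this

include hn in
lemma nu_succ_of_lt {m : ℕ} (h : m < n (nu n m)) : nu n (m + 1) = nu n m := by
  apply le_antisymm (nu_le n hn h)
  have h1 : m ≤ n (nu n (m + 1)) := le_trans (Nat.le_succ m) (le_n_nu n hn (m + 1))
  exact nu_le n hn h1

include hn in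
lemma nu_succ_of_eq {m : ℕ} (h : m = n (nu n m)) : nu n (m + 1) = nu n m + 1 := by
  apply le_antisymm
  · apply nu_le n hn
    have : n (nu n m) < n (nu n m + 1) := hn (Nat.lt_succ_self _)
    omega
  · by_contra hc
    push Not at hc
    have h1 : nu n (m + 1) ≤ nu n m := Nat.lt_succ_iff.mp hc
    have h2 : m + 1 ≤ n (nu n (m + 1)) := le_n_nu n hn (m + 1)
    have h3 : n (nu n (m + 1)) ≤ n (nu n m) := hn.monotone h1
    omega

end Nu

section Tr

variable {D : Type u} [Category.{v} D] [Preadditive D] (F : ℕ ⥤ D)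

/-- Transition maps of a sequential system, extended by zero. -/
noncomputable def tr (m k : ℕ) : F.obj m ⟶ F.obj k :=
  if h : m ≤ k then F.map (homOfLE h) else 0

lemma tr_of_le {m k : ℕ} (h : m ≤ k) : tr F m k = F.map (homOfLE h) := by
  unfold tr
  rw [dif_pos h]

@[simp]
lemma tr_self (m : ℕ) : tr F m m = 𝟙 _ := by
  rw [tr_of_le F le_rfl]
  exact F.map_id _

lemma tr_comp {m k l : ℕ} (h1 : m ≤ k) (h2 : k ≤ l) : tr F m k ≫ tr F k l = tr F m l := by
  rw [tr_of_le F h1, tr_of_le F h2, tr_of_le F (h1.trans h2), ← F.map_comp]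
  rfl

variable [HasCoproduct (fun m : ℕ => F.obj m)]

/-- The shift endomorphism of the full system. -/
noncomputable abbrev sh : (∐ fun m : ℕ => F.obj m) ⟶ ∐ fun m : ℕ => F.obj m :=
  DerLim.shiftMap (fun m : ℕ => F.obj m) (fun m : ℕ => F.map (homOfLE (Nat.le_succ m)))

@[reassoc]
lemma ι_sh (m : ℕ) : Sigma.ι (fun m : ℕ => F.obj m) m ≫ sh F =
    tr F m (m + 1) ≫ Sigma.ι (fun m : ℕ => F.obj m) (m + 1) := by
  rw [tr_of_le F (Nat.le_succ m)]
  simp [sh, DerLim.shiftMap]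

/-- Partial telescope sums. -/
noncomputable def sg (m N : ℕ) : F.obj m ⟶ ∐ fun m : ℕ => F.obj m :=
  ∑ k ∈ Finset.Ico m N, tr F m k ≫ Sigma.ι (fun m : ℕ => F.obj m) k

lemma sg_self (m : ℕ) : sg F m m = 0 := by
  unfold sg
  rw [Finset.Ico_self, Finset.sum_empty]

lemma sg_succ {m N : ℕ} (h : m ≤ N) :
    sg F m (N + 1) = sg F m N + tr F m N ≫ Sigma.ι (fun m : ℕ => F.obj m) N := by
  unfold sg
  rw [Finset.sum_Ico_succ_top h]

lemma tele {m N : ℕ} (h : m ≤ N) :
    sg F m N ≫ (𝟙 _ - sh F) = Sigma.ι (fun m : ℕ => F.obj m) m -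
      tr F m N ≫ Sigma.ι (fun m : ℕ => F.obj m) N := by
  induction N, h using Nat.le_induction with
  | base => rw [sg_self, zero_comp, tr_self, Category.id_comp, sub_self]
  | succ N hN ih =>
    rw [sg_succ F hN, Preadditive.add_comp, ih, Category.assoc, Preadditive.comp_sub,
      Category.comp_id, ι_sh, Preadditive.comp_sub, ← Category.assoc (tr F m N),
      tr_comp F hN (Nat.le_succ N)]
    abel

lemma shift_sg {m N : ℕ} (h : m + 1 ≤ N) :
    tr F m (m + 1) ≫ sg F (m + 1) N = sg F m N - Sigma.ι (fun m : ℕ => F.obj m) m := by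
  unfold sg
  rw [Finset.sum_eq_sum_Ico_succ_bot (Nat.lt_of_succ_le h), tr_self, Category.id_comp,
    add_sub_cancel_left, Preadditive.comp_sum]
  refine Finset.sum_congr rfl (fun k hk => ?_)
  rw [Finset.mem_Ico] at hk
  rw [← Category.assoc, tr_comp F (Nat.le_succ m) hk.1]

end Tr

section Maps

variable {D : Type u} [Category.{v} D] [Preadditive D] (F : ℕ ⥤ D) (n : ℕ → ℕ) (hn : StrictMono n)
  [HasCoproduct (fun m : ℕ => F.obj m)] [HasCoproduct (fun i : ℕ => F.obj (n i))]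

lemma tr_sg {m m' : ℕ} (h : m = m') (N : ℕ) : tr F m m' ≫ sg F m' N = sg F m N := by
  subst h
  rw [tr_self, Category.id_comp]

lemma sg_eq_zero {m N : ℕ} (h : N ≤ m) : sg F m N = 0 := by
  unfold sg
  rw [Finset.Ico_eq_empty_of_le h, Finset.sum_empty]

/-- The shift endomorphism of the subsequence. -/
noncomputable abbrev sh' : (∐ fun i : ℕ => F.obj (n i)) ⟶ ∐ fun i : ℕ => F.obj (n i) :=
  DerLim.shiftMap (fun i : ℕ => F.obj (n i))
    (fun i : ℕ => F.map (homOfLE (hn.monotone (Nat.le_succ i))))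

@[reassoc]
lemma ι_sh' (i : ℕ) : Sigma.ι (fun i : ℕ => F.obj (n i)) i ≫ sh' F n hn =
    tr F (n i) (n (i + 1)) ≫ Sigma.ι (fun i : ℕ => F.obj (n i)) (i + 1) := by
  rw [tr_of_le F (hn.monotone (Nat.le_succ i))]
  simp [sh', DerLim.shiftMap]

/-- inclusion of the subsequence summands -/
noncomputable def mb : (∐ fun i : ℕ => F.obj (n i)) ⟶ ∐ fun m : ℕ => F.obj m :=
  Sigma.desc (fun i => Sigma.ι (fun m : ℕ => F.obj m) (n i))

/-- the telescoping map -/
noncomputable def ma : (∐ fun i : ℕ => F.obj (n i)) ⟶ ∐ fun m : ℕ => F.obj m :=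
  Sigma.desc (fun i => sg F (n i) (n (i + 1)))

open Classical in
/-- projection onto the subsequence summands -/
noncomputable def mp : (∐ fun m : ℕ => F.obj m) ⟶ ∐ fun i : ℕ => F.obj (n i) :=
  Sigma.desc (fun m => if m = n (nu n m) then
    tr F m (n (nu n m)) ≫ Sigma.ι (fun i : ℕ => F.obj (n i)) (nu n m) else 0)

/-- push each summand to the next member of the subsequence -/
noncomputable def mr : (∐ fun m : ℕ => F.obj m) ⟶ ∐ fun i : ℕ => F.obj (n i) :=
  Sigma.desc (fun m => tr F m (n (nu n m)) ≫ Sigma.ι (fun i : ℕ => F.obj (n i)) (nu n m))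

/-- the homotopy -/
noncomputable def mh : (∐ fun m : ℕ => F.obj m) ⟶ ∐ fun m : ℕ => F.obj m :=
  Sigma.desc (fun m => -(sg F m (n (nu n m))))

include hn in
lemma rp (i : ℕ) : tr F (n i) (n (nu n (n i))) ≫ Sigma.ι (fun i : ℕ => F.obj (n i)) (nu n (n i)) =
    Sigma.ι (fun i : ℕ => F.obj (n i)) i := by
  rw [nu_n n hn i, tr_self, Category.id_comp]

include hn in
lemma I4 : mb F n ≫ mr F n = 𝟙 _ := by
  apply Sigma.hom_ext
  intro i
  rw [mb, mr, Sigma.ι_desc_assoc, Sigma.ι_desc, rp F n hn, Category.comp_id]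

@[reassoc]
lemma ι_mb (i : ℕ) : Sigma.ι (fun i : ℕ => F.obj (n i)) i ≫ mb F n =
    Sigma.ι (fun m : ℕ => F.obj m) (n i) := by
  rw [mb, Sigma.ι_desc]

@[reassoc]
lemma ι_ma (i : ℕ) : Sigma.ι (fun i : ℕ => F.obj (n i)) i ≫ ma F n = sg F (n i) (n (i + 1)) := by
  rw [ma, Sigma.ι_desc]

@[reassoc]
lemma ι_mr (m : ℕ) : Sigma.ι (fun m : ℕ => F.obj m) m ≫ mr F n =
    tr F m (n (nu n m)) ≫ Sigma.ι (fun i : ℕ => F.obj (n i)) (nu n m) := by
  rw [mr, Sigma.ι_desc]

@[reassoc]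
lemma ι_mh (m : ℕ) : Sigma.ι (fun m : ℕ => F.obj m) m ≫ mh F n = -(sg F m (n (nu n m))) := by
  rw [mh, Sigma.ι_desc]

open Classical in
@[reassoc]
lemma ι_mp (m : ℕ) : Sigma.ι (fun m : ℕ => F.obj m) m ≫ mp F n =
    if m = n (nu n m) then
      tr F m (n (nu n m)) ≫ Sigma.ι (fun i : ℕ => F.obj (n i)) (nu n m) else 0 := by
  rw [mp, Sigma.ι_desc]

@[reassoc]
lemma ι_mp_of_eq {m : ℕ} (h : m = n (nu n m)) : Sigma.ι (fun m : ℕ => F.obj m) m ≫ mp F n =
    tr F m (n (nu n m)) ≫ Sigma.ι (fun i : ℕ => F.obj (n i)) (nu n m) := by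
  rw [ι_mp, if_pos h]

@[reassoc]
lemma ι_mp_of_ne {m : ℕ} (h : m ≠ n (nu n m)) : Sigma.ι (fun m : ℕ => F.obj m) m ≫ mp F n = 0 := by
  rw [ι_mp, if_neg h]

lemma I1 : (𝟙 _ - sh' F n hn) ≫ mb F n = ma F n ≫ (𝟙 _ - sh F) := by
  apply Sigma.hom_ext
  intro i
  rw [Preadditive.sub_comp, Preadditive.comp_sub, Category.id_comp, ι_sh'_assoc, ι_mb, ι_mb,
    ι_ma_assoc, tele F (hn.monotone (Nat.le_succ i))]

include hn in
lemma I6 : mr F n ≫ mb F n - 𝟙 _ = mh F n ≫ (𝟙 _ - sh F) := by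
  apply Sigma.hom_ext
  intro m
  rw [Preadditive.comp_sub, Category.comp_id, ι_mr_assoc, ι_mb, ι_mh_assoc, Preadditive.neg_comp,
    tele F (le_n_nu n hn m)]
  abel

include hn in
lemma I3 : ma F n ≫ mp F n = 𝟙 _ := by
  classical
  apply Sigma.hom_ext
  intro i
  rw [ι_ma_assoc, Category.comp_id, sg, Preadditive.sum_comp]
  rw [Finset.sum_eq_single (n i)]
  · have hi : n i = n (nu n (n i)) := congrArg n (nu_n n hn i).symm
    rw [tr_self, Category.id_comp, ι_mp_of_eq F n hi, rp F n hn]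
  · intro k hk hne
    rw [Finset.mem_Ico] at hk
    rw [Category.assoc, ι_mp_of_ne, comp_zero]
    intro hkk
    have h1 : n i < n (nu n k) := by omega
    have h2 : n (nu n k) < n (i + 1) := by omega
    have h3 := hn.lt_iff_lt.mp h1
    have h4 := hn.lt_iff_lt.mp h2
    omega
  · intro hni
    exfalso
    apply hni
    rw [Finset.mem_Ico]
    exact ⟨le_rfl, hn (Nat.lt_succ_self i)⟩

include hn in
lemma I2 : (𝟙 _ - sh F) ≫ mr F n = mp F n ≫ (𝟙 _ - sh' F n hn) := by
  apply Sigma.hom_ext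
  intro m
  rw [Preadditive.sub_comp, Preadditive.comp_sub, Category.id_comp, ι_sh_assoc, ι_mr, ι_mr]
  by_cases h : m = n (nu n m)
  · have h1 := nu_succ_of_eq n hn h
    have h2 : m + 1 ≤ n (nu n m + 1) := h1 ▸ le_n_nu n hn (m + 1)
    rw [ι_mp_of_eq_assoc F n h, h1, ← Category.assoc (tr F m (m + 1)),
      tr_comp F (Nat.le_succ m) h2, Preadditive.comp_sub, Category.comp_id, ι_sh',
      Preadditive.comp_sub, ← Category.assoc (tr F m (n (nu n m))),
      tr_comp F (le_n_nu n hn m) (hn.monotone (Nat.le_succ _))]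
  · have hlt : m < n (nu n m) := lt_of_le_of_ne (le_n_nu n hn m) h
    have h1 := nu_succ_of_lt n hn hlt
    rw [ι_mp_of_ne_assoc F n h, h1, ← Category.assoc (tr F m (m + 1)),
      tr_comp F (Nat.le_succ m) hlt, sub_self, zero_comp]

include hn in
lemma I5 : mp F n ≫ ma F n - 𝟙 _ = (𝟙 _ - sh F) ≫ mh F n := by
  apply Sigma.hom_ext
  intro m
  rw [Preadditive.comp_sub, Category.comp_id, Preadditive.sub_comp, Preadditive.comp_sub,
    Category.id_comp, ι_sh_assoc, ι_mh, ι_mh, Preadditive.comp_neg]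
  by_cases h : m = n (nu n m)
  · have h1 := nu_succ_of_eq n hn h
    have h2 : m + 1 ≤ n (nu n m + 1) := h1 ▸ le_n_nu n hn (m + 1)
    rw [ι_mp_of_eq_assoc F n h, ι_ma, tr_sg F h, h1, shift_sg F h2, sg_eq_zero F (le_of_eq h.symm)]
    abel
  · have hlt : m < n (nu n m) := lt_of_le_of_ne (le_n_nu n hn m) h
    have h1 := nu_succ_of_lt n hn hlt
    rw [ι_mp_of_ne_assoc F n h, h1, shift_sg F hlt, zero_comp]
    abel

end Maps

end Groth.Agent.Lib.Helper8.SubSeq
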