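import Groth.Agent.Lib.Helper8.SubSeq
import Mathlib.CategoryTheory.Triangulated.Pretriangulated

/-! Homotopy colimit of a subsequence. -/

set_option autoImplicit false
set_option linter.unusedSectionVars false
universe v u

open CategoryTheory CategoryTheory.Limits CategoryTheory.Pretriangulated

namespace Groth.Agent.Lib.Helper8.SubSeq

variable {C : Type u} [Category.{v} C] [Preadditive C] [HasZeroObject C] [HasShift C ℤ]
  [∀ n : ℤ, (shiftFunctor C n).Additive] [Pretriangulated C]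

lemma isIso_one_add_of_sq_zero {L : C} (ν : L ⟶ L) (h : ν ≫ ν = 0) : IsIso (𝟙 L + ν) := by
  refine ⟨𝟙 L - ν, ?_, ?_⟩
  · rw [Preadditive.add_comp, Preadditive.comp_sub, Preadditive.comp_sub, h, Category.id_comp,
      Category.comp_id, Category.id_comp]
    abel
  · rw [Preadditive.comp_add, Preadditive.sub_comp, Preadditive.sub_comp, h, Category.id_comp,
      Category.comp_id, Category.id_comp]
    abel

lemma isIso_of_sq_zero {L : C} (w : L ⟶ L) (h : (w - 𝟙 L) ≫ (w - 𝟙 L) = 0) : IsIso w := by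
  have : w = 𝟙 L + (w - 𝟙 L) := by abel
  rw [this]
  exact isIso_one_add_of_sq_zero _ h

/-- An endomorphism of a distinguished triangle which is homotopic to the identity on the first two
vertices has invertible third component. -/
lemma isIso_of_homotopic_id {P Q L : C} (u : P ⟶ Q) (v : Q ⟶ L)
    (w' : L ⟶ (shiftFunctor C (1 : ℤ)).obj P)
    (hT : Triangle.mk u v w' ∈ distTriang C) (h : Q ⟶ P) (w : L ⟶ L)
    (h2 : (𝟙 Q + h ≫ u) ≫ v = v ≫ w)
    (h3 : w ≫ w' = w' ≫ (shiftFunctor C (1 : ℤ)).map (𝟙 P + u ≫ h)) : IsIso w := by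
  have huv : u ≫ v = 0 := comp_distTriang_mor_zero₁₂ _ hT
  have hwu : w' ≫ (shiftFunctor C (1 : ℤ)).map u = 0 := comp_distTriang_mor_zero₃₁ _ hT
  have e1 : v ≫ (w - 𝟙 L) = 0 := by
    rw [Preadditive.comp_sub, ← h2, Preadditive.add_comp, Category.id_comp, Category.comp_id,
      Category.assoc, huv, comp_zero, add_zero, sub_self]
  have e2 : (w - 𝟙 L) ≫ w' = 0 := by
    rw [Preadditive.sub_comp, h3, Functor.map_add, Preadditive.comp_add, Functor.map_comp,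
      reassoc_of% hwu, zero_comp, add_zero, Category.id_comp]
    rw [CategoryTheory.Functor.map_id, Category.comp_id, sub_self]
  obtain ⟨t, ht⟩ : ∃ t : (shiftFunctor C (1 : ℤ)).obj P ⟶ L, w - 𝟙 L = w' ≫ t :=
    Triangle.yoneda_exact₃ _ hT (w - 𝟙 L) e1
  apply isIso_of_sq_zero
  nth_rw 2 [ht]
  rw [reassoc_of% e2, zero_comp]

lemma isIso_of_isIso_comps {X Y : C} (φ : X ⟶ Y) (ψ : Y ⟶ X) [IsIso (φ ≫ ψ)] [IsIso (ψ ≫ φ)] :
    IsIso φ := by
  refine ⟨ψ ≫ inv (φ ≫ ψ), ?_, ?_⟩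
  · rw [← Category.assoc, IsIso.hom_inv_id]
  · have h1 : (inv (ψ ≫ φ) ≫ ψ) ≫ φ = 𝟙 Y := by rw [Category.assoc, IsIso.inv_hom_id]
    have h2 : φ ≫ (ψ ≫ inv (φ ≫ ψ)) = 𝟙 X := by rw [← Category.assoc, IsIso.hom_inv_id]
    have h3 : inv (ψ ≫ φ) ≫ ψ = ψ ≫ inv (φ ≫ ψ) := by
      calc inv (ψ ≫ φ) ≫ ψ = (inv (ψ ≫ φ) ≫ ψ) ≫ (φ ≫ (ψ ≫ inv (φ ≫ ψ))) := by
            rw [h2, Category.comp_id]
        _ = ((inv (ψ ≫ φ) ≫ ψ) ≫ φ) ≫ (ψ ≫ inv (φ ≫ ψ)) := by simp only [Category.assoc]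
        _ = ψ ≫ inv (φ ≫ ψ) := by rw [h1, Category.id_comp]
    rw [← h3, h1]

/-- The homotopy colimit of a subsequence is the homotopy colimit of the sequence. -/
theorem hocolim_subsequence (F : ℕ ⥤ C) (n : ℕ → ℕ) (hn : StrictMono n)
    [HasCoproduct (fun m : ℕ => F.obj m)] [HasCoproduct (fun i : ℕ => F.obj (n i))]
    (L : C) (ι : ∀ m : ℕ, F.obj m ⟶ L)
    (hL : DerLim.IsHocolim (fun m : ℕ => F.obj m)
      (fun m : ℕ => F.map (homOfLE (Nat.le_succ m))) L ι)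
    (L' : C) (ι' : ∀ i : ℕ, F.obj (n i) ⟶ L')
    (hL' : DerLim.IsHocolim (fun i : ℕ => F.obj (n i))
      (fun i : ℕ => F.map (homOfLE (hn.monotone (Nat.le_succ i)))) L' ι') :
    ∃ e : L' ≅ L, ∀ i : ℕ, ι' i ≫ e.hom = ι (n i) := by
  obtain ⟨c, hT⟩ := hL
  obtain ⟨c', hT'⟩ := hL'
  change Triangle.mk (𝟙 _ - sh F) (Sigma.desc ι) c ∈ distTriang C at hT
  change Triangle.mk (𝟙 _ - sh' F n hn) (Sigma.desc ι') c' ∈ distTriang C at hT'
  obtain ⟨φ, hφ1, hφ2⟩ : ∃ φ : L' ⟶ L, Sigma.desc ι' ≫ φ = mb F n ≫ Sigma.desc ι ∧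
      c' ≫ (shiftFunctor C (1 : ℤ)).map (ma F n) = φ ≫ c :=
    complete_distinguished_triangle_morphism _ _ hT' hT (ma F n) (mb F n) (I1 F n hn)
  obtain ⟨ψ, hψ1, hψ2⟩ : ∃ ψ : L ⟶ L', Sigma.desc ι ≫ ψ = mr F n ≫ Sigma.desc ι' ∧
      c ≫ (shiftFunctor C (1 : ℤ)).map (mp F n) = ψ ≫ c' :=
    complete_distinguished_triangle_morphism _ _ hT hT' (mp F n) (mr F n) (I2 F n hn)
  have iso1 : IsIso (φ ≫ ψ) := by
    refine isIso_of_homotopic_id _ _ _ hT' 0 (φ ≫ ψ) ?_ ?_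
    · rw [zero_comp, add_zero, Category.id_comp, reassoc_of% hφ1, hψ1, ← Category.assoc,
        I4 F n hn, Category.id_comp]
    · rw [comp_zero, add_zero, CategoryTheory.Functor.map_id, Category.comp_id, Category.assoc,
        ← hψ2, ← reassoc_of% hφ2, ← Functor.map_comp, I3 F n hn, CategoryTheory.Functor.map_id,
        Category.comp_id]
  have iso2 : IsIso (ψ ≫ φ) := by
    refine isIso_of_homotopic_id _ _ _ hT (mh F n) (ψ ≫ φ) ?_ ?_
    · rw [reassoc_of% hψ1, hφ1, ← Category.assoc, ← I6 F n hn]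
      congr 1
      abel
    · rw [Category.assoc, ← hφ2, ← reassoc_of% hψ2, ← Functor.map_comp, ← I5 F n hn]
      congr 2
      abel
  have hφ : IsIso φ := isIso_of_isIso_comps φ ψ
  refine ⟨asIso φ, fun i => ?_⟩
  have := congrArg (fun t => Sigma.ι (fun i : ℕ => F.obj (n i)) i ≫ t) hφ1
  simpa [ι_mb_assoc] using this

end Groth.Agent.Lib.Helper8.SubSeq
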