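import Mathlib
import Groth.Agent.Lib.Helper16.KF5

/-!
# Helper8 — TenCmp1: tensoring with a finite free module commutes with products of modules;
projections from the terms of a tensor product of complexes onto their summands.
-/

set_option autoImplicit false

universe u

open CategoryTheory CategoryTheory.Limits MonoidalCategory

namespace Groth.Agent.Lib.Helper8.TenCmp

open Groth.Agent.Lib.Helper16.KF

variable {R : Type u} [CommRing R]

section Modules

open TensorProduct in
theorem bijective_rTensor {J : Type} {N : Type u} {Nj : J → Type u} [AddCommGroup N] [Module R N]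
    [∀ j, AddCommGroup (Nj j)] [∀ j, Module R (Nj j)] (π : ∀ j, N →ₗ[R] Nj j)
    (h : Function.Bijective (fun (x : N) j => π j x)) (M : Type u) [AddCommGroup M] [Module R M]
    [Module.Free R M] [Module.Finite R M] :
    Function.Bijective (fun (z : N ⊗[R] M) j => (π j).rTensor M z) := by
  classical
  let κ := Module.Free.ChooseBasisIndex R M
  let 𝒞 : Module.Basis κ R M := Module.Free.chooseBasis R M
  have hnat : ∀ (j : J) (z : N ⊗[R] M) (i : κ),
      equivFinsuppOfBasisRight 𝒞 ((π j).rTensor M z) i = π j (equivFinsuppOfBasisRight 𝒞 z i) := by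
    intro j z i
    induction z using TensorProduct.induction_on with
    | zero => simp
    | tmul n m =>
      simp only [LinearMap.rTensor_tmul, equivFinsuppOfBasisRight_apply_tmul_apply, map_smul]
    | add x y hx hy =>
      simp only [map_add, Finsupp.add_apply, hx, hy]
  constructor
  · intro z z' hzz
    apply (equivFinsuppOfBasisRight 𝒞).injective
    ext i
    apply h.1
    funext j
    have := congrFun hzz j
    change (π j).rTensor M z = (π j).rTensor M z' at this
    change π j _ = π j _
    rw [← hnat, ← hnat, this]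
  · intro y
    have hex : ∀ i : κ, ∃ n : N, ∀ j, π j n = equivFinsuppOfBasisRight 𝒞 (y j) i := by
      intro i
      obtain ⟨n, hn⟩ := h.2 (fun j => equivFinsuppOfBasisRight 𝒞 (y j) i)
      exact ⟨n, fun j => congrFun hn j⟩
    choose n hn using hex
    refine ⟨(equivFinsuppOfBasisRight 𝒞).symm (Finsupp.equivFunOnFinite.symm n), ?_⟩
    funext j
    apply (equivFinsuppOfBasisRight 𝒞).injective
    ext i
    change equivFinsuppOfBasisRight 𝒞 ((π j).rTensor M _) i = _
    rw [hnat, LinearEquiv.apply_symm_apply]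
    exact hn i j


variable {J : Type} {N : ModuleCat.{u} R} {Nj : J → ModuleCat.{u} R} (π : ∀ j, N ⟶ Nj j)

/-- a limit fan of modules is given by a bijection onto the product of the underlying types -/
lemma bijective_of_isLimit (h : IsLimit (Fan.mk N π)) :
    Function.Bijective (fun (x : N) (j : J) => (π j).hom x) := by
  let e : N ≅ ModuleCat.of R (∀ j, Nj j) :=
    h.conePointUniqueUpToIso (ModuleCat.productConeIsLimit.{u, 0, u} Nj)
  have he : ∀ (x : N) (j : J), (e.hom.hom x) j = (π j).hom x := by
    intro x j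
    have := h.conePointUniqueUpToIso_hom_comp (ModuleCat.productConeIsLimit.{u, 0, u} Nj) ⟨j⟩
    exact congrArg (fun φ => φ.hom x) this
  have hb : Function.Bijective e.hom.hom := by
    constructor
    · intro x y hxy
      have := congrArg e.inv.hom hxy
      simpa using this
    · intro y
      exact ⟨e.inv.hom y, by simp⟩
  have : (fun (x : N) (j : J) => (π j).hom x) = fun x => e.hom.hom x := by
    funext x j
    exact (he x j).symm
  rw [this]
  exact hb

/-- conversely -/
noncomputable def isLimitOfBijective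
    (h : Function.Bijective (fun (x : N) (j : J) => (π j).hom x)) : IsLimit (Fan.mk N π) := by
  let L : N →ₗ[R] (∀ j, Nj j) := LinearMap.pi (fun j => (π j).hom)
  let E : N ≃ₗ[R] (∀ j, Nj j) := LinearEquiv.ofBijective L h
  refine Fan.IsLimit.mk _ (fun s => ModuleCat.ofHom
    (E.symm.toLinearMap ∘ₗ LinearMap.pi (fun j => (s.proj j).hom))) ?_ ?_
  · intro s j
    ext x
    change (π j).hom (E.symm (fun j => (s.proj j).hom x)) = _
    have : E (E.symm (fun j => (s.proj j).hom x)) = fun j => (s.proj j).hom x :=
      E.apply_symm_apply _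
    exact congrFun this j
  · intro s m hm
    ext x
    change m.hom x = E.symm (fun j => (s.proj j).hom x)
    rw [LinearEquiv.eq_symm_apply]
    funext j
    change (π j).hom (m.hom x) = _
    rw [← hm j]
    rfl

/-- tensoring with a finite free module preserves products -/
noncomputable def isLimitWhiskerRight (h : IsLimit (Fan.mk N π)) (M : ModuleCat.{u} R)
    [Module.Free R M] [Module.Finite R M] :
    IsLimit (Fan.mk (N ⊗ M) (fun j => π j ▷ M)) :=
  isLimitOfBijective _ (bijective_rTensor (fun j => (π j).hom) (bijective_of_isLimit π h) M)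

end Modules

section Proj

open HomologicalComplex

/-- projection of `(L ⊗ K).X n` onto the summand `(p, q)` -/
noncomputable def ρ (L K : Cx R) (n p q : ℤ) (h : p + q = n) : (L ⊗ K).X n ⟶ L.X p ⊗ K.X q :=
  tensorDesc (fun p' q' h' =>
    if hp : p' = p then eqToHom (by
      subst hp
      have : q' = q := by omega
      subst this
      rfl) else 0)

@[reassoc]
lemma ι_ρ_self (L K : Cx R) (n p q : ℤ) (h : p + q = n) :
    ιTensorObj L K p q n h ≫ ρ L K n p q h = 𝟙 _ := by
  unfold ρ
  rw [ι_tensorDesc, dif_pos rfl]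
  rfl

@[reassoc]
lemma ι_ρ_ne (L K : Cx R) (n p q : ℤ) (h : p + q = n) (p' q' : ℤ) (h' : p' + q' = n)
    (hne : p' ≠ p) : ιTensorObj L K p' q' n h' ≫ ρ L K n p q h = 0 := by
  unfold ρ
  rw [ι_tensorDesc, dif_neg hne]

lemma whiskerRight_ρ {L₁ L₂ : Cx R} (f : L₁ ⟶ L₂) (K : Cx R) (n p q : ℤ) (h : p + q = n) :
    (f ▷ K).f n ≫ ρ L₂ K n p q h = ρ L₁ K n p q h ≫ (f.f p ▷ K.X q) := by
  apply tensor_hom_ext
  intro p' q' h'
  rw [ι_whiskerRight_assoc]
  by_cases hp : p' = p
  · subst hp
    have : q' = q := by omega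
    subst this
    rw [ι_ρ_self, ι_ρ_self_assoc, Category.comp_id]
  · rw [ι_ρ_ne _ _ _ _ _ _ _ _ _ hp, ι_ρ_ne_assoc _ _ _ _ _ _ _ _ _ hp, comp_zero, zero_comp]

/-- if the summands of `(L ⊗ K).X n` vanish outside a finite set of indices, then it is the
biproduct of the remaining ones -/
lemma sum_ρ_ι (L K : Cx R) (n : ℤ) (S : Finset ℤ)
    (hS : ∀ p : ℤ, p ∉ S → IsZero (L.X p ⊗ K.X (n - p))) :
    ∑ p ∈ S, ρ L K n p (n - p) (by omega) ≫ ιTensorObj L K p (n - p) n (by omega) =
      𝟙 ((L ⊗ K).X n) := by
  apply tensor_hom_ext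
  intro p' q' h'
  have hq : q' = n - p' := by omega
  subst hq
  rw [Preadditive.comp_sum]
  erw [Category.comp_id]
  by_cases hp : p' ∈ S
  · rw [Finset.sum_eq_single p']
    · rw [ι_ρ_self_assoc]
    · intro p _ hne
      rw [ι_ρ_ne_assoc _ _ _ _ _ _ _ _ _ (Ne.symm hne), zero_comp]
    · intro h
      exact absurd hp h
  · rw [Finset.sum_eq_zero]
    · exact ((hS p' hp).eq_of_src _ _).symm
    · intro p hpS
      have hne : p' ≠ p := fun h => hp (h ▸ hpS)
      rw [ι_ρ_ne_assoc _ _ _ _ _ _ _ _ _ hne, zero_comp]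

end Proj

end Groth.Agent.Lib.Helper8.TenCmp
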