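import Mathlib
import Groth.Prelude.Def_DRing2
import Groth.Agent.Lib.Helper8.TenCmp1

/-!
# Helper8 — TenCmp2: tensoring with a bounded above complex of finite free modules commutes with
products of uniformly bounded above complexes.
-/

set_option autoImplicit false

universe u

open CategoryTheory CategoryTheory.Limits MonoidalCategory

namespace Groth.Agent.Lib.Helper8.TenCmp

open Groth.Agent.Lib.Helper16.KF HomologicalComplex

variable {R : Type u} [CommRing R]

lemma isZero_tensor_of_left {M N : ModuleCat.{u} R} (h : IsZero M) : IsZero (M ⊗ N) :=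
  (tensorRight N).map_isZero h

lemma isZero_tensor_of_right {M N : ModuleCat.{u} R} (h : IsZero N) : IsZero (M ⊗ N) :=
  (tensorLeft M).map_isZero h

section

variable {J : Type} {X : J → Cx R} {P : Cx R} (π : ∀ j, P ⟶ X j) (hP : IsLimit (Fan.mk P π))
  (b c : ℤ) (hX : ∀ j p, b < p → IsZero ((X j).X p))
  (F : Cx R) (hFc : ∀ q, c < q → IsZero (F.X q))
  (hFf : ∀ q, Module.Finite R (F.X q) ∧ Module.Free R (F.X q))

/-- the termwise limit fans -/
noncomputable def isLimitEvalFan (p : ℤ) : IsLimit (Fan.mk (P.X p) (fun j => (π j).f p)) :=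
  (isLimitMapConeFanMkEquiv (eval _ _ p) X π) (isLimitOfPreserves (eval _ _ p) hP)

include hP hX in
lemma isZero_pt_X (p : ℤ) (hp : b < p) : IsZero (P.X p) := by
  rw [IsZero.iff_id_eq_zero]
  apply Fan.IsLimit.hom_ext (isLimitEvalFan π hP p)
  intro j
  exact (hX j p hp).eq_of_tgt _ _

include hFf in
/-- the limit fans of summands -/
noncomputable def isLimitSummandFan (p q : ℤ) :
    IsLimit (Fan.mk (P.X p ⊗ F.X q) (fun j => (π j).f p ▷ F.X q)) :=
  haveI := (hFf q).1
  haveI := (hFf q).2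
  isLimitWhiskerRight _ (isLimitEvalFan π hP p) (F.X q)

include hFc in
lemma isZero_summand (Y : Cx R) (hY : ∀ p, b < p → IsZero (Y.X p)) (n p : ℤ)
    (hp : p ∉ Finset.Icc (n - c) b) : IsZero (Y.X p ⊗ F.X (n - p)) := by
  rw [Finset.mem_Icc, not_and_or, not_le, not_le] at hp
  rcases hp with hp | hp
  · exact isZero_tensor_of_right (hFc _ (by omega))
  · exact isZero_tensor_of_left (hY _ hp)

include hP hX hFc hFf in
theorem existsUnique_lift (n : ℤ) (Z : ModuleCat.{u} R) (s : ∀ j, Z ⟶ (X j ⊗ F).X n) :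
    ∃! m : Z ⟶ (P ⊗ F).X n, ∀ j, m ≫ (π j ▷ F).f n = s j := by
  have hPb := isZero_pt_X π hP b hX
  let S := Finset.Icc (n - c) b
  have hq : ∀ p : ℤ, p + (n - p) = n := fun p => by omega
  let l : ∀ p : ℤ, Z ⟶ P.X p ⊗ F.X (n - p) := fun p =>
    Fan.IsLimit.lift (isLimitSummandFan π hP F hFf p (n - p))
      (fun j => s j ≫ ρ (X j) F n p (n - p) (hq p))
  have hl : ∀ p j, l p ≫ ((π j).f p ▷ F.X (n - p)) = s j ≫ ρ (X j) F n p (n - p) (hq p) :=
    fun p j => Fan.IsLimit.fac (isLimitSummandFan π hP F hFf p (n - p)) _ j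
  refine ⟨∑ p ∈ S, l p ≫ ιTensorObj P F p (n - p) n (hq p), ?_, ?_⟩
  · intro j
    rw [Preadditive.sum_comp]
    have h1 : ∀ p ∈ S, (l p ≫ ιTensorObj P F p (n - p) n (hq p)) ≫ (π j ▷ F).f n =
        s j ≫ ρ (X j) F n p (n - p) (hq p) ≫ ιTensorObj (X j) F p (n - p) n (hq p) := by
      intro p _
      rw [Category.assoc, ι_whiskerRight, reassoc_of% (hl p j)]
    rw [Finset.sum_congr rfl h1, ← Preadditive.comp_sum,
      sum_ρ_ι (X j) F n S (isZero_summand b c F hFc (X j) (hX j) n)]
    erw [Category.comp_id]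
  · intro m' hm'
    have h0 : m' = m' ≫ 𝟙 ((P ⊗ F).X n) := by erw [Category.comp_id]
    rw [h0, ← sum_ρ_ι P F n S (isZero_summand b c F hFc P hPb n), Preadditive.comp_sum]
    apply Finset.sum_congr rfl
    intro p _
    rw [← Category.assoc]
    congr 1
    apply Fan.IsLimit.hom_ext (isLimitSummandFan π hP F hFf p (n - p))
    intro j
    change (m' ≫ ρ P F n p (n - p) (hq p)) ≫ ((π j).f p ▷ F.X (n - p)) =
      l p ≫ ((π j).f p ▷ F.X (n - p))
    rw [hl, Category.assoc, ← whiskerRight_ρ, ← Category.assoc, hm']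

include hX hFc hFf in
/-- `- ⊗ F` preserves the product of the `X j` -/
noncomputable def isLimitTensorFan : IsLimit (Fan.mk (P ⊗ F) (fun j => π j ▷ F)) :=
  HomologicalComplex.isLimitOfEval _ _ (fun n =>
    { lift := fun t => (existsUnique_lift π hP b c hX F hFc hFf n t.pt
        (fun j => t.π.app ⟨j⟩)).choose
      fac := fun t ⟨j⟩ => (existsUnique_lift π hP b c hX F hFc hFf n t.pt
        (fun j => t.π.app ⟨j⟩)).choose_spec.1 j
      uniq := fun t m hm => (existsUnique_lift π hP b c hX F hFc hFf n t.pt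
        (fun j => t.π.app ⟨j⟩)).choose_spec.2 m (fun j => hm ⟨j⟩) })

end

end Groth.Agent.Lib.Helper8.TenCmp
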