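import Mathlib
import Groth.Prelude.Def_DRing3
import Groth.Prelude.Def_DRing4
import Groth.Agent.Lib.Helper8.RHomK6
import Groth.Agent.Lib.Helper8.DCmpK
import Groth.Agent.Lib.Helper8.TenCmp2
import Groth.Agent.Lib.Helper16.KF9

/-!
# Helper8 — TenCmp3: functors `G` on `D(A)` modelled by `- ⊗ F` on complexes (i.e. equipped with
`Q ⋙ G ≅ tensorRight F ⋙ Q`) are additive, linear and weakly exact.
-/

set_option autoImplicit false

universe u

open CategoryTheory CategoryTheory.Limits CategoryTheory.Pretriangulated DerivedCategory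
  MonoidalCategory

attribute [local instance] HasDerivedCategory.standard

namespace Groth.Agent.Lib.Helper8.TenCmp

open Groth.Agent.Lib.Helper16.KF Groth.Agent.Lib.Helper8.RHomK

variable {A : Type u} [CommRing A]

lemma smul_whiskerRight_cx (c : A) {L₁ L₂ : Cx A} (a : L₁ ⟶ L₂) (F : Cx A) :
    (c • a) ▷ F = c • (a ▷ F) := by
  ext n : 1
  apply tensor_hom_ext
  intro p q h
  rw [ι_whiskerRight, HomologicalComplex.smul_f_apply, HomologicalComplex.smul_f_apply,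
    Linear.comp_smul, ι_whiskerRight, MonoidalLinear.smul_whiskerRight, Linear.smul_comp]

variable (F : Cx A) (G : Dual.D A ⥤ Dual.D A) (α : Q ⋙ G ≅ tensorRight F ⋙ Q)

include α in
/-- computing `G φ` on models -/
lemma map_eq {X Y : Dual.D A} (φ : X ⟶ Y) {I I' : Cx A}
    (eX : Q.obj I ≅ X) (eY : Q.obj I' ≅ Y) (a : I ⟶ I') (ha : Q.map a = eX.hom ≫ φ ≫ eY.inv) :
    G.map φ = G.map eX.inv ≫ α.hom.app I ≫ Q.map (a ▷ F) ≫ α.inv.app I' ≫ G.map eY.hom := by
  have h1 : φ = eX.inv ≫ Q.map a ≫ eY.hom := by rw [ha]; simp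
  have h2 : G.map (Q.map a) ≫ α.hom.app I' = α.hom.app I ≫ Q.map (a ▷ F) := α.hom.naturality a
  conv_lhs => rw [h1]
  rw [Functor.map_comp, Functor.map_comp, ← reassoc_of% h2, Iso.hom_inv_id_app_assoc]

include α in
lemma additive_of_model : G.Additive where
  map_add {X Y φ ψ} := by
    obtain ⟨I, I', hI, hI', eX, eY, a, b, ha, hb⟩ := exists_models φ ψ
    have hab : Q.map (a + b) = eX.hom ≫ (φ + ψ) ≫ eY.inv := by
      rw [Functor.map_add, ha, hb]
      simp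
    have hadd : (a + b) ▷ F = a ▷ F + b ▷ F := (tensorRight F).map_add
    rw [map_eq F G α (φ + ψ) eX eY (a + b) hab, map_eq F G α φ eX eY a ha,
      map_eq F G α ψ eX eY b hb, hadd, Functor.map_add]
    simp

include α in
lemma map_smul_of_model (c : A) {X Y : Dual.D A} (φ : X ⟶ Y) :
    G.map (c • φ) = c • G.map φ := by
  obtain ⟨I, I', hI, hI', eX, eY, a, -, ha, -⟩ := exists_models φ φ
  have hca : Q.map (c • a) = eX.hom ≫ (c • φ) ≫ eY.inv := by
    rw [Functor.map_smul, ha]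
    simp
  rw [map_eq F G α (c • φ) eX eY (c • a) hca, map_eq F G α φ eX eY a ha, smul_whiskerRight_cx,
    Functor.map_smul]
  simp

include α in
/-- key step: the image of the last two maps of a distinguished triangle can be completed to a
distinguished triangle -/
lemma exists_dist_rot (Tr : Triangle (Dual.D A)) (hTr : Tr ∈ distTriang (Dual.D A)) :
    ∃ δ, Triangle.mk (G.map Tr.mor₂) (G.map Tr.mor₃) δ ∈ distTriang (Dual.D A) := by
  rw [DerivedCategory.mem_distTriang_iff] at hTr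
  obtain ⟨X', Y', a, ⟨E⟩⟩ := hTr
  let S' := CochainComplex.mappingCone.triangleRotateShortComplex a
  have hS' : (S'.map (tensorRight F)).ShortExact :=
    shortExact_whiskerRight_of_split (degreewiseSplit_triangleRotateShortComplex a) F
  let TS := triangleOfSES hS'
  have hTS : TS ∈ distTriang (Dual.D A) := triangleOfSES_distinguished hS'
  let E₁ : Tr.obj₁ ≅ Q.obj X' := Triangle.π₁.mapIso E
  let E₂ : Tr.obj₂ ≅ Q.obj Y' := Triangle.π₂.mapIso E
  let E₃ : Tr.obj₃ ≅ Q.obj (CochainComplex.mappingCone a) := Triangle.π₃.mapIso E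
  have hc₂ : Tr.mor₂ ≫ E₃.hom = E₂.hom ≫ Q.map (CochainComplex.mappingCone.inr a) :=
    E.hom.comm₂
  let m₃ : CochainComplex.mappingCone a ⟶ X'⟦(1 : ℤ)⟧ :=
    (CochainComplex.mappingCone.triangle a).mor₃
  have hc₃ : Tr.mor₃ ≫ E₁.hom⟦(1 : ℤ)⟧' ≫ ((Q.commShiftIso (1 : ℤ)).app X').inv =
      E₃.hom ≫ Q.map m₃ := by
    have h := E.hom.comm₃
    have h' : Tr.mor₃ ≫ E₁.hom⟦(1 : ℤ)⟧' = E₃.hom ≫
        Q.map m₃ ≫ ((Q.commShiftIso (1 : ℤ)).app X').hom := h
    rw [reassoc_of% h']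
    simp
  let r₁ : G.obj (Tr.obj₁⟦(1 : ℤ)⟧) ≅ Q.obj (X'⟦(1 : ℤ)⟧ ⊗ F) :=
    G.mapIso ((shiftFunctor (Dual.D A) (1 : ℤ)).mapIso E₁ ≪≫
      ((Q.commShiftIso (1 : ℤ)).app X').symm) ≪≫ α.app (X'⟦(1 : ℤ)⟧)
  let r₂ : G.obj Tr.obj₂ ≅ Q.obj (Y' ⊗ F) := G.mapIso E₂ ≪≫ α.app Y'
  let r₃ : G.obj Tr.obj₃ ≅ Q.obj (CochainComplex.mappingCone a ⊗ F) :=
    G.mapIso E₃ ≪≫ α.app (CochainComplex.mappingCone a)
  refine ⟨r₁.hom ≫ TS.mor₃ ≫ r₂.inv⟦(1 : ℤ)⟧', isomorphic_distinguished _ hTS _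
    (Triangle.isoMk _ _ r₂ r₃ r₁ ?_ ?_ ?_)⟩
  · change G.map Tr.mor₂ ≫ G.map E₃.hom ≫ α.hom.app _ =
      (G.map E₂.hom ≫ α.hom.app Y') ≫ Q.map (CochainComplex.mappingCone.inr a ▷ F)
    have hn := α.hom.naturality (CochainComplex.mappingCone.inr a)
    have hn' : G.map (Q.map (CochainComplex.mappingCone.inr a)) ≫ α.hom.app _ =
      α.hom.app Y' ≫ Q.map (CochainComplex.mappingCone.inr a ▷ F) := hn
    rw [← G.map_comp_assoc, hc₂, G.map_comp_assoc, hn', Category.assoc]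
  · change G.map Tr.mor₃ ≫ G.map (E₁.hom⟦(1 : ℤ)⟧' ≫ ((Q.commShiftIso (1 : ℤ)).app X').inv) ≫
      α.hom.app _ = (G.map E₃.hom ≫ α.hom.app _) ≫ Q.map (m₃ ▷ F)
    have hn := α.hom.naturality m₃
    have hn' : G.map (Q.map m₃) ≫ α.hom.app _ = α.hom.app _ ≫ Q.map (m₃ ▷ F) := hn
    rw [← G.map_comp_assoc, hc₃, G.map_comp_assoc, hn', Category.assoc]
  · change (r₁.hom ≫ TS.mor₃ ≫ r₂.inv⟦(1 : ℤ)⟧') ≫ r₂.hom⟦(1 : ℤ)⟧' = r₁.hom ≫ TS.mor₃
    have h : r₂.inv⟦(1 : ℤ)⟧' ≫ r₂.hom⟦(1 : ℤ)⟧' = 𝟙 _ :=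
      ((CategoryTheory.shiftFunctor (Dual.D A) (1 : ℤ)).mapIso r₂).inv_hom_id
    rw [Category.assoc, Category.assoc]
    erw [h, Category.comp_id]
    rfl

include α in
/-- `G` sends distinguished triangles to triangles which can be completed to distinguished
triangles -/
theorem tri_of_model (Tr : Triangle (Dual.D A)) (hTr : Tr ∈ distTriang (Dual.D A)) :
    ∃ w, Triangle.mk (G.map Tr.mor₁) (G.map Tr.mor₂) w ∈ distTriang (Dual.D A) := by
  obtain ⟨δ, hδ⟩ := exists_dist_rot F G α Tr.invRotate (inv_rot_of_distTriang _ hTr)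
  let ι : (Tr.obj₃⟦(-1 : ℤ)⟧)⟦(1 : ℤ)⟧ ≅ Tr.obj₃ :=
    (shiftEquiv (Dual.D A) (1 : ℤ)).counitIso.app Tr.obj₃
  refine ⟨G.map ι.inv ≫ δ, isomorphic_distinguished _ hδ _
    (Triangle.isoMk _ _ (Iso.refl _) (Iso.refl _) (G.mapIso ι.symm) ?_ ?_ ?_)⟩
  · change G.map Tr.mor₁ ≫ 𝟙 _ = 𝟙 _ ≫ G.map Tr.mor₁
    rw [Category.comp_id, Category.id_comp]
  · change G.map Tr.mor₂ ≫ G.map ι.inv = 𝟙 _ ≫ G.map (Tr.mor₂ ≫ ι.inv)
    rw [Category.id_comp, G.map_comp]
  · change (G.map ι.inv ≫ δ) ≫ (𝟙 _)⟦(1 : ℤ)⟧' = G.map ι.inv ≫ δ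
    rw [CategoryTheory.Functor.map_id, Category.comp_id]

open Groth.Agent.Lib.Helper8.DCmpA in
/-- models of countable powers of bounded above objects -/
lemma exists_prod_model (b : ℤ) (X : Dual.D A) [X.IsLE b] :
    ∃ (X' : Cx A) (_ : X'.IsStrictlyLE b) (eX : X ≅ Q.obj X')
      (ρ : ∏ᶜ (Kc X) ≅ Q.obj (∏ᶜ (fun _ : ℕ => X'))),
      ∀ n : ℕ, ρ.hom ≫ Q.map (Pi.π (fun _ : ℕ => X') n) ≫ eX.inv = Pi.π (Kc X) n := by
  obtain ⟨X', hX', ⟨eX⟩⟩ := X.exists_iso_Q_obj_of_isLE b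
  let Xc : ℕ → Cx A := fun _ => X'
  have hlimX : IsLimit (Fan.mk (Q.obj (∏ᶜ Xc)) (fun n => Q.map (Pi.π Xc n) ≫ eX.inv) :
      Fan (Kc X)) :=
    isLimitFanOfIso (DProdU.fanQ Xc) (DProdU.isLimitFanQ Xc) _ _ (Iso.refl _)
      (fun _ => eX.symm) (fun n => by
        change _ = 𝟙 _ ≫ Q.map (Pi.π Xc n) ≫ eX.inv
        rw [Category.id_comp])
  exact ⟨X', hX', eX, (productIsProduct (Kc X)).conePointUniqueUpToIso hlimX, fun n =>
    (productIsProduct (Kc X)).conePointUniqueUpToIso_hom_comp hlimX ⟨n⟩⟩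

open Groth.Agent.Lib.Helper8.DCmpA in
lemma isLE_prod (b : ℤ) (X : Dual.D A) [X.IsLE b] : (∏ᶜ (Kc X)).IsLE b := by
  obtain ⟨X', hX', eX, ρ, -⟩ := exists_prod_model b X
  haveI : (∏ᶜ (fun _ : ℕ => X')).IsStrictlyLE b :=
    (CochainComplex.isStrictlyLE_iff _ b).2
      (fun p hp => isZero_pt_X (Pi.π (fun _ : ℕ => X')) (productIsProduct _) b
        (fun _ p hp => X'.isZero_of_isStrictlyLE b p hp) p hp)
  exact (TStructure.t).isLE_of_iso ρ.symm b

open Groth.Agent.Lib.Helper8.DCmpA in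
/-- one-element completions preserve `D^{≤ b}` -/
lemma isLE_K' (b : ℤ) (f : A) (Y : Dual.D A) (c : Compl f Y) (hY : Y.IsLE b) : c.K'.IsLE b := by
  haveI := hY
  haveI := isLE_prod b Y
  have h1 : (c.T₀⟦(1 : ℤ)⟧).IsLE b := by
    have hT := rot_of_distTriang _ (rot_of_distTriang _ c.dist₁)
    refine (TStructure.t).isLE₂ _ hT b ?_ ?_
    · exact inferInstanceAs ((∏ᶜ (Kc Y)).IsLE b)
    · haveI : ((∏ᶜ (Kc Y))⟦(1 : ℤ)⟧).IsLE (b - 1) :=
        (TStructure.t).isLE_shift (∏ᶜ (Kc Y)) b 1 (b - 1) (by omega)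
      exact (TStructure.t).isLE_of_le ((∏ᶜ (Kc Y))⟦(1 : ℤ)⟧) (b - 1) b (by omega)
  have hT := rot_of_distTriang _ c.dist₂
  exact (TStructure.t).isLE₂ _ hT b hY h1

open Groth.Agent.Lib.Helper8.DCmpA in
include α in
/-- `G` commutes with countable powers of bounded above objects when `F` is a bounded above
complex of finite free modules -/
theorem prod_of_model (b c : ℤ) (hFc : ∀ q, c < q → IsZero (F.X q))
    (hFf : ∀ q, Module.Finite A (F.X q) ∧ Module.Free A (F.X q)) (X : Dual.D A) [X.IsLE b] :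
    Nonempty (IsLimit (Fan.mk (G.obj (∏ᶜ (Kc X))) (fun n => G.map (Pi.π (Kc X) n)))) := by
  obtain ⟨X', hX', eX, ρ, hρ⟩ := exists_prod_model b X
  let Xc : ℕ → Cx A := fun _ => X'
  have hT : IsLimit (Fan.mk ((∏ᶜ Xc) ⊗ F) (fun n => Pi.π Xc n ▷ F)) :=
    isLimitTensorFan (Pi.π Xc) (productIsProduct Xc) b c
      (fun _ p hp => X'.isZero_of_isStrictlyLE b p hp) F hFc hFf
  let θ : (∏ᶜ Xc) ⊗ F ≅ ∏ᶜ (fun n => Xc n ⊗ F) :=
    hT.conePointUniqueUpToIso (productIsProduct _)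
  have hθ : ∀ n, θ.hom ≫ Pi.π (fun n => Xc n ⊗ F) n = Pi.π Xc n ▷ F := fun n =>
    hT.conePointUniqueUpToIso_hom_comp (productIsProduct _) ⟨n⟩
  refine ⟨isLimitFanOfIso (DProdU.fanQ (fun n => Xc n ⊗ F)) (DProdU.isLimitFanQ _) _ _
    (G.mapIso ρ ≪≫ α.app (∏ᶜ Xc) ≪≫ Q.mapIso θ)
    (fun _ => (α.app X').symm ≪≫ G.mapIso eX.symm) (fun n => ?_)⟩
  change G.map (Pi.π (Kc X) n) = (G.map ρ.hom ≫ α.hom.app (∏ᶜ Xc) ≫ Q.map θ.hom) ≫
    Q.map (Pi.π (fun n => Xc n ⊗ F) n) ≫ α.inv.app X' ≫ G.map eX.inv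
  have h1 : Q.map θ.hom ≫ Q.map (Pi.π (fun n => Xc n ⊗ F) n) = Q.map (Pi.π Xc n ▷ F) := by
    rw [← Q.map_comp, hθ]
  have h2 : G.map (Q.map (Pi.π Xc n)) ≫ α.hom.app X' =
      α.hom.app (∏ᶜ Xc) ≫ Q.map (Pi.π Xc n ▷ F) := α.hom.naturality (Pi.π Xc n)
  rw [← hρ n, G.map_comp, G.map_comp]
  simp only [Category.assoc]
  rw [reassoc_of% h1, ← reassoc_of% h2, Iso.hom_inv_id_app_assoc]

open Groth.Agent.Lib.Helper8.DCmpA Groth.Agent.Lib.Helper8.DCmpB Groth.Agent.Lib.Helper8.DCmpC in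
/-- a linear weakly exact functor commuting with countable powers of objects in a class stable
under one-element completions commutes with derived completion of these objects -/
theorem completion_of_wExactOn (P : Dual.D A → Prop)
    (hP : ∀ (f : A) (Y : Dual.D A) (c : Compl f Y), P Y → P c.K')
    (G : Dual.D A ⥤ Dual.D A) [G.Additive] (hG : WExactOn (A := A) P G)
    (I : Ideal A) (hI : I.FG) [DRing.HasDerivedCompletion I] (L : Dual.D A) (hL : P L) :
    DRing.IsDerivedComplete I (G.obj ((DRing.derivedCompletion I).obj L).obj) ∧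
      ∀ E : Dual.D A, DRing.IsDerivedComplete I E →
        Function.Bijective (fun φ : G.obj ((DRing.derivedCompletion I).obj L).obj ⟶ E =>
          G.map (DRing.toDerivedCompletion I L) ≫ φ) := by
  obtain ⟨s, rfl⟩ := hI
  obtain ⟨Y, η, hch⟩ := exists_chain (T := Dual.D A) s.toList L
  have hmem : ∀ f, f ∈ s.toList ↔ f ∈ (s : Set A) := fun f => by simp
  have hY : DRing.IsDerivedComplete (Ideal.span (s : Set A)) Y :=
    (isDerivedComplete_iff_isCompl _ Y).2 (fun f hf => hch.isCompl f ((hmem f).2 hf))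
  have hB : ∀ E : Dual.D A, DRing.IsDerivedComplete (Ideal.span (s : Set A)) E →
      Function.Bijective (fun g : Y ⟶ E => η ≫ g) := fun E hE =>
    hch.bijective E (fun f hf => (isDerivedComplete_iff_isCompl _ E).1 hE f ((hmem f).1 hf))
  obtain ⟨e, he⟩ := exists_iso_of_reflection (Ideal.span (s : Set A)) L Y η hY hB
  have hch' := (hch.mapOn hG hP hL).1
  have hGY : DRing.IsDerivedComplete (Ideal.span (s : Set A)) (G.obj Y) :=
    (isDerivedComplete_iff_isCompl _ _).2 (fun f hf => hch'.isCompl f ((hmem f).2 hf))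
  constructor
  · rw [isDerivedComplete_iff_isCompl] at hGY ⊢
    exact fun f hf => (hGY f hf).of_iso (G.mapIso e.symm)
  · intro E hE
    have h1 := hch'.bijective E
      (fun f hf => (isDerivedComplete_iff_isCompl _ E).1 hE f ((hmem f).1 hf))
    have h2 : (fun φ : G.obj ((DRing.derivedCompletion (Ideal.span (s : Set A))).obj L).obj ⟶ E =>
        G.map (DRing.toDerivedCompletion (Ideal.span (s : Set A)) L) ≫ φ) =
        (fun g : G.obj Y ⟶ E => G.map η ≫ g) ∘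
          (fun φ : G.obj ((DRing.derivedCompletion (Ideal.span (s : Set A))).obj L).obj ⟶ E =>
            G.map e.inv ≫ φ) := by
      funext φ
      dsimp only [Function.comp]
      rw [← he, ← G.map_comp_assoc, Category.assoc, e.hom_inv_id, Category.comp_id]
    rw [h2]
    refine h1.comp ⟨fun φ φ' h => ?_, fun g => ⟨G.map e.hom ≫ g, ?_⟩⟩
    · exact (cancel_epi (G.map e.inv)).1 h
    · dsimp only
      rw [← G.map_comp_assoc, e.inv_hom_id, G.map_id, Category.id_comp]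

open Groth.Agent.Lib.Helper8.DCmpA in
include α in
/-- **main theorem**: functors modelled by `- ⊗ F`, `F` a bounded above complex of finite free
modules, commute with the derived completion of bounded above objects -/
theorem completion_of_model (b c : ℤ) (hFc : ∀ q, c < q → IsZero (F.X q))
    (hFf : ∀ q, Module.Finite A (F.X q) ∧ Module.Free A (F.X q))
    (I : Ideal A) (hI : I.FG) [DRing.HasDerivedCompletion I] (L : Dual.D A) (hL : L.IsLE b) :
    DRing.IsDerivedComplete I (G.obj ((DRing.derivedCompletion I).obj L).obj) ∧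
      ∀ E : Dual.D A, DRing.IsDerivedComplete I E →
        Function.Bijective (fun φ : G.obj ((DRing.derivedCompletion I).obj L).obj ⟶ E =>
          G.map (DRing.toDerivedCompletion I L) ≫ φ) := by
  haveI := additive_of_model F G α
  have hG : WExactOn (A := A) (fun X : Dual.D A => X.IsLE b) G :=
    { lin := fun a _ _ φ => map_smul_of_model F G α a φ
      tri := fun Tr hTr => tri_of_model F G α Tr hTr
      prod := fun X hX => by
        haveI : X.IsLE b := hX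
        exact prod_of_model F G α b c hFc hFf X }
  exact completion_of_wExactOn (fun X : Dual.D A => X.IsLE b) (isLE_K' b) G hG I hI L hL

end Groth.Agent.Lib.Helper8.TenCmp
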