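import Mathlib
import Groth.Prelude.Def_DRing3
import Groth.Prelude.Def_DRing4
import Groth.Agent.Lib.Helper8.TenCmp3
import Groth.Agent.Lib.Helper8.DNak2
import Groth.Agent.Lib.Helper16.DRE2
import Groth.Agent.Lib.Helper16.KF8

/-!
# Helper8 — TenCmp4: `- ⊗^L F` for a K-flat complex `F` is modelled by `- ⊗ F`; derived completion
commutes with `- ⊗^L F` for `F` a bounded above complex of finite free modules (S7103).
-/

set_option autoImplicit false

universe u

open CategoryTheory CategoryTheory.Limits DerivedCategory MonoidalCategory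

attribute [local instance] HasDerivedCategory.standard

namespace Groth.Agent.Lib.Helper8.TenCmp

open Groth.Agent.Lib.Helper16 Groth.Agent.Lib.Helper16.KF

variable {A : Type u} [CommRing A]

lemma isIso_counit_of_isKFlat (F : Cx A) (hF : DRing.IsKFlat A F) [DRing.HasLTensorCx A F]
    (X : Cx A) :
    IsIso (((DRing.tensorCxQ A F).totalLeftDerivedCounit Q (DRE.qis A)).app X) := by
  obtain ⟨P, ψ, h⟩ := DRE.exists_functorial_kFlat_resolution A
  let ε := (DRing.tensorCxQ A F).totalLeftDerivedCounit Q (DRE.qis A)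
  let p : P.obj X ⟶ X := ψ.app X
  haveI : QuasiIso p := (h X).2.2.1
  haveI : IsIso (ε.app (P.obj X)) :=
    DRE.isIso_app_of_isKFlat (DRE.invertsKFlat_tensorCxQ F) ε (P.obj X) (h X).1
  haveI : QuasiIso (p ▷ F) := quasiIso_whiskerRight_of_isKFlat hF p
  haveI : IsIso (Q.map (p ▷ F)) := (isIso_Q_map_iff_quasiIso _ _).2 inferInstance
  haveI : IsIso (Q.map p) := (isIso_Q_map_iff_quasiIso _ _).2 inferInstance
  have hnat : (DRing.LTensorCx A F).map (Q.map p) ≫ ε.app X =
      ε.app (P.obj X) ≫ Q.map (p ▷ F) := ε.naturality p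
  have : ε.app X = inv ((DRing.LTensorCx A F).map (Q.map p)) ≫ ε.app (P.obj X) ≫
      Q.map (p ▷ F) := by
    rw [IsIso.eq_inv_comp, hnat]
  change IsIso (ε.app X)
  rw [this]
  infer_instance

/-- `- ⊗^L F` is modelled by `- ⊗ F` when `F` is K-flat -/
noncomputable def lTensorCxModel (F : Cx A) (hF : DRing.IsKFlat A F) [DRing.HasLTensorCx A F] :
    Q ⋙ DRing.LTensorCx A F ≅ tensorRight F ⋙ Q :=
  haveI : ∀ X, IsIso (((DRing.tensorCxQ A F).totalLeftDerivedCounit Q (DRE.qis A)).app X) :=
    isIso_counit_of_isKFlat F hF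
  haveI := NatIso.isIso_of_isIso_app
    ((DRing.tensorCxQ A F).totalLeftDerivedCounit Q (DRE.qis A))
  asIso ((DRing.tensorCxQ A F).totalLeftDerivedCounit Q (DRE.qis A))

/-- **S7103** -/
theorem completion_LTensorCx [IsNoetherianRing A] (I : Ideal A)
    [DRing.HasDerivedCompletion I] (F : DRing.Cx A) (c : ℤ) (hFc : DRing.VanishesAbove F c)
    (hFf : DRing.TermwiseFiniteFree F) [DRing.HasLTensorCx A F]
    (K : Dual.D A) (b : ℤ) (hK : ∀ i : ℤ, b < i → Subsingleton (Dual.HD A K i)) :
    DRing.IsDerivedComplete I ((DRing.LTensorCx A F).obj ((DRing.derivedCompletion I).obj K).obj) ∧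
      ∀ E : Dual.D A, DRing.IsDerivedComplete I E →
        Function.Bijective (fun φ : (DRing.LTensorCx A F).obj ((DRing.derivedCompletion I).obj K).obj ⟶ E =>
          (DRing.LTensorCx A F).map (DRing.toDerivedCompletion I K) ≫ φ) := by
  have hFfl : DRing.TermwiseFlat F := fun i => by
    haveI := (hFf i).2
    exact Module.Flat.of_free
  have hFK : DRing.IsKFlat A F := isKFlat_of_boundedAbove F c hFc hFfl
  exact completion_of_model F (DRing.LTensorCx A F) (lTensorCxModel F hFK) b c hFc
    (fun q => hFf q) I (IsNoetherian.noetherian I) K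
    (Groth.Agent.Lib.Helper8.DNak.isLE_of_subsingleton K b hK)

end Groth.Agent.Lib.Helper8.TenCmp
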