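import Groth.Agent.Lib.Helper8.LocZero

/-!
# Helper8: membership in a thick subcategory is detected locally on the base ring (S19191)
-/

universe w v' v u' u

open CategoryTheory CategoryTheory.Limits CategoryTheory.Category Pretriangulated

namespace Groth.Agent.Lib.Helper8.ThickLoc

set_option linter.unusedSectionVars false

open ZeroObject

open Groth.Agent.Lib.Helper8.LocZero

section

variable {T : Type u} [Category.{v} T] [Preadditive T] [HasZeroObject T] [HasShift T ℤ]
    [∀ n : ℤ, (shiftFunctor T n).Additive] [Pretriangulated T] [IsTriangulated T]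
    (U : ObjectProperty T) [U.IsTriangulated] [U.IsClosedUnderIsomorphisms] [U.IsStableUnderRetracts]
    {E : Type u'} [Category.{v'} E] (Q : T ⥤ E) [Q.IsLocalization U.trW]

theorem prop_iff_isZero (X : T) : U X ↔ IsZero (Q.obj X) := by
  rw [isZero_verdier_iff U Q X]
  constructor
  · intro hX
    refine ⟨0, X, hX, ⟨⟨biprod.fst, biprod.inl, ?_, by simp⟩⟩⟩
    ext
    · simp
  · rintro ⟨Z', Y, hY, ⟨e⟩⟩
    have h1 : U (X ⊞ Z') := U.prop_of_iso e.symm hY
    exact U.prop_of_retract ⟨biprod.inl, biprod.fst, by simp⟩ h1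

end

section

variable {A : Type w} [CommRing A]
    {T : Type u} [Category.{v} T] [Preadditive T] [Linear A T] [HasZeroObject T] [HasShift T ℤ]
    [∀ n : ℤ, (shiftFunctor T n).Additive] [∀ n : ℤ, (shiftFunctor T n).Linear A]
    [Pretriangulated T] [IsTriangulated T]
    (U : ObjectProperty T) [U.IsTriangulated] [U.IsClosedUnderIsomorphisms] [U.IsStableUnderRetracts]
    {E : Type u'} [Category.{v'} E] [Preadditive E] [Linear A E]
    (Q : T ⥤ E) [Q.Additive] [Q.Linear A] [Q.IsLocalization U.trW] (X : T)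

theorem main :
    U X ↔ ∀ m : Ideal A, m.IsMaximal → ∃ s : A, s ∉ m ∧ s • 𝟙 (Q.obj X) = 0 := by
  rw [prop_iff_isZero U Q X]
  constructor
  · intro hX m hm
    exact ⟨1, fun h => hm.ne_top ((Ideal.eq_top_iff_one m).2 h), hX.eq_of_src _ _⟩
  · intro h
    let I : Ideal A :=
      { carrier := {s | s • 𝟙 (Q.obj X) = 0}
        add_mem' := fun {a b} ha hb => by
          change (a + b) • 𝟙 (Q.obj X) = 0
          rw [add_smul, ha, hb, add_zero]
        zero_mem' := zero_smul _ _
        smul_mem' := fun c a ha => by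
          change (c • a) • 𝟙 (Q.obj X) = 0
          rw [smul_assoc, ha, smul_zero] }
    have hI : I = ⊤ := by
      by_contra hne
      obtain ⟨m, hm, hIm⟩ := Ideal.exists_le_maximal I hne
      obtain ⟨s, hs, hs0⟩ := h m hm
      exact hs (hIm hs0)
    have h1 : (1 : A) ∈ I := by rw [hI]; trivial
    have h2 : (1 : A) • 𝟙 (Q.obj X) = 0 := h1
    rw [one_smul] at h2
    exact (IsZero.iff_id_eq_zero _).2 h2

end

end Groth.Agent.Lib.Helper8.ThickLoc
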