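import Mathlib

/-!
# Helper8: a functorial free resolution in `ModuleCat R`
-/

universe u

open CategoryTheory CategoryTheory.Limits

namespace Groth.Agent.Lib.Helper8.TorBal1

variable (R : Type u) [CommRing R]

/-- the free module on the underlying set -/
noncomputable def Φ : ModuleCat.{u} R ⥤ ModuleCat.{u} R :=
  forget (ModuleCat.{u} R) ⋙ ModuleCat.free R

/-- the canonical surjection `Φ N ⟶ N` -/
noncomputable def ε : Φ R ⟶ 𝟭 (ModuleCat.{u} R) := (ModuleCat.adj R).counit

instance epi_ε (N : ModuleCat.{u} R) : Epi ((ε R).app N) :=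
  inferInstanceAs (Epi ((ModuleCat.adj R).counit.app N))

instance projective_Φ (N : ModuleCat.{u} R) : Projective ((Φ R).obj N) :=
  ModuleCat.projective_of_free (ι := (forget (ModuleCat.{u} R)).obj N)
    (M := (Φ R).obj N) Finsupp.basisSingleOne

/-- the kernel of `Φ N ⟶ N` -/
noncomputable def K : ModuleCat.{u} R ⥤ ModuleCat.{u} R where
  obj N := kernel ((ε R).app N)
  map {N N'} f := kernel.map ((ε R).app N) ((ε R).app N') ((Φ R).map f) f ((ε R).naturality f).symm
  map_id N := by
    apply (cancel_mono (kernel.ι _)).1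
    simp
  map_comp f g := by
    apply (cancel_mono (kernel.ι _)).1
    simp

/-- the inclusion `K N ⟶ Φ N` -/
noncomputable def ι : K R ⟶ Φ R where
  app N := kernel.ι ((ε R).app N)
  naturality N N' f := by
    dsimp [K]
    simp

instance mono_ι (N : ModuleCat.{u} R) : Mono ((ι R).app N) :=
  inferInstanceAs (Mono (kernel.ι ((ε R).app N)))

@[reassoc (attr := simp)]
lemma ι_ε (N : ModuleCat.{u} R) : (ι R).app N ≫ (ε R).app N = 0 := kernel.condition _

/-- the presentation `0 ⟶ K N ⟶ Φ N ⟶ N ⟶ 0` -/
noncomputable abbrev ses (N : ModuleCat.{u} R) : ShortComplex (ModuleCat.{u} R) :=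
  ShortComplex.mk ((ι R).app N) ((ε R).app N) (ι_ε R N)

lemma ses_shortExact (N : ModuleCat.{u} R) : (ses R N).ShortExact :=
  { exact := ShortComplex.exact_kernel ((ε R).app N)
    mono_f := mono_ι R N
    epi_g := epi_ε R N }

/-- the terms of the resolution -/
@[reducible] noncomputable def Xf : ℕ → (ModuleCat.{u} R ⥤ ModuleCat.{u} R)
  | 0 => Φ R
  | k + 1 => K R ⋙ Xf k

/-- the differentials of the resolution -/
noncomputable def df : ∀ k : ℕ, Xf R (k + 1) ⟶ Xf R k
  | 0 =>
    { app := fun N => (ε R).app ((K R).obj N) ≫ (ι R).app N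
      naturality := fun N N' f => by
        change (Φ R).map ((K R).map f) ≫ (ε R).app ((K R).obj N') ≫ (ι R).app N' =
          ((ε R).app ((K R).obj N) ≫ (ι R).app N) ≫ (Φ R).map f
        have h1 := (ε R).naturality ((K R).map f)
        have h2 := (ι R).naturality f
        dsimp at h1
        rw [reassoc_of% h1, h2, Category.assoc] }
  | k + 1 => Functor.whiskerLeft (K R) (df k)

lemma df_zero_app (N : ModuleCat.{u} R) :
    (df R 0).app N = (ε R).app ((K R).obj N) ≫ (ι R).app N := rfl

lemma df_succ_app (k : ℕ) (N : ModuleCat.{u} R) :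
    (df R (k + 1)).app N = (df R k).app ((K R).obj N) := rfl

lemma df_df (k : ℕ) (N : ModuleCat.{u} R) : (df R (k + 1)).app N ≫ (df R k).app N = 0 := by
  induction k generalizing N with
  | zero =>
    change ((ε R).app ((K R).obj ((K R).obj N)) ≫ (ι R).app ((K R).obj N)) ≫
      ((ε R).app ((K R).obj N) ≫ (ι R).app N) = 0
    rw [Category.assoc, ι_ε_assoc, zero_comp, comp_zero]
  | succ k ih =>
    rw [df_succ_app, df_succ_app]
    exact ih _

instance projective_Xf (k : ℕ) (N : ModuleCat.{u} R) : Projective ((Xf R k).obj N) := by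
  induction k generalizing N with
  | zero => exact projective_Φ R N
  | succ k ih => exact ih _

lemma of_d' (N : ModuleCat.{u} R) (k : ℕ) :
    (ChainComplex.of (fun k => (Xf R k).obj N) (fun k => (df R k).app N) (df_df R · N)).d
      (k + 1) k = (df R k).app N :=
  ChainComplex.of_d (fun k => (Xf R k).obj N) (fun k => (df R k).app N) k

/-- the functorial free resolution -/
noncomputable def Res : ModuleCat.{u} R ⥤ ChainComplex (ModuleCat.{u} R) ℕ where
  obj N := ChainComplex.of (fun k => (Xf R k).obj N) (fun k => (df R k).app N) (df_df R · N)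
  map {N N'} f := ChainComplex.ofHom (fun k => (Xf R k).map f)
    (fun k => by
      rw [of_d', of_d']
      exact (df R k).naturality f)
  map_id N := by
    apply HomologicalComplex.hom_ext
    intro k
    exact (Xf R k).map_id N
  map_comp f g := by
    apply HomologicalComplex.hom_ext
    intro k
    exact (Xf R k).map_comp f g

lemma Res_d (N : ModuleCat.{u} R) (k : ℕ) : ((Res R).obj N).d (k + 1) k = (df R k).app N :=
  of_d' R N k

lemma Res_map_f {N N' : ModuleCat.{u} R} (f : N ⟶ N') (k : ℕ) :
    ((Res R).map f).f k = (Xf R k).map f := rfl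

lemma Res_d_succ (N : ModuleCat.{u} R) (k : ℕ) :
    ((Res R).obj N).d (k + 2) (k + 1) = ((Res R).obj ((K R).obj N)).d (k + 1) k := by
  rw [Res_d, Res_d]
  rfl

lemma Res_d_one_zero (N : ModuleCat.{u} R) :
    ((Res R).obj N).d 1 0 = (ε R).app ((K R).obj N) ≫ (ι R).app N := Res_d R N 0

lemma Res_d_two_one (N : ModuleCat.{u} R) :
    ((Res R).obj N).d 2 1 =
      (ε R).app ((K R).obj ((K R).obj N)) ≫ (ι R).app ((K R).obj N) := Res_d R N 1

/-- `Φ(K N) ⟶ K N ⟶ ... ` the short complex `Φ(KKN) ⟶ Φ(KN) ⟶ KN` is exact with epi `g` -/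
lemma exact_pres (N : ModuleCat.{u} R) :
    (ShortComplex.mk ((ε R).app ((K R).obj N) ≫ (ι R).app N) ((ε R).app N)
      ((Category.assoc _ _ _).trans (by rw [ι_ε, comp_zero]))).Exact := by
  let φ : ShortComplex.mk ((ε R).app ((K R).obj N) ≫ (ι R).app N) ((ε R).app N)
      ((Category.assoc _ _ _).trans (by rw [ι_ε, comp_zero])) ⟶ ses R N :=
    { τ₁ := (ε R).app ((K R).obj N)
      τ₂ := 𝟙 _
      τ₃ := 𝟙 _
      comm₁₂ := by simp [ses]
      comm₂₃ := by simp [ses] }
  have : Epi φ.τ₁ := by dsimp [φ]; infer_instance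
  have : IsIso φ.τ₂ := by dsimp [φ]; infer_instance
  have : Mono φ.τ₃ := by dsimp [φ]; infer_instance
  exact (ShortComplex.exact_iff_of_epi_of_isIso_of_mono φ).2 (ses_shortExact R N).exact

lemma Res_exactAt_one (N : ModuleCat.{u} R) : ((Res R).obj N).ExactAt 1 := by
  rw [HomologicalComplex.exactAt_iff' _ 2 1 0 (by simp) (by simp)]
  have h0 := exact_pres R ((K R).obj N)
  let T : ShortComplex (ModuleCat.{u} R) :=
    ShortComplex.mk ((ε R).app ((K R).obj ((K R).obj N)) ≫ (ι R).app ((K R).obj N))
      ((ε R).app ((K R).obj N) ≫ (ι R).app N)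
      (by rw [Category.assoc, ι_ε_assoc, zero_comp, comp_zero])
  let φ : ShortComplex.mk ((ε R).app ((K R).obj ((K R).obj N)) ≫ (ι R).app ((K R).obj N))
      ((ε R).app ((K R).obj N)) (by rw [Category.assoc, ι_ε, comp_zero]) ⟶ T :=
    { τ₁ := 𝟙 _
      τ₂ := 𝟙 _
      τ₃ := (ι R).app N
      comm₁₂ := by simp [T]
      comm₂₃ := by simp [T] }
  have : Epi φ.τ₁ := by dsimp [φ]; infer_instance
  have : IsIso φ.τ₂ := by dsimp [φ]; infer_instance
  have : Mono φ.τ₃ := by dsimp [φ]; infer_instance
  have hT : T.Exact := (ShortComplex.exact_iff_of_epi_of_isIso_of_mono φ).1 h0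
  refine ShortComplex.exact_of_iso ?_ hT
  refine ShortComplex.isoMk (Iso.refl _) (Iso.refl _) (Iso.refl _) ?_ ?_
  · exact (Category.id_comp _).trans ((Res_d_two_one R N).trans (Category.comp_id _).symm)
  · exact (Category.id_comp _).trans ((Res_d_one_zero R N).trans (Category.comp_id _).symm)

lemma Res_exactAt_succ (k : ℕ) (N : ModuleCat.{u} R) : ((Res R).obj N).ExactAt (k + 1) := by
  induction k generalizing N with
  | zero => exact Res_exactAt_one R N
  | succ k ih =>
    have h0 := ih ((K R).obj N)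
    rw [HomologicalComplex.exactAt_iff' _ (k + 2) (k + 1) k (by simp) (by simp)] at h0
    rw [HomologicalComplex.exactAt_iff' _ (k + 3) (k + 2) (k + 1) (by simp) (by simp)]
    refine ShortComplex.exact_of_iso ?_ h0
    refine ShortComplex.isoMk (Iso.refl _) (Iso.refl _) (Iso.refl _) ?_ ?_
    · exact (Category.id_comp _).trans ((Res_d_succ R N (k + 1)).trans (Category.comp_id _).symm)
    · exact (Category.id_comp _).trans ((Res_d_succ R N k).trans (Category.comp_id _).symm)

lemma comp_ε_zero (N : ModuleCat.{u} R) :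
    ((ε R).app ((K R).obj N) ≫ (ι R).app N) ≫ (ε R).app N = 0 :=
  (Category.assoc _ _ _).trans (by rw [ι_ε, comp_zero])

lemma d_one_zero_ε (N : ModuleCat.{u} R) : ((Res R).obj N).d 1 0 ≫ (ε R).app N = 0 :=
  (congrArg (fun f => f ≫ (ε R).app N) (Res_d_one_zero R N)).trans (comp_ε_zero R N)

/-- the augmentation -/
noncomputable def π (N : ModuleCat.{u} R) :
    (Res R).obj N ⟶ (ChainComplex.single₀ (ModuleCat.{u} R)).obj N :=
  (ChainComplex.toSingle₀Equiv _ _).symm ⟨(ε R).app N, d_one_zero_ε R N⟩

lemma π_f_zero (N : ModuleCat.{u} R) : (π R N).f 0 = (ε R).app N :=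
  ChainComplex.toSingle₀Equiv_symm_apply_f_zero _ _

/-- the functorial free resolution is a projective resolution -/
@[reducible] noncomputable def res (N : ModuleCat.{u} R) : ProjectiveResolution N where
  complex := (Res R).obj N
  projective k := projective_Xf R k N
  π := π R N
  quasiIso := ⟨fun n => by
    cases n with
    | zero =>
      rw [ChainComplex.quasiIsoAt₀_iff, ShortComplex.quasiIso_iff_of_zeros']
      · refine (ShortComplex.exact_and_epi_g_iff_of_iso ?_).2
          ⟨exact_pres R N, epi_ε R N⟩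
        exact ShortComplex.isoMk (Iso.refl _) (Iso.refl _) (Iso.refl _)
          ((Category.id_comp _).trans ((Res_d_one_zero R N).trans (Category.comp_id _).symm))
          ((Category.id_comp _).trans ((π_f_zero R N).trans (Category.comp_id _).symm))
      all_goals rfl
    | succ n =>
      rw [quasiIsoAt_iff_exactAt']
      · exact Res_exactAt_succ R n N
      · apply ChainComplex.exactAt_succ_single_obj⟩

end Groth.Agent.Lib.Helper8.TorBal1
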