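import Groth.Agent.Lib.Helper8.TorBal1

/-!
# Helper8: `Tor` computed with the functorial free resolution
-/

universe u

open CategoryTheory CategoryTheory.Limits MonoidalCategory

namespace Groth.Agent.Lib.Helper8.TorBal2

open Groth.Agent.Lib.Helper8.TorBal1

variable (R : Type u) [CommRing R]

/-- `N ↦ M ⊗ Res N` -/
noncomputable abbrev TC (M : ModuleCat.{u} R) :
    ModuleCat.{u} R ⥤ ChainComplex (ModuleCat.{u} R) ℕ :=
  Res R ⋙ ((tensoringLeft (ModuleCat.{u} R)).obj M).mapHomologicalComplex _

/-- functoriality of `TC` in `M` -/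
noncomputable def TCmap {M M' : ModuleCat.{u} R} (f : M ⟶ M') : TC R M ⟶ TC R M' :=
  Functor.whiskerLeft (Res R)
    (NatTrans.mapHomologicalComplex ((tensoringLeft (ModuleCat.{u} R)).map f) _)

lemma TCmap_id (M : ModuleCat.{u} R) : TCmap R (𝟙 M) = 𝟙 _ := by
  dsimp only [TCmap]
  rw [CategoryTheory.Functor.map_id, NatTrans.mapHomologicalComplex_id]
  rfl

lemma TCmap_comp {M M' M'' : ModuleCat.{u} R} (f : M ⟶ M') (g : M' ⟶ M'') :
    TCmap R (f ≫ g) = TCmap R f ≫ TCmap R g := by
  dsimp only [TCmap]
  rw [CategoryTheory.Functor.map_comp, NatTrans.mapHomologicalComplex_comp]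
  rfl

/-- the bifunctor `(M, N) ↦ H_n(M ⊗ Res N)` -/
noncomputable def B (n : ℕ) : ModuleCat.{u} R ⥤ ModuleCat.{u} R ⥤ ModuleCat.{u} R where
  obj M := TC R M ⋙ HomologicalComplex.homologyFunctor (ModuleCat.{u} R) _ n
  map f := Functor.whiskerRight (TCmap R f) _
  map_id M := by
    rw [TCmap_id]
    exact Functor.whiskerRight_id' _
  map_comp f g := by
    rw [TCmap_comp]
    exact Functor.whiskerRight_comp _ _ _

/-- the comparison with Tor, objectwise -/
noncomputable def torIsoObj (n : ℕ) (M N : ModuleCat.{u} R) :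
    ((Tor (ModuleCat.{u} R) n).obj M).obj N ≅ ((B R n).obj M).obj N :=
  (res R N).isoLeftDerivedObj ((tensoringLeft (ModuleCat.{u} R)).obj M) n

lemma torIsoObj_natural_right (n : ℕ) (M : ModuleCat.{u} R) {N N' : ModuleCat.{u} R}
    (g : N ⟶ N') :
    ((Tor (ModuleCat.{u} R) n).obj M).map g ≫ (torIsoObj R n M N').hom =
      (torIsoObj R n M N).hom ≫ ((B R n).obj M).map g := by
  have comm : ((Res R).map g).f 0 ≫ (res R N').π.f 0 = (res R N).π.f 0 ≫ g := by
    change (Φ R).map g ≫ (π R N').f 0 = (π R N).f 0 ≫ g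
    rw [π_f_zero, π_f_zero]
    exact (ε R).naturality g
  exact ProjectiveResolution.isoLeftDerivedObj_hom_naturality g (res R N) (res R N')
    ((Res R).map g) comm ((tensoringLeft (ModuleCat.{u} R)).obj M) n

lemma torIsoObj_natural_left (n : ℕ) {M M' : ModuleCat.{u} R} (f : M ⟶ M')
    (N : ModuleCat.{u} R) :
    ((Tor (ModuleCat.{u} R) n).map f).app N ≫ (torIsoObj R n M' N).hom =
      (torIsoObj R n M N).hom ≫ ((B R n).map f).app N := by
  have := ProjectiveResolution.leftDerived_app_eq
    ((tensoringLeft (ModuleCat.{u} R)).map f) (res R N) n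
  have h2 : (NatTrans.leftDerived ((tensoringLeft (ModuleCat.{u} R)).map f) n).app N ≫
      ((res R N).isoLeftDerivedObj ((tensoringLeft (ModuleCat.{u} R)).obj M') n).hom =
      ((res R N).isoLeftDerivedObj ((tensoringLeft (ModuleCat.{u} R)).obj M) n).hom ≫
        (HomologicalComplex.homologyFunctor (ModuleCat.{u} R) _ n).map
          ((NatTrans.mapHomologicalComplex ((tensoringLeft (ModuleCat.{u} R)).map f) _).app
            (res R N).complex) := by
    rw [this, Category.assoc, Category.assoc, Iso.inv_hom_id, Category.comp_id]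
  exact h2

/-- the comparison with Tor -/
noncomputable def torIso (n : ℕ) : Tor (ModuleCat.{u} R) n ≅ B R n :=
  NatIso.ofComponents
    (fun M => NatIso.ofComponents (fun N => torIsoObj R n M N)
      (fun g => torIsoObj_natural_right R n M g))
    (fun f => by
      apply NatTrans.ext
      funext N
      exact torIsoObj_natural_left R n f N)

end Groth.Agent.Lib.Helper8.TorBal2
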