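import Groth.Agent.Lib.Helper8.TorBal2

/-!
# Helper8: dimension shifting in the resolved variable
-/

universe u

open CategoryTheory CategoryTheory.Limits MonoidalCategory

namespace Groth.Agent.Lib.Helper8.TorBal3

open Groth.Agent.Lib.Helper8.TorBal1 Groth.Agent.Lib.Helper8.TorBal2

section Generic

variable {C : Type*} [Category C] [Abelian C]

/-- the short complexes of the truncation -/
noncomputable def truncScIso (n : ℕ) :
    ChainComplex.truncate ⋙
        HomologicalComplex.shortComplexFunctor' C (ComplexShape.down ℕ) (n + 2) (n + 1) n ≅
      HomologicalComplex.shortComplexFunctor' C (ComplexShape.down ℕ) (n + 3) (n + 2) (n + 1) :=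
  NatIso.ofComponents
    (fun L => ShortComplex.isoMk (Iso.refl _) (Iso.refl _) (Iso.refl _)
      ((Category.id_comp _).trans (Category.comp_id _).symm)
      ((Category.id_comp _).trans (Category.comp_id _).symm))
    (fun f => by
      apply ShortComplex.hom_ext
      · exact (Category.comp_id _).trans (Category.id_comp _).symm
      · exact (Category.comp_id _).trans (Category.id_comp _).symm
      · exact (Category.comp_id _).trans (Category.id_comp _).symm)

/-- homology of the truncation -/
noncomputable def truncHomologyIso (n : ℕ) :
    ChainComplex.truncate ⋙ HomologicalComplex.homologyFunctor C (ComplexShape.down ℕ) (n + 1) ≅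
      HomologicalComplex.homologyFunctor C (ComplexShape.down ℕ) (n + 2) :=
  Functor.isoWhiskerLeft _
      (HomologicalComplex.homologyFunctorIso' C (ComplexShape.down ℕ) (n + 2) (n + 1) n
        (by simp) (by simp)) ≪≫
    (Functor.associator _ _ _).symm ≪≫
    Functor.isoWhiskerRight (truncScIso n) _ ≪≫
    (HomologicalComplex.homologyFunctorIso' C (ComplexShape.down ℕ) (n + 3) (n + 2) (n + 1)
        (by simp) (by simp)).symm

end Generic

variable (R : Type u) [CommRing R]

/-- `M ⊗ Res (K N)` is the truncation of `M ⊗ Res N` -/
noncomputable def truncNatIso (M : ModuleCat.{u} R) :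
    K R ⋙ TC R M ≅ TC R M ⋙ ChainComplex.truncate :=
  NatIso.ofComponents
    (fun N => HomologicalComplex.Hom.isoOfComponents (fun k => Iso.refl _) (by
      rintro i j (hij : j + 1 = i)
      subst hij
      have h := congrArg (fun f => M ◁ f) (Res_d_succ R N j)
      exact (Category.id_comp _).trans (h.trans (Category.comp_id _).symm)))
    (fun {N N'} g => by
      apply HomologicalComplex.hom_ext
      intro k
      exact (Category.comp_id _).trans (Category.id_comp _).symm)

lemma B_map_app (n : ℕ) {M M' : ModuleCat.{u} R} (f : M ⟶ M') (N : ModuleCat.{u} R) :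
    ((B R n).map f).app N =
      (HomologicalComplex.homologyFunctor _ _ n).map ((TCmap R f).app N) := rfl

lemma B_obj_map (n : ℕ) (M : ModuleCat.{u} R) {N N' : ModuleCat.{u} R} (g : N ⟶ N') :
    ((B R n).obj M).map g =
      (HomologicalComplex.homologyFunctor _ _ n).map ((TC R M).map g) := rfl

/-- dimension shifting in the resolved variable -/
noncomputable def σ (n : ℕ) (M : ModuleCat.{u} R) :
    (B R (n + 2)).obj M ≅ K R ⋙ (B R (n + 1)).obj M :=
  NatIso.ofComponents
    (fun N => (truncHomologyIso n).symm.app ((TC R M).obj N) ≪≫
      (HomologicalComplex.homologyFunctor _ _ (n + 1)).mapIso ((truncNatIso R M).symm.app N))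
    (fun {N N'} g => by
      have h1 : (HomologicalComplex.homologyFunctor _ _ (n + 2)).map ((TC R M).map g) ≫
          (truncHomologyIso n).inv.app ((TC R M).obj N') =
          (truncHomologyIso n).inv.app ((TC R M).obj N) ≫
            (HomologicalComplex.homologyFunctor _ _ (n + 1)).map
              (ChainComplex.truncate.map ((TC R M).map g)) :=
        (truncHomologyIso (C := ModuleCat.{u} R) n).inv.naturality ((TC R M).map g)
      have h2 : ChainComplex.truncate.map ((TC R M).map g) ≫ (truncNatIso R M).inv.app N' =
          (truncNatIso R M).inv.app N ≫ (TC R M).map ((K R).map g) :=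
        (truncNatIso R M).inv.naturality g
      have key : (HomologicalComplex.homologyFunctor _ _ (n + 2)).map ((TC R M).map g) ≫
          ((truncHomologyIso n).inv.app ((TC R M).obj N') ≫
            (HomologicalComplex.homologyFunctor _ _ (n + 1)).map ((truncNatIso R M).inv.app N')) =
          ((truncHomologyIso n).inv.app ((TC R M).obj N) ≫
            (HomologicalComplex.homologyFunctor _ _ (n + 1)).map ((truncNatIso R M).inv.app N)) ≫
          (HomologicalComplex.homologyFunctor _ _ (n + 1)).map
            ((TC R M).map ((K R).map g)) := by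
        rw [← Category.assoc, h1, Category.assoc, Category.assoc]
        congr 1
        rw [← Functor.map_comp, ← Functor.map_comp, h2]
      exact key)

lemma σ_hom_app (n : ℕ) (M N : ModuleCat.{u} R) :
    (σ R n M).hom.app N = (truncHomologyIso n).inv.app ((TC R M).obj N) ≫
      (HomologicalComplex.homologyFunctor _ _ (n + 1)).map ((truncNatIso R M).inv.app N) := rfl

lemma truncNatIso_inv_natural {M M' : ModuleCat.{u} R} (f : M ⟶ M') (N : ModuleCat.{u} R) :
    ChainComplex.truncate.map ((TCmap R f).app N) ≫ (truncNatIso R M').inv.app N =
      (truncNatIso R M).inv.app N ≫ (TCmap R f).app ((K R).obj N) := by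
  apply HomologicalComplex.hom_ext
  intro k
  exact (Category.comp_id _).trans (Category.id_comp _).symm

lemma σ_natural (n : ℕ) {M M' : ModuleCat.{u} R} (f : M ⟶ M') (N : ModuleCat.{u} R) :
    ((B R (n + 2)).map f).app N ≫ (σ R n M').hom.app N =
      (σ R n M).hom.app N ≫ (Functor.whiskerLeft (K R) ((B R (n + 1)).map f)).app N := by
  have h1 : (HomologicalComplex.homologyFunctor _ _ (n + 2)).map ((TCmap R f).app N) ≫
      (truncHomologyIso n).inv.app ((TC R M').obj N) =
      (truncHomologyIso n).inv.app ((TC R M).obj N) ≫
        (HomologicalComplex.homologyFunctor _ _ (n + 1)).map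
          (ChainComplex.truncate.map ((TCmap R f).app N)) :=
    (truncHomologyIso (C := ModuleCat.{u} R) n).inv.naturality ((TCmap R f).app N)
  have key : (HomologicalComplex.homologyFunctor _ _ (n + 2)).map ((TCmap R f).app N) ≫
      ((truncHomologyIso n).inv.app ((TC R M').obj N) ≫
        (HomologicalComplex.homologyFunctor _ _ (n + 1)).map ((truncNatIso R M').inv.app N)) =
      ((truncHomologyIso n).inv.app ((TC R M).obj N) ≫
        (HomologicalComplex.homologyFunctor _ _ (n + 1)).map ((truncNatIso R M).inv.app N)) ≫
      (HomologicalComplex.homologyFunctor _ _ (n + 1)).map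
        ((TCmap R f).app ((K R).obj N)) := by
    rw [← Category.assoc, h1, Category.assoc, Category.assoc]
    congr 1
    rw [← Functor.map_comp, ← Functor.map_comp, truncNatIso_inv_natural]
  exact key

end Groth.Agent.Lib.Helper8.TorBal3
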