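import Groth.Agent.Lib.Helper8.TorBal3

/-!
# Helper8: degree zero and degree one in the resolved variable
-/

universe u

open CategoryTheory CategoryTheory.Limits MonoidalCategory

namespace Groth.Agent.Lib.Helper8.TorBal4

open Groth.Agent.Lib.Helper8.TorBal1 Groth.Agent.Lib.Helper8.TorBal2
  Groth.Agent.Lib.Helper8.TorBal3

variable (R : Type u) [CommRing R]

instance preservesFiniteColimits_tensoringLeft (M : ModuleCat.{u} R) :
    PreservesFiniteColimits ((tensoringLeft (ModuleCat.{u} R)).obj M) :=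
  inferInstanceAs (PreservesFiniteColimits (tensorLeft M))

/-- `H₀(X ⊗ Res M) ≅ X ⊗ M` -/
noncomputable def h0 (X M : ModuleCat.{u} R) : ((B R 0).obj X).obj M ≅ X ⊗ M :=
  ((TC R X).obj M).isoHomologyι₀ ≪≫
    asIso ((res R M).fromLeftDerivedZero' ((tensoringLeft (ModuleCat.{u} R)).obj X))

lemma h0_hom (X M : ModuleCat.{u} R) :
    (h0 R X M).hom = ((TC R X).obj M).homologyι 0 ≫
      (res R M).fromLeftDerivedZero' ((tensoringLeft (ModuleCat.{u} R)).obj X) := rfl

lemma res_comm {M M' : ModuleCat.{u} R} (g : M ⟶ M') :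
    ((Res R).map g).f 0 ≫ (res R M').π.f 0 = (res R M).π.f 0 ≫ g := by
  change (Φ R).map g ≫ (π R M').f 0 = (π R M).f 0 ≫ g
  rw [π_f_zero, π_f_zero]
  exact (ε R).naturality g

lemma h0_natural_right (X : ModuleCat.{u} R) {M M' : ModuleCat.{u} R} (g : M ⟶ M') :
    ((B R 0).obj X).map g ≫ (h0 R X M').hom = (h0 R X M).hom ≫ X ◁ g := by
  have h1 := ProjectiveResolution.fromLeftDerivedZero'_naturality g (res R M) (res R M')
    ((Res R).map g) (res_comm R g) ((tensoringLeft (ModuleCat.{u} R)).obj X)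
  have h2 := HomologicalComplex.homologyι_naturality ((TC R X).map g) 0
  have key : HomologicalComplex.homologyMap ((TC R X).map g) 0 ≫
      (((TC R X).obj M').homologyι 0 ≫
        (res R M').fromLeftDerivedZero' ((tensoringLeft (ModuleCat.{u} R)).obj X)) =
      (((TC R X).obj M).homologyι 0 ≫
        (res R M).fromLeftDerivedZero' ((tensoringLeft (ModuleCat.{u} R)).obj X)) ≫ X ◁ g := by
    rw [← Category.assoc, h2, Category.assoc, Category.assoc]
    congr 1
  exact key

lemma fromLeftDerivedZero'_natural_left {X X' : ModuleCat.{u} R} (f : X ⟶ X')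
    (M : ModuleCat.{u} R) :
    HomologicalComplex.opcyclesMap ((TCmap R f).app M) 0 ≫
        (res R M).fromLeftDerivedZero' ((tensoringLeft (ModuleCat.{u} R)).obj X') =
      (res R M).fromLeftDerivedZero' ((tensoringLeft (ModuleCat.{u} R)).obj X) ≫ f ▷ M := by
  have e1 : ((TC R X').obj M).pOpcycles 0 ≫
      (res R M).fromLeftDerivedZero' ((tensoringLeft (ModuleCat.{u} R)).obj X') =
      ((tensoringLeft (ModuleCat.{u} R)).obj X').map ((res R M).π.f 0) :=
    ProjectiveResolution.pOpcycles_comp_fromLeftDerivedZero' (res R M) _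
  have e2 : ((TC R X).obj M).pOpcycles 0 ≫
      (res R M).fromLeftDerivedZero' ((tensoringLeft (ModuleCat.{u} R)).obj X) =
      ((tensoringLeft (ModuleCat.{u} R)).obj X).map ((res R M).π.f 0) :=
    ProjectiveResolution.pOpcycles_comp_fromLeftDerivedZero' (res R M) _
  rw [← cancel_epi (((TC R X).obj M).pOpcycles 0), HomologicalComplex.p_opcyclesMap_assoc, e1,
    ← Category.assoc, e2]
  exact (((tensoringLeft (ModuleCat.{u} R)).map f).naturality ((res R M).π.f 0)).symm

lemma h0_natural_left {X X' : ModuleCat.{u} R} (f : X ⟶ X') (M : ModuleCat.{u} R) :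
    ((B R 0).map f).app M ≫ (h0 R X' M).hom = (h0 R X M).hom ≫ f ▷ M := by
  have h1 := fromLeftDerivedZero'_natural_left R f M
  have h2 := HomologicalComplex.homologyι_naturality ((TCmap R f).app M) 0
  have key : HomologicalComplex.homologyMap ((TCmap R f).app M) 0 ≫
      (((TC R X').obj M).homologyι 0 ≫
        (res R M).fromLeftDerivedZero' ((tensoringLeft (ModuleCat.{u} R)).obj X')) =
      (((TC R X).obj M).homologyι 0 ≫
        (res R M).fromLeftDerivedZero' ((tensoringLeft (ModuleCat.{u} R)).obj X)) ≫ f ▷ M := by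
    rw [← Category.assoc, h2, Category.assoc, Category.assoc, h1]
  exact key

section Ker

variable {C : Type*} [Category C] [Abelian C]

/-- `j` is a kernel of `g` -/
structure IsKer {A X Y : C} (j : A ⟶ X) (g : X ⟶ Y) : Prop where
  mono : Mono j
  zero : j ≫ g = 0
  lift : ∀ {T : C} (t : T ⟶ X), t ≫ g = 0 → ∃ l : T ⟶ A, l ≫ j = t

lemma IsKer.of_isLimit {A X Y : C} {j : A ⟶ X} {g : X ⟶ Y} (w : j ≫ g = 0)
    (h : IsLimit (KernelFork.ofι j w)) : IsKer j g where
  mono := mono_of_isLimit_fork h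
  zero := w
  lift t ht := ⟨h.lift (KernelFork.ofι t ht), h.fac (KernelFork.ofι t ht) WalkingParallelPair.zero⟩

lemma IsKer.comp_iso {A X X' Y : C} {j : A ⟶ X} (e : X ≅ X') {g : X' ⟶ Y}
    (h : IsKer j (e.hom ≫ g)) : IsKer (j ≫ e.hom) g where
  mono := by
    have := h.mono
    infer_instance
  zero := by rw [Category.assoc, h.zero]
  lift t ht := by
    obtain ⟨l, hl⟩ := h.lift (t ≫ e.inv) (by rw [Category.assoc, Iso.inv_hom_id_assoc, ht])
    exact ⟨l, by rw [← Category.assoc, hl, Category.assoc, Iso.inv_hom_id, Category.comp_id]⟩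

/-- comparison of kernels -/
lemma IsKer.exists_iso {A X Y A' X' Y' : C} {j : A ⟶ X} {g : X ⟶ Y} {j' : A' ⟶ X'} {g' : X' ⟶ Y'}
    (h : IsKer j g) (h' : IsKer j' g') (e : X ≅ X') (e' : Y ≅ Y')
    (comm : g ≫ e'.hom = e.hom ≫ g') :
    ∃ a : A ≅ A', a.hom ≫ j' = j ≫ e.hom := by
  have := h.mono
  have := h'.mono
  obtain ⟨l, hl⟩ := h'.lift (j ≫ e.hom) (by
    rw [Category.assoc, ← comm, ← Category.assoc, h.zero, zero_comp])
  obtain ⟨l', hl'⟩ := h.lift (j' ≫ e.inv) (by
    rw [← cancel_mono e'.hom, Category.assoc, Category.assoc, comm, Iso.inv_hom_id_assoc, h'.zero,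
      zero_comp])
  refine ⟨⟨l, l', ?_, ?_⟩, hl⟩
  · rw [← cancel_mono j, Category.assoc, hl', ← Category.assoc, hl, Category.assoc,
      Iso.hom_inv_id, Category.comp_id, Category.id_comp]
  · rw [← cancel_mono j', Category.assoc, hl, ← Category.assoc, hl', Category.assoc,
      Iso.inv_hom_id, Category.comp_id, Category.id_comp]

end Ker

/-- `(Res N).d 2 1 ≫ ε_{KN} = 0` -/
lemma d_two_one_ε (N : ModuleCat.{u} R) :
    ((Res R).obj N).d 2 1 ≫ (ε R).app ((K R).obj N) = 0 :=
  (congrArg (fun f => f ≫ (ε R).app ((K R).obj N)) (Res_d_succ R N 0)).trans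
    (d_one_zero_ε R ((K R).obj N))

/-- the short complex `Φ(KKN) ⟶ Φ(KN) ⟶ KN` -/
noncomputable abbrev S₀ (N : ModuleCat.{u} R) : ShortComplex (ModuleCat.{u} R) :=
  ShortComplex.mk (((Res R).obj N).d 2 1) ((ε R).app ((K R).obj N)) (d_two_one_ε R N)

lemma S₀_exact (N : ModuleCat.{u} R) : (S₀ R N).Exact := by
  refine ShortComplex.exact_of_iso ?_ (exact_pres R ((K R).obj N))
  exact ShortComplex.isoMk (Iso.refl _) (Iso.refl _) (Iso.refl _)
    ((Category.id_comp _).trans ((Res_d_two_one R N).symm.trans (Category.comp_id _).symm))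
    ((Category.id_comp _).trans (Category.comp_id _).symm)

lemma TC_d_two_one_comp (M N : ModuleCat.{u} R) :
    ((TC R M).obj N).d 2 1 ≫ M ◁ (ε R).app ((K R).obj N) = 0 :=
  ((S₀ R N).map (tensorLeft M)).zero

/-- `M ⊗ Φ(KKN) ⟶ M ⊗ Φ(KN) ⟶ M ⊗ KN` is a cokernel sequence -/
noncomputable def isColimitTensor (M N : ModuleCat.{u} R) :
    IsColimit (CokernelCofork.ofπ (M ◁ (ε R).app ((K R).obj N)) (TC_d_two_one_comp R M N)) := by
  have hepi : Epi (S₀ R N).g := epi_ε R _
  haveI : ((S₀ R N).map (tensorLeft M)).HasHomology := CategoryWithHomology.hasHomology _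
  have h1 : ((S₀ R N).map (tensorLeft M)).Exact :=
    (S₀_exact R N).map_of_epi_of_preservesCokernel (tensorLeft M) hepi inferInstance
  have hpe : (tensorLeft M).PreservesEpimorphisms :=
    preservesEpimorphisms_of_preservesColimitsOfShape _
  have : Epi ((S₀ R N).map (tensorLeft M)).g :=
    @Functor.map_epi _ _ _ _ (tensorLeft M) hpe _ _ ((ε R).app ((K R).obj N)) (epi_ε R _)
  exact h1.gIsCokernel

/-- `opcycles₁(M ⊗ Res N) ≅ M ⊗ K N` -/
noncomputable def opIso (M N : ModuleCat.{u} R) :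
    ((TC R M).obj N).opcycles 1 ≅ M ⊗ (K R).obj N :=
  (((TC R M).obj N).opcyclesIsCokernel 2 1 (by simp)).coconePointUniqueUpToIso
    (isColimitTensor R M N)

lemma p_opIso_hom (M N : ModuleCat.{u} R) :
    ((TC R M).obj N).pOpcycles 1 ≫ (opIso R M N).hom = M ◁ (ε R).app ((K R).obj N) :=
  IsColimit.comp_coconePointUniqueUpToIso_hom
    (((TC R M).obj N).opcyclesIsCokernel 2 1 (by simp)) (isColimitTensor R M N)
    WalkingParallelPair.one

/-- the inclusion `H₁(M ⊗ Res N) ⟶ M ⊗ K N` -/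
noncomputable def j₂ (M N : ModuleCat.{u} R) : ((B R 1).obj M).obj N ⟶ M ⊗ (K R).obj N :=
  ((TC R M).obj N).homologyι 1 ≫ (opIso R M N).hom

lemma TC_d_one_zero (M N : ModuleCat.{u} R) :
    ((TC R M).obj N).d 1 0 = M ◁ (ε R).app ((K R).obj N) ≫ M ◁ (ι R).app N :=
  (congrArg (fun f => M ◁ f) (Res_d_one_zero R N)).trans
    (MonoidalCategory.whiskerLeft_comp M _ _)

lemma fromOpcycles_eq (M N : ModuleCat.{u} R) :
    ((TC R M).obj N).fromOpcycles 1 0 = (opIso R M N).hom ≫ M ◁ (ι R).app N := by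
  have e1 : ((TC R M).obj N).pOpcycles 1 ≫ ((TC R M).obj N).fromOpcycles 1 0 =
      ((TC R M).obj N).d 1 0 := HomologicalComplex.p_fromOpcycles _ 1 0
  have e2 : ((TC R M).obj N).pOpcycles 1 ≫ ((opIso R M N).hom ≫ M ◁ (ι R).app N) =
      M ◁ (ε R).app ((K R).obj N) ≫ M ◁ (ι R).app N :=
    (Category.assoc _ _ _).symm.trans
      (congrArg (fun f => f ≫ M ◁ (ι R).app N) (p_opIso_hom R M N))
  exact (cancel_epi (((TC R M).obj N).pOpcycles 1)).1
    (e1.trans ((TC_d_one_zero R M N).trans e2.symm))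

lemma isKer_j₂ (M N : ModuleCat.{u} R) : IsKer (j₂ R M N) (M ◁ (ι R).app N) := by
  have h1 : IsKer (((TC R M).obj N).homologyι 1) (((TC R M).obj N).fromOpcycles 1 0) :=
    IsKer.of_isLimit _ (((TC R M).obj N).homologyIsKernel 1 0 (by simp))
  rw [fromOpcycles_eq] at h1
  exact h1.comp_iso (opIso R M N)

lemma opIso_natural_right (M : ModuleCat.{u} R) {N N' : ModuleCat.{u} R} (g : N ⟶ N') :
    HomologicalComplex.opcyclesMap ((TC R M).map g) 1 ≫ (opIso R M N').hom =
      (opIso R M N).hom ≫ M ◁ (K R).map g := by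
  rw [← cancel_epi (((TC R M).obj N).pOpcycles 1), HomologicalComplex.p_opcyclesMap_assoc,
    p_opIso_hom, ← Category.assoc, p_opIso_hom]
  have h2 : (Φ R).map ((K R).map g) ≫ (ε R).app ((K R).obj N') =
      (ε R).app ((K R).obj N) ≫ (K R).map g := (ε R).naturality ((K R).map g)
  have key : M ◁ (Φ R).map ((K R).map g) ≫ M ◁ (ε R).app ((K R).obj N') =
      M ◁ (ε R).app ((K R).obj N) ≫ M ◁ (K R).map g := by
    rw [← MonoidalCategory.whiskerLeft_comp, ← MonoidalCategory.whiskerLeft_comp, h2]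
  exact key

lemma opIso_natural_left {M M' : ModuleCat.{u} R} (f : M ⟶ M') (N : ModuleCat.{u} R) :
    HomologicalComplex.opcyclesMap ((TCmap R f).app N) 1 ≫ (opIso R M' N).hom =
      (opIso R M N).hom ≫ f ▷ (K R).obj N := by
  rw [← cancel_epi (((TC R M).obj N).pOpcycles 1), HomologicalComplex.p_opcyclesMap_assoc,
    p_opIso_hom, ← Category.assoc, p_opIso_hom]
  have h1 : ((TCmap R f).app N).f 1 = f ▷ (Φ R).obj ((K R).obj N) := rfl
  rw [h1]
  exact (MonoidalCategory.whisker_exchange f ((ε R).app ((K R).obj N))).symm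

lemma j₂_natural_right (M : ModuleCat.{u} R) {N N' : ModuleCat.{u} R} (g : N ⟶ N') :
    ((B R 1).obj M).map g ≫ j₂ R M N' = j₂ R M N ≫ M ◁ (K R).map g := by
  have h2 := HomologicalComplex.homologyι_naturality ((TC R M).map g) 1
  have key : HomologicalComplex.homologyMap ((TC R M).map g) 1 ≫
      (((TC R M).obj N').homologyι 1 ≫ (opIso R M N').hom) =
      (((TC R M).obj N).homologyι 1 ≫ (opIso R M N).hom) ≫ M ◁ (K R).map g := by
    rw [← Category.assoc, h2, Category.assoc, Category.assoc, opIso_natural_right]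
  exact key

lemma j₂_natural_left {M M' : ModuleCat.{u} R} (f : M ⟶ M') (N : ModuleCat.{u} R) :
    ((B R 1).map f).app N ≫ j₂ R M' N = j₂ R M N ≫ f ▷ (K R).obj N := by
  have h2 := HomologicalComplex.homologyι_naturality ((TCmap R f).app N) 1
  have key : HomologicalComplex.homologyMap ((TCmap R f).app N) 1 ≫
      (((TC R M').obj N).homologyι 1 ≫ (opIso R M' N).hom) =
      (((TC R M).obj N).homologyι 1 ≫ (opIso R M N).hom) ≫ f ▷ (K R).obj N := by
    rw [← Category.assoc, h2, Category.assoc, Category.assoc, opIso_natural_left]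
  exact key

end Groth.Agent.Lib.Helper8.TorBal4
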