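import Groth.Agent.Lib.Helper8.TorBal4

/-!
# Helper8: the long exact sequence in the non-resolved variable
-/

universe u

open CategoryTheory CategoryTheory.Limits MonoidalCategory

namespace Groth.Agent.Lib.Helper8.TorBal5

open Groth.Agent.Lib.Helper8.TorBal1 Groth.Agent.Lib.Helper8.TorBal2
  Groth.Agent.Lib.Helper8.TorBal3 Groth.Agent.Lib.Helper8.TorBal4

variable (R : Type u) [CommRing R]

lemma flat_of_projective (Q : ModuleCat.{u} R) [Projective Q] : Module.Flat R Q := by
  have h : Module.Projective R Q := (IsProjective.iff_projective (R := R) (P := Q)).2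
    (inferInstanceAs (Projective Q))
  infer_instance

instance flat_Xf (k : ℕ) (M : ModuleCat.{u} R) : Module.Flat R ((Xf R k).obj M) :=
  flat_of_projective R _

instance flat_Φ (M : ModuleCat.{u} R) : Module.Flat R ((Φ R).obj M) :=
  flat_of_projective R _

instance preservesFiniteColimits_tensorRight (Q : ModuleCat.{u} R) :
    PreservesFiniteColimits (tensorRight Q) :=
  preservesFiniteColimits_of_natIso (BraidedCategory.tensorLeftIsoTensorRight Q)

lemma TCmap_app_f {X X' : ModuleCat.{u} R} (f : X ⟶ X') (M : ModuleCat.{u} R) (k : ℕ) :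
    ((TCmap R f).app M).f k = f ▷ (Xf R k).obj M := rfl

lemma SC_zero (N M : ModuleCat.{u} R) :
    (TCmap R ((ι R).app N)).app M ≫ (TCmap R ((ε R).app N)).app M = 0 := by
  apply HomologicalComplex.hom_ext
  intro k
  have key : (ι R).app N ▷ (Xf R k).obj M ≫ (ε R).app N ▷ (Xf R k).obj M = 0 := by
    rw [← MonoidalCategory.comp_whiskerRight, ι_ε, MonoidalPreadditive.zero_whiskerRight]
  exact key

/-- the short exact sequence of complexes `K N ⊗ Res M ⟶ Φ N ⊗ Res M ⟶ N ⊗ Res M` -/
noncomputable abbrev SC (N M : ModuleCat.{u} R) :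
    ShortComplex (ChainComplex (ModuleCat.{u} R) ℕ) :=
  ShortComplex.mk ((TCmap R ((ι R).app N)).app M) ((TCmap R ((ε R).app N)).app M) (SC_zero R N M)

lemma SC_shortExact (N M : ModuleCat.{u} R) : (SC R N M).ShortExact := by
  apply HomologicalComplex.shortExact_of_degreewise_shortExact
  intro k
  have h := (ses_shortExact R N).map_of_exact (tensorRight ((Xf R k).obj M))
  refine ShortComplex.shortExact_of_iso ?_ h
  exact ShortComplex.isoMk (Iso.refl _) (Iso.refl _) (Iso.refl _)
    ((Category.id_comp _).trans (Category.comp_id _).symm)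
    ((Category.id_comp _).trans (Category.comp_id _).symm)

lemma TC_exactAt_succ (X : ModuleCat.{u} R) [Module.Flat R X] (n : ℕ) (M : ModuleCat.{u} R) :
    ((TC R X).obj M).ExactAt (n + 1) := by
  rw [HomologicalComplex.exactAt_iff' _ (n + 2) (n + 1) n (by simp) (by simp)]
  have h0 := Res_exactAt_succ R n M
  rw [HomologicalComplex.exactAt_iff' _ (n + 2) (n + 1) n (by simp) (by simp)] at h0
  have h1 := Module.Flat.lTensor_shortComplex_exact X _ h0
  refine ShortComplex.exact_of_iso ?_ h1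
  exact ShortComplex.isoMk (Iso.refl _) (Iso.refl _) (Iso.refl _)
    ((Category.id_comp _).trans (Category.comp_id _).symm)
    ((Category.id_comp _).trans (Category.comp_id _).symm)

lemma isZero_B_succ (X : ModuleCat.{u} R) [Module.Flat R X] (n : ℕ) (M : ModuleCat.{u} R) :
    IsZero (((B R (n + 1)).obj X).obj M) :=
  (TC_exactAt_succ R X n M).isZero_homology

/-- the connecting map -/
noncomputable def δ (n : ℕ) (N M : ModuleCat.{u} R) :
    ((B R (n + 1)).obj N).obj M ⟶ ((B R n).obj ((K R).obj N)).obj M :=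
  (SC_shortExact R N M).δ (n + 1) n rfl

instance mono_δ (n : ℕ) (N M : ModuleCat.{u} R) : Mono (δ R n N M) :=
  (SC_shortExact R N M).mono_δ (n + 1) n rfl (isZero_B_succ R ((Φ R).obj N) n M)

instance isIso_δ (n : ℕ) (N M : ModuleCat.{u} R) : IsIso (δ R (n + 1) N M) :=
  (SC_shortExact R N M).isIso_δ (n + 2) (n + 1) rfl (isZero_B_succ R ((Φ R).obj N) (n + 1) M)
    (isZero_B_succ R ((Φ R).obj N) n M)

lemma δ_comp (n : ℕ) (N M : ModuleCat.{u} R) :
    δ R n N M ≫ ((B R n).map ((ι R).app N)).app M = 0 :=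
  (SC_shortExact R N M).δ_comp (n + 1) n rfl

lemma isKer_δ (n : ℕ) (N M : ModuleCat.{u} R) :
    IsKer (δ R n N M) (((B R n).map ((ι R).app N)).app M) := by
  have : Mono (ShortComplex.mk _ _ ((SC_shortExact R N M).δ_comp (n + 1) n rfl)).f :=
    mono_δ R n N M
  exact IsKer.of_isLimit (δ_comp R n N M)
    (((SC_shortExact R N M).homology_exact₁ (n + 1) n rfl).fIsKernel)

/-- morphism of short complexes induced by `f : N ⟶ N'` -/
noncomputable def SCmapLeft {N N' : ModuleCat.{u} R} (f : N ⟶ N') (M : ModuleCat.{u} R) :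
    SC R N M ⟶ SC R N' M where
  τ₁ := (TCmap R ((K R).map f)).app M
  τ₂ := (TCmap R ((Φ R).map f)).app M
  τ₃ := (TCmap R f).app M
  comm₁₂ := by
    have key : (TCmap R ((ι R).app N)).app M ≫ (TCmap R ((Φ R).map f)).app M =
        (TCmap R ((K R).map f)).app M ≫ (TCmap R ((ι R).app N')).app M := by
      rw [← NatTrans.comp_app, ← NatTrans.comp_app, ← TCmap_comp, ← TCmap_comp,
        (ι R).naturality f]
    exact key.symm
  comm₂₃ := by
    have h : (Φ R).map f ≫ (ε R).app N' = (ε R).app N ≫ f := (ε R).naturality f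
    have key : (TCmap R ((ε R).app N)).app M ≫ (TCmap R f).app M =
        (TCmap R ((Φ R).map f)).app M ≫ (TCmap R ((ε R).app N')).app M := by
      rw [← NatTrans.comp_app, ← NatTrans.comp_app, ← TCmap_comp, ← TCmap_comp, h]
    exact key.symm

/-- morphism of short complexes induced by `g : M ⟶ M'` -/
noncomputable def SCmapRight (N : ModuleCat.{u} R) {M M' : ModuleCat.{u} R} (g : M ⟶ M') :
    SC R N M ⟶ SC R N M' where
  τ₁ := (TC R ((K R).obj N)).map g
  τ₂ := (TC R ((Φ R).obj N)).map g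
  τ₃ := (TC R N).map g
  comm₁₂ := (TCmap R ((ι R).app N)).naturality g
  comm₂₃ := (TCmap R ((ε R).app N)).naturality g

lemma δ_natural_left (n : ℕ) {N N' : ModuleCat.{u} R} (f : N ⟶ N') (M : ModuleCat.{u} R) :
    δ R n N M ≫ ((B R n).map ((K R).map f)).app M =
      ((B R (n + 1)).map f).app M ≫ δ R n N' M :=
  HomologicalComplex.HomologySequence.δ_naturality (SCmapLeft R f M) (SC_shortExact R N M)
    (SC_shortExact R N' M) (n + 1) n rfl

lemma δ_natural_right (n : ℕ) (N : ModuleCat.{u} R) {M M' : ModuleCat.{u} R} (g : M ⟶ M') :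
    δ R n N M ≫ ((B R n).obj ((K R).obj N)).map g =
      ((B R (n + 1)).obj N).map g ≫ δ R n N M' :=
  HomologicalComplex.HomologySequence.δ_naturality (SCmapRight R N g) (SC_shortExact R N M)
    (SC_shortExact R N M') (n + 1) n rfl

section Ker

variable {C : Type*} [Category C] [Abelian C]

lemma _root_.Groth.Agent.Lib.Helper8.TorBal4.IsKer.of_comm {A X Y X' Y' : C} {j : A ⟶ X} {g : X ⟶ Y} (h : IsKer j g) (e : X ≅ X')
    (e' : Y ≅ Y') {g' : X' ⟶ Y'} (comm : g ≫ e'.hom = e.hom ≫ g') : IsKer (j ≫ e.hom) g' where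
  mono := by
    have := h.mono
    infer_instance
  zero := by
    rw [Category.assoc, ← comm, ← Category.assoc, h.zero, zero_comp]
  lift t ht := by
    obtain ⟨l, hl⟩ := h.lift (t ≫ e.inv) (by
      rw [← cancel_mono e'.hom, Category.assoc, Category.assoc, comm, Iso.inv_hom_id_assoc, ht,
        zero_comp])
    exact ⟨l, by rw [← Category.assoc, hl, Category.assoc, Iso.inv_hom_id, Category.comp_id]⟩

end Ker

/-- the inclusion `H₁(N ⊗ Res M) ⟶ K N ⊗ M` -/
noncomputable def j₁ (N M : ModuleCat.{u} R) : ((B R 1).obj N).obj M ⟶ (K R).obj N ⊗ M :=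
  δ R 0 N M ≫ (h0 R ((K R).obj N) M).hom

lemma isKer_j₁ (N M : ModuleCat.{u} R) : IsKer (j₁ R N M) ((ι R).app N ▷ M) :=
  (isKer_δ R 0 N M).of_comm (h0 R ((K R).obj N) M) (h0 R ((Φ R).obj N) M)
    (h0_natural_left R ((ι R).app N) M)

instance mono_j₁ (N M : ModuleCat.{u} R) : Mono (j₁ R N M) := (isKer_j₁ R N M).mono

lemma j₁_natural_right (N : ModuleCat.{u} R) {M M' : ModuleCat.{u} R} (g : M ⟶ M') :
    ((B R 1).obj N).map g ≫ j₁ R N M' = j₁ R N M ≫ (K R).obj N ◁ g := by
  dsimp only [j₁]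
  rw [← Category.assoc, ← δ_natural_right, Category.assoc, h0_natural_right, Category.assoc]

lemma j₁_natural_left {N N' : ModuleCat.{u} R} (f : N ⟶ N') (M : ModuleCat.{u} R) :
    ((B R 1).map f).app M ≫ j₁ R N' M = j₁ R N M ≫ (K R).map f ▷ M := by
  dsimp only [j₁]
  rw [← Category.assoc, ← δ_natural_left, Category.assoc, h0_natural_left, Category.assoc]

end Groth.Agent.Lib.Helper8.TorBal5
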