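import Groth.Agent.Lib.Helper8.TorBal6

/-!
# Helper8: the long exact sequence of `Tor` in the (resolved) second variable
-/

universe u

open CategoryTheory CategoryTheory.Limits MonoidalCategory

namespace Groth.Agent.Lib.Helper8.TorBal7

open Groth.Agent.Lib.Helper8.TorBal1 Groth.Agent.Lib.Helper8.TorBal2
  Groth.Agent.Lib.Helper8.TorBal3 Groth.Agent.Lib.Helper8.TorBal4
  Groth.Agent.Lib.Helper8.TorBal5 Groth.Agent.Lib.Helper8.TorBal6

section Generic

variable {C : Type*} [Category C] [Abelian C]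

lemma exact_transport {A B D A' B' D' : C} (f : A ⟶ B) (g : B ⟶ D) (f' : A' ⟶ B') (g' : B' ⟶ D')
    (a : A ≅ A') (b : B ≅ B') (c : D ≅ D') (h1 : f ≫ b.hom = a.hom ≫ f')
    (h2 : g ≫ c.hom = b.hom ≫ g') (w' : f' ≫ g' = 0)
    (hex : (ShortComplex.mk f' g' w').Exact) :
    ∃ w : f ≫ g = 0, (ShortComplex.mk f g w).Exact := by
  have w : f ≫ g = 0 := by
    rw [← cancel_mono c.hom, Category.assoc, h2, ← Category.assoc, h1, Category.assoc, w',
      comp_zero, zero_comp]
  refine ⟨w, ?_⟩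
  exact ShortComplex.exact_of_iso
    (ShortComplex.isoMk (S₁ := ShortComplex.mk f g w) (S₂ := ShortComplex.mk f' g' w') a b c
      h1.symm h2.symm).symm hex

end Generic

variable (R : Type u) [CommRing R]

/-- `Tor_n(M, N) ≅ H_n(N ⊗ Res M)` -/
noncomputable def θ (n : ℕ) (M N : ModuleCat.{u} R) :
    ((Tor (ModuleCat.{u} R) n).obj M).obj N ≅ ((B R n).obj N).obj M :=
  torIsoObj R n M N ≪≫ (bal R n).iso M N

lemma θ_natural (n : ℕ) (M : ModuleCat.{u} R) {N N' : ModuleCat.{u} R} (g : N ⟶ N') :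
    ((Tor (ModuleCat.{u} R) n).obj M).map g ≫ (θ R n M N').hom =
      (θ R n M N).hom ≫ ((B R n).map g).app M := by
  dsimp only [θ, Iso.trans_hom]
  rw [← Category.assoc, torIsoObj_natural_right, Category.assoc, (bal R n).nat₂ M g,
    Category.assoc]

lemma SCg_zero (S : ShortComplex (ModuleCat.{u} R)) (M : ModuleCat.{u} R) :
    (TCmap R S.f).app M ≫ (TCmap R S.g).app M = 0 := by
  apply HomologicalComplex.hom_ext
  intro k
  have key : S.f ▷ (Xf R k).obj M ≫ S.g ▷ (Xf R k).obj M = 0 := by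
    rw [← MonoidalCategory.comp_whiskerRight, S.zero, MonoidalPreadditive.zero_whiskerRight]
  exact key

/-- the sequence of complexes `X₁ ⊗ Res M ⟶ X₂ ⊗ Res M ⟶ X₃ ⊗ Res M` -/
noncomputable abbrev SCg (S : ShortComplex (ModuleCat.{u} R)) (M : ModuleCat.{u} R) :
    ShortComplex (ChainComplex (ModuleCat.{u} R) ℕ) :=
  ShortComplex.mk ((TCmap R S.f).app M) ((TCmap R S.g).app M) (SCg_zero R S M)

lemma SCg_shortExact (S : ShortComplex (ModuleCat.{u} R)) (hS : S.ShortExact)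
    (M : ModuleCat.{u} R) : (SCg R S M).ShortExact := by
  apply HomologicalComplex.shortExact_of_degreewise_shortExact
  intro k
  have h := hS.map_of_exact (tensorRight ((Xf R k).obj M))
  refine ShortComplex.shortExact_of_iso ?_ h
  exact ShortComplex.isoMk (Iso.refl _) (Iso.refl _) (Iso.refl _)
    ((Category.id_comp _).trans (Category.comp_id _).symm)
    ((Category.id_comp _).trans (Category.comp_id _).symm)

lemma epi_B_zero {X X' : ModuleCat.{u} R} (g : X ⟶ X') [Epi g] (M : ModuleCat.{u} R) :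
    Epi (((B R 0).map g).app M) := by
  have hpe : (tensorRight M).PreservesEpimorphisms :=
    preservesEpimorphisms_of_preservesColimitsOfShape _
  have h1 : Epi (g ▷ M) := @Functor.map_epi _ _ _ _ (tensorRight M) hpe _ _ g inferInstance
  have h2 := h0_natural_left R g M
  have h3 : ((B R 0).map g).app M = ((h0 R X M).hom ≫ g ▷ M) ≫ (h0 R X' M).inv := by
    rw [← h2, Category.assoc, Iso.hom_inv_id, Category.comp_id]
  rw [h3]
  infer_instance

theorem tor_les (M : ModuleCat.{u} R) (S : ShortComplex (ModuleCat.{u} R)) (hS : S.ShortExact)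
    (i : ℕ) :
    (∃ w₀ : ((Tor (ModuleCat.{u} R) i).obj M).map S.f ≫
        ((Tor (ModuleCat.{u} R) i).obj M).map S.g = 0,
        (ShortComplex.mk (((Tor (ModuleCat.{u} R) i).obj M).map S.f)
          (((Tor (ModuleCat.{u} R) i).obj M).map S.g) w₀).Exact) ∧
      Epi (((Tor (ModuleCat.{u} R) 0).obj M).map S.g) ∧
      ∃ (δ : ((Tor (ModuleCat.{u} R) (i + 1)).obj M).obj S.X₃ ⟶
          ((Tor (ModuleCat.{u} R) i).obj M).obj S.X₁)
        (w₁ : ((Tor (ModuleCat.{u} R) (i + 1)).obj M).map S.g ≫ δ = 0)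
        (w₂ : δ ≫ ((Tor (ModuleCat.{u} R) i).obj M).map S.f = 0),
        (ShortComplex.mk (((Tor (ModuleCat.{u} R) (i + 1)).obj M).map S.g) δ w₁).Exact ∧
          (ShortComplex.mk δ (((Tor (ModuleCat.{u} R) i).obj M).map S.f) w₂).Exact := by
  have hS' := SCg_shortExact R S hS M
  refine ⟨?_, ?_, ?_⟩
  · exact exact_transport _ _ (((B R i).map S.f).app M) (((B R i).map S.g).app M)
      (θ R i M S.X₁) (θ R i M S.X₂) (θ R i M S.X₃) (θ_natural R i M S.f) (θ_natural R i M S.g)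
      _ (hS'.homology_exact₂ i)
  · have := hS.epi_g
    have h1 : Epi (((B R 0).map S.g).app M) := epi_B_zero R S.g M
    have h2 := θ_natural R 0 M S.g
    have h3 : ((Tor (ModuleCat.{u} R) 0).obj M).map S.g =
        ((θ R 0 M S.X₂).hom ≫ ((B R 0).map S.g).app M) ≫ (θ R 0 M S.X₃).inv := by
      rw [← h2, Category.assoc, Iso.hom_inv_id, Category.comp_id]
    rw [h3]
    infer_instance
  · let δ' : ((B R (i + 1)).obj S.X₃).obj M ⟶ ((B R i).obj S.X₁).obj M := hS'.δ (i + 1) i rfl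
    let δ : ((Tor (ModuleCat.{u} R) (i + 1)).obj M).obj S.X₃ ⟶
        ((Tor (ModuleCat.{u} R) i).obj M).obj S.X₁ :=
      (θ R (i + 1) M S.X₃).hom ≫ δ' ≫ (θ R i M S.X₁).inv
    have hδ : δ ≫ (θ R i M S.X₁).hom = (θ R (i + 1) M S.X₃).hom ≫ δ' := by
      dsimp only [δ]
      rw [Category.assoc, Category.assoc, Iso.inv_hom_id, Category.comp_id]
    obtain ⟨w₁, e₁⟩ := exact_transport (((Tor (ModuleCat.{u} R) (i + 1)).obj M).map S.g) δ
      (((B R (i + 1)).map S.g).app M) δ'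
      (θ R (i + 1) M S.X₂) (θ R (i + 1) M S.X₃) (θ R i M S.X₁) (θ_natural R (i + 1) M S.g) hδ
      (hS'.comp_δ (i + 1) i rfl) (hS'.homology_exact₃ (i + 1) i rfl)
    obtain ⟨w₂, e₂⟩ := exact_transport δ (((Tor (ModuleCat.{u} R) i).obj M).map S.f)
      δ' (((B R i).map S.f).app M)
      (θ R (i + 1) M S.X₃) (θ R i M S.X₁) (θ R i M S.X₂) hδ (θ_natural R i M S.f)
      (hS'.δ_comp (i + 1) i rfl) (hS'.homology_exact₁ (i + 1) i rfl)
    exact ⟨δ, w₁, w₂, e₁, e₂⟩

end Groth.Agent.Lib.Helper8.TorBal7
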