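import Mathlib
import Groth.Prelude.Def_SiteCmp
import Groth.Prelude.Def_WeakSerre

/-!
# Helper8 — the torsion subsheaf functor on abelian sheaves, right adjoint of the inclusion of
torsion sheaves
-/

set_option autoImplicit false

universe u

open CategoryTheory CategoryTheory.Limits Opposite

namespace Groth.Agent.Lib.Helper8.TorsT

variable {C : Type u} [SmallCategory C] (J : GrothendieckTopology C)

section Pre

variable (F : Cᵒᵖ ⥤ AddCommGrpCat.{u})

/-- a section is locally torsion -/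
def IsLocTors {U : Cᵒᵖ} (s : F.obj U) : Prop :=
  ∃ S ∈ J U.unop, ∀ ⦃V : C⦄ (g : V ⟶ U.unop), S g → IsOfFinAddOrder ((F.map g.op).hom s)

lemma isLocTors_map {U V : Cᵒᵖ} (f : U ⟶ V) {s : F.obj U} (hs : IsLocTors J F s) :
    IsLocTors J F ((F.map f).hom s) := by
  obtain ⟨S, hS, h⟩ := hs
  refine ⟨S.pullback f.unop, J.pullback_stable f.unop hS, fun W g hg => ?_⟩
  have h1 := h (g ≫ f.unop) hg
  have h2 : (F.map (g ≫ f.unop).op).hom s = (F.map g.op).hom ((F.map f).hom s) := by
    rw [op_comp, Quiver.Hom.op_unop, F.map_comp]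
    rfl
  rwa [h2] at h1

/-- the subgroup of locally torsion sections -/
def locTors (U : Cᵒᵖ) : AddSubgroup (F.obj U) where
  carrier := {s | IsLocTors J F s}
  zero_mem' := ⟨⊤, J.top_mem _, fun V g _ => by rw [map_zero]; exact IsOfFinAddOrder.zero⟩
  add_mem' := by
    rintro a b ⟨S, hS, ha⟩ ⟨S', hS', hb⟩
    refine ⟨S ⊓ S', J.intersection_covering hS hS', fun V g hg => ?_⟩
    rw [map_add]
    exact (AddCommute.all _ _).isOfFinAddOrder_add (ha g hg.1) (hb g hg.2)
  neg_mem' := by
    rintro a ⟨S, hS, ha⟩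
    refine ⟨S, hS, fun V g hg => ?_⟩
    rw [map_neg]
    exact (ha g hg).neg

lemma mem_locTors {U : Cᵒᵖ} (s : F.obj U) : s ∈ locTors J F U ↔ IsLocTors J F s := Iff.rfl

/-- the presheaf of locally torsion sections -/
def TPre : Cᵒᵖ ⥤ AddCommGrpCat.{u} where
  obj U := AddCommGrpCat.of (locTors J F U)
  map {U V} f := AddCommGrpCat.ofHom
    (((F.map f).hom.comp (locTors J F U).subtype).codRestrict (locTors J F V)
      (fun s => isLocTors_map J F f s.2))
  map_id U := by
    ext s
    change (F.map (𝟙 U)).hom s.1 = s.1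
    rw [F.map_id]
    rfl
  map_comp f g := by
    ext s
    change (F.map (f ≫ g)).hom s.1 = (F.map g).hom ((F.map f).hom s.1)
    rw [F.map_comp]
    rfl

/-- the inclusion -/
def inclPre : TPre J F ⟶ F where
  app U := AddCommGrpCat.ofHom (locTors J F U).subtype
  naturality U V f := by
    ext s
    rfl

lemma inclPre_app_apply {U : Cᵒᵖ} (s : (TPre J F).obj U) :
    ((inclPre J F).app U).hom s = s.1 := rfl

lemma TPre_map_coe {U V : Cᵒᵖ} (f : U ⟶ V) (s : (TPre J F).obj U) :
    (((TPre J F).map f).hom s).1 = (F.map f).hom s.1 := rfl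

end Pre

section Sh

variable (F : Sheaf J AddCommGrpCat.{u})

/-- local membership -/
lemma isLocTors_of_locally {U : Cᵒᵖ} (s : F.obj.obj U) (S : Sieve U.unop) (hS : S ∈ J U.unop)
    (h : ∀ ⦃V : C⦄ (g : V ⟶ U.unop), S g → IsLocTors J F.obj ((F.obj.map g.op).hom s)) :
    IsLocTors J F.obj s := by
  choose R hR hR' using h
  refine ⟨Sieve.bind S (fun V g hg => R g hg), J.bind_covering hS (fun V g hg => hR g hg), ?_⟩
  rintro W k ⟨V, a, g, hg, ha, rfl⟩
  have h1 := hR' g hg a ha
  have h2 : (F.obj.map (a ≫ g).op).hom s = (F.obj.map a.op).hom ((F.obj.map g.op).hom s) := by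
    rw [op_comp, F.obj.map_comp]
    rfl
  rw [h2]
  exact h1

lemma isSheaf_TPre : Presheaf.IsSheaf J (TPre J F.obj) := by
  rw [Presheaf.isSheaf_iff_isSheaf_forget J (TPre J F.obj) (forget AddCommGrpCat.{u}),
    isSheaf_iff_isSheaf_of_type]
  have hF : Presieve.IsSheaf J (F.obj ⋙ forget AddCommGrpCat.{u}) := by
    rw [← isSheaf_iff_isSheaf_of_type, ← Presheaf.isSheaf_iff_isSheaf_forget]
    exact F.property
  let G : Subfunctor (F.obj ⋙ forget AddCommGrpCat.{u}) :=
    { obj := fun U => {s | IsLocTors J F.obj s}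
      map := fun f s hs => isLocTors_map J F.obj f hs }
  have hG : Presieve.IsSheaf J G.toFunctor := (G.isSheaf_iff hF).2 (fun U s hs =>
    isLocTors_of_locally J F s _ hs (fun V g hg => hg))
  exact Presieve.isSheaf_iso J (NatIso.ofComponents (fun U => Iso.refl _)
    (fun f => rfl)) hG

/-- the torsion subsheaf -/
def T₀ : Sheaf J AddCommGrpCat.{u} := ⟨TPre J F.obj, isSheaf_TPre J F⟩

/-- the inclusion of the torsion subsheaf -/
def incl : T₀ J F ⟶ F := ⟨inclPre J F.obj⟩

lemma isTorsionSh_T₀ : SiteCmp.IsTorsionSh J (T₀ J F) := by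
  rintro U ⟨s, S, hS, h⟩
  refine ⟨S, hS, fun V g hg => ?_⟩
  have h1 := h g hg
  rw [isOfFinAddOrder_iff_nsmul_eq_zero] at h1 ⊢
  obtain ⟨n, hn, h2⟩ := h1
  refine ⟨n, hn, Subtype.ext ?_⟩
  exact ((locTors J F.obj (op V)).coe_nsmul _ n).trans h2

end Sh

section Adj

variable {J}

/-- the image of a section of a torsion sheaf is locally torsion -/
lemma isLocTors_of_hom {G F : Sheaf J AddCommGrpCat.{u}} (hG : SiteCmp.IsTorsionSh J G)
    (φ : G ⟶ F) {U : Cᵒᵖ} (s : G.obj.obj U) : IsLocTors J F.obj ((φ.hom.app U).hom s) := by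
  obtain ⟨S, hS, h⟩ := hG U.unop s
  refine ⟨S, hS, fun V g hg => ?_⟩
  have h1 : (F.obj.map g.op).hom ((φ.hom.app U).hom s) =
      (φ.hom.app (op V)).hom ((G.obj.map g.op).hom s) :=
    (ConcreteCategory.congr_hom (φ.hom.naturality g.op) s).symm
  rw [h1]
  exact AddMonoidHom.isOfFinAddOrder _ (h g hg)

/-- the lift of a morphism from a torsion sheaf through the torsion subsheaf -/
def lift {G F : Sheaf J AddCommGrpCat.{u}} (hG : SiteCmp.IsTorsionSh J G) (φ : G ⟶ F) :
    G ⟶ T₀ J F :=
  ⟨{ app := fun U => AddCommGrpCat.ofHom ((φ.hom.app U).hom.codRestrict (locTors J F.obj U)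
        (fun s => isLocTors_of_hom hG φ s))
     naturality := fun U V f => by
       ext s
       refine Subtype.ext ?_
       exact ConcreteCategory.congr_hom (φ.hom.naturality f) s }⟩

lemma lift_incl {G F : Sheaf J AddCommGrpCat.{u}} (hG : SiteCmp.IsTorsionSh J G) (φ : G ⟶ F) :
    lift hG φ ≫ incl J F = φ := by
  ext U s
  rfl

instance mono_incl (F : Sheaf J AddCommGrpCat.{u}) : Mono (incl J F) := by
  have : Mono (incl J F).hom := by
    apply (config := { allowSynthFailures := true }) NatTrans.mono_of_mono_app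
    intro U
    exact ConcreteCategory.mono_of_injective _ Subtype.val_injective
  exact Sheaf.Hom.mono_of_presheaf_mono _ _ _

lemma hom_ext_incl {G F : Sheaf J AddCommGrpCat.{u}} (a b : G ⟶ T₀ J F)
    (h : a ≫ incl J F = b ≫ incl J F) : a = b := (cancel_mono _).1 h

variable (J)

/-- the category of torsion sheaves -/
abbrev A := (SiteCmp.torsionSh J).FullSubcategory

/-- the torsion subsheaf as a torsion sheaf -/
def Tobj (F : Sheaf J AddCommGrpCat.{u}) : A J := ⟨T₀ J F, isTorsionSh_T₀ J F⟩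

/-- the hom equivalence -/
def e (G : A J) (F : Sheaf J AddCommGrpCat.{u}) :
    ((SiteCmp.torsionSh J).ι.obj G ⟶ F) ≃ (G ⟶ Tobj J F) where
  toFun φ := ObjectProperty.homMk (lift G.property φ)
  invFun ψ := ψ.hom ≫ incl J F
  left_inv φ := lift_incl G.property φ
  right_inv ψ := by
    apply ObjectProperty.hom_ext
    apply hom_ext_incl
    exact lift_incl G.property _

lemma he (X' X : A J) (Y : Sheaf J AddCommGrpCat.{u}) (f : X' ⟶ X)
    (g : (SiteCmp.torsionSh J).ι.obj X ⟶ Y) :
    e J X' Y ((SiteCmp.torsionSh J).ι.map f ≫ g) = f ≫ e J X Y g := by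
  apply ObjectProperty.hom_ext
  apply hom_ext_incl
  change lift X'.property _ ≫ incl J Y = (f.hom ≫ lift X.property g) ≫ incl J Y
  rw [lift_incl, Category.assoc, lift_incl]
  rfl

/-- the torsion subsheaf functor -/
def T : Sheaf J AddCommGrpCat.{u} ⥤ A J := Adjunction.rightAdjointOfEquiv (e J) (he J)

/-- the adjunction -/
def adj : (SiteCmp.torsionSh J).ι ⊣ T J := Adjunction.adjunctionOfEquivRight (e J) (he J)

lemma T_obj (F : Sheaf J AddCommGrpCat.{u}) : (T J).obj F = Tobj J F := rfl

lemma adj_counit_app (F : Sheaf J AddCommGrpCat.{u}) : (adj J).counit.app F = incl J F := by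
  change ((e J (Tobj J F) F).symm (𝟙 _)) = _
  change (𝟙 (Tobj J F) : Tobj J F ⟶ Tobj J F).hom ≫ incl J F = _
  exact Category.id_comp _

end Adj

section Ab

variable [(SiteCmp.torsionSh J).IsSerreClass]

/-- the abelian structure on torsion sheaves (instance synthesis exceeds the default size limit) -/
noncomputable instance abelianA : Abelian (A J) :=
  haveI h : WSerre.IsWeakSerre (SiteCmp.torsionSh J) := inferInstance
  haveI : (SiteCmp.torsionSh J).ContainsZero := h.toContainsZero
  haveI : (SiteCmp.torsionSh J).IsClosedUnderKernels := h.toIsClosedUnderKernels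
  haveI : (SiteCmp.torsionSh J).IsClosedUnderCokernels := h.toIsClosedUnderCokernels
  haveI : (SiteCmp.torsionSh J).IsClosedUnderFiniteProducts := inferInstance
  ObjectProperty.instAbelianFullSubcategoryOfContainsZeroOfIsClosedUnderKernelsOfIsClosedUnderCokernelsOfIsClosedUnderFiniteProducts _

end Ab

end Groth.Agent.Lib.Helper8.TorsT
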