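import Mathlib
import Groth.Prelude.Def_SiteCmp
import Groth.Prelude.Def_WeakSerre
import Groth.Prelude.Def_FreeSh
import Groth.Agent.Lib.Helper8.TorsT

/-!
# Helper8 — the quotient of an injective abelian sheaf by its torsion subsheaf is uniquely divisible;
torsion sheaves on which all `n` are injective vanish
-/

set_option autoImplicit false

universe u

open CategoryTheory CategoryTheory.Limits Opposite

namespace Groth.Agent.Lib.Helper8.TorsCore

open Groth.Agent.Lib.Helper8.TorsT

variable {C : Type u} [SmallCategory C] {J : GrothendieckTopology C}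

/-- evaluation of `n • f` on sections -/
lemma nsmul_app_apply {F G : Sheaf J AddCommGrpCat.{u}} (n : ℕ) (f : F ⟶ G) {U : Cᵒᵖ}
    (s : F.obj.obj U) : ((n • f).hom.app U).hom s = n • (f.hom.app U).hom s := by
  induction n with
  | zero => simp
  | succ n ih =>
    rw [succ_nsmul, succ_nsmul, Sheaf.Hom.add_app, ← ih]
    rfl

lemma isLocTors_of_nsmul {F : Cᵒᵖ ⥤ AddCommGrpCat.{u}} {U : Cᵒᵖ} {s : F.obj U} {n : ℕ}
    (hn : 0 < n) (h : IsLocTors J F (n • s)) : IsLocTors J F s := by
  obtain ⟨S, hS, h⟩ := h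
  refine ⟨S, hS, fun V g hg => ?_⟩
  have h1 := h g hg
  rw [map_nsmul] at h1
  exact h1.of_nsmul hn.ne'

/-- sections killed by `π` in an exact sequence `T F ⟶ F ⟶ Q` are locally torsion -/
lemma isLocTors_of_exact {F Q : Sheaf J AddCommGrpCat.{u}} (π : F ⟶ Q) (w : incl J F ≫ π = 0)
    (hex : (ShortComplex.mk (incl J F) π w).Exact) {U : C} (x : F.obj.obj (op U))
    (hx : (π.hom.app (op U)).hom x = 0) : IsLocTors J F.obj x := by
  let φ := CohFree.ofSect J U F x
  have hφ : φ ≫ π = 0 := by
    apply (CohFree.homEquivSect J U Q).injective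
    rw [CohFree.homEquivSect_apply, map_zero]
    change (π.hom.app (op U)).hom (CohFree.evalGen J U F φ) = 0
    rw [CohFree.evalGen_ofSect]
    exact hx
  have h1 : hex.lift φ hφ ≫ incl J F = φ := hex.lift_f φ hφ
  have h2 : x = (CohFree.evalGen J U (T₀ J F) (hex.lift φ hφ)).1 := by
    have h3 := congrArg (CohFree.evalGen J U F) h1
    rw [CohFree.evalGen_ofSect] at h3
    exact h3.symm
  rw [h2]
  exact (CohFree.evalGen J U (T₀ J F) (hex.lift φ hφ)).2

/-- the quotient by the torsion subsheaf is torsion free -/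
lemma mono_nsmul_of_exact {F Q : Sheaf J AddCommGrpCat.{u}} (π : F ⟶ Q) [Epi π]
    (w : incl J F ≫ π = 0) (hex : (ShortComplex.mk (incl J F) π w).Exact) (n : ℕ) (hn : 0 < n) :
    Mono (n • 𝟙 Q) := by
  have hπ : Sheaf.IsLocallySurjective π := (Sheaf.isLocallySurjective_iff_epi' _ π).2 inferInstance
  have : Mono (n • 𝟙 Q).hom := by
    apply (config := { allowSynthFailures := true }) NatTrans.mono_of_mono_app
    intro U
    rw [AddCommGrpCat.mono_iff_injective, injective_iff_map_eq_zero]
    intro q hq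
    have hq' : n • q = 0 := by
      have := nsmul_app_apply n (𝟙 Q) q
      rw [hq] at this
      exact this.symm
    apply Sheaf.isSeparated Q U.unop _ (hπ.imageSieve_mem q)
    rintro V g ⟨t, ht⟩
    have ht' : (π.hom.app (op V)).hom t = (Q.obj.map g.op).hom q := ht
    have h1 : IsLocTors J F.obj (n • t) := by
      apply isLocTors_of_exact π w hex
      rw [map_nsmul, ht', ← map_nsmul, hq', map_zero]
    have h2 : IsLocTors J F.obj t := isLocTors_of_nsmul hn h1
    have h3 : (π.hom.app (op V)).hom t = 0 := by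
      have h4 := congrArg (fun f => (f.hom.app (op V)).hom (⟨t, h2⟩ : (T₀ J F).obj.obj (op V))) w
      exact h4
    change (Q.obj.map g.op).hom q = (Q.obj.map g.op).hom 0
    rw [← ht', h3, map_zero]
  exact Sheaf.Hom.mono_of_presheaf_mono _ _ _

lemma freeAbelianGroup_nsmul_injective (X : Type u) (n : ℕ) (hn : 0 < n) :
    Function.Injective (fun x : FreeAbelianGroup X => n • x) := by
  intro x y hxy
  apply (FreeAbelianGroup.equivFinsupp X).injective
  have h1 : n • (FreeAbelianGroup.equivFinsupp X) x = n • (FreeAbelianGroup.equivFinsupp X) y := by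
    rw [← map_nsmul, ← map_nsmul]
    exact congrArg _ hxy
  ext a
  have h2 := DFunLike.congr_fun h1 a
  simp only [Finsupp.coe_smul, Pi.smul_apply, nsmul_eq_mul] at h2
  have hn' : ((n : ℕ) : ℤ) ≠ 0 := by exact_mod_cast hn.ne'
  exact mul_left_cancel₀ hn' h2

/-- multiplication by `n > 0` is a monomorphism on the free sheaf `ℤ_U` -/
lemma mono_nsmul_freeSheaf (U : C) (n : ℕ) (hn : 0 < n) :
    Mono (n • 𝟙 (CohCx.freeSheaf J U)) := by
  let P : Cᵒᵖ ⥤ AddCommGrpCat.{u} := yoneda.obj U ⋙ AddCommGrpCat.free.{u}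
  have h1 : Mono (n • 𝟙 P) := by
    apply (config := { allowSynthFailures := true }) NatTrans.mono_of_mono_app
    intro V
    rw [AddCommGrpCat.mono_iff_injective]
    intro x y hxy
    apply freeAbelianGroup_nsmul_injective _ n hn
    have h2 : ∀ z : P.obj V, ((n • 𝟙 P : P ⟶ P).app V).hom z = n • z := by
      intro z
      rw [NatTrans.app_nsmul]
      simp
    rw [h2, h2] at hxy
    exact hxy
  have h3 : n • 𝟙 (CohCx.freeSheaf J U) = (presheafToSheaf J AddCommGrpCat.{u}).map (n • 𝟙 P) := by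
    rw [Functor.map_nsmul, CategoryTheory.Functor.map_id]
  rw [h3]
  infer_instance

/-- injective abelian sheaves are divisible -/
lemma exists_nsmul_eq_of_injective (F : Sheaf J AddCommGrpCat.{u}) [Injective F] (n : ℕ) (hn : 0 < n)
    {U : C} (s : F.obj.obj (op U)) : ∃ t : F.obj.obj (op U), n • t = s := by
  haveI := mono_nsmul_freeSheaf (J := J) U n hn
  let φ := CohFree.ofSect J U F s
  let ψ := Injective.factorThru φ (n • 𝟙 (CohCx.freeSheaf J U))
  have h1 : (n • 𝟙 (CohCx.freeSheaf J U)) ≫ ψ = φ := Injective.comp_factorThru _ _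
  refine ⟨CohFree.evalGen J U F ψ, ?_⟩
  rw [← map_nsmul]
  have h2 : n • ψ = φ := by
    rw [← h1, Preadditive.nsmul_comp, Category.id_comp]
  rw [h2]
  exact CohFree.evalGen_ofSect J U F s

lemma epi_nsmul_of_injective (F : Sheaf J AddCommGrpCat.{u}) [Injective F] (n : ℕ) (hn : 0 < n) :
    Epi (n • 𝟙 F) := by
  have : Epi (n • 𝟙 F).hom := by
    apply (config := { allowSynthFailures := true }) NatTrans.epi_of_epi_app
    intro U
    rw [AddCommGrpCat.epi_iff_surjective]
    intro s
    obtain ⟨t, ht⟩ := exists_nsmul_eq_of_injective F n hn (U := U.unop) s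
    refine ⟨t, ?_⟩
    rw [nsmul_app_apply]
    exact ht
  exact Sheaf.Hom.epi_of_presheaf_epi _ _ _

/-- the quotient of an injective sheaf by its torsion subsheaf is uniquely divisible -/
lemma isIso_nsmul_of_exact {F Q : Sheaf J AddCommGrpCat.{u}} [Injective F] (π : F ⟶ Q) [Epi π]
    (w : incl J F ≫ π = 0) (hex : (ShortComplex.mk (incl J F) π w).Exact) (n : ℕ) (hn : 0 < n) :
    IsIso (n • 𝟙 Q) := by
  haveI := mono_nsmul_of_exact π w hex n hn
  haveI : Epi (n • 𝟙 Q) := by
    haveI := epi_nsmul_of_injective F n hn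
    have h1 : (n • 𝟙 F) ≫ π = π ≫ (n • 𝟙 Q) := by
      rw [Preadditive.nsmul_comp, Preadditive.comp_nsmul, Category.id_comp, Category.comp_id]
    haveI : Epi (π ≫ (n • 𝟙 Q)) := by
      rw [← h1]
      infer_instance
    exact epi_of_epi π _
  exact isIso_of_mono_of_epi _

/-- a torsion sheaf on which all positive integers act injectively vanishes -/
lemma isZero_of_torsion_of_mono (Z : Sheaf J AddCommGrpCat.{u}) (hZ : SiteCmp.IsTorsionSh J Z)
    (h : ∀ n : ℕ, 0 < n → Mono (n • 𝟙 Z)) : IsZero Z := by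
  have hs : ∀ (U : C) (s : Z.obj.obj (op U)), s = 0 := by
    intro U s
    obtain ⟨S, hS, hS'⟩ := hZ U s
    apply Sheaf.isSeparated Z U _ hS
    intro V g hg
    have h1 := hS' g hg
    rw [isOfFinAddOrder_iff_nsmul_eq_zero] at h1
    obtain ⟨n, hn, h2⟩ := h1
    haveI := h n hn
    have h3 : Mono (n • 𝟙 Z).hom := inferInstance
    have h4 : Mono ((n • 𝟙 Z).hom.app (op V)) := inferInstance
    rw [AddCommGrpCat.mono_iff_injective] at h4
    change (Z.obj.map g.op).hom s = (Z.obj.map g.op).hom 0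
    rw [map_zero]
    apply h4
    rw [map_zero, nsmul_app_apply]
    exact h2
  rw [IsZero.iff_id_eq_zero]
  apply Sheaf.hom_ext
  ext U x
  exact (hs U.unop x).trans (hs U.unop _).symm

end Groth.Agent.Lib.Helper8.TorsCore
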