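import Mathlib
import Groth.Prelude.Def_SiteCmp
import Groth.Prelude.Def_WeakSerre
import Groth.Agent.Lib.Helper8.TorsCore
import Groth.Agent.Lib.Helper8.HomologyNatIso
import Groth.Agent.Lib.Helper6.DerivedAdj
import Groth.Agent.Lib.Helper26.KInjStab

/-!
# Helper8 — for a complex `I` of injective abelian sheaves with torsion cohomology sheaves, the
inclusion of the termwise torsion subcomplex is a quasi-isomorphism
-/

set_option autoImplicit false

universe u

open CategoryTheory CategoryTheory.Limits Opposite

namespace Groth.Agent.Lib.Helper8.TorsQis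

open Groth.Agent.Lib.Helper8.TorsT Groth.Agent.Lib.Helper8.TorsCore Groth.Agent.Lib.Helper6.DerivedAdj

variable {C : Type u} [SmallCategory C] (J : GrothendieckTopology C)
  [(SiteCmp.torsionSh J).IsSerreClass]

instance additive_T : (T J).Additive := (adj J).right_adjoint_additive

/-- the termwise inclusion of the torsion subcomplex -/
noncomputable abbrev ε (I : CochainComplex (Sheaf J AddCommGrpCat.{u}) ℤ) :=
  (counitCx (adj J) (ComplexShape.up ℤ)).app I

lemma ε_f (I : CochainComplex (Sheaf J AddCommGrpCat.{u}) ℤ) (j : ℤ) :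
    (ε J I).f j = incl J (I.X j) := by
  change (adj J).counit.app (I.X j) = _
  exact adj_counit_app J _

instance mono_ε (I : CochainComplex (Sheaf J AddCommGrpCat.{u}) ℤ) : Mono (ε J I) := by
  apply (config := { allowSynthFailures := true }) HomologicalComplex.mono_of_mono_f
  intro j
  rw [ε_f]
  exact mono_incl (I.X j)

/-- cohomology of complexes of torsion sheaves is torsion -/
lemma torsion_homology_ι (X : CochainComplex (A J) ℤ) (q : ℤ) :
    SiteCmp.torsionSh J
      ((((SiteCmp.torsionSh J).ι.mapHomologicalComplex (ComplexShape.up ℤ)).obj X).homology q) :=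
  (SiteCmp.torsionSh J).prop_of_iso
    ((HomologyNatIso.cxIso (SiteCmp.torsionSh J).ι q).app X).symm (X.homology q).property

theorem quasiIso_ε (I : CochainComplex (Sheaf J AddCommGrpCat.{u}) ℤ)
    (hinj : ∀ j, Injective (I.X j)) (htors : ∀ q, SiteCmp.torsionSh J (I.homology q)) :
    QuasiIso (ε J I) := by
  apply Groth.Agent.Lib.Helper26.KInjStab.quasiIso_of_mono_of_acyclic_cokernel
  intro q
  rw [HomologicalComplex.exactAt_iff_isZero_homology]
  let S := ShortComplex.mk (ε J I) (cokernel.π (ε J I)) (cokernel.condition (ε J I))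
  have hS : S.ShortExact := { exact := ShortComplex.exact_cokernel (ε J I) }
  have hterm : ∀ (j : ℤ) (n : ℕ), 0 < n → IsIso (n • 𝟙 ((cokernel (ε J I)).X j)) := by
    intro j n hn
    have hj := hS.map_of_exact (HomologicalComplex.eval _ _ j)
    haveI : Epi ((cokernel.π (ε J I)).f j) := hj.epi_g
    haveI := hinj j
    have w : incl J (I.X j) ≫ (cokernel.π (ε J I)).f j = 0 := by
      rw [← ε_f]
      exact (S.map (HomologicalComplex.eval _ _ j)).zero
    have hex : (ShortComplex.mk (incl J (I.X j)) ((cokernel.π (ε J I)).f j) w).Exact := by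
      have h1 := hj.exact
      have h2 : ShortComplex.mk (incl J (I.X j)) ((cokernel.π (ε J I)).f j) w =
          S.map (HomologicalComplex.eval _ _ j) := by
        simp only [ShortComplex.map, S]
        congr 1
      rw [h2]
      exact h1
    exact isIso_nsmul_of_exact (F := I.X j) ((cokernel.π (ε J I)).f j) w hex n hn
  have hH : ∀ n : ℕ, 0 < n → IsIso (n • 𝟙 ((cokernel (ε J I)).homology q)) := by
    intro n hn
    haveI : IsIso (n • 𝟙 (cokernel (ε J I))) := by
      apply (config := { allowSynthFailures := true }) HomologicalComplex.Hom.isIso_of_components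
      intro j
      rw [HomologicalComplex.nsmul_f_apply, HomologicalComplex.id_f]
      exact hterm j n hn
    have h1 : n • 𝟙 ((cokernel (ε J I)).homology q) =
        (HomologicalComplex.homologyFunctor _ _ q).map (n • 𝟙 (cokernel (ε J I))) := by
      rw [Functor.map_nsmul, CategoryTheory.Functor.map_id]
      rfl
    rw [h1]
    exact Functor.map_isIso _ _
  have hT : SiteCmp.torsionSh J ((cokernel (ε J I)).homology q) := by
    have hex3 := hS.homology_exact₃ q (q + 1) (by simp)
    exact (SiteCmp.torsionSh J).prop_X₂_of_exact hex3 (htors q)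
      (torsion_homology_ι J (((T J).mapHomologicalComplex (ComplexShape.up ℤ)).obj I) (q + 1))
  exact isZero_of_torsion_of_mono _ hT (fun n hn => by
    haveI := hH n hn
    infer_instance)

/-- the counit is an isomorphism on complexes of torsion sheaves -/
instance isIso_ε_ι (X : CochainComplex (A J) ℤ) :
    IsIso (ε J (((SiteCmp.torsionSh J).ι.mapHomologicalComplex (ComplexShape.up ℤ)).obj X)) := by
  apply (config := { allowSynthFailures := true }) HomologicalComplex.Hom.isIso_of_components
  intro j
  change IsIso ((adj J).counit.app ((SiteCmp.torsionSh J).ι.obj (X.X j)))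
  have h1 := (adj J).left_triangle_components (X.X j)
  haveI : IsIso ((SiteCmp.torsionSh J).ι.map ((adj J).unit.app (X.X j)) ≫
      (adj J).counit.app ((SiteCmp.torsionSh J).ι.obj (X.X j))) := by
    rw [h1]
    exact IsIso.id _
  exact IsIso.of_isIso_comp_left ((SiteCmp.torsionSh J).ι.map ((adj J).unit.app (X.X j))) _

/-- applying `T` to a resolution of a complex of torsion sheaves by injective sheaves gives a
quasi-isomorphism -/
theorem quasiIso_T_map (X : CochainComplex (A J) ℤ)
    (I : CochainComplex (Sheaf J AddCommGrpCat.{u}) ℤ)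
    (r : ((SiteCmp.torsionSh J).ι.mapHomologicalComplex (ComplexShape.up ℤ)).obj X ⟶ I)
    (hinj : ∀ j, Injective (I.X j)) (hr : QuasiIso r) :
    QuasiIso (((T J).mapHomologicalComplex (ComplexShape.up ℤ)).map r) := by
  haveI := hr
  have htors : ∀ q, SiteCmp.torsionSh J (I.homology q) := fun q => by
    haveI : IsIso (HomologicalComplex.homologyMap r q) :=
      (quasiIsoAt_iff_isIso_homologyMap r q).1 (hr.quasiIsoAt q)
    exact (SiteCmp.torsionSh J).prop_of_iso (asIso (HomologicalComplex.homologyMap r q))
      (torsion_homology_ι J X q)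
  haveI := quasiIso_ε J I hinj htors
  have nat := (counitCx (adj J) (ComplexShape.up ℤ)).naturality r
  rw [← HomologicalComplex.quasiIso_map_iff_of_preservesHomology _ (SiteCmp.torsionSh J).ι]
  haveI : QuasiIso (((SiteCmp.torsionSh J).ι.mapHomologicalComplex (ComplexShape.up ℤ)).map
      (((T J).mapHomologicalComplex (ComplexShape.up ℤ)).map r) ≫ ε J I) := by
    have : ((SiteCmp.torsionSh J).ι.mapHomologicalComplex (ComplexShape.up ℤ)).map
        (((T J).mapHomologicalComplex (ComplexShape.up ℤ)).map r) ≫ ε J I =
        ε J (((SiteCmp.torsionSh J).ι.mapHomologicalComplex (ComplexShape.up ℤ)).obj X) ≫ r := nat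
    rw [this]
    infer_instance
  exact quasiIso_of_comp_right _ (ε J I)

end Groth.Agent.Lib.Helper8.TorsQis
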