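import Mathlib
import Groth.Prelude.Def_SiteCmp
import Groth.Prelude.Def_WeakSerre
import Groth.Agent.Lib.Helper8.TorsQis
import Groth.Agent.Lib.Helper8.FFDerived
import Groth.Agent.Lib.Helper26.KInjMain

/-!
# Helper8 — `D(torsion sheaves) ⥤ D(Ab(C))` is fully faithful with essential image the complexes
with torsion cohomology sheaves (S9063)
-/

set_option autoImplicit false

universe w w' u

open CategoryTheory CategoryTheory.Limits Opposite

namespace Groth.Agent.Lib.Helper8.TorsMain

open Groth.Agent.Lib.Helper8.TorsT Groth.Agent.Lib.Helper8.TorsQis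

variable {C : Type u} [SmallCategory C] (J : GrothendieckTopology C)
  [(SiteCmp.torsionSh J).IsSerreClass]
  [HasDerivedCategory.{w} (A J)] [HasDerivedCategory.{w'} (Sheaf J AddCommGrpCat.{u})]

theorem fullyFaithful : Nonempty (SiteCmp.torsionSh J).ι.mapDerivedCategory.FullyFaithful := by
  apply FFDerived.fullyFaithful (SiteCmp.torsionSh J).ι (T J) (adj J)
  intro X
  obtain ⟨I, r, hI, hr, -, hinj⟩ := Groth.Agent.Lib.Helper26.KInjMain.main
    (((SiteCmp.torsionSh J).ι.mapHomologicalComplex (ComplexShape.up ℤ)).obj X)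
  exact ⟨I, r, hI, hr, quasiIso_T_map J X I r hinj hr⟩

theorem essImage_iff (K : DerivedCategory (Sheaf J AddCommGrpCat.{u})) :
    WSerre.cohIn (SiteCmp.torsionSh J) K ↔
      (SiteCmp.torsionSh J).ι.mapDerivedCategory.essImage K := by
  constructor
  · intro hK
    let M := DerivedCategory.Q.objPreimage K
    let eM : DerivedCategory.Q.obj M ≅ K := DerivedCategory.Q.objObjPreimageIso K
    obtain ⟨I, r, -, hr, -, hinj⟩ := Groth.Agent.Lib.Helper26.KInjMain.main M
    haveI := hr
    have htors : ∀ q, SiteCmp.torsionSh J (I.homology q) := by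
      intro q
      have hiso : IsIso (HomologicalComplex.homologyMap r q) :=
        (quasiIsoAt_iff_isIso_homologyMap r q).1 (hr.quasiIsoAt q)
      have e1 : (DerivedCategory.homologyFunctor (Sheaf J AddCommGrpCat.{u}) q).obj K ≅
          I.homology q :=
        (DerivedCategory.homologyFunctor _ q).mapIso eM.symm ≪≫
          (DerivedCategory.homologyFunctorFactors _ q).app M ≪≫
          @asIso _ _ _ _ (HomologicalComplex.homologyMap r q) hiso
      exact (SiteCmp.torsionSh J).prop_of_iso e1 (hK q)
    have hε := quasiIso_ε J I hinj htors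
    haveI : IsIso (DerivedCategory.Q.map (ε J I)) := by
      rw [DerivedCategory.isIso_Q_map_iff_quasiIso]
      exact hε
    haveI : IsIso (DerivedCategory.Q.map r) := by
      rw [DerivedCategory.isIso_Q_map_iff_quasiIso]
      exact hr
    exact ⟨DerivedCategory.Q.obj (((T J).mapHomologicalComplex (ComplexShape.up ℤ)).obj I),
      ⟨(SiteCmp.torsionSh J).ι.mapDerivedCategoryFactors.app _ ≪≫
        asIso (DerivedCategory.Q.map (ε J I)) ≪≫ (asIso (DerivedCategory.Q.map r)).symm ≪≫ eM⟩⟩
  · rintro ⟨Y, ⟨e⟩⟩ q
    have e1 : (SiteCmp.torsionSh J).ι.obj ((DerivedCategory.homologyFunctor (A J) q).obj Y) ≅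
        (DerivedCategory.homologyFunctor (Sheaf J AddCommGrpCat.{u}) q).obj K :=
      ((HomologyNatIso.iso (SiteCmp.torsionSh J).ι q).app Y).symm ≪≫
        (DerivedCategory.homologyFunctor _ q).mapIso e
    exact (SiteCmp.torsionSh J).prop_of_iso e1
      ((DerivedCategory.homologyFunctor (A J) q).obj Y).property

end Groth.Agent.Lib.Helper8.TorsMain
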