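import Mathlib

/-!
# Helper8: resolutions of complexes with cohomology in a thick subcategory, oracle version

`ι : A' ⥤ A` exact fully faithful, essential image closed under extensions, every object of `A'`
embeds into an object of `A'` whose image in `A` is injective.  Given an `ℕ`-indexed cochain
complex `L` in `A` whose cohomology lies in the essential image, we construct a complex `Ic` in
`A'` with `ι`-injective terms and a quasi-isomorphism `L ⟶ ι Ic`.
-/

namespace Groth.Agent.Lib.Helper8.Tower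

open CategoryTheory Limits

universe v' v u' u

set_option linter.unusedSectionVars false

variable {A' : Type u'} [Category.{v'} A'] [Abelian A']
    {A : Type u} [Category.{v} A] [Abelian A]
    {ι : A' ⥤ A} [ι.Additive] [PreservesFiniteLimits ι] [PreservesFiniteColimits ι]
    [ι.Full] [ι.Faithful]

section EssImage

/-- the cokernel of a morphism between objects of the essential image is in the essential image -/
lemma essImage_cokernel {X Y : A} (f : X ⟶ Y) (hX : ι.essImage X) (hY : ι.essImage Y) :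
    ι.essImage (cokernel f) := by
  obtain ⟨f₀, hf₀⟩ : ∃ f₀ : hX.witness ⟶ hY.witness,
      ι.map f₀ = hX.getIso.hom ≫ f ≫ hY.getIso.inv := ⟨ι.preimage _, ι.map_preimage _⟩
  have e1 : cokernel (ι.map f₀) ≅ cokernel f :=
    cokernel.mapIso (ι.map f₀) f hX.getIso hY.getIso (by
      rw [hf₀, Category.assoc, Category.assoc, Iso.inv_hom_id, Category.comp_id])
  exact ⟨cokernel f₀, ⟨PreservesCokernel.iso ι f₀ ≪≫ e1⟩⟩

end EssImage

section Tower

variable (L : CochainComplex A ℕ)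

/-- explicit cokernel of the differential -/
noncomputable abbrev Qc (n : ℕ) : A := cokernel (L.d n (n + 1))

/-- the induced map from the cokernel -/
noncomputable abbrev fromQ (n : ℕ) : Qc L n ⟶ L.X (n + 1 + 1) :=
  cokernel.desc (L.d n (n + 1)) (L.d (n + 1) (n + 1 + 1)) (L.d_comp_d _ _ _)

/-- explicit cohomology in degree `n + 1` -/
noncomputable abbrev Hc (n : ℕ) : A := kernel (fromQ L n)

variable (ι) in
/-- the data at stage `n` of the construction -/
structure Stage (n : ℕ) where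
  /-- the previous injective object -/
  Q' : A'
  /-- the current pushout object -/
  P : A
  /-- the map from the previous injective -/
  δ : ι.obj Q' ⟶ P
  /-- the map from the complex -/
  j : L.X n ⟶ P
  /-- the map to the next term of the complex -/
  e : P ⟶ L.X (n + 1)
  /-- the previous index -/
  pm : ℕ
  j_e : j ≫ e = L.d n (n + 1)
  δ_e : δ ≫ e = 0
  e_d : e ≫ L.d (n + 1) (n + 1 + 1) = 0
  cover : ∀ ⦃T : A⦄ (z : T ⟶ P), ∃ (T' : A) (π : T' ⟶ T) (_ : Epi π) (y' : T' ⟶ ι.obj Q')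
    (x' : T' ⟶ L.X n), π ≫ z = y' ≫ δ + x' ≫ j
  lift : ∀ ⦃T : A⦄ (y : T ⟶ ι.obj Q') (x : T ⟶ L.X n), y ≫ δ = x ≫ j →
    ∃ (T' : A) (π : T' ⟶ T) (_ : Epi π) (x' : T' ⟶ L.X pm), π ≫ x = x' ≫ L.d pm n
  /-- the current hull object -/
  I' : A'
  /-- the extension to the pushout object -/
  u : P ⟶ ι.obj I'
  hm : Mono (kernel.ι e ≫ u)
  hE : ι.essImage (kernel e)

variable {L}

/-- the embedding of the kernel -/
noncomputable def Stage.m {n : ℕ} (s : Stage ι L n) : kernel s.e ⟶ ι.obj s.I' := kernel.ι s.e ≫ s.u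

instance {n : ℕ} (s : Stage ι L n) : Mono s.m := s.hm

lemma Stage.hcm {n : ℕ} (s : Stage ι L n) : ι.essImage (cokernel s.m) :=
  essImage_cokernel _ s.hE (ι.obj_mem_essImage _)

section Next

variable {n : ℕ} (s : Stage ι L n)

/-- the extension to the pushout object -/
noncomputable def u : s.P ⟶ ι.obj s.I' := s.u

lemma κ_u : kernel.ι s.e ≫ u s = s.m := rfl

/-- the map defining the next pushout -/
noncomputable def θ : s.P ⟶ ι.obj s.I' ⊞ L.X (n + 1) := biprod.lift (u s) (-s.e)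

lemma θ_fst : θ s ≫ biprod.fst = u s := biprod.lift_fst _ _

lemma θ_snd : θ s ≫ biprod.snd = -s.e := biprod.lift_snd _ _

/-- the next pushout object -/
noncomputable def nP : A := cokernel (θ s)

/-- the projection to the next pushout object -/
noncomputable def nπ : ι.obj s.I' ⊞ L.X (n + 1) ⟶ nP s := cokernel.π (θ s)

instance : Epi (nπ s) := inferInstanceAs (Epi (cokernel.π (θ s)))

/-- the map from the injective to the next pushout object -/
noncomputable def nδ : ι.obj s.I' ⟶ nP s := biprod.inl ≫ nπ s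

/-- the map from the complex to the next pushout object -/
noncomputable def nj : L.X (n + 1) ⟶ nP s := biprod.inr ≫ nπ s

lemma θ_nπ : θ s ≫ nπ s = 0 := cokernel.condition _

lemma sq : u s ≫ nδ s = s.e ≫ nj s := by
  have h := θ_nπ s
  rw [θ, biprod.lift_eq, Preadditive.add_comp, Category.assoc, Category.assoc,
    Preadditive.neg_comp, ← sub_eq_add_neg, sub_eq_zero] at h
  exact h

/-- the map from the next pushout object to the complex -/
noncomputable def ne : nP s ⟶ L.X (n + 1 + 1) :=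
  cokernel.desc (θ s) (biprod.desc 0 (L.d (n + 1) (n + 1 + 1))) (by
    rw [θ, biprod.lift_desc, comp_zero, zero_add, Preadditive.neg_comp, s.e_d, neg_zero])

lemma nπ_ne : nπ s ≫ ne s = biprod.desc 0 (L.d (n + 1) (n + 1 + 1)) := cokernel.π_desc _ _ _

lemma nj_ne : nj s ≫ ne s = L.d (n + 1) (n + 1 + 1) := by
  rw [nj, Category.assoc, nπ_ne, biprod.inr_desc]

lemma nδ_ne : nδ s ≫ ne s = 0 := by
  rw [nδ, Category.assoc, nπ_ne, biprod.inl_desc]

lemma ne_d : ne s ≫ L.d (n + 1 + 1) (n + 1 + 1 + 1) = 0 := by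
  rw [← cancel_epi (nπ s), ← Category.assoc, nπ_ne, comp_zero]
  ext
  · rw [biprod.inl_desc_assoc, zero_comp, comp_zero]
  · rw [biprod.inr_desc_assoc, L.d_comp_d, comp_zero]

lemma po_lift ⦃T : A⦄ (y : T ⟶ ι.obj s.I') (x : T ⟶ L.X (n + 1)) (h : y ≫ nδ s = x ≫ nj s) :
    ∃ (T' : A) (π : T' ⟶ T) (_ : Epi π) (z : T' ⟶ s.P), π ≫ y = z ≫ u s ∧ π ≫ x = z ≫ s.e := by
  have hS : (ShortComplex.mk (θ s) (nπ s) (θ_nπ s)).Exact := ShortComplex.exact_cokernel (θ s)
  have hw : biprod.lift y (-x) ≫ nπ s = 0 := by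
    rw [biprod.lift_eq, Preadditive.add_comp, Category.assoc, Category.assoc,
      Preadditive.neg_comp, ← sub_eq_add_neg, sub_eq_zero]
    exact h
  obtain ⟨T', π, hπ, z, hz⟩ := hS.exact_up_to_refinements (biprod.lift y (-x)) hw
  dsimp only at z hz
  refine ⟨T', π, hπ, z, ?_, ?_⟩
  · have := congrArg (fun t => t ≫ biprod.fst) hz
    rw [Category.assoc, Category.assoc, biprod.lift_fst, θ_fst] at this
    exact this
  · have := congrArg (fun t => t ≫ biprod.snd) hz
    rw [Category.assoc, Category.assoc, biprod.lift_snd, θ_snd, Preadditive.comp_neg,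
      Preadditive.comp_neg, neg_inj] at this
    exact this

lemma po_cover ⦃T : A⦄ (z : T ⟶ nP s) :
    ∃ (T' : A) (π : T' ⟶ T) (_ : Epi π) (y' : T' ⟶ ι.obj s.I') (x' : T' ⟶ L.X (n + 1)),
      π ≫ z = y' ≫ nδ s + x' ≫ nj s := by
  obtain ⟨T', π, hπ, w, hw⟩ := surjective_up_to_refinements_of_epi (nπ s) z
  refine ⟨T', π, hπ, w ≫ biprod.fst, w ≫ biprod.snd, ?_⟩
  rw [hw, nδ, nj, Category.assoc, Category.assoc, ← Category.assoc biprod.fst,
    ← Category.assoc biprod.snd, ← Preadditive.comp_add, ← Preadditive.add_comp, biprod.total,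
    Category.id_comp]

lemma mono_on_ker ⦃T : A⦄ (w : T ⟶ s.P) (h1 : w ≫ s.e = 0) (h2 : w ≫ u s = 0) : w = 0 := by
  have h3 : kernel.lift s.e w h1 ≫ s.m = 0 := by
    rw [← κ_u, ← Category.assoc, kernel.lift_ι, h2]
  have h4 : kernel.lift s.e w h1 = 0 := by
    rw [← cancel_mono s.m, h3, zero_comp]
  rw [← kernel.lift_ι s.e w h1, h4, zero_comp]

lemma e_p : s.e ≫ cokernel.π (L.d n (n + 1)) = 0 := by
  obtain ⟨T', π, hπ, y', x', h⟩ := s.cover (𝟙 s.P)
  rw [Category.comp_id] at h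
  rw [← cancel_epi π, comp_zero, ← Category.assoc, h, Preadditive.add_comp,
    Preadditive.add_comp, Category.assoc, Category.assoc, Category.assoc, Category.assoc,
    ← Category.assoc s.δ, s.δ_e, zero_comp, comp_zero, zero_add, ← Category.assoc s.j, s.j_e,
    cokernel.condition, comp_zero]

lemma next_lift ⦃T : A⦄ (y : T ⟶ ι.obj s.I') (x : T ⟶ L.X (n + 1)) (h : y ≫ nδ s = x ≫ nj s) :
    ∃ (T' : A) (π : T' ⟶ T) (_ : Epi π) (x' : T' ⟶ L.X n), π ≫ x = x' ≫ L.d n (n + 1) := by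
  obtain ⟨T₁, π₁, hπ₁, z, -, hz⟩ := po_lift s y x h
  obtain ⟨T₂, π₂, hπ₂, y', x', h'⟩ := s.cover z
  refine ⟨T₂, π₂ ≫ π₁, inferInstance, x', ?_⟩
  rw [Category.assoc, hz, ← Category.assoc, h', Preadditive.add_comp, Category.assoc,
    Category.assoc, s.δ_e, comp_zero, zero_add, s.j_e]

end Next

section Ext

variable {n : ℕ} (s : Stage ι L n)

/-- the map from the next pushout to the explicit cokernel -/
noncomputable def ρ : nP s ⟶ Qc L n :=
  cokernel.desc (θ s) (biprod.desc 0 (cokernel.π (L.d n (n + 1)))) (by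
    rw [θ, biprod.lift_desc, comp_zero, zero_add, Preadditive.neg_comp, e_p, neg_zero])

lemma nπ_ρ : nπ s ≫ ρ s = biprod.desc 0 (cokernel.π (L.d n (n + 1))) := cokernel.π_desc _ _ _

lemma nδ_ρ : nδ s ≫ ρ s = 0 := by
  rw [nδ, Category.assoc, nπ_ρ, biprod.inl_desc]

lemma nj_ρ : nj s ≫ ρ s = cokernel.π (L.d n (n + 1)) := by
  rw [nj, Category.assoc, nπ_ρ, biprod.inr_desc]

lemma ρ_fromQ : ρ s ≫ fromQ L n = ne s := by
  rw [← cancel_epi (nπ s), ← Category.assoc, nπ_ρ, nπ_ne]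
  ext
  · rw [biprod.inl_desc_assoc, zero_comp, biprod.inl_desc]
  · rw [biprod.inr_desc_assoc, cokernel.π_desc, biprod.inr_desc]

/-- the map to the cohomology -/
noncomputable def gE : kernel (ne s) ⟶ Hc L n :=
  kernel.lift (fromQ L n) (kernel.ι (ne s) ≫ ρ s) (by
    rw [Category.assoc, ρ_fromQ, kernel.condition])

lemma gE_ι : gE s ≫ kernel.ι (fromQ L n) = kernel.ι (ne s) ≫ ρ s := kernel.lift_ι _ _ _

lemma m_nδ : s.m ≫ nδ s = 0 := by
  rw [← κ_u, Category.assoc, sq, ← Category.assoc, kernel.condition, zero_comp]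

/-- the map from the cokernel of the embedding -/
noncomputable def fE : cokernel s.m ⟶ kernel (ne s) :=
  cokernel.desc s.m (kernel.lift (ne s) (nδ s) (nδ_ne s)) (by
    rw [← cancel_mono (kernel.ι (ne s)), Category.assoc, kernel.lift_ι, zero_comp, m_nδ])

lemma π_fE_ι : cokernel.π s.m ≫ fE s ≫ kernel.ι (ne s) = nδ s := by
  rw [fE, ← Category.assoc, cokernel.π_desc, kernel.lift_ι]

lemma fE_gE : fE s ≫ gE s = 0 := by
  rw [← cancel_epi (cokernel.π s.m), ← cancel_mono (kernel.ι (fromQ L n)), comp_zero, zero_comp,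
    Category.assoc, Category.assoc, gE_ι, ← Category.assoc (fE s), ← Category.assoc, π_fE_ι,
    nδ_ρ]

lemma mono_fE : Mono (fE s) := by
  refine Preadditive.mono_of_cancel_zero _ (fun {T} a ha => ?_)
  obtain ⟨T₁, π₁, hπ₁, a', ha'⟩ := surjective_up_to_refinements_of_epi (cokernel.π s.m) a
  have h1 : a' ≫ nδ s = (0 : T₁ ⟶ L.X (n + 1)) ≫ nj s := by
    rw [zero_comp, ← π_fE_ι, ← Category.assoc, ← ha', Category.assoc, ← Category.assoc a, ha,
      zero_comp, comp_zero]
  obtain ⟨T₂, π₂, hπ₂, z, hz1, hz2⟩ := po_lift s a' 0 h1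
  rw [comp_zero] at hz2
  have h2 : π₂ ≫ a' = kernel.lift s.e z hz2.symm ≫ s.m := by
    rw [hz1, ← κ_u, ← Category.assoc, kernel.lift_ι]
  have h3 : (π₂ ≫ π₁) ≫ a = 0 := by
    rw [Category.assoc, ha', ← Category.assoc, h2, Category.assoc, cokernel.condition, comp_zero]
  rw [← cancel_epi (π₂ ≫ π₁), h3, comp_zero]

lemma epi_gE : Epi (gE s) := by
  rw [epi_iff_surjective_up_to_refinements]
  intro T h
  obtain ⟨T₁, π₁, hπ₁, x, hx⟩ := surjective_up_to_refinements_of_epi
    (cokernel.π (L.d n (n + 1))) (h ≫ kernel.ι (fromQ L n))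
  have hxd : x ≫ L.d (n + 1) (n + 1 + 1) = 0 := by
    have : x ≫ cokernel.π (L.d n (n + 1)) ≫ fromQ L n = 0 := by
      rw [← Category.assoc, ← hx, Category.assoc, Category.assoc, kernel.condition, comp_zero,
        comp_zero]
    rw [cokernel.π_desc] at this
    exact this
  have hw : (x ≫ nj s) ≫ ne s = 0 := by rw [Category.assoc, nj_ne, hxd]
  refine ⟨T₁, π₁, hπ₁, kernel.lift (ne s) (x ≫ nj s) hw, ?_⟩
  rw [← cancel_mono (kernel.ι (fromQ L n)), Category.assoc, Category.assoc, gE_ι,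
    ← Category.assoc (kernel.lift _ _ _), kernel.lift_ι, Category.assoc, nj_ρ, hx]

lemma exact_fE_gE : (ShortComplex.mk (fE s) (gE s) (fE_gE s)).Exact := by
  rw [ShortComplex.exact_iff_exact_up_to_refinements]
  intro T b hb
  dsimp only at b hb
  obtain ⟨T₁, π₁, hπ₁, y, x, hyx⟩ := po_cover s (b ≫ kernel.ι (ne s))
  have hxp : x ≫ cokernel.π (L.d n (n + 1)) = 0 := by
    have h0 : π₁ ≫ (b ≫ gE s) ≫ kernel.ι (fromQ L n) = 0 := by rw [hb, zero_comp, comp_zero]
    rw [Category.assoc, gE_ι, ← Category.assoc b, ← Category.assoc, hyx, Preadditive.add_comp,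
      Category.assoc, Category.assoc, nδ_ρ, comp_zero, zero_add, nj_ρ] at h0
    exact h0
  have hS : (ShortComplex.mk (L.d n (n + 1)) (cokernel.π (L.d n (n + 1)))
      (cokernel.condition _)).Exact := ShortComplex.exact_cokernel _
  obtain ⟨T₂, π₂, hπ₂, x'', hx''⟩ := hS.exact_up_to_refinements x hxp
  dsimp only at x'' hx''
  have hx3 : π₂ ≫ x ≫ nj s = (x'' ≫ s.j ≫ u s) ≫ nδ s := by
    rw [← Category.assoc, hx'', Category.assoc, Category.assoc, Category.assoc, sq,
      ← Category.assoc s.j, s.j_e]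
  refine ⟨T₂, π₂ ≫ π₁, inferInstance, (π₂ ≫ y + x'' ≫ s.j ≫ u s) ≫ cokernel.π s.m, ?_⟩
  dsimp only
  rw [← cancel_mono (kernel.ι (ne s)), Category.assoc, Category.assoc, Category.assoc, hyx,
    Category.assoc, π_fE_ι, Preadditive.comp_add, Preadditive.add_comp, Category.assoc, hx3]

include s in
lemma essImage_kernel_ne
    (hext : ∀ S : ShortComplex A, S.ShortExact → ι.essImage S.X₁ → ι.essImage S.X₃ →
      ι.essImage S.X₂)
    (hH : ι.essImage (Hc L n)) : ι.essImage (kernel (ne s)) :=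
  hext (ShortComplex.mk (fE s) (gE s) (fE_gE s))
    (ShortComplex.ShortExact.mk' (exact_fE_gE s) (mono_fE s) (epi_gE s)) s.hcm hH

end Ext

section Build

variable
  (hext : ∀ S : ShortComplex A, S.ShortExact → ι.essImage S.X₁ → ι.essImage S.X₃ →
    ι.essImage S.X₂)
  (orc : ∀ (P₀ X₀ : A) (e : P₀ ⟶ X₀), ι.essImage (kernel e) →
    ∃ (I' : A') (u : P₀ ⟶ ι.obj I'), Mono (kernel.ι e ≫ u))

variable (L) in
open ZeroObject in
/-- the initial stage -/
noncomputable def init (h0 : ι.essImage (kernel (L.d 0 1))) : Stage ι L 0 where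
  Q' := 0
  P := L.X 0
  δ := 0
  j := 𝟙 _
  e := L.d 0 1
  pm := 0
  j_e := Category.id_comp _
  δ_e := zero_comp
  e_d := L.d_comp_d 0 1 2
  cover := fun T z => ⟨T, 𝟙 T, inferInstance, 0, z, by
    rw [zero_comp, zero_add, Category.comp_id, Category.id_comp]⟩
  lift := fun T y x h => ⟨T, 𝟙 T, inferInstance, 0, by
    rw [comp_zero, Category.comp_id] at h
    rw [← h, comp_zero, zero_comp]⟩
  I' := (orc _ _ (L.d 0 1) h0).choose
  u := (orc _ _ (L.d 0 1) h0).choose_spec.choose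
  hm := (orc _ _ (L.d 0 1) h0).choose_spec.choose_spec
  hE := h0

/-- the next stage -/
noncomputable def next {n : ℕ} (s : Stage ι L n) (hH : ι.essImage (Hc L n)) :
    Stage ι L (n + 1) where
  Q' := s.I'
  P := nP s
  δ := nδ s
  j := nj s
  e := ne s
  pm := n
  j_e := nj_ne s
  δ_e := nδ_ne s
  e_d := ne_d s
  cover := po_cover s
  lift := next_lift s
  I' := (orc _ _ (ne s) (essImage_kernel_ne s hext hH)).choose
  u := (orc _ _ (ne s) (essImage_kernel_ne s hext hH)).choose_spec.choose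
  hm := (orc _ _ (ne s) (essImage_kernel_ne s hext hH)).choose_spec.choose_spec
  hE := essImage_kernel_ne s hext hH

section Acyc

variable {n : ℕ} (s : Stage ι L n)

lemma mono_aux ⦃T : A⦄ (x₂ : T ⟶ L.X n) (y₁ : T ⟶ ι.obj s.Q')
    (h1 : x₂ ≫ L.d n (n + 1) = 0) (h2 : x₂ ≫ s.j ≫ u s = y₁ ≫ s.δ ≫ u s) :
    ∃ (T' : A) (π : T' ⟶ T) (_ : Epi π) (x' : T' ⟶ L.X s.pm), π ≫ x₂ = x' ≫ L.d s.pm n := by
  have hw : x₂ ≫ s.j - y₁ ≫ s.δ = 0 := by
    apply mono_on_ker s
    · rw [Preadditive.sub_comp, Category.assoc, Category.assoc, s.j_e, s.δ_e, comp_zero, h1,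
        sub_zero]
    · rw [Preadditive.sub_comp, Category.assoc, Category.assoc, h2, sub_self]
  rw [sub_eq_zero] at hw
  exact s.lift y₁ x₂ hw.symm

lemma epi_aux (hH : ι.essImage (Hc L n)) ⦃T : A⦄ (y₂ : T ⟶ ι.obj s.I')
    (h : y₂ ≫ nδ s ≫ u (next hext orc s hH) = 0) :
    ∃ (T' : A) (π : T' ⟶ T) (_ : Epi π) (x₂ : T' ⟶ L.X n) (_ : x₂ ≫ L.d n (n + 1) = 0)
      (y₁ : T' ⟶ ι.obj s.Q'), π ≫ y₂ = x₂ ≫ s.j ≫ u s + y₁ ≫ s.δ ≫ u s := by
  have hw : y₂ ≫ nδ s = 0 := by
    apply mono_on_ker (next hext orc s hH)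
    · have h0 : y₂ ≫ nδ s ≫ ne s = 0 := by rw [nδ_ne, comp_zero]
      exact (Category.assoc _ _ _).trans h0
    · exact (Category.assoc _ _ _).trans h
  have h1 : y₂ ≫ nδ s = (0 : T ⟶ L.X (n + 1)) ≫ nj s := by rw [hw, zero_comp]
  obtain ⟨T₁, π₁, hπ₁, z, hz1, hz2⟩ := po_lift s y₂ 0 h1
  rw [comp_zero] at hz2
  obtain ⟨T₂, π₂, hπ₂, y', x', h'⟩ := s.cover z
  refine ⟨T₂, π₂ ≫ π₁, inferInstance, x', ?_, y', ?_⟩
  · have : (π₂ ≫ z) ≫ s.e = 0 := by rw [Category.assoc, ← hz2, comp_zero]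
    rw [h', Preadditive.add_comp, Category.assoc, Category.assoc, s.δ_e, comp_zero, zero_add,
      s.j_e] at this
    exact this
  · rw [Category.assoc, hz1, ← Category.assoc, h', Preadditive.add_comp, Category.assoc,
      Category.assoc, add_comm]

end Acyc

section Diff

variable {n : ℕ} (s : Stage ι L n) (hH : ι.essImage (Hc L n))

/-- the extension map of the next stage, with source written as `nP s` -/
noncomputable def nu : nP s ⟶ ι.obj (next hext orc s hH).I' := u (next hext orc s hH)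

/-- the differential out of the injective at stage `s` -/
noncomputable def d' : ι.obj s.I' ⟶ ι.obj (next hext orc s hH).I' :=
  nδ s ≫ nu hext orc s hH

/-- the comparison map at stage `s` -/
noncomputable def φs : L.X n ⟶ ι.obj s.I' := s.j ≫ u s

lemma φs_next : φs (next hext orc s hH) = nj s ≫ nu hext orc s hH := rfl

lemma comp_u_d' {X : A} (a : X ⟶ s.P) (ha : a ≫ s.e = 0) :
    (a ≫ u s) ≫ d' hext orc s hH = 0 := by
  unfold d'
  rw [Category.assoc, ← Category.assoc (u s), sq, Category.assoc, ← Category.assoc a, ha,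
    zero_comp]

lemma φs_d' : φs s ≫ d' hext orc s hH = L.d n (n + 1) ≫ φs (next hext orc s hH) := by
  rw [φs_next]
  unfold φs d'
  rw [Category.assoc, ← Category.assoc (u s), sq, Category.assoc, ← Category.assoc s.j, s.j_e]

lemma d'_d' (hH' : ι.essImage (Hc L (n + 1))) :
    d' hext orc s hH ≫ d' hext orc (next hext orc s hH) hH' = 0 :=
  comp_u_d' hext orc (next hext orc s hH) hH' (nδ s) (nδ_ne s)

lemma mono_aux' ⦃T : A⦄ (x₂ : T ⟶ L.X (n + 1)) (y₁ : T ⟶ ι.obj s.I')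
    (h1 : x₂ ≫ L.d (n + 1) (n + 1 + 1) = 0)
    (h2 : x₂ ≫ φs (next hext orc s hH) = y₁ ≫ d' hext orc s hH) :
    ∃ (T' : A) (π : T' ⟶ T) (_ : Epi π) (x' : T' ⟶ L.X n), π ≫ x₂ = x' ≫ L.d n (n + 1) :=
  mono_aux (next hext orc s hH) x₂ y₁ h1 h2

lemma epi_aux' ⦃T : A⦄ (y₂ : T ⟶ ι.obj s.I') (h : y₂ ≫ d' hext orc s hH = 0) :
    ∃ (T' : A) (π : T' ⟶ T) (_ : Epi π) (x₂ : T' ⟶ L.X n) (_ : x₂ ≫ L.d n (n + 1) = 0)
      (y₁ : T' ⟶ ι.obj s.Q'), π ≫ y₂ = x₂ ≫ φs s + y₁ ≫ s.δ ≫ u s :=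
  epi_aux hext orc s hH y₂ h

end Diff

end Build

end Tower

section Complex

variable (ι) in
/-- the input of the construction -/
structure Input where
  /-- the complex to be resolved -/
  L : CochainComplex A ℕ
  hext : ∀ S : ShortComplex A, S.ShortExact → ι.essImage S.X₁ → ι.essImage S.X₃ →
    ι.essImage S.X₂
  orc : ∀ (P₀ X₀ : A) (e : P₀ ⟶ X₀), ι.essImage (kernel e) →
    ∃ (I' : A') (u : P₀ ⟶ ι.obj I'), Mono (kernel.ι e ≫ u)
  h0 : ι.essImage (kernel (L.d 0 1))
  hH : ∀ n, ι.essImage (Hc L n)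

variable (D : Input ι)

/-- the stages -/
noncomputable def stg : (n : ℕ) → Stage ι D.L n
  | 0 => init D.L D.orc D.h0
  | n + 1 => next D.hext D.orc (stg n) (D.hH n)

lemma stg_succ (n : ℕ) : stg D (n + 1) = next D.hext D.orc (stg D n) (D.hH n) := rfl

/-- the terms of the resolution -/
noncomputable def Ix (n : ℕ) : A' := (stg D n).I'

/-- the differential, in `A` -/
noncomputable def dA (n : ℕ) : ι.obj (Ix D n) ⟶ ι.obj (Ix D (n + 1)) :=
  d' D.hext D.orc (stg D n) (D.hH n)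

lemma dA_comp (n : ℕ) : dA D n ≫ dA D (n + 1) = 0 :=
  d'_d' D.hext D.orc (stg D n) (D.hH n) (D.hH (n + 1))

/-- the differential, in `A'` -/
noncomputable def dI (n : ℕ) : Ix D n ⟶ Ix D (n + 1) := ι.preimage (dA D n)

lemma map_dI (n : ℕ) : ι.map (dI D n) = dA D n := ι.map_preimage _

lemma dI_comp (n : ℕ) : dI D n ≫ dI D (n + 1) = 0 := by
  apply ι.map_injective
  rw [ι.map_comp, map_dI, map_dI, dA_comp, ι.map_zero]

/-- the comparison maps -/
noncomputable def φx (n : ℕ) : D.L.X n ⟶ ι.obj (Ix D n) := φs (stg D n)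

lemma φx_dA (n : ℕ) : φx D n ≫ dA D n = D.L.d n (n + 1) ≫ φx D (n + 1) :=
  φs_d' D.hext D.orc (stg D n) (D.hH n)

/-- the resolution, a complex in `A'` -/
noncomputable def Ic : CochainComplex A' ℕ := CochainComplex.of (Ix D) (dI D) (dI_comp D)

lemma Ic_d (n : ℕ) : (Ic D).d n (n + 1) = dI D n := CochainComplex.of_d (Ix D) (dI D) n

lemma Ic_X (n : ℕ) : (Ic D).X n = Ix D n := rfl

/-- the image of the resolution in `A` -/
noncomputable abbrev JC : CochainComplex A ℕ :=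
  (ι.mapHomologicalComplex (ComplexShape.up ℕ)).obj (Ic D)

lemma JC_d (n : ℕ) : (JC D).d n (n + 1) = dA D n := by
  have h1 : (JC D).d n (n + 1) = ι.map ((Ic D).d n (n + 1)) := rfl
  have h2 : ι.map ((Ic D).d n (n + 1)) = ι.map (dI D n) := congrArg (fun t => ι.map t) (Ic_d D n)
  exact h1.trans (h2.trans (map_dI D n))

/-- the resolution map -/
noncomputable def φc : D.L ⟶ JC D where
  f n := φx D n
  comm' := by
    rintro i j (rfl : i + 1 = j)
    rw [JC_d]
    exact φx_dA D i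

lemma φc_f (n : ℕ) : (φc D).f n = φx D n := rfl

open HomologicalComplex in
lemma quasiIsoAt_φc_zero : QuasiIsoAt (φc D) 0 := by
  rw [quasiIsoAt_iff_isIso_homologyMap]
  have hm : Mono (homologyMap (φc D) 0) := by
    rw [mono_homologyMap_iff_up_to_refinements (φc D) 0 0 1 (by simp) (by simp)]
    intro T x₂ hx₂ y₁ hy₁
    have hd : (JC D).d 0 0 = 0 := (JC D).shape _ _ (by simp)
    rw [hd, comp_zero] at hy₁
    have h2 : x₂ ≫ (stg D 0).j ≫ u (stg D 0) =
        (0 : T ⟶ ι.obj (stg D 0).Q') ≫ (stg D 0).δ ≫ u (stg D 0) := by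
      rw [zero_comp]
      exact hy₁
    exact mono_aux (stg D 0) x₂ 0 hx₂ h2
  have he : Epi (homologyMap (φc D) 0) := by
    rw [epi_homologyMap_iff_up_to_refinements (φc D) 0 0 1 (by simp) (by simp)]
    intro T y₂ hy₂
    rw [JC_d] at hy₂
    obtain ⟨T', π, hπ, x₂, hx₂, y₁, h⟩ := epi_aux' D.hext D.orc (stg D 0) (D.hH 0) y₂ hy₂
    refine ⟨T', π, hπ, x₂, hx₂, 0, ?_⟩
    have hδ : (stg D 0).δ = 0 := rfl
    rw [hδ, zero_comp, comp_zero, add_zero] at h
    rw [zero_comp, add_zero]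
    exact h
  exact isIso_of_mono_of_epi _

open HomologicalComplex in
lemma quasiIsoAt_φc_succ (n : ℕ) : QuasiIsoAt (φc D) (n + 1) := by
  rw [quasiIsoAt_iff_isIso_homologyMap]
  have hm : Mono (homologyMap (φc D) (n + 1)) := by
    rw [mono_homologyMap_iff_up_to_refinements (φc D) n (n + 1) (n + 1 + 1) (by simp) (by simp)]
    intro T x₂ hx₂ y₁ hy₁
    rw [JC_d] at hy₁
    exact mono_aux' D.hext D.orc (stg D n) (D.hH n) x₂ y₁ hx₂ hy₁
  have he : Epi (homologyMap (φc D) (n + 1)) := by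
    rw [epi_homologyMap_iff_up_to_refinements (φc D) n (n + 1) (n + 1 + 1) (by simp) (by simp)]
    intro T y₂ hy₂
    rw [JC_d] at hy₂
    obtain ⟨T', π, hπ, x₂, hx₂, y₁, h⟩ :=
      epi_aux' D.hext D.orc (stg D (n + 1)) (D.hH (n + 1)) y₂ hy₂
    refine ⟨T', π, hπ, x₂, hx₂, y₁, ?_⟩
    rw [JC_d]
    exact h
  exact isIso_of_mono_of_epi _

instance quasiIso_φc : QuasiIso (φc D) where
  quasiIsoAt n := by
    cases n with
    | zero => exact quasiIsoAt_φc_zero D
    | succ n => exact quasiIsoAt_φc_succ D n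

end Complex

end Groth.Agent.Lib.Helper8.Tower
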