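import Mathlib

/-!
# Helper8: transfinite Mittag-Leffler for inverse systems of acyclic complexes of abelian groups
-/

universe w

open CategoryTheory CategoryTheory.Limits Opposite

namespace Groth.Agent.Lib.Helper8.TransML

variable {I : Type w} [LinearOrder I] (K : Iᵒᵖ ⥤ CochainComplex AddCommGrpCat.{w} ℤ)

/-- elements of degree `n` at stage `β` -/
abbrev X (β : I) (n : ℤ) : Type w := (K.obj (op β)).X n

/-- the differential on elements -/
def dd (β : I) (a b : ℤ) : X K β a →+ X K β b := ((K.obj (op β)).d a b).hom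

/-- the transition maps on elements -/
def res {γ β : I} (h : γ ≤ β) (n : ℤ) : X K β n →+ X K γ n := ((K.map (homOfLE h).op).f n).hom

lemma res_refl (β : I) (n : ℤ) (x : X K β n) : res K (le_refl β) n x = x := by
  have : (homOfLE (le_refl β)).op = 𝟙 (op β) := rfl
  simp [res, this]

lemma res_res {δ γ β : I} (h₁ : δ ≤ γ) (h₂ : γ ≤ β) (n : ℤ) (x : X K β n) :
    res K h₁ n (res K h₂ n x) = res K (h₁.trans h₂) n x := by
  have : (homOfLE (h₁.trans h₂)).op = (homOfLE h₂).op ≫ (homOfLE h₁).op := rfl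
  simp [res, this]

lemma res_dd {γ β : I} (h : γ ≤ β) (a b : ℤ) (x : X K β a) :
    res K h b (dd K β a b x) = dd K γ a b (res K h a x) := by
  have := (K.map (homOfLE h).op).comm a b
  exact (ConcreteCategory.congr_hom this x).symm

lemma dd_dd (β : I) (a b c : ℤ) (x : X K β a) : dd K β b c (dd K β a b x) = 0 := by
  have := (K.obj (op β)).d_comp_d a b c
  exact ConcreteCategory.congr_hom this x

lemma exact_elem (hac : ∀ (β : I) (n : ℤ), (K.obj (op β)).ExactAt n) (β : I) (a b c : ℤ)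
    (ha : a + 1 = b) (hb : b + 1 = c) (x : X K β b) (hx : dd K β b c x = 0) :
    ∃ y : X K β a, dd K β a b y = x := by
  have h := hac β b
  rw [HomologicalComplex.exactAt_iff' _ a b c (by simp [← ha]) (by simp [← hb]),
    ShortComplex.ab_exact_iff] at h
  exact h x hx

/-- the surjectivity hypothesis in terms of total families -/
def Surj : Prop :=
  ∀ (β : I) (n : ℤ) (x : ∀ γ : I, X K γ n),
    (∀ (γ γ' : I) (h : γ ≤ γ'), γ' < β → res K h n (x γ') = x γ) →
    ∃ y : X K β n, ∀ (γ : I) (h : γ < β), res K h.le n y = x γ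

lemma surj_of (hsurj : ∀ (β : I) (n : ℤ) (x : ∀ γ : {γ : I // γ < β}, (K.obj (op γ.1)).X n),
      (∀ (γ γ' : {γ : I // γ < β}) (h : γ.1 ≤ γ'.1),
        ((K.map (homOfLE h).op).f n).hom (x γ') = x γ) →
      ∃ y : (K.obj (op β)).X n, ∀ γ : {γ : I // γ < β},
        ((K.map (homOfLE γ.2.le).op).f n).hom y = x γ) : Surj K := by
  intro β n x hx
  obtain ⟨y, hy⟩ := hsurj β n (fun γ => x γ.1) (fun γ γ' h => hx γ.1 γ'.1 h γ'.2)
  exact ⟨y, fun γ h => hy ⟨γ, h⟩⟩

/-- "relative acyclicity" of the kernel of `K_β → lim_{γ<β} K_γ` -/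
def NAcyc (β : I) : Prop :=
  ∀ (a b c : ℤ), a + 1 = b → b + 1 = c → ∀ w : X K β b, dd K β b c w = 0 →
    (∀ (δ : I) (h : δ < β), res K h.le b w = 0) →
    ∃ u : X K β a, dd K β a b u = w ∧ ∀ (δ : I) (h : δ < β), res K h.le a u = 0

section LemmaA

variable [WellFoundedLT I]

variable (hsurj : Surj K) (S : I → Prop) (hS : ∀ γ δ, S γ → δ ≤ γ → S δ)
  (hN : ∀ γ, S γ → NAcyc K γ) (a b c : ℤ) (ha : a + 1 = b) (hb : b + 1 = c)
  (z : ∀ γ, X K γ b) (hz : ∀ γ, S γ → dd K γ b c (z γ) = 0)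
  (hzc : ∀ γ δ (h : δ ≤ γ), S γ → res K h b (z γ) = z δ)

open Classical in
/-- one step of the recursion -/
noncomputable def stepA (a b : ℤ) (z : ∀ γ, X K γ b)
    (γ : I) (prev : ∀ δ : I, δ < γ → X K δ a) : X K γ a :=
  if h : ∃ v : X K γ a, dd K γ a b v = z γ ∧ ∀ (δ : I) (hδ : δ < γ), res K hδ.le a v = prev δ hδ
  then h.choose else 0

/-- the recursively defined lift -/
noncomputable def liftA (a b : ℤ) (z : ∀ γ, X K γ b) (γ : I) : X K γ a :=
  (wellFounded_lt (α := I)).fix (stepA K a b z) γ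

lemma liftA_eq (a b : ℤ) (z : ∀ γ, X K γ b) (γ : I) :
    liftA K a b z γ = stepA K a b z γ (fun δ _ => liftA K a b z δ) :=
  (wellFounded_lt (α := I)).fix_eq (stepA K a b z) γ

include hsurj hS hN ha hb hz hzc in
lemma liftA_spec (γ : I) (hγ : S γ) :
    dd K γ a b (liftA K a b z γ) = z γ ∧
      ∀ (δ : I) (hδ : δ < γ), res K hδ.le a (liftA K a b z γ) = liftA K a b z δ := by
  induction γ using (wellFounded_lt (α := I)).induction with
  | _ γ ih =>
    have hex : ∃ v : X K γ a, dd K γ a b v = z γ ∧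
        ∀ (δ : I) (hδ : δ < γ), res K hδ.le a v = liftA K a b z δ := by
      -- compatible family below γ
      have hcompat : ∀ (δ' δ : I) (h : δ' ≤ δ), δ < γ →
          res K h a (liftA K a b z δ) = liftA K a b z δ' := by
        intro δ' δ h hδ
        rcases h.lt_or_eq with h' | h'
        · exact (ih δ hδ (hS γ δ hγ hδ.le)).2 δ' h'
        · subst h'
          exact res_refl K _ _ _
      obtain ⟨y', hy'⟩ := hsurj γ a (liftA K a b z) hcompat
      have hw1 : dd K γ b c (z γ - dd K γ a b y') = 0 := by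
        rw [map_sub, hz γ hγ, dd_dd, sub_zero]
      have hw2 : ∀ (δ : I) (h : δ < γ), res K h.le b (z γ - dd K γ a b y') = 0 := by
        intro δ h
        rw [map_sub, hzc γ δ h.le hγ, res_dd, hy' δ h, (ih δ h (hS γ δ hγ h.le)).1, sub_self]
      obtain ⟨u, hu1, hu2⟩ := hN γ hγ a b c ha hb _ hw1 hw2
      refine ⟨y' + u, ?_, ?_⟩
      · rw [map_add, hu1]; abel
      · intro δ hδ
        rw [map_add, hu2 δ hδ, hy' δ hδ, add_zero]
    rw [liftA_eq]
    unfold stepA
    rw [dif_pos hex]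
    exact hex.choose_spec

include hsurj hS hN ha hb hz hzc in
lemma lemmaA : ∃ y : ∀ γ, X K γ a, (∀ γ, S γ → dd K γ a b (y γ) = z γ) ∧
    ∀ γ δ (h : δ ≤ γ), S γ → res K h a (y γ) = y δ := by
  refine ⟨liftA K a b z, fun γ hγ => (liftA_spec K hsurj S hS hN a b c ha hb z hz hzc γ hγ).1, ?_⟩
  intro γ δ h hγ
  rcases h.lt_or_eq with h' | h'
  · exact (liftA_spec K hsurj S hS hN a b c ha hb z hz hzc γ hγ).2 δ h'
  · subst h'
    exact res_refl K _ _ _

end LemmaA

section LemmaB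

variable [WellFoundedLT I]

lemma nacyc (hac : ∀ (β : I) (n : ℤ), (K.obj (op β)).ExactAt n) (hsurj : Surj K) (β : I) :
    NAcyc K β := by
  induction β using (wellFounded_lt (α := I)).induction with
  | _ β ih =>
    intro a b c ha hb w hw hwres
    obtain ⟨v, hv⟩ := exact_elem K hac β a b c ha hb w hw
    classical
    let z : ∀ γ, X K γ a := fun γ => if h : γ ≤ β then res K h a v else 0
    have hz : ∀ γ, γ < β → dd K γ a b (z γ) = 0 := by
      intro γ hγ
      simp only [z, dif_pos hγ.le]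
      rw [← res_dd, hv, hwres γ hγ]
    have hzc : ∀ γ δ (h : δ ≤ γ), γ < β → res K h a (z γ) = z δ := by
      intro γ δ h hγ
      simp only [z, dif_pos hγ.le, dif_pos (h.trans hγ.le)]
      exact res_res K _ _ _ _
    obtain ⟨t, ht1, ht2⟩ := lemmaA K hsurj (fun γ => γ < β) (fun γ δ hγ h => lt_of_le_of_lt h hγ)
      (fun γ hγ => ih γ hγ) (a - 1) a b (by omega) ha z hz hzc
    obtain ⟨T, hT⟩ := hsurj β (a - 1) t (fun γ γ' h hγ' => ht2 γ' γ h hγ')
    refine ⟨v - dd K β (a - 1) a T, ?_, ?_⟩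
    · rw [map_sub, hv, dd_dd, sub_zero]
    · intro δ hδ
      rw [map_sub, res_dd, hT δ hδ, ht1 δ hδ]
      simp only [z, dif_pos hδ.le]
      exact sub_self _

/-- the main elementwise statement -/
lemma main (hac : ∀ (β : I) (n : ℤ), (K.obj (op β)).ExactAt n) (hsurj : Surj K)
    (a b c : ℤ) (ha : a + 1 = b) (hb : b + 1 = c)
    (z : ∀ γ, X K γ b) (hz : ∀ γ, dd K γ b c (z γ) = 0)
    (hzc : ∀ γ δ (h : δ ≤ γ), res K h b (z γ) = z δ) :
    ∃ y : ∀ γ, X K γ a, (∀ γ, dd K γ a b (y γ) = z γ) ∧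
      ∀ γ δ (h : δ ≤ γ), res K h a (y γ) = y δ := by
  obtain ⟨y, hy1, hy2⟩ := lemmaA K hsurj (fun _ => True) (fun _ _ _ _ => trivial)
    (fun γ _ => nacyc K hac hsurj γ) a b c ha hb z (fun γ _ => hz γ) (fun γ δ h _ => hzc γ δ h)
  exact ⟨y, fun γ => hy1 γ trivial, fun γ δ h => hy2 γ δ h trivial⟩

end LemmaB

end Groth.Agent.Lib.Helper8.TransML
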