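import Groth.Agent.Lib.Helper8.TransML1

universe w

open CategoryTheory CategoryTheory.Limits Opposite

namespace Groth.Agent.Lib.Helper8.TransML

variable {I : Type w} [LinearOrder I] (K : Iᵒᵖ ⥤ CochainComplex AddCommGrpCat.{w} ℤ)

/-- projection from the limit on elements -/
noncomputable def pr (β : I) (n : ℤ) : (limit K).X n →+ X K β n := ((limit.π K (op β)).f n).hom

lemma res_pr {γ β : I} (h : γ ≤ β) (n : ℤ) (x : (limit K).X n) :
    res K h n (pr K β n x) = pr K γ n x := by
  have := limit.w K (homOfLE h).op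
  have := congrArg (fun f => f.f n) this
  exact ConcreteCategory.congr_hom this x

lemma pr_d (β : I) (a b : ℤ) (x : (limit K).X a) :
    pr K β b (((limit K).d a b).hom x) = dd K β a b (pr K β a x) := by
  have := (limit.π K (op β)).comm a b
  exact (ConcreteCategory.congr_hom this x).symm

/-- the limit cone in types -/
noncomputable def isLim (n : ℤ) :
    IsLimit ((HomologicalComplex.eval _ _ n ⋙ forget AddCommGrpCat).mapCone (limit.cone K)) :=
  isLimitOfPreserves _ (limit.isLimit K)

lemma pr_ext (n : ℤ) (x y : (limit K).X n) (h : ∀ β, pr K β n x = pr K β n y) : x = y := by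
  apply (Types.isLimitEquivSections (isLim K n)).injective
  ext j
  exact h j.unop

lemma pr_surj (n : ℤ) (y : ∀ β, X K β n) (hy : ∀ γ δ (h : δ ≤ γ), res K h n (y γ) = y δ) :
    ∃ x : (limit K).X n, ∀ β, pr K β n x = y β := by
  let s : (K ⋙ HomologicalComplex.eval _ _ n ⋙ forget AddCommGrpCat).sections :=
    ⟨fun j => y j.unop, by
      intro j j' f
      have h : j'.unop ≤ j.unop := leOfHom f.unop
      exact hy j.unop j'.unop h⟩
  refine ⟨(Types.isLimitEquivSections (isLim K n)).symm s, fun β => ?_⟩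
  exact Types.isLimitEquivSections_symm_apply (isLim K n) s (op β)

theorem limit_exactAt [WellFoundedLT I]
    (hac : ∀ (β : I) (n : ℤ), (K.obj (op β)).ExactAt n)
    (hsurj : ∀ (β : I) (n : ℤ) (x : ∀ γ : {γ : I // γ < β}, (K.obj (op γ.1)).X n),
      (∀ (γ γ' : {γ : I // γ < β}) (h : γ.1 ≤ γ'.1),
        ((K.map (homOfLE h).op).f n).hom (x γ') = x γ) →
      ∃ y : (K.obj (op β)).X n, ∀ γ : {γ : I // γ < β},
        ((K.map (homOfLE γ.2.le).op).f n).hom y = x γ)
    (n : ℤ) : (limit K).ExactAt n := by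
  rw [HomologicalComplex.exactAt_iff' _ (n - 1) n (n + 1) (by simp) (by simp),
    ShortComplex.ab_exact_iff]
  intro (x : (limit K).X n) (hx : ((limit K).d n (n + 1)).hom x = 0)
  obtain ⟨y, hy1, hy2⟩ := main K hac (surj_of K hsurj) (n - 1) n (n + 1) (by omega) rfl
    (fun γ => pr K γ n x)
    (fun γ => by
      rw [← pr_d, hx, map_zero])
    (fun γ δ h => res_pr K h n x)
  obtain ⟨yy, hyy⟩ := pr_surj K (n - 1) y hy2
  refine ⟨yy, ?_⟩
  change ((limit K).d (n - 1) n).hom yy = x
  apply pr_ext K n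
  intro β
  have := pr_d K β (n - 1) n yy
  rw [hyy, hy1] at this
  exact this

end Groth.Agent.Lib.Helper8.TransML
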