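import Mathlib
import Groth.Agent.Lib.Helper8.Uniq3
import Groth.Agent.Lib.Helper8.RAdj3

/-! # Helper8 — Uniq4: uniqueness of normalized dualizing complexes with weak hypotheses on the second object:
an object `ω'` of `D(A)`, bounded below with finite cohomology, with `Hom(κ, ω'[i]) = 0` for `i ≠ 0` and
`Hom(κ, ω') ≃ κ`, is isomorphic to any normalized dualizing complex (`nonempty_iso_of_normalized'`). -/

set_option autoImplicit false

universe u v' u'

open CategoryTheory CategoryTheory.Limits CategoryTheory.Pretriangulated Opposite DerivedCategory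

attribute [local instance] HasDerivedCategory.standard

namespace Groth.Agent.Lib.Helper8.Bidual

open Groth.Agent.Lib.Helper8

section Main

variable {A : Type u} [CommRing A] [IsLocalRing A] [IsNoetherianRing A]

/-- finiteness of the cohomology of a shift -/
lemma finite_HD_shift (X : Dual.D A) (hfin : ∀ i : ℤ, Module.Finite A (Dual.HD A X i)) (n i : ℤ) :
    Module.Finite A (Dual.HD A (X⟦n⟧) i) := by
  haveI := hfin (n + i)
  exact Module.Finite.equiv (RAdj.HDShiftIso X n i).toLinearEquiv.symm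

/-- generalization of `isIso_of_bijective_residue`: the target is only assumed bounded below with
finite cohomology -/
lemma isIso_of_bijective_residue' (ω ω' : Dual.D A) (hω : Dual.IsDualizing A ω)
    (hGE' : ∃ a' : ℤ, ω'.IsGE a') (hfin' : ∀ i : ℤ, Module.Finite A (Dual.HD A ω' i))
    (hn : ∀ i : ℤ, i ≠ 0 → Subsingleton (Dual.inD A (A ⧸ IsLocalRing.maximalIdeal A) ⟶ ω⟦i⟧))
    (hn' : ∀ i : ℤ, i ≠ 0 → Subsingleton (Dual.inD A (A ⧸ IsLocalRing.maximalIdeal A) ⟶ ω'⟦i⟧))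
    (χ : ω ⟶ ω')
    (hbij : Function.Bijective
      (fun g : Dual.inD A (A ⧸ IsLocalRing.maximalIdeal A) ⟶ ω => g ≫ χ)) : IsIso χ := by
  obtain ⟨C, v, w, hT⟩ := distinguished_cocone_triangle χ
  set k : Dual.D A := Dual.inD A (A ⧸ IsLocalRing.maximalIdeal A) with hk
  have key : ∀ (j : ℤ) (f : k⟦j⟧ ⟶ C), f = 0 := by
    intro j f
    refine hom_obj₃_eq_zero (Triangle.mk χ v w) hT (k⟦j⟧) ?_ ?_ f
    · intro (g : k⟦j⟧ ⟶ ω')
      by_cases hj : j = 0
      · subst hj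
        let z : k⟦(0 : ℤ)⟧ ≅ k := (shiftFunctorZero (Dual.D A) ℤ).app k
        obtain ⟨g'', hg''⟩ := hbij.2 (z.inv ≫ g)
        refine ⟨z.hom ≫ g'', ?_⟩
        change g = (z.hom ≫ g'') ≫ χ
        have hg3 : g'' ≫ χ = z.inv ≫ g := hg''
        rw [Category.assoc, hg3, Iso.hom_inv_id_assoc]
      · have hs : Subsingleton (k⟦j⟧ ⟶ ω') :=
          subsingleton_shift_hom k ω' j (-j) (by omega) (hn' (-j) (by omega))
        exact ⟨0, hs.elim _ _⟩
    · intro (h : k⟦j⟧ ⟶ ω⟦(1 : ℤ)⟧) (hh : h ≫ χ⟦(1 : ℤ)⟧' = 0)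
      by_cases hj : j = 1
      · subst hj
        obtain ⟨h₀, rfl⟩ := (shiftFunctor (Dual.D A) (1 : ℤ)).map_surjective h
        have h2 : h₀ ≫ χ = 0 := by
          apply (shiftFunctor (Dual.D A) (1 : ℤ)).map_injective
          rw [Functor.map_comp, hh, Functor.map_zero]
        have h3 : h₀ = 0 := hbij.1 (by
          change h₀ ≫ χ = 0 ≫ χ
          rw [h2]
          exact zero_comp.symm)
        rw [h3]
        exact Functor.map_zero _ _ _
      · have hs : Subsingleton (k⟦j⟧ ⟶ ω⟦(1 : ℤ)⟧) :=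
          subsingleton_shift_hom_shift k ω j 1 (1 - j) (by omega) (hn (1 - j) (by omega))
        exact hs.elim _ _
  obtain ⟨a, ha⟩ := exists_isGE_of_isDualizing ω hω
  obtain ⟨a', ha'⟩ := hGE'
  let t := DerivedCategory.TStructure.t (C := ModuleCat.{u} A)
  have hC : C.IsGE (min a' (a - 1)) := by
    have h1 : t.IsGE ω' (min a' (a - 1)) := t.isGE_of_ge _ _ a' (min_le_left _ _)
    have h3 : t.IsGE (ω⟦(1 : ℤ)⟧) (min a' (a - 1)) := by
      haveI : t.IsGE (ω⟦(1 : ℤ)⟧) (a - 1) := t.isGE_shift ω a 1 (a - 1) (by omega)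
      exact t.isGE_of_ge _ _ (a - 1) (min_le_right _ _)
    exact t.isGE₂ _ (rot_of_distTriang _ hT) _ h1 h3
  have hfin : ∀ i : ℤ, Module.Finite A (Dual.HD A C i) := fun i =>
    Groth.Agent.Lib.helper11.ConeBasic.finite_of_exact _ _ _
      (HomologySequence.exact₃ _ hT i (i + 1) rfl) (hfin' i)
      (hω.finite_cohomology (i + 1))
  have hmax : ∀ (m : Ideal A) [m.IsMaximal] (i : ℤ), min a' (a - 1) - 1 < i →
      Subsingleton (Dual.inD A (A ⧸ m) ⟶ C⟦i⟧) := by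
    intro m hm i _
    obtain rfl := IsLocalRing.eq_maximalIdeal hm
    have e := shiftHomEquiv k C (-i) i (by omega)
    exact ⟨fun x y => e.symm.injective ((key (-i) _).trans (key (-i) _).symm)⟩
  have hall := EFB.hinj_of_residue C (min a' (a - 1) - 1) (min a' (a - 1)) hC hfin hmax
  have hC0 : IsZero C := by
    apply DNak.isZero_of_forall_subsingleton_HD
    intro i
    haveI := hall A i (by omega)
    exact (homUnitShiftLinearEquiv C i).symm.toEquiv.subsingleton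
  exact (Triangle.isZero₃_iff_isIso₁ _ hT).1 hC0

/-- generalization of `nonempty_iso_of_normalized`: an object `ω'` of `D(A)`, bounded below with
finite cohomology, with `Hom(κ, ω'[i]) = 0` for `i ≠ 0` and `Hom(κ, ω') ≃ κ`, is isomorphic to a
normalized dualizing complex -/
theorem nonempty_iso_of_normalized' (ω ω' : Dual.D A) (hω : Dual.IsDualizing A ω)
    (hn : Dual.IsNormalized A ω)
    (hGE' : ∃ a' : ℤ, ω'.IsGE a') (hfin' : ∀ i : ℤ, Module.Finite A (Dual.HD A ω' i))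
    (hnk' : ∀ i : ℤ, i ≠ 0 →
      Subsingleton (Dual.inD A (A ⧸ IsLocalRing.maximalIdeal A) ⟶ ω'⟦i⟧))
    (l' : (Dual.inD A (A ⧸ IsLocalRing.maximalIdeal A) ⟶ ω'⟦(0 : ℤ)⟧) ≃ₗ[A]
      (A ⧸ IsLocalRing.maximalIdeal A)) :
    Nonempty (ω ≅ ω') := by
  obtain ⟨I, lo, hi, hI, hab, ⟨e⟩⟩ := exists_injective_model ω hω
  haveI : I.IsKInjective := IAmp.isKInjective_of_data I lo (fun n hn => hab n (Or.inl hn)) hI
  set k : Dual.D A := Dual.inD A (A ⧸ IsLocalRing.maximalIdeal A) with hk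
  have hnk : ∀ i : ℤ, i ≠ 0 → Subsingleton (k ⟶ ω⟦i⟧) := fun i hi => by
    haveI := hn i hi
    exact (subsingleton_hom_congr (ω⟦i⟧) (EFB.residueEquiv A)).2 inferInstance
  obtain ⟨a', ha'⟩ := hGE'
  have hGE1 : ∃ c : ℤ, (ω'⟦(1 : ℤ)⟧).IsGE c := ⟨a' - 1, by
    haveI := ha'
    exact (TStructure.t).isGE_shift ω' a' 1 (a' - 1) (by omega)⟩
  obtain ⟨jk⟩ := TI_residue_iso ω hω hn I e
  have hkk : Subsingleton ((TI I).obj (op (ModuleCat.of A (A ⧸ IsLocalRing.maximalIdeal A))) ⟶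
      ω'⟦(1 : ℤ)⟧) := by
    haveI := hnk' 1 one_ne_zero
    exact (Iso.homCongr jk (Iso.refl (ω'⟦(1 : ℤ)⟧))).subsingleton
  have h5 : Subsingleton ((TI I).obj (op (ModuleCat.of A (IsLocalRing.maximalIdeal A))) ⟶
      ω'⟦(1 : ℤ)⟧) :=
    subsingleton_homT_of_residue (TI I) (TI_triangle I hI) (fun M x => TI_map_smul I M x)
      (ω'⟦(1 : ℤ)⟧) hkk
      (fun M _ _ _ => finite_hom_TI ω hω I e _ hGE1
        (fun i => finite_HD_shift ω' hfin' 1 i) M) (IsLocalRing.maximalIdeal A)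
  obtain ⟨l⟩ := nonempty_hom_residue_equiv ω hω hn
  let z' : ω'⟦(0 : ℤ)⟧ ≅ ω' := (shiftFunctorZero (Dual.D A) ℤ).app ω'
  let z : ω⟦(0 : ℤ)⟧ ≅ ω := (shiftFunctorZero (Dual.D A) ℤ).app ω
  let eY : (k ⟶ ω') ≃ₗ[A] (A ⧸ IsLocalRing.maximalIdeal A) :=
    (postcompEquivLin z'.symm k).trans l'
  let eX : (k ⟶ ω) ≃ₗ[A] (A ⧸ IsLocalRing.maximalIdeal A) :=
    (postcompEquivLin z.symm k).trans l
  let φ1 : k ⟶ ω' := eY.symm 1
  have hφ1 : φ1 ≠ 0 := by
    intro h0
    have h1 : eY φ1 = 1 := eY.apply_symm_apply 1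
    rw [h0, map_zero] at h1
    exact zero_ne_one h1
  have hS := shortExact_of_linear (Submodule.subtype (IsLocalRing.maximalIdeal A))
    (Submodule.mkQ (IsLocalRing.maximalIdeal A)) (Submodule.injective_subtype _)
    (Submodule.mkQ_surjective _) (LinearMap.exact_subtype_mkQ _)
  obtain ⟨δ, hδ⟩ := TI_triangle I hI _ hS
  obtain ⟨χ, hχ⟩ := yoneda_exact₁' _ hδ (jk.hom ≫ φ1) (h5.elim _ _)
  let e₂ : (TI I).obj (op (ModuleCat.of A A)) ≅ ω := Q.mapIso (evOne I) ≪≫ e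
  let χ' : ω ⟶ ω' := e₂.inv ≫ χ
  let θ' : k ⟶ ω := jk.inv ≫
    (TI I).map (ModuleCat.ofHom (Submodule.mkQ (IsLocalRing.maximalIdeal A))).op ≫ e₂.hom
  have hχ2 : jk.hom ≫ φ1 =
      (TI I).map (ModuleCat.ofHom (Submodule.mkQ (IsLocalRing.maximalIdeal A))).op ≫ χ := hχ
  have hθ : θ' ≫ χ' = φ1 := by
    change (jk.inv ≫ (TI I).map
      (ModuleCat.ofHom (Submodule.mkQ (IsLocalRing.maximalIdeal A))).op ≫ e₂.hom) ≫ e₂.inv ≫ χ = φ1
    rw [Category.assoc, Category.assoc, Iso.hom_inv_id_assoc, ← hχ2, Iso.inv_hom_id_assoc]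
  have hbij := postcomp_bijective_of_ne_zero χ' eX eY θ' (by rw [hθ]; exact hφ1)
  haveI := isIso_of_bijective_residue' ω ω' hω ⟨a', ha'⟩ hfin' hnk hnk' χ' hbij
  exact ⟨asIso χ'⟩

end Main

end Groth.Agent.Lib.Helper8.Bidual
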