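import Mathlib
import Groth.Agent.Lib.Helper8.Uniq4
import Groth.Agent.Lib.Helper8.EFB20
import Groth.Agent.Lib.Helper8.EFB14
import Groth.Agent.Lib.Helper8.Ex1
import Groth.Agent.Lib.Helper8.Dim1
import Groth.Agent.Lib.Helper8.Bid8
import Groth.Agent.Lib.Helper8.Dim3

/-! # Helper8 — Uniq5: **a complex with `Ext^i(κ, R) = κ` in a single degree is dualizing** (S11171):
`isDualizing_of_ext_residue_of_exists` (when a normalized dualizing complex exists, `R[d] ≅ ω` by `Uniq4`), and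
`isDualizing_of_ext_residueField_single_degree` (general case: pass to the completion, which has a dualizing
complex by Cohen's structure theorem, Ext flat base change, and faithfully flat descent `EFB14`). -/

set_option autoImplicit false

universe u

open CategoryTheory CategoryTheory.Limits CategoryTheory.Pretriangulated Opposite DerivedCategory
open scoped TensorProduct

attribute [local instance] HasDerivedCategory.standard

namespace Groth.Agent.Lib.Helper8.Bidual

open Groth.Agent.Lib.Helper8 Groth.Agent.Lib.Helper8.EFB Groth.Agent.Lib.Helper16.FlatBC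
  Groth.Agent.Lib.Helper8.EBC

section Crit

variable {A : Type u} [CommRing A] [IsLocalRing A] [IsNoetherianRing A]

/-- the criterion in the presence of a normalized dualizing complex -/
theorem isDualizing_of_ext_residue_of_exists (ω : Dual.D A) (hω : Dual.IsDualizing A ω)
    (hn : Dual.IsNormalized A ω) (R : Dual.D A)
    (hfin : ∀ i : ℤ, Module.Finite A (Dual.HD A R i)) (hGE : ∃ a : ℤ, R.IsGE a) (d : ℤ)
    (hvan : ∀ i : ℤ, i ≠ d →
      Subsingleton (Dual.inD A (A ⧸ IsLocalRing.maximalIdeal A) ⟶ R⟦i⟧))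
    (hd : Nonempty ((Dual.inD A (A ⧸ IsLocalRing.maximalIdeal A) ⟶ R⟦d⟧) ≃ₗ[A]
      (A ⧸ IsLocalRing.maximalIdeal A))) : Dual.IsDualizing A R := by
  set k : Dual.D A := Dual.inD A (A ⧸ IsLocalRing.maximalIdeal A) with hk
  obtain ⟨a, ha⟩ := hGE
  obtain ⟨l⟩ := hd
  have hGE' : ∃ a' : ℤ, (R⟦d⟧).IsGE a' := ⟨a - d, by
    haveI := ha
    exact (TStructure.t).isGE_shift R a d (a - d) (by omega)⟩
  have hnk' : ∀ i : ℤ, i ≠ 0 → Subsingleton (k ⟶ (R⟦d⟧)⟦i⟧) := fun i hi => by
    haveI : Subsingleton (k ⟶ R⟦d + i⟧) := hvan (d + i) (by omega)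
    exact (postcompEquivLin ((shiftFunctorAdd' (Dual.D A) d i (d + i) rfl).app R).symm
      k).toEquiv.subsingleton
  let l' : (k ⟶ (R⟦d⟧)⟦(0 : ℤ)⟧) ≃ₗ[A] (A ⧸ IsLocalRing.maximalIdeal A) :=
    (postcompEquivLin ((shiftFunctorZero (Dual.D A) ℤ).app (R⟦d⟧)) k).trans l
  obtain ⟨j⟩ := nonempty_iso_of_normalized' ω (R⟦d⟧) hω hn hGE'
    (fun i => finite_HD_shift R hfin d i) hnk' l'
  let e : ω⟦-d⟧ ≅ R :=
    (CategoryTheory.shiftFunctor (Dual.D A) (-d)).mapIso j ≪≫
      (shiftFunctorCompIsoId (Dual.D A) d (-d) (by omega)).app R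
  exact EFB.isDualizing_of_iso e (isDualizing_shift ω hω (-d))

/-- **S11171**: an object of `D^+_fg(A)` with `Ext^i(κ, R)` equal to `κ` in a single degree and zero
elsewhere is a dualizing complex -/
theorem isDualizing_of_ext_residueField_single_degree (R : Dual.D A)
    (hfin : ∀ i : ℤ, Module.Finite A (Dual.HD A R i))
    (hbdd : ∃ a : ℤ, ∀ i : ℤ, i < a → Subsingleton (Dual.HD A R i)) (d : ℤ)
    (hvan : ∀ i : ℤ, i ≠ d → Subsingleton (Dual.inD A (IsLocalRing.ResidueField A) ⟶ R⟦i⟧))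
    (hd : Nonempty ((Dual.inD A (IsLocalRing.ResidueField A) ⟶ R⟦d⟧) ≃ₗ[A]
      IsLocalRing.ResidueField A)) : Dual.IsDualizing A R := by
  obtain ⟨a, ha⟩ := hbdd
  have hGE : R.IsGE a := isGE_of_subsingleton R a ha
  -- the quotient form of the hypotheses
  let jk : Dual.inD A (A ⧸ IsLocalRing.maximalIdeal A) ≅ Dual.inD A (IsLocalRing.ResidueField A) :=
    (singleFunctor (ModuleCat.{u} A) 0).mapIso (residueEquiv A).toModuleIso
  have hvan' : ∀ i : ℤ, i ≠ d →
      Subsingleton (Dual.inD A (A ⧸ IsLocalRing.maximalIdeal A) ⟶ R⟦i⟧) := fun i hi => by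
    haveI := hvan i hi
    exact (precompEquivLin jk (R⟦i⟧)).toEquiv.symm.subsingleton
  obtain ⟨l0⟩ := hd
  let l : (Dual.inD A (A ⧸ IsLocalRing.maximalIdeal A) ⟶ R⟦d⟧) ≃ₗ[A]
      (A ⧸ IsLocalRing.maximalIdeal A) :=
    (precompEquivLin jk (R⟦d⟧)).symm.trans (l0.trans (residueEquiv A).symm)
  -- pass to the completion
  let B := AdicCompletion (IsLocalRing.maximalIdeal A) A
  haveI : IsNoetherianRing B :=
    Groth.Agent.Lib.helper19.isNoetherianRing_adicCompletion A _
  haveI : Module.Flat A B := AdicCompletion.flat_of_isNoetherian _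
  haveI : Module.FaithfullyFlat A B := Module.FaithfullyFlat.of_flat_of_isLocalHom
  have hm : (IsLocalRing.maximalIdeal A).map (algebraMap A B) = IsLocalRing.maximalIdeal B :=
    AdicCompletion.maximalIdeal_eq_map.symm
  obtain ⟨ω₀, hω₀⟩ := exists_isDualizing_of_complete B
  obtain ⟨n₀, hn₀⟩ := exists_isNormalized_shift ω₀ hω₀
  set K : Dual.D A := Dual.inD A (A ⧸ IsLocalRing.maximalIdeal A) with hK
  -- `κ_B = B / m_A B`
  let e1 : (B ⧸ IsLocalRing.maximalIdeal B) ≃ₗ[B]
      (B ⧸ (IsLocalRing.maximalIdeal A).map (algebraMap A B)) :=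
    Submodule.quotEquivOfEq _ _ hm.symm
  let e2 : Dual.inD B (B ⧸ IsLocalRing.maximalIdeal B) ≅
      Dual.inD B (B ⧸ (IsLocalRing.maximalIdeal A).map (algebraMap A B)) :=
    (singleFunctor (ModuleCat.{u} B) 0).mapIso e1.toModuleIso
  let e3 : (B ⧸ (IsLocalRing.maximalIdeal A).map (algebraMap A B)) ≃ₗ[B]
      B ⊗[A] (A ⧸ IsLocalRing.maximalIdeal A) :=
    Algebra.TensorProduct.quotIdealMapEquivTensorQuotAux B (IsLocalRing.maximalIdeal A)
  have hB : Dual.IsDualizing B ((ε (algebraMap A B)).obj R) := by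
    refine isDualizing_of_ext_residue_of_exists (ω₀⟦n₀⟧) (isDualizing_shift ω₀ hω₀ n₀) hn₀ _
      (fun i => by haveI := hfin i; exact finite_HD_ε R i) ⟨a, isGE_ε R a ha⟩ d
      (fun i hi => ?_) ?_
    · obtain ⟨Θ⟩ := nonempty_bcLinearEquiv_quot (B := B) (IsLocalRing.maximalIdeal A) R
        ⟨a, hGE⟩ i
      haveI := hvan' i hi
      haveI : Subsingleton (B ⊗[A] (K ⟶ R⟦i⟧)) := subsingleton_tensor_of_right _ _
      haveI : Subsingleton (Dual.inD B (B ⧸ (IsLocalRing.maximalIdeal A).map (algebraMap A B)) ⟶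
          ((ε (algebraMap A B)).obj R)⟦i⟧) := Θ.symm.toEquiv.subsingleton
      exact (precompEquivLin e2 _).symm.toEquiv.subsingleton
    · obtain ⟨Θ⟩ := nonempty_bcLinearEquiv_quot (B := B) (IsLocalRing.maximalIdeal A) R
        ⟨a, hGE⟩ d
      exact ⟨(precompEquivLin e2 _).symm.trans (Θ.symm.trans
        ((LinearEquiv.baseChange A B _ _ l).trans (e3.symm.trans e1.symm)))⟩
  exact isDualizing_of_jointlyFF (fun _ : Unit => B) (jointlyFF_of_faithfullyFlat B) R
    (fun _ => hB)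

end Crit

end Groth.Agent.Lib.Helper8.Bidual
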