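import Mathlib
import Groth.Agent.Lib.Helper8.WayOut2

/-!
# Helper8 — WayOut3: four lemmas for homology sequences of triangles; the way-out lemma for a
cogenerating class (S11152).
-/

open CategoryTheory CategoryTheory.Limits CategoryTheory.Pretriangulated

namespace Groth.Agent.Lib.Helper8.WayOut

section Four

variable {C : Type*} [Category C] [HasZeroObject C] [HasShift C ℤ] [Preadditive C]
  [∀ n : ℤ, (shiftFunctor C n).Additive] [Pretriangulated C]
  {A : Type*} [Category A] [Abelian A] (H : C ⥤ A) [H.IsHomological] [H.ShiftSequence ℤ]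
  {T T' : Triangle C} (φ : T ⟶ T') (n₀ n₁ : ℤ) (h : n₀ + 1 = n₁)

/-- the morphism of six-term exact sequences induced by a morphism of triangles. -/
noncomputable def seqMap : H.homologySequenceComposableArrows₅ T n₀ n₁ h ⟶
    H.homologySequenceComposableArrows₅ T' n₀ n₁ h :=
  ComposableArrows.homMk₅ ((H.shift n₀).map φ.hom₁) ((H.shift n₀).map φ.hom₂)
    ((H.shift n₀).map φ.hom₃) ((H.shift n₁).map φ.hom₁) ((H.shift n₁).map φ.hom₂)
    ((H.shift n₁).map φ.hom₃)
    (by
      change (H.shift n₀).map T.mor₁ ≫ (H.shift n₀).map φ.hom₂ =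
        (H.shift n₀).map φ.hom₁ ≫ (H.shift n₀).map T'.mor₁
      rw [← Functor.map_comp, ← Functor.map_comp, φ.comm₁])
    (by
      change (H.shift n₀).map T.mor₂ ≫ (H.shift n₀).map φ.hom₃ =
        (H.shift n₀).map φ.hom₂ ≫ (H.shift n₀).map T'.mor₂
      rw [← Functor.map_comp, ← Functor.map_comp, φ.comm₂])
    (by
      change H.homologySequenceδ T n₀ n₁ h ≫ (H.shift n₁).map φ.hom₁ =
        (H.shift n₀).map φ.hom₃ ≫ H.homologySequenceδ T' n₀ n₁ h
      exact (H.homologySequenceδ_naturality T T' φ n₀ n₁ h).symm)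
    (by
      change (H.shift n₁).map T.mor₁ ≫ (H.shift n₁).map φ.hom₂ =
        (H.shift n₁).map φ.hom₁ ≫ (H.shift n₁).map T'.mor₁
      rw [← Functor.map_comp, ← Functor.map_comp, φ.comm₁])
    (by
      change (H.shift n₁).map T.mor₂ ≫ (H.shift n₁).map φ.hom₃ =
        (H.shift n₁).map φ.hom₂ ≫ (H.shift n₁).map T'.mor₂
      rw [← Functor.map_comp, ← Functor.map_comp, φ.comm₂])

variable (hT : T ∈ distTriang C) (hT' : T' ∈ distTriang C)

include hT hT' h in
lemma mono_shift_map_hom₁ (h₀ : Epi ((H.shift n₀).map φ.hom₂)) (h₁ : Mono ((H.shift n₀).map φ.hom₃))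
    (h₃ : Mono ((H.shift n₁).map φ.hom₂)) : Mono ((H.shift n₁).map φ.hom₁) :=
  Abelian.mono_of_epi_of_mono_of_mono'' (k := 1) (by omega)
    (H.homologySequenceComposableArrows₅_exact T hT n₀ n₁ h)
    (H.homologySequenceComposableArrows₅_exact T' hT' n₀ n₁ h) (seqMap H φ n₀ n₁ h) 1 2 3 4
    rfl rfl rfl rfl h₀ h₁ h₃

include hT hT' h in
lemma epi_shift_map_hom₁ (h₀ : Epi ((H.shift n₀).map φ.hom₃)) (h₂ : Epi ((H.shift n₁).map φ.hom₂))
    (h₃ : Mono ((H.shift n₁).map φ.hom₃)) : Epi ((H.shift n₁).map φ.hom₁) :=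
  Abelian.epi_of_epi_of_epi_of_mono'' (k := 2) (by omega)
    (H.homologySequenceComposableArrows₅_exact T hT n₀ n₁ h)
    (H.homologySequenceComposableArrows₅_exact T' hT' n₀ n₁ h) (seqMap H φ n₀ n₁ h) 2 3 4 5
    rfl rfl rfl rfl h₀ h₂ h₃

end Four

section Derived

open DerivedCategory Groth.Agent.Lib.Helper8.DTrunc

universe w w' v v' u u'

variable {A : Type u} [Category.{v} A] [Abelian A] [HasDerivedCategory.{w} A]
    {B : Type u'} [Category.{v'} B] [Abelian B] [HasDerivedCategory.{w'} B]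
    (F G : DerivedCategory A ⥤ DerivedCategory B) [F.CommShift ℤ] [G.CommShift ℤ]
    [F.IsTriangulated] [G.IsTriangulated] (η : F ⟶ G) [NatTrans.CommShift η ℤ]

omit [F.IsTriangulated] [G.IsTriangulated] in
/-- the morphism of triangles induced by `η`. -/
lemma exists_triangleMap (T : Triangle (DerivedCategory A)) :
    ∃ φ : F.mapTriangle.obj T ⟶ G.mapTriangle.obj T, φ.hom₁ = η.app T.obj₁ ∧
      φ.hom₂ = η.app T.obj₂ ∧ φ.hom₃ = η.app T.obj₃ := by
  let TF : Triangle (DerivedCategory B) := Triangle.mk (F.map T.mor₁) (F.map T.mor₂)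
    (F.map T.mor₃ ≫ (F.commShiftIso (1 : ℤ)).hom.app T.obj₁)
  let TG : Triangle (DerivedCategory B) := Triangle.mk (G.map T.mor₁) (G.map T.mor₂)
    (G.map T.mor₃ ≫ (G.commShiftIso (1 : ℤ)).hom.app T.obj₁)
  let φ : TF ⟶ TG :=
    Triangle.homMk TF TG (η.app T.obj₁) (η.app T.obj₂) (η.app T.obj₃) (η.naturality _)
      (η.naturality _) (by
        change (F.map T.mor₃ ≫ (F.commShiftIso (1 : ℤ)).hom.app T.obj₁) ≫ (η.app T.obj₁)⟦(1 : ℤ)⟧' =
          η.app T.obj₃ ≫ G.map T.mor₃ ≫ (G.commShiftIso (1 : ℤ)).hom.app T.obj₁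
        rw [Category.assoc, NatTrans.shift_app_comm η (1 : ℤ) T.obj₁, ← Category.assoc,
          η.naturality, Category.assoc])
  exact ⟨φ, rfl, rfl, rfl⟩

omit [F.IsTriangulated] in
lemma exists_bound
    (hF : ∀ n₁ : ℤ, ∃ n₂ : ℤ, ∀ Y : DerivedCategory A, Y.IsGE n₂ → (F.obj Y).IsGE n₁) :
    ∃ m : ℤ, ∀ Y : DerivedCategory A, Y.IsGE 0 → (F.obj Y).IsGE m := by
  obtain ⟨n₂, h⟩ := hF 0
  refine ⟨-n₂, fun Y hY => ?_⟩
  have h1 : (Y⟦-n₂⟧).IsGE n₂ := tt.isGE_shift Y 0 (-n₂) n₂ (by omega)
  have h2 : (F.obj (Y⟦-n₂⟧)).IsGE 0 := h _ h1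
  have e : F.obj Y ≅ (F.obj (Y⟦-n₂⟧))⟦n₂⟧ :=
    F.mapIso ((shiftFunctorCompIsoId (DerivedCategory A) (-n₂) n₂ (by omega)).app Y).symm ≪≫
      (F.commShiftIso n₂).app _
  have h3 : ((F.obj (Y⟦-n₂⟧))⟦n₂⟧).IsGE (-n₂) := tt.isGE_shift _ 0 n₂ (-n₂) (by omega)
  exact tt.isGE_of_iso e.symm _

/-- S11152 -/
theorem wayOut_isIso_app_single_of_cogenerating
    (P : ObjectProperty A) (hP : ∀ X : A, ∃ (Y : A) (i : X ⟶ Y), P Y ∧ Mono i)
    (hF : ∀ n₁ : ℤ, ∃ n₂ : ℤ, ∀ Y : DerivedCategory A, Y.IsGE n₂ → (F.obj Y).IsGE n₁)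
    (hG : ∀ n₁ : ℤ, ∃ n₂ : ℤ, ∀ Y : DerivedCategory A, Y.IsGE n₂ → (G.obj Y).IsGE n₁)
    (hη : ∀ X : A, P X → IsIso (η.app ((DerivedCategory.singleFunctor A 0).obj X)))
    (X : A) :
    IsIso (η.app ((DerivedCategory.singleFunctor A 0).obj X)) := by
  obtain ⟨mF, hmF⟩ := exists_bound F hF
  obtain ⟨mG, hmG⟩ := exists_bound G hG
  let m := min mF mG
  have hbF : ∀ X : A, (F.obj ((singleFunctor A 0).obj X)).IsGE m := fun X =>
    haveI := hmF _ (inferInstance : ((singleFunctor A 0).obj X).IsGE 0)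
    tt.isGE_of_ge _ m mF (min_le_left _ _)
  have hbG : ∀ X : A, (G.obj ((singleFunctor A 0).obj X)).IsGE m := fun X =>
    haveI := hmG _ (inferInstance : ((singleFunctor A 0).obj X).IsGE 0)
    tt.isGE_of_ge _ m mG (min_le_right _ _)
  have key : ∀ (k : ℕ) (X : A),
      IsIso ((homologyFunctor B (m - 1 + k)).map (η.app ((singleFunctor A 0).obj X))) := by
    intro k
    induction k with
    | zero =>
      intro X
      have := hbF X
      have := hbG X
      exact ⟨0, (isZero_of_isGE (F.obj _) m _ (by simp)).eq_of_src _ _,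
        (isZero_of_isGE (G.obj _) m _ (by simp)).eq_of_src _ _⟩
    | succ k ih =>
      have hstep : ∀ X : A, ∃ (Y X₁ : A), P Y ∧
          ((∀ (_ : Mono ((homologyFunctor B (m - 1 + (k + 1 : ℕ))).map
            (η.app ((singleFunctor A 0).obj X₁)))),
            Epi ((homologyFunctor B (m - 1 + (k + 1 : ℕ))).map
              (η.app ((singleFunctor A 0).obj X)))) ∧
          Mono ((homologyFunctor B (m - 1 + (k + 1 : ℕ))).map
            (η.app ((singleFunctor A 0).obj X)))) := by
        intro X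
        obtain ⟨Y, i, hY, hi⟩ := hP X
        let S : ShortComplex A := ShortComplex.mk i (cokernel.π i) (cokernel.condition i)
        have hS : S.ShortExact :=
          { exact := ShortComplex.exact_cokernel i
            mono_f := hi
            epi_g := (inferInstance : Epi (cokernel.π i)) }
        have hT := hS.singleTriangle_distinguished
        obtain ⟨φ, h1, h2, h3⟩ := exists_triangleMap F G η hS.singleTriangle
        have hYiso : IsIso (η.app ((singleFunctor A 0).obj Y)) := hη Y hY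
        have hX₁ := ih (cokernel i)
        have hn : (m - 1 + (k : ℤ)) + 1 = m - 1 + ((k + 1 : ℕ) : ℤ) := by push_cast; ring
        refine ⟨Y, cokernel i, hY, fun hmono₁ => ?_, ?_⟩
        · have := epi_shift_map_hom₁ (homologyFunctor B 0) φ _ _ hn
            (F.map_distinguished _ hT) (G.map_distinguished _ hT)
            (by rw [h3]; exact (inferInstance : Epi ((homologyFunctor B (m - 1 + k)).map
              (η.app ((singleFunctor A 0).obj (cokernel i))))))
            (by rw [h2]; exact (inferInstance : Epi ((homologyFunctor B (m - 1 + (k + 1 : ℕ))).map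
              (η.app ((singleFunctor A 0).obj Y)))))
            (by rw [h3]; exact hmono₁)
          rw [h1] at this
          exact this
        · have := mono_shift_map_hom₁ (homologyFunctor B 0) φ _ _ hn
            (F.map_distinguished _ hT) (G.map_distinguished _ hT)
            (by rw [h2]; exact (inferInstance : Epi ((homologyFunctor B (m - 1 + k)).map
              (η.app ((singleFunctor A 0).obj Y)))))
            (by rw [h3]; exact (inferInstance : Mono ((homologyFunctor B (m - 1 + k)).map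
              (η.app ((singleFunctor A 0).obj (cokernel i))))))
            (by rw [h2]; exact (inferInstance : Mono ((homologyFunctor B (m - 1 + (k + 1 : ℕ))).map
              (η.app ((singleFunctor A 0).obj Y)))))
          rw [h1] at this
          exact this
      intro X
      obtain ⟨Y, X₁, -, hepi, hmono⟩ := hstep X
      obtain ⟨Y', X₁', -, -, hmono'⟩ := hstep X₁
      have := hepi hmono'
      exact isIso_of_mono_of_epi _
  rw [DerivedCategory.isIso_iff]
  intro j
  by_cases hj : j < m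
  · have := hbF X
    have := hbG X
    exact ⟨0, (isZero_of_isGE (F.obj _) m j hj).eq_of_src _ _,
      (isZero_of_isGE (G.obj _) m j hj).eq_of_src _ _⟩
  · obtain ⟨k, hk⟩ : ∃ k : ℕ, m - 1 + (k : ℤ) = j :=
      ⟨(j - (m - 1)).toNat, by rw [Int.toNat_of_nonneg (by omega)]; ring⟩
    rw [← hk]
    exact key k X

end Derived

end Groth.Agent.Lib.Helper8.WayOut
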