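import Mathlib

/-!
# Lifting complexes along a Serre quotient functor (zig-zag construction)
-/

open CategoryTheory Limits Category

namespace Groth.Agent.Lib.Helper8.ZigZag

universe w w' v v' u u'

variable {A : Type u} [Category.{v} A] [Abelian A]
  {B : Type u'} [Category.{v'} B] [Abelian B]
  (L : A ⥤ B) (P : ObjectProperty A) [P.IsSerreClass]
  [L.IsLocalization P.isoModSerre] [L.Additive]

open ObjectProperty.SerreClassLocalization

set_option linter.style.haveILetI false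

include P

lemma rightLift {X Y : A} (φ : L.obj X ⟶ L.obj Y) :
    ∃ (Y' : A) (f : X ⟶ Y') (s : Y ⟶ Y'), IsIso (L.map s) ∧ φ ≫ L.map s = L.map f := by
  obtain ⟨z, hz⟩ := Localization.exists_leftFraction L P.isoModSerre φ
  refine ⟨z.Y', z.f, z.s, Localization.inverts L P.isoModSerre _ z.hs, ?_⟩
  rw [hz]
  exact z.map_comp_map_s L _

lemma leftLift {X Y : A} (φ : L.obj X ⟶ L.obj Y) :
    ∃ (X' : A) (s : X' ⟶ X) (f : X' ⟶ Y), IsIso (L.map s) ∧ L.map s ≫ φ = L.map f := by
  obtain ⟨z, hz⟩ := Localization.exists_rightFraction L P.isoModSerre φ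
  refine ⟨z.X', z.s, z.f, Localization.inverts L P.isoModSerre _ z.hs, ?_⟩
  rw [hz]
  exact z.map_s_comp_map L _

lemma isIso_map_cokernel_π {X Y : A} (g : X ⟶ Y) (hg : L.map g = 0) :
    IsIso (L.map (cokernel.π g)) := by
  rw [isIso_map_iff L P]
  exact P.isoModSerre_of_epi _ ((map_eq_zero_iff L P g).1 hg)

lemma isIso_map_kernel_ι {X Y : A} (g : X ⟶ Y) (hg : L.map g = 0) :
    IsIso (L.map (kernel.ι g)) := by
  rw [isIso_map_iff L P]
  exact P.isoModSerre_of_mono _
    (P.prop_of_iso (Abelian.coimageIsoImage g).symm ((map_eq_zero_iff L P g).1 hg))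

theorem rstep {Xp Xc : A} (e : Xp ⟶ Xc) {K₁ K₂ : B} (α : L.obj Xc ≅ K₁) (δ : K₁ ⟶ K₂)
    (h : L.map e ≫ α.hom ≫ δ = 0) :
    ∃ (Xn : A) (e' : Xc ⟶ Xn) (α' : L.obj Xn ≅ K₂),
      e ≫ e' = 0 ∧ L.map e' ≫ α'.hom = α.hom ≫ δ := by
  haveI := Localization.essSurj L P.isoModSerre
  let β : L.obj (L.objPreimage K₂) ≅ K₂ := L.objObjPreimageIso K₂
  obtain ⟨Y', f, s, hs, hf⟩ := rightLift L P (α.hom ≫ δ ≫ β.inv)
  have hg : L.map (e ≫ f) = 0 := by
    rw [L.map_comp, ← hf, ← assoc, ← assoc, ← assoc]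
    rw [assoc (L.map e), h, zero_comp, zero_comp]
  haveI := isIso_map_cokernel_π L P (e ≫ f) hg
  refine ⟨cokernel (e ≫ f), f ≫ cokernel.π (e ≫ f),
    (asIso (L.map (cokernel.π (e ≫ f)))).symm ≪≫ (asIso (L.map s)).symm ≪≫ β, ?_, ?_⟩
  · rw [← assoc, cokernel.condition]
  · simp only [Iso.trans_hom, Iso.symm_hom, asIso_inv, L.map_comp, assoc,
      IsIso.hom_inv_id_assoc]
    rw [← hf]
    simp

theorem lstep {Xc Xn : A} (e : Xc ⟶ Xn) {K₀ K₁ : B} (α : L.obj Xc ≅ K₁) (δ : K₀ ⟶ K₁)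
    (h : δ ≫ α.inv ≫ L.map e = 0) :
    ∃ (Xp : A) (e' : Xp ⟶ Xc) (α' : L.obj Xp ≅ K₀),
      e' ≫ e = 0 ∧ L.map e' ≫ α.hom = α'.hom ≫ δ := by
  haveI := Localization.essSurj L P.isoModSerre
  let β : L.obj (L.objPreimage K₀) ≅ K₀ := L.objObjPreimageIso K₀
  obtain ⟨Y', s, f, hs, hf⟩ := leftLift L P (β.hom ≫ δ ≫ α.inv)
  have hg : L.map (f ≫ e) = 0 := by
    rw [L.map_comp, ← hf]
    simp only [assoc]
    rw [h, comp_zero, comp_zero]
  haveI := isIso_map_kernel_ι L P (f ≫ e) hg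
  refine ⟨kernel (f ≫ e), kernel.ι (f ≫ e) ≫ f,
    asIso (L.map (kernel.ι (f ≫ e))) ≪≫ asIso (L.map s) ≪≫ β, ?_, ?_⟩
  · rw [assoc, kernel.condition]
  · simp only [Iso.trans_hom, asIso_hom, L.map_comp, assoc]
    rw [← hf]
    simp

set_option linter.unusedSectionVars false

variable (K : CochainComplex B ℤ)

/-- state of the right-going construction at degree `k ≥ 0` -/
structure RState (k : ℕ) where
  Xp : A
  Xc : A
  e : Xp ⟶ Xc
  α : L.obj Xc ≅ K.X (Int.ofNat k)
  cond : L.map e ≫ α.hom ≫ K.d (Int.ofNat k) (Int.ofNat (k + 1)) = 0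

variable {L K}

/-- next state -/
noncomputable def RState.next {k : ℕ} (s : RState L K k) : RState L K (k + 1) where
  Xp := s.Xc
  Xc := (rstep L P s.e s.α _ s.cond).choose
  e := (rstep L P s.e s.α _ s.cond).choose_spec.choose
  α := (rstep L P s.e s.α _ s.cond).choose_spec.choose_spec.choose
  cond := by
    have h := (rstep L P s.e s.α _ s.cond).choose_spec.choose_spec.choose_spec.2
    rw [reassoc_of% h, HomologicalComplex.d_comp_d, comp_zero]

lemma RState.e_next_e {k : ℕ} (s : RState L K k) : s.e ≫ (s.next P).e = 0 :=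
  (rstep L P s.e s.α _ s.cond).choose_spec.choose_spec.choose_spec.1

lemma RState.next_comm {k : ℕ} (s : RState L K k) :
    L.map (s.next P).e ≫ (s.next P).α.hom = s.α.hom ≫ K.d (Int.ofNat k) (Int.ofNat (k + 1)) :=
  (rstep L P s.e s.α _ s.cond).choose_spec.choose_spec.choose_spec.2

variable (L K)

/-- initial state -/
noncomputable def rinit : RState L K 0 :=
  haveI := Localization.essSurj L P.isoModSerre
  { Xp := L.objPreimage (K.X (Int.ofNat 0))
    Xc := L.objPreimage (K.X (Int.ofNat 0))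
    e := 0
    α := L.objObjPreimageIso (K.X (Int.ofNat 0))
    cond := by rw [L.map_zero, zero_comp] }

/-- the right-going sequence of states -/
noncomputable def rs : ∀ k : ℕ, RState L K k
  | 0 => rinit L P K
  | k + 1 => (rs k).next P

/-- objects in degree `k ≥ 0` -/
noncomputable def XR (k : ℕ) : A := (rs L P K k).Xc

/-- differentials in degree `k ≥ 0` -/
noncomputable def dR (k : ℕ) : XR L P K k ⟶ XR L P K (k + 1) := (rs L P K (k + 1)).e

/-- comparison isomorphisms in degree `k ≥ 0` -/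
noncomputable def αR (k : ℕ) : L.obj (XR L P K k) ≅ K.X (Int.ofNat k) := (rs L P K k).α

lemma dR_comp_dR (k : ℕ) : dR L P K k ≫ dR L P K (k + 1) = 0 :=
  (rs L P K (k + 1)).e_next_e P

lemma αR_comm (k : ℕ) :
    L.map (dR L P K k) ≫ (αR L P K (k + 1)).hom =
      (αR L P K k).hom ≫ K.d (Int.ofNat k) (Int.ofNat (k + 1)) :=
  (rs L P K k).next_comm P

/-- state of the left-going construction at degree `-(k+1)` -/
structure LState (k : ℕ) where
  Xc : A
  Xn : A
  e : Xc ⟶ Xn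
  α : L.obj Xc ≅ K.X (Int.negSucc k)
  cond : K.d (Int.negSucc (k + 1)) (Int.negSucc k) ≫ α.inv ≫ L.map e = 0

lemma lcond_aux {Xp Xc : A} {K₀ K₁ K₂ : B} (e' : Xp ⟶ Xc) (α : L.obj Xc ≅ K₁)
    (α' : L.obj Xp ≅ K₀) (δ : K₀ ⟶ K₁) (δ' : K₂ ⟶ K₀) (hδ : δ' ≫ δ = 0)
    (h : L.map e' ≫ α.hom = α'.hom ≫ δ) : δ' ≫ α'.inv ≫ L.map e' = 0 := by
  have h' : α'.inv ≫ L.map e' = δ ≫ α.inv := by
    rw [Iso.inv_comp_eq, ← assoc, Iso.eq_comp_inv, h]
  rw [h', ← assoc, hδ, zero_comp]

variable {L K}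

/-- next state (going left) -/
noncomputable def LState.next {k : ℕ} (s : LState L K k) : LState L K (k + 1) where
  Xc := (lstep L P s.e s.α _ s.cond).choose
  Xn := s.Xc
  e := (lstep L P s.e s.α _ s.cond).choose_spec.choose
  α := (lstep L P s.e s.α _ s.cond).choose_spec.choose_spec.choose
  cond := lcond_aux L P _ s.α _ _ _ (K.d_comp_d _ _ _)
    (lstep L P s.e s.α _ s.cond).choose_spec.choose_spec.choose_spec.2

lemma LState.next_e_e {k : ℕ} (s : LState L K k) : (s.next P).e ≫ s.e = 0 :=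
  (lstep L P s.e s.α _ s.cond).choose_spec.choose_spec.choose_spec.1

lemma LState.next_comm {k : ℕ} (s : LState L K k) :
    L.map (s.next P).e ≫ s.α.hom =
      (s.next P).α.hom ≫ K.d (Int.negSucc (k + 1)) (Int.negSucc k) :=
  (lstep L P s.e s.α _ s.cond).choose_spec.choose_spec.choose_spec.2

variable (L K)

lemma linit_cond :
    K.d (Int.negSucc 0) (Int.ofNat 0) ≫ (αR L P K 0).inv ≫ L.map (dR L P K 0) = 0 := by
  have h' : (αR L P K 0).inv ≫ L.map (dR L P K 0) =
      K.d (Int.ofNat 0) (Int.ofNat 1) ≫ (αR L P K 1).inv := by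
    rw [Iso.inv_comp_eq, ← assoc, Iso.eq_comp_inv, αR_comm]
  rw [h', ← assoc, HomologicalComplex.d_comp_d, zero_comp]

/-- initial state (going left) -/
noncomputable def linit : LState L K 0 where
  Xc := (lstep L P (dR L P K 0) (αR L P K 0) _ (linit_cond L P K)).choose
  Xn := XR L P K 0
  e := (lstep L P (dR L P K 0) (αR L P K 0) _ (linit_cond L P K)).choose_spec.choose
  α := (lstep L P (dR L P K 0) (αR L P K 0) _ (linit_cond L P K)).choose_spec.choose_spec.choose
  cond := lcond_aux L P _ (αR L P K 0) _ _ _ (K.d_comp_d _ _ _)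
    (lstep L P (dR L P K 0) (αR L P K 0) _
      (linit_cond L P K)).choose_spec.choose_spec.choose_spec.2

lemma linit_e_dR : (linit L P K).e ≫ dR L P K 0 = 0 :=
  (lstep L P (dR L P K 0) (αR L P K 0) _ (linit_cond L P K)).choose_spec.choose_spec.choose_spec.1

lemma linit_comm :
    L.map (linit L P K).e ≫ (αR L P K 0).hom =
      (linit L P K).α.hom ≫ K.d (Int.negSucc 0) (Int.ofNat 0) :=
  (lstep L P (dR L P K 0) (αR L P K 0) _ (linit_cond L P K)).choose_spec.choose_spec.choose_spec.2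

/-- the left-going sequence of states -/
noncomputable def ls : ∀ k : ℕ, LState L K k
  | 0 => linit L P K
  | k + 1 => (ls k).next P

/-- objects in degree `-(k+1)` -/
noncomputable def XL (k : ℕ) : A := (ls L P K k).Xc

/-- differentials -/
noncomputable def dL (k : ℕ) : XL L P K (k + 1) ⟶ XL L P K k := (ls L P K (k + 1)).e

/-- junction differential -/
noncomputable def dJ : XL L P K 0 ⟶ XR L P K 0 := (ls L P K 0).e

/-- comparison isomorphisms -/
noncomputable def αL (k : ℕ) : L.obj (XL L P K k) ≅ K.X (Int.negSucc k) := (ls L P K k).α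

lemma dL_comp_dL (k : ℕ) : dL L P K (k + 1) ≫ dL L P K k = 0 :=
  (ls L P K (k + 1)).next_e_e P

lemma dL_comp_dJ : dL L P K 0 ≫ dJ L P K = 0 :=
  (ls L P K 0).next_e_e P

lemma dJ_comp_dR : dJ L P K ≫ dR L P K 0 = 0 := linit_e_dR L P K

lemma αL_comm (k : ℕ) :
    L.map (dL L P K k) ≫ (αL L P K k).hom =
      (αL L P K (k + 1)).hom ≫ K.d (Int.negSucc (k + 1)) (Int.negSucc k) :=
  (ls L P K k).next_comm P

lemma αJ_comm :
    L.map (dJ L P K) ≫ (αR L P K 0).hom =
      (αL L P K 0).hom ≫ K.d (Int.negSucc 0) (Int.ofNat 0) :=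
  linit_comm L P K

/-- glued objects -/
noncomputable def gX : ℤ → A
  | Int.ofNat k => XR L P K k
  | Int.negSucc k => XL L P K k

/-- glued differentials -/
noncomputable def gd : ∀ n : ℤ, gX L P K n ⟶ gX L P K (n + 1)
  | Int.ofNat k => dR L P K k
  | Int.negSucc 0 => dJ L P K
  | Int.negSucc (k + 1) => dL L P K k

lemma gd_sq : ∀ n : ℤ, gd L P K n ≫ gd L P K (n + 1) = 0
  | Int.ofNat k => dR_comp_dR L P K k
  | Int.negSucc 0 => dJ_comp_dR L P K
  | Int.negSucc 1 => dL_comp_dJ L P K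
  | Int.negSucc (k + 2) => dL_comp_dL L P K k

/-- glued comparison isomorphisms -/
noncomputable def gα : ∀ n : ℤ, L.obj (gX L P K n) ≅ K.X n
  | Int.ofNat k => αR L P K k
  | Int.negSucc k => αL L P K k

lemma gα_comm : ∀ n : ℤ,
    (gα L P K n).hom ≫ K.d n (n + 1) = L.map (gd L P K n) ≫ (gα L P K (n + 1)).hom
  | Int.ofNat k => (αR_comm L P K k).symm
  | Int.negSucc 0 => (αJ_comm L P K).symm
  | Int.negSucc (k + 1) => (αL_comm L P K k).symm

/-- the lifted complex -/
noncomputable def lift : CochainComplex A ℤ :=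
  CochainComplex.of (gX L P K) (gd L P K) (gd_sq L P K)

/-- the comparison isomorphism of complexes -/
noncomputable def liftIso :
    (L.mapHomologicalComplex (ComplexShape.up ℤ)).obj (lift L P K) ≅ K :=
  HomologicalComplex.Hom.isoOfComponents (fun n => gα L P K n) (fun i j hij => by
    obtain rfl : i + 1 = j := hij
    have h : (lift L P K).d i (i + 1) = gd L P K i := CochainComplex.of_d _ _ i
    change (gα L P K i).hom ≫ K.d i (i + 1) =
      L.map ((lift L P K).d i (i + 1)) ≫ (gα L P K (i + 1)).hom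
    rw [h]
    exact gα_comm L P K i)

theorem exists_lift : ∃ (K' : CochainComplex A ℤ),
    Nonempty ((L.mapHomologicalComplex (ComplexShape.up ℤ)).obj K' ≅ K) :=
  ⟨lift L P K, ⟨liftIso L P K⟩⟩

open DerivedCategory in
theorem essSurj [HasDerivedCategory.{w} A] [HasDerivedCategory.{w'} B]
    [PreservesFiniteLimits L] [PreservesFiniteColimits L] :
    L.mapDerivedCategory.EssSurj where
  mem_essImage Z := by
    obtain ⟨K', ⟨e⟩⟩ := exists_lift L P (Q.objPreimage Z)
    exact ⟨Q.obj K', ⟨L.mapDerivedCategoryFactors.app K' ≪≫ Q.mapIso e ≪≫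
      Q.objObjPreimageIso Z⟩⟩

end Groth.Agent.Lib.Helper8.ZigZag
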